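import Mathlib.CategoryTheory.Monoidal.Tor
import Mathlib.RingTheory.Flat.CategoryTheory
import Mathlib.Algebra.Homology.HomologySequence
import Mathlib.Algebra.Homology.HomologicalComplexAbelian
import Mathlib.Algebra.Category.ModuleCat.Projective
import Mathlib.CategoryTheory.Abelian.Projective.Resolution
import Mathlib.Algebra.Category.ModuleCat.Monoidal.Basic

/-! Long exact sequence of `Tor` in the first variable for modules (vanishing consequences). -/

set_option autoImplicit false
universe u

open CategoryTheory MonoidalCategory Limits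

namespace Groth.Agent.Lib.Helper4

variable {R : Type u} [CommRing R]

/-- The short complex of chain complexes `X₁ ⊗ Q → X₂ ⊗ Q → X₃ ⊗ Q`. -/
noncomputable def tensorSC (T : ShortComplex (ModuleCat.{u} R))
    (Q : ChainComplex (ModuleCat.{u} R) ℕ) : ShortComplex (ChainComplex (ModuleCat.{u} R) ℕ) :=
  ShortComplex.mk
    ((NatTrans.mapHomologicalComplex ((tensoringLeft (ModuleCat.{u} R)).map T.f)
      (ComplexShape.down ℕ)).app Q)
    ((NatTrans.mapHomologicalComplex ((tensoringLeft (ModuleCat.{u} R)).map T.g)
      (ComplexShape.down ℕ)).app Q)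
    (by
      ext n : 1
      simp only [HomologicalComplex.comp_f, NatTrans.mapHomologicalComplex_app_f,
        HomologicalComplex.zero_f]
      change T.f ▷ Q.X n ≫ T.g ▷ Q.X n = 0
      rw [← MonoidalCategory.comp_whiskerRight, T.zero, MonoidalPreadditive.zero_whiskerRight])

theorem tensorSC_shortExact (T : ShortComplex (ModuleCat.{u} R)) (hT : T.ShortExact)
    (Q : ChainComplex (ModuleCat.{u} R) ℕ) (hQ : ∀ n, Projective (Q.X n)) :
    (tensorSC T Q).ShortExact := by
  apply HomologicalComplex.shortExact_of_degreewise_shortExact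
  intro n
  have := hQ n
  have h1 : Module.Projective R (Q.X n) := ModuleCat.projective_of_module_projective _
  have h2 : Module.Flat R (Q.X n) := inferInstance
  have h3 : PreservesFiniteColimits (tensorRight (Q.X n)) :=
    preservesFiniteColimits_of_natIso (BraidedCategory.tensorLeftIsoTensorRight (Q.X n))
  exact hT.map_of_exact (tensorRight (Q.X n))

/-- `Tor_i(X, S)` as the homology of `X ⊗ Q` for the chosen projective resolution `Q` of `S`. -/
noncomputable def torIsoHomology (X S : ModuleCat.{u} R) (i : ℕ) :
    ((Tor (ModuleCat.{u} R) i).obj X).obj S ≅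
      (((tensorLeft X).mapHomologicalComplex (ComplexShape.down ℕ)).obj
        (projectiveResolution S).complex).homology i :=
  (projectiveResolution S).isoLeftDerivedObj (tensorLeft X) i

theorem isZero_tor_X₂ (T : ShortComplex (ModuleCat.{u} R)) (hT : T.ShortExact)
    (S : ModuleCat.{u} R) (i : ℕ)
    (h1 : IsZero (((Tor (ModuleCat.{u} R) i).obj T.X₁).obj S))
    (h3 : IsZero (((Tor (ModuleCat.{u} R) i).obj T.X₃).obj S)) :
    IsZero (((Tor (ModuleCat.{u} R) i).obj T.X₂).obj S) := by
  have hS := tensorSC_shortExact T hT (projectiveResolution S).complex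
    (fun n => (projectiveResolution S).projective n)
  have hex := hS.homology_exact₂ i
  have h1' : IsZero ((tensorSC T (projectiveResolution S).complex).X₁.homology i) :=
    h1.of_iso (torIsoHomology T.X₁ S i).symm
  have h3' : IsZero ((tensorSC T (projectiveResolution S).complex).X₃.homology i) :=
    h3.of_iso (torIsoHomology T.X₃ S i).symm
  have h2' : IsZero ((tensorSC T (projectiveResolution S).complex).X₂.homology i) :=
    hex.isZero_X₂ (h1'.eq_of_src _ _) (h3'.eq_of_tgt _ _)
  exact h2'.of_iso (torIsoHomology T.X₂ S i)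

theorem isZero_tor_X₁ (T : ShortComplex (ModuleCat.{u} R)) (hT : T.ShortExact)
    (S : ModuleCat.{u} R) (i : ℕ)
    (h3 : IsZero (((Tor (ModuleCat.{u} R) (i + 1)).obj T.X₃).obj S))
    (h2 : IsZero (((Tor (ModuleCat.{u} R) i).obj T.X₂).obj S)) :
    IsZero (((Tor (ModuleCat.{u} R) i).obj T.X₁).obj S) := by
  have hS := tensorSC_shortExact T hT (projectiveResolution S).complex
    (fun n => (projectiveResolution S).projective n)
  have hex := hS.homology_exact₁ (i + 1) i (by simp)
  have h3' : IsZero ((tensorSC T (projectiveResolution S).complex).X₃.homology (i + 1)) :=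
    h3.of_iso (torIsoHomology T.X₃ S (i + 1)).symm
  have h2' : IsZero ((tensorSC T (projectiveResolution S).complex).X₂.homology i) :=
    h2.of_iso (torIsoHomology T.X₂ S i).symm
  have h1' : IsZero ((tensorSC T (projectiveResolution S).complex).X₁.homology i) :=
    hex.isZero_X₂ (h3'.eq_of_src _ _) (h2'.eq_of_tgt _ _)
  exact h1'.of_iso (torIsoHomology T.X₁ S i)

theorem isZero_tor_of_flat (X S : ModuleCat.{u} R) [Module.Flat R X] (i : ℕ) (hi : 0 < i) :
    IsZero (((Tor (ModuleCat.{u} R) i).obj X).obj S) := by
  obtain ⟨n, rfl⟩ : ∃ n, i = n + 1 := ⟨i - 1, by omega⟩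
  refine IsZero.of_iso ?_ (torIsoHomology X S (n + 1))
  erw [← HomologicalComplex.exactAt_iff_isZero_homology]
  have h := (projectiveResolution S).complex_exactAt_succ n
  exact ShortComplex.Exact.map h (tensorLeft X)

end Groth.Agent.Lib.Helper4
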