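import Groth.Agent.Lib.Helper4.GlobalDim
import Groth.Agent.Lib.Helper21.RegularLocal

/-! Serre: a regular local ring of dimension `d` has global dimension `≤ d`. -/

set_option autoImplicit false
universe u

open CategoryTheory Abelian IsLocalRing

namespace Groth.Agent.Lib.Helper4

/-- The residue field of a regular local ring of dimension `d` has projective dimension `d`. -/
theorem projectiveDimension_residueField_of_isRegularLocalRing (R : Type u) [CommRing R]
    [IsRegularLocalRing R] (d : ℕ) (hd : ringKrullDim R = d) :
    projectiveDimension (ModuleCat.of R (ResidueField R)) = d := by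
  classical
  have hsf : ((maximalIdeal R).spanFinrank : WithBot ℕ∞) = ringKrullDim R :=
    IsRegularLocalRing.spanFinrank_maximalIdeal
  rw [hd] at hsf
  have hsf' : (maximalIdeal R).spanFinrank = d := by exact_mod_cast hsf
  obtain ⟨s, hscard, hsspan⟩ := Submodule.FG.exists_span_finset_card_eq_spanFinrank
    (maximalIdeal R).fg_of_isNoetherianRing
  have hcard : s.card = d := hscard.trans hsf'
  let e : s ≃ Fin d := s.equivFinOfCardEq hcard
  let x : Fin d → R := fun i => ((e.symm i : s) : R)
  have hrange : Set.range x = (s : Set R) := by
    ext r
    constructor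
    · rintro ⟨i, rfl⟩
      exact (e.symm i).2
    · intro hr
      exact ⟨e ⟨r, hr⟩, by simp [x]⟩
  have hx : Ideal.span (Set.range x) = maximalIdeal R := by
    rw [hrange]
    exact hsspan
  have hreg : RingTheory.Sequence.IsRegular R (List.ofFn x) :=
    Groth.Agent.Lib.Helper21.isRegular_ofFn_of_span_eq_maximalIdeal d R hd x hx
  have hofList : Ideal.ofList (List.ofFn x) = maximalIdeal R := by
    rw [← hx, Ideal.ofList]
    congr 1
    ext r
    simp [List.mem_ofFn]
  have hpd := ModuleCat.projectiveDimension_quotient_eq_length.{u} (List.ofFn x) hreg
  rw [List.length_ofFn] at hpd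
  rw [← hpd]
  apply projectiveDimension_eq_of_iso
  exact ((Submodule.quotEquivOfEq _ _ hofList.symm).trans
    (Shrink.linearEquiv R (R ⧸ Ideal.ofList (List.ofFn x))).symm).toModuleIso

/-- Serre: every module over a regular local ring of dimension `d` has projective
dimension `≤ d`, finite case. -/
theorem hasProjectiveDimensionLT_of_isRegularLocalRing_of_finite (R : Type u) [CommRing R]
    [IsRegularLocalRing R] (d : ℕ) (hd : ringKrullDim R = d) (M : Type u) [AddCommGroup M]
    [Module R M] [Module.Finite R M] : HasProjectiveDimensionLT (ModuleCat.of R M) (d + 1) := by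
  have hk : HasProjectiveDimensionLT (ModuleCat.of R (ResidueField R)) (d + 1) := by
    rw [← projectiveDimension_lt_iff, projectiveDimension_residueField_of_isRegularLocalRing R d hd]
    exact_mod_cast Nat.lt_succ_self d
  exact hasProjectiveDimensionLT_of_residueField_of_finite d hk M

end Groth.Agent.Lib.Helper4
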