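import Mathlib

/-!
# Directed colimits of algebras: units, local rings, flatness
-/

set_option autoImplicit false

namespace Groth.Agent.Lib.Helper4.Hzn

open IsLocalRing

section

variable {R : Type*} [CommRing R] {ι : Type*} [Preorder ι] [IsDirectedOrder ι] [Nonempty ι]
  {G : ι → Type*} [∀ i, CommRing (G i)] [∀ i, Algebra R (G i)]
  (f : ∀ i j, i ≤ j → G i →ₐ[R] G j) [DirectedSystem G (f · · ·)]

local notation "L" => DirectLimit G f

omit [Nonempty ι] in
theorem mk_eq_mk_iff {i j : ι} (x : G i) (y : G j) :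
    (⟦⟨i, x⟩⟧ : L) = ⟦⟨j, y⟩⟧ ↔ ∃ k, ∃ (hik : i ≤ k) (hjk : j ≤ k), f i k hik x = f j k hjk y :=
  Quotient.eq

theorem mk_eq_zero_iff {i : ι} (x : G i) :
    (⟦⟨i, x⟩⟧ : L) = 0 ↔ ∃ k, ∃ (hik : i ≤ k), f i k hik x = 0 :=
  DirectLimit.exists_eq_zero (f := f) ⟨i, x⟩

theorem mk_eq_one_iff {i : ι} (x : G i) :
    (⟦⟨i, x⟩⟧ : L) = 1 ↔ ∃ k, ∃ (hik : i ≤ k), f i k hik x = 1 :=
  DirectLimit.exists_eq_one (f := f) ⟨i, x⟩

theorem of_apply (i : ι) (x : G i) : DirectLimit.Algebra.of G f i x = (⟦⟨i, x⟩⟧ : L) := rfl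

theorem of_f' {i j : ι} (h : i ≤ j) (x : G i) :
    DirectLimit.Algebra.of G f j (f i j h x) = DirectLimit.Algebra.of G f i x :=
  DirectLimit.Algebra.of_f h x

/-- Finitely many elements of a directed colimit come from a common stage. -/
theorem exists_of_finite {κ : Type*} [Finite κ] (x : κ → L) :
    ∃ (i : ι) (y : κ → G i), ∀ m, x m = DirectLimit.Algebra.of G f i (y m) := by
  choose i₀ y₀ hy₀ using fun m => DirectLimit.exists_eq_mk f (x m)
  obtain ⟨i, hi⟩ := Finite.exists_le i₀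
  refine ⟨i, fun m => f (i₀ m) i (hi m) (y₀ m), fun m => ?_⟩
  rw [of_f', hy₀ m]
  rfl

theorem isUnit_of_iff {i : ι} (a : G i) :
    IsUnit (DirectLimit.Algebra.of G f i a) ↔ ∃ j, ∃ (h : i ≤ j), IsUnit (f i j h a) := by
  constructor
  · intro hu
    obtain ⟨y, hy⟩ := hu.exists_right_inv
    obtain ⟨j, b, rfl⟩ := DirectLimit.exists_eq_mk f y
    obtain ⟨k, hik, hjk⟩ := exists_ge_ge i j
    have h1 : DirectLimit.Algebra.of G f k (f i k hik a * f j k hjk b) = 1 := by
      rw [map_mul, of_f', of_f']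
      exact hy
    rw [of_apply, mk_eq_one_iff] at h1
    obtain ⟨l, hkl, hl⟩ := h1
    refine ⟨l, hik.trans hkl, ?_⟩
    rw [map_mul, DirectedSystem.map_map' (f := f), DirectedSystem.map_map' (f := f)] at hl
    exact IsUnit.of_mul_eq_one _ hl
  · rintro ⟨j, h, hu⟩
    rw [← of_f' f h]
    exact hu.map _

theorem isLocalRing_directLimit [∀ i, IsLocalRing (G i)] : IsLocalRing L := by
  refine IsLocalRing.of_isUnit_or_isUnit_one_sub_self fun x => ?_
  obtain ⟨i, a, rfl⟩ := DirectLimit.exists_eq_mk f x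
  rcases IsLocalRing.isUnit_or_isUnit_one_sub_self a with h | h
  · exact Or.inl (h.map (DirectLimit.Algebra.of G f i))
  · right
    have := h.map (DirectLimit.Algebra.of G f i)
    rwa [map_sub, map_one] at this

theorem isLocalHom_of [∀ i, IsLocalRing (G i)] (hloc : ∀ i j h, IsLocalHom (f i j h)) (i : ι) :
    IsLocalHom (DirectLimit.Algebra.of G f i) := by
  constructor
  intro a ha
  obtain ⟨j, h, hu⟩ := (isUnit_of_iff f a).mp ha
  have := hloc i j h
  exact isUnit_of_map_unit (f i j h) a hu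

theorem flat_directLimit [∀ i, Module.Flat R (G i)] : Module.Flat R L := by
  refine Module.Flat.of_forall_isTrivialRelation fun {l} {c} {x} hx => ?_
  obtain ⟨i, y, hy⟩ := exists_of_finite f x
  have h1 : DirectLimit.Algebra.of G f i (∑ m, c m • y m) = 0 := by
    rw [map_sum, ← hx]
    refine Finset.sum_congr rfl fun m _ => ?_
    rw [map_smul, hy m]
  rw [of_apply, mk_eq_zero_iff] at h1
  obtain ⟨j, hij, hj⟩ := h1
  rw [map_sum] at hj
  have hj' : ∑ m, c m • f i j hij (y m) = 0 := by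
    rw [← hj]
    refine Finset.sum_congr rfl fun m _ => ?_
    rw [map_smul]
  obtain ⟨k, a, z, hz, ha⟩ := Module.Flat.isTrivialRelation_of_sum_smul_eq_zero (R := R) (M := G j) hj'
  refine ⟨k, a, fun n => DirectLimit.Algebra.of G f j (z n), fun m => ?_, ha⟩
  have hzm : f i j hij (y m) = ∑ n, a m n • z n := hz m
  rw [hy m, ← of_f' f hij, hzm, map_sum]
  refine Finset.sum_congr rfl fun n _ => ?_
  rw [map_smul]

end

end Groth.Agent.Lib.Helper4.Hzn
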