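import Mathlib

/-!
# Gabber's rank-one idempotent lifting for henselian pairs

For a henselian pair `(A, I)` (Mathlib's `HenselianRing A I`) and a module-finite `A`-algebra `U`,
an element `b` which is idempotent modulo `IU` and "cuts out a cyclic piece" modulo `IU`
lifts to an honest idempotent `e` with `eU = Ae`.
-/

set_option autoImplicit false
universe u v

namespace Groth.Agent.Lib.Helper4.HenselPair

open Polynomial

/-- If all coefficients of `Q` lie in `I`, then `aeval b Q ∈ IU`. -/
theorem aeval_mem_map_of_map_eq_zero {A : Type u} {U : Type v} [CommRing A] [CommRing U] [Algebra A U]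
    (I : Ideal A) (b : U) (Q : A[X]) (hQ : Q.map (Ideal.Quotient.mk I) = 0) :
    aeval b Q ∈ I.map (algebraMap A U) := by
  rw [Polynomial.aeval_eq_sum_range]
  refine Ideal.sum_mem _ fun i _ => ?_
  have hi : Q.coeff i ∈ I := by
    have := congrArg (fun p => p.coeff i) hQ
    simpa [Polynomial.coeff_map, Ideal.Quotient.eq_zero_iff_mem] using this
  rw [Algebra.smul_def]
  exact Ideal.mul_mem_right _ _ (Ideal.mem_map_of_mem _ hi)

/-- Cayley–Hamilton with a rank-one reduction: the polynomial is `(X - 1) X^(n+1)` modulo `I`. -/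
theorem exists_monic_aeval_eq_zero_map_eq {A : Type u} {U : Type v} [CommRing A] [CommRing U]
    [Algebra A U] [Module.Finite A U] (I : Ideal A) (b : U)
    (h1 : b * b - b ∈ I.map (algebraMap A U))
    (h2 : ∀ u : U, ∃ c : A, b * u - c • b ∈ I.map (algebraMap A U)) :
    ∃ (n : ℕ) (P : A[X]), P.Monic ∧ aeval b P = 0 ∧
      P.map (Ideal.Quotient.mk I) = (X - 1) * X ^ (n + 1) := by
  classical
  obtain ⟨n, s, hs⟩ := Module.Finite.exists_fin (R := A) (M := U)
  let g : Fin (n + 2) → U := Fin.cons b (Fin.cons 1 s)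
  have hg : Submodule.span A (Set.range g) = ⊤ := by
    rw [eq_top_iff, ← hs]
    refine Submodule.span_mono ?_
    rintro _ ⟨i, rfl⟩
    exact ⟨i.succ.succ, by simp [g]⟩
  have hIU : ∀ x : U, x ∈ I.map (algebraMap A U) ↔ x ∈ I • (⊤ : Submodule A U) := by
    intro x
    rw [Ideal.smul_top_eq_map]
    rfl
  have h2' : ∀ j : Fin (n + 2), ∃ c : A, (j = 0 → c = 1) ∧
      ∃ (a : Fin (n + 2) →₀ A), (∀ i, a i ∈ I) ∧ (a.sum fun i c => c • g i) = b * g j - c • b := by
    intro j
    by_cases hj : j = 0
    · subst hj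
      refine ⟨1, fun _ => rfl, ?_⟩
      have hmem : b * g 0 - (1 : A) • b ∈ I • Submodule.span A (Set.range g) := by
        rw [hg, ← hIU]
        simpa [g] using h1
      obtain ⟨a, ha, hsum⟩ := (Submodule.mem_ideal_smul_span_iff_exists_sum I g _).mp hmem
      exact ⟨a, ha, hsum⟩
    · obtain ⟨c, hc⟩ := h2 (g j)
      refine ⟨c, fun h => absurd h hj, ?_⟩
      have hmem : b * g j - c • b ∈ I • Submodule.span A (Set.range g) := by
        rw [hg, ← hIU]
        exact hc
      obtain ⟨a, ha, hsum⟩ := (Submodule.mem_ideal_smul_span_iff_exists_sum I g _).mp hmem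
      exact ⟨a, ha, hsum⟩
  choose c hc0 a haI hasum using h2'
  let Φ : Matrix (Fin (n + 2)) (Fin (n + 2)) A :=
    Matrix.of fun i j => a j i + (if i = 0 then c j else 0)
  have hrep : Φ.Represents g (LinearMap.mulLeft A b) := by
    rw [Matrix.represents_iff']
    intro j
    have h3 : ∑ i, Φ i j • g i = (∑ i, a j i • g i) + c j • g 0 := by
      simp only [Φ, Matrix.of_apply, add_smul, Finset.sum_add_distrib]
      congr 1
      rw [Finset.sum_eq_single 0]
      · simp
      · intro i _ hi
        simp [hi]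
      · simp
    rw [h3]
    have h4 : (∑ i, a j i • g i) = b * g j - c j • b := by
      rw [← hasum j, Finsupp.sum_fintype]
      intro i
      simp
    rw [h4]
    simp [g]
  refine ⟨n, Φ.charpoly, Φ.charpoly_monic, ?_, ?_⟩
  · -- Cayley–Hamilton
    have hA : Φ ∈ Matrix.isRepresentation A g := ⟨_, hrep⟩
    have h5 : Matrix.isRepresentation.toEnd A g hg ⟨Φ, hA⟩ = LinearMap.mulLeft A b :=
      Matrix.isRepresentation.eq_toEnd_of_represents A g hg ⟨Φ, hA⟩ hrep
    have h6 : aeval (LinearMap.mulLeft A b) Φ.charpoly = 0 := by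
      rw [← h5, Polynomial.aeval_algHom_apply,
        ← map_zero (Matrix.isRepresentation.toEnd A g hg)]
      congr 1
      ext1
      rw [Polynomial.aeval_subalgebra_coe, Subalgebra.coe_zero]
      exact Matrix.aeval_self_charpoly Φ
    have h7 : aeval (LinearMap.mulLeft A b) Φ.charpoly = LinearMap.mulLeft A (aeval b Φ.charpoly) := by
      exact Polynomial.aeval_algHom_apply (Algebra.lmul A U) b Φ.charpoly
    have h8 := congrArg (fun f : Module.End A U => f 1) (h7.symm.trans h6)
    simpa using h8
  · rw [← Matrix.charpoly_map]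
    have hΦ : ∀ i j, (Φ.map (Ideal.Quotient.mk I)) i j =
        if i = 0 then Ideal.Quotient.mk I (c j) else 0 := by
      intro i j
      have : Ideal.Quotient.mk I (a j i) = 0 := Ideal.Quotient.eq_zero_iff_mem.mpr (haI j i)
      simp only [Φ, Matrix.map_apply, Matrix.of_apply, map_add, this, zero_add]
      split_ifs <;> simp
    rw [Matrix.charpoly, Matrix.det_of_isUpperTriangular]
    · rw [Fin.prod_univ_succ]
      have h00 : (Φ.map (Ideal.Quotient.mk I)).charmatrix 0 0 = X - 1 := by
        rw [Matrix.charmatrix_apply_eq, hΦ, if_pos rfl, hc0 0 rfl]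
        simp
      have hii : ∀ i : Fin (n + 1), (Φ.map (Ideal.Quotient.mk I)).charmatrix i.succ i.succ = X := by
        intro i
        rw [Matrix.charmatrix_apply_eq, hΦ, if_neg (Fin.succ_ne_zero i)]
        simp
      rw [h00]
      simp only [hii, Finset.prod_const, Finset.card_univ, Fintype.card_fin]
    · intro i j hij
      have hi0 : i ≠ 0 := by
        rintro rfl
        exact absurd hij (by simp)
      have hne : i ≠ j := ne_of_gt hij
      rw [Matrix.charmatrix_apply_ne _ _ _ hne, hΦ, if_neg hi0]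
      simp

/-- **Gabber's rank-one lifting lemma.** Over a henselian pair `(A, I)`, in a module-finite
`A`-algebra `U`, an element `b` idempotent modulo `IU` with `bU ⊆ Ab + IU` lifts to an idempotent
`e` with `eU = Ae`. -/
theorem exists_idempotent_lift_of_cyclic {A : Type u} {U : Type v} [CommRing A] [CommRing U]
    [Algebra A U] [Module.Finite A U] (I : Ideal A) [HenselianRing A I] (b : U)
    (h1 : b * b - b ∈ I.map (algebraMap A U))
    (h2 : ∀ u : U, ∃ c : A, b * u - c • b ∈ I.map (algebraMap A U)) :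
    ∃ e : U, IsIdempotentElem e ∧ e - b ∈ I.map (algebraMap A U) ∧
      ∀ u : U, ∃ a : A, e * u = a • e := by
  classical
  obtain ⟨n, P, hPm, hPb, hPmap⟩ := exists_monic_aeval_eq_zero_map_eq I b h1 h2
  set J := I.map (algebraMap A U) with hJ
  -- root lifting
  have hev1 : P.eval 1 ∈ I := by
    rw [← Ideal.Quotient.eq_zero_iff_mem]
    have : (P.map (Ideal.Quotient.mk I)).eval (Ideal.Quotient.mk I 1) = Ideal.Quotient.mk I (P.eval 1) :=
      Polynomial.eval_map_apply _ _
    rw [← this, hPmap]
    simp
  have hder : IsUnit (Ideal.Quotient.mk I (P.derivative.eval 1)) := by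
    have : (P.map (Ideal.Quotient.mk I)).derivative.eval (Ideal.Quotient.mk I 1) =
        Ideal.Quotient.mk I (P.derivative.eval 1) := by
      rw [Polynomial.derivative_map]
      exact Polynomial.eval_map_apply _ _
    rw [← this, hPmap]
    simp [Polynomial.derivative_mul, Polynomial.derivative_pow]
  obtain ⟨α, hα, hα1⟩ := HenselianRing.is_henselian P hPm 1 hev1 hder
  have hαmk : Ideal.Quotient.mk I α = 1 := by
    rw [← sub_eq_zero, ← map_one (Ideal.Quotient.mk I), ← map_sub]
    exact Ideal.Quotient.eq_zero_iff_mem.mpr hα1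
  obtain ⟨P₁, hP₁⟩ : ∃ P₁, (X - C α) * P₁ = P := ⟨_, Polynomial.mul_divByMonic_eq_iff_isRoot.mpr hα⟩
  have hP₁map : P₁.map (Ideal.Quotient.mk I) = X ^ (n + 1) := by
    have h3 : (X - 1 : (A ⧸ I)[X]) * P₁.map (Ideal.Quotient.mk I) = (X - 1) * X ^ (n + 1) := by
      rw [← hPmap, ← hP₁, Polynomial.map_mul, Polynomial.map_sub, Polynomial.map_X,
        Polynomial.map_C, hαmk, Polynomial.C_1]
    have hreg : IsRegular (X - 1 : (A ⧸ I)[X]) := by
      have := (Polynomial.monic_X_sub_C (1 : A ⧸ I)).isRegular
      simpa using this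
    exact hreg.left h3
  set v := P₁.eval α with hv
  have hv1 : v - 1 ∈ I := by
    rw [← Ideal.Quotient.eq_zero_iff_mem, map_sub, map_one, sub_eq_zero, hv,
      ← Polynomial.eval_map_apply, hP₁map, hαmk]
    simp
  have hvu : IsUnit v := by
    have := (Ideal.mem_jacobson_bot.mp (HenselianRing.jac hv1)) 1
    simpa using this
  obtain ⟨w, hw⟩ := hvu
  set y := aeval b P₁ with hy
  have hby : (b - algebraMap A U α) * y = 0 := by
    rw [hy, ← hPb, ← hP₁, map_mul, map_sub, Polynomial.aeval_X, Polynomial.aeval_C]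
  have hQy : ∀ Q : A[X], aeval b Q * y = Q.eval α • y := by
    intro Q
    obtain ⟨R, hR⟩ := Polynomial.X_sub_C_dvd_sub_C_eval (a := α) (p := Q)
    have h4 : aeval b Q - algebraMap A U (Q.eval α) = (b - algebraMap A U α) * aeval b R := by
      have := congrArg (aeval b) hR
      simpa using this
    have h5 : (aeval b Q - algebraMap A U (Q.eval α)) * y = 0 := by
      rw [h4, mul_right_comm, hby, zero_mul]
    rw [sub_mul, sub_eq_zero] at h5
    rw [h5, Algebra.smul_def]
  have hyy : y * y = v • y := hQy P₁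
  have hwinv : (↑w⁻¹ : A) * v = 1 := by rw [← hw]; exact Units.inv_mul w
  refine ⟨(↑w⁻¹ : A) • y, ?_, ?_, ?_⟩
  · change (↑w⁻¹ : A) • y * ((↑w⁻¹ : A) • y) = (↑w⁻¹ : A) • y
    rw [smul_mul_smul_comm, hyy, smul_smul, mul_assoc, hwinv, mul_one]
  · -- e - b ∈ J
    have hw1 : (↑w⁻¹ : A) - 1 ∈ I := by
      have : (↑w⁻¹ : A) - 1 = -(↑w⁻¹ : A) * (v - 1) := by
        have := hwinv
        linear_combination this
      rw [this]
      exact I.mul_mem_left _ hv1
    have e1 : ((↑w⁻¹ : A) - 1) • y ∈ J := by
      rw [Algebra.smul_def]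
      exact Ideal.mul_mem_right _ _ (Ideal.mem_map_of_mem _ hw1)
    have e2 : y - b ^ (n + 1) ∈ J := by
      have h6 : (P₁ - X ^ (n + 1)).map (Ideal.Quotient.mk I) = 0 := by
        rw [Polynomial.map_sub, hP₁map, Polynomial.map_pow, Polynomial.map_X, sub_self]
      have := aeval_mem_map_of_map_eq_zero I b _ h6
      simpa using this
    have e3 : b ^ (n + 1) - b ∈ J := by
      rw [← Ideal.Quotient.eq_zero_iff_mem, map_sub, sub_eq_zero, map_pow]
      have hid : IsIdempotentElem (Ideal.Quotient.mk J b) := by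
        change _ * _ = _
        rw [← map_mul, ← sub_eq_zero, ← map_sub]
        exact Ideal.Quotient.eq_zero_iff_mem.mpr h1
      exact hid.pow_succ_eq n
    have : (↑w⁻¹ : A) • y - b = ((↑w⁻¹ : A) - 1) • y + (y - b ^ (n + 1)) + (b ^ (n + 1) - b) := by
      rw [sub_smul, one_smul]
      ring
    rw [this]
    exact J.add_mem (J.add_mem e1 e2) e3
  · -- cyclicity by Nakayama
    have hidem : (↑w⁻¹ : A) • y * ((↑w⁻¹ : A) • y) = (↑w⁻¹ : A) • y := by
      rw [smul_mul_smul_comm, hyy, smul_smul, mul_assoc, hwinv, mul_one]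
    have heb : (↑w⁻¹ : A) • y - b ∈ J := by
      have hw1 : (↑w⁻¹ : A) - 1 ∈ I := by
        have : (↑w⁻¹ : A) - 1 = -(↑w⁻¹ : A) * (v - 1) := by
          have := hwinv
          linear_combination this
        rw [this]
        exact I.mul_mem_left _ hv1
      have e1 : ((↑w⁻¹ : A) - 1) • y ∈ J := by
        rw [Algebra.smul_def]
        exact Ideal.mul_mem_right _ _ (Ideal.mem_map_of_mem _ hw1)
      have e2 : y - b ^ (n + 1) ∈ J := by
        have h6 : (P₁ - X ^ (n + 1)).map (Ideal.Quotient.mk I) = 0 := by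
          rw [Polynomial.map_sub, hP₁map, Polynomial.map_pow, Polynomial.map_X, sub_self]
        have := aeval_mem_map_of_map_eq_zero I b _ h6
        simpa using this
      have e3 : b ^ (n + 1) - b ∈ J := by
        rw [← Ideal.Quotient.eq_zero_iff_mem, map_sub, sub_eq_zero, map_pow]
        have hid : IsIdempotentElem (Ideal.Quotient.mk J b) := by
          change _ * _ = _
          rw [← map_mul, ← sub_eq_zero, ← map_sub]
          exact Ideal.Quotient.eq_zero_iff_mem.mpr h1
        exact hid.pow_succ_eq n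
      have : (↑w⁻¹ : A) • y - b = ((↑w⁻¹ : A) - 1) • y + (y - b ^ (n + 1)) + (b ^ (n + 1) - b) := by
        rw [sub_smul, one_smul]
        ring
      rw [this]
      exact J.add_mem (J.add_mem e1 e2) e3
    set e := (↑w⁻¹ : A) • y with he
    let N : Submodule A U := LinearMap.range (LinearMap.mulLeft A e)
    let N₀ : Submodule A U := Submodule.span A {e}
    have hNfg : N.FG := by
      have : N = (⊤ : Submodule A U).map (LinearMap.mulLeft A e) := by
        rw [Submodule.map_top]
      rw [this]
      exact Submodule.FG.map _ Module.Finite.fg_top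
    have hIN : ∀ x ∈ J, e * x ∈ I • N := by
      intro x hx
      have hx' : x ∈ I • (⊤ : Submodule A U) := by
        rw [Ideal.smul_top_eq_map]
        exact hx
      have h7 : (LinearMap.mulLeft A e) x ∈ (I • (⊤ : Submodule A U)).map (LinearMap.mulLeft A e) :=
        Submodule.mem_map_of_mem hx'
      rw [Submodule.map_smul'', Submodule.map_top] at h7
      exact h7
    have hle : N ≤ N₀ ⊔ I • N := by
      rintro _ ⟨u, rfl⟩
      obtain ⟨c, hc⟩ := h2 u
      have h8 : e * u - c • e ∈ J := by
        have : e * u - c • e = (e - b) * u - c • (e - b) + (b * u - c • b) := by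
          rw [smul_sub]
          ring
        rw [this]
        refine J.add_mem (J.sub_mem (J.mul_mem_right _ heb) ?_) hc
        rw [Algebra.smul_def]
        exact J.mul_mem_left _ heb
      have h9 : e * (e * u - c • e) = e * u - c • e := by
        rw [mul_sub, ← mul_assoc, hidem, mul_smul_comm, hidem]
      have h10 : e * u = c • e + e * (e * u - c • e) := by
        rw [h9]
        ring
      change e * u ∈ _
      rw [h10]
      exact Submodule.add_mem _
        (Submodule.mem_sup_left (Submodule.smul_mem _ _ (Submodule.mem_span_singleton_self e)))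
        (Submodule.mem_sup_right (hIN _ h8))
    have hNN₀ : N ≤ N₀ :=
      Submodule.le_of_le_smul_of_le_jacobson_bot hNfg (HenselianRing.jac (I := I)) hle
    intro u
    have : e * u ∈ N₀ := hNN₀ ⟨u, rfl⟩
    obtain ⟨a, ha⟩ := Submodule.mem_span_singleton.mp this
    exact ⟨a, ha.symm⟩

end Groth.Agent.Lib.Helper4.HenselPair
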