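import Mathlib

/-!
# Auxiliary lemmas for étale lifting over henselian pairs:
a global form of Zariski's main theorem near a closed set, the "diagonal idempotent" of an
unramified algebra with a section modulo `I`, and injectivity of étale surjections.
-/

set_option autoImplicit false
universe u v

namespace Groth.Agent.Lib.Helper4.HenselPair

/-- Global Zariski main theorem near the closed set `V(𝔟)`: a module-finite subalgebra `S'` and
finitely many `r ∈ S'` covering `V(𝔟)` such that every element of `S` lands in `S'` after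
multiplication by a power of `r`. -/
theorem exists_finite_subalgebra_cover {R : Type u} {S : Type v} [CommRing R] [CommRing S]
    [Algebra R S] [Algebra.FiniteType R S] [Algebra.QuasiFinite R S] (𝔟 : Ideal S) :
    ∃ S' : Subalgebra R S, S'.toSubmodule.FG ∧ ∃ t : Finset S, (∀ r ∈ t, r ∈ S') ∧
      Ideal.span (t : Set S) ⊔ 𝔟 = ⊤ ∧ ∀ r ∈ t, ∀ x : S, ∃ N : ℕ, r ^ N * x ∈ S' := by
  classical
  have key : ∀ q : {q : Ideal S // q.IsPrime}, ∃ (S' : Subalgebra R S), S'.toSubmodule.FG ∧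
      ∃ r : S, r ∈ S' ∧ r ∉ q.1 ∧ ∀ x : S, ∃ N : ℕ, r ^ N * x ∈ S' := by
    rintro ⟨q, hq⟩
    obtain ⟨S', hS', r, hrq, hbij⟩ :=
      Algebra.QuasiFiniteAt.exists_fg_and_exists_notMem_and_awayMap_bijective (R := R) q
    refine ⟨S', hS', r.1, r.2, hrq, fun x => ?_⟩
    obtain ⟨y, m, hy⟩ := Localization.awayMap_surjective_iff.mp hbij.2 x
    exact ⟨m, by
      have : (y : S) = (r : S) ^ m * x := hy
      rw [← this]
      exact y.2⟩
  choose S' hS' r hrS hrq hrx using key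
  -- the `r q` for `q ⊇ 𝔟` together with `𝔟` generate the unit ideal
  let T : Set S := {x | ∃ q : {q : Ideal S // q.IsPrime}, 𝔟 ≤ q.1 ∧ x = r q}
  have hT : Ideal.span T ⊔ 𝔟 = ⊤ := by
    by_contra hne
    obtain ⟨M, hM, hle⟩ := Ideal.exists_le_maximal _ hne
    have h1 : 𝔟 ≤ M := le_trans le_sup_right hle
    have h2 : r ⟨M, hM.isPrime⟩ ∈ M :=
      hle (Ideal.mem_sup_left (Ideal.subset_span ⟨⟨M, hM.isPrime⟩, h1, rfl⟩))
    exact hrq ⟨M, hM.isPrime⟩ h2
  have h1 : (1 : S) ∈ Ideal.span T ⊔ 𝔟 := by rw [hT]; trivial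
  obtain ⟨x, hx, y, hy, hxy⟩ := Submodule.mem_sup.mp h1
  obtain ⟨T', hT'sub, hxT'⟩ := Submodule.mem_span_finite_of_mem_span hx
  have hchoose : ∀ z : T', ∃ q : {q : Ideal S // q.IsPrime}, 𝔟 ≤ q.1 ∧ (z : S) = r q :=
    fun z => hT'sub z.2
  choose qz hqz1 hqz2 using hchoose
  -- module generators of each `S' q`
  have hgen : ∀ q, ∃ G : Finset S, Submodule.span R (G : Set S) = (S' q).toSubmodule := fun q => hS' q
  choose G hG using hgen
  let 𝒢 : Finset S := T'.attach.biUnion fun z => G (qz z)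
  have hint : ∀ x ∈ (𝒢 : Set S), IsIntegral R x := by
    intro x hx
    obtain ⟨z, -, hz⟩ := Finset.mem_biUnion.mp hx
    have hxS : x ∈ S' (qz z) := by
      have : x ∈ (S' (qz z)).toSubmodule := by
        rw [← hG]
        exact Submodule.subset_span hz
      exact this
    exact IsIntegral.of_mem_of_fg (S' (qz z)) (hS' (qz z)) x hxS
  refine ⟨Algebra.adjoin R (𝒢 : Set S), fg_adjoin_of_finite 𝒢.finite_toSet hint, T', ?_, ?_, ?_⟩
  · intro z hz
    have hle : (S' (qz ⟨z, hz⟩)).toSubmodule ≤ (Algebra.adjoin R (𝒢 : Set S)).toSubmodule := by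
      rw [← hG, Submodule.span_le]
      intro w hw
      exact Algebra.subset_adjoin (Finset.mem_biUnion.mpr ⟨⟨z, hz⟩, Finset.mem_attach _ _, hw⟩)
    have : z = r (qz ⟨z, hz⟩) := hqz2 ⟨z, hz⟩
    rw [this]
    exact hle (hrS _)
  · rw [Ideal.eq_top_iff_one]
    exact Submodule.mem_sup.mpr ⟨x, hxT', y, hy, hxy⟩
  · intro z hz w
    have hle : (S' (qz ⟨z, hz⟩)).toSubmodule ≤ (Algebra.adjoin R (𝒢 : Set S)).toSubmodule := by
      rw [← hG, Submodule.span_le]
      intro w hw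
      exact Algebra.subset_adjoin (Finset.mem_biUnion.mpr ⟨⟨z, hz⟩, Finset.mem_attach _ _, hw⟩)
    obtain ⟨N, hN⟩ := hrx (qz ⟨z, hz⟩) w
    have : z = r (qz ⟨z, hz⟩) := hqz2 ⟨z, hz⟩
    exact ⟨N, by rw [this]; exact hle hN⟩

/-- For a finite type formally unramified algebra `S` over `R` with an `R`-algebra map
`σ : S → R/I`, there is `ε ∈ S` with `σ ε = 1`, idempotent modulo `IS`, killing `ker σ` modulo `IS`. -/
theorem exists_section_idempotent {R : Type u} {S : Type v} [CommRing R] [CommRing S] [Algebra R S]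
    [Algebra.FiniteType R S] [Algebra.FormallyUnramified R S] (I : Ideal R) (σ : S →ₐ[R] R ⧸ I) :
    ∃ ε : S, σ ε = 1 ∧ ε * ε - ε ∈ I.map (algebraMap R S) ∧
      ∀ x, σ x = 0 → x * ε ∈ I.map (algebraMap R S) := by
  classical
  set J := I.map (algebraMap R S) with hJdef
  set 𝔟 : Ideal S := RingHom.ker (σ : S →+* R ⧸ I) with h𝔟def
  have hmem𝔟 : ∀ x, x ∈ 𝔟 ↔ σ x = 0 := fun x => Iff.rfl
  have hσalg : ∀ a : R, σ (algebraMap R S a) = Ideal.Quotient.mk I a := fun a => σ.commutes a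
  have hJ𝔟 : J ≤ 𝔟 := by
    rw [hJdef, Ideal.map_le_iff_le_comap]
    intro a ha
    rw [Ideal.mem_comap, hmem𝔟, hσalg]
    exact Ideal.Quotient.eq_zero_iff_mem.mpr ha
  -- (a) `𝔟 ≤ 𝔟 ^ 2 ⊔ J` by formal unramifiedness
  have ha : 𝔟 ≤ 𝔟 ^ 2 ⊔ J := by
    set K := 𝔟 ^ 2 ⊔ J with hKdef
    have hK𝔟 : K ≤ 𝔟 := sup_le (Ideal.pow_le_self two_ne_zero) hJ𝔟
    let f : S ⧸ K →+* R ⧸ I := Ideal.Quotient.lift K (σ : S →+* R ⧸ I) (fun x hx => hK𝔟 hx)
    have hfmk : ∀ x : S, f (Ideal.Quotient.mk K x) = σ x := fun x => rfl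
    have hf : IsNilpotent (RingHom.ker f) := by
      refine ⟨2, ?_⟩
      have hle : RingHom.ker f ≤ 𝔟.map (Ideal.Quotient.mk K) := by
        intro q hq
        obtain ⟨x, rfl⟩ := Ideal.Quotient.mk_surjective q
        rw [RingHom.mem_ker, hfmk] at hq
        exact Ideal.mem_map_of_mem _ hq
      rw [Ideal.zero_eq_bot, ← le_bot_iff]
      refine le_trans (Ideal.pow_right_mono hle 2) ?_
      rw [← Ideal.map_pow, le_bot_iff, Ideal.map_eq_bot_iff_le_ker, Ideal.mk_ker]
      exact le_sup_left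
    let g₁ : S →ₐ[R] S ⧸ K := Ideal.Quotient.mkₐ R K
    have hIQ : ∀ a ∈ I, (Algebra.ofId R (S ⧸ K)) a = 0 := by
      intro a ha
      change algebraMap R (S ⧸ K) a = 0
      rw [IsScalarTower.algebraMap_apply R S (S ⧸ K), Ideal.Quotient.algebraMap_eq,
        Ideal.Quotient.eq_zero_iff_mem]
      exact Ideal.mem_sup_right (Ideal.mem_map_of_mem _ ha)
    let g₂ : S →ₐ[R] S ⧸ K := (Ideal.Quotient.liftₐ I (Algebra.ofId R (S ⧸ K)) hIQ).comp σ
    have h12 : g₁ = g₂ := by
      refine Algebra.FormallyUnramified.ext' f hf g₁ g₂ (fun x => ?_)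
      change f (Ideal.Quotient.mk K x) = f ((Ideal.Quotient.liftₐ I (Algebra.ofId R (S ⧸ K)) hIQ) (σ x))
      rw [hfmk]
      obtain ⟨a, ha⟩ := Ideal.Quotient.mk_surjective (σ x)
      rw [← ha]
      change _ = f ((Algebra.ofId R (S ⧸ K)) a)
      change _ = f (algebraMap R (S ⧸ K) a)
      rw [IsScalarTower.algebraMap_apply R S (S ⧸ K), Ideal.Quotient.algebraMap_eq, hfmk, hσalg]
    intro x hx
    have h3 : g₁ x = g₂ x := by rw [h12]
    have h4 : g₂ x = 0 := by
      change (Ideal.Quotient.liftₐ I (Algebra.ofId R (S ⧸ K)) hIQ) (σ x) = 0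
      rw [(hmem𝔟 x).mp hx, map_zero]
    rw [h4] at h3
    exact Ideal.Quotient.eq_zero_iff_mem.mp h3
  -- (b) `𝔟` is finitely generated modulo `J`
  obtain ⟨s, hs⟩ := Algebra.FiniteType.out (R := R) (A := S)
  have hlift : ∀ x : S, ∃ a : R, Ideal.Quotient.mk I a = σ x := fun x => Ideal.Quotient.mk_surjective _
  choose a ha' using hlift
  let G : Finset S := s.image fun x => x - algebraMap R S (a x)
  set K' : Ideal S := J ⊔ Ideal.span (G : Set S) with hK'def
  have hG𝔟 : Ideal.span (G : Set S) ≤ 𝔟 := by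
    rw [Ideal.span_le]
    intro z hz
    obtain ⟨x, -, rfl⟩ := Finset.mem_image.mp hz
    change _ ∈ 𝔟
    rw [hmem𝔟, map_sub, hσalg, ha', sub_self]
  have hK'𝔟 : K' ≤ 𝔟 := sup_le hJ𝔟 hG𝔟
  have hall : ∀ x : S, ∃ c : R, x - algebraMap R S c ∈ K' := by
    intro x
    have hx : x ∈ Algebra.adjoin R (s : Set S) := by rw [hs]; trivial
    induction hx using Algebra.adjoin_induction with
    | mem x hx =>
      exact ⟨a x, Ideal.mem_sup_right (Ideal.subset_span (Finset.mem_image.mpr ⟨x, hx, rfl⟩))⟩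
    | algebraMap r => exact ⟨r, by rw [sub_self]; exact K'.zero_mem⟩
    | add x y _ _ hx hy =>
      obtain ⟨c, hc⟩ := hx
      obtain ⟨d, hd⟩ := hy
      refine ⟨c + d, ?_⟩
      have : x + y - algebraMap R S (c + d) = (x - algebraMap R S c) + (y - algebraMap R S d) := by
        rw [map_add]; ring
      rw [this]
      exact K'.add_mem hc hd
    | mul x y _ _ hx hy =>
      obtain ⟨c, hc⟩ := hx
      obtain ⟨d, hd⟩ := hy
      refine ⟨c * d, ?_⟩
      have : x * y - algebraMap R S (c * d) =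
          (x - algebraMap R S c) * y + algebraMap R S c * (y - algebraMap R S d) := by
        rw [map_mul]; ring
      rw [this]
      exact K'.add_mem (K'.mul_mem_right _ hc) (K'.mul_mem_left _ hd)
  have h𝔟K' : 𝔟 ≤ K' := by
    intro x hx
    obtain ⟨c, hc⟩ := hall x
    have h5 : algebraMap R S c ∈ 𝔟 := by
      have : algebraMap R S c = x - (x - algebraMap R S c) := by ring
      rw [this]
      exact 𝔟.sub_mem hx (hK'𝔟 hc)
    rw [hmem𝔟, hσalg, Ideal.Quotient.eq_zero_iff_mem] at h5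
    have h6 : algebraMap R S c ∈ K' := Ideal.mem_sup_left (Ideal.mem_map_of_mem _ h5)
    have : x = (x - algebraMap R S c) + algebraMap R S c := by ring
    rw [this]
    exact K'.add_mem hc h6
  -- Nakayama in the module `S ⧸ J`
  let N : Submodule S (S ⧸ J) := Submodule.map (Submodule.mkQ J) 𝔟
  have hNfg : N.FG := by
    have h7 : N = Submodule.map (Submodule.mkQ J) (Ideal.span (G : Set S)) := by
      apply le_antisymm
      · rintro _ ⟨x, hx, rfl⟩
        obtain ⟨j, hj, g, hg, rfl⟩ := Submodule.mem_sup.mp (h𝔟K' hx)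
        refine ⟨g, hg, ?_⟩
        have hj0 : (Submodule.mkQ J) j = 0 := by
          rw [Submodule.mkQ_apply]; exact (Submodule.Quotient.mk_eq_zero J).mpr hj
        rw [map_add, hj0, zero_add]
      · exact Submodule.map_mono hG𝔟
    rw [h7]
    exact Submodule.FG.map _ ⟨G, rfl⟩
  have hin : N ≤ 𝔟 • N := by
    rintro _ ⟨x, hx, rfl⟩
    obtain ⟨p, hp, j, hj, rfl⟩ := Submodule.mem_sup.mp (ha hx)
    have hj0 : (Submodule.mkQ J) j = 0 := by
      rw [Submodule.mkQ_apply]; exact (Submodule.Quotient.mk_eq_zero J).mpr hj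
    rw [map_add, hj0, add_zero]
    have h8 : p ∈ 𝔟 • (𝔟 : Submodule S S) := by
      rw [pow_two] at hp
      exact hp
    have h9 : (Submodule.mkQ J) p ∈ Submodule.map (Submodule.mkQ J) (𝔟 • (𝔟 : Submodule S S)) :=
      Submodule.mem_map_of_mem h8
    rw [Submodule.map_smul''] at h9
    exact h9
  obtain ⟨r, hr1, hrN⟩ := Submodule.exists_sub_one_mem_and_smul_eq_zero_of_fg_of_le_smul 𝔟 N hNfg hin
  have hrx : ∀ x ∈ 𝔟, r * x ∈ J := by
    intro x hx
    have := hrN _ (Submodule.mem_map_of_mem (f := Submodule.mkQ J) hx)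
    rw [← map_smul, Submodule.mkQ_apply, Submodule.Quotient.mk_eq_zero] at this
    exact this
  refine ⟨r, ?_, ?_, ?_⟩
  · have := (hmem𝔟 _).mp hr1
    rw [map_sub, map_one, sub_eq_zero] at this
    exact this
  · have := hrx _ hr1
    have h10 : r * r - r = r * (r - 1) := by ring
    rw [h10]
    exact this
  · intro x hx
    rw [mul_comm]
    exact hrx x ((hmem𝔟 x).mpr hx)

/-- A surjective structure map to a formally smooth finitely presented algebra whose kernel lies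
in an ideal contained in the Jacobson radical is bijective. -/
theorem bijective_algebraMap_of_surjective_of_ker_le {A : Type u} {L : Type v} [CommRing A]
    [CommRing L] [Algebra A L] [Algebra.FormallySmooth A L] [Algebra.FinitePresentation A L]
    (I : Ideal A) (hI : I ≤ Ideal.jacobson ⊥)
    (hsurj : Function.Surjective (algebraMap A L)) (hker : RingHom.ker (algebraMap A L) ≤ I) :
    Function.Bijective (algebraMap A L) := by
  set 𝔨 : Ideal A := RingHom.ker (algebraMap A L) with h𝔨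
  have hfg : 𝔨.FG := Algebra.FinitePresentation.ker_fG_of_surjective (Algebra.ofId A L) hsurj
  have hsq : 𝔨 ≤ 𝔨 • 𝔨 := by
    let N : Ideal (A ⧸ 𝔨 ^ 2) := 𝔨.map (Ideal.Quotient.mk (𝔨 ^ 2))
    have hN : IsNilpotent N := by
      refine ⟨2, ?_⟩
      rw [← Ideal.map_pow, Ideal.zero_eq_bot, Ideal.map_eq_bot_iff_le_ker, Ideal.mk_ker]
    let e : (A ⧸ 𝔨) ≃ₐ[A] L := Ideal.quotientKerAlgEquivOfSurjective (f := Algebra.ofId A L) hsurj
    let g₀ : A ⧸ 𝔨 →ₐ[A] (A ⧸ 𝔨 ^ 2) ⧸ N :=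
      Ideal.Quotient.liftₐ 𝔨 ((Ideal.Quotient.mkₐ A N).comp (Ideal.Quotient.mkₐ A (𝔨 ^ 2)))
        (fun a ha => by
          change Ideal.Quotient.mk N (Ideal.Quotient.mk (𝔨 ^ 2) a) = 0
          rw [Ideal.Quotient.eq_zero_iff_mem]
          exact Ideal.mem_map_of_mem _ ha)
    let h : L →ₐ[A] A ⧸ 𝔨 ^ 2 := Algebra.FormallySmooth.lift N hN (g₀.comp e.symm.toAlgHom)
    intro a ha
    have h1 : h (algebraMap A L a) = Ideal.Quotient.mk (𝔨 ^ 2) a := h.commutes a
    rw [(RingHom.mem_ker).mp ha, map_zero] at h1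
    have h2 : a ∈ 𝔨 ^ 2 := Ideal.Quotient.eq_zero_iff_mem.mp h1.symm
    rw [pow_two] at h2
    exact h2
  have hbot : 𝔨 = ⊥ :=
    Submodule.eq_bot_of_le_smul_of_le_jacobson_bot 𝔨 𝔨 hfg hsq (hker.trans hI)
  exact ⟨(RingHom.injective_iff_ker_eq_bot _).mpr hbot, hsurj⟩

end Groth.Agent.Lib.Helper4.HenselPair
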