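import Mathlib
import Groth.Agent.Lib.Helper4.HenselPairG
import Groth.Agent.Lib.Helper4.HenselPairZ

/-!
# Étale lifting over henselian pairs (Stacks 09XI, (1) ⇒ (2))
-/

set_option autoImplicit false
universe u v

namespace Groth.Agent.Lib.Helper4.HenselPair

/-- Membership in `I B` for a subalgebra `B ⊆ A'`, tested in `A'`. -/
theorem mem_map_subalgebra_iff {A : Type u} {A' : Type v} [CommRing A] [CommRing A'] [Algebra A A']
    (I : Ideal A) (B : Subalgebra A A') (z : B) :
    z ∈ I.map (algebraMap A B) ↔ (z : A') ∈ I • B.toSubmodule := by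
  have h1 : z ∈ I.map (algebraMap A B) ↔ z ∈ I • (⊤ : Submodule A B) := by
    rw [Ideal.smul_top_eq_map]; rfl
  rw [h1]
  have h2 : (I • (⊤ : Submodule A B)).map B.val.toLinearMap = I • B.toSubmodule := by
    rw [Submodule.map_smul'', Submodule.map_top]
    congr 1
    ext x
    simp
  rw [← h2]
  constructor
  · intro hz; exact Submodule.mem_map_of_mem hz
  · rintro ⟨w, hw, hwz⟩
    have : w = z := Subtype.ext hwz
    rwa [← this]

/-- `I • B` is stable under multiplication by `B`. -/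
theorem mul_mem_smul_subalgebra {A : Type u} {A' : Type v} [CommRing A] [CommRing A'] [Algebra A A']
    (I : Ideal A) (B : Subalgebra A A') (b : A') (hb : b ∈ B) (z : A') (hz : z ∈ I • B.toSubmodule) :
    b * z ∈ I • B.toSubmodule := by
  refine Submodule.smul_induction_on hz ?_ ?_
  · intro a ha w hw
    rw [mul_smul_comm]
    exact Submodule.smul_mem_smul ha (B.mul_mem hb hw)
  · intro x y hx hy
    rw [mul_add]
    exact Submodule.add_mem _ hx hy

/-- The ideal of `B` of elements multiplying `x` into a `B`-stable submodule `P`. -/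
def condIdeal {A : Type u} {A' : Type v} [CommRing A] [CommRing A'] [Algebra A A']
    (B : Subalgebra A A') (P : Submodule A A') (hP : ∀ b ∈ B, ∀ z ∈ P, b * z ∈ P) (x : A') :
    Ideal B where
  carrier := {β | (β : A') * x ∈ P}
  add_mem' := by
    intro β γ hβ hγ
    simp only [Set.mem_ofPred_eq, Subalgebra.coe_add, add_mul] at *
    exact P.add_mem hβ hγ
  zero_mem' := by simp
  smul_mem' := by
    intro c β hβ
    simp only [smul_eq_mul, Set.mem_ofPred_eq, Subalgebra.coe_mul, mul_assoc] at *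
    exact hP _ c.2 _ hβ

theorem mem_condIdeal {A : Type u} {A' : Type v} [CommRing A] [CommRing A'] [Algebra A A']
    (B : Subalgebra A A') (P : Submodule A A') (hP : ∀ b ∈ B, ∀ z ∈ P, b * z ∈ P) (x : A') (β : B) :
    β ∈ condIdeal B P hP x ↔ (β : A') * x ∈ P := Iff.rfl

/-- Core of the étale lifting theorem: an idempotent `e` of `A'` with `σ e = 1` and `e A' = A e`. -/
theorem exists_idempotent_of_etale {A : Type u} {A' : Type v} [CommRing A] [CommRing A']
    [Algebra A A'] [Algebra.Etale A A'] (I : Ideal A) [HenselianRing A I] (σ : A' →ₐ[A] A ⧸ I) :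
    ∃ e : A', e * e = e ∧ σ e = 1 ∧ ∀ x : A', ∃ a : A, e * x = a • e := by
  classical
  have hσalg : ∀ a : A, σ (algebraMap A A' a) = Ideal.Quotient.mk I a := σ.commutes
  set J' := I.map (algebraMap A A') with hJ'
  have hJ'σ : ∀ x ∈ J', σ x = 0 := by
    intro x hx
    have hle : J' ≤ RingHom.ker (σ : A' →+* A ⧸ I) := by
      rw [hJ', Ideal.map_le_iff_le_comap]
      intro a ha
      rw [Ideal.mem_comap, RingHom.mem_ker]
      change σ (algebraMap A A' a) = 0
      rw [hσalg]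
      exact Ideal.Quotient.eq_zero_iff_mem.mpr ha
    exact hle hx
  obtain ⟨ε, hε1, hεidem, hεker⟩ := exists_section_idempotent I σ
  obtain ⟨B, hBfg, t, htB, htcover, htpow⟩ :=
    exists_finite_subalgebra_cover (R := A) (RingHom.ker (σ : A' →+* A ⧸ I))
  have : Module.Finite A B := ⟨(Submodule.fg_top _).mpr hBfg⟩
  -- the `A`-submodules `B` and `I • B` of `A'`
  let PB : Submodule A A' := B.toSubmodule
  let PI : Submodule A A' := I • B.toSubmodule
  have hPB : ∀ b ∈ B, ∀ z ∈ PB, b * z ∈ PB := fun b hb z hz => B.mul_mem hb hz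
  have hPI : ∀ b ∈ B, ∀ z ∈ PI, b * z ∈ PI := fun b hb z hz => mul_mem_smul_subalgebra I B b hb z hz
  have hPIJ' : ∀ z ∈ PI, z ∈ J' := by
    intro z hz
    have : PI ≤ I • (⊤ : Submodule A A') := Submodule.smul_mono le_rfl le_top
    have h2 := this hz
    rw [Ideal.smul_top_eq_map] at h2
    exact h2
  -- the element `s₁`
  have h1mem : (1 : A') ∈ Ideal.span (t : Set A') ⊔ RingHom.ker (σ : A' →+* A ⧸ I) := by
    rw [htcover]; trivial
  obtain ⟨x₀, hx₀, y₀, hy₀, hxy₀⟩ := Submodule.mem_sup.mp h1mem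
  obtain ⟨d, -, hd⟩ := Submodule.mem_span_finset.mp hx₀
  have hlift : ∀ z : A', ∃ a : A, Ideal.Quotient.mk I a = σ z := fun z => Ideal.Quotient.mk_surjective _
  choose c hc using hlift
  let s₁ : A' := ∑ r ∈ t, c (d r) • r
  have hs₁B : s₁ ∈ B := Subalgebra.sum_mem _ fun r hr => Subalgebra.smul_mem _ (htB r hr) _
  have hσs₁ : σ s₁ = 1 := by
    have h3 : σ s₁ = σ x₀ := by
      rw [← hd, map_sum, map_sum]
      refine Finset.sum_congr rfl fun r _ => ?_
      rw [Algebra.smul_def, map_mul, hσalg, hc, smul_eq_mul, map_mul]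
    have h4 : σ y₀ = 0 := hy₀
    have h5 : σ x₀ + σ y₀ = 1 := by rw [← map_add, hxy₀, map_one]
    rw [h3, ← h5, h4, add_zero]
  let s₁B : B := ⟨s₁, hs₁B⟩
  -- radical membership
  have hrad : ∀ (P : Submodule A A') (hP : ∀ b ∈ B, ∀ z ∈ P, b * z ∈ P) (x : A'),
      (∀ r ∈ t, ∃ N : ℕ, r ^ N * x ∈ P) → ∃ K : ℕ, s₁ ^ K * x ∈ P := by
    intro P hP x hx
    have hmem : s₁B ∈ (condIdeal B P hP x).radical := by
      have hsum : s₁B = ∑ r ∈ t.attach, c (d r.1) • (⟨r.1, htB r.1 r.2⟩ : B) := by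
        apply Subtype.ext
        rw [AddSubmonoidClass.coe_finsetSum]
        exact (Finset.sum_attach t (fun r => c (d r) • r)).symm
      rw [hsum]
      refine Ideal.sum_mem _ fun r _ => ?_
      rw [Algebra.smul_def]
      refine Ideal.mul_mem_left _ _ ?_
      obtain ⟨N, hN⟩ := hx r.1 r.2
      exact ⟨N, by rw [mem_condIdeal]; simpa using hN⟩
    obtain ⟨K, hK⟩ := hmem
    exact ⟨K, by rw [mem_condIdeal] at hK; simpa [s₁B] using hK⟩
  have hradB : ∀ x : A', ∃ K : ℕ, s₁ ^ K * x ∈ PB := fun x => hrad PB hPB x fun r hr => htpow r hr x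
  have hradI : ∀ x ∈ J', ∃ K : ℕ, s₁ ^ K * x ∈ PI := by
    intro x hx
    refine hrad PI hPI x fun r hr => ?_
    have hx' : x ∈ I • (⊤ : Submodule A A') := by rw [Ideal.smul_top_eq_map]; exact hx
    refine Submodule.smul_induction_on hx' ?_ ?_
    · intro a ha w _
      obtain ⟨N, hN⟩ := htpow r hr w
      exact ⟨N, by rw [mul_smul_comm]; exact Submodule.smul_mem_smul ha hN⟩
    · rintro x y ⟨N₁, h₁⟩ ⟨N₂, h₂⟩
      refine ⟨N₁ + N₂, ?_⟩
      rw [mul_add]
      refine Submodule.add_mem _ ?_ ?_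
      · rw [pow_add, mul_comm (r ^ N₁), mul_assoc]
        exact hPI _ (B.pow_mem (htB r hr) _) _ h₁
      · rw [pow_add, mul_assoc]
        exact hPI _ (B.pow_mem (htB r hr) _) _ h₂
  have hmono : ∀ (P : Submodule A A') (hP : ∀ b ∈ B, ∀ z ∈ P, b * z ∈ P) (x : A') (K K' : ℕ),
      K ≤ K' → s₁ ^ K * x ∈ P → s₁ ^ K' * x ∈ P := by
    intro P hP x K K' hKK' h
    obtain ⟨k, rfl⟩ := Nat.exists_eq_add_of_le hKK'
    rw [pow_add, mul_comm (s₁ ^ K), mul_assoc]
    exact hP _ (B.pow_mem hs₁B k) _ h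
  -- generators of `B`
  obtain ⟨n, g, hg⟩ := Module.Finite.exists_fin (R := A) (M := B)
  let cg : Fin n → A := fun j => c (g j : A')
  let w : A' := ε * ε - ε
  let y' : A' := (s₁ - 1) * ε
  let z : Fin n → A' := fun j => ((g j : A') - algebraMap A A' (cg j)) * ε
  have hwJ : w ∈ J' := hεidem
  have hy'J : y' ∈ J' := hεker _ (by rw [map_sub, hσs₁, map_one, sub_self])
  have hzJ : ∀ j, z j ∈ J' := fun j => hεker _ (by rw [map_sub, hσalg, hc, sub_self])
  obtain ⟨K₀, hK₀⟩ := hradB ε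
  obtain ⟨K₁, hK₁⟩ := hradI w hwJ
  obtain ⟨K₂, hK₂⟩ := hradI y' hy'J
  have hK₃' : ∀ j, ∃ K, s₁ ^ K * z j ∈ PI := fun j => hradI (z j) (hzJ j)
  choose K₃ hK₃ using hK₃'
  let K : ℕ := K₀ + K₁ + K₂ + ∑ j, K₃ j
  have hKε : s₁ ^ K * ε ∈ PB := hmono PB hPB ε K₀ K (by simp only [K]; omega) hK₀
  have hKw : s₁ ^ K * w ∈ PI := hmono PI hPI w K₁ K (by simp only [K]; omega) hK₁
  have hKy : s₁ ^ K * y' ∈ PI := hmono PI hPI y' K₂ K (by simp only [K]; omega) hK₂
  have hKz : ∀ j, s₁ ^ K * z j ∈ PI := fun j =>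
    hmono PI hPI (z j) (K₃ j) K (by
      have : K₃ j ≤ ∑ j, K₃ j := Finset.single_le_sum (fun _ _ => Nat.zero_le _) (Finset.mem_univ j)
      simp only [K]; omega) (hK₃ j)
  let b : B := ⟨s₁ ^ K * ε, hKε⟩
  have hb1 : b * b - b ∈ I.map (algebraMap A B) := by
    rw [mem_map_subalgebra_iff]
    have hid : ((b * b - b : B) : A') =
        s₁ ^ K * (s₁ ^ K * w) + (∑ i ∈ Finset.range K, s₁ ^ i) * (s₁ ^ K * y') := by
      have hgeom : (∑ i ∈ Finset.range K, s₁ ^ i) * (s₁ - 1) = s₁ ^ K - 1 := geom_sum_mul s₁ K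
      have : (∑ i ∈ Finset.range K, s₁ ^ i) * (s₁ ^ K * y') =
          s₁ ^ K * ε * ((∑ i ∈ Finset.range K, s₁ ^ i) * (s₁ - 1)) := by
        simp only [y']; ring
      rw [this, hgeom]
      simp only [b, w, Subalgebra.coe_sub, Subalgebra.coe_mul]
      ring
    rw [hid]
    exact Submodule.add_mem _ (hPI _ (B.pow_mem hs₁B K) _ hKw)
      (hPI _ (Subalgebra.sum_mem _ fun i _ => B.pow_mem hs₁B i) _ hKy)
  have hb2gen : ∀ j, b * g j - cg j • b ∈ I.map (algebraMap A B) := by
    intro j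
    rw [mem_map_subalgebra_iff]
    have hid : ((b * g j - cg j • b : B) : A') = s₁ ^ K * z j := by
      simp only [b, z, Subalgebra.coe_sub, Subalgebra.coe_mul, Algebra.smul_def,
        Subalgebra.coe_algebraMap]
      ring
    rw [hid]
    exact hKz j
  have hb2 : ∀ u : B, ∃ a : A, b * u - a • b ∈ I.map (algebraMap A B) := by
    intro u
    have hu : u ∈ Submodule.span A (Set.range g) := by rw [hg]; trivial
    induction hu using Submodule.span_induction with
    | mem u hu =>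
      obtain ⟨j, rfl⟩ := hu
      exact ⟨cg j, hb2gen j⟩
    | zero => exact ⟨0, by simp⟩
    | add u v _ _ hu hv =>
      obtain ⟨a₁, h₁⟩ := hu
      obtain ⟨a₂, h₂⟩ := hv
      refine ⟨a₁ + a₂, ?_⟩
      have : b * (u + v) - (a₁ + a₂) • b = (b * u - a₁ • b) + (b * v - a₂ • b) := by
        rw [add_smul]; ring
      rw [this]
      exact Ideal.add_mem _ h₁ h₂
    | smul a u _ hu =>
      obtain ⟨a₁, h₁⟩ := hu
      refine ⟨a * a₁, ?_⟩
      have : b * (a • u) - (a * a₁) • b = algebraMap A B a * (b * u - a₁ • b) := by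
        rw [mul_smul, Algebra.smul_def a u, Algebra.smul_def a (a₁ • b)]; ring
      rw [this]
      exact Ideal.mul_mem_left _ _ h₁
  obtain ⟨e, heidem, heb, hecyc⟩ := exists_idempotent_lift_of_cyclic I b hb1 hb2
  have hσb : σ (b : A') = 1 := by
    change σ (s₁ ^ K * ε) = 1
    rw [map_mul, map_pow, hσs₁, one_pow, one_mul, hε1]
  have hσe : σ (e : A') = 1 := by
    have h6 : ((e - b : B) : A') ∈ PI := (mem_map_subalgebra_iff I B _).mp heb
    have h7 : σ ((e - b : B) : A') = 0 := hJ'σ _ (hPIJ' _ h6)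
    rw [Subalgebra.coe_sub, map_sub, hσb, sub_eq_zero] at h7
    exact h7
  have hee : (e : A') * (e : A') = (e : A') := by
    have := congrArg (fun β : B => (β : A')) heidem.eq
    simpa using this
  -- `s₁ e = a₁ e` with `a₁` a unit
  obtain ⟨a₁, ha₁⟩ := hecyc s₁B
  have ha₁' : (e : A') * s₁ = a₁ • (e : A') := by
    have := congrArg (fun β : B => (β : A')) ha₁
    simpa [s₁B] using this
  have ha₁I : a₁ - 1 ∈ I := by
    have h8 := congrArg σ ha₁'
    rw [map_mul, hσe, hσs₁, one_mul, Algebra.smul_def, map_mul, hσalg, hσe, mul_one] at h8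
    rw [← Ideal.Quotient.eq_zero_iff_mem, map_sub, map_one, ← h8, sub_self]
  have ha₁u : IsUnit a₁ := by
    have := (Ideal.mem_jacobson_bot.mp (HenselianRing.jac ha₁I)) 1
    simpa using this
  obtain ⟨ua, hua⟩ := ha₁u
  have hpow : ∀ k : ℕ, (e : A') * s₁ ^ k = (a₁ ^ k) • (e : A') := by
    intro k
    induction k with
    | zero => simp
    | succ k ih =>
      rw [pow_succ, ← mul_assoc, ih, smul_mul_assoc, ha₁', smul_smul, ← pow_succ]
  refine ⟨(e : A'), hee, hσe, fun x => ?_⟩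
  obtain ⟨Kx, hKx⟩ := hradB x
  obtain ⟨aβ, haβ⟩ := hecyc ⟨s₁ ^ Kx * x, hKx⟩
  have haβ' : (e : A') * (s₁ ^ Kx * x) = aβ • (e : A') := by
    have := congrArg (fun β : B => (β : A')) haβ
    simpa using this
  refine ⟨(↑(ua⁻¹ ^ Kx) : A) * aβ, ?_⟩
  have h9 : (a₁ ^ Kx) • ((e : A') * x) = aβ • (e : A') := by
    rw [← haβ', ← mul_assoc, hpow, smul_mul_assoc]
  have h10 : (↑(ua⁻¹ ^ Kx) : A) * a₁ ^ Kx = 1 := by
    rw [← hua, ← Units.val_pow_eq_pow_val, ← Units.val_mul, ← mul_pow, inv_mul_cancel, one_pow,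
      Units.val_one]
  calc (e : A') * x = ((↑(ua⁻¹ ^ Kx) : A) * a₁ ^ Kx) • ((e : A') * x) := by rw [h10, one_smul]
    _ = (↑(ua⁻¹ ^ Kx) : A) • (a₁ ^ Kx) • ((e : A') * x) := by rw [mul_smul]
    _ = ((↑(ua⁻¹ ^ Kx) : A) * aβ) • (e : A') := by rw [h9, mul_smul]

/-- **Étale lifting over henselian pairs** (Stacks 09XI (1) ⇒ (2)). -/
theorem exists_lift_of_etale {A : Type u} {A' : Type v} [CommRing A] [CommRing A']
    [Algebra A A'] [Algebra.Etale A A'] (I : Ideal A) [HenselianRing A I] (σ : A' →ₐ[A] A ⧸ I) :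
    ∃ τ : A' →ₐ[A] A, (Ideal.Quotient.mkₐ A I).comp τ = σ := by
  classical
  obtain ⟨e, hee, hσe, hcyc⟩ := exists_idempotent_of_etale I σ
  have hσalg : ∀ a : A, σ (algebraMap A A' a) = Ideal.Quotient.mk I a := σ.commutes
  let L := Localization.Away e
  have hEt : Algebra.Etale A L := Algebra.Etale.comp A A' L
  have he1 : algebraMap A' L e = 1 := by
    have hu : IsUnit (algebraMap A' L e) := IsLocalization.Away.algebraMap_isUnit e
    have h1 : algebraMap A' L e * algebraMap A' L e = algebraMap A' L e := by rw [← map_mul, hee]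
    have h2 : algebraMap A' L e * (algebraMap A' L e - 1) = 0 := by rw [mul_sub, h1, mul_one, sub_self]
    exact sub_eq_zero.mp ((hu.mul_right_eq_zero).mp h2)
  have hpowe : ∀ k : ℕ, e * e ^ k = e := by
    intro k
    induction k with
    | zero => simp
    | succ k ih => rw [pow_succ, ← mul_assoc, ih, hee]
  have hzero : ∀ x : A', algebraMap A' L x = 0 → e * x = 0 := by
    intro x hx
    obtain ⟨⟨m, k, rfl⟩, hm⟩ := (IsLocalization.map_eq_zero_iff (Submonoid.powers e) L x).mp hx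
    have h3 : e * (e ^ k * x) = 0 := by
      have : e ^ k * x = 0 := hm
      rw [this, mul_zero]
    rw [← mul_assoc, hpowe] at h3
    exact h3
  have hsurj : Function.Surjective (algebraMap A L) := by
    intro z
    obtain ⟨x, ⟨_, k, rfl⟩, rfl⟩ := IsLocalization.exists_mk'_eq (Submonoid.powers e) z
    obtain ⟨a, ha⟩ := hcyc x
    refine ⟨a, ?_⟩
    symm
    rw [IsLocalization.mk'_eq_iff_eq_mul]
    simp only [map_pow, he1, one_pow, mul_one]
    have h5 : algebraMap A' L x = algebraMap A' L (e * x) := by rw [map_mul, he1, one_mul]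
    rw [h5, ha, Algebra.smul_def, map_mul, he1, mul_one, ← IsScalarTower.algebraMap_apply]
  have hker : RingHom.ker (algebraMap A L) ≤ I := by
    intro a ha
    rw [RingHom.mem_ker, IsScalarTower.algebraMap_apply A A' L] at ha
    have h6 := hzero _ ha
    have h7 := congrArg σ h6
    rw [map_mul, hσe, one_mul, hσalg, map_zero] at h7
    exact Ideal.Quotient.eq_zero_iff_mem.mp h7
  have hbij : Function.Bijective (algebraMap A L) :=
    bijective_algebraMap_of_surjective_of_ker_le I HenselianRing.jac hsurj hker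
  let E : A ≃ₐ[A] L := AlgEquiv.ofBijective (Algebra.ofId A L) hbij
  let τ : A' →ₐ[A] A := E.symm.toAlgHom.comp (IsScalarTower.toAlgHom A A' L)
  refine ⟨τ, ?_⟩
  ext x
  have h8 : algebraMap A L (τ x) = algebraMap A' L x := E.apply_symm_apply (algebraMap A' L x)
  have h9 : algebraMap A' L (algebraMap A A' (τ x) - x) = 0 := by
    rw [map_sub, ← IsScalarTower.algebraMap_apply, h8, sub_self]
  have h10 := congrArg σ (hzero _ h9)
  rw [map_mul, hσe, one_mul, map_sub, hσalg, map_zero, sub_eq_zero] at h10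
  exact h10

end Groth.Agent.Lib.Helper4.HenselPair
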