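import Mathlib
import Groth.Agent.Lib.Helper4.HenselPairE

/-!
# Uniqueness of lifts from unramified algebras, and consequences of étale lifting
-/

set_option autoImplicit false
universe u v w

namespace Groth.Agent.Lib.Helper4.HenselPair

open TensorProduct

/-- An idempotent in the Jacobson radical vanishes. -/
theorem eq_zero_of_isIdempotentElem_of_mem_jacobson {C : Type u} [CommRing C] {x : C}
    (hx : IsIdempotentElem x) (hj : x ∈ Ideal.jacobson (⊥ : Ideal C)) : x = 0 := by
  have hu := (Ideal.mem_jacobson_bot.mp hj) (-1)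
  have h0 : (x * -1 + 1) * x = 0 := by
    have := hx.eq
    linear_combination -this
  exact (hu.mul_right_eq_zero).mp h0

/-- Two algebra maps out of a finite type formally unramified algebra that agree modulo an ideal
in the Jacobson radical are equal. -/
theorem algHom_ext_of_unramified {R : Type u} {A : Type v} {C : Type w} [CommRing R] [CommRing A]
    [CommRing C] [Algebra R A] [Algebra R C] [Algebra.EssFiniteType R A]
    [Algebra.FormallyUnramified R A] (I : Ideal C) (hI : I ≤ Ideal.jacobson ⊥)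
    (f₁ f₂ : A →ₐ[R] C) (h : ∀ a, f₁ a - f₂ a ∈ I) : f₁ = f₂ := by
  obtain ⟨e, he, hsp⟩ : ∃ e, IsIdempotentElem e ∧ KaehlerDifferential.ideal R A = A ⊗[R] A ∙ e :=
    (Ideal.isIdempotentElem_iff_of_fg _ (KaehlerDifferential.ideal_fg R A)).mp <|
      (Ideal.cotangent_subsingleton_iff _).mp <| inferInstanceAs <| Subsingleton Ω[A⁄R]
  let φ : A ⊗[R] A →ₐ[R] C := Algebra.TensorProduct.lift f₁ f₂ (fun _ _ => Commute.all _ _)
  have hφ : ∀ a b, φ (a ⊗ₜ b) = f₁ a * f₂ b := fun a b => by simp [φ]
  have hle : KaehlerDifferential.ideal R A ≤ I.comap (φ : A ⊗[R] A →+* C) := by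
    rw [← KaehlerDifferential.span_range_eq_ideal, Ideal.span_le]
    rintro _ ⟨s, rfl⟩
    change φ _ ∈ I
    rw [map_sub, hφ, hφ, map_one, map_one, one_mul, mul_one]
    have := I.neg_mem (h s)
    rwa [neg_sub] at this
  have heI : φ e ∈ I := hle (by rw [hsp]; exact Ideal.mem_span_singleton_self e)
  have he0 : φ e = 0 :=
    eq_zero_of_isIdempotentElem_of_mem_jacobson (he.map φ) (hI heI)
  ext s
  have hs : (1 : A) ⊗ₜ[R] s - s ⊗ₜ[R] (1 : A) ∈ KaehlerDifferential.ideal R A :=
    KaehlerDifferential.one_smul_sub_smul_one_mem_ideal R s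
  rw [hsp] at hs
  obtain ⟨z, hz⟩ := Ideal.mem_span_singleton'.mp hs
  have := congrArg φ hz
  rw [map_mul, he0, mul_zero, map_sub, hφ, hφ, map_one, map_one, one_mul, mul_one] at this
  exact (sub_eq_zero.mp this.symm).symm

/-- Étale lifting, unique form. -/
theorem existsUnique_lift_of_etale {A : Type u} {A' : Type v} [CommRing A] [CommRing A']
    [Algebra A A'] [Algebra.Etale A A'] (I : Ideal A) [HenselianRing A I] (σ : A' →ₐ[A] A ⧸ I) :
    ∃! τ : A' →ₐ[A] A, (Ideal.Quotient.mkₐ A I).comp τ = σ := by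
  obtain ⟨τ, hτ⟩ := exists_lift_of_etale I σ
  refine ⟨τ, hτ, fun τ' hτ' => ?_⟩
  refine algHom_ext_of_unramified I HenselianRing.jac τ' τ fun a => ?_
  have h1 := congrArg (fun g => g a) (hτ'.trans hτ.symm)
  simp only [AlgHom.comp_apply] at h1
  rw [← Ideal.Quotient.eq_zero_iff_mem, map_sub, sub_eq_zero]
  exact h1

end Groth.Agent.Lib.Helper4.HenselPair
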