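import Mathlib
import Groth.Prelude.Def_EssEt
import Groth.Agent.Lib.Helper4.HenselPairU
import Groth.Agent.Lib.Helper4.HenselPairE

/-!
# Essentially étale local algebras (EGA IV 18.6)
-/

set_option autoImplicit false
universe u

namespace Groth.Agent.Lib.Helper4.EssEtale

open Groth.Agent.Lib.Helper4.HenselPair

variable {A B : Type u} [CommRing A] [IsLocalRing A] [CommRing B] [Algebra A B]

theorem essFiniteType (h : EGA4loc.IsEssentiallyEtale A B) : Algebra.EssFiniteType A B := by
  obtain ⟨C, _, _, q, hq, hC, hqA, ⟨e⟩⟩ := h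
  have h1 : Algebra.EssFiniteType A (Localization.AtPrime q) :=
    Algebra.EssFiniteType.comp A C (Localization.AtPrime q)
  exact (Algebra.EssFiniteType.iff_of_algEquiv e.symm).mp h1

theorem formallyEtale (h : EGA4loc.IsEssentiallyEtale A B) : Algebra.FormallyEtale A B := by
  obtain ⟨C, _, _, q, hq, hC, hqA, ⟨e⟩⟩ := h
  have h2 : Algebra.FormallyEtale C (Localization.AtPrime q) :=
    Algebra.FormallyEtale.of_isLocalization q.primeCompl
  have h3 : Algebra.FormallyEtale A (Localization.AtPrime q) :=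
    Algebra.FormallyEtale.comp A C (Localization.AtPrime q)
  exact Algebra.FormallyEtale.of_equiv e.symm

/-- Two `A`-algebra maps out of an essentially étale local algebra into a local ring which agree
modulo the maximal ideal are equal. -/
theorem algHom_ext {D : Type u} [CommRing D] [IsLocalRing D] [Algebra A D]
    (h : EGA4loc.IsEssentiallyEtale A B) (ψ ψ' : B →ₐ[A] D)
    (hres : ∀ x : B, ψ x - ψ' x ∈ IsLocalRing.maximalIdeal D) : ψ = ψ' := by
  have h1 := essFiniteType h
  have h2 := formallyEtale h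
  have hJ : IsLocalRing.maximalIdeal D ≤ Ideal.jacobson ⊥ := by
    rw [IsLocalRing.jacobson_eq_maximalIdeal ⊥ bot_ne_top]
  exact algHom_ext_of_unramified (IsLocalRing.maximalIdeal D) hJ ψ ψ' hres

/-- The maximal ideal of an essentially étale local algebra is generated by that of the base. -/
theorem map_maximalIdeal [IsLocalRing B] [IsLocalHom (algebraMap A B)]
    (h : EGA4loc.IsEssentiallyEtale A B) :
    (IsLocalRing.maximalIdeal A).map (algebraMap A B) = IsLocalRing.maximalIdeal B := by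
  have h1 := essFiniteType h
  have h2 := formallyEtale h
  exact Algebra.FormallyUnramified.map_maximalIdeal

/-- For a strictly essentially étale local algebra, every element is congruent to an element of
the base modulo `𝔪_A B`. -/
theorem exists_sub_mem [IsLocalRing B] [IsLocalHom (algebraMap A B)]
    (h : EGA4loc.IsStrictlyEssentiallyEtale A B) (x : B) :
    ∃ a : A, x - algebraMap A B a ∈ (IsLocalRing.maximalIdeal A).map (algebraMap A B) := by
  obtain ⟨y, hy⟩ := h.2.2 (IsLocalRing.residue B x)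
  obtain ⟨a, rfl⟩ := IsLocalRing.residue_surjective y
  refine ⟨a, ?_⟩
  rw [map_maximalIdeal h.1, ← IsLocalRing.residue_eq_zero_iff, map_sub, sub_eq_zero, ← hy]
  rfl

open scoped TensorProduct in
/-- **Lifting through essentially étale local algebras** (EGA IV 18.5.11 / 18.6.2): for a henselian
local `A`-algebra `B` and an essentially étale local `A`-algebra `A'`, every residue field map
`k(A') → k(B)` over `k(A)` is induced by an `A`-algebra map `A' → B`. -/
theorem exists_lift {A A' : Type u} [CommRing A] [IsLocalRing A] [CommRing A'] [IsLocalRing A']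
    [Algebra A A'] [IsLocalHom (algebraMap A A')] (hA' : EGA4loc.IsEssentiallyEtale A A')
    (B : Type u) [CommRing B] [HenselianLocalRing B] [Algebra A B] [IsLocalHom (algebraMap A B)]
    (α : IsLocalRing.ResidueField A' →+* IsLocalRing.ResidueField B)
    (hα : α.comp (IsLocalRing.ResidueField.map (algebraMap A A')) =
      IsLocalRing.ResidueField.map (algebraMap A B)) :
    ∃ ψ' : A' →ₐ[A] B, ∀ x : A', IsLocalRing.residue B (ψ' x) = α (IsLocalRing.residue A' x) := by
  obtain ⟨C, _, _, q, hq, hC, hqA, ⟨e⟩⟩ := hA'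
  -- the residue map on `C`
  let ρ : C →+* B ⧸ IsLocalRing.maximalIdeal B :=
    (α.comp ((IsLocalRing.residue A').comp
      ((e.symm : Localization.AtPrime q →+* A').comp (algebraMap C (Localization.AtPrime q)))) :
      C →+* IsLocalRing.ResidueField B)
  have hρ : ∀ c : C, ρ c = α (IsLocalRing.residue A' (e.symm (algebraMap C _ c))) := fun c => rfl
  let σ₀ : C →ₐ[A] B ⧸ IsLocalRing.maximalIdeal B :=
    { ρ with
      commutes' := fun a => by
        change ρ (algebraMap A C a) = _
        rw [hρ, ← IsScalarTower.algebraMap_apply A C (Localization.AtPrime q), e.symm.commutes]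
        have h1 : α (IsLocalRing.residue A' (algebraMap A A' a)) =
            (α.comp (IsLocalRing.ResidueField.map (algebraMap A A'))) (IsLocalRing.residue A a) :=
          rfl
        rw [h1, hα]
        rfl }
  have hσ₀ : ∀ c : C, σ₀ c = ρ c := fun c => rfl
  -- base change to `B` and lift
  let σ : B ⊗[A] C →ₐ[B] B ⧸ IsLocalRing.maximalIdeal B :=
    Algebra.TensorProduct.lift (Algebra.ofId B _) σ₀ (fun _ _ => Commute.all _ _)
  obtain ⟨τ, hτ⟩ := HenselPair.exists_lift_of_etale (IsLocalRing.maximalIdeal B) σ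
  let φ : C →ₐ[A] B := (τ.restrictScalars A).comp Algebra.TensorProduct.includeRight
  have hφ : ∀ c : C, Ideal.Quotient.mk (IsLocalRing.maximalIdeal B) (φ c) = ρ c := by
    intro c
    have h1 := congrArg (fun g => g ((1 : B) ⊗ₜ[A] c)) hτ
    simp only [AlgHom.comp_apply, σ, Algebra.TensorProduct.lift_tmul, map_one, one_mul] at h1
    exact h1
  -- elements outside `q` become units
  have hunit : ∀ y : q.primeCompl, IsUnit (φ y) := by
    rintro ⟨c, hc⟩
    have h1 : IsUnit (algebraMap C (Localization.AtPrime q) c) :=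
      IsLocalization.map_units (M := q.primeCompl) _ ⟨c, hc⟩
    have h2 : IsUnit (e.symm (algebraMap C (Localization.AtPrime q) c)) := h1.map e.symm
    have h3 : IsUnit (ρ c) := by
      rw [hρ]
      exact (h2.map (IsLocalRing.residue A')).map α
    rw [← hφ] at h3
    change IsUnit (φ c)
    by_contra hnu
    have h4 : φ c ∈ IsLocalRing.maximalIdeal B := (IsLocalRing.mem_maximalIdeal _).mpr hnu
    rw [Ideal.Quotient.eq_zero_iff_mem.mpr h4] at h3
    exact not_isUnit_zero h3
  let φL : Localization.AtPrime q →ₐ[A] B :=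
    IsLocalization.liftAlgHom (M := q.primeCompl) (f := φ) hunit
  have hφL : ∀ c : C, φL (algebraMap C _ c) = φ c := by
    intro c
    change IsLocalization.lift _ (algebraMap C _ c) = φ c
    rw [IsLocalization.lift_eq]
    rfl
  refine ⟨φL.comp e.toAlgHom, fun x => ?_⟩
  -- compare the two residue maps on the localization
  let r₁ : Localization.AtPrime q →+* IsLocalRing.ResidueField B :=
    (IsLocalRing.residue B).comp (φL : Localization.AtPrime q →+* B)
  let r₂ : Localization.AtPrime q →+* IsLocalRing.ResidueField B :=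
    α.comp ((IsLocalRing.residue A').comp (e.symm : Localization.AtPrime q →+* A'))
  have hr : r₁ = r₂ := by
    refine IsLocalization.ringHom_ext q.primeCompl ?_
    ext c
    change IsLocalRing.residue B (φL (algebraMap C _ c)) = _
    rw [hφL]
    exact hφ c
  have h1 := congrArg (fun g => g (e x)) hr
  change IsLocalRing.residue B (φL (e x)) = α (IsLocalRing.residue A' (e.symm (e x))) at h1
  rw [e.symm_apply_apply] at h1
  exact h1

/-- The character `C → k(A)` attached to a strictly essentially étale local algebra presented as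
`C_q`. -/
theorem exists_character {A A₁ : Type u} [CommRing A] [IsLocalRing A] [CommRing A₁] [IsLocalRing A₁]
    [Algebra A A₁] [IsLocalHom (algebraMap A A₁)]
    (h : EGA4loc.IsStrictlyEssentiallyEtale A A₁) :
    ∃ (C : Type u) (_ : CommRing C) (_ : Algebra A C) (q : Ideal C) (_ : q.IsPrime),
      Algebra.Etale A C ∧ Nonempty (A₁ ≃ₐ[A] Localization.AtPrime q) ∧
      ∃ χ : C →ₐ[A] IsLocalRing.ResidueField A, ∀ c, χ c = 0 ↔ c ∈ q := by
  obtain ⟨⟨C, _, _, q, hq, hC, hqA, ⟨e⟩⟩, hbij⟩ := h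
  refine ⟨C, _, _, q, hq, hC, ⟨e⟩, ?_⟩
  let κe := RingEquiv.ofBijective (IsLocalRing.ResidueField.map (algebraMap A A₁)) hbij
  let ρ : C →+* IsLocalRing.ResidueField A :=
    (κe.symm : IsLocalRing.ResidueField A₁ →+* IsLocalRing.ResidueField A).comp
      ((IsLocalRing.residue A₁).comp
        ((e.symm : Localization.AtPrime q →+* A₁).comp (algebraMap C (Localization.AtPrime q))))
  have hρ : ∀ c : C, ρ c = κe.symm (IsLocalRing.residue A₁ (e.symm (algebraMap C _ c))) :=
    fun c => rfl
  let χ : C →ₐ[A] IsLocalRing.ResidueField A :=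
    { ρ with
      commutes' := fun a => by
        change ρ (algebraMap A C a) = _
        rw [hρ, ← IsScalarTower.algebraMap_apply A C (Localization.AtPrime q), e.symm.commutes]
        have h1 : IsLocalRing.residue A₁ (algebraMap A A₁ a) = κe (IsLocalRing.residue A a) := rfl
        rw [h1, κe.symm_apply_apply]
        rfl }
  refine ⟨χ, fun c => ?_⟩
  change ρ c = 0 ↔ _
  rw [hρ, map_eq_zero_iff _ κe.symm.injective, IsLocalRing.residue_eq_zero_iff]
  constructor
  · intro hmem
    by_contra hc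
    have h1 : IsUnit (algebraMap C (Localization.AtPrime q) c) :=
      IsLocalization.map_units (M := q.primeCompl) _ ⟨c, hc⟩
    have h2 : IsUnit (e.symm (algebraMap C (Localization.AtPrime q) c)) := h1.map e.symm
    exact (IsLocalRing.mem_maximalIdeal _).mp hmem h2
  · intro hc
    rw [IsLocalRing.mem_maximalIdeal, mem_nonunits_iff]
    intro hu
    have h1 : IsUnit (e (e.symm (algebraMap C (Localization.AtPrime q) c))) := hu.map e
    rw [e.apply_symm_apply] at h1
    exact (IsLocalization.AtPrime.isUnit_to_map_iff (Localization.AtPrime q) q c).mp h1 hc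

open scoped TensorProduct in
/-- Strictly essentially étale local algebras form a filtered system (EGA IV 18.6.3). -/
theorem exists_dominating {A A₁ A₂ : Type u} [CommRing A] [IsLocalRing A]
    [CommRing A₁] [IsLocalRing A₁] [Algebra A A₁] [IsLocalHom (algebraMap A A₁)]
    [CommRing A₂] [IsLocalRing A₂] [Algebra A A₂] [IsLocalHom (algebraMap A A₂)]
    (h₁ : EGA4loc.IsStrictlyEssentiallyEtale A A₁) (h₂ : EGA4loc.IsStrictlyEssentiallyEtale A A₂) :
    ∃ (A₃ : Type u) (_ : CommRing A₃) (_ : IsLocalRing A₃) (_ : Algebra A A₃)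
      (_ : IsLocalHom (algebraMap A A₃)),
      EGA4loc.IsStrictlyEssentiallyEtale A A₃ ∧ Nonempty (A₁ →ₐ[A] A₃) ∧ Nonempty (A₂ →ₐ[A] A₃) := by
  obtain ⟨C₁, _, _, q₁, hq₁, hC₁, ⟨e₁⟩, χ₁, hχ₁⟩ := exists_character h₁
  obtain ⟨C₂, _, _, q₂, hq₂, hC₂, ⟨e₂⟩, χ₂, hχ₂⟩ := exists_character h₂
  have hC₃ : Algebra.Etale A (C₁ ⊗[A] C₂) := Algebra.Etale.comp A C₁ (C₁ ⊗[A] C₂)
  let χ : C₁ ⊗[A] C₂ →ₐ[A] IsLocalRing.ResidueField A :=
    Algebra.TensorProduct.lift χ₁ χ₂ (fun _ _ => Commute.all _ _)
  let q₃ : Ideal (C₁ ⊗[A] C₂) := RingHom.ker (χ : C₁ ⊗[A] C₂ →+* IsLocalRing.ResidueField A)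
  have hq₃ : q₃.IsPrime := RingHom.ker_isPrime _
  have hmem₃ : ∀ c, c ∈ q₃ ↔ χ c = 0 := fun c => Iff.rfl
  have hlies : q₃.comap (algebraMap A (C₁ ⊗[A] C₂)) = IsLocalRing.maximalIdeal A := by
    ext a
    rw [Ideal.mem_comap, hmem₃, χ.commutes, ← IsLocalRing.residue_eq_zero_iff]
    rfl
  let A₃ := Localization.AtPrime q₃
  have hloc : IsLocalHom (algebraMap A A₃) := by
    constructor
    intro a ha
    by_contra hna
    have h1 : a ∈ IsLocalRing.maximalIdeal A := (IsLocalRing.mem_maximalIdeal a).mpr hna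
    rw [← hlies, Ideal.mem_comap] at h1
    have h2 : algebraMap (C₁ ⊗[A] C₂) A₃ (algebraMap A (C₁ ⊗[A] C₂) a) ∈
        IsLocalRing.maximalIdeal A₃ :=
      (IsLocalization.AtPrime.to_map_mem_maximal_iff A₃ q₃ _).mpr h1
    rw [← IsScalarTower.algebraMap_apply A (C₁ ⊗[A] C₂) A₃] at h2
    exact (IsLocalRing.mem_maximalIdeal _).mp h2 ha
  -- the character on the localization
  have hχunit : ∀ y : q₃.primeCompl, IsUnit ((χ : C₁ ⊗[A] C₂ →+* IsLocalRing.ResidueField A) y) := by
    rintro ⟨c, hc⟩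
    exact isUnit_iff_ne_zero.mpr fun h0 => hc ((hmem₃ c).mpr h0)
  let χ' : A₃ →+* IsLocalRing.ResidueField A := IsLocalization.lift (M := q₃.primeCompl) hχunit
  have hχ' : ∀ c, χ' (algebraMap (C₁ ⊗[A] C₂) A₃ c) = χ c := fun c => IsLocalization.lift_eq _ _
  have hχ'loc : IsLocalHom χ' := by
    constructor
    intro x hx
    by_contra hnu
    have hxm : x ∈ IsLocalRing.maximalIdeal A₃ := (IsLocalRing.mem_maximalIdeal x).mpr hnu
    obtain ⟨c, s, rfl⟩ := IsLocalization.exists_mk'_eq q₃.primeCompl x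
    have hc : c ∈ q₃ := (IsLocalization.AtPrime.mk'_mem_maximal_iff A₃ q₃ c s).mp hxm
    have h1 : χ' (IsLocalization.mk' A₃ c s) * χ' (algebraMap _ A₃ (s : C₁ ⊗[A] C₂)) = χ c := by
      rw [← map_mul, IsLocalization.mk'_spec, hχ']
    rw [(hmem₃ c).mp hc] at h1
    have h2 : IsUnit (χ' (algebraMap _ A₃ (s : C₁ ⊗[A] C₂))) := by
      rw [hχ']
      exact hχunit s
    exact not_isUnit_zero (h1 ▸ hx.mul h2)
  let β : IsLocalRing.ResidueField A₃ →+* IsLocalRing.ResidueField A :=
    IsLocalRing.ResidueField.lift χ'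
  have hβ : ∀ y : IsLocalRing.ResidueField A,
      β (IsLocalRing.ResidueField.map (algebraMap A A₃) y) = y := by
    intro y
    obtain ⟨a, rfl⟩ := IsLocalRing.residue_surjective y
    change χ' (algebraMap A A₃ a) = _
    rw [IsScalarTower.algebraMap_apply A (C₁ ⊗[A] C₂) A₃, hχ', χ.commutes]
    rfl
  have hbij : Function.Bijective (IsLocalRing.ResidueField.map (algebraMap A A₃)) := by
    refine ⟨RingHom.injective _, fun y => ⟨β y, ?_⟩⟩
    apply β.injective
    rw [hβ]
  refine ⟨A₃, inferInstance, inferInstance, inferInstance, hloc,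
    ⟨⟨C₁ ⊗[A] C₂, inferInstance, inferInstance, q₃, hq₃, hC₃, hlies, ⟨AlgEquiv.refl⟩⟩, hbij⟩, ?_, ?_⟩
  · have hu : ∀ y : q₁.primeCompl, IsUnit (((IsScalarTower.toAlgHom A (C₁ ⊗[A] C₂) A₃).comp
        Algebra.TensorProduct.includeLeft : C₁ →ₐ[A] A₃) y) := by
      rintro ⟨c, hc⟩
      change IsUnit (algebraMap (C₁ ⊗[A] C₂) A₃ (c ⊗ₜ[A] (1 : C₂)))
      refine IsLocalization.map_units (M := q₃.primeCompl) _ ⟨c ⊗ₜ[A] (1 : C₂), ?_⟩
      change ¬ (c ⊗ₜ[A] (1 : C₂) ∈ q₃)
      rw [hmem₃]
      change ¬ (Algebra.TensorProduct.lift χ₁ χ₂ _ (c ⊗ₜ[A] (1 : C₂)) = 0)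
      rw [Algebra.TensorProduct.lift_tmul, map_one, mul_one, hχ₁]
      exact hc
    exact ⟨(IsLocalization.liftAlgHom (M := q₁.primeCompl) hu).comp e₁.toAlgHom⟩
  · have hu : ∀ y : q₂.primeCompl, IsUnit (((IsScalarTower.toAlgHom A (C₁ ⊗[A] C₂) A₃).comp
        Algebra.TensorProduct.includeRight : C₂ →ₐ[A] A₃) y) := by
      rintro ⟨c, hc⟩
      change IsUnit (algebraMap (C₁ ⊗[A] C₂) A₃ ((1 : C₁) ⊗ₜ[A] c))
      refine IsLocalization.map_units (M := q₃.primeCompl) _ ⟨(1 : C₁) ⊗ₜ[A] c, ?_⟩
      change ¬ ((1 : C₁) ⊗ₜ[A] c ∈ q₃)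
      rw [hmem₃]
      change ¬ (Algebra.TensorProduct.lift χ₁ χ₂ _ ((1 : C₁) ⊗ₜ[A] c) = 0)
      rw [Algebra.TensorProduct.lift_tmul, map_one, one_mul, hχ₂]
      exact hc
    exact ⟨(IsLocalization.liftAlgHom (M := q₂.primeCompl) hu).comp e₂.toAlgHom⟩

end Groth.Agent.Lib.Helper4.EssEtale
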