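import Mathlib
import Groth.Prelude.Def_Hensel
import Groth.Agent.Lib.Helper4.HznLim
import Groth.Agent.Lib.Helper4.HznRoot

/-!
# Directed colimits of local algebras: henselian colimits (abstract form)
-/

set_option autoImplicit false
set_option linter.unusedSectionVars false
universe u

namespace Groth.Agent.Lib.Helper4.Hzn

open IsLocalRing Polynomial

section

variable {R : Type u} [CommRing R] [IsLocalRing R] {ι : Type u} [Preorder ι] [IsDirectedOrder ι]
  [Nonempty ι] {G : ι → Type u} [∀ i, CommRing (G i)] [∀ i, Algebra R (G i)]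
  [∀ i, IsLocalRing (G i)]
  (f : ∀ i j, i ≤ j → G i →ₐ[R] G j) [DirectedSystem G (f · · ·)]

local notation "L" => DirectLimit G f
local notation "ofL" => DirectLimit.Algebra.of G f

theorem isLocalHom_algebraMap_directLimit (h1 : ∀ i, IsLocalHom (algebraMap R (G i)))
    (h2 : ∀ i j h, IsLocalHom (f i j h)) :
    @IsLocalHom _ _ _ _ _ _ (algebraMap R L) := by
  have := isLocalRing_directLimit f
  constructor
  intro a ha
  obtain ⟨i⟩ := (inferInstance : Nonempty ι)
  rw [← (ofL i).commutes a] at ha
  have := isLocalHom_of f h2 i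
  have h3 : IsUnit (algebraMap R (G i) a) := isUnit_of_map_unit (ofL i) _ ha
  have := h1 i
  exact isUnit_of_map_unit (algebraMap R (G i)) a h3

theorem of_mem_maximalIdeal_iff (h2 : ∀ i j h, IsLocalHom (f i j h)) (i : ι) (x : G i) :
    ofL i x ∈ @maximalIdeal L _ (isLocalRing_directLimit f) ↔ x ∈ maximalIdeal (G i) := by
  have := isLocalRing_directLimit f
  have := isLocalHom_of f h2 i
  rw [mem_maximalIdeal, mem_maximalIdeal, mem_nonunits_iff, mem_nonunits_iff, not_iff_not]
  exact ⟨fun h => isUnit_of_map_unit (ofL i) x h, fun h => h.map _⟩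

theorem henselian_directLimit (h2 : ∀ i j h, IsLocalHom (f i j h))
    (H3 : ∀ (i : ι) (p : (G i)[X]), p.Monic → p.coeff 0 ∈ maximalIdeal (G i) →
      IsUnit (p.coeff 1) → ∃ (j : ι) (h : i ≤ j) (b : G j),
        b ∈ maximalIdeal (G j) ∧ p.eval₂ (f i j h : G i →+* G j) b = 0) :
    HenselianLocalRing L := by
  have := isLocalRing_directLimit f
  refine henselianLocalRing_of_root_at_zero L fun p hp h0 h1 => ?_
  classical
  set n := p.natDegree with hn
  obtain ⟨i, y, hy⟩ := exists_of_finite f (fun m : Fin (n + 1) => p.coeff m)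
  have hlift : p ∈ lifts (ofL i : G i →+* L) := by
    rw [lifts_iff_coeff_lifts]
    intro m
    by_cases hm : m < n + 1
    · exact ⟨y ⟨m, hm⟩, (hy ⟨m, hm⟩).symm⟩
    · refine ⟨0, ?_⟩
      rw [coeff_eq_zero_of_natDegree_lt (by omega), map_zero]
  obtain ⟨pi, hpimap, -, hpim⟩ := lifts_and_natDegree_eq_and_monic hlift hp
  have hcoeff : ∀ m, ofL i (pi.coeff m) = p.coeff m := by
    intro m
    rw [← hpimap, coeff_map]
    rfl
  have h0i : pi.coeff 0 ∈ maximalIdeal (G i) := by
    rw [← of_mem_maximalIdeal_iff f h2, hcoeff]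
    exact h0
  have h1i : IsUnit (pi.coeff 1) := by
    have := isLocalHom_of f h2 i
    refine isUnit_of_map_unit (ofL i) _ ?_
    rw [hcoeff]
    exact h1
  obtain ⟨j, hij, b, hb, hroot⟩ := H3 i pi hpim h0i h1i
  refine ⟨ofL j b, ?_, ?_⟩
  · rw [of_mem_maximalIdeal_iff f h2]
    exact hb
  · rw [IsRoot.def, ← hpimap, eval_map]
    have hcomp : (ofL i : G i →+* L) = (ofL j : G j →+* L).comp (f i j hij : G i →+* G j) := by
      ext x
      exact (of_f' f hij x).symm
    rw [hcomp]
    change eval₂ ((ofL j : G j →+* L).comp (f i j hij : G i →+* G j))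
      ((ofL j : G j →+* L) b) pi = 0
    rw [← hom_eval₂, hroot, map_zero]

theorem map_maximalIdeal_directLimit (h2 : ∀ i j h, IsLocalHom (f i j h))
    (hm : ∀ i, (maximalIdeal R).map (algebraMap R (G i)) = maximalIdeal (G i)) :
    (maximalIdeal R).map (algebraMap R L) = @maximalIdeal L _ (isLocalRing_directLimit f) := by
  have := isLocalRing_directLimit f
  apply le_antisymm
  · rw [Ideal.map_le_iff_le_comap]
    intro a ha
    obtain ⟨i⟩ := (inferInstance : Nonempty ι)
    rw [Ideal.mem_comap, ← (ofL i).commutes a, of_mem_maximalIdeal_iff f h2, ← hm i]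
    exact Ideal.mem_map_of_mem _ ha
  · intro z hz
    obtain ⟨i, x, rfl⟩ := DirectLimit.exists_eq_mk f z
    change ofL i x ∈ _ at hz
    rw [of_mem_maximalIdeal_iff f h2, ← hm i] at hz
    have h3 : (ofL i : G i →+* L).comp (algebraMap R (G i)) = algebraMap R L := by
      ext a
      exact (ofL i).commutes a
    change ofL i x ∈ _
    rw [← h3, ← Ideal.map_map]
    exact Ideal.mem_map_of_mem (ofL i : G i →+* L) hz

theorem exists_sub_mem_directLimit (h2 : ∀ i j h, IsLocalHom (f i j h))
    (hres : ∀ i (x : G i), ∃ a : R, x - algebraMap R (G i) a ∈ maximalIdeal (G i)) (z : L) :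
    ∃ a : R, z - algebraMap R L a ∈ @maximalIdeal L _ (isLocalRing_directLimit f) := by
  obtain ⟨i, x, rfl⟩ := DirectLimit.exists_eq_mk f z
  obtain ⟨a, ha⟩ := hres i x
  refine ⟨a, ?_⟩
  change ofL i x - _ ∈ _
  rw [← (ofL i).commutes a, ← map_sub, of_mem_maximalIdeal_iff f h2]
  exact ha

theorem algHom_directLimit (T : Type*) [CommRing T] [Algebra R T]
    (hne : ∀ i, Nonempty (G i →ₐ[R] T)) (hss : ∀ i, Subsingleton (G i →ₐ[R] T)) :
    Nonempty (L →ₐ[R] T) ∧ Subsingleton (L →ₐ[R] T) := by
  constructor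
  · let g : ∀ i, G i →ₐ[R] T := fun i => Classical.choice (hne i)
    refine ⟨DirectLimit.Algebra.lift G f T g fun i j hij x => ?_⟩
    have : (g j).comp (f i j hij) = g i := (hss i).elim _ _
    exact congrArg (fun ψ => ψ x) this
  · constructor
    intro a b
    apply DirectLimit.Algebra.hom_ext
    intro i
    exact (hss i).elim _ _

end

/-- Packaging the universal property. -/
theorem isHenselization_of {R : Type u} [CommRing R] [IsLocalRing R] (S : Type u) [CommRing S]
    [IsLocalRing S] [Algebra R S] [IsLocalHom (algebraMap R S)] (hh : HenselianLocalRing S)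
    (hu : ∀ (T : Type u) [CommRing T] [HenselianLocalRing T] [Algebra R T]
      [IsLocalHom (algebraMap R T)], Nonempty (S →ₐ[R] T) ∧ Subsingleton (S →ₐ[R] T)) :
    Hensel.IsHenselization R S where
  henselian := hh
  universal T _ _ g hg := by
    let _ : Algebra R T := g.toAlgebra
    have hloc : IsLocalHom (algebraMap R T) := hg
    obtain ⟨⟨ψ⟩, hss⟩ := hu T
    refine ⟨ψ.toRingHom, ?_, ?_⟩
    · ext a
      exact ψ.commutes a
    · intro φ hφ
      let φ' : S →ₐ[R] T :=
        { φ with
          commutes' := fun a => by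
            have := congrArg (fun g => g a) hφ
            exact this }
      have : φ' = ψ := hss.elim _ _
      ext x
      exact congrArg (fun g => g x) this

end Groth.Agent.Lib.Helper4.Hzn
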