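import Mathlib
import Groth.Prelude.Def_Hensel
import Groth.Agent.Lib.Helper4.HznLoc
import Groth.Agent.Lib.Helper4.HznRoot
import Groth.Agent.Lib.Helper4.HznLim
import Groth.Agent.Lib.Helper4.HznAbs

/-!
# The henselization of a local ring as a directed colimit of étale neighbourhoods
-/

set_option autoImplicit false
universe u

namespace Groth.Agent.Lib.Helper4.Hzn

open IsLocalRing

section Maps

variable {R : Type u} [CommRing R] [IsLocalRing R]
variable {E : Type u} [CommRing E] [Algebra R E] [Algebra.Etale R E] (χ : E →ₐ[R] ResidueField R)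

/-- `R`-algebra maps out of `Loc χ` into local `R`-algebras send the maximal ideal into the
maximal ideal. -/
theorem algHom_mem_maximalIdeal {D : Type*} [CommRing D] [IsLocalRing D] [Algebra R D]
    [IsLocalHom (algebraMap R D)] (ψ : Loc χ →ₐ[R] D) {x : Loc χ}
    (hx : x ∈ maximalIdeal (Loc χ)) : ψ x ∈ maximalIdeal D := by
  rw [← map_maximalIdeal_loc χ] at hx
  have hle : (maximalIdeal R).map (algebraMap R (Loc χ)) ≤
      (maximalIdeal D).comap (ψ : Loc χ →+* D) := by
    rw [Ideal.map_le_iff_le_comap]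
    intro a ha
    rw [Ideal.mem_comap, Ideal.mem_comap]
    show ψ (algebraMap R (Loc χ) a) ∈ maximalIdeal D
    rw [ψ.commutes]
    rw [mem_maximalIdeal, mem_nonunits_iff] at ha ⊢
    exact fun h => ha (isUnit_of_map_unit (algebraMap R D) a h)
  exact hle hx

theorem isLocalHom_algHom {D : Type*} [CommRing D] [IsLocalRing D] [Algebra R D]
    [IsLocalHom (algebraMap R D)] (ψ : Loc χ →ₐ[R] D) : IsLocalHom ψ := by
  constructor
  intro x hx
  by_contra hnu
  have h1 : x ∈ maximalIdeal (Loc χ) := (mem_maximalIdeal x).mpr hnu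
  exact (mem_maximalIdeal _).mp (algHom_mem_maximalIdeal χ ψ h1) hx

theorem algHom_subsingleton {D : Type u} [CommRing D] [IsLocalRing D] [Algebra R D]
    [IsLocalHom (algebraMap R D)] : Subsingleton (Loc χ →ₐ[R] D) := by
  constructor
  intro ψ ψ'
  refine EssEtale.algHom_ext (see χ).1 ψ ψ' fun x => ?_
  obtain ⟨a, ha⟩ := exists_sub_mem_maximalIdeal χ x
  have h1 := algHom_mem_maximalIdeal χ ψ ha
  have h2 := algHom_mem_maximalIdeal χ ψ' ha
  have h4 : ψ x - ψ' x = ψ (x - algebraMap R (Loc χ) a) - ψ' (x - algebraMap R (Loc χ) a) := by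
    simp
  rw [h4]
  exact Ideal.sub_mem _ h1 h2

theorem exists_algHom_henselian (T : Type u) [CommRing T] [HenselianLocalRing T] [Algebra R T]
    [IsLocalHom (algebraMap R T)] : Nonempty (Loc χ →ₐ[R] T) := by
  let κe := RingEquiv.ofBijective (ResidueField.map (algebraMap R (Loc χ)))
    (bijective_residueField_map χ)
  let α : ResidueField (Loc χ) →+* ResidueField T :=
    (ResidueField.map (algebraMap R T)).comp
      (κe.symm : ResidueField (Loc χ) →+* ResidueField R)
  have hα : α.comp (ResidueField.map (algebraMap R (Loc χ))) =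
      ResidueField.map (algebraMap R T) := by
    ext y
    change ResidueField.map (algebraMap R T) (κe.symm (κe y)) = _
    rw [κe.symm_apply_apply]
  obtain ⟨ψ', -⟩ := EssEtale.exists_lift (see χ).1 T α hα
  exact ⟨ψ'⟩

end Maps

section Index

variable (R : Type u) [CommRing R] [IsLocalRing R]

/-- A small index type of étale neighbourhoods: quotients of polynomial rings together with a
`k`-point. -/
def Idx : Type u :=
  Σ n : ℕ, {p : Ideal (MvPolynomial (Fin n) R) × (Fin n → ResidueField R) //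
    Algebra.Etale R (MvPolynomial (Fin n) R ⧸ p.1) ∧ ∀ g ∈ p.1, MvPolynomial.aeval p.2 g = 0}

variable {R}

namespace Idx

variable (i : Idx R)

/-- The étale algebra of an index. -/
abbrev C : Type u := MvPolynomial (Fin i.1) R ⧸ i.2.1.1

instance : Algebra.Etale R i.C := i.2.2.1

/-- The character of an index. -/
noncomputable def χ : i.C →ₐ[R] ResidueField R :=
  Ideal.Quotient.liftₐ i.2.1.1 (MvPolynomial.aeval i.2.1.2) i.2.2.2

/-- The local ring of an index (kept opaque to the unifier). -/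
def G : Type u := Loc i.χ

noncomputable instance : CommRing i.G := inferInstanceAs (CommRing (Loc i.χ))
noncomputable instance : Algebra R i.G := inferInstanceAs (Algebra R (Loc i.χ))
instance : IsLocalRing i.G := inferInstanceAs (IsLocalRing (Loc i.χ))
instance : IsLocalHom (algebraMap R i.G) := isLocalHom_algebraMap_loc i.χ

/-- The identification of `i.G` with the local ring of the character. -/
noncomputable def toLoc : i.G ≃ₐ[R] Loc i.χ := AlgEquiv.refl

theorem toLoc_mem_maximalIdeal_iff (x : i.G) :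
    i.toLoc x ∈ maximalIdeal (Loc i.χ) ↔ x ∈ maximalIdeal i.G := Iff.rfl

end Idx

/-- Every étale neighbourhood maps to one in the small index type. -/
theorem exists_index {E : Type u} [CommRing E] [Algebra R E] [Algebra.Etale R E]
    (χ : E →ₐ[R] ResidueField R) : ∃ i : Idx R, Nonempty (Loc χ →ₐ[R] i.G) := by
  obtain ⟨n, π, hπ, -⟩ := (inferInstance : Algebra.FinitePresentation R E).out
  let J : Ideal (MvPolynomial (Fin n) R) := RingHom.ker π.toRingHom
  let e : (MvPolynomial (Fin n) R ⧸ J) ≃ₐ[R] E := Ideal.quotientKerAlgEquivOfSurjective hπ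
  have het : Algebra.Etale R (MvPolynomial (Fin n) R ⧸ J) := Algebra.Etale.of_equiv e.symm
  let x : Fin n → ResidueField R := fun v => χ (π (MvPolynomial.X v))
  have hx : ∀ g : MvPolynomial (Fin n) R, MvPolynomial.aeval x g = χ (π g) := by
    intro g
    have : MvPolynomial.aeval x = χ.comp π := by
      apply MvPolynomial.algHom_ext
      intro v
      simp [x]
    rw [this]
    rfl
  have hJ : ∀ g ∈ J, MvPolynomial.aeval x g = 0 := by
    intro g hg
    rw [hx]
    have : π g = 0 := hg
    rw [this, map_zero]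
  let i : Idx R := ⟨n, ⟨(J, x), het, hJ⟩⟩
  refine ⟨i, ⟨locMap χ i.χ e.symm.toAlgHom ?_⟩⟩
  intro c
  obtain ⟨p, rfl⟩ := hπ c
  have h1 : e.symm (π p) = Ideal.Quotient.mk J p := by
    rw [AlgEquiv.symm_apply_eq]
    rfl
  show i.χ (e.symm (π p)) = χ (π p)
  rw [h1, ← hx]
  rfl

noncomputable instance : Preorder (Idx R) where
  le i j := Nonempty (i.G →ₐ[R] j.G)
  le_refl i := ⟨AlgHom.id R _⟩
  le_trans _ _ _ := fun ⟨a⟩ ⟨b⟩ => ⟨b.comp a⟩

theorem Idx.le_def (i j : Idx R) : i ≤ j ↔ Nonempty (i.G →ₐ[R] j.G) := Iff.rfl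

instance (i j : Idx R) : Subsingleton (i.G →ₐ[R] j.G) := algHom_subsingleton i.χ

instance : Nonempty (Idx R) := by
  obtain ⟨i, -⟩ := exists_index (IsScalarTower.toAlgHom R R (ResidueField R))
  exact ⟨i⟩

open scoped TensorProduct in
theorem exists_index_tensor {E₁ E₂ : Type u} [CommRing E₁] [Algebra R E₁] [Algebra.Etale R E₁]
    [CommRing E₂] [Algebra R E₂] [Algebra.Etale R E₂]
    (χ₁ : E₁ →ₐ[R] ResidueField R) (χ₂ : E₂ →ₐ[R] ResidueField R) :
    ∃ k : Idx R, Nonempty (Loc χ₁ →ₐ[R] k.G) ∧ Nonempty (Loc χ₂ →ₐ[R] k.G) := by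
  have hC₃ : Algebra.Etale R (E₁ ⊗[R] E₂) := Algebra.Etale.comp R E₁ (E₁ ⊗[R] E₂)
  let χ : E₁ ⊗[R] E₂ →ₐ[R] ResidueField R :=
    Algebra.TensorProduct.lift χ₁ χ₂ (fun _ _ => Commute.all _ _)
  obtain ⟨k, ⟨θ⟩⟩ := exists_index (E := E₁ ⊗[R] E₂) χ
  have h1 : ∀ c, χ ((Algebra.TensorProduct.includeLeft : E₁ →ₐ[R] E₁ ⊗[R] E₂) c) = χ₁ c := by
    intro c
    simp [χ]
  have h2 : ∀ c, χ ((Algebra.TensorProduct.includeRight : E₂ →ₐ[R] E₁ ⊗[R] E₂) c) = χ₂ c := by
    intro c
    simp [χ]
  exact ⟨k, ⟨θ.comp (locMap χ₁ χ _ h1)⟩, ⟨θ.comp (locMap χ₂ χ _ h2)⟩⟩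

instance : IsDirectedOrder (Idx R) where
  directed i j := by
    obtain ⟨k, h1, h2⟩ := exists_index_tensor i.χ j.χ
    exact ⟨k, h1, h2⟩

/-- The transition maps. -/
noncomputable def tr (i j : Idx R) (h : i ≤ j) : i.G →ₐ[R] j.G := Classical.choice h

instance : DirectedSystem (fun i : Idx R => i.G) (fun i j h => (tr i j h : i.G → j.G)) where
  map_self i x := by
    have : tr i i le_rfl = AlgHom.id R _ := Subsingleton.elim _ _
    rw [this]
    rfl
  map_map k j i hij hjk x := by
    have : (tr j k hjk).comp (tr i j hij) = tr i k (hij.trans hjk) := Subsingleton.elim _ _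
    rw [← this]
    rfl

end Index

variable (R : Type u) [CommRing R] [IsLocalRing R]

/-- The henselization of a local ring. -/
abbrev Hz : Type u := DirectLimit (fun i : Idx R => i.G) (fun i j h => tr i j h)

noncomputable example : CommRing (Hz R) := inferInstance
noncomputable example : Algebra R (Hz R) := inferInstance

end Groth.Agent.Lib.Helper4.Hzn
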