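import Mathlib
import Groth.Prelude.Def_Hensel
import Groth.Agent.Lib.Helper4.HznDef

/-!
# The colimit of étale neighbourhoods is a henselization
-/

set_option autoImplicit false
universe u

namespace Groth.Agent.Lib.Helper4.Hzn

open IsLocalRing Polynomial

variable (R : Type u) [CommRing R] [IsLocalRing R]

theorem tr_isLocalHom (i j : Idx R) (h : i ≤ j) : IsLocalHom (tr i j h) :=
  isLocalHom_algHom i.χ (tr i j h)

instance Hz.isLocalRing : IsLocalRing (Hz R) :=
  isLocalRing_directLimit (fun i j h => tr i j h)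

instance Hz.isLocalHom_algebraMap : IsLocalHom (algebraMap R (Hz R)) :=
  isLocalHom_algebraMap_directLimit (fun i j h => tr i j h) (fun _ => inferInstance)
    (tr_isLocalHom R)

theorem root_adjunction (i : Idx R) (p : (i.G)[X]) (hp : p.Monic)
    (h0 : p.coeff 0 ∈ maximalIdeal i.G) (h1 : IsUnit (p.coeff 1)) :
    ∃ (j : Idx R) (h : i ≤ j) (b : j.G),
      b ∈ maximalIdeal j.G ∧ p.eval₂ (tr i j h : i.G →+* j.G) b = 0 := by
  obtain ⟨E', _, _, _, χ', φ₀, b, hb, hroot⟩ := exists_root_adjunction i.χ p hp h0 h1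
  let φ : i.G →ₐ[R] Loc χ' := φ₀
  obtain ⟨k, ⟨θ⟩⟩ := exists_index χ'
  let ψ : i.G →ₐ[R] k.G := θ.comp φ
  have hik : i ≤ k := ⟨ψ⟩
  have hψ : tr i k hik = ψ := Subsingleton.elim _ _
  refine ⟨k, hik, θ b, algHom_mem_maximalIdeal χ' θ hb, ?_⟩
  rw [hψ]
  change eval₂ ((θ : Loc χ' →+* k.G).comp (φ : i.G →+* Loc χ')) ((θ : Loc χ' →+* k.G) b) p = 0
  rw [← hom_eval₂]
  have : eval₂ (φ : i.G →+* Loc χ') b p = 0 := hroot
  rw [this, map_zero]

instance Hz.henselian : HenselianLocalRing (Hz R) :=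
  henselian_directLimit (fun i j h => tr i j h) (tr_isLocalHom R) (root_adjunction R)

theorem Hz.algHom (T : Type u) [CommRing T] [HenselianLocalRing T] [Algebra R T]
    [IsLocalHom (algebraMap R T)] : Nonempty (Hz R →ₐ[R] T) ∧ Subsingleton (Hz R →ₐ[R] T) :=
  algHom_directLimit (fun i j h => tr i j h) T (fun i => exists_algHom_henselian i.χ T)
    (fun i => algHom_subsingleton i.χ)

instance Hz.isHenselization : Hensel.IsHenselization R (Hz R) :=
  isHenselization_of (Hz R) (Hz.henselian R) (fun T _ _ _ _ => Hz.algHom R T)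

theorem Hz.map_maximalIdeal :
    (maximalIdeal R).map (algebraMap R (Hz R)) = maximalIdeal (Hz R) :=
  map_maximalIdeal_directLimit (fun i j h => tr i j h) (tr_isLocalHom R)
    (fun i => map_maximalIdeal_loc i.χ)

theorem Hz.exists_sub_mem (z : Hz R) :
    ∃ a : R, z - algebraMap R (Hz R) a ∈ maximalIdeal (Hz R) :=
  exists_sub_mem_directLimit (fun i j h => tr i j h) (tr_isLocalHom R)
    (fun i x => exists_sub_mem_maximalIdeal i.χ x) z

instance Hz.flat : Module.Flat R (Hz R) := by
  have : ∀ i : Idx R, Module.Flat R i.G := fun i => by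
    have h1 : Module.Flat i.C (Loc i.χ) := IsLocalization.flat _ (cker i.χ).primeCompl
    exact Module.Flat.trans R i.C (Loc i.χ)
  exact flat_directLimit (fun i j h => tr i j h)

end Groth.Agent.Lib.Helper4.Hzn
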