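import Mathlib
import Groth.Prelude.Def_Hensel
import Groth.Agent.Lib.Helper4.HznHens

/-!
# Uniqueness of the henselization and its basic properties
-/

set_option autoImplicit false
set_option linter.unusedSectionVars false
universe u

namespace Groth.Agent.Lib.Helper4.Hzn

open IsLocalRing

section Uniq

variable (R : Type u) [CommRing R] [IsLocalRing R]
variable (S₁ S₂ : Type u) [CommRing S₁] [IsLocalRing S₁] [Algebra R S₁]
  [IsLocalHom (algebraMap R S₁)] [h₁ : Hensel.IsHenselization R S₁]
  [CommRing S₂] [IsLocalRing S₂] [Algebra R S₂]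
  [IsLocalHom (algebraMap R S₂)] [h₂ : Hensel.IsHenselization R S₂]

/-- Any two henselizations are isomorphic as algebras. -/
theorem nonempty_algEquiv : Nonempty (S₁ ≃ₐ[R] S₂) := by
  have hH₁ : HenselianLocalRing S₁ := h₁.henselian
  have hH₂ : HenselianLocalRing S₂ := h₂.henselian
  obtain ⟨g₁₂, hg₁₂, -⟩ := h₁.universal S₂ (algebraMap R S₂) inferInstance
  obtain ⟨g₂₁, hg₂₁, -⟩ := h₂.universal S₁ (algebraMap R S₁) inferInstance
  obtain ⟨u₁, -, hu₁⟩ := h₁.universal S₁ (algebraMap R S₁) inferInstance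
  obtain ⟨u₂, -, hu₂⟩ := h₂.universal S₂ (algebraMap R S₂) inferInstance
  have e₁ : g₂₁.comp g₁₂ = RingHom.id S₁ := by
    rw [hu₁ (g₂₁.comp g₁₂) (by show (g₂₁.comp g₁₂).comp _ = _; rw [RingHom.comp_assoc, hg₁₂, hg₂₁]),
      hu₁ (RingHom.id S₁) (RingHom.id_comp _)]
  have e₂ : g₁₂.comp g₂₁ = RingHom.id S₂ := by
    rw [hu₂ (g₁₂.comp g₂₁) (by show (g₁₂.comp g₂₁).comp _ = _; rw [RingHom.comp_assoc, hg₂₁, hg₁₂]),
      hu₂ (RingHom.id S₂) (RingHom.id_comp _)]
  let a₁₂ : S₁ →ₐ[R] S₂ := { g₁₂ with commutes' := fun r => congrArg (fun g => g r) hg₁₂ }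
  let a₂₁ : S₂ →ₐ[R] S₁ := { g₂₁ with commutes' := fun r => congrArg (fun g => g r) hg₂₁ }
  refine ⟨AlgEquiv.ofAlgHom a₁₂ a₂₁ ?_ ?_⟩
  · ext x
    exact congrArg (fun g => g x) e₂
  · ext x
    exact congrArg (fun g => g x) e₁

end Uniq

section Props

variable (R : Type u) [CommRing R] [IsLocalRing R]
variable (S : Type u) [CommRing S] [IsLocalRing S] [Algebra R S]
  [IsLocalHom (algebraMap R S)] [Hensel.IsHenselization R S]

theorem algEquiv_mem_maximalIdeal_iff {A B : Type*} [CommRing A] [IsLocalRing A] [CommRing B]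
    [IsLocalRing B] [Algebra R A] [Algebra R B] (e : A ≃ₐ[R] B) (x : A) :
    e x ∈ maximalIdeal B ↔ x ∈ maximalIdeal A := by
  rw [mem_maximalIdeal, mem_maximalIdeal, mem_nonunits_iff, mem_nonunits_iff, not_iff_not]
  constructor
  · intro h
    have := h.map e.symm
    rwa [e.symm_apply_apply] at this
  · exact fun h => h.map e

/-- The maximal ideal of a henselization is generated by the maximal ideal of the base. -/
theorem map_maximalIdeal_of_isHenselization :
    (maximalIdeal R).map (algebraMap R S) = maximalIdeal S := by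
  obtain ⟨e⟩ := nonempty_algEquiv R S (Hz R)
  apply le_antisymm
  · exact IsLocalRing.map_maximalIdeal_le (algebraMap R S)
  · intro x hx
    have h1 : e x ∈ maximalIdeal (Hz R) := (algEquiv_mem_maximalIdeal_iff R e x).mpr hx
    rw [← Hz.map_maximalIdeal] at h1
    have h2 : e.symm (e x) ∈ ((maximalIdeal R).map (algebraMap R (Hz R))).map
        (e.symm : Hz R →+* S) := Ideal.mem_map_of_mem (e.symm : Hz R →+* S) h1
    rw [e.symm_apply_apply, Ideal.map_map] at h2
    have h3 : (e.symm : Hz R →+* S).comp (algebraMap R (Hz R)) = algebraMap R S := by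
      ext r
      exact e.symm.commutes r
    rwa [h3] at h2

/-- Every element of a henselization is congruent to an element of the base modulo the maximal
ideal. -/
theorem exists_sub_mem_of_isHenselization (x : S) :
    ∃ a : R, x - algebraMap R S a ∈ maximalIdeal S := by
  obtain ⟨e⟩ := nonempty_algEquiv R S (Hz R)
  obtain ⟨a, ha⟩ := Hz.exists_sub_mem R (e x)
  refine ⟨a, ?_⟩
  rw [← algEquiv_mem_maximalIdeal_iff R e, map_sub, e.commutes]
  exact ha

theorem bijective_residueField_map_of_isHenselization :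
    Function.Bijective (ResidueField.map (algebraMap R S)) := by
  refine ⟨RingHom.injective _, fun y => ?_⟩
  obtain ⟨x, rfl⟩ := residue_surjective y
  obtain ⟨a, ha⟩ := exists_sub_mem_of_isHenselization R S x
  refine ⟨residue R a, ?_⟩
  rw [ResidueField.map_residue]
  symm
  rw [← sub_eq_zero, ← map_sub, residue_eq_zero_iff]
  exact ha

theorem faithfullyFlat_of_isHenselization : Module.FaithfullyFlat R S := by
  obtain ⟨e⟩ := nonempty_algEquiv R S (Hz R)
  have : Module.FaithfullyFlat R (Hz R) := Module.FaithfullyFlat.of_flat_of_isLocalHom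
  exact Module.FaithfullyFlat.of_linearEquiv R (Hz R) e.toLinearEquiv

theorem sup_pow_smul_top_of_isHenselization (n : ℕ) :
    LinearMap.range (Algebra.linearMap R S) ⊔ (maximalIdeal R ^ n) • (⊤ : Submodule R S) = ⊤ := by
  set P : Submodule R S := LinearMap.range (Algebra.linearMap R S) with hP
  have h1 : P ⊔ (maximalIdeal R) • (⊤ : Submodule R S) = ⊤ := by
    rw [eq_top_iff]
    intro x _
    obtain ⟨a, ha⟩ := exists_sub_mem_of_isHenselization R S x
    rw [← map_maximalIdeal_of_isHenselization R S] at ha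
    have h2 : x - algebraMap R S a ∈ (maximalIdeal R) • (⊤ : Submodule R S) := by
      rw [Ideal.smul_top_eq_map]
      exact ha
    have h3 : algebraMap R S a ∈ P := ⟨a, rfl⟩
    have : x = algebraMap R S a + (x - algebraMap R S a) := by ring
    rw [this]
    exact Submodule.add_mem_sup h3 h2
  induction n with
  | zero =>
    rw [pow_zero, Ideal.one_eq_top, Submodule.top_smul, sup_top_eq]
  | succ n ih =>
    rw [eq_top_iff]
    calc (⊤ : Submodule R S) = P ⊔ (maximalIdeal R ^ n) • (⊤ : Submodule R S) := ih.symm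
      _ = P ⊔ (maximalIdeal R ^ n) • (P ⊔ (maximalIdeal R) • (⊤ : Submodule R S)) := by rw [h1]
      _ = P ⊔ ((maximalIdeal R ^ n) • P ⊔
            (maximalIdeal R ^ n) • (maximalIdeal R) • (⊤ : Submodule R S)) := by
          rw [Submodule.smul_sup]
      _ ≤ P ⊔ (maximalIdeal R ^ (n + 1)) • (⊤ : Submodule R S) := by
          rw [← Submodule.mul_smul, ← pow_succ]
          refine sup_le le_sup_left (sup_le ?_ le_sup_right)
          exact le_trans Submodule.smul_le_right le_sup_left

theorem bijective_quotientMap_pow_of_isHenselization (n : ℕ) :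
    Function.Bijective (Ideal.quotientMap
      (Ideal.map (algebraMap R S) (maximalIdeal R ^ n)) (algebraMap R S)
      Ideal.le_comap_map) := by
  have hff := faithfullyFlat_of_isHenselization R S
  constructor
  · apply Ideal.quotientMap_injective'
    rw [Ideal.comap_map_eq_self_of_faithfullyFlat]
  · intro y
    obtain ⟨x, rfl⟩ := Ideal.Quotient.mk_surjective y
    have hx : x ∈ LinearMap.range (Algebra.linearMap R S) ⊔
        (maximalIdeal R ^ n) • (⊤ : Submodule R S) := by
      rw [sup_pow_smul_top_of_isHenselization]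
      trivial
    obtain ⟨_, ⟨r, rfl⟩, z, hz, rfl⟩ := Submodule.mem_sup.mp hx
    rw [Ideal.smul_top_eq_map] at hz
    refine ⟨Ideal.Quotient.mk _ r, ?_⟩
    rw [Ideal.quotientMap_mk]
    symm
    rw [Ideal.Quotient.eq]
    simpa using hz

end Props

end Groth.Agent.Lib.Helper4.Hzn
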