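import Mathlib
import Groth.Prelude.Def_Hensel
import Groth.Agent.Lib.Helper4.HznProps

/-!
# Krull dimension of the henselization
-/

set_option autoImplicit false
set_option linter.unusedSectionVars false
universe u

namespace Groth.Agent.Lib.Helper4.Hzn

open IsLocalRing

/-- Faithfully flat algebras do not lower the Krull dimension. -/
theorem ringKrullDim_le_of_faithfullyFlat (A B : Type*) [CommRing A] [CommRing B] [Algebra A B]
    [Module.FaithfullyFlat A B] : ringKrullDim A ≤ ringKrullDim B := by
  unfold ringKrullDim Order.krullDim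
  refine iSup_le fun l => ?_
  obtain ⟨P, hP, hPl⟩ := Ideal.exists_isPrime_liesOver_of_faithfullyFlat (B := B) l.last.asIdeal
  obtain ⟨L, hlen, -, -⟩ := Ideal.exists_ltSeries_of_hasGoingDown l P
  rw [← hlen]
  exact le_iSup (fun p : LTSeries (PrimeSpectrum B) => (p.length : WithBot ℕ∞)) L

/-- If primes of `B` in a fibre over `A` are incomparable, then `dim B ≤ dim A`. -/
theorem ringKrullDim_le_of_incomparable (A B : Type*) [CommRing A] [CommRing B] [Algebra A B]
    (h : ∀ (P Q : Ideal B) [P.IsPrime] [Q.IsPrime], P ≤ Q → P.under A = Q.under A → P = Q) :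
    ringKrullDim B ≤ ringKrullDim A := by
  refine Order.krullDim_le_of_strictMono (PrimeSpectrum.comap (algebraMap A B)) ?_
  intro P Q hPQ
  have hle : P.asIdeal ≤ Q.asIdeal := hPQ.le
  refine lt_of_le_of_ne ?_ ?_
  · exact Ideal.comap_mono hle
  · intro heq
    have h1 : P.asIdeal.under A = Q.asIdeal.under A := congrArg PrimeSpectrum.asIdeal heq
    have h2 := h P.asIdeal Q.asIdeal hle h1
    exact hPQ.ne (PrimeSpectrum.ext h2)

section

variable {R : Type*} [CommRing R] {ι : Type*} [Preorder ι] [IsDirectedOrder ι] [Nonempty ι]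
  {G : ι → Type*} [∀ i, CommRing (G i)] [∀ i, Algebra R (G i)]
  (f : ∀ i j, i ≤ j → G i →ₐ[R] G j) [DirectedSystem G (f · · ·)]

/-- Incomparability of primes in the fibres passes to directed colimits. -/
theorem incomparable_directLimit
    (h : ∀ (i : ι) (P Q : Ideal (G i)) [P.IsPrime] [Q.IsPrime], P ≤ Q →
      P.under R = Q.under R → P = Q)
    (P Q : Ideal (DirectLimit G f)) [P.IsPrime] [Q.IsPrime] (hPQ : P ≤ Q)
    (hu : P.under R = Q.under R) : P = Q := by
  refine le_antisymm hPQ fun x hx => ?_
  obtain ⟨i, a, rfl⟩ := DirectLimit.exists_eq_mk f x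
  let o := DirectLimit.Algebra.of G f i
  have h1 : P.comap o ≤ Q.comap o := Ideal.comap_mono hPQ
  have h2 : (P.comap o).under R = (Q.comap o).under R := by
    ext r
    simp only [Ideal.under, Ideal.mem_comap, o.commutes]
    exact SetLike.ext_iff.mp hu r
  have h3 := h i (P.comap o) (Q.comap o) h1 h2
  have h4 : a ∈ Q.comap o := hx
  rw [← h3] at h4
  exact h4

end

variable (R : Type u) [CommRing R] [IsLocalRing R]

theorem Hz.incomparable (P Q : Ideal (Hz R)) [P.IsPrime] [Q.IsPrime] (hPQ : P ≤ Q)
    (hu : P.under R = Q.under R) : P = Q := by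
  refine incomparable_directLimit (fun i j h => tr i j h) ?_ P Q hPQ hu
  intro i P Q _ _ hPQ hu
  have : Algebra.QuasiFinite R i.G := inferInstanceAs (Algebra.QuasiFinite R (Loc i.χ))
  exact Algebra.QuasiFinite.eq_of_le_of_under_eq P Q hPQ hu

theorem Hz.ringKrullDim_eq : ringKrullDim (Hz R) = ringKrullDim R := by
  have : Module.FaithfullyFlat R (Hz R) := Module.FaithfullyFlat.of_flat_of_isLocalHom
  exact le_antisymm (ringKrullDim_le_of_incomparable R (Hz R) (Hz.incomparable R))
    (ringKrullDim_le_of_faithfullyFlat R (Hz R))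

theorem ringKrullDim_of_isHenselization (S : Type u) [CommRing S] [IsLocalRing S] [Algebra R S]
    [IsLocalHom (algebraMap R S)] [Hensel.IsHenselization R S] :
    ringKrullDim S = ringKrullDim R := by
  obtain ⟨e⟩ := nonempty_algEquiv R S (Hz R)
  rw [ringKrullDim_eq_of_ringEquiv e.toRingEquiv, Hz.ringKrullDim_eq]

end Groth.Agent.Lib.Helper4.Hzn
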