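import Mathlib
import Groth.Agent.Lib.Helper21.CompleteFlat
import Groth.Agent.Lib.Helper21.AdicNoetherian
import Groth.Agent.Lib.Helper4.HznAbs

/-!
# Directed colimits of Noetherian local rings (EGA 0_III 10.3.1.3)
-/

set_option autoImplicit false
set_option linter.unusedSectionVars false
universe u

namespace Groth.Agent.Lib.Helper4.Hzn

open IsLocalRing Groth.Agent.Lib.Helper21

/-- Noetherianity descends along faithfully flat ring maps. -/
theorem isNoetherianRing_of_faithfullyFlat (A B : Type*) [CommRing A] [CommRing B] [Algebra A B]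
    [Module.FaithfullyFlat A B] [IsNoetherianRing B] : IsNoetherianRing A := by
  rw [isNoetherianRing_iff, isNoetherian_iff'] at *
  let φ : Ideal A ↪o Ideal B :=
    OrderEmbedding.ofMapLEIff (fun I => I.map (algebraMap A B)) (fun I J => by
      refine ⟨fun h => ?_, fun h => Ideal.map_mono h⟩
      rw [← Ideal.comap_map_eq_self_of_faithfullyFlat (B := B) I,
        ← Ideal.comap_map_eq_self_of_faithfullyFlat (B := B) J]
      exact Ideal.comap_mono h)
  exact φ.wellFoundedGT

section

variable {R : Type u} [CommRing R] {ι : Type u} [Preorder ι] [IsDirectedOrder ι]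
  [Nonempty ι] {G : ι → Type u} [∀ i, CommRing (G i)] [∀ i, Algebra R (G i)]
  (f : ∀ i j, i ≤ j → G i →ₐ[R] G j) [DirectedSystem G (f · · ·)]

local notation "L" => DirectLimit G f
local notation "ofL" => DirectLimit.Algebra.of G f

/-- If the transition maps out of `i` are cofinally flat, the colimit is flat over `G i`. -/
theorem flat_of_cofinal (i : ι)
    (hc : ∀ j (h : i ≤ j), ∃ k, ∃ (hjk : j ≤ k), (f i k (h.trans hjk) : G i →+* G k).Flat) :
    (ofL i : G i →+* L).Flat := by
  let _ : Algebra (G i) L := (ofL i : G i →+* L).toAlgebra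
  show Module.Flat (G i) L
  have hsmul : ∀ (c : G i) (x : L), c • x = ofL i c * x := fun c x => rfl
  refine Module.Flat.of_forall_isTrivialRelation fun {l} {c} {x} hx => ?_
  obtain ⟨j₀, y₀, hy₀⟩ := exists_of_finite f x
  obtain ⟨j, hij, hj₀j⟩ := exists_ge_ge i j₀
  let y : Fin l → G j := fun m => f j₀ j hj₀j (y₀ m)
  have hy : ∀ m, x m = ofL j (y m) := fun m => by rw [of_f', hy₀]
  have h1 : ofL j (∑ m, f i j hij (c m) * y m) = 0 := by
    rw [map_sum, ← hx]
    refine Finset.sum_congr rfl fun m _ => ?_
    rw [map_mul, of_f', ← hy m, hsmul]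
  rw [of_apply, mk_eq_zero_iff] at h1
  obtain ⟨j', hjj', hj'⟩ := h1
  obtain ⟨k, hj'k, hflat⟩ := hc j' (hij.trans hjj')
  let _ : Algebra (G i) (G k) := (f i k ((hij.trans hjj').trans hj'k) : G i →+* G k).toAlgebra
  have hflat' : Module.Flat (G i) (G k) := hflat
  have hsmul' : ∀ (c : G i) (z : G k), c • z = f i k ((hij.trans hjj').trans hj'k) c * z :=
    fun c z => rfl
  let z : Fin l → G k := fun m => f j k (hjj'.trans hj'k) (y m)
  have hz : ∑ m, c m • z m = 0 := by
    have h2 := congrArg (f j' k hj'k) hj'
    rw [map_zero, DirectedSystem.map_map' (f := f), map_sum] at h2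
    rw [← h2]
    refine Finset.sum_congr rfl fun m _ => ?_
    rw [hsmul', map_mul, DirectedSystem.map_map' (f := f)]
  obtain ⟨n, a, w, hw, ha⟩ :=
    Module.Flat.isTrivialRelation_of_sum_smul_eq_zero (R := G i) (M := G k) hz
  refine ⟨n, a, fun t => ofL k (w t), fun m => ?_, ha⟩
  have hzm : z m = ∑ t, a m t • w t := hw m
  have h3 : x m = ofL k (z m) := by
    rw [hy m]
    exact (of_f' f (hjj'.trans hj'k) (y m)).symm
  rw [h3, hzm, map_sum]
  refine Finset.sum_congr rfl fun t _ => ?_
  rw [hsmul', map_mul, of_f', hsmul]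

variable [IsLocalRing R] [∀ i, IsLocalRing (G i)]

/-- **EGA 0_III 10.3.1.3**: a directed colimit of Noetherian local rings with local unramified
transition maps, flat over each stage, is Noetherian. -/
theorem isNoetherianRing_directLimit (hN : ∀ i, IsNoetherianRing (G i))
    (h2 : ∀ i j h, IsLocalHom (f i j h))
    (hm : ∀ i j (h : i ≤ j),
      (maximalIdeal (G i)).map (f i j h : G i →+* G j) = maximalIdeal (G j))
    (hflat : ∀ i, (ofL i : G i →+* L).Flat) : IsNoetherianRing L := by
  have hloc : IsLocalRing L := isLocalRing_directLimit f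
  have hmL : ∀ i, (maximalIdeal (G i)).map (ofL i : G i →+* L) = maximalIdeal L := by
    intro i
    apply le_antisymm
    · rw [Ideal.map_le_iff_le_comap]
      intro x hx
      rw [Ideal.mem_comap]
      exact (of_mem_maximalIdeal_iff f h2 i x).mpr hx
    · intro z hz
      obtain ⟨j₀, y₀, rfl⟩ := DirectLimit.exists_eq_mk f z
      obtain ⟨j, hij, hj₀j⟩ := exists_ge_ge i j₀
      have hz' : ofL j (f j₀ j hj₀j y₀) ∈ maximalIdeal L := by
        rw [of_f']
        exact hz
      rw [of_mem_maximalIdeal_iff f h2, ← hm i j hij] at hz'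
      have h3 : ofL j (f j₀ j hj₀j y₀) ∈
          ((maximalIdeal (G i)).map (f i j hij : G i →+* G j)).map (ofL j : G j →+* L) :=
        Ideal.mem_map_of_mem _ hz'
      rw [Ideal.map_map] at h3
      have hcomp : (ofL j : G j →+* L).comp (f i j hij : G i →+* G j) = (ofL i : G i →+* L) := by
        ext x
        exact of_f' f hij x
      rw [hcomp, of_f'] at h3
      exact h3
  obtain ⟨i₀⟩ := (inferInstance : Nonempty ι)
  have hfg : (maximalIdeal L).FG := by
    rw [← hmL i₀]
    exact Ideal.FG.map (IsNoetherian.noetherian _) _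
  have hNq : IsNoetherianRing (L ⧸ maximalIdeal L) :=
    inferInstanceAs (IsNoetherianRing (ResidueField L))
  have hCN : IsNoetherianRing (AdicCompletion (maximalIdeal L) L) :=
    isNoetherianRing_adicCompletion_of_fg (maximalIdeal L) hfg
  -- flatness of the completion over each stage
  have hstage : ∀ i, @Module.Flat (G i) (AdicCompletion (maximalIdeal L) L) _ _
      (Module.compHom (AdicCompletion (maximalIdeal L) L) (ofL i : G i →+* L)) := by
    intro i
    let _ : Algebra (G i) L := (ofL i : G i →+* L).toAlgebra
    let _ : Module (G i) (AdicCompletion (maximalIdeal L) L) :=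
      Module.compHom (AdicCompletion (maximalIdeal L) L) (ofL i : G i →+* L)
    have hT : IsScalarTower (G i) L (AdicCompletion (maximalIdeal L) L) :=
      ⟨fun a b c => by
        show ((ofL i : G i →+* L) a * b) • c = (ofL i : G i →+* L) a • (b • c)
        rw [mul_smul]⟩
    have := hN i
    have hmapL : (maximalIdeal (G i)).map (algebraMap (G i) L) = maximalIdeal L := hmL i
    have hIC : IsAdicComplete (maximalIdeal (G i)) (AdicCompletion (maximalIdeal L) L) := by
      have h0 : IsAdicComplete (maximalIdeal L) (AdicCompletion (maximalIdeal L) L) :=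
        AdicCompletion.isAdicComplete hfg
      have h0' : IsAdicComplete ((maximalIdeal (G i)).map (algebraMap (G i) L))
          (AdicCompletion (maximalIdeal L) L) := by
        rw [hmapL]
        exact h0
      exact (IsAdicComplete.map_algebraMap_iff (S := L) (maximalIdeal (G i))
        (AdicCompletion (maximalIdeal L) L)).mp h0'
    have hflatL : Module.Flat (G i) L := hflat i
    refine flat_of_isAdicComplete_of_quotFlat (maximalIdeal (G i)) fun n => ?_
    have hq : QuotFlat (maximalIdeal (G i) ^ n) L := quotFlat_of_flat _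
    have hpow : (maximalIdeal (G i) ^ n).map (algebraMap (G i) L) = maximalIdeal L ^ n := by
      rw [Ideal.map_pow, hmapL]
    have key := QuotFlat.of_dense (R := G i) (R' := G i) (M := L)
      (M' := AdicCompletion (maximalIdeal L) L) (maximalIdeal (G i) ^ n)
      ((AdicCompletion.of (maximalIdeal L) L).restrictScalars (G i)) ?_ ?_ ?_ hq
    · simpa using key
    · intro r'
      exact ⟨r', by simp⟩
    · intro m'
      obtain ⟨m, hm⟩ := exists_of_sub_mem_pow_smul_top (maximalIdeal L) hfg n m'
      refine ⟨m, ?_⟩
      rw [← hpow, mem_map_smul_top_iff] at hm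
      simpa using hm
    · intro m hm
      have hm' : AdicCompletion.of (maximalIdeal L) L m ∈
          (maximalIdeal (G i) ^ n • ⊤ : Submodule (G i) (AdicCompletion (maximalIdeal L) L)) := by
        simpa using hm
      rw [← mem_map_smul_top_iff (R' := L), hpow] at hm'
      have h5 := mem_of_of_mem_pow_smul_top (maximalIdeal L) hfg n m hm'
      rw [← hpow, mem_map_smul_top_iff] at h5
      exact h5
  -- flatness over the colimit
  have hCflat : Module.Flat L (AdicCompletion (maximalIdeal L) L) := by
    refine Module.Flat.of_forall_isTrivialRelation fun {l} {c} {x} hx => ?_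
    obtain ⟨i, g, hg⟩ := exists_of_finite f c
    let _ : Module (G i) (AdicCompletion (maximalIdeal L) L) :=
      Module.compHom (AdicCompletion (maximalIdeal L) L) (ofL i : G i →+* L)
    have hsm : ∀ (a : G i) (y : AdicCompletion (maximalIdeal L) L), a • y = ofL i a • y :=
      fun _ _ => rfl
    have hrel : ∑ m, g m • x m = 0 := by
      rw [← hx]
      refine Finset.sum_congr rfl fun m _ => ?_
      rw [hsm, ← hg m]
    have := hstage i
    obtain ⟨n, a, y, hy, ha⟩ := Module.Flat.isTrivialRelation_of_sum_smul_eq_zero (R := G i)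
      (M := AdicCompletion (maximalIdeal L) L) hrel
    refine ⟨n, fun m t => ofL i (a m t), y, fun m => ?_, fun t => ?_⟩
    · rw [hy m]
      exact Finset.sum_congr rfl fun t _ => hsm _ _
    · have h6 := congrArg (ofL i) (ha t)
      rw [map_zero, map_sum] at h6
      rw [← h6]
      refine Finset.sum_congr rfl fun m _ => ?_
      rw [map_mul, ← hg m]
  have hff : Module.FaithfullyFlat L (AdicCompletion (maximalIdeal L) L) := by
    refine ⟨fun m hm => ?_⟩
    rw [IsLocalRing.eq_maximalIdeal hm]
    intro htop
    have h1 : (maximalIdeal L ^ 1 • ⊤ : Submodule L (AdicCompletion (maximalIdeal L) L)) =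
        LinearMap.ker (AdicCompletion.eval (maximalIdeal L) L 1) :=
      AdicCompletion.pow_smul_top_eq_ker_eval hfg
    have h0 : (maximalIdeal L ^ 1 • ⊤ : Submodule L (AdicCompletion (maximalIdeal L) L)) = ⊤ := by
      rw [pow_one]
      exact htop
    have h2 : AdicCompletion.eval (maximalIdeal L) L 1 (AdicCompletion.of _ _ 1) = 0 := by
      have h3 : AdicCompletion.of (maximalIdeal L) L 1 ∈
          (⊤ : Submodule L (AdicCompletion (maximalIdeal L) L)) := trivial
      rw [← h0, h1] at h3
      exact h3
    rw [AdicCompletion.eval_of, Submodule.mkQ_apply, Submodule.Quotient.mk_eq_zero, pow_one,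
      smul_eq_mul, Ideal.mul_top] at h2
    exact (Ideal.ne_top_iff_one _).mp (Ideal.IsPrime.ne_top inferInstance) h2
  exact isNoetherianRing_of_faithfullyFlat L (AdicCompletion (maximalIdeal L) L)

end

end Groth.Agent.Lib.Helper4.Hzn
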