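import Mathlib
import Groth.Prelude.Def_Hensel
import Groth.Agent.Lib.Helper4.HznNoeth
import Groth.Agent.Lib.Helper4.HznProps

/-!
# The henselization of a Noetherian local ring is Noetherian
-/

set_option autoImplicit false
set_option linter.unusedSectionVars false
universe u

namespace Groth.Agent.Lib.Helper4.Hzn

open IsLocalRing

section LocFlat

variable {R : Type u} [CommRing R] [IsLocalRing R]
variable {E₁ E₂ : Type u} [CommRing E₁] [Algebra R E₁] [CommRing E₂] [Algebra R E₂]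
  (χ₁ : E₁ →ₐ[R] ResidueField R) (χ₂ : E₂ →ₐ[R] ResidueField R)

theorem cker_eq_comap (φ : E₁ →ₐ[R] E₂) (h : ∀ c, χ₂ (φ c) = χ₁ c) :
    cker χ₁ = (cker χ₂).comap (φ : E₁ →+* E₂) := by
  ext c
  rw [Ideal.mem_comap, mem_cker, mem_cker]
  exact (congrArg (· = 0) (h c)).symm.to_iff

theorem locMap_eq_localRingHom (φ : E₁ →ₐ[R] E₂) (h : ∀ c, χ₂ (φ c) = χ₁ c) :
    (locMap χ₁ χ₂ φ h : Loc χ₁ →+* Loc χ₂) =
      Localization.localRingHom (cker χ₁) (cker χ₂) (φ : E₁ →+* E₂) (cker_eq_comap χ₁ χ₂ φ h) := by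
  apply IsLocalization.ringHom_ext (cker χ₁).primeCompl
  ext c
  rw [RingHom.comp_apply, RingHom.comp_apply, Localization.localRingHom_to_map]
  exact locMap_algebraMap χ₁ χ₂ φ h c

theorem locMap_flat (φ : E₁ →ₐ[R] E₂) (h : ∀ c, χ₂ (φ c) = χ₁ c)
    (hφ : (φ : E₁ →+* E₂).Flat) : (locMap χ₁ χ₂ φ h : Loc χ₁ →+* Loc χ₂).Flat := by
  rw [locMap_eq_localRingHom]
  exact RingHom.Flat.localRingHom hφ _ _ _

/-- An isomorphism of étale neighbourhoods induces an isomorphism of local rings. -/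
noncomputable def locEquiv (φ : E₁ →ₐ[R] E₂) (ψ : E₂ →ₐ[R] E₁) (h₁ : ∀ c, φ (ψ c) = c)
    (h₂ : ∀ c, ψ (φ c) = c) (h : ∀ c, χ₂ (φ c) = χ₁ c) (h' : ∀ c, χ₁ (ψ c) = χ₂ c) :
    Loc χ₁ ≃ₐ[R] Loc χ₂ :=
  AlgEquiv.ofAlgHom (locMap χ₁ χ₂ φ h) (locMap χ₂ χ₁ ψ h')
    (by
      apply AlgHom.coe_ringHom_injective
      apply IsLocalization.ringHom_ext (cker χ₂).primeCompl
      ext c
      show locMap χ₁ χ₂ φ h (locMap χ₂ χ₁ ψ h' (algebraMap E₂ (Loc χ₂) c)) =
        algebraMap E₂ (Loc χ₂) c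
      rw [locMap_algebraMap, locMap_algebraMap, h₁])
    (by
      apply AlgHom.coe_ringHom_injective
      apply IsLocalization.ringHom_ext (cker χ₁).primeCompl
      ext c
      show locMap χ₂ χ₁ ψ h' (locMap χ₁ χ₂ φ h (algebraMap E₁ (Loc χ₁) c)) =
        algebraMap E₁ (Loc χ₁) c
      rw [locMap_algebraMap, locMap_algebraMap, h₂])

theorem locEquiv_apply (φ : E₁ →ₐ[R] E₂) (ψ : E₂ →ₐ[R] E₁) (h₁ : ∀ c, φ (ψ c) = c)
    (h₂ : ∀ c, ψ (φ c) = c) (h : ∀ c, χ₂ (φ c) = χ₁ c) (h' : ∀ c, χ₁ (ψ c) = χ₂ c) (x : Loc χ₁) :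
    locEquiv χ₁ χ₂ φ ψ h₁ h₂ h h' x = locMap χ₁ χ₂ φ h x := rfl

end LocFlat

section Concrete

variable {R : Type u} [CommRing R] [IsLocalRing R]

/-- Every étale neighbourhood is isomorphic to one in the small index type. -/
theorem exists_index_equiv {E : Type u} [CommRing E] [Algebra R E] [Algebra.Etale R E]
    (χ : E →ₐ[R] ResidueField R) : ∃ i : Idx R, Nonempty (Loc χ ≃ₐ[R] i.G) := by
  obtain ⟨n, π, hπ, -⟩ := (inferInstance : Algebra.FinitePresentation R E).out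
  let J : Ideal (MvPolynomial (Fin n) R) := RingHom.ker π.toRingHom
  let e : (MvPolynomial (Fin n) R ⧸ J) ≃ₐ[R] E := Ideal.quotientKerAlgEquivOfSurjective hπ
  have het : Algebra.Etale R (MvPolynomial (Fin n) R ⧸ J) := Algebra.Etale.of_equiv e.symm
  let x : Fin n → ResidueField R := fun v => χ (π (MvPolynomial.X v))
  have hx : ∀ g : MvPolynomial (Fin n) R, MvPolynomial.aeval x g = χ (π g) := by
    intro g
    have : MvPolynomial.aeval x = χ.comp π := by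
      apply MvPolynomial.algHom_ext
      intro v
      simp [x]
    rw [this]
    rfl
  have hJ : ∀ g ∈ J, MvPolynomial.aeval x g = 0 := by
    intro g hg
    rw [hx]
    have : π g = 0 := hg
    rw [this, map_zero]
  let i : Idx R := ⟨n, ⟨(J, x), het, hJ⟩⟩
  have h : ∀ c, i.χ (e.symm.toAlgHom c) = χ c := by
    intro c
    obtain ⟨p, rfl⟩ := hπ c
    have h1 : e.symm (π p) = Ideal.Quotient.mk J p := by
      rw [AlgEquiv.symm_apply_eq]
      rfl
    show i.χ (e.symm (π p)) = χ (π p)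
    rw [h1, ← hx]
    rfl
  have h' : ∀ c, χ (e.toAlgHom c) = i.χ c := by
    intro c
    rw [← h]
    show i.χ (e.symm (e c)) = _
    rw [e.symm_apply_apply]
  exact ⟨i, ⟨locEquiv χ i.χ e.symm.toAlgHom e.toAlgHom (fun c => e.symm_apply_apply c)
    (fun c => e.apply_symm_apply c) h h'⟩⟩

open scoped TensorProduct in
theorem exists_index_tensor_flat {E₁ E₂ : Type u} [CommRing E₁] [Algebra R E₁]
    [Algebra.Etale R E₁] [CommRing E₂] [Algebra R E₂] [Algebra.Etale R E₂]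
    (χ₁ : E₁ →ₐ[R] ResidueField R) (χ₂ : E₂ →ₐ[R] ResidueField R) :
    ∃ (k : Idx R) (ψ₁ : Loc χ₁ →ₐ[R] k.G) (_ : Loc χ₂ →ₐ[R] k.G),
      (ψ₁ : Loc χ₁ →+* k.G).Flat := by
  have hC₃ : Algebra.Etale R (E₁ ⊗[R] E₂) := Algebra.Etale.comp R E₁ (E₁ ⊗[R] E₂)
  let χ : E₁ ⊗[R] E₂ →ₐ[R] ResidueField R :=
    Algebra.TensorProduct.lift χ₁ χ₂ (fun _ _ => Commute.all _ _)
  obtain ⟨k, ⟨θ⟩⟩ := exists_index_equiv (E := E₁ ⊗[R] E₂) χ
  have h1 : ∀ c, χ ((Algebra.TensorProduct.includeLeft : E₁ →ₐ[R] E₁ ⊗[R] E₂) c) = χ₁ c := by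
    intro c
    simp [χ]
  have h2 : ∀ c, χ ((Algebra.TensorProduct.includeRight : E₂ →ₐ[R] E₁ ⊗[R] E₂) c) = χ₂ c := by
    intro c
    simp [χ]
  refine ⟨k, θ.toAlgHom.comp (locMap χ₁ χ _ h1), θ.toAlgHom.comp (locMap χ₂ χ _ h2), ?_⟩
  have hfl : ((Algebra.TensorProduct.includeLeft : E₁ →ₐ[R] E₁ ⊗[R] E₂) :
      E₁ →+* E₁ ⊗[R] E₂).Flat := by
    show (algebraMap E₁ (E₁ ⊗[R] E₂)).Flat
    rw [RingHom.flat_algebraMap_iff]
    infer_instance
  have h3 := locMap_flat χ₁ χ _ h1 hfl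
  have h4 : (θ.toAlgHom : Loc χ →+* k.G).Flat := RingHom.Flat.of_bijective θ.bijective
  exact RingHom.Flat.comp h3 h4

end Concrete

variable (R : Type u) [CommRing R] [IsLocalRing R]

theorem Hz.cofinal_flat (i j : Idx R) (h : i ≤ j) :
    ∃ k, ∃ (hjk : j ≤ k), (tr i k (h.trans hjk) : i.G →+* k.G).Flat := by
  obtain ⟨k, ψ₁₀, ψ₂₀, hflat⟩ := exists_index_tensor_flat i.χ j.χ
  let ψ₁ : i.G →ₐ[R] k.G := ψ₁₀
  let ψ₂ : j.G →ₐ[R] k.G := ψ₂₀
  refine ⟨k, ⟨ψ₂⟩, ?_⟩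
  have : tr i k (h.trans ⟨ψ₂⟩) = ψ₁ := Subsingleton.elim _ _
  rw [this]
  exact hflat

theorem Idx.isNoetherianRing [IsNoetherianRing R] (i : Idx R) : IsNoetherianRing i.G :=
  IsLocalization.isNoetherianRing (cker i.χ).primeCompl (Loc i.χ) inferInstance

theorem tr_map_maximalIdeal (i j : Idx R) (h : i ≤ j) :
    (maximalIdeal i.G).map (tr i j h : i.G →+* j.G) = maximalIdeal j.G := by
  have h1 : (maximalIdeal R).map (algebraMap R i.G) = maximalIdeal i.G := map_maximalIdeal_loc i.χ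
  have h2 : (maximalIdeal R).map (algebraMap R j.G) = maximalIdeal j.G := map_maximalIdeal_loc j.χ
  rw [← h1, Ideal.map_map, ← h2]
  congr 1
  ext r
  exact (tr i j h).commutes r

theorem Hz.isNoetherianRing [IsNoetherianRing R] : IsNoetherianRing (Hz R) :=
  isNoetherianRing_directLimit (fun i j h => tr i j h) (fun i => i.isNoetherianRing R)
    (tr_isLocalHom R) (tr_map_maximalIdeal R)
    (fun i => flat_of_cofinal (fun i j h => tr i j h) i (Hz.cofinal_flat R i))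

theorem isNoetherianRing_iff_of_isHenselization (S : Type u) [CommRing S] [IsLocalRing S]
    [Algebra R S] [IsLocalHom (algebraMap R S)] [Hensel.IsHenselization R S] :
    IsNoetherianRing R ↔ IsNoetherianRing S := by
  constructor
  · intro hR
    obtain ⟨e⟩ := nonempty_algEquiv R S (Hz R)
    have := Hz.isNoetherianRing R
    exact isNoetherianRing_of_ringEquiv (Hz R) e.symm.toRingEquiv
  · intro hS
    have := faithfullyFlat_of_isHenselization R S
    exact isNoetherianRing_of_faithfullyFlat R S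

end Groth.Agent.Lib.Helper4.Hzn
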