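import Mathlib
import Groth.Prelude.Def_Hensel
import Groth.Prelude.Def_EssEt
import Groth.Agent.Lib.Helper4.EssEtale
import Groth.Agent.Lib.Helper4.HznAbs

/-!
# Directed colimits of essentially étale local algebras: characters and the strict universal
property (abstract form)
-/

set_option autoImplicit false
set_option linter.unusedSectionVars false
universe u

namespace Groth.Agent.Lib.Helper4.Hzs

open IsLocalRing Polynomial Groth.Agent.Lib.Helper4.Hzn

section

variable {R : Type u} [CommRing R] [IsLocalRing R] {ι : Type u} [Preorder ι] [IsDirectedOrder ι]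
  [Nonempty ι] {G : ι → Type u} [∀ i, CommRing (G i)] [∀ i, Algebra R (G i)]
  [∀ i, IsLocalRing (G i)]
  (f : ∀ i j, i ≤ j → G i →ₐ[R] G j) [DirectedSystem G (f · · ·)]

local notation "L" => DirectLimit G f
local notation "ofL" => DirectLimit.Algebra.of G f

local instance : IsLocalRing L := isLocalRing_directLimit f

section Char

variable {K : Type u} [Field K] [Algebra R K]
  (κ : ∀ i, G i →ₐ[R] K) (hκ : ∀ i j h x, κ j (f i j h x) = κ i x)

/-- The character of the colimit. -/
noncomputable def colimChar : L →ₐ[R] K := DirectLimit.Algebra.lift G f K κ hκ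

theorem colimChar_of (i : ι) (x : G i) : colimChar f κ hκ (ofL i x) = κ i x := rfl

theorem colimChar_eq_zero_iff (h2 : ∀ i j h, IsLocalHom (f i j h))
    (hκ0 : ∀ i x, κ i x = 0 ↔ x ∈ maximalIdeal (G i)) (z : L) :
    colimChar f κ hκ z = 0 ↔ z ∈ maximalIdeal L := by
  obtain ⟨i, x, rfl⟩ := DirectLimit.exists_eq_mk f z
  change colimChar f κ hκ (ofL i x) = 0 ↔ ofL i x ∈ _
  rw [colimChar_of, hκ0, of_mem_maximalIdeal_iff f h2]

end Char

section Univ

/-- The strict universal property of a colimit of essentially étale local algebras. -/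
theorem strict_universal (h1 : ∀ i, IsLocalHom (algebraMap R (G i)))
    (h2 : ∀ i j h, IsLocalHom (f i j h))
    (hG : ∀ i, EGA4loc.IsEssentiallyEtale R (G i))
    (T : Type u) [CommRing T] [HenselianLocalRing T] [Algebra R T] [IsLocalHom (algebraMap R T)]
    (τ : ResidueField L →+* ResidueField T)
    (hτ : ∀ r : R, τ (residue L (algebraMap R L r)) = residue T (algebraMap R T r)) :
    ∃! g : L →ₐ[R] T, ∀ x, residue T (g x) = τ (residue L x) := by
  have hof : ∀ i, IsLocalHom (ofL i) := isLocalHom_of f h2
  -- stage-wise maps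
  have hstage : ∀ i, ∃ ψ : G i →ₐ[R] T, ∀ x, residue T (ψ x) = τ (residue L (ofL i x)) := by
    intro i
    have := h1 i
    have := hof i
    let α : ResidueField (G i) →+* ResidueField T :=
      τ.comp (ResidueField.map (ofL i : G i →+* L))
    have hα : α.comp (ResidueField.map (algebraMap R (G i))) =
        ResidueField.map (algebraMap R T) := by
      ext y
      obtain ⟨r, rfl⟩ := residue_surjective y
      change τ (ResidueField.map (ofL i : G i →+* L)
        (ResidueField.map (algebraMap R (G i)) (residue R r))) = _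
      rw [ResidueField.map_residue, ResidueField.map_residue, ResidueField.map_residue]
      change τ (residue L (ofL i (algebraMap R (G i) r))) = _
      rw [(ofL i).commutes, hτ]
    obtain ⟨ψ, hψ⟩ := EssEtale.exists_lift (hG i) T α hα
    exact ⟨ψ, fun x => by rw [hψ]; rfl⟩
  have huniq : ∀ i (ψ ψ' : G i →ₐ[R] T),
      (∀ x, residue T (ψ x) = residue T (ψ' x)) → ψ = ψ' := by
    intro i ψ ψ' h
    refine EssEtale.algHom_ext (hG i) ψ ψ' fun x => ?_
    rw [← residue_eq_zero_iff, map_sub, h, sub_self]
  choose ψ hψ using hstage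
  have hcompat : ∀ i j hij x, ψ j (f i j hij x) = ψ i x := by
    intro i j hij x
    have : (ψ j).comp (f i j hij) = ψ i := by
      apply huniq
      intro y
      change residue T (ψ j (f i j hij y)) = _
      rw [hψ, hψ, of_f']
    exact congrArg (fun g => g x) this
  refine ⟨DirectLimit.Algebra.lift G f T ψ hcompat, ?_, ?_⟩
  · intro z
    obtain ⟨i, x, rfl⟩ := DirectLimit.exists_eq_mk f z
    exact hψ i x
  · intro g hg
    apply DirectLimit.Algebra.hom_ext
    intro i
    apply huniq
    intro x
    change residue T (g (ofL i x)) = residue T (ψ i x)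
    rw [hg, hψ]

end Univ

end

/-- Transport of `IsSepClosed` along a ring isomorphism. -/
theorem isSepClosed_of_ringEquiv {K K' : Type*} [Field K] [Field K'] (e : K' ≃+* K)
    [IsSepClosed K] : IsSepClosed K' := by
  refine IsSepClosed.of_exists_root K' fun p hpm hirr hsep => ?_
  have hsep' : (p.map (e : K' →+* K)).Separable := (separable_map _).mpr hsep
  have hdeg : (p.map (e : K' →+* K)).degree ≠ 0 := by
    rw [degree_map]
    exact (degree_pos_of_irreducible hirr).ne'
  obtain ⟨x, hx⟩ := IsSepClosed.exists_root (p.map (e : K' →+* K)) hdeg hsep'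
  refine ⟨e.symm x, ?_⟩
  apply e.injective
  have h1 : (e : K' →+* K) (eval (e.symm x) p) = eval₂ (e : K' →+* K) ((e : K' →+* K) (e.symm x)) p :=
    (eval₂_hom (e : K' →+* K) (e.symm x)).symm
  have h2 : (e : K' →+* K) (e.symm x) = x := e.apply_symm_apply x
  rw [h2, ← eval_map] at h1
  rw [map_zero]
  exact h1.trans hx

end Groth.Agent.Lib.Helper4.Hzs
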