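import Mathlib
import Groth.Prelude.Def_EssEt
import Groth.Agent.Lib.Helper4.EssEtale

/-!
# Local rings of geometric points of étale algebras

For a local ring `R`, a field `K` with a local structure map `R → K`, an étale `R`-algebra `E` and
an `R`-algebra map `χ : E → K`, the localization `Loc χ` of `E` at the kernel of `χ` is an
essentially étale local `R`-algebra.
-/

set_option autoImplicit false
set_option linter.unusedSectionVars false
universe u

namespace Groth.Agent.Lib.Helper4.Hzs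

open IsLocalRing

variable {R : Type u} [CommRing R] [IsLocalRing R] {K : Type u} [Field K] [Algebra R K]
  [IsLocalHom (algebraMap R K)]

theorem algebraMap_eq_zero_iff (a : R) : algebraMap R K a = 0 ↔ a ∈ maximalIdeal R := by
  rw [mem_maximalIdeal, mem_nonunits_iff]
  constructor
  · intro h hu
    have := hu.map (algebraMap R K)
    rw [h] at this
    exact not_isUnit_zero this
  · intro h
    by_contra h0
    exact h (isUnit_of_map_unit (algebraMap R K) a (isUnit_iff_ne_zero.mpr h0))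

section Loc

variable {E : Type u} [CommRing E] [Algebra R E] (χ : E →ₐ[R] K)

/-- The prime ideal of a geometric point. -/
def cker : Ideal E := RingHom.ker (χ : E →+* K)

instance cker_isPrime : (cker χ).IsPrime := RingHom.ker_isPrime _

theorem mem_cker {χ : E →ₐ[R] K} {c : E} : c ∈ cker χ ↔ χ c = 0 := Iff.rfl

theorem cker_comap : (cker χ).comap (algebraMap R E) = maximalIdeal R := by
  ext a
  rw [Ideal.mem_comap, mem_cker, χ.commutes, algebraMap_eq_zero_iff]

/-- The local ring of a geometric point. -/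
abbrev Loc : Type u := Localization.AtPrime (cker χ)

instance isLocalHom_algebraMap_loc : IsLocalHom (algebraMap R (Loc χ)) := by
  constructor
  intro a ha
  by_contra hna
  have h1 : a ∈ maximalIdeal R := (mem_maximalIdeal a).mpr hna
  rw [← cker_comap χ, Ideal.mem_comap] at h1
  have h2 : algebraMap E (Loc χ) (algebraMap R E a) ∈ maximalIdeal (Loc χ) :=
    (IsLocalization.AtPrime.to_map_mem_maximal_iff (Loc χ) (cker χ) _).mpr h1
  rw [← IsScalarTower.algebraMap_apply R E (Loc χ)] at h2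
  exact (mem_maximalIdeal _).mp h2 ha

theorem isUnit_char (y : (cker χ).primeCompl) : IsUnit (χ (y : E)) :=
  isUnit_iff_ne_zero.mpr fun h0 => y.2 (mem_cker.mpr h0)

/-- The character induced on the local ring. -/
noncomputable def locChar : Loc χ →ₐ[R] K :=
  IsLocalization.liftAlgHom (M := (cker χ).primeCompl) (f := χ) (isUnit_char χ)

@[simp]
theorem locChar_algebraMap (c : E) : locChar χ (algebraMap E (Loc χ) c) = χ c :=
  IsLocalization.lift_eq _ _

theorem locChar_eq_zero_iff (x : Loc χ) : locChar χ x = 0 ↔ x ∈ maximalIdeal (Loc χ) := by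
  obtain ⟨c, s, rfl⟩ := IsLocalization.exists_mk'_eq (cker χ).primeCompl x
  rw [IsLocalization.AtPrime.mk'_mem_maximal_iff (Loc χ) (cker χ) c s, mem_cker]
  have h1 : locChar χ (IsLocalization.mk' (Loc χ) c s) * χ (s : E) = χ c := by
    rw [← locChar_algebraMap χ (s : E), ← map_mul, IsLocalization.mk'_spec, locChar_algebraMap]
  have h2 : χ (s : E) ≠ 0 := (isUnit_char χ s).ne_zero
  constructor
  · intro h
    rw [← h1, h, zero_mul]
  · intro h
    rw [h] at h1
    exact (mul_eq_zero.mp h1).resolve_right h2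

theorem essEtale [Algebra.Etale R E] : EGA4loc.IsEssentiallyEtale R (Loc χ) :=
  ⟨E, inferInstance, inferInstance, cker χ, inferInstance, inferInstance, cker_comap χ,
    ⟨AlgEquiv.refl⟩⟩

theorem map_maximalIdeal_loc [Algebra.Etale R E] :
    (maximalIdeal R).map (algebraMap R (Loc χ)) = maximalIdeal (Loc χ) :=
  EssEtale.map_maximalIdeal (essEtale χ)

end Loc

section LocMap

variable {E₁ E₂ : Type u} [CommRing E₁] [Algebra R E₁] [CommRing E₂] [Algebra R E₂]
  (χ₁ : E₁ →ₐ[R] K) (χ₂ : E₂ →ₐ[R] K)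

theorem isUnit_locMap (φ : E₁ →ₐ[R] E₂) (h : ∀ c, χ₂ (φ c) = χ₁ c) (y : (cker χ₁).primeCompl) :
    IsUnit (((IsScalarTower.toAlgHom R E₂ (Loc χ₂)).comp φ) (y : E₁)) := by
  change IsUnit (algebraMap E₂ (Loc χ₂) (φ (y : E₁)))
  refine IsLocalization.map_units (M := (cker χ₂).primeCompl) _ ⟨φ (y : E₁), ?_⟩
  change ¬ (φ (y : E₁) ∈ cker χ₂)
  rw [mem_cker, h]
  exact y.2

/-- A map of pointed étale algebras induces a map of local rings. -/
noncomputable def locMap (φ : E₁ →ₐ[R] E₂) (h : ∀ c, χ₂ (φ c) = χ₁ c) : Loc χ₁ →ₐ[R] Loc χ₂ :=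
  IsLocalization.liftAlgHom (M := (cker χ₁).primeCompl)
    (f := (IsScalarTower.toAlgHom R E₂ (Loc χ₂)).comp φ) (isUnit_locMap χ₁ χ₂ φ h)

@[simp]
theorem locMap_algebraMap (φ : E₁ →ₐ[R] E₂) (h : ∀ c, χ₂ (φ c) = χ₁ c) (c : E₁) :
    locMap χ₁ χ₂ φ h (algebraMap E₁ (Loc χ₁) c) = algebraMap E₂ (Loc χ₂) (φ c) :=
  IsLocalization.lift_eq _ _

theorem locChar_locMap (φ : E₁ →ₐ[R] E₂) (h : ∀ c, χ₂ (φ c) = χ₁ c) (x : Loc χ₁) :
    locChar χ₂ (locMap χ₁ χ₂ φ h x) = locChar χ₁ x := by
  have : ((locChar χ₂).comp (locMap χ₁ χ₂ φ h) : Loc χ₁ →+* K) = (locChar χ₁ : Loc χ₁ →+* K) := by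
    apply IsLocalization.ringHom_ext (cker χ₁).primeCompl
    ext c
    simp [h]
  exact congrArg (fun g => g x) this

end LocMap

end Groth.Agent.Lib.Helper4.Hzs
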