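import Mathlib
import Groth.Agent.Lib.Helper4.HzsLoc
import Groth.Agent.Lib.Helper4.HznRoot

/-!
# Adjoining a simple root in a pointed étale neighbourhood (general residue field extension)
-/

set_option autoImplicit false
universe u

namespace Groth.Agent.Lib.Helper4.Hzs

open IsLocalRing Polynomial

variable {R : Type u} [CommRing R] [IsLocalRing R] {K : Type u} [Field K] [Algebra R K]
  [IsLocalHom (algebraMap R K)]

theorem exists_root_adjunction {E : Type u} [CommRing E] [Algebra R E] [Algebra.Etale R E]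
    (χ : E →ₐ[R] K) (f : (Loc χ)[X]) (hf : f.Monic)
    (h0 : f.coeff 0 ∈ maximalIdeal (Loc χ)) (h1 : IsUnit (f.coeff 1)) :
    ∃ (E' : Type u) (_ : CommRing E') (_ : Algebra R E') (_ : Algebra.Etale R E')
      (χ' : E' →ₐ[R] K) (φ : Loc χ →ₐ[R] Loc χ') (b : Loc χ'),
      (∀ x, locChar χ' (φ x) = locChar χ x) ∧
      b ∈ maximalIdeal (Loc χ') ∧ f.eval₂ (φ : Loc χ →+* Loc χ') b = 0 := by
  classical
  set B := Loc χ with hB
  set n := f.natDegree with hn
  -- common denominator
  obtain ⟨s, hs⟩ := IsLocalization.exist_integer_multiples_of_finset (cker χ).primeCompl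
    ((Finset.range (n + 1)).image f.coeff)
  set u : B := algebraMap E B (s : E) with hu
  have huunit : IsUnit u := IsLocalization.map_units B s
  have hsk : ∀ k, ∃ c : E, algebraMap E B c = u * f.coeff k := by
    intro k
    by_cases hk : k < n + 1
    · obtain ⟨c, hc⟩ := hs (f.coeff k) (Finset.mem_image_of_mem _ (Finset.mem_range.mpr hk))
      exact ⟨c, by rw [hc, Algebra.smul_def]⟩
    · refine ⟨0, ?_⟩
      rw [coeff_eq_zero_of_natDegree_lt (by omega), mul_zero, map_zero]
  set g : B[X] := scaleRoots f u with hg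
  have hgm : g.Monic := (monic_scaleRoots_iff u).mpr hf
  have hgcoeff : ∀ k, g.coeff k = f.coeff k * u ^ (n - k) := fun k => coeff_scaleRoots f u k
  have hglift : g ∈ lifts (algebraMap E B) := by
    rw [lifts_iff_coeff_lifts]
    intro k
    rw [hgcoeff]
    rcases lt_trichotomy k n with hk | hk | hk
    · obtain ⟨c, hc⟩ := hsk k
      obtain ⟨m, hm⟩ : ∃ m, n - k = m + 1 := ⟨n - k - 1, by omega⟩
      refine ⟨c * (s : E) ^ m, ?_⟩
      rw [map_mul, map_pow, hc, ← hu, hm, pow_succ]
      ring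
    · subst hk
      refine ⟨1, ?_⟩
      rw [map_one, Nat.sub_self, pow_zero, mul_one, hn]
      exact hf.coeff_natDegree.symm
    · refine ⟨0, ?_⟩
      rw [coeff_eq_zero_of_natDegree_lt hk, zero_mul, map_zero]
  obtain ⟨g', hg'map, hg'deg, hg'm⟩ := lifts_and_natDegree_eq_and_monic hglift hgm
  have hg'coeff : ∀ k, algebraMap E B (g'.coeff k) = g.coeff k := by
    intro k
    rw [← hg'map, coeff_map]
  have hχ0 : χ (g'.coeff 0) = 0 := by
    rw [← mem_cker, ← IsLocalization.AtPrime.to_map_mem_maximal_iff B (cker χ), hg'coeff, hgcoeff]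
    exact Ideal.mul_mem_right _ _ h0
  have hχ1 : χ (g'.coeff 1) ≠ 0 := by
    intro h
    rw [← mem_cker] at h
    have h2 : IsUnit (algebraMap E B (g'.coeff 1)) := by
      rw [hg'coeff, hgcoeff]
      exact h1.mul (huunit.pow _)
    exact (IsLocalization.AtPrime.isUnit_to_map_iff B (cker χ) _).mp h2 h
  -- the standard étale algebra
  let P : StandardEtalePair E := ⟨g', hg'm, derivative g', ⟨1, 0, 1, by ring⟩⟩
  let E' := P.Ring
  let _ : Algebra R E' := ((algebraMap E E').comp (algebraMap R E)).toAlgebra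
  have hT : IsScalarTower R E E' := IsScalarTower.of_algebraMap_eq fun _ => rfl
  have hE' : Algebra.Etale R E' := Algebra.Etale.comp R E E'
  let _ : Algebra E (K) := (χ : E →+* K).toAlgebra
  have hT2 : IsScalarTower R E (K) :=
    IsScalarTower.of_algebraMap_eq fun r => (χ.commutes r).symm
  have halg : ∀ c : E, algebraMap E (K) c = χ c := fun c => rfl
  have hmap : P.HasMap (0 : K) := by
    refine ⟨?_, ?_⟩
    · show aeval (0 : K) g' = 0
      rw [← coeff_zero_eq_aeval_zero', halg, hχ0]
    · show IsUnit (aeval (0 : K) (derivative g'))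
      rw [← coeff_zero_eq_aeval_zero', halg, coeff_derivative]
      simp only [zero_add, Nat.cast_zero, mul_one]
      exact isUnit_iff_ne_zero.mpr hχ1
  let χP : E' →ₐ[E] K := P.lift 0 hmap
  let χ' : E' →ₐ[R] K := χP.restrictScalars R
  have hχ'alg : ∀ c : E, χ' (algebraMap E E' c) = χ c := fun c => χP.commutes c
  have hχ'X : χ' P.X = 0 := P.lift_X 0 hmap
  let φ : Loc χ →ₐ[R] Loc χ' := locMap χ χ' (IsScalarTower.toAlgHom R E E') hχ'alg
  have hφalg : ∀ c : E, φ (algebraMap E B c) = algebraMap E' (Loc χ') (algebraMap E E' c) :=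
    fun c => locMap_algebraMap χ χ' _ hχ'alg c
  set X' : Loc χ' := algebraMap E' (Loc χ') P.X with hX'
  have hX'mem : X' ∈ maximalIdeal (Loc χ') := by
    rw [hX', IsLocalization.AtPrime.to_map_mem_maximal_iff (Loc χ') (cker χ'), mem_cker]
    exact hχ'X
  have hφu : IsUnit (φ u) := huunit.map φ
  obtain ⟨v, hv⟩ := hφu
  let b : Loc χ' := ↑v⁻¹ * X'
  have hub : φ u * b = X' := by
    rw [← hv, ← mul_assoc, Units.mul_inv, one_mul]
  refine ⟨E', inferInstance, inferInstance, hE', χ', φ, b,
    locChar_locMap χ χ' _ hχ'alg, Ideal.mul_mem_left _ _ hX'mem, ?_⟩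
  have key := scaleRoots_eval₂_mul (p := f) (φ : B →+* Loc χ') b u
  have hcomp : (φ : B →+* Loc χ').comp (algebraMap E B) =
      (algebraMap E' (Loc χ')).comp (algebraMap E E') := RingHom.ext hφalg
  have hzero : eval₂ (φ : B →+* Loc χ') X' g = 0 := by
    rw [← hg'map, eval₂_map, hcomp, ← hom_eval₂]
    have : eval₂ (algebraMap E E') P.X g' = 0 := P.hasMap_X.1
    rw [this, map_zero]
  have hub' : (φ : B →+* Loc χ') u * b = X' := hub
  rw [hub', hzero] at key
  have hunit : IsUnit ((φ : B →+* Loc χ') u ^ f.natDegree) := (huunit.map φ).pow _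
  exact (hunit.mul_right_eq_zero).mp key.symm

end Groth.Agent.Lib.Helper4.Hzs
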