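import Mathlib
import Groth.Prelude.Def_Hensel
import Groth.Agent.Lib.Helper4.HzsLoc
import Groth.Agent.Lib.Helper4.HzsRoot
import Groth.Agent.Lib.Helper4.HzsAbs

/-!
# The strict henselization of a local ring as a directed colimit of pointed étale neighbourhoods
-/

set_option autoImplicit false
universe u

namespace Groth.Agent.Lib.Helper4.Hzs

open IsLocalRing

variable (R : Type u) [CommRing R] [IsLocalRing R]

/-- The separable closure of the residue field. -/
abbrev Ks : Type u := SeparableClosure (ResidueField R)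

instance Ks.isLocalHom : IsLocalHom (algebraMap R (Ks R)) := by
  constructor
  intro a ha
  rw [IsScalarTower.algebraMap_apply R (ResidueField R) (Ks R)] at ha
  have h1 : algebraMap R (ResidueField R) a ≠ 0 := by
    intro h0
    rw [h0, map_zero] at ha
    exact not_isUnit_zero ha
  exact (residue_ne_zero_iff_isUnit a).mp h1

section Index

/-- A small index type of pointed étale neighbourhoods. -/
def Idx : Type u :=
  Σ n : ℕ, {p : Ideal (MvPolynomial (Fin n) R) × (Fin n → Ks R) //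
    Algebra.Etale R (MvPolynomial (Fin n) R ⧸ p.1) ∧ ∀ g ∈ p.1, MvPolynomial.aeval p.2 g = 0}

variable {R}

namespace Idx

variable (i : Idx R)

/-- The étale algebra of an index. -/
abbrev C : Type u := MvPolynomial (Fin i.1) R ⧸ i.2.1.1

instance : Algebra.Etale R i.C := i.2.2.1

/-- The geometric point of an index. -/
noncomputable def χ : i.C →ₐ[R] Ks R :=
  Ideal.Quotient.liftₐ i.2.1.1 (MvPolynomial.aeval i.2.1.2) i.2.2.2

/-- The local ring of an index (kept opaque to the unifier). -/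
def G : Type u := Loc i.χ

noncomputable instance : CommRing i.G := inferInstanceAs (CommRing (Loc i.χ))
noncomputable instance : Algebra R i.G := inferInstanceAs (Algebra R (Loc i.χ))
instance : IsLocalRing i.G := inferInstanceAs (IsLocalRing (Loc i.χ))
instance : IsLocalHom (algebraMap R i.G) := isLocalHom_algebraMap_loc i.χ

/-- The character of the local ring of an index. -/
noncomputable def char : i.G →ₐ[R] Ks R := locChar i.χ

theorem char_eq_zero_iff (x : i.G) : i.char x = 0 ↔ x ∈ maximalIdeal i.G :=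
  locChar_eq_zero_iff i.χ x

theorem essEtale : EGA4loc.IsEssentiallyEtale R i.G := Hzs.essEtale i.χ

theorem map_maximalIdeal : (maximalIdeal R).map (algebraMap R i.G) = maximalIdeal i.G :=
  map_maximalIdeal_loc i.χ

end Idx

/-- Every pointed étale neighbourhood maps to one in the small index type. -/
theorem exists_index {E : Type u} [CommRing E] [Algebra R E] [Algebra.Etale R E]
    (χ : E →ₐ[R] Ks R) :
    ∃ (i : Idx R) (ψ : Loc χ →ₐ[R] i.G), ∀ x, i.char (ψ x) = locChar χ x := by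
  obtain ⟨n, π, hπ, -⟩ := (inferInstance : Algebra.FinitePresentation R E).out
  let J : Ideal (MvPolynomial (Fin n) R) := RingHom.ker π.toRingHom
  let e : (MvPolynomial (Fin n) R ⧸ J) ≃ₐ[R] E := Ideal.quotientKerAlgEquivOfSurjective hπ
  have het : Algebra.Etale R (MvPolynomial (Fin n) R ⧸ J) := Algebra.Etale.of_equiv e.symm
  let x : Fin n → Ks R := fun v => χ (π (MvPolynomial.X v))
  have hx : ∀ g : MvPolynomial (Fin n) R, MvPolynomial.aeval x g = χ (π g) := by
    intro g
    have : MvPolynomial.aeval x = χ.comp π := by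
      apply MvPolynomial.algHom_ext
      intro v
      simp [x]
    rw [this]
    rfl
  have hJ : ∀ g ∈ J, MvPolynomial.aeval x g = 0 := by
    intro g hg
    rw [hx]
    have : π g = 0 := hg
    rw [this, map_zero]
  let i : Idx R := ⟨n, ⟨(J, x), het, hJ⟩⟩
  have hcompat : ∀ c, i.χ (e.symm.toAlgHom c) = χ c := by
    intro c
    obtain ⟨p, rfl⟩ := hπ c
    have h1 : e.symm (π p) = Ideal.Quotient.mk J p := by
      rw [AlgEquiv.symm_apply_eq]
      rfl
    show i.χ (e.symm (π p)) = χ (π p)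
    rw [h1, ← hx]
    rfl
  exact ⟨i, locMap χ i.χ e.symm.toAlgHom hcompat, locChar_locMap χ i.χ _ hcompat⟩

noncomputable instance : Preorder (Idx R) where
  le i j := ∃ ψ : i.G →ₐ[R] j.G, ∀ x, j.char (ψ x) = i.char x
  le_refl i := ⟨AlgHom.id R _, fun _ => rfl⟩
  le_trans _ _ _ := fun ⟨a, ha⟩ ⟨b, hb⟩ => ⟨b.comp a, fun x => by
    rw [AlgHom.comp_apply, hb, ha]⟩

theorem pointed_ext {i j : Idx R} (ψ ψ' : i.G →ₐ[R] j.G) (h : ∀ x, j.char (ψ x) = i.char x)
    (h' : ∀ x, j.char (ψ' x) = i.char x) : ψ = ψ' := by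
  refine EssEtale.algHom_ext i.essEtale ψ ψ' fun x => ?_
  rw [← Idx.char_eq_zero_iff, map_sub, h, h', sub_self]

instance : Nonempty (Idx R) := by
  obtain ⟨i, -⟩ := exists_index (IsScalarTower.toAlgHom R R (Ks R))
  exact ⟨i⟩

open scoped TensorProduct in
theorem exists_index_tensor {E₁ E₂ : Type u} [CommRing E₁] [Algebra R E₁] [Algebra.Etale R E₁]
    [CommRing E₂] [Algebra R E₂] [Algebra.Etale R E₂]
    (χ₁ : E₁ →ₐ[R] Ks R) (χ₂ : E₂ →ₐ[R] Ks R) :
    ∃ (k : Idx R) (ψ₁ : Loc χ₁ →ₐ[R] k.G) (ψ₂ : Loc χ₂ →ₐ[R] k.G),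
      (∀ x, k.char (ψ₁ x) = locChar χ₁ x) ∧ (∀ x, k.char (ψ₂ x) = locChar χ₂ x) := by
  have hC₃ : Algebra.Etale R (E₁ ⊗[R] E₂) := Algebra.Etale.comp R E₁ (E₁ ⊗[R] E₂)
  let χ : E₁ ⊗[R] E₂ →ₐ[R] Ks R :=
    Algebra.TensorProduct.lift χ₁ χ₂ (fun _ _ => Commute.all _ _)
  obtain ⟨k, θ, hθ⟩ := exists_index (E := E₁ ⊗[R] E₂) χ
  have h1 : ∀ c, χ ((Algebra.TensorProduct.includeLeft : E₁ →ₐ[R] E₁ ⊗[R] E₂) c) = χ₁ c := by
    intro c
    simp [χ]
  have h2 : ∀ c, χ ((Algebra.TensorProduct.includeRight : E₂ →ₐ[R] E₁ ⊗[R] E₂) c) = χ₂ c := by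
    intro c
    simp [χ]
  refine ⟨k, θ.comp (locMap χ₁ χ _ h1), θ.comp (locMap χ₂ χ _ h2), fun x => ?_, fun x => ?_⟩
  · rw [AlgHom.comp_apply, hθ, locChar_locMap]
  · rw [AlgHom.comp_apply, hθ, locChar_locMap]

instance : IsDirectedOrder (Idx R) where
  directed i j := by
    obtain ⟨k, ψ₁, ψ₂, h1, h2⟩ := exists_index_tensor i.χ j.χ
    exact ⟨k, ⟨ψ₁, h1⟩, ⟨ψ₂, h2⟩⟩

/-- The transition maps. -/
noncomputable def tr (i j : Idx R) (h : i ≤ j) : i.G →ₐ[R] j.G := Classical.choose h

theorem tr_char (i j : Idx R) (h : i ≤ j) (x : i.G) : j.char (tr i j h x) = i.char x :=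
  Classical.choose_spec h x

theorem tr_eq {i j : Idx R} (h : i ≤ j) (ψ : i.G →ₐ[R] j.G) (hψ : ∀ x, j.char (ψ x) = i.char x) :
    tr i j h = ψ :=
  pointed_ext _ _ (tr_char i j h) hψ

instance : DirectedSystem (fun i : Idx R => i.G) (fun i j h => (tr i j h : i.G → j.G)) where
  map_self i x := by
    have : tr i i le_rfl = AlgHom.id R _ := tr_eq _ _ (fun _ => rfl)
    rw [this]
    rfl
  map_map k j i hij hjk x := by
    have : tr i k (hij.trans hjk) = (tr j k hjk).comp (tr i j hij) :=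
      tr_eq _ _ (fun x => by rw [AlgHom.comp_apply, tr_char, tr_char])
    rw [this]
    rfl

end Index

/-- The strict henselization of a local ring. -/
abbrev Hs : Type u := DirectLimit (fun i : Idx R => i.G) (fun i j h => tr i j h)

noncomputable example : CommRing (Hs R) := inferInstance
noncomputable example : Algebra R (Hs R) := inferInstance

end Groth.Agent.Lib.Helper4.Hzs
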