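import Mathlib
import Groth.Prelude.Def_Hensel
import Groth.Agent.Lib.Helper4.HzsDef

/-!
# The colimit of pointed étale neighbourhoods is a strict henselization
-/

set_option autoImplicit false
universe u

namespace Groth.Agent.Lib.Helper4.Hzs

open IsLocalRing Polynomial Groth.Agent.Lib.Helper4.Hzn

variable (R : Type u) [CommRing R] [IsLocalRing R]

theorem tr_isLocalHom (i j : Idx R) (h : i ≤ j) : IsLocalHom (tr i j h) := by
  constructor
  intro x hx
  by_contra hnu
  have h1 : x ∈ maximalIdeal i.G := (mem_maximalIdeal x).mpr hnu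
  rw [← Idx.char_eq_zero_iff, ← tr_char i j h, Idx.char_eq_zero_iff] at h1
  exact (mem_maximalIdeal _).mp h1 hx

instance Hs.isLocalRing : IsLocalRing (Hs R) :=
  isLocalRing_directLimit (fun i j h => tr i j h)

instance Hs.isLocalHom_algebraMap : IsLocalHom (algebraMap R (Hs R)) :=
  isLocalHom_algebraMap_directLimit (fun i j h => tr i j h) (fun _ => inferInstance)
    (tr_isLocalHom R)

theorem root_adjunction (i : Idx R) (p : (i.G)[X]) (hp : p.Monic)
    (h0 : p.coeff 0 ∈ maximalIdeal i.G) (h1 : IsUnit (p.coeff 1)) :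
    ∃ (j : Idx R) (h : i ≤ j) (b : j.G),
      b ∈ maximalIdeal j.G ∧ p.eval₂ (tr i j h : i.G →+* j.G) b = 0 := by
  obtain ⟨E', _, _, _, χ', φ₀, b, hφ₀, hb, hroot⟩ := exists_root_adjunction i.χ p hp h0 h1
  let φ : i.G →ₐ[R] Loc χ' := φ₀
  obtain ⟨k, θ, hθ⟩ := exists_index χ'
  let ψ : i.G →ₐ[R] k.G := θ.comp φ
  have hψchar : ∀ x, k.char (ψ x) = i.char x := fun x => by
    change k.char (θ (φ₀ x)) = _
    rw [hθ]
    exact hφ₀ x
  have hik : i ≤ k := ⟨ψ, hψchar⟩
  have hψ : tr i k hik = ψ := tr_eq hik ψ hψchar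
  refine ⟨k, hik, θ b, ?_, ?_⟩
  · rw [← Idx.char_eq_zero_iff, hθ, locChar_eq_zero_iff]
    exact hb
  · rw [hψ]
    change eval₂ ((θ : Loc χ' →+* k.G).comp (φ : i.G →+* Loc χ')) ((θ : Loc χ' →+* k.G) b) p = 0
    rw [← hom_eval₂]
    have : eval₂ (φ : i.G →+* Loc χ') b p = 0 := hroot
    rw [this, map_zero]

instance Hs.henselian : HenselianLocalRing (Hs R) :=
  henselian_directLimit (fun i j h => tr i j h) (tr_isLocalHom R) (root_adjunction R)

theorem Hs.map_maximalIdeal :
    (maximalIdeal R).map (algebraMap R (Hs R)) = maximalIdeal (Hs R) :=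
  map_maximalIdeal_directLimit (fun i j h => tr i j h) (tr_isLocalHom R)
    (fun i => i.map_maximalIdeal)

instance Hs.flat : Module.Flat R (Hs R) := by
  have : ∀ i : Idx R, Module.Flat R i.G := fun i => by
    have h1 : Module.Flat i.C (Loc i.χ) := IsLocalization.flat _ (cker i.χ).primeCompl
    exact Module.Flat.trans R i.C (Loc i.χ)
  exact flat_directLimit (fun i j h => tr i j h)

/-- The geometric point of the strict henselization. -/
noncomputable def Hs.char : Hs R →ₐ[R] Ks R :=
  colimChar (fun i j h => tr i j h) (fun i => i.char) (fun i j h x => tr_char i j h x)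

theorem Hs.char_eq_zero_iff (z : Hs R) : Hs.char R z = 0 ↔ z ∈ maximalIdeal (Hs R) :=
  colimChar_eq_zero_iff (fun i j h => tr i j h) (fun i => i.char)
    (fun i j h x => tr_char i j h x) (tr_isLocalHom R) (fun i x => i.char_eq_zero_iff x) z

theorem Hs.universal (T : Type u) [CommRing T] [HenselianLocalRing T] [Algebra R T]
    [IsLocalHom (algebraMap R T)] (τ : ResidueField (Hs R) →+* ResidueField T)
    (hτ : ∀ r : R, τ (residue (Hs R) (algebraMap R (Hs R) r)) = residue T (algebraMap R T r)) :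
    ∃! g : Hs R →ₐ[R] T, ∀ x, residue T (g x) = τ (residue (Hs R) x) :=
  strict_universal (fun i j h => tr i j h) (fun _ => inferInstance) (tr_isLocalHom R)
    (fun i => i.essEtale) T τ hτ

end Groth.Agent.Lib.Helper4.Hzs
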