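import Mathlib
import Groth.Prelude.Def_Hensel
import Groth.Agent.Lib.Helper4.HzsHens

/-!
# `Hs R` is a strict henselization
-/

set_option autoImplicit false
universe u

namespace Groth.Agent.Lib.Helper4.Hzs

open IsLocalRing Polynomial Groth.Agent.Lib.Helper4.Hzn

variable (R : Type u) [CommRing R] [IsLocalRing R]

theorem Hs.char_of (i : Idx R) (x : i.G) :
    Hs.char R (DirectLimit.Algebra.of (fun i : Idx R => i.G) (fun i j h => tr i j h) i x) =
      i.char x := rfl

theorem Hs.char_surjective : Function.Surjective (Hs.char R) := by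
  intro α
  have hsep : (minpoly (ResidueField R) α).Separable :=
    Algebra.IsSeparable.isSeparable (ResidueField R) α
  have hmonic : (minpoly (ResidueField R) α).Monic :=
    minpoly.monic (Algebra.IsSeparable.isIntegral (ResidueField R) α)
  have hlift : minpoly (ResidueField R) α ∈ lifts (residue R) := by
    rw [lifts_iff_coeff_lifts]
    intro n
    exact residue_surjective _
  obtain ⟨m, hmmap, -, hmm⟩ := lifts_and_natDegree_eq_and_monic hlift hmonic
  have haeval : ∀ q : R[X], aeval α q = aeval α (q.map (residue R)) := by
    intro q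
    rw [aeval_def, aeval_def, eval₂_map, IsScalarTower.algebraMap_eq R (ResidueField R) (Ks R)]
    rfl
  let P : StandardEtalePair R := ⟨m, hmm, derivative m, ⟨1, 0, 1, by ring⟩⟩
  have hmap : P.HasMap α := by
    refine ⟨?_, ?_⟩
    · show aeval α m = 0
      rw [haeval, hmmap, minpoly.aeval]
    · show IsUnit (aeval α (derivative m))
      rw [haeval, ← derivative_map, hmmap]
      exact isUnit_iff_ne_zero.mpr (hsep.aeval_derivative_ne_zero (minpoly.aeval _ α))
  let χ : P.Ring →ₐ[R] Ks R := P.lift α hmap
  obtain ⟨i, ψ, hψ⟩ := exists_index χ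
  refine ⟨DirectLimit.Algebra.of (fun i : Idx R => i.G) (fun i j h => tr i j h) i
    (ψ (algebraMap P.Ring (Loc χ) P.X)), ?_⟩
  rw [Hs.char_of, hψ, locChar_algebraMap]
  exact P.lift_X α hmap

/-- The residue field of `Hs R` is the separable closure. -/
noncomputable def Hs.residueHom : ResidueField (Hs R) →ₐ[ResidueField R] Ks R :=
  { Ideal.Quotient.lift (maximalIdeal (Hs R)) (Hs.char R : Hs R →+* Ks R)
      (fun a ha => (Hs.char_eq_zero_iff R a).mpr ha) with
    commutes' := fun y => by
      obtain ⟨r, rfl⟩ := residue_surjective y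
      change Hs.char R (algebraMap R (Hs R) r) = _
      rw [(Hs.char R).commutes, IsScalarTower.algebraMap_apply R (ResidueField R) (Ks R)]
      rfl }

theorem Hs.residueHom_residue (x : Hs R) : Hs.residueHom R (residue (Hs R) x) = Hs.char R x :=
  rfl

theorem Hs.residueHom_bijective : Function.Bijective (Hs.residueHom R) := by
  refine ⟨(Hs.residueHom R).toRingHom.injective, fun α => ?_⟩
  obtain ⟨x, hx⟩ := Hs.char_surjective R α
  exact ⟨residue (Hs R) x, hx⟩

/-- The residue field of `Hs R` is the separable closure. -/
noncomputable def Hs.residueEquiv : ResidueField (Hs R) ≃ₐ[ResidueField R] Ks R :=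
  AlgEquiv.ofBijective (Hs.residueHom R) (Hs.residueHom_bijective R)

instance Hs.isSepClosure : IsSepClosure (ResidueField R) (ResidueField (Hs R)) where
  sep_closed := isSepClosed_of_ringEquiv (Hs.residueEquiv R).toRingEquiv
  separable := (AlgEquiv.Algebra.isSeparable_iff (Hs.residueEquiv R)).mpr inferInstance

/-- Packaging the strict universal property. -/
theorem isStrictHenselization_of (S : Type u) [CommRing S] [IsLocalRing S] [Algebra R S]
    [IsLocalHom (algebraMap R S)] (hh : HenselianLocalRing S)
    (hs : IsSepClosure (ResidueField R) (ResidueField S))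
    (hu : ∀ (T : Type u) [CommRing T] [HenselianLocalRing T] [Algebra R T]
      [IsLocalHom (algebraMap R T)] (τ : ResidueField S →+* ResidueField T),
      (∀ r : R, τ (residue S (algebraMap R S r)) = residue T (algebraMap R T r)) →
      ∃! g : S →ₐ[R] T, ∀ x, residue T (g x) = τ (residue S x)) :
    Hensel.IsStrictHenselization R S where
  henselian := hh
  isSepClosure := hs
  universal T _ _ f hf τ hτ := by
    let _ : Algebra R T := f.toAlgebra
    have hloc : IsLocalHom (algebraMap R T) := hf
    have hτ' : ∀ r : R, τ (residue S (algebraMap R S r)) = residue T (algebraMap R T r) := by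
      intro r
      have := congrArg (fun g => g (residue R r)) hτ
      exact this
    obtain ⟨ψ, hψ, huniq⟩ := hu T τ hτ'
    refine ⟨ψ.toRingHom, ⟨?_, hψ⟩, ?_⟩
    · ext a
      exact ψ.commutes a
    · rintro φ ⟨hφ1, hφ2⟩
      let φ' : S →ₐ[R] T :=
        { φ with
          commutes' := fun a => by
            have := congrArg (fun g => g a) hφ1
            exact this }
      have : φ' = ψ := huniq φ' hφ2
      ext x
      exact congrArg (fun g => g x) this

instance Hs.isStrictHenselization : Hensel.IsStrictHenselization R (Hs R) :=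
  isStrictHenselization_of R (Hs R) (Hs.henselian R) (Hs.isSepClosure R)
    (fun T _ _ _ _ τ hτ => Hs.universal R T τ hτ)

end Groth.Agent.Lib.Helper4.Hzs
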