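import Mathlib
import Groth.Prelude.Def_Hensel
import Groth.Agent.Lib.Helper4.HzsStrict
import Groth.Agent.Lib.Helper4.HznDim

/-!
# Uniqueness of the strict henselization and its basic properties
-/

set_option autoImplicit false
set_option linter.unusedSectionVars false
universe u

namespace Groth.Agent.Lib.Helper4.Hzs

open IsLocalRing Groth.Agent.Lib.Helper4.Hzn

section Uniq

variable (R : Type u) [CommRing R] [IsLocalRing R]
variable (S₁ S₂ : Type u) [CommRing S₁] [IsLocalRing S₁] [Algebra R S₁]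
  [IsLocalHom (algebraMap R S₁)] [h₁ : Hensel.IsStrictHenselization R S₁]
  [CommRing S₂] [IsLocalRing S₂] [Algebra R S₂]
  [IsLocalHom (algebraMap R S₂)] [h₂ : Hensel.IsStrictHenselization R S₂]

theorem comp_residueField_map {A B : Type u} [CommRing A] [IsLocalRing A] [Algebra R A]
    [IsLocalHom (algebraMap R A)] [CommRing B] [IsLocalRing B] [Algebra R B]
    [IsLocalHom (algebraMap R B)]
    (τ : ResidueField A →ₐ[ResidueField R] ResidueField B) :
    (τ : ResidueField A →+* ResidueField B).comp (ResidueField.map (algebraMap R A)) =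
      ResidueField.map (algebraMap R B) := by
  ext y
  obtain ⟨r, rfl⟩ := residue_surjective y
  exact τ.commutes (residue R r)

/-- Any two strict henselizations are isomorphic as algebras. -/
theorem nonempty_algEquiv_strict : Nonempty (S₁ ≃ₐ[R] S₂) := by
  have hH₁ : HenselianLocalRing S₁ := h₁.henselian
  have hH₂ : HenselianLocalRing S₂ := h₂.henselian
  have hc₁ : IsSepClosure (ResidueField R) (ResidueField S₁) := h₁.isSepClosure
  have hc₂ : IsSepClosure (ResidueField R) (ResidueField S₂) := h₂.isSepClosure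
  let τ : ResidueField S₁ ≃ₐ[ResidueField R] ResidueField S₂ :=
    IsSepClosure.equiv (ResidueField R) (ResidueField S₁) (ResidueField S₂)
  obtain ⟨g₁₂, ⟨hg₁₂, hr₁₂⟩, -⟩ := h₁.universal S₂ (algebraMap R S₂)
    (τ : ResidueField S₁ →+* ResidueField S₂) (comp_residueField_map R τ.toAlgHom)
  obtain ⟨g₂₁, ⟨hg₂₁, hr₂₁⟩, -⟩ := h₂.universal S₁ (algebraMap R S₁)
    (τ.symm : ResidueField S₂ →+* ResidueField S₁) (comp_residueField_map R τ.symm.toAlgHom)
  obtain ⟨u₁, -, hu₁⟩ := h₁.universal S₁ (algebraMap R S₁) (RingHom.id _)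
    (comp_residueField_map R (AlgHom.id _ _))
  obtain ⟨u₂, -, hu₂⟩ := h₂.universal S₂ (algebraMap R S₂) (RingHom.id _)
    (comp_residueField_map R (AlgHom.id _ _))
  have e₁ : g₂₁.comp g₁₂ = RingHom.id S₁ := by
    rw [hu₁ (g₂₁.comp g₁₂) ⟨by rw [RingHom.comp_assoc, hg₁₂, hg₂₁], fun x => by
        rw [RingHom.comp_apply, hr₂₁, hr₁₂]
        exact τ.symm_apply_apply _⟩,
      hu₁ (RingHom.id S₁) ⟨RingHom.id_comp _, fun x => rfl⟩]
  have e₂ : g₁₂.comp g₂₁ = RingHom.id S₂ := by
    rw [hu₂ (g₁₂.comp g₂₁) ⟨by rw [RingHom.comp_assoc, hg₂₁, hg₁₂], fun x => by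
        rw [RingHom.comp_apply, hr₁₂, hr₂₁]
        exact τ.apply_symm_apply _⟩,
      hu₂ (RingHom.id S₂) ⟨RingHom.id_comp _, fun x => rfl⟩]
  let a₁₂ : S₁ →ₐ[R] S₂ := { g₁₂ with commutes' := fun r => congrArg (fun g => g r) hg₁₂ }
  let a₂₁ : S₂ →ₐ[R] S₁ := { g₂₁ with commutes' := fun r => congrArg (fun g => g r) hg₂₁ }
  refine ⟨AlgEquiv.ofAlgHom a₁₂ a₂₁ ?_ ?_⟩
  · ext x
    exact congrArg (fun g => g x) e₂
  · ext x
    exact congrArg (fun g => g x) e₁

end Uniq

section Props

variable (R : Type u) [CommRing R] [IsLocalRing R]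
variable (S : Type u) [CommRing S] [IsLocalRing S] [Algebra R S]
  [IsLocalHom (algebraMap R S)] [Hensel.IsStrictHenselization R S]

/-- The maximal ideal of a strict henselization is generated by the maximal ideal of the base. -/
theorem map_maximalIdeal_of_isStrictHenselization :
    (maximalIdeal R).map (algebraMap R S) = maximalIdeal S := by
  obtain ⟨e⟩ := nonempty_algEquiv_strict R S (Hs R)
  apply le_antisymm
  · exact IsLocalRing.map_maximalIdeal_le (algebraMap R S)
  · intro x hx
    have h1 : e x ∈ maximalIdeal (Hs R) := (algEquiv_mem_maximalIdeal_iff R e x).mpr hx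
    rw [← Hs.map_maximalIdeal] at h1
    have h2 : e.symm (e x) ∈ ((maximalIdeal R).map (algebraMap R (Hs R))).map
        (e.symm : Hs R →+* S) := Ideal.mem_map_of_mem (e.symm : Hs R →+* S) h1
    rw [e.symm_apply_apply, Ideal.map_map] at h2
    have h3 : (e.symm : Hs R →+* S).comp (algebraMap R (Hs R)) = algebraMap R S := by
      ext r
      exact e.symm.commutes r
    rwa [h3] at h2

theorem faithfullyFlat_of_isStrictHenselization : Module.FaithfullyFlat R S := by
  obtain ⟨e⟩ := nonempty_algEquiv_strict R S (Hs R)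
  have : Module.FaithfullyFlat R (Hs R) := Module.FaithfullyFlat.of_flat_of_isLocalHom
  exact Module.FaithfullyFlat.of_linearEquiv R (Hs R) e.toLinearEquiv

theorem Hs.incomparable (P Q : Ideal (Hs R)) [P.IsPrime] [Q.IsPrime] (hPQ : P ≤ Q)
    (hu : P.under R = Q.under R) : P = Q := by
  refine incomparable_directLimit (fun i j h => tr i j h) ?_ P Q hPQ hu
  intro i P Q _ _ hPQ hu
  have : Algebra.QuasiFinite R i.G := inferInstanceAs (Algebra.QuasiFinite R (Loc i.χ))
  exact Algebra.QuasiFinite.eq_of_le_of_under_eq P Q hPQ hu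

theorem Hs.ringKrullDim_eq : ringKrullDim (Hs R) = ringKrullDim R := by
  have : Module.FaithfullyFlat R (Hs R) := Module.FaithfullyFlat.of_flat_of_isLocalHom
  exact le_antisymm (ringKrullDim_le_of_incomparable R (Hs R) (Hs.incomparable R))
    (ringKrullDim_le_of_faithfullyFlat R (Hs R))

theorem ringKrullDim_of_isStrictHenselization : ringKrullDim S = ringKrullDim R := by
  obtain ⟨e⟩ := nonempty_algEquiv_strict R S (Hs R)
  rw [ringKrullDim_eq_of_ringEquiv e.toRingEquiv, Hs.ringKrullDim_eq]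

end Props

end Groth.Agent.Lib.Helper4.Hzs
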