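import Mathlib
import Groth.Prelude.Def_Hensel
import Groth.Agent.Lib.Helper4.HznNoethC
import Groth.Agent.Lib.Helper4.HzsNoethC
import Groth.Agent.Lib.Helper4.HznDim

/-!
# Regularity of (strict) henselizations
-/

set_option autoImplicit false
universe u

namespace Groth.Agent.Lib.Helper4.Hzn

open IsLocalRing TensorProduct

/-- Flatness: if `∑ aᵢ xᵢ ∈ J → aᵢ ∈ I` in `R`, then `∑ cᵢ xᵢ ∈ JS → cᵢ ∈ IS` in a flat
`R`-algebra `S`. -/
theorem mem_map_of_sum_mem_map {R S : Type*} [CommRing R] [CommRing S] [Algebra R S]
    [Module.Flat R S] (I J : Ideal R) {n : ℕ} (x : Fin n → R)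
    (hx : ∀ a : Fin n → R, ∑ i, a i * x i ∈ J → ∀ i, a i ∈ I)
    (c : Fin n → S) (hc : ∑ i, c i * algebraMap R S (x i) ∈ J.map (algebraMap R S)) :
    ∀ i, c i ∈ I.map (algebraMap R S) := by
  rw [Ideal.map, Ideal.span, Submodule.mem_span_set'] at hc
  obtain ⟨m, f, g, hfg⟩ := hc
  choose r hrJ hr using fun k => (g k).2
  let F : Fin n ⊕ Fin m → R := Sum.elim x (fun k => - r k)
  let X : Fin n ⊕ Fin m → S := Sum.elim c f
  have hrel : ∑ i, F i • X i = 0 := by
    rw [Fintype.sum_sum_type]
    simp only [F, X, Sum.elim_inl, Sum.elim_inr, Algebra.smul_def, map_neg, neg_mul,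
      Finset.sum_neg_distrib]
    rw [add_neg_eq_zero]
    have : ∑ i, c i * algebraMap R S (x i) = ∑ i, algebraMap R S (x i) * c i :=
      Finset.sum_congr rfl fun i _ => mul_comm _ _
    rw [← this, ← hfg]
    refine Finset.sum_congr rfl fun i _ => ?_
    rw [smul_eq_mul, hr, mul_comm]
  obtain ⟨k, a, y, h1, h2⟩ :=
    Module.Flat.isTrivialRelation_of_sum_smul_eq_zero (R := R) (M := S) hrel
  have ha : ∀ j i, a (Sum.inl i) j ∈ I := by
    intro j
    apply hx
    have := h2 j
    rw [Fintype.sum_sum_type] at this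
    simp only [F, Sum.elim_inl, Sum.elim_inr, neg_mul, Finset.sum_neg_distrib,
      add_neg_eq_zero] at this
    simp only [mul_comm (a _ _)]
    rw [this]
    exact Ideal.sum_mem _ fun k _ => Ideal.mul_mem_right _ _ (hrJ k)
  intro i
  have := h1 (Sum.inl i)
  simp only [X, Sum.elim_inl] at this
  rw [this]
  refine Ideal.sum_mem _ fun j _ => ?_
  rw [Algebra.smul_def]
  exact Ideal.mul_mem_right _ _ (Ideal.mem_map_of_mem _ (ha j i))

theorem spanFinrank_maximalIdeal_le_of_flat_local (R S : Type u) [CommRing R] [IsLocalRing R]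
    [IsNoetherianRing R] [CommRing S] [IsLocalRing S] [IsNoetherianRing S] [Algebra R S]
    [Module.Flat R S]
    (hm : (maximalIdeal R).map (algebraMap R S) = maximalIdeal S) :
    (maximalIdeal R).spanFinrank ≤ (maximalIdeal S).spanFinrank := by
  rw [spanFinrank_maximalIdeal_eq_finrank_cotangentSpace,
    spanFinrank_maximalIdeal_eq_finrank_cotangentSpace]
  set n := Module.finrank (ResidueField R) (CotangentSpace R) with hn
  let b : Module.Basis (Fin n) (ResidueField R) (CotangentSpace R) := Module.finBasis _ _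
  choose x hx using fun i => Ideal.toCotangent_surjective _ (b i)
  have hxS : ∀ i, algebraMap R S (x i) ∈ maximalIdeal S := fun i => by
    rw [← hm]; exact Ideal.mem_map_of_mem _ (x i).2
  let y : Fin n → maximalIdeal S := fun i => ⟨algebraMap R S (x i), hxS i⟩
  have hkey : ∀ a : Fin n → R, ∑ i, a i * (x i : R) ∈ (maximalIdeal R) ^ 2 →
      ∀ i, a i ∈ maximalIdeal R := by
    intro a ha
    have h0 : ∑ i, residue R (a i) • b i = 0 := by
      have : (maximalIdeal R).toCotangent (∑ i, a i • x i) = 0 := by
        rw [Ideal.toCotangent_eq_zero]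
        simpa using ha
      rw [map_sum] at this
      rw [← this]
      refine Finset.sum_congr rfl fun i _ => ?_
      rw [map_smul, hx, ← IsLocalRing.ResidueField.algebraMap_eq, algebraMap_smul]
    have := Fintype.linearIndependent_iff.mp b.linearIndependent _ h0
    intro i
    exact (residue_eq_zero_iff _).mp (this i)
  have hli : LinearIndependent (ResidueField S)
      (fun i => (maximalIdeal S).toCotangent (y i)) := by
    rw [Fintype.linearIndependent_iff]
    intro g hg
    choose c hc using fun i => residue_surjective (g i)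
    have h0 : (maximalIdeal S).toCotangent (∑ i, c i • y i) = 0 := by
      rw [map_sum, ← hg]
      refine Finset.sum_congr rfl fun i _ => ?_
      rw [map_smul, ← hc, ← IsLocalRing.ResidueField.algebraMap_eq, algebraMap_smul]
    rw [Ideal.toCotangent_eq_zero] at h0
    have h1 : ∑ i, c i * algebraMap R S (x i) ∈ ((maximalIdeal R) ^ 2).map (algebraMap R S) := by
      rw [Ideal.map_pow, hm]
      simpa [y] using h0
    have := mem_map_of_sum_mem_map (maximalIdeal R) ((maximalIdeal R) ^ 2) (fun i => (x i : R))
      hkey c h1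
    intro i
    rw [← hc, residue_eq_zero_iff, ← hm]
    exact this i
  have := hli.fintype_card_le_finrank
  simpa using this

theorem spanFinrank_maximalIdeal_eq_of_flat_local (R S : Type u) [CommRing R] [IsLocalRing R]
    [IsNoetherianRing R] [CommRing S] [IsLocalRing S] [IsNoetherianRing S] [Algebra R S]
    [Module.Flat R S]
    (hm : (maximalIdeal R).map (algebraMap R S) = maximalIdeal S) :
    (maximalIdeal S).spanFinrank = (maximalIdeal R).spanFinrank := by
  apply le_antisymm
  · rw [← hm]
    exact Ideal.spanFinrank_map_le_of_fg _ (maximalIdeal R).fg_of_isNoetherianRing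
  · exact spanFinrank_maximalIdeal_le_of_flat_local R S hm

theorem isRegularLocalRing_iff_of_flat_local (R S : Type u) [CommRing R] [IsLocalRing R]
    [IsNoetherianRing R] [CommRing S] [IsLocalRing S] [IsNoetherianRing S] [Algebra R S]
    [Module.Flat R S]
    (hm : (maximalIdeal R).map (algebraMap R S) = maximalIdeal S)
    (hdim : ringKrullDim S = ringKrullDim R) :
    IsRegularLocalRing S ↔ IsRegularLocalRing R := by
  rw [isRegularLocalRing_iff, isRegularLocalRing_iff, hdim,
    spanFinrank_maximalIdeal_eq_of_flat_local R S hm]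

end Groth.Agent.Lib.Helper4.Hzn
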