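import Mathlib.LinearAlgebra.TensorProduct.Vanishing
import Mathlib.LinearAlgebra.TensorProduct.Quotient
import Mathlib.RingTheory.Flat.Basic
import Mathlib.RingTheory.Flat.Tensor
import Mathlib.RingTheory.LocalRing.ResidueField.Basic
import Mathlib.Algebra.Module.Projective
import Mathlib.LinearAlgebra.DirectSum.Finsupp

set_option autoImplicit false
universe u v w

namespace Groth.Agent.Lib.Helper4

open TensorProduct

/-- Over a local ring, finitely many elements of a flat module which are linearly independent
modulo the maximal ideal are universally linearly independent. -/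
theorem tmul_eq_zero_of_flat_of_indep {R : Type u} [CommRing R] [IsLocalRing R]
    {N : Type v} [AddCommGroup N] [Module R N] [Module.Flat R N]
    {Q : Type w} [AddCommGroup Q] [Module R Q] :
    ∀ (n : ℕ) (x : Fin n → N),
      (∀ c : Fin n → R, ∑ i, c i • x i ∈ (IsLocalRing.maximalIdeal R) • (⊤ : Submodule R N) →
        ∀ i, c i ∈ IsLocalRing.maximalIdeal R) →
      ∀ q : Fin n → Q, ∑ i, q i ⊗ₜ[R] x i = 0 → ∀ i, q i = 0 := by
  intro n
  induction n with
  | zero => intro x _ q _ i; exact i.elim0
  | succ n ih =>
    intro x hx q hq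
    have hflat : Function.Injective
        (LinearMap.rTensor N (Submodule.span R (Set.range q)).subtype) :=
      Module.Flat.rTensor_preserves_injective_linearMap _ (Submodule.injective_subtype _)
    obtain ⟨k, a, y, hxy, haq⟩ :=
      TensorProduct.vanishesTrivially_of_sum_tmul_eq_zero_of_rTensor_injective R hflat hq
    have hlast : ∃ j, IsUnit (a (Fin.last n) j) := by
      by_contra hcon
      push Not at hcon
      have h1 : x (Fin.last n) ∈ (IsLocalRing.maximalIdeal R) • (⊤ : Submodule R N) := by
        rw [hxy]
        exact Submodule.sum_mem _ fun j _ =>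
          Submodule.smul_mem_smul ((IsLocalRing.mem_maximalIdeal _).mpr (hcon j)) trivial
      have h2 := hx (Pi.single (Fin.last n) 1) (by
        simpa [Pi.single_apply, ite_smul] using h1) (Fin.last n)
      simp only [Pi.single_eq_same] at h2
      exact (IsLocalRing.maximalIdeal.isMaximal R).ne_top
        ((Ideal.eq_top_iff_one _).mpr h2)
    obtain ⟨j₀, hj₀⟩ := hlast
    obtain ⟨w, hw⟩ := hj₀.exists_left_inv
    set c : Fin n → R := fun i => -(w * a i.castSucc j₀) with hc
    have hqlast : q (Fin.last n) = ∑ i : Fin n, c i • q i.castSucc := by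
      have h1 := haq j₀
      rw [Fin.sum_univ_castSucc] at h1
      have h2 := congrArg (fun z => w • z) h1
      simp only [smul_add, smul_zero, smul_smul, hw, one_smul, Finset.smul_sum] at h2
      rw [eq_neg_of_add_eq_zero_right h2]
      simp [hc, neg_smul, Finset.sum_neg_distrib]
    set x' : Fin n → N := fun i => x i.castSucc + c i • x (Fin.last n) with hx'def
    have hx' : ∀ d : Fin n → R,
        ∑ i, d i • x' i ∈ (IsLocalRing.maximalIdeal R) • (⊤ : Submodule R N) →
        ∀ i, d i ∈ IsLocalRing.maximalIdeal R := by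
      intro d hd i
      have h1 := hx (Fin.snoc d (∑ i, d i * c i)) ?_ i.castSucc
      · simpa using h1
      · rw [Fin.sum_univ_castSucc]
        simp only [Fin.snoc_castSucc, Fin.snoc_last]
        convert hd using 1
        simp [hx'def, smul_add, Finset.sum_add_distrib, Finset.sum_smul, smul_smul]
    have hq' : ∑ i : Fin n, q i.castSucc ⊗ₜ[R] x' i = 0 := by
      rw [← hq, Fin.sum_univ_castSucc, hqlast]
      simp [hx'def, TensorProduct.tmul_add, Finset.sum_add_distrib, TensorProduct.sum_tmul,
        TensorProduct.smul_tmul]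
    have h3 := ih x' hx' (fun i => q i.castSucc) hq'
    intro i
    refine Fin.lastCases ?_ (fun i => h3 i) i
    rw [hqlast]
    simp [h3]

theorem one_tmul_eq_zero_iff_mem_smul_top {R : Type u} [CommRing R] [IsLocalRing R]
    {P : Type v} [AddCommGroup P] [Module R P] (z : P) :
    (1 : IsLocalRing.ResidueField R) ⊗ₜ[R] z = 0 ↔
      z ∈ (IsLocalRing.maximalIdeal R) • (⊤ : Submodule R P) := by
  have h1 : TensorProduct.quotTensorEquivQuotSMul P (IsLocalRing.maximalIdeal R)
      ((1 : R ⧸ IsLocalRing.maximalIdeal R) ⊗ₜ[R] z) = Submodule.Quotient.mk z :=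
    TensorProduct.quotTensorEquivQuotSMul_mk_one_tmul _ z
  constructor
  · intro h
    have h2 : (1 : R ⧸ IsLocalRing.maximalIdeal R) ⊗ₜ[R] z = 0 := h
    rw [h2, map_zero] at h1
    exact (Submodule.Quotient.mk_eq_zero _).mp h1.symm
  · intro h
    have h2 := (Submodule.Quotient.mk_eq_zero _).mpr h
    rw [← h1] at h2
    exact (LinearEquiv.map_eq_zero_iff _).mp h2

theorem finsupp_apply_mem_of_mem_smul_top {R : Type u} [CommRing R] (I : Ideal R)
    {ι : Type v} (y : ι →₀ R) (hy : y ∈ I • (⊤ : Submodule R (ι →₀ R))) (a : ι) : y a ∈ I := by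
  refine Submodule.smul_induction_on (p := fun y => y a ∈ I) hy ?_ ?_
  · intro r hr z _
    simpa using I.mul_mem_right _ hr
  · intro z₁ z₂ h₁ h₂
    simpa using I.add_mem h₁ h₂

/-- free source case -/
theorem rTensor_injective_of_finsupp {R : Type u} [CommRing R] [IsLocalRing R]
    {ι : Type v} {N : Type v} [AddCommGroup N] [Module R N] [Module.Flat R N]
    (u : (ι →₀ R) →ₗ[R] N)
    (h : Function.Injective (LinearMap.lTensor (IsLocalRing.ResidueField R) u))
    (Q : Type w) [AddCommGroup Q] [Module R Q] :
    Function.Injective (LinearMap.rTensor Q u) := by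
  classical
  rw [injective_iff_map_eq_zero]
  intro t ht
  set g : ι →₀ Q := TensorProduct.finsuppScalarLeft R Q ι t with hg
  have htg : t = ∑ a ∈ g.support, (Finsupp.single a (1 : R)) ⊗ₜ[R] g a := by
    have h1 : t = (TensorProduct.finsuppScalarLeft R Q ι).symm g := by
      rw [hg, LinearEquiv.symm_apply_apply]
    conv_lhs => rw [h1, ← Finsupp.sum_single g]
    rw [Finsupp.sum, map_sum]
    exact Finset.sum_congr rfl fun a _ => TensorProduct.finsuppScalarLeft_symm_apply_single a (g a)
  set n := g.support.card with hn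
  set e : Fin n ≃ g.support := g.support.equivFin.symm with he
  set x : Fin n → N := fun k => u (Finsupp.single (e k : ι) 1) with hx
  set q : Fin n → Q := fun k => g (e k : ι) with hq
  have hsum : ∑ k, q k ⊗ₜ[R] x k = 0 := by
    have h1 : LinearMap.rTensor Q u t = ∑ a ∈ g.support, u (Finsupp.single a (1 : R)) ⊗ₜ[R] g a := by
      conv_lhs => rw [htg]
      simp [map_sum]
    rw [ht] at h1
    have h2 := congrArg (TensorProduct.comm R N Q) h1
    simp only [map_zero, map_sum, TensorProduct.comm_tmul] at h2
    rw [← Finset.sum_coe_sort] at h2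
    rw [h2, ← e.sum_comp]
  have hindep : ∀ c : Fin n → R,
      ∑ k, c k • x k ∈ (IsLocalRing.maximalIdeal R) • (⊤ : Submodule R N) →
      ∀ k, c k ∈ IsLocalRing.maximalIdeal R := by
    intro c hc k
    set y : ι →₀ R := ∑ k, c k • Finsupp.single (e k : ι) (1 : R) with hy
    have h1 : u y = ∑ k, c k • x k := by
      rw [hy, map_sum]
      exact Finset.sum_congr rfl fun k _ => map_smul u _ _
    rw [← h1, ← one_tmul_eq_zero_iff_mem_smul_top] at hc
    have h2 : LinearMap.lTensor (IsLocalRing.ResidueField R) u
        ((1 : IsLocalRing.ResidueField R) ⊗ₜ[R] y) = 0 := by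
      rw [LinearMap.lTensor_tmul]; exact hc
    have h3 := (injective_iff_map_eq_zero _).mp h _ h2
    rw [one_tmul_eq_zero_iff_mem_smul_top] at h3
    have h4 := finsupp_apply_mem_of_mem_smul_top _ y h3 (e k : ι)
    have h5 : y (e k : ι) = c k := by
      rw [hy, Finsupp.finsetSum_apply]
      rw [Finset.sum_eq_single k]
      · simp
      · intro b _ hb
        have : (e b : ι) ≠ (e k : ι) := fun h => hb (e.injective (Subtype.ext h))
        simp [this]
      · simp
    rwa [h5] at h4
  have hq0 := tmul_eq_zero_of_flat_of_indep n x hindep q hsum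
  have hsupp : g.support = ∅ := by
    by_contra hne
    obtain ⟨a, ha⟩ := Finset.nonempty_iff_ne_empty.mpr hne
    have h1 := hq0 (e.symm ⟨a, ha⟩)
    simp only [hq, Equiv.apply_symm_apply] at h1
    exact (Finsupp.mem_support_iff.mp ha) h1
  rw [htg, hsupp, Finset.sum_empty]

theorem flat_prod {R : Type u} [CommRing R] {A : Type v} {B : Type w} [AddCommGroup A] [Module R A]
    [AddCommGroup B] [Module R B] [Module.Flat R A] [Module.Flat R B] : Module.Flat R (A × B) := by
  rw [Module.Flat.iff_rTensor_injective']
  intro K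
  rw [injective_iff_map_eq_zero]
  intro z hz
  have hA := Module.Flat.rTensor_preserves_injective_linearMap (M := A) K.subtype
    Subtype.val_injective
  have hB := Module.Flat.rTensor_preserves_injective_linearMap (M := B) K.subtype
    Subtype.val_injective
  have h1 : LinearMap.lTensor K (LinearMap.fst R A B) z = 0 := by
    apply hA
    rw [map_zero, ← LinearMap.comp_apply, LinearMap.rTensor_comp_lTensor,
      ← LinearMap.lTensor_comp_rTensor, LinearMap.comp_apply, hz, map_zero]
  have h2 : LinearMap.lTensor K (LinearMap.snd R A B) z = 0 := by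
    apply hB
    rw [map_zero, ← LinearMap.comp_apply, LinearMap.rTensor_comp_lTensor,
      ← LinearMap.lTensor_comp_rTensor, LinearMap.comp_apply, hz, map_zero]
  have h3 : z = LinearMap.lTensor K (LinearMap.inl R A B) (LinearMap.lTensor K (LinearMap.fst R A B) z)
      + LinearMap.lTensor K (LinearMap.inr R A B) (LinearMap.lTensor K (LinearMap.snd R A B) z) := by
    rw [← LinearMap.comp_apply, ← LinearMap.comp_apply, ← LinearMap.lTensor_comp,
      ← LinearMap.lTensor_comp, ← LinearMap.add_apply, ← LinearMap.lTensor_add]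
    have : LinearMap.inl R A B ∘ₗ LinearMap.fst R A B + LinearMap.inr R A B ∘ₗ LinearMap.snd R A B
        = LinearMap.id := by
      ext <;> simp
    rw [this, LinearMap.lTensor_id, LinearMap.id_apply]
  rw [h3, h1, h2, map_zero, map_zero, add_zero]

end Groth.Agent.Lib.Helper4
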