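import Mathlib
import Groth.Prelude.Def_CAlg2

/-!
# Minimal primes of `A' ⊗_A S` for flat `S` (`A'` the normalization of `A_red`)
-/

set_option autoImplicit false
set_option linter.unusedSectionVars false
universe u

namespace Groth.Agent.Lib.Helper4.BrnchMin

open TensorProduct

section LemmaM

variable {B C : Type*} [CommRing B] [CommRing C] [Algebra B C] (W : Submonoid B)
  (ha : ∀ c : C, ∃ w ∈ W, ∃ b : B, algebraMap B C w * c = algebraMap B C b)

/-- The "extension" of an ideal along a birational-type map. -/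
def ext (𝔮 : Ideal B) : Ideal C where
  carrier := {c | ∃ w ∈ W, ∃ b ∈ 𝔮, algebraMap B C w * c = algebraMap B C b}
  add_mem' := by
    rintro c c' ⟨w, hw, b, hb, h⟩ ⟨w', hw', b', hb', h'⟩
    refine ⟨w * w', W.mul_mem hw hw', w' * b + w * b',
      𝔮.add_mem (𝔮.mul_mem_left _ hb) (𝔮.mul_mem_left _ hb'), ?_⟩
    rw [map_mul, map_add, map_mul, map_mul, ← h, ← h']
    ring
  zero_mem' := ⟨1, W.one_mem, 0, 𝔮.zero_mem, by rw [mul_zero, map_zero]⟩
  smul_mem' := by
    rintro x c ⟨w, hw, b, hb, h⟩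
    obtain ⟨w', hw', b', h'⟩ := ha x
    refine ⟨w' * w, W.mul_mem hw' hw, b' * b, 𝔮.mul_mem_left _ hb, ?_⟩
    rw [map_mul, map_mul, ← h, ← h', smul_eq_mul]
    ring

theorem mem_ext {𝔮 : Ideal B} {c : C} :
    c ∈ ext W ha 𝔮 ↔ ∃ w ∈ W, ∃ b ∈ 𝔮, algebraMap B C w * c = algebraMap B C b := Iff.rfl

variable (hb : ∀ b : B, algebraMap B C b = 0 → IsNilpotent b)

include hb in
theorem mem_of_algebraMap_eq {𝔮 : Ideal B} [𝔮.IsPrime] {x y : B}
    (h : algebraMap B C x = algebraMap B C y) (hy : y ∈ 𝔮) : x ∈ 𝔮 := by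
  have h1 : algebraMap B C (x - y) = 0 := by rw [map_sub, h, sub_self]
  have h2 : x - y ∈ 𝔮 := nilradical_le_prime 𝔮 (mem_nilradical.mpr (hb _ h1))
  have : x = (x - y) + y := by ring
  rw [this]
  exact 𝔮.add_mem h2 hy

include hb in
theorem comap_ext (𝔮 : Ideal B) [𝔮.IsPrime] (hd : ∀ w ∈ W, w ∉ 𝔮) :
    (ext W ha 𝔮).comap (algebraMap B C) = 𝔮 := by
  ext b₀
  rw [Ideal.mem_comap, mem_ext]
  constructor
  · rintro ⟨w, hw, b, hbq, h⟩
    have h1 : w * b₀ ∈ 𝔮 := mem_of_algebraMap_eq hb (by rw [map_mul, h]) hbq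
    exact (Ideal.IsPrime.mem_or_mem inferInstance h1).resolve_left (hd w hw)
  · intro h
    exact ⟨1, W.one_mem, b₀, h, by rw [map_one, one_mul]⟩

include hb in
theorem ext_isPrime (𝔮 : Ideal B) [h𝔮 : 𝔮.IsPrime] (hd : ∀ w ∈ W, w ∉ 𝔮) :
    (ext W ha 𝔮).IsPrime := by
  refine ⟨?_, ?_⟩
  · intro htop
    have h1 : (1 : B) ∈ (ext W ha 𝔮).comap (algebraMap B C) := by
      rw [Ideal.mem_comap, htop]; trivial
    rw [comap_ext W ha hb 𝔮 hd] at h1
    exact h𝔮.ne_top ((Ideal.eq_top_iff_one _).mpr h1)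
  · intro c c' hcc'
    obtain ⟨w'', hw'', b'', hb'', h''⟩ := hcc'
    obtain ⟨w, hw, b, h⟩ := ha c
    obtain ⟨w', hw', b', h'⟩ := ha c'
    have h1 : w'' * (b * b') ∈ 𝔮 := by
      refine mem_of_algebraMap_eq hb (y := w * w' * b'') ?_ (𝔮.mul_mem_left _ hb'')
      rw [map_mul, map_mul, map_mul, map_mul, ← h, ← h', ← h'']
      ring
    have h2 : b * b' ∈ 𝔮 :=
      (Ideal.IsPrime.mem_or_mem inferInstance h1).resolve_left (hd w'' hw'')
    rcases Ideal.IsPrime.mem_or_mem inferInstance h2 with h3 | h3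
    · exact Or.inl ⟨w, hw, b, h3, h⟩
    · exact Or.inr ⟨w', hw', b', h3, h'⟩

theorem ext_comap (P : Ideal C) [hP : P.IsPrime] (hd : ∀ w ∈ W, algebraMap B C w ∉ P) :
    ext W ha (P.comap (algebraMap B C)) = P := by
  ext c
  rw [mem_ext]
  constructor
  · rintro ⟨w, hw, b, hbP, h⟩
    have h1 : algebraMap B C w * c ∈ P := by rw [h]; exact hbP
    exact (hP.mem_or_mem h1).resolve_left (hd w hw)
  · intro hc
    obtain ⟨w, hw, b, h⟩ := ha c
    refine ⟨w, hw, b, ?_, h⟩
    rw [Ideal.mem_comap, ← h]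
    exact P.mul_mem_left _ hc

theorem ext_mono {𝔮 𝔮' : Ideal B} (h : 𝔮 ≤ 𝔮') : ext W ha 𝔮 ≤ ext W ha 𝔮' := by
  rintro c ⟨w, hw, b, hbq, hc⟩
  exact ⟨w, hw, b, h hbq, hc⟩

include ha hb in
/-- Lemma M: minimal primes correspond under contraction. -/
theorem bijOn_comap_minimalPrimes
    (hc : ∀ P ∈ minimalPrimes C, ∀ w ∈ W, algebraMap B C w ∉ P)
    (hd : ∀ 𝔮 ∈ minimalPrimes B, ∀ w ∈ W, w ∉ 𝔮) :
    Set.BijOn (fun P : Ideal C => P.comap (algebraMap B C)) (minimalPrimes C) (minimalPrimes B) := by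
  refine ⟨?_, ?_, ?_⟩
  · -- maps to
    intro P hP
    have hPp : P.IsPrime := hP.1.1
    refine ⟨⟨Ideal.comap_isPrime _ _, bot_le⟩, fun 𝔮' h𝔮' hle => ?_⟩
    have h𝔮'p : 𝔮'.IsPrime := h𝔮'.1
    have hdis : ∀ w ∈ W, w ∉ 𝔮' := fun w hw hmem => hc P hP w hw (hle hmem)
    have h1 : ext W ha 𝔮' ≤ P := by
      have := ext_mono W ha hle
      rwa [ext_comap W ha P (hc P hP)] at this
    have h2 : P ≤ ext W ha 𝔮' := hP.2 ⟨ext_isPrime W ha hb 𝔮' hdis, bot_le⟩ h1
    have := Ideal.comap_mono (f := algebraMap B C) h2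
    rwa [comap_ext W ha hb 𝔮' hdis] at this
  · -- injective
    intro P hP P' hP' hPP'
    have hPp : P.IsPrime := hP.1.1
    have hP'p : P'.IsPrime := hP'.1.1
    have h1 := ext_comap W ha P (hc P hP)
    have h2 := ext_comap W ha P' (hc P' hP')
    have hPP'' : P.comap (algebraMap B C) = P'.comap (algebraMap B C) := hPP'
    rw [← h1, ← h2, hPP'']
  · -- surjective
    intro 𝔮 h𝔮
    have h𝔮p : 𝔮.IsPrime := h𝔮.1.1
    have hdis := hd 𝔮 h𝔮
    have hprime := ext_isPrime W ha hb 𝔮 hdis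
    refine ⟨ext W ha 𝔮, ⟨⟨hprime, bot_le⟩, fun P' hP' hle => ?_⟩, comap_ext W ha hb 𝔮 hdis⟩
    have hP'p : P'.IsPrime := hP'.1
    have hdisP' : ∀ w ∈ W, algebraMap B C w ∉ P' := by
      intro w hw hmem
      have h1 : w ∈ (ext W ha 𝔮).comap (algebraMap B C) := hle hmem
      rw [comap_ext W ha hb 𝔮 hdis] at h1
      exact hdis w hw h1
    have h1 : P'.comap (algebraMap B C) ≤ 𝔮 := by
      have := Ideal.comap_mono (f := algebraMap B C) hle
      rwa [comap_ext W ha hb 𝔮 hdis] at this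
    have h2 : 𝔮 ≤ P'.comap (algebraMap B C) := h𝔮.2 ⟨Ideal.comap_isPrime _ _, bot_le⟩ h1
    have := ext_mono W ha h2
    rwa [ext_comap W ha P' hdisP'] at this

end LemmaM

/-- Contractions of minimal primes along a flat map are minimal. -/
theorem comap_mem_minimalPrimes_of_flat {R S : Type*} [CommRing R] [CommRing S] [Algebra R S]
    [Module.Flat R S] {Q : Ideal S} (hQ : Q ∈ minimalPrimes S) :
    Q.comap (algebraMap R S) ∈ minimalPrimes R := by
  have hQp : Q.IsPrime := hQ.1.1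
  refine ⟨⟨Ideal.comap_isPrime _ _, bot_le⟩, fun p hp hle => ?_⟩
  have hpp : p.IsPrime := hp.1
  have hlo : Q.LiesOver (Q.comap (algebraMap R S)) := ⟨rfl⟩
  obtain ⟨P, hPQ, hPp, hPl⟩ := Ideal.exists_ideal_le_liesOver_of_le (p := p)
    (q := Q.comap (algebraMap R S)) Q hle
  have h1 : Q ≤ P := hQ.2 ⟨hPp, bot_le⟩ hPQ
  have h2 : P = Q := le_antisymm hPQ h1
  rw [hPl.over, h2]

open CAlg2

section NormRed

variable (A : Type u) [CommRing A]

/-- The multiplicative set of elements of `A` that are nonzerodivisors in `A_red`. -/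
def W₀ : Submonoid A := (nonZeroDivisors (red A)).comap (Ideal.Quotient.mk (nilradical A))

theorem mem_W₀ {w : A} : w ∈ W₀ A ↔ Ideal.Quotient.mk (nilradical A) w ∈ nonZeroDivisors (red A) :=
  Iff.rfl

theorem algebraMap_normRed_mem_nonZeroDivisors {w : A} (hw : w ∈ W₀ A) :
    algebraMap A (normRed A) w ∈ nonZeroDivisors (normRed A) := by
  rw [mem_nonZeroDivisors_iff_right]
  intro x hx
  have h1 : algebraMap (red A) (FractionRing (red A)) (Ideal.Quotient.mk (nilradical A) w) ∈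
      nonZeroDivisors (FractionRing (red A)) :=
    IsLocalization.map_nonZeroDivisors_le (nonZeroDivisors (red A)) _
      (Submonoid.mem_map_of_mem _ hw)
  have h2 : (x : FractionRing (red A)) *
      algebraMap (red A) (FractionRing (red A)) (Ideal.Quotient.mk (nilradical A) w) = 0 := by
    have := congrArg (Subtype.val) hx
    exact this
  have h3 := (mem_nonZeroDivisors_iff_right.mp h1) _ h2
  exact Subtype.ext h3

theorem notMem_of_mem_minimalPrimes {p : Ideal A} (hp : p ∈ minimalPrimes A) {w : A}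
    (hw : w ∈ W₀ A) : w ∉ p := by
  intro hwp
  have h1 : p ∈ (nilradical A).minimalPrimes := by
    have : nilradical A = (⊥ : Ideal A).radical := rfl
    rw [this, Ideal.radical_minimalPrimes]
    exact hp
  rw [Ideal.minimalPrimes_eq_comap] at h1
  obtain ⟨p', hp', rfl⟩ := h1
  exact notMem_nonZeroDivisors_of_mem_mem_minimalPrimes (Ideal.mem_comap.mp hwp) hp' hw

theorem exists_mul_eq (a' : normRed A) :
    ∃ w ∈ W₀ A, ∃ a : A, algebraMap A (normRed A) w * a' = algebraMap A (normRed A) a := by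
  obtain ⟨⟨x, s⟩, hx⟩ := IsLocalization.surj (nonZeroDivisors (red A)) (a' : FractionRing (red A))
  obtain ⟨w, hw⟩ := Ideal.Quotient.mk_surjective (I := nilradical A) (s : red A)
  obtain ⟨a, ha⟩ := Ideal.Quotient.mk_surjective (I := nilradical A) x
  refine ⟨w, ?_, a, ?_⟩
  · rw [mem_W₀, hw]; exact s.2
  · apply Subtype.ext
    simp only at hx
    have e1 : ((algebraMap A (normRed A) w * a' : normRed A) : FractionRing (red A)) =
        algebraMap (red A) (FractionRing (red A)) (Ideal.Quotient.mk (nilradical A) w) * a' := rfl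
    have e2 : ((algebraMap A (normRed A) a : normRed A) : FractionRing (red A)) =
        algebraMap (red A) (FractionRing (red A)) (Ideal.Quotient.mk (nilradical A) a) := rfl
    rw [e1, e2, hw, ha, ← hx, mul_comm]

end NormRed

section Main

variable (A : Type u) [CommRing A] (S : Type u) [CommRing S] [Algebra A S]

/-- The image of `W₀ A` in `S`. -/
def WS : Submonoid S := (W₀ A).map (algebraMap A S)

theorem hypA (c : normRed A ⊗[A] S) :
    ∃ w ∈ WS A S, ∃ b : S,
      (Algebra.TensorProduct.includeRight : S →ₐ[A] normRed A ⊗[A] S) w * c =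
        (Algebra.TensorProduct.includeRight : S →ₐ[A] normRed A ⊗[A] S) b := by
  induction c using TensorProduct.induction_on with
  | zero => exact ⟨1, Submonoid.one_mem _, 0, by simp⟩
  | tmul a' s =>
    obtain ⟨w, hw, a, h⟩ := exists_mul_eq A a'
    refine ⟨algebraMap A S w, Submonoid.mem_map_of_mem _ hw, a • s, ?_⟩
    rw [Algebra.TensorProduct.includeRight_apply, Algebra.TensorProduct.includeRight_apply,
      Algebra.TensorProduct.tmul_mul_tmul, one_mul, ← Algebra.smul_def, ← TensorProduct.smul_tmul,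
      Algebra.smul_def, h, ← TensorProduct.smul_tmul, Algebra.smul_def, mul_one]
  | add c₁ c₂ h₁ h₂ =>
    obtain ⟨w₁, hw₁, b₁, e₁⟩ := h₁
    obtain ⟨w₂, hw₂, b₂, e₂⟩ := h₂
    refine ⟨w₁ * w₂, Submonoid.mul_mem _ hw₁ hw₂, w₂ * b₁ + w₁ * b₂, ?_⟩
    rw [map_mul, map_add, map_mul, map_mul, ← e₁, ← e₂]
    ring

theorem hypB [Module.Flat A S] (s : S)
    (hs : (Algebra.TensorProduct.includeRight : S →ₐ[A] normRed A ⊗[A] S) s = 0) :
    IsNilpotent s := by
  let f : red A →ₗ[A] normRed A := (IsScalarTower.toAlgHom A (red A) (normRed A)).toLinearMap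
  have hf : Function.Injective f := by
    intro x y hxy
    have h1 : algebraMap (red A) (normRed A) x = algebraMap (red A) (normRed A) y := hxy
    have h2 := congrArg Subtype.val h1
    exact IsFractionRing.injective (red A) (FractionRing (red A)) h2
  have hinj := Module.Flat.rTensor_preserves_injective_linearMap (M := S) f hf
  have h1 : f.rTensor S ((1 : red A) ⊗ₜ[A] s) = 0 := by
    rw [LinearMap.rTensor_tmul]
    have : f 1 = 1 := map_one (algebraMap (red A) (normRed A))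
    rw [this]
    exact hs
  have h2 : (1 : red A) ⊗ₜ[A] s = 0 := hinj (by rw [h1, map_zero])
  have h3 := congrArg (TensorProduct.quotTensorEquivQuotSMul S (nilradical A)) h2
  rw [TensorProduct.quotTensorEquivQuotSMul_mk_one_tmul, map_zero,
    Submodule.Quotient.mk_eq_zero] at h3
  have h4 : (nilradical A • (⊤ : Submodule A S)) ≤ (nilradical S).restrictScalars A := by
    rw [Submodule.smul_le]
    intro r hr n _
    show r • n ∈ nilradical S
    rw [Algebra.smul_def]
    exact Ideal.mul_mem_right _ _ (mem_nilradical.mpr ((mem_nilradical.mp hr).map _))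
  exact mem_nilradical.mp (h4 h3)

theorem hypC [Module.Flat A S] (P : Ideal (normRed A ⊗[A] S))
    (hP : P ∈ minimalPrimes (normRed A ⊗[A] S)) (w : S) (hw : w ∈ WS A S) :
    (Algebra.TensorProduct.includeRight : S →ₐ[A] normRed A ⊗[A] S) w ∉ P := by
  obtain ⟨w₀, hw₀, rfl⟩ := hw
  intro hmem
  have hP' : P ∈ @minimalPrimes (normRed A ⊗[A] S) CommRing.toCommSemiring := hP
  have h1 := comap_mem_minimalPrimes_of_flat (R := normRed A) hP'
  have h2 : algebraMap A (normRed A) w₀ ∈ P.comap (algebraMap (normRed A) (normRed A ⊗[A] S)) := by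
    rw [Ideal.mem_comap]
    have e : algebraMap (normRed A) (normRed A ⊗[A] S) (algebraMap A (normRed A) w₀) =
        (Algebra.TensorProduct.includeRight : S →ₐ[A] normRed A ⊗[A] S) (algebraMap A S w₀) := by
      rw [Algebra.TensorProduct.includeRight_apply, Algebra.TensorProduct.algebraMap_apply,
        Algebra.algebraMap_self, RingHom.id_apply, Algebra.algebraMap_eq_smul_one,
        Algebra.algebraMap_eq_smul_one (A := S), TensorProduct.smul_tmul]
    rw [e]
    exact hmem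
  exact notMem_nonZeroDivisors_of_mem_mem_minimalPrimes h2 h1
    (algebraMap_normRed_mem_nonZeroDivisors A hw₀)

theorem hypD [Module.Flat A S] (𝔮 : Ideal S) (h𝔮 : 𝔮 ∈ minimalPrimes S) (w : S)
    (hw : w ∈ WS A S) : w ∉ 𝔮 := by
  obtain ⟨w₀, hw₀, rfl⟩ := hw
  intro hmem
  exact notMem_of_mem_minimalPrimes A (comap_mem_minimalPrimes_of_flat (R := A) h𝔮) hw₀ hmem

theorem bijOn_normRed_tensor [Module.Flat A S] :
    Set.BijOn (fun P : Ideal ((CAlg2.normRed A) ⊗[A] S) =>
        P.comap (Algebra.TensorProduct.includeRight.toRingHom :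
          S →+* (CAlg2.normRed A) ⊗[A] S))
      (minimalPrimes ((CAlg2.normRed A) ⊗[A] S))
      (minimalPrimes S) := by
  let _ : Algebra S (normRed A ⊗[A] S) := Algebra.TensorProduct.rightAlgebra
  exact bijOn_comap_minimalPrimes (B := S) (C := normRed A ⊗[A] S) (WS A S)
    (fun c => hypA A S c) (fun b hb => hypB A S b hb) (fun P hP w hw => hypC A S P hP w hw)
    (fun 𝔮 h𝔮 w hw => hypD A S 𝔮 h𝔮 w hw)

end Main

end Groth.Agent.Lib.Helper4.BrnchMin
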