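import Mathlib
import Groth.Prelude.Def_Hensel
import Groth.Prelude.Def_CAlg
import Groth.Agent.Lib.Helper24.DepthFlat
import Groth.Agent.Lib.Helper4.HznNoethC
import Groth.Agent.Lib.Helper4.HzsNoethC
import Groth.Agent.Lib.Helper4.HznDim

/-!
# Depth and the Cohen–Macaulay property of (strict) henselizations
-/

set_option autoImplicit false
universe u

namespace Groth.Agent.Lib.Helper4.Hzn

open IsLocalRing TensorProduct

/-- Depth is invariant under faithfully flat local maps `R → S` with `𝔪_R S = 𝔪_S`. -/
theorem depth_eq_of_faithfullyFlat_local (R S : Type u) [CommRing R] [IsLocalRing R]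
    [IsNoetherianRing R] [CommRing S] [IsLocalRing S] [IsNoetherianRing S] [Algebra R S]
    [Module.FaithfullyFlat R S]
    (hm : (maximalIdeal R).map (algebraMap R S) = maximalIdeal S) :
    LocCoh.depth S S = LocCoh.depth R R := by
  unfold LocCoh.depth
  rw [← hm]
  have e : (S ⊗[R] R) ≃ₗ[S] S := TensorProduct.AlgebraTensorModule.rid R S S
  rw [← Groth.Agent.Lib.Helper24.DepthFlat.idealDepth_congr _ e]
  apply le_antisymm
  · rw [← ENat.forall_natCast_le_iff_le]
    intro n hn
    exact Groth.Agent.Lib.Helper24.DepthFlat.depth_ge_of_faithfullyFlat R S (maximalIdeal R) n R hn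
  · exact Groth.Agent.Lib.Helper24.DepthFlat.depth_le_of_flat R S (maximalIdeal R) R

theorem isCohenMacaulayLocalRing_iff_of_faithfullyFlat_local (R S : Type u) [CommRing R]
    [IsLocalRing R] [IsNoetherianRing R] [CommRing S] [IsLocalRing S] [IsNoetherianRing S]
    [Algebra R S] [Module.FaithfullyFlat R S]
    (hm : (maximalIdeal R).map (algebraMap R S) = maximalIdeal S)
    (hdim : ringKrullDim S = ringKrullDim R) :
    LocCoh.IsCohenMacaulayLocalRing S ↔ LocCoh.IsCohenMacaulayLocalRing R := by
  have hd := depth_eq_of_faithfullyFlat_local R S hm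
  have h1 : Module.supportDim S S = ringKrullDim S := Module.supportDim_self_eq_ringKrullDim S
  have h2 : Module.supportDim R R = ringKrullDim R := Module.supportDim_self_eq_ringKrullDim R
  constructor
  · intro h
    refine ⟨?_⟩
    have := h.supportDim_eq_depth
    rw [h2, ← hdim, ← h1, this, hd]
  · intro h
    refine ⟨?_⟩
    have := h.supportDim_eq_depth
    rw [h1, hdim, ← h2, this, hd]

end Groth.Agent.Lib.Helper4.Hzn
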