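import Mathlib
import Groth.Prelude.Def_PBC
import Groth.Agent.Lib.Helper1.UnderColimit

/-!
# Ind-étale algebras from directed systems of algebras
-/

set_option autoImplicit false
universe u

namespace Groth.Agent.Lib.Helper4.IndEt

open CategoryTheory CategoryTheory.Limits

variable (R : Type u) [CommRing R]

/-- The object property "étale over `R`" on `Under (CommRingCat.of R)`. -/
def Pet : ObjectProperty (Under (CommRingCat.of R)) := fun X =>
  let _ := X.hom.hom.toAlgebra; Algebra.Etale R X.right

/-- The object of `Under R` attached to an `R`-algebra. -/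
abbrev mkU (B : Type u) [CommRing B] [Algebra R B] : Under (CommRingCat.of R) :=
  Under.mk (CommRingCat.ofHom (algebraMap R B))

theorem pet_mkU (B : Type u) [CommRing B] [Algebra R B] [Algebra.Etale R B] : Pet R (mkU R B) := by
  change @Algebra.Etale R B _ _ (RingHom.toAlgebra (algebraMap R B))
  have : RingHom.toAlgebra (algebraMap R B) = (inferInstance : Algebra R B) :=
    Algebra.algebra_ext _ _ (fun _ => rfl)
  rw [this]
  infer_instance

theorem pet_le_isFinitelyPresentable :
    Pet R ≤ ObjectProperty.isFinitelyPresentable.{u} (Under (CommRingCat.of R)) := by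
  intro X hX
  apply CommRingCat.isFinitelyPresentable_under
  letI := X.hom.hom.toAlgebra
  have h1 : Algebra.Etale R X.right := hX
  have h2 : Algebra.FinitePresentation R X.right := inferInstance
  exact h2

theorem isIndEtale_of_ind (B : Type u) [CommRing B] [Algebra R B]
    (h : ObjectProperty.ind.{u} (Pet R) (mkU R B)) : EtPBC.IsIndEtale R B := by
  obtain ⟨J, hJ1, hJ2, pres, hp⟩ := h
  exact ⟨J, hJ1, hJ2, pres.diag, ⟨_, pres.ι⟩, pres.isColimit, hp, ⟨Iso.refl _⟩⟩

theorem ind_ind_pet :
    ObjectProperty.ind.{u} (ObjectProperty.ind.{u} (Pet R)) = ObjectProperty.ind.{u} (Pet R) :=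
  ObjectProperty.ind_ind (pet_le_isFinitelyPresentable R)

section system

variable {R}
variable {ι : Type u} [Preorder ι] [IsDirectedOrder ι] [Nonempty ι]
  (G : ι → Type u) [∀ i, CommRing (G i)] [∀ i, Algebra R (G i)]
  (f : ∀ i j, i ≤ j → G i →ₐ[R] G j)
  (hid : ∀ i x, f i i le_rfl x = x)
  (hcomp : ∀ i j k (hij : i ≤ j) (hjk : j ≤ k) x, f j k hjk (f i j hij x) = f i k (hij.trans hjk) x)

/-- The diagram in `Under R` attached to a system of algebras over a preorder. -/
def sysFunctor : ι ⥤ Under (CommRingCat.of R) where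
  obj i := mkU R (G i)
  map {i j} h := Under.homMk (CommRingCat.ofHom (f i j (leOfHom h)).toRingHom) (by
    ext a
    exact (f i j (leOfHom h)).commutes a)
  map_id i := by
    ext x
    exact hid i x
  map_comp {i j k} h₁ h₂ := by
    ext x
    exact (hcomp i j k (leOfHom h₁) (leOfHom h₂) x).symm

variable (B : Type u) [CommRing B] [Algebra R B] (g : ∀ i, G i →ₐ[R] B)
  (hg : ∀ i j (h : i ≤ j) x, g j (f i j h x) = g i x)

/-- The cocone with point `B`. -/
def sysCocone : Cocone (sysFunctor G f hid hcomp) where
  pt := mkU R B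
  ι :=
    { app := fun i => Under.homMk (CommRingCat.ofHom (g i).toRingHom) (by
        ext a
        exact (g i).commutes a)
      naturality := fun i j h => by
        ext x
        exact hg i j (leOfHom h) x }

include hg hid hcomp in
theorem ind_of_system (hsurj : ∀ b : B, ∃ i x, g i x = b)
    (hinj : ∀ i x, g i x = 0 → ∃ j, ∃ h : i ≤ j, f i j h x = 0)
    (P : ObjectProperty (Under (CommRingCat.of R))) (hP : ∀ i, P (mkU R (G i))) :
    ObjectProperty.ind.{u} P (mkU R B) := by
  have hfil : IsFiltered ι := inferInstance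
  obtain ⟨hc⟩ := Groth.Agent.Lib.Helper1.isColimit_under_of_surj_inj
    (sysFunctor G f hid hcomp) (sysCocone G f hid hcomp B g hg)
    (fun x => by
      obtain ⟨i, y, hy⟩ := hsurj x
      exact ⟨i, y, hy.symm⟩)
    (fun i j (xi : G i) (xj : G j) hx => by
      obtain ⟨k, hik, hjk⟩ := exists_ge_ge i j
      have hx' : g i xi = g j xj := hx
      have h0 : g k (f i k hik xi - f j k hjk xj) = 0 := by
        rw [map_sub, hg, hg, sub_eq_zero]
        exact hx'
      obtain ⟨l, hkl, hl⟩ := hinj k _ h0
      refine ⟨l, homOfLE (hik.trans hkl), homOfLE (hjk.trans hkl), ?_⟩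
      rw [map_sub, sub_eq_zero, hcomp, hcomp] at hl
      exact hl)
  exact ⟨ι, inferInstance, hfil, ⟨sysFunctor G f hid hcomp, (sysCocone G f hid hcomp B g hg).ι, hc⟩,
    hP⟩

end system

end Groth.Agent.Lib.Helper4.IndEt
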