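import Mathlib
import Groth.Agent.Lib.Helper4.IndEtGen

/-!
# The localization of an étale algebra at a prime is ind-étale
-/

set_option autoImplicit false
universe u

namespace Groth.Agent.Lib.Helper4.IndEt

open CategoryTheory CategoryTheory.Limits

variable {R : Type u} [CommRing R] (E : Type u) [CommRing E] [Algebra R E] (q : Ideal E)
  [q.IsPrime]

/-- Elements outside the prime `q`, ordered by divisibility. -/
structure DivIdx where
  val : E
  nmem : val ∉ q

namespace DivIdx

variable {E q}

instance : Preorder (DivIdx E q) where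
  le s t := s.val ∣ t.val
  le_refl s := dvd_refl _
  le_trans _ _ _ := dvd_trans

omit [q.IsPrime] in
theorem le_def (s t : DivIdx E q) : s ≤ t ↔ s.val ∣ t.val := Iff.rfl

instance : Nonempty (DivIdx E q) := ⟨⟨1, fun h => Ideal.IsPrime.ne_top' ((Ideal.eq_top_iff_one q).mpr h)⟩⟩

instance : IsDirectedOrder (DivIdx E q) where
  directed s t :=
    ⟨⟨s.val * t.val, fun h => (Ideal.IsPrime.mem_or_mem inferInstance h).elim s.nmem t.nmem⟩,
      Dvd.intro _ rfl, Dvd.intro_left _ rfl⟩

/-- The stage ring. -/
abbrev A (s : DivIdx E q) : Type u := Localization.Away s.val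

theorem isUnit_of_le {s t : DivIdx E q} (h : s ≤ t) (y : Submonoid.powers s.val) :
    IsUnit (IsScalarTower.toAlgHom R E t.A (y : E)) := by
  obtain ⟨n, hn⟩ := y.2
  change IsUnit (algebraMap E t.A (y : E))
  rw [← hn, map_pow]
  refine IsUnit.pow n ?_
  have ht : IsUnit (algebraMap E t.A t.val) :=
    IsLocalization.map_units t.A (⟨t.val, Submonoid.mem_powers _⟩ : Submonoid.powers t.val)
  obtain ⟨c, hc⟩ := h
  have hmul : algebraMap E t.A t.val = algebraMap E t.A s.val * algebraMap E t.A c := by
    rw [← map_mul]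
    exact congrArg (algebraMap E t.A) hc
  rw [hmul] at ht
  exact isUnit_of_mul_isUnit_left ht

/-- Transition maps. -/
noncomputable def tr (s t : DivIdx E q) (h : s ≤ t) : s.A →ₐ[R] t.A :=
  IsLocalization.liftAlgHom (M := Submonoid.powers s.val) (f := IsScalarTower.toAlgHom R E t.A)
    (isUnit_of_le h)

theorem tr_algebraMap (s t : DivIdx E q) (h : s ≤ t) (e : E) :
    tr (R := R) s t h (algebraMap E s.A e) = algebraMap E t.A e := by
  change IsLocalization.lift _ (algebraMap E s.A e) = _
  rw [IsLocalization.lift_eq]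
  rfl

theorem isUnit_atPrime (s : DivIdx E q) (y : Submonoid.powers s.val) :
    IsUnit (IsScalarTower.toAlgHom R E (Localization.AtPrime q) (y : E)) := by
  obtain ⟨n, hn⟩ := y.2
  change IsUnit (algebraMap E (Localization.AtPrime q) (y : E))
  rw [← hn, map_pow]
  refine IsUnit.pow n ?_
  exact IsLocalization.map_units (Localization.AtPrime q) (⟨s.val, s.nmem⟩ : q.primeCompl)

/-- The maps to the localization at `q`. -/
noncomputable def toLoc (s : DivIdx E q) : s.A →ₐ[R] Localization.AtPrime q :=
  IsLocalization.liftAlgHom (M := Submonoid.powers s.val)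
    (f := IsScalarTower.toAlgHom R E (Localization.AtPrime q)) (isUnit_atPrime s)

theorem toLoc_algebraMap (s : DivIdx E q) (e : E) :
    toLoc (R := R) s (algebraMap E s.A e) = algebraMap E (Localization.AtPrime q) e := by
  change IsLocalization.lift _ (algebraMap E s.A e) = _
  rw [IsLocalization.lift_eq]
  rfl

omit [q.IsPrime] in
theorem algHom_ext' {s : DivIdx E q} {P : Type*} [CommRing P] [Algebra R P] (φ ψ : s.A →ₐ[R] P)
    (h : ∀ e : E, φ (algebraMap E s.A e) = ψ (algebraMap E s.A e)) : φ = ψ :=
  IsLocalization.algHom_ext (Submonoid.powers s.val) (AlgHom.ext h)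

end DivIdx

open DivIdx in
theorem ind_atPrime [Algebra.Etale R E] :
    ObjectProperty.ind.{u} (Pet R) (mkU R (Localization.AtPrime q)) := by
  refine ind_of_system (R := R) (ι := DivIdx E q) (fun s => s.A) (fun s t h => tr s t h) ?_ ?_
    (Localization.AtPrime q) (fun s => toLoc s) ?_ ?_ ?_ (Pet R) ?_
  · intro s x
    have : tr (R := R) s s le_rfl = AlgHom.id R _ :=
      algHom_ext' _ _ fun e => by rw [tr_algebraMap]; rfl
    rw [this]; rfl
  · intro s t w hst htw x
    have : (tr (R := R) t w htw).comp (tr s t hst) = tr s w (hst.trans htw) :=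
      algHom_ext' _ _ fun e => by
        rw [AlgHom.comp_apply, tr_algebraMap, tr_algebraMap, tr_algebraMap]
    rw [← this]; rfl
  · intro s t h x
    have : (toLoc (R := R) t).comp (tr s t h) = toLoc s :=
      algHom_ext' _ _ fun e => by
        rw [AlgHom.comp_apply, tr_algebraMap, toLoc_algebraMap, toLoc_algebraMap]
    rw [← this]; rfl
  · intro b
    obtain ⟨a, u, rfl⟩ := IsLocalization.exists_mk'_eq q.primeCompl b
    let s : DivIdx E q := ⟨u.1, u.2⟩
    refine ⟨s, IsLocalization.mk' s.A a (⟨u.1, Submonoid.mem_powers _⟩ : Submonoid.powers s.val), ?_⟩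
    have hu : IsUnit (algebraMap E (Localization.AtPrime q) u.1) :=
      IsLocalization.map_units _ u
    apply hu.mul_left_injective
    simp only
    rw [IsLocalization.mk'_spec, ← toLoc_algebraMap (R := R) s u.1, ← map_mul]
    have := IsLocalization.mk'_spec s.A a (⟨u.1, Submonoid.mem_powers _⟩ : Submonoid.powers s.val)
    rw [this, toLoc_algebraMap]
  · intro s x hx
    obtain ⟨a, y, rfl⟩ := IsLocalization.exists_mk'_eq (Submonoid.powers s.val) x
    have h1 : algebraMap E (Localization.AtPrime q) a = 0 := by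
      have := IsLocalization.mk'_spec s.A a y
      rw [← toLoc_algebraMap (R := R) s a, ← this, map_mul, hx, zero_mul]
    rw [IsLocalization.map_eq_zero_iff q.primeCompl] at h1
    obtain ⟨u, hu⟩ := h1
    let t : DivIdx E q := ⟨s.val * u.1, fun h =>
      (Ideal.IsPrime.mem_or_mem inferInstance h).elim s.nmem u.2⟩
    have hst : s ≤ t := Dvd.intro _ rfl
    refine ⟨t, hst, ?_⟩
    have h2 : algebraMap E t.A a = 0 := by
      rw [IsLocalization.map_eq_zero_iff (Submonoid.powers t.val)]
      refine ⟨⟨t.val, Submonoid.mem_powers _⟩, ?_⟩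
      change s.val * u.1 * a = 0
      rw [mul_assoc, hu, mul_zero]
    have hy : IsUnit (algebraMap E t.A (y : E)) := isUnit_of_le (R := R) hst y
    apply hy.mul_left_injective
    simp only
    rw [zero_mul, ← tr_algebraMap (R := R) s t hst, ← map_mul, IsLocalization.mk'_spec,
      tr_algebraMap, h2]
  · intro s
    have : Algebra.Etale E s.A := Algebra.Etale.of_isLocalizationAway s.val
    have : Algebra.Etale R s.A := Algebra.Etale.comp R E s.A
    exact pet_mkU R s.A

end Groth.Agent.Lib.Helper4.IndEt
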