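import Mathlib
import Groth.Agent.Lib.Helper4.IndEtLoc
import Groth.Agent.Lib.Helper4.HznProps
import Groth.Agent.Lib.Helper4.HzsProps

/-!
# (Strict) henselizations are ind-étale
-/

set_option autoImplicit false
universe u

namespace Groth.Agent.Lib.Helper4.IndEt

open CategoryTheory CategoryTheory.Limits

theorem ind_of_algEquiv {R : Type u} [CommRing R] {B C : Type u} [CommRing B] [CommRing C]
    [Algebra R B] [Algebra R C] (e : B ≃ₐ[R] C) (P : ObjectProperty (Under (CommRingCat.of R)))
    [P.IsClosedUnderIsomorphisms] (h : P (mkU R B)) : P (mkU R C) := by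
  have iso : mkU R B ≅ mkU R C :=
    Under.isoMk (e.toRingEquiv.toCommRingCatIso) (by
      ext a
      exact e.commutes a)
  exact P.prop_of_iso iso h

section Hz

open Groth.Agent.Lib.Helper4.Hzn

variable (R : Type u) [CommRing R] [IsLocalRing R]

theorem Hz.ind : ObjectProperty.ind.{u} (Pet R) (mkU R (Hz R)) := by
  rw [← ind_ind_pet]
  refine ind_of_system (R := R) (ι := Idx R) (fun i => i.G) (fun i j h => tr i j h) ?_ ?_
    (Hz R) (fun i => DirectLimit.Algebra.of _ _ i) ?_ ?_ ?_ _ ?_
  · intro i x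
    exact DirectedSystem.map_self (f := fun i j h => (tr i j h : i.G → j.G)) x
  · intro i j k hij hjk x
    exact DirectedSystem.map_map (f := fun i j h => (tr i j h : i.G → j.G)) hij hjk x
  · intro i j h x
    exact of_f' _ h x
  · intro b
    obtain ⟨i, x, rfl⟩ := DirectLimit.exists_eq_mk _ b
    exact ⟨i, x, rfl⟩
  · intro i x hx
    rw [of_apply, mk_eq_zero_iff] at hx
    exact hx
  · intro i
    exact ind_atPrime i.C (cker i.χ)

theorem isIndEtale_of_isHenselization (S : Type u) [CommRing S] [IsLocalRing S] [Algebra R S]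
    [IsLocalHom (algebraMap R S)] [Hensel.IsHenselization R S] : EtPBC.IsIndEtale R S := by
  obtain ⟨e⟩ := nonempty_algEquiv R S (Hz R)
  exact isIndEtale_of_ind R S (ind_of_algEquiv e.symm _ (Hz.ind R))

end Hz

section Hs

open Groth.Agent.Lib.Helper4.Hzs

variable (R : Type u) [CommRing R] [IsLocalRing R]

theorem Hs.ind : ObjectProperty.ind.{u} (Pet R) (mkU R (Hs R)) := by
  rw [← ind_ind_pet]
  refine ind_of_system (R := R) (ι := Idx R) (fun i => i.G) (fun i j h => tr i j h) ?_ ?_
    (Hs R) (fun i => DirectLimit.Algebra.of _ _ i) ?_ ?_ ?_ _ ?_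
  · intro i x
    exact DirectedSystem.map_self (f := fun i j h => (tr i j h : i.G → j.G)) x
  · intro i j k hij hjk x
    exact DirectedSystem.map_map (f := fun i j h => (tr i j h : i.G → j.G)) hij hjk x
  · intro i j h x
    exact Hzn.of_f' _ h x
  · intro b
    obtain ⟨i, x, rfl⟩ := DirectLimit.exists_eq_mk _ b
    exact ⟨i, x, rfl⟩
  · intro i x hx
    rw [Hzn.of_apply, Hzn.mk_eq_zero_iff] at hx
    exact hx
  · intro i
    exact ind_atPrime i.C (cker i.χ)

theorem isIndEtale_of_isStrictHenselization (S : Type u) [CommRing S] [IsLocalRing S]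
    [Algebra R S] [IsLocalHom (algebraMap R S)] [Hensel.IsStrictHenselization R S] :
    EtPBC.IsIndEtale R S := by
  obtain ⟨e⟩ := nonempty_algEquiv_strict R S (Hs R)
  exact isIndEtale_of_ind R S (ind_of_algEquiv e.symm _ (Hs.ind R))

end Hs

end Groth.Agent.Lib.Helper4.IndEt
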