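import Mathlib
import Groth.Prelude.Def_Hensel
import Groth.Agent.Lib.Helper4.IndEtHz
import Groth.Agent.Lib.Helper4.HznNoethC
import Groth.Agent.Lib.Helper4.HzsNoethC
import Groth.Agent.Lib.Helper10.IndEtale

/-!
# Fibres of (strict) henselizations
-/

set_option autoImplicit false
universe u

namespace Groth.Agent.Lib.Helper4.Hzn

open IsLocalRing TensorProduct

/-- A Noetherian algebra over a field, every element of which lies in the image of an étale
algebra, is a finite product of separable algebraic field extensions. -/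
theorem exists_pi_separable_of_etale_images (k : Type u) [Field k] (F : Type u) [CommRing F]
    [Algebra k F] [IsNoetherianRing F]
    (hE : ∀ z : F, ∃ (E : Type u) (_ : CommRing E) (_ : Algebra k E) (_ : Algebra.Etale k E)
      (θ : E →ₐ[k] F), z ∈ θ.range) :
    ∃ (n : ℕ) (K : Fin n → Type u) (_ : ∀ i, Field (K i)) (_ : ∀ i, Algebra k (K i)),
      (∀ i, Algebra.IsSeparable k (K i)) ∧ Nonempty (F ≃ₐ[k] (Π i, K i)) := by
  classical
  -- reduced
  have hred : IsReduced F := by
    refine ⟨fun z hz => ?_⟩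
    obtain ⟨E, _, _, _, θ, y, rfl⟩ := hE z
    have : IsReduced (E ⧸ RingHom.ker θ) :=
      Algebra.FormallyUnramified.isReduced_of_field k (E ⧸ RingHom.ker θ)
    have h1 : IsNilpotent (Ideal.kerLiftAlg θ (Ideal.Quotient.mk _ y)) := by
      rw [Ideal.kerLiftAlg_mk]; exact hz
    rw [IsNilpotent.map_iff (Ideal.kerLiftAlg_injective θ)] at h1
    have h2 := h1.eq_zero
    change θ y = 0
    rw [← Ideal.kerLiftAlg_mk θ y, h2, map_zero]
  -- residue rings are separable
  have hsep : ∀ (P : Ideal F) [P.IsPrime] (x : F ⧸ P), IsSeparable k x := by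
    intro P _ x
    obtain ⟨z, rfl⟩ := Ideal.Quotient.mk_surjective x
    obtain ⟨E, _, _, _, θ, y, rfl⟩ := hE z
    let θ' : E →ₐ[k] F ⧸ P := (Ideal.Quotient.mkₐ k P).comp θ
    have : (RingHom.ker θ').IsPrime := RingHom.ker_isPrime _
    have hs : IsSeparable k (Ideal.Quotient.mk (RingHom.ker θ') y) :=
      Algebra.IsSeparable.isSeparable k _
    have h1 : Ideal.kerLiftAlg θ' (Ideal.Quotient.mk _ y) = Ideal.Quotient.mk P (θ y) := by
      rw [Ideal.kerLiftAlg_mk]; rfl
    change IsSeparable k (Ideal.Quotient.mk P (θ y))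
    rw [← h1]
    unfold IsSeparable at hs ⊢
    rwa [minpoly.algHom_eq _ (Ideal.kerLiftAlg_injective θ')]
  have hmax : ∀ (P : Ideal F), P.IsPrime → P.IsMaximal := by
    intro P hP
    have : Algebra.IsIntegral k (F ⧸ P) := ⟨fun x => (hsep P x).isIntegral⟩
    have hf : IsField (F ⧸ P) := isField_of_isIntegral_of_isField' (Field.toIsField k)
    exact Ideal.Quotient.maximal_of_isField P hf
  have hdim : Ring.KrullDimLE 0 F := Ring.KrullDimLE.mk₀ hmax
  have hart : IsArtinianRing F := isArtinianRing_iff_isNoetherianRing_krullDimLE_zero.mpr ⟨‹_›, hdim⟩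
  let e₀ : F ≃ₐ[k] Π m : MaximalSpectrum F, F ⧸ m.asIdeal :=
    (IsArtinianRing.equivPi F).restrictScalars k
  have hfin : Finite (MaximalSpectrum F) := inferInstance
  let σ : MaximalSpectrum F ≃ Fin (Nat.card (MaximalSpectrum F)) := Finite.equivFin _
  let K : Fin (Nat.card (MaximalSpectrum F)) → Type u := fun i => F ⧸ (σ.symm i).asIdeal
  let instF : ∀ i, Field (K i) := fun i => Ideal.Quotient.field (σ.symm i).asIdeal
  refine ⟨Nat.card (MaximalSpectrum F), K, instF, fun i => inferInstance, ?_, ?_⟩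
  · intro i
    exact ⟨fun x => hsep (σ.symm i).asIdeal x⟩
  · exact ⟨e₀.trans (AlgEquiv.piCongrLeft' k (fun m : MaximalSpectrum F => F ⧸ m.asIdeal) σ)⟩


open CategoryTheory CategoryTheory.Limits in
/-- Every element of a base change of an ind-étale algebra lies in the image of an étale
algebra. -/
theorem exists_etale_image_of_isIndEtale (R S k : Type u) [CommRing R] [CommRing S] [Algebra R S]
    [CommRing k] [Algebra R k] (h : EtPBC.IsIndEtale R S) (z : k ⊗[R] S) :
    ∃ (E : Type u) (_ : CommRing E) (_ : Algebra k E) (_ : Algebra.Etale k E)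
      (θ : E →ₐ[k] k ⊗[R] S), z ∈ θ.range := by
  obtain ⟨J, _, _, D, c, hc, hD, ⟨e⟩⟩ := h
  induction z using TensorProduct.induction_on with
  | zero =>
    exact ⟨k, inferInstance, inferInstance, inferInstance, Algebra.ofId k _, 0, map_zero _⟩
  | tmul a s =>
    obtain ⟨j, y, hy⟩ := Groth.Agent.Lib.Helper10.IndEtale.under_exists_rep D c hc (e.inv.right s)
    let _ : Algebra R (D.obj j).right := (D.obj j).hom.hom.toAlgebra
    have : Algebra.Etale R (D.obj j).right := hD j
    let β : (D.obj j).right →ₐ[R] S :=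
      { toRingHom := ((c.ι.app j).right ≫ e.hom.right).hom
        commutes' := by
          intro r
          have h1 := Groth.Agent.Lib.Helper10.IndEtale.under_w_apply (c.ι.app j ≫ e.hom) r
          exact h1 }
    have hβ : β y = s := by
      change e.hom.right ((c.ι.app j).right y) = s
      rw [hy]
      have := congrArg (fun m => m.right s) e.inv_hom_id
      exact this
    refine ⟨k ⊗[R] (D.obj j).right, inferInstance, inferInstance, inferInstance,
      Algebra.TensorProduct.map (AlgHom.id k k) β, a ⊗ₜ y, ?_⟩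
    change Algebra.TensorProduct.map (AlgHom.id k k) β (a ⊗ₜ y) = _
    rw [Algebra.TensorProduct.map_tmul, hβ]
    rfl
  | add z1 z2 h1 h2 =>
    obtain ⟨E1, _, _, _, θ1, y1, hy1⟩ := h1
    obtain ⟨E2, _, _, _, θ2, y2, hy2⟩ := h2
    have : Algebra.Etale k (E1 ⊗[k] E2) := Algebra.Etale.comp k E1 (E1 ⊗[k] E2)
    refine ⟨E1 ⊗[k] E2, inferInstance, inferInstance, this,
      Algebra.TensorProduct.productMap θ1 θ2, y1 ⊗ₜ 1 + 1 ⊗ₜ y2, ?_⟩
    change Algebra.TensorProduct.productMap θ1 θ2 (y1 ⊗ₜ 1 + 1 ⊗ₜ y2) = _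
    rw [map_add, Algebra.TensorProduct.productMap_apply_tmul,
      Algebra.TensorProduct.productMap_apply_tmul, map_one, map_one, mul_one, one_mul]
    exact congrArg₂ (· + ·) hy1 hy2

/-- Fibres of a Noetherian ind-étale algebra. -/
theorem fibre_equiv_pi_separable_of_isIndEtale (R S : Type u) [CommRing R] [CommRing S]
    [Algebra R S] [IsNoetherianRing S] (h : EtPBC.IsIndEtale R S) (p : Ideal R) [p.IsPrime] :
    ∃ (n : ℕ) (K : Fin n → Type u) (_ : ∀ i, Field (K i)) (_ : ∀ i, Algebra p.ResidueField (K i)),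
      (∀ i, Algebra.IsSeparable p.ResidueField (K i)) ∧
      Nonempty ((p.ResidueField ⊗[R] S) ≃ₐ[p.ResidueField] (Π i, K i)) := by
  have h1 : IsNoetherianRing (S ⊗[R] p.ResidueField) :=
    Algebra.EssFiniteType.isNoetherianRing S (S ⊗[R] p.ResidueField)
  have h2 : IsNoetherianRing (p.ResidueField ⊗[R] S) :=
    isNoetherianRing_of_ringEquiv _ (Algebra.TensorProduct.comm R S p.ResidueField).toRingEquiv
  exact exists_pi_separable_of_etale_images p.ResidueField (p.ResidueField ⊗[R] S)
    (exists_etale_image_of_isIndEtale R S p.ResidueField h)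

end Groth.Agent.Lib.Helper4.Hzn
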