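import Mathlib
import Groth.Prelude.Def_Hensel
import Groth.Prelude.Def_CAlg
import Groth.Agent.Lib.Helper4.HznFibre
import Groth.Agent.Lib.Helper4.HznDepth
import Groth.Agent.Lib.Helper4.HznReg
import Groth.Agent.Lib.Helper4.HznDim

/-!
# Serre's conditions `(S_k)`, `(R_k)` along ind-étale faithfully flat maps
-/

set_option autoImplicit false
universe u

namespace Groth.Agent.Lib.Helper4.Hzn

open IsLocalRing TensorProduct

open CategoryTheory CategoryTheory.Limits in
/-- Every element of an ind-étale algebra lies in the image of an étale algebra. -/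
theorem exists_etale_algHom_of_isIndEtale (R S : Type u) [CommRing R] [CommRing S] [Algebra R S]
    (h : EtPBC.IsIndEtale R S) (x : S) :
    ∃ (E : Type u) (_ : CommRing E) (_ : Algebra R E) (_ : Algebra.Etale R E)
      (β : E →ₐ[R] S), x ∈ β.range := by
  obtain ⟨J, _, _, D, c, hc, hD, ⟨e⟩⟩ := h
  obtain ⟨j, y, hy⟩ := Groth.Agent.Lib.Helper10.IndEtale.under_exists_rep D c hc (e.inv.right x)
  let _ : Algebra R (D.obj j).right := (D.obj j).hom.hom.toAlgebra
  have : Algebra.Etale R (D.obj j).right := hD j
  let β : (D.obj j).right →ₐ[R] S :=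
    { toRingHom := ((c.ι.app j).right ≫ e.hom.right).hom
      commutes' := by
        intro r
        have h1 := Groth.Agent.Lib.Helper10.IndEtale.under_w_apply (c.ι.app j ≫ e.hom) r
        exact h1 }
  have hβ : β y = x := by
    change e.hom.right ((c.ι.app j).right y) = x
    rw [hy]
    have := congrArg (fun m => m.right x) e.inv_hom_id
    exact this
  exact ⟨(D.obj j).right, inferInstance, inferInstance, this, β, y, hβ⟩

/-- For an ind-étale algebra `R → S` and a prime `q` over `p`, one has `p S_q = q S_q`. -/
theorem map_eq_maximalIdeal_of_isIndEtale (R S : Type u) [CommRing R] [CommRing S] [Algebra R S]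
    (h : EtPBC.IsIndEtale R S) (p : Ideal R) [p.IsPrime] (q : Ideal S) [q.IsPrime] [q.LiesOver p] :
    p.map (algebraMap R (Localization.AtPrime q)) = maximalIdeal (Localization.AtPrime q) := by
  apply le_antisymm
  · rw [Ideal.map_le_iff_le_comap]
    intro x hx
    rw [Ideal.mem_comap, IsScalarTower.algebraMap_apply R S (Localization.AtPrime q),
      ← Localization.AtPrime.map_eq_maximalIdeal]
    apply Ideal.mem_map_of_mem
    have := Ideal.LiesOver.over (p := p) (P := q)
    rw [this] at hx
    exact hx
  · rw [← Localization.AtPrime.map_eq_maximalIdeal, Ideal.map_le_iff_le_comap]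
    intro x hx
    obtain ⟨E, _, _, _, β, y, hy⟩ := exists_etale_algHom_of_isIndEtale R S h x
    have hy : β y = x := hy
    let qj : Ideal E := q.comap (β : E →+* S)
    have hqj : qj.IsPrime := Ideal.comap_isPrime _ _
    have hqjp : qj.LiesOver p := by
      refine ⟨?_⟩
      rw [Ideal.LiesOver.over (p := p) (P := q)]
      ext r
      simp only [Ideal.under_def, Ideal.mem_comap, qj]
      rw [show (β : E →+* S) (algebraMap R E r) = algebraMap R S r from β.commutes r]
    let _ := Localization.AtPrime.algebraOfLiesOver p qj
    have hu : Algebra.IsUnramifiedAt R qj := inferInstance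
    have h1 := ((Algebra.isUnramifiedAt_iff_map_eq R p qj).mp hu).2
    have hy' : algebraMap E (Localization.AtPrime qj) y ∈
        p.map (algebraMap R (Localization.AtPrime qj)) := by
      rw [h1, ← Localization.AtPrime.map_eq_maximalIdeal]
      apply Ideal.mem_map_of_mem
      change β y ∈ q
      rw [hy]; exact hx
    let ψ := Localization.localRingHom qj q (β : E →+* S) rfl
    have hψ : ∀ t : E, ψ (algebraMap E (Localization.AtPrime qj) t) =
        algebraMap S (Localization.AtPrime q) (β t) := fun t =>
      Localization.localRingHom_to_map qj q (β : E →+* S) rfl t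
    have h2 := Ideal.mem_map_of_mem ψ hy'
    rw [Ideal.map_map] at h2
    have h3 : ψ.comp (algebraMap R (Localization.AtPrime qj)) =
        algebraMap R (Localization.AtPrime q) := by
      ext r
      simp only [RingHom.comp_apply]
      rw [IsScalarTower.algebraMap_apply R E (Localization.AtPrime qj), hψ,
        IsScalarTower.algebraMap_apply R S (Localization.AtPrime q), β.commutes r]
    rw [h3, hψ] at h2
    rw [Ideal.mem_comap, ← hy]
    exact h2

section LocalData

variable (R S : Type u) [CommRing R] [CommRing S] [Algebra R S] [IsNoetherianRing R]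
  [IsNoetherianRing S] [Module.Flat R S]

/-- Dimension equality for a flat local homomorphism with `𝔪_R S = 𝔪_S`. -/
theorem ringKrullDim_eq_of_flat_local (A B : Type u) [CommRing A] [IsLocalRing A]
    [IsNoetherianRing A] [CommRing B] [IsLocalRing B] [IsNoetherianRing B] [Algebra A B]
    [Module.Flat A B]
    (hm : (maximalIdeal A).map (algebraMap A B) = maximalIdeal B) :
    ringKrullDim B = ringKrullDim A := by
  have hloc : IsLocalHom (algebraMap A B) :=
    ((local_hom_TFAE (algebraMap A B)).out 0 2).mpr hm.le
  have ff : Module.FaithfullyFlat A B := Module.FaithfullyFlat.of_flat_of_isLocalHom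
  apply le_antisymm _ (ringKrullDim_le_of_faithfullyFlat A B)
  have hlo' : (maximalIdeal B).comap (algebraMap A B) = maximalIdeal A :=
    ((local_hom_TFAE (algebraMap A B)).out 0 4).mp hloc
  have hlo : (maximalIdeal B).LiesOver (maximalIdeal A) := ⟨hlo'.symm⟩
  have h1 := Ideal.height_le_height_add_of_liesOver (maximalIdeal A) (maximalIdeal B)
  rw [hm, Ideal.map_quotient_self, Ideal.height_bot, add_zero] at h1
  rw [← IsLocalRing.maximalIdeal_height_eq_ringKrullDim,
    ← IsLocalRing.maximalIdeal_height_eq_ringKrullDim]
  exact_mod_cast h1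

/-- Local data at a prime `q` over `p` with `p S_q = q S_q`. -/
theorem local_data (p : Ideal R) [p.IsPrime] (q : Ideal S) [q.IsPrime] [q.LiesOver p]
    (H1 : p.map (algebraMap R (Localization.AtPrime q)) = maximalIdeal (Localization.AtPrime q)) :
    ringKrullDim (Localization.AtPrime q) = ringKrullDim (Localization.AtPrime p) ∧
    (IsRegularLocalRing (Localization.AtPrime q) ↔ IsRegularLocalRing (Localization.AtPrime p)) ∧
    LocCoh.depth (Localization.AtPrime q) (Localization.AtPrime q) =
      LocCoh.depth (Localization.AtPrime p) (Localization.AtPrime p) := by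
  let _ := Localization.AtPrime.algebraOfLiesOver p q
  have flat : Module.Flat (Localization.AtPrime p) (Localization.AtPrime q) := inferInstance
  have hm : (maximalIdeal (Localization.AtPrime p)).map
      (algebraMap (Localization.AtPrime p) (Localization.AtPrime q)) =
      maximalIdeal (Localization.AtPrime q) := by
    rw [← Localization.AtPrime.map_eq_maximalIdeal (I := p), Ideal.map_map,
      ← IsScalarTower.algebraMap_eq R (Localization.AtPrime p) (Localization.AtPrime q)]
    exact H1
  have hloc : IsLocalHom (algebraMap (Localization.AtPrime p) (Localization.AtPrime q)) :=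
    ((local_hom_TFAE _).out 0 2).mpr hm.le
  have ff : Module.FaithfullyFlat (Localization.AtPrime p) (Localization.AtPrime q) :=
    Module.FaithfullyFlat.of_flat_of_isLocalHom
  have hdim := ringKrullDim_eq_of_flat_local (Localization.AtPrime p) (Localization.AtPrime q) hm
  exact ⟨hdim, isRegularLocalRing_iff_of_flat_local _ _ hm hdim,
    depth_eq_of_faithfullyFlat_local _ _ hm⟩

end LocalData

section Global

variable (R S : Type u) [CommRing R] [CommRing S] [Algebra R S] [IsNoetherianRing R]
  [IsNoetherianRing S] [Module.FaithfullyFlat R S]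

theorem hasRk_iff_of_unramified_fibres
    (H1 : ∀ (p : Ideal R) [p.IsPrime] (q : Ideal S) [q.IsPrime] [q.LiesOver p],
      p.map (algebraMap R (Localization.AtPrime q)) = maximalIdeal (Localization.AtPrime q))
    (k : ℕ) : LocCoh.HasRk k S ↔ LocCoh.HasRk k R := by
  constructor
  · intro h p _ hp
    obtain ⟨q, hq, hqp⟩ := Ideal.exists_isPrime_liesOver_of_faithfullyFlat (B := S) p
    obtain ⟨hdim, hreg, -⟩ := local_data R S p q (H1 p q)
    rw [← hreg]
    apply h q
    have h1 := IsLocalization.AtPrime.ringKrullDim_eq_height q (Localization.AtPrime q)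
    have h2 := IsLocalization.AtPrime.ringKrullDim_eq_height p (Localization.AtPrime p)
    rw [hdim, h2] at h1
    have h3 : q.height = p.height := by exact_mod_cast h1.symm
    rw [h3]; exact hp
  · intro h q _ hq
    have : q.LiesOver (q.under R) := ⟨rfl⟩
    obtain ⟨hdim, hreg, -⟩ := local_data R S (q.under R) q (H1 (q.under R) q)
    rw [hreg]
    apply h (q.under R)
    have h1 := IsLocalization.AtPrime.ringKrullDim_eq_height q (Localization.AtPrime q)
    have h2 := IsLocalization.AtPrime.ringKrullDim_eq_height (q.under R)
      (Localization.AtPrime (q.under R))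
    rw [hdim, h2] at h1
    have h3 : q.height = (q.under R).height := by exact_mod_cast h1.symm
    rw [← h3]; exact hq

theorem hasSk_iff_of_unramified_fibres
    (H1 : ∀ (p : Ideal R) [p.IsPrime] (q : Ideal S) [q.IsPrime] [q.LiesOver p],
      p.map (algebraMap R (Localization.AtPrime q)) = maximalIdeal (Localization.AtPrime q))
    (k : ℕ) : LocCoh.HasSk k S S ↔ LocCoh.HasSk k R R := by
  have key : ∀ (p : Ideal R) [p.IsPrime] (q : Ideal S) [q.IsPrime] [q.LiesOver p],
      (min (k : WithBot ℕ∞)
        (Module.supportDim (Localization.AtPrime q) (LocalizedModule q.primeCompl S)) ≤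
      ((LocCoh.depth (Localization.AtPrime q) (LocalizedModule q.primeCompl S) : ℕ∞) : WithBot ℕ∞))
      ↔ (min (k : WithBot ℕ∞)
        (Module.supportDim (Localization.AtPrime p) (LocalizedModule p.primeCompl R)) ≤
      ((LocCoh.depth (Localization.AtPrime p) (LocalizedModule p.primeCompl R) : ℕ∞) : WithBot ℕ∞))
      := by
    intro p _ q _ _
    obtain ⟨hdim, -, hdepth⟩ := local_data R S p q (H1 p q)
    change (min (k : WithBot ℕ∞)
        (Module.supportDim (Localization.AtPrime q) (Localization.AtPrime q)) ≤
      ((LocCoh.depth (Localization.AtPrime q) (Localization.AtPrime q) : ℕ∞) : WithBot ℕ∞))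
      ↔ (min (k : WithBot ℕ∞)
        (Module.supportDim (Localization.AtPrime p) (Localization.AtPrime p)) ≤
      ((LocCoh.depth (Localization.AtPrime p) (Localization.AtPrime p) : ℕ∞) : WithBot ℕ∞))
    rw [Module.supportDim_self_eq_ringKrullDim, Module.supportDim_self_eq_ringKrullDim, hdim,
      hdepth]
  constructor
  · intro h p _
    obtain ⟨q, hq, hqp⟩ := Ideal.exists_isPrime_liesOver_of_faithfullyFlat (B := S) p
    exact (key p q).mp (h q)
  · intro h q _
    have : q.LiesOver (q.under R) := ⟨rfl⟩
    exact (key (q.under R) q).mpr (h (q.under R))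

end Global

end Groth.Agent.Lib.Helper4.Hzn
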