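import Mathlib
import Groth.Agent.Lib.Helper4.IndEtHz
import Groth.Agent.Lib.Helper10.IndEtale
import Groth.Agent.Lib.Helper2.DiagFlat

/-!
# (Strict) henselizations are weakly étale; flatness over them
-/

set_option autoImplicit false
universe u

namespace Groth.Agent.Lib.Helper4.IndEt

theorem weaklyEtale_of_isIndEtale (A B : Type u) [CommRing A] [CommRing B] [Algebra A B]
    (h : EtPBC.IsIndEtale A B) : Algebra.WeaklyEtale A B := by
  obtain ⟨J, hJ1, hJ2, D, c, hc, hD, ⟨e⟩⟩ := h
  exact Groth.Agent.Lib.Helper10.IndEtale.weaklyEtale_of_data D c hc e hD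

variable (R : Type u) [CommRing R] [IsLocalRing R] (S : Type u) [CommRing S] [IsLocalRing S]
  [Algebra R S] [IsLocalHom (algebraMap R S)]

theorem weaklyEtale_of_isHenselization [Hensel.IsHenselization R S] : Algebra.WeaklyEtale R S :=
  weaklyEtale_of_isIndEtale R S (isIndEtale_of_isHenselization R S)

theorem weaklyEtale_of_isStrictHenselization [Hensel.IsStrictHenselization R S] :
    Algebra.WeaklyEtale R S :=
  weaklyEtale_of_isIndEtale R S (isIndEtale_of_isStrictHenselization R S)

/-- Over a weakly étale algebra, flatness can be tested over the base. -/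
theorem flat_iff_of_weaklyEtale (A B M : Type u) [CommRing A] [CommRing B] [Algebra A B]
    [Algebra.WeaklyEtale A B] [AddCommGroup M] [Module A M] [Module B M] [IsScalarTower A B M] :
    Module.Flat A M ↔ Module.Flat B M := by
  constructor
  · intro h
    exact Groth.Agent.Lib.Helper2.flat_of_flat_lmul' A B M (Algebra.WeaklyEtale.flat_lmul' A B)
  · intro h
    exact Module.Flat.trans A B M

end Groth.Agent.Lib.Helper4.IndEt
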