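import Mathlib
import Groth.Prelude.Def_PBC
import Groth.Agent.Lib.Helper4.HznSerre
import Groth.Agent.Lib.Helper4.HznWE
import Groth.Agent.Lib.Helper4.BrnchMin

set_option autoImplicit false
set_option linter.unusedSectionVars false
universe u

namespace Groth.Agent.Lib.Helper4.EtNbhd

open IsLocalRing TensorProduct Groth.Agent.Lib.Helper4

section A2

variable (R₀ : Type u) [CommRing R₀] (H : Type u) [CommRing H] [Algebra R₀ H]


/-- finitely many elements of an ind-étale algebra come from one étale algebra -/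
theorem exists_etale_algHom_finset (h : EtPBC.IsIndEtale R₀ H) (F : Finset H) :
    ∃ (E : Type u) (_ : CommRing E) (_ : Algebra R₀ E) (_ : Algebra.Etale R₀ E)
      (β : E →ₐ[R₀] H), ∀ x ∈ F, x ∈ β.range := by
  classical
  induction F using Finset.induction_on with
  | empty => exact ⟨R₀, inferInstance, inferInstance, inferInstance, Algebra.ofId R₀ H, by simp⟩
  | insert a F _ ih =>
    obtain ⟨E₁, _, _, _, β₁, h₁⟩ := ih
    obtain ⟨E₂, _, _, _, β₂, h₂⟩ := Hzn.exists_etale_algHom_of_isIndEtale R₀ H h a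
    have hC₃ : Algebra.Etale R₀ (E₁ ⊗[R₀] E₂) := Algebra.Etale.comp R₀ E₁ (E₁ ⊗[R₀] E₂)
    refine ⟨E₁ ⊗[R₀] E₂, inferInstance, inferInstance, hC₃,
      Algebra.TensorProduct.productMap β₁ β₂, ?_⟩
    intro x hx
    rw [Finset.mem_insert] at hx
    rcases hx with rfl | hx
    · obtain ⟨y, hy⟩ := h₂
      exact ⟨1 ⊗ₜ y, by rw [← hy]; simp⟩
    · obtain ⟨y, hy⟩ := h₁ x hx
      exact ⟨y ⊗ₜ 1, by rw [← hy]; simp⟩

/-- **A2**: finitely many minimal primes of a local ind-étale algebra are separated by one étale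
algebra. -/
theorem exists_etale_separating (h : EtPBC.IsIndEtale R₀ H) [IsLocalRing H]
    (T : Set (Ideal H)) (hT : T ⊆ minimalPrimes H) (hfin : T.Finite) :
    ∃ (E : Type u) (_ : CommRing E) (_ : Algebra R₀ E) (_ : Algebra.Etale R₀ E)
      (β : E →ₐ[R₀] H),
      T.encard ≤ {P : Ideal E | P ∈ minimalPrimes E ∧
        P ≤ (maximalIdeal H).comap (β : E →+* H)}.encard := by
  classical
  have hsep : ∀ Q ∈ T, ∀ Q' ∈ T, Q ≠ Q' → ∃ a, a ∈ Q ∧ a ∉ Q' := by
    intro Q hQ Q' hQ' hne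
    by_contra hcon
    push Not at hcon
    have hle : Q ≤ Q' := fun a ha => hcon a ha
    have hQm := hT hQ
    have hQ'm := hT hQ'
    exact hne (le_antisymm hle (hQ'm.2 hQm.1 hle))
  let sel : Ideal H × Ideal H → H := fun pr =>
    if hx : ∃ a, a ∈ pr.1 ∧ a ∉ pr.2 then hx.choose else 0
  have hsel : ∀ Q ∈ T, ∀ Q' ∈ T, Q ≠ Q' → sel (Q, Q') ∈ Q ∧ sel (Q, Q') ∉ Q' := by
    intro Q hQ Q' hQ' hne
    have hx := hsep Q hQ Q' hQ' hne
    have : sel (Q, Q') = hx.choose := dif_pos hx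
    rw [this]
    exact hx.choose_spec
  let F : Finset H := (hfin.toFinset ×ˢ hfin.toFinset).image sel
  obtain ⟨E, _, _, hEt, β, hβ⟩ := exists_etale_algHom_finset R₀ H h F
  refine ⟨E, inferInstance, inferInstance, hEt, β, ?_⟩
  let _ : Algebra E H := (β : E →+* H).toAlgebra
  have htower : IsScalarTower R₀ E H := IsScalarTower.of_algebraMap_eq (fun r => (β.commutes r).symm)
  have hWE : Algebra.WeaklyEtale R₀ H := IndEt.weaklyEtale_of_isIndEtale R₀ H h
  have hflat : Module.Flat E H := (IndEt.flat_iff_of_weaklyEtale R₀ E H).mp inferInstance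
  refine Set.encard_le_encard_of_injOn (f := fun Q => Q.comap (algebraMap E H)) ?_ ?_
  · intro Q hQ
    refine ⟨BrnchMin.comap_mem_minimalPrimes_of_flat (hT hQ), ?_⟩
    have hQp : Q.IsPrime := (hT hQ).1.1
    exact Ideal.comap_mono (IsLocalRing.le_maximalIdeal hQp.ne_top)
  · intro Q hQ Q' hQ' heq
    by_contra hne
    obtain ⟨h1, h2⟩ := hsel Q hQ Q' hQ' hne
    have hmemF : sel (Q, Q') ∈ F := by
      apply Finset.mem_image_of_mem
      rw [Finset.mem_product]
      exact ⟨hfin.mem_toFinset.mpr hQ, hfin.mem_toFinset.mpr hQ'⟩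
    obtain ⟨e, he⟩ := hβ _ hmemF
    have he' : β e = sel (Q, Q') := he
    have h3 : e ∈ Q.comap (algebraMap E H) := by
      rw [Ideal.mem_comap]
      show β e ∈ Q
      rw [he']; exact h1
    have h4 : e ∉ Q'.comap (algebraMap E H) := by
      rw [Ideal.mem_comap]
      show ¬ β e ∈ Q'
      rw [he']; exact h2
    simp only at heq
    rw [heq] at h3
    exact h4 h3

end A2

end Groth.Agent.Lib.Helper4.EtNbhd
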