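import Mathlib
import Groth.Prelude.Def_Hensel
import Groth.Agent.Lib.Helper4.HznWE
import Groth.Agent.Lib.Helper4.HznNoethC

/-!
# Henselization versus completion
-/

set_option autoImplicit false
universe u

namespace Groth.Agent.Lib.Helper4.Hzn

open IsLocalRing

/-- Minimal primes along a faithfully flat map. -/
theorem minimalPrimes_mapsTo_surjOn_of_faithfullyFlat (S T : Type*) [CommRing S] [CommRing T]
    [Algebra S T] [Module.FaithfullyFlat S T] :
    Set.MapsTo (Ideal.comap (algebraMap S T)) (minimalPrimes T) (minimalPrimes S) ∧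
      Set.SurjOn (Ideal.comap (algebraMap S T)) (minimalPrimes T) (minimalPrimes S) := by
  constructor
  · intro q hq
    have hqp : q.IsPrime := hq.1.1
    refine ⟨⟨inferInstance, bot_le⟩, ?_⟩
    rintro p' ⟨hp', -⟩ hle
    have : (q.comap (algebraMap S T)).IsPrime := inferInstance
    have hlo : q.LiesOver (q.comap (algebraMap S T)) := ⟨rfl⟩
    obtain ⟨q', hq'le, hq'p, hq'lo⟩ :=
      Ideal.exists_ideal_le_liesOver_of_le (p := p') (q := q.comap (algebraMap S T)) q hle
    have : q ≤ q' := hq.2 ⟨hq'p, bot_le⟩ hq'le
    have heq : q' = q := le_antisymm hq'le this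
    rw [hq'lo.over, heq]
  · intro p hp
    have hpp : p.IsPrime := hp.1.1
    obtain ⟨Q, hQ, hQlo⟩ := Ideal.exists_isPrime_liesOver_of_faithfullyFlat (B := T) p
    obtain ⟨q, hq, hqQ⟩ := Ideal.exists_minimalPrimes_le (I := ⊥) (J := Q) bot_le
    refine ⟨q, hq, ?_⟩
    have hqp : q.IsPrime := hq.1.1
    have hle : q.comap (algebraMap S T) ≤ p := by
      rw [hQlo.over]
      exact Ideal.comap_mono hqQ
    exact le_antisymm hle (hp.2 ⟨inferInstance, bot_le⟩ hle)

/-- A henselization maps faithfully flatly to the completion. -/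
theorem faithfullyFlat_completion_of_isHenselization (A S : Type u) [CommRing A] [IsLocalRing A]
    [IsNoetherianRing A] [CommRing S] [IsLocalRing S] [Algebra A S] [IsLocalHom (algebraMap A S)]
    [Hensel.IsHenselization A S] [Algebra S (AdicCompletion (maximalIdeal A) A)]
    [IsScalarTower A S (AdicCompletion (maximalIdeal A) A)] :
    Module.FaithfullyFlat S (AdicCompletion (maximalIdeal A) A) := by
  have hwe : Algebra.WeaklyEtale A S := IndEt.weaklyEtale_of_isHenselization A S
  have hflat : Module.Flat S (AdicCompletion (maximalIdeal A) A) :=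
    (IndEt.flat_iff_of_weaklyEtale A S (AdicCompletion (maximalIdeal A) A)).mp inferInstance
  have hloc : IsLocalHom (algebraMap S (AdicCompletion (maximalIdeal A) A)) := by
    constructor
    intro x hx
    by_contra hnu
    have h1 : x ∈ maximalIdeal S := (mem_maximalIdeal x).mpr hnu
    rw [← map_maximalIdeal_of_isHenselization A S] at h1
    have hle : (maximalIdeal A).map (algebraMap A S) ≤
        (maximalIdeal (AdicCompletion (maximalIdeal A) A)).comap
          (algebraMap S (AdicCompletion (maximalIdeal A) A)) := by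
      rw [Ideal.map_le_iff_le_comap]
      intro a ha
      rw [Ideal.mem_comap, Ideal.mem_comap, ← IsScalarTower.algebraMap_apply]
      rw [mem_maximalIdeal, mem_nonunits_iff] at ha ⊢
      exact fun h => ha (isUnit_of_map_unit (algebraMap A (AdicCompletion (maximalIdeal A) A)) a h)
    exact (mem_maximalIdeal _).mp (hle h1) hx
  exact Module.FaithfullyFlat.of_flat_of_isLocalHom

end Groth.Agent.Lib.Helper4.Hzn
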