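import Mathlib
import Groth.Agent.Lib.Helper4.HenselPairU

/-!
# The étale algebra of idempotents of a finite free algebra, and idempotent lifting
-/

set_option autoImplicit false
universe u

namespace Groth.Agent.Lib.Helper4.HenselPair

open TensorProduct MvPolynomial

section IdemAlg

variable {A : Type u} [CommRing A] {B : Type u} [CommRing B] [Algebra A B] {n : ℕ}
  (b : Module.Basis (Fin n) A B)

/-- structure constants of `B` in the basis `b` -/
noncomputable def sc (i j k : Fin n) : A := b.repr (b i * b j) k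

theorem mul_basis_eq (i j : Fin n) : b i * b j = ∑ k, sc b i j k • b k :=
  (b.sum_repr (b i * b j)).symm

/-- the defining relations of the idempotent algebra -/
noncomputable def rel (k : Fin n) : MvPolynomial (Fin n) A :=
  (∑ i, ∑ j, C (sc b i j k) * X i * X j) - X k

/-- the algebra representing idempotents of `B` -/
abbrev IdemAlg : Type u := MvPolynomial (Fin n) A ⧸ Ideal.span (Set.range (rel b))

variable {C : Type u} [CommRing C] [Algebra A C]

/-- the quadratic "square" map in coordinates -/
noncomputable def sq (y : Fin n → C) (k : Fin n) : C :=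
  ∑ i, ∑ j, algebraMap A C (sc b i j k) * y i * y j

theorem aeval_rel (y : Fin n → C) (k : Fin n) : aeval y (rel b k) = sq b y k - y k := by
  simp [rel, sq]

/-- the element of `C ⊗ B` with coordinates `y` -/
noncomputable def zOf (y : Fin n → C) : C ⊗[A] B :=
  (Algebra.TensorProduct.basis C b).equivFun.symm y

theorem zOf_eq (y : Fin n → C) : zOf b y = ∑ i, y i • ((1 : C) ⊗ₜ[A] b i) := by
  simp [zOf, Module.Basis.equivFun_symm_apply, Algebra.TensorProduct.basis_apply]

theorem zOf_injective : Function.Injective (zOf b (C := C)) :=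
  (Algebra.TensorProduct.basis C b).equivFun.symm.injective

theorem zOf_surjective : Function.Surjective (zOf b (C := C)) :=
  (Algebra.TensorProduct.basis C b).equivFun.symm.surjective

theorem zOf_add (y y' : Fin n → C) : zOf b (y + y') = zOf b y + zOf b y' := map_add _ _ _

theorem zOf_sub (y y' : Fin n → C) : zOf b (y - y') = zOf b y - zOf b y' := map_sub _ _ _

theorem zOf_mul (y y' : Fin n → C) :
    zOf b y * zOf b y' =
      zOf b (fun k => ∑ i, ∑ j, algebraMap A C (sc b i j k) * y i * y' j) := by
  rw [zOf_eq, zOf_eq, zOf_eq, Finset.sum_mul_sum]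
  have h1 : ∀ i j : Fin n, (y i • ((1 : C) ⊗ₜ[A] b i)) * (y' j • ((1 : C) ⊗ₜ[A] b j)) =
      ∑ k, (algebraMap A C (sc b i j k) * y i * y' j) • ((1 : C) ⊗ₜ[A] b k) := by
    intro i j
    rw [smul_mul_smul_comm, Algebra.TensorProduct.tmul_mul_tmul, mul_one, mul_basis_eq b i j,
      TensorProduct.tmul_sum, Finset.smul_sum]
    refine Finset.sum_congr rfl fun k _ => ?_
    rw [TensorProduct.tmul_smul, ← algebraMap_smul C (sc b i j k) ((1 : C) ⊗ₜ[A] b k), smul_smul]
    congr 1
    ring
  simp_rw [h1, Finset.sum_smul]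
  conv_rhs => rw [Finset.sum_comm]
  refine Finset.sum_congr rfl fun i _ => ?_
  rw [Finset.sum_comm]

theorem zOf_mul_self (y : Fin n → C) : zOf b y * zOf b y = zOf b (sq b y) := zOf_mul b y y

theorem isIdempotentElem_zOf_iff (y : Fin n → C) :
    IsIdempotentElem (zOf b y) ↔ ∀ k, sq b y k = y k := by
  rw [IsIdempotentElem, zOf_mul_self]
  constructor
  · intro h k
    exact congrFun (zOf_injective b h) k
  · intro h
    exact congrArg _ (funext h)

/-- the algebra map out of the idempotent algebra attached to an idempotent in coordinates -/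
noncomputable def liftOf (y : Fin n → C) (h : ∀ k, sq b y k = y k) : IdemAlg b →ₐ[A] C :=
  Ideal.Quotient.liftₐ _ (aeval y) (by
    have hle : Ideal.span (Set.range (rel b)) ≤ RingHom.ker (aeval y : MvPolynomial (Fin n) A →ₐ[A] C) := by
      rw [Ideal.span_le]
      rintro _ ⟨k, rfl⟩
      change aeval y (rel b k) = 0
      rw [aeval_rel, h k, sub_self]
    exact fun a ha => RingHom.mem_ker.mp (hle ha))

theorem liftOf_mk_X (y : Fin n → C) (h : ∀ k, sq b y k = y k) (i : Fin n) :
    liftOf b y h (Ideal.Quotient.mk _ (X i)) = y i := by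
  change aeval y (X i) = y i
  simp

/-- coordinates of a point of the idempotent algebra -/
noncomputable def coords (φ : IdemAlg b →ₐ[A] C) (i : Fin n) : C := φ (Ideal.Quotient.mk _ (X i))

theorem coords_sq (φ : IdemAlg b →ₐ[A] C) (k : Fin n) : sq b (coords b φ) k = coords b φ k := by
  have h1 : (φ.comp (Ideal.Quotient.mkₐ A (Ideal.span (Set.range (rel b))))) (rel b k) = 0 := by
    change φ (Ideal.Quotient.mk _ (rel b k)) = 0
    have hmem : rel b k ∈ Ideal.span (Set.range (rel b)) := Ideal.subset_span ⟨k, rfl⟩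
    rw [Ideal.Quotient.eq_zero_iff_mem.mpr hmem, map_zero]
  have h2 : φ.comp (Ideal.Quotient.mkₐ A (Ideal.span (Set.range (rel b)))) = aeval (coords b φ) := by
    apply MvPolynomial.algHom_ext
    intro i
    simp [coords]
  rw [h2, aeval_rel, sub_eq_zero] at h1
  exact h1

theorem algHom_ext_coords (φ₁ φ₂ : IdemAlg b →ₐ[A] C) (h : coords b φ₁ = coords b φ₂) : φ₁ = φ₂ := by
  apply Ideal.Quotient.algHom_ext
  apply MvPolynomial.algHom_ext
  intro i
  exact congrFun h i

theorem coords_liftOf (y : Fin n → C) (h : ∀ k, sq b y k = y k) : coords b (liftOf b y h) = y :=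
  funext fun i => liftOf_mk_X b y h i

theorem sq_map {D : Type u} [CommRing D] [Algebra A D] (f : C →ₐ[A] D) (y : Fin n → C) (k : Fin n) :
    f (sq b y k) = sq b (fun i => f (y i)) k := by
  simp [sq, map_sum]

theorem coords_comp {D : Type u} [CommRing D] [Algebra A D] (f : C →ₐ[A] D) (φ : IdemAlg b →ₐ[A] C)
    (k : Fin n) : coords b (f.comp φ) k = f (coords b φ k) := rfl

/-- products with coefficients in an ideal `J` have coordinates in `J` -/
theorem prodCoord_mem (J : Ideal C) (y w : Fin n → C) (hy : ∀ i, y i ∈ J) (k : Fin n) :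
    (∑ i, ∑ j, algebraMap A C (sc b i j k) * y i * w j) ∈ J := by
  refine Ideal.sum_mem _ fun i _ => Ideal.sum_mem _ fun j _ => ?_
  exact Ideal.mul_mem_right _ _ (Ideal.mul_mem_left _ _ (hy i))

theorem prodCoord_eq_zero (J : Ideal C) (hJ : J ^ 2 = ⊥) (y w : Fin n → C) (hy : ∀ i, y i ∈ J)
    (hw : ∀ i, w i ∈ J) (k : Fin n) :
    (∑ i, ∑ j, algebraMap A C (sc b i j k) * y i * w j) = 0 := by
  refine Finset.sum_eq_zero fun i _ => Finset.sum_eq_zero fun j _ => ?_
  have : y i * w j ∈ J ^ 2 := by rw [pow_two]; exact Ideal.mul_mem_mul (hy i) (hw j)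
  rw [hJ, Ideal.mem_bot] at this
  rw [mul_assoc, this, mul_zero]

instance formallyEtale_idemAlg : Algebra.FormallyEtale A (IdemAlg b) := by
  rw [Algebra.FormallyEtale.iff_comp_bijective]
  intro C _ _ J hJ
  constructor
  · intro φ₁ φ₂ hφ
    have hφ' : (Ideal.Quotient.mkₐ A J).comp φ₁ = (Ideal.Quotient.mkₐ A J).comp φ₂ := hφ
    set y₁ := coords b φ₁ with hy₁
    set y₂ := coords b φ₂ with hy₂
    have hdiff : ∀ i, (y₁ - y₂) i ∈ J := by
      intro i
      have := congrArg (fun ψ => coords b ψ i) hφ'
      simp only [coords_comp] at this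
      rw [Pi.sub_apply, ← Ideal.Quotient.eq_zero_iff_mem, map_sub, sub_eq_zero]
      exact this
    set η := zOf b (y₁ - y₂) with hη
    have hηη : η * η = 0 := by
      rw [hη, zOf_mul]
      have : (fun k => ∑ i, ∑ j, algebraMap A C (sc b i j k) * (y₁ - y₂) i * (y₁ - y₂) j) = 0 :=
        funext fun k => prodCoord_eq_zero b J hJ _ _ hdiff hdiff k
      rw [this]
      exact map_zero _
    have h1 : zOf b y₁ * zOf b y₁ = zOf b y₁ :=
      ((isIdempotentElem_zOf_iff b y₁).mpr (coords_sq b φ₁)).eq
    have h2 : zOf b y₂ * zOf b y₂ = zOf b y₂ :=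
      ((isIdempotentElem_zOf_iff b y₂).mpr (coords_sq b φ₂)).eq
    have h3 : zOf b y₁ = zOf b y₂ + η := by rw [hη, zOf_sub]; ring
    rw [h3] at h1
    have E1 : 2 * zOf b y₂ * η - η = 0 := by linear_combination h1 - h2 - hηη
    have hη0 : η = 0 := by linear_combination (2 * zOf b y₂ - 1) * E1 - 4 * η * h2
    have hy12 : y₁ - y₂ = 0 := zOf_injective b (hη0.trans (map_zero _).symm)
    exact algHom_ext_coords b φ₁ φ₂ (sub_eq_zero.mp hy12)
  · intro ψ
    have hlift : ∀ i, ∃ c : C, Ideal.Quotient.mk J c = coords b ψ i := fun i => Ideal.Quotient.mk_surjective _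
    choose y hy using hlift
    set δ : Fin n → C := fun k => sq b y k - y k with hδ
    have hδJ : ∀ k, δ k ∈ J := by
      intro k
      rw [hδ]
      change sq b y k - y k ∈ J
      rw [← Ideal.Quotient.eq_zero_iff_mem, map_sub, sub_eq_zero]
      have := sq_map b (Ideal.Quotient.mkₐ A J) y k
      change Ideal.Quotient.mk J (sq b y k) = _ at this
      rw [this]
      have hfun : (fun i => (Ideal.Quotient.mkₐ A J) (y i)) = coords b ψ := funext hy
      rw [hfun, coords_sq, ← hy k]
    set z := zOf b y with hz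
    set d := zOf b δ with hd
    have hzz : z * z = z + d := by
      rw [hz, hd, zOf_mul_self, ← zOf_add]
      congr 1
      funext k
      simp [hδ]
    have hdd : d * d = 0 := by
      rw [hd, zOf_mul]
      have : (fun k => ∑ i, ∑ j, algebraMap A C (sc b i j k) * δ i * δ j) = 0 :=
        funext fun k => prodCoord_eq_zero b J hJ _ _ hδJ hδJ k
      rw [this]
      exact map_zero _
    obtain ⟨y', hy'⟩ := zOf_surjective b (z + (1 - 2 * z) * d)
    have hidem : IsIdempotentElem (zOf b y') := by
      rw [hy']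
      change _ * _ = _
      linear_combination (1 - 4 * d) * hzz + ((1 - 2 * z) * (1 - 2 * z) - 4) * hdd
    have hsq' := (isIdempotentElem_zOf_iff b y').mp hidem
    set P : Fin n → C := fun k => ∑ i, ∑ j, algebraMap A C (sc b i j k) * δ i * y j with hP
    have hPz : zOf b P = d * z := (zOf_mul b δ y).symm
    have hPJ : ∀ k, P k ∈ J := fun k => prodCoord_mem b J δ y hδJ k
    have h4 : zOf b (y' - y) = zOf b (δ - P - P) := by
      rw [zOf_sub, zOf_sub, zOf_sub, hy', hPz]
      ring
    have h5 : y' - y = δ - P - P := zOf_injective b h4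
    have hy'J : ∀ k, y' k - y k ∈ J := by
      intro k
      have := congrFun h5 k
      simp only [Pi.sub_apply] at this
      rw [this]
      exact J.sub_mem (J.sub_mem (hδJ k) (hPJ k)) (hPJ k)
    refine ⟨liftOf b y' hsq', ?_⟩
    apply algHom_ext_coords
    funext k
    change coords b ((Ideal.Quotient.mkₐ A J).comp (liftOf b y' hsq')) k = coords b ψ k
    rw [coords_comp, coords_liftOf, ← hy k]
    change Ideal.Quotient.mk J (y' k) = Ideal.Quotient.mk J (y k)
    rw [← sub_eq_zero, ← map_sub]
    exact Ideal.Quotient.eq_zero_iff_mem.mpr (hy'J k)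

instance finitePresentation_idemAlg : Algebra.FinitePresentation A (IdemAlg b) := by
  classical
  apply Algebra.FinitePresentation.quotient
  exact ⟨Finset.univ.image (rel b), by simp⟩

instance etale_idemAlg : Algebra.Etale A (IdemAlg b) := ⟨inferInstance, inferInstance⟩

theorem repr_mul (β β' : B) (k : Fin n) :
    b.repr (β * β') k = ∑ i, ∑ j, sc b i j k * b.repr β i * b.repr β' j := by
  conv_lhs => rw [← b.sum_repr β, ← b.sum_repr β', Finset.sum_mul_sum]
  simp only [map_sum, Finsupp.coe_finsetSum, Finset.sum_apply]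
  refine Finset.sum_congr rfl fun i _ => Finset.sum_congr rfl fun j _ => ?_
  rw [smul_mul_smul_comm, map_smul, Finsupp.smul_apply, smul_eq_mul, sc]
  ring

theorem mem_map_iff_repr (I : Ideal A) (x : B) :
    x ∈ I.map (algebraMap A B) ↔ ∀ k, b.repr x k ∈ I := by
  constructor
  · intro hx
    have hx' : x ∈ I • (⊤ : Submodule A B) := by rw [Ideal.smul_top_eq_map]; exact hx
    intro k
    refine Submodule.smul_induction_on hx' ?_ ?_
    · intro a ha w _
      rw [map_smul, Finsupp.smul_apply, smul_eq_mul]
      exact I.mul_mem_right _ ha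
    · intro x y hx hy
      rw [map_add, Finsupp.add_apply]
      exact I.add_mem hx hy
  · intro h
    rw [← b.sum_repr x]
    refine Ideal.sum_mem _ fun k _ => ?_
    rw [Algebra.smul_def]
    exact Ideal.mul_mem_right _ _ (Ideal.mem_map_of_mem _ (h k))

end IdemAlg

/-- Idempotent lifting for finite free algebras over a henselian pair. -/
theorem exists_idempotent_lift_of_basis {A : Type u} [CommRing A] {B : Type u} [CommRing B]
    [Algebra A B] {n : ℕ} (b : Module.Basis (Fin n) A B) (I : Ideal A) [HenselianRing A I] (β : B)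
    (hβ : β * β - β ∈ I.map (algebraMap A B)) :
    ∃ e : B, IsIdempotentElem e ∧ e - β ∈ I.map (algebraMap A B) := by
  classical
  set a : Fin n → A := fun i => b.repr β i with ha
  set y : Fin n → A ⧸ I := fun i => Ideal.Quotient.mk I (a i) with hy
  have hsq : ∀ k, sq b y k = y k := by
    intro k
    have h1 : sq b y k = Ideal.Quotient.mk I (b.repr (β * β) k) := by
      rw [repr_mul]
      simp [sq, hy, ha, map_sum]
    rw [h1, hy]
    change _ = Ideal.Quotient.mk I (b.repr β k)
    rw [← sub_eq_zero, ← map_sub, Ideal.Quotient.eq_zero_iff_mem]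
    have := (mem_map_iff_repr b I _).mp hβ k
    rwa [map_sub, Finsupp.sub_apply] at this
  obtain ⟨τ, hτ⟩ := exists_lift_of_etale I (liftOf b y hsq)
  set a' : Fin n → A := coords b τ with ha'
  have hsq' : ∀ k, sq b a' k = a' k := coords_sq b τ
  have hmk : ∀ k, Ideal.Quotient.mk I (a' k) = y k := by
    intro k
    have := congrArg (fun ψ => coords b ψ k) hτ
    simp only [coords_comp, coords_liftOf] at this
    exact this
  set e : B := ∑ i, a' i • b i with he
  have hrepr : ∀ k, b.repr e k = a' k := by
    intro k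
    rw [he, b.repr_sum_self]
  refine ⟨e, ?_, ?_⟩
  · apply b.repr.injective
    ext k
    rw [repr_mul, hrepr]
    have := hsq' k
    simp only [sq, Algebra.algebraMap_self, RingHom.id_apply] at this
    simp only [hrepr]
    exact this
  · rw [mem_map_iff_repr b]
    intro k
    rw [map_sub, Finsupp.sub_apply, hrepr, ← Ideal.Quotient.eq_zero_iff_mem, map_sub, hmk, hy,
      sub_self]

end Groth.Agent.Lib.Helper4.HenselPair
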