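import Mathlib
import Groth.Agent.Lib.Helper4.HenselPairI

/-!
# Idempotent lifting for integral algebras over a henselian pair
-/

set_option autoImplicit false
universe u

namespace Groth.Agent.Lib.Helper4.HenselPair

open Polynomial

/-- Any element of `I B` lies in `I B'` for a finitely generated subalgebra `B'`. -/
theorem exists_fg_subalgebra_mem_smul {A : Type u} {B : Type u} [CommRing A] [CommRing B] [Algebra A B]
    (I : Ideal A) (z : B) (hz : z ∈ I.map (algebraMap A B)) :
    ∃ S' : Subalgebra A B, S'.FG ∧ z ∈ I • S'.toSubmodule := by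
  have hz' : z ∈ I • (⊤ : Submodule A B) := by rw [Ideal.smul_top_eq_map]; exact hz
  refine Submodule.smul_induction_on hz' ?_ ?_
  · intro a ha w _
    refine ⟨Algebra.adjoin A {w}, Subalgebra.fg_adjoin_finset {w} |> fun h => by simpa using h, ?_⟩
    exact Submodule.smul_mem_smul ha (Algebra.subset_adjoin (Set.mem_singleton w))
  · rintro x y ⟨S₁, h₁, hx⟩ ⟨S₂, h₂, hy⟩
    refine ⟨S₁ ⊔ S₂, h₁.sup h₂, ?_⟩
    have le1 : I • S₁.toSubmodule ≤ I • (S₁ ⊔ S₂).toSubmodule :=
      Submodule.smul_mono le_rfl (fun w hw => (le_sup_left : S₁ ≤ S₁ ⊔ S₂) hw)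
    have le2 : I • S₂.toSubmodule ≤ I • (S₁ ⊔ S₂).toSubmodule :=
      Submodule.smul_mono le_rfl (fun w hw => (le_sup_right : S₂ ≤ S₁ ⊔ S₂) hw)
    exact Submodule.add_mem _ (le1 hx) (le2 hy)

/-- Stacks 0ALH: an element of an integral algebra which is idempotent modulo `I B` is killed by a
monic polynomial congruent to `(X² - X)^(d+1)` modulo `I`. -/
theorem exists_monic_of_idempotent_mod {A : Type u} {B : Type u} [CommRing A] [CommRing B]
    [Algebra A B] [Algebra.IsIntegral A B] (I : Ideal A) (β : B)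
    (hβ : β * β - β ∈ I.map (algebraMap A B)) :
    ∃ (d : ℕ) (f : A[X]), f.Monic ∧ aeval β f = 0 ∧
      f.map (Ideal.Quotient.mk I) = (X ^ 2 - X) ^ (d + 1) := by
  classical
  rcases subsingleton_or_nontrivial A with hsub | hnt
  · have : Subsingleton B := Module.subsingleton A B
    have : Subsingleton (A ⧸ I) := Function.Surjective.subsingleton Ideal.Quotient.mk_surjective
    exact ⟨0, 1, monic_one, Subsingleton.elim _ _, Subsingleton.elim _ _⟩
  set z : B := β * β - β with hz
  obtain ⟨S', hS'fg, hzS'⟩ := exists_fg_subalgebra_mem_smul I z hβ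
  have hzS'mem : z ∈ S' := by
    have : I • S'.toSubmodule ≤ S'.toSubmodule := Submodule.smul_le_right
    exact this hzS'
  have : Algebra.FiniteType A S' := (Subalgebra.fg_iff_finiteType S').mp hS'fg
  have : Algebra.IsIntegral A S' := Algebra.IsIntegral.of_injective S'.val Subtype.val_injective
  have hfin : Module.Finite A S' := Algebra.IsIntegral.finite
  let z' : S' := ⟨z, hzS'mem⟩
  have hz'I : z' ∈ I.map (algebraMap A S') := (mem_map_subalgebra_iff I S' z').mpr hzS'
  have hrange : LinearMap.range (LinearMap.mulLeft A z') ≤ I • (⊤ : Submodule A S') := by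
    rintro _ ⟨w, rfl⟩
    rw [Ideal.smul_top_eq_map]
    exact Ideal.mul_mem_right _ _ hz'I
  obtain ⟨p, hpm, -, hpcoeff, hpz⟩ :=
    LinearMap.exists_monic_and_natDegree_eq_and_coeff_mem_pow_and_aeval_eq_zero A
      (LinearMap.mulLeft A z') I hrange
  have hpz' : aeval z' p = 0 := by
    have h7 : aeval (LinearMap.mulLeft A z') p = LinearMap.mulLeft A (aeval z' p) :=
      Polynomial.aeval_algHom_apply (Algebra.lmul A S') z' p
    have h8 := congrArg (fun f : Module.End A S' => f 1) (h7.symm.trans hpz)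
    simpa using h8
  have hpzB : aeval z p = 0 := by
    have := congrArg (fun w : S' => (w : B)) hpz'
    simpa [z', Polynomial.aeval_subalgebra_coe] using this
  have hpmap : p.map (Ideal.Quotient.mk I) = X ^ p.natDegree := by
    ext i
    rw [Polynomial.coeff_map, Polynomial.coeff_X_pow]
    split_ifs with hi
    · rw [hi, hpm.coeff_natDegree, map_one]
    · rcases lt_or_gt_of_ne hi with hlt | hgt
      · have h1 : p.coeff i ∈ I ^ (p.natDegree - i) := hpcoeff i
        have h2 : I ^ (p.natDegree - i) ≤ I := Ideal.pow_le_self (by omega)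
        exact Ideal.Quotient.eq_zero_iff_mem.mpr (h2 h1)
      · rw [Polynomial.coeff_eq_zero_of_natDegree_lt hgt, map_zero]
  refine ⟨p.natDegree, (X * p).comp (X ^ 2 - X), ?_, ?_, ?_⟩
  · refine (monic_X.mul hpm).comp ?_ ?_
    · exact monic_X_pow_sub (by rw [Polynomial.degree_X]; norm_num)
    · have h1 : (X ^ 2 - X : A[X]).natDegree = (X ^ 2 : A[X]).natDegree :=
        Polynomial.natDegree_sub_eq_left_of_natDegree_lt (by simp)
      rw [h1]
      simp
  · rw [Polynomial.aeval_comp]
    have : aeval β (X ^ 2 - X : A[X]) = z := by simp [hz, pow_two]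
    rw [this, map_mul, hpzB, mul_zero]
  · rw [Polynomial.map_comp, Polynomial.map_mul, hpmap, Polynomial.map_X, Polynomial.map_sub,
      Polynomial.map_pow, Polynomial.map_X]
    simp [pow_succ, mul_comm]

/-- Algebra maps send `I B₂` into `I B`. -/
theorem algHom_mem_map {A : Type u} {B₂ B : Type u} [CommRing A] [CommRing B₂] [CommRing B]
    [Algebra A B₂] [Algebra A B] (I : Ideal A) (π : B₂ →ₐ[A] B) (x : B₂)
    (hx : x ∈ I.map (algebraMap A B₂)) : π x ∈ I.map (algebraMap A B) := by
  have h1 : π x ∈ (I.map (algebraMap A B₂)).map (π : B₂ →+* B) := Ideal.mem_map_of_mem _ hx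
  rw [Ideal.map_map] at h1
  have h2 : (π : B₂ →+* B).comp (algebraMap A B₂) = algebraMap A B := π.comp_algebraMap
  rwa [h2] at h1

/-- **Idempotent lifting for integral algebras over a henselian pair** (Stacks 09XI (1) ⇒ (4)). -/
theorem exists_idempotent_lift_of_isIntegral {A : Type u} {B : Type u} [CommRing A] [CommRing B]
    [Algebra A B] [Algebra.IsIntegral A B] (I : Ideal A) [HenselianRing A I] (β : B)
    (hβ : β * β - β ∈ I.map (algebraMap A B)) :
    ∃ e : B, IsIdempotentElem e ∧ e - β ∈ I.map (algebraMap A B) := by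
  classical
  obtain ⟨d, f, hfm, hfβ, hfmap⟩ := exists_monic_of_idempotent_mod I β hβ
  have hcop0 : IsCoprime (X : (A ⧸ I)[X]) (X - 1) := ⟨1, -1, by ring⟩
  obtain ⟨u, v, huv⟩ := (hcop0.pow (m := d + 1) (n := d + 1))
  obtain ⟨ut, hut⟩ := Polynomial.map_surjective (Ideal.Quotient.mk I) Ideal.Quotient.mk_surjective u
  obtain ⟨vt, hvt⟩ := Polynomial.map_surjective (Ideal.Quotient.mk I) Ideal.Quotient.mk_surjective v
  set ε : A[X] := ut * X ^ (d + 1) with hε
  let pb := AdjoinRoot.powerBasis' hfm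
  set β₂ : AdjoinRoot f := AdjoinRoot.mk f ε with hβ₂def
  have hfmap' : f.map (Ideal.Quotient.mk I) = X ^ (d + 1) * (X - 1) ^ (d + 1) := by
    rw [hfmap, ← mul_pow]
    congr 1
    ring
  have hβ₂ : β₂ * β₂ - β₂ ∈ I.map (algebraMap A (AdjoinRoot f)) := by
    set Q : A[X] := ε * ε - ε + ut * vt * f with hQ
    have hQmap : Q.map (Ideal.Quotient.mk I) = 0 := by
      rw [hQ, hε]
      simp only [Polynomial.map_add, Polynomial.map_sub, Polynomial.map_mul, Polynomial.map_pow,
        Polynomial.map_X, hut, hvt, hfmap']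
      linear_combination (u * X ^ (d + 1)) * huv
    have h1 : AdjoinRoot.mk f Q = β₂ * β₂ - β₂ := by
      rw [hQ, map_add, map_sub, map_mul, map_mul (AdjoinRoot.mk f) (ut * vt) f, AdjoinRoot.mk_self,
        mul_zero, add_zero]
    rw [← h1, ← AdjoinRoot.aeval_eq]
    exact aeval_mem_map_of_map_eq_zero I _ Q hQmap
  obtain ⟨e₂, he₂, he₂β⟩ := exists_idempotent_lift_of_basis pb.basis I β₂ hβ₂
  let π : AdjoinRoot f →ₐ[A] B :=
    AdjoinRoot.liftAlgHom f (Algebra.ofId A B) β (by rw [← hfβ]; rfl)
  refine ⟨π e₂, he₂.map π, ?_⟩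
  have h2 : π (e₂ - β₂) ∈ I.map (algebraMap A B) := algHom_mem_map I π _ he₂β
  have h3 : π β₂ = aeval β ut * β ^ (d + 1) := by
    rw [hβ₂def, AdjoinRoot.liftAlgHom_mk]
    change aeval β ε = _
    rw [hε, map_mul, map_pow, Polynomial.aeval_X]
  set J := I.map (algebraMap A B) with hJ
  have h4 : aeval β ut * β ^ (d + 1) - β ∈ J := by
    rw [← Ideal.Quotient.eq_zero_iff_mem, map_sub, map_mul, map_pow]
    set q := Ideal.Quotient.mk J with hq
    have hb : q β * q β = q β := by
      rw [← map_mul, ← sub_eq_zero, ← map_sub]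
      exact Ideal.Quotient.eq_zero_iff_mem.mpr hβ
    have hbpow : q β ^ (d + 1) = q β := (show IsIdempotentElem (q β) from hb).pow_succ_eq d
    have hQ₁ : q (aeval β ut) * q β ^ (d + 1) + q (aeval β vt) * (q β - 1) ^ (d + 1) - 1 = 0 := by
      set Q₁ : A[X] := ut * X ^ (d + 1) + vt * (X - 1) ^ (d + 1) - 1 with hQ₁
      have hQ₁map : Q₁.map (Ideal.Quotient.mk I) = 0 := by
        rw [hQ₁]
        simp only [Polynomial.map_add, Polynomial.map_sub, Polynomial.map_mul, Polynomial.map_pow,
          Polynomial.map_X, Polynomial.map_one, hut, hvt]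
        linear_combination huv
      have := aeval_mem_map_of_map_eq_zero I β Q₁ hQ₁map
      rw [← hJ, ← Ideal.Quotient.eq_zero_iff_mem] at this
      rw [← this, hQ₁]
      simp [hq]
    have hkill : (q β - 1) ^ (d + 1) * q β = 0 := by
      rw [pow_succ, mul_assoc]
      have : (q β - 1) * q β = 0 := by rw [sub_mul, one_mul, hb, sub_self]
      rw [this, mul_zero]
    rw [hbpow] at hQ₁ ⊢
    linear_combination (q β) * hQ₁ - (q (aeval β ut)) * hb - (q (aeval β vt)) * hkill
  have : π e₂ - β = π (e₂ - β₂) + (aeval β ut * β ^ (d + 1) - β) := by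
    rw [map_sub, h3]
    ring
  rw [this]
  exact J.add_mem h2 h4

end Groth.Agent.Lib.Helper4.HenselPair
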