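import Mathlib
import Groth.Agent.Lib.Helper4.HenselPairJ

/-!
# From idempotent lifting in `B[X]/(F)` to root lifting (Stacks 09XI (3) ⇒ (1))
-/

set_option autoImplicit false
universe u

namespace Groth.Agent.Lib.Helper4.HenselPair

open Polynomial

/-- Nakayama-type lemma: if `e` is idempotent in a module-finite `B`-algebra `B'`, `J` lies in the
Jacobson radical, and every `e * w` lies in `S + J B'` for a submodule `S ⊆ e B'`, then `e B' ⊆ S`. -/
theorem idempotent_mul_mem_of_nakayama {B : Type u} {B' : Type u} [CommRing B] [CommRing B']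
    [Algebra B B'] [Module.Finite B B'] (J : Ideal B) (hJ : J ≤ Ideal.jacobson ⊥) (e : B')
    (he : e * e = e) (S : Submodule B B')
    (h : ∀ w : B', ∃ s ∈ S, e * w - s ∈ J.map (algebraMap B B') ∧ e * s = s) (w : B') :
    e * w ∈ S := by
  let N : Submodule B B' := LinearMap.range (LinearMap.mulLeft B e)
  have hNfg : N.FG := by
    have : N = (⊤ : Submodule B B').map (LinearMap.mulLeft B e) := by rw [Submodule.map_top]
    rw [this]
    exact Submodule.FG.map _ Module.Finite.fg_top
  have hIN : ∀ x ∈ J.map (algebraMap B B'), e * x ∈ J • N := by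
    intro x hx
    have hx' : x ∈ J • (⊤ : Submodule B B') := by
      rw [Ideal.smul_top_eq_map]
      exact hx
    have h7 : (LinearMap.mulLeft B e) x ∈ (J • (⊤ : Submodule B B')).map (LinearMap.mulLeft B e) :=
      Submodule.mem_map_of_mem hx'
    rw [Submodule.map_smul'', Submodule.map_top] at h7
    exact h7
  have hle : N ≤ S ⊔ J • N := by
    rintro _ ⟨w, rfl⟩
    obtain ⟨s, hs, hws, hes⟩ := h w
    have h9 : e * (e * w - s) = e * w - s := by
      rw [mul_sub, ← mul_assoc, he, hes]
    have h10 : e * w = s + e * (e * w - s) := by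
      rw [h9]
      ring
    change e * w ∈ _
    rw [h10]
    exact Submodule.add_mem _ (Submodule.mem_sup_left hs) (Submodule.mem_sup_right (hIN _ hws))
  exact Submodule.le_of_le_smul_of_le_jacobson_bot hNfg hJ hle ⟨w, rfl⟩

/-- **Root lifting from idempotent lifting in `B[X]/(F)`**. -/
theorem exists_root_of_idempotent_lift {B : Type u} [CommRing B] (J : Ideal B)
    (hJ : J ≤ Ideal.jacobson ⊥) (F : B[X]) (hF : F.Monic) (b₀ : B) (h0 : F.eval b₀ ∈ J)
    (hu : IsUnit (Ideal.Quotient.mk J (F.derivative.eval b₀)))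
    (hlift : ∀ β : AdjoinRoot F, β * β - β ∈ J.map (algebraMap B (AdjoinRoot F)) →
      ∃ e : AdjoinRoot F, IsIdempotentElem e ∧ e - β ∈ J.map (algebraMap B (AdjoinRoot F))) :
    ∃ b : B, F.IsRoot b ∧ b - b₀ ∈ J := by
  classical
  rcases subsingleton_or_nontrivial B with hsub | hnt
  · exact ⟨b₀, Subsingleton.elim _ _, by rw [sub_self]; exact J.zero_mem⟩
  have hfin : Module.Finite B (AdjoinRoot F) := hF.finite_adjoinRoot
  set x : AdjoinRoot F := AdjoinRoot.root F with hx
  set JB' : Ideal (AdjoinRoot F) := J.map (algebraMap B (AdjoinRoot F)) with hJB'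
  have hJne : J ≠ ⊤ := by
    intro h
    have h1 : (1 : B) ∈ Ideal.jacobson (⊥ : Ideal B) := hJ (h ▸ Submodule.mem_top)
    have h2 := (Ideal.mem_jacobson_bot.mp h1) (-1)
    have h3 : (1 : B) * -1 + 1 = 0 := by ring
    rw [h3] at h2
    exact not_isUnit_zero h2
  set n := F.natDegree with hn
  have hn1 : 1 ≤ n := by
    by_contra hlt
    have hn0 : F.natDegree = 0 := by omega
    have hF1 : F = 1 := hF.natDegree_eq_zero.mp hn0
    rw [hF1, Polynomial.eval_one] at h0
    exact hJne ((Ideal.eq_top_iff_one J).mpr h0)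
  -- `a • mk P ∈ J B'` for `a ∈ J`
  have hJmem : ∀ (a : B) (P : B[X]), a ∈ J → AdjoinRoot.mk F (C a * P) ∈ JB' := by
    intro a P ha
    rw [map_mul, AdjoinRoot.mk_C]
    exact Ideal.mul_mem_right _ _ (Ideal.mem_map_of_mem _ ha)
  -- division of `F` by `X - b₀`
  set G := F /ₘ (X - C b₀) with hG
  have hFG : F = C (F.eval b₀) + (X - C b₀) * G := by
    have := Polynomial.modByMonic_add_div F (X - C b₀)
    rw [Polynomial.modByMonic_X_sub_C_eq_C_eval] at this
    exact this.symm
  have hGdeg : G.natDegree = n - 1 := by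
    rw [hG, Polynomial.natDegree_divByMonic F (Polynomial.monic_X_sub_C b₀),
      Polynomial.natDegree_X_sub_C]
  have hGm : G.Monic := by
    refine (Polynomial.monic_X_sub_C b₀).of_mul_monic_left ?_
    have h1 : (X - C b₀) * G = F - C (F.eval b₀) := by linear_combination -hFG
    rw [h1]
    refine hF.sub_of_left ?_
    rw [Polynomial.degree_eq_natDegree hF.ne_zero]
    exact lt_of_le_of_lt Polynomial.degree_C_le (by exact_mod_cast hn1)
  set c := G.eval b₀ with hc
  have hcder : F.derivative.eval b₀ = c := by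
    conv_lhs => rw [hFG]
    simp [Polynomial.derivative_mul, hc]
  obtain ⟨c', hc'⟩ : ∃ c' : B, c * c' - 1 ∈ J := by
    rw [hcder] at hu
    obtain ⟨v, hv⟩ := hu
    obtain ⟨c', hc'⟩ := Ideal.Quotient.mk_surjective (↑v⁻¹ : B ⧸ J)
    refine ⟨c', ?_⟩
    rw [← Ideal.Quotient.eq_zero_iff_mem, map_sub, map_mul, map_one, hc', ← hv, Units.mul_inv,
      sub_self]
  set G₁ := G /ₘ (X - C b₀) with hG₁
  have hGG₁ : G = C c + (X - C b₀) * G₁ := by
    have := Polynomial.modByMonic_add_div G (X - C b₀)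
    rw [Polynomial.modByMonic_X_sub_C_eq_C_eval] at this
    exact this.symm
  set β : AdjoinRoot F := AdjoinRoot.mk F (C c' * G) with hβ
  -- `β` is idempotent modulo `J B'`
  have hkey : C c' * G * (C c' * G - 1) =
      C ((c * c' - 1) * c') * G - C (F.eval b₀ * c' * c') * G₁ + C (c' * c') * G₁ * F := by
    simp only [map_mul, map_sub, map_one]
    linear_combination (C c' * C c' * G) * hGG₁ - (C c' * C c' * G₁) * hFG
  have hβidem : β * β - β ∈ JB' := by
    have h1 : β * β - β = AdjoinRoot.mk F (C c' * G * (C c' * G - 1)) := by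
      rw [hβ, ← map_mul, ← map_sub]
      congr 1
      ring
    rw [h1, hkey, map_add, map_sub, map_mul _ (C (c' * c') * G₁) F, AdjoinRoot.mk_self, mul_zero,
      add_zero]
    refine JB'.sub_mem (hJmem _ _ (J.mul_mem_right _ hc')) (hJmem _ _ ?_)
    exact J.mul_mem_right _ (J.mul_mem_right _ h0)
  obtain ⟨e, he, heβ⟩ := hlift β hβidem
  have hee : e * e = e := he.eq
  have hxX : AdjoinRoot.mk F X = x := AdjoinRoot.mk_X
  have hmkC : ∀ a : B, AdjoinRoot.mk F (C a) = algebraMap B (AdjoinRoot F) a := fun a => AdjoinRoot.mk_C a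
  -- Step A: `(x - b₀) e ∈ J B'`
  have hA : (x - algebraMap B (AdjoinRoot F) b₀) * e ∈ JB' := by
    have h1 : (x - algebraMap B (AdjoinRoot F) b₀) * β ∈ JB' := by
      have h2 : (x - algebraMap B (AdjoinRoot F) b₀) * β =
          AdjoinRoot.mk F (C c' * F) - AdjoinRoot.mk F (C (F.eval b₀) * C c') := by
        rw [hβ, ← hxX, ← hmkC, ← map_sub, ← map_mul, ← map_sub]
        congr 1
        linear_combination (-(C c')) * hFG
      rw [h2, map_mul _ (C c') F, AdjoinRoot.mk_self, mul_zero, zero_sub]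
      exact JB'.neg_mem (hJmem _ _ h0)
    have h3 : (x - algebraMap B (AdjoinRoot F) b₀) * e =
        (x - algebraMap B (AdjoinRoot F) b₀) * (e - β) + (x - algebraMap B (AdjoinRoot F) b₀) * β := by
      ring
    rw [h3]
    exact JB'.add_mem (JB'.mul_mem_left _ heβ) h1
  -- Step B: `e B' = B e`
  have hB : ∀ w : AdjoinRoot F, e * w ∈ Submodule.span B {e} := by
    refine idempotent_mul_mem_of_nakayama J hJ e hee _ fun w => ?_
    obtain ⟨P, rfl⟩ := AdjoinRoot.mk_surjective w
    obtain ⟨r, P₁, rfl⟩ : ∃ (r : B) (P₁ : B[X]), P = C r + (X - C b₀) * P₁ := by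
      have := Polynomial.modByMonic_add_div P (X - C b₀)
      rw [Polynomial.modByMonic_X_sub_C_eq_C_eval] at this
      exact ⟨_, _, this.symm⟩
    refine ⟨r • e, Submodule.smul_mem _ _ (Submodule.mem_span_singleton_self e), ?_, ?_⟩
    · have h1 : e * AdjoinRoot.mk F (C r + (X - C b₀) * P₁) - r • e =
          (x - algebraMap B (AdjoinRoot F) b₀) * e * AdjoinRoot.mk F P₁ := by
        rw [map_add, map_mul, map_sub, hxX, hmkC, hmkC, Algebra.smul_def]
        ring
      rw [h1]
      exact JB'.mul_mem_right _ hA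
    · rw [mul_smul_comm, hee]
  obtain ⟨b, hb⟩ : ∃ b : B, e * x = b • e := by
    obtain ⟨b, hb⟩ := Submodule.mem_span_singleton.mp (hB x)
    exact ⟨b, hb.symm⟩
  -- Step C: a monic `H` of degree `n - 1` with `H(x) (1 - e) = 0`
  have hβ2 : AdjoinRoot.mk F (C c' * G * (C c' * G - 1)) = β * β - β := by
    rw [hβ, ← map_mul, ← map_sub]
    congr 1
    ring
  have hGJ : AdjoinRoot.mk F (G * (C c' * G - 1)) ∈ JB' := by
    have h1 : G * (C c' * G - 1) =
        C c * (C c' * G * (C c' * G - 1)) - C (c * c' - 1) * (G * (C c' * G - 1)) := by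
      simp only [map_mul, map_sub, map_one]
      ring
    rw [h1, map_sub]
    refine JB'.sub_mem ?_ (hJmem _ _ hc')
    rw [map_mul, hβ2]
    exact JB'.mul_mem_left _ hβidem
  have h1e : (1 - e) * AdjoinRoot.mk F G ∈ JB' := by
    have : (1 - e) * AdjoinRoot.mk F G =
        -(AdjoinRoot.mk F (G * (C c' * G - 1))) - (e - β) * AdjoinRoot.mk F G := by
      rw [hβ, map_mul, map_sub, map_mul, map_one]
      ring
    rw [this]
    exact JB'.sub_mem (JB'.neg_mem hGJ) (JB'.mul_mem_right _ heβ)
  have h1ee : (1 - e) * (1 - e) = 1 - e := by linear_combination hee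
  let S : Submodule B (AdjoinRoot F) :=
    Submodule.span B (Set.range fun i : Fin (n - 1) => (1 - e) * x ^ (i : ℕ))
  have hGdeg' : G.degree ≤ ((n - 1 : ℕ) : WithBot ℕ) := by
    rw [← hGdeg]
    exact Polynomial.degree_le_natDegree
  have hC : ∀ w : AdjoinRoot F, (1 - e) * w ∈ S := by
    refine idempotent_mul_mem_of_nakayama J hJ (1 - e) h1ee S fun w => ?_
    obtain ⟨P, rfl⟩ := AdjoinRoot.mk_surjective w
    obtain ⟨R, Q, hR, rfl⟩ : ∃ R Q : B[X],
        (∑ i : Fin (n - 1), monomial (i : ℕ) (R.coeff i)) = R ∧ P = R + G * Q :=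
      ⟨P %ₘ G, P /ₘ G, Polynomial.sum_modByMonic_coeff hGm hGdeg',
        (Polynomial.modByMonic_add_div P G).symm⟩
    refine ⟨(1 - e) * AdjoinRoot.mk F R, ?_, ?_, ?_⟩
    · rw [← hR, map_sum, Finset.mul_sum]
      refine Submodule.sum_mem _ fun i _ => ?_
      have h2 : (1 - e) * AdjoinRoot.mk F (monomial (i : ℕ) (R.coeff i)) =
          R.coeff i • ((1 - e) * x ^ (i : ℕ)) := by
        rw [← Polynomial.C_mul_X_pow_eq_monomial, map_mul, map_pow, hxX, hmkC, Algebra.smul_def]
        ring
      rw [h2]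
      exact Submodule.smul_mem _ _ (Submodule.subset_span ⟨i, rfl⟩)
    · have h3 : (1 - e) * AdjoinRoot.mk F (R + G * Q) - (1 - e) * AdjoinRoot.mk F R =
          (1 - e) * AdjoinRoot.mk F G * AdjoinRoot.mk F Q := by
        rw [map_add, map_mul]
        ring
      rw [h3]
      exact JB'.mul_mem_right _ h1e
    · rw [← mul_assoc, h1ee]
  obtain ⟨a, ha⟩ := (Submodule.mem_span_range_iff_exists_fun B).mp (hC (x ^ (n - 1)))
  set H : B[X] := X ^ (n - 1) - ∑ i : Fin (n - 1), C (a i) * X ^ (i : ℕ) with hH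
  have hHm : H.Monic := Polynomial.monic_X_pow_sub (Polynomial.degree_sum_fin_lt a)
  have hHdeg : H.natDegree = n - 1 := by
    have h4 : H.degree = ((n - 1 : ℕ) : WithBot ℕ) := by
      rw [hH, Polynomial.degree_sub_eq_left_of_degree_lt, Polynomial.degree_X_pow]
      rw [Polynomial.degree_X_pow]
      exact Polynomial.degree_sum_fin_lt a
    exact Polynomial.natDegree_eq_of_degree_eq_some h4
  have h1eH : (1 - e) * AdjoinRoot.mk F H = 0 := by
    rw [hH, map_sub, map_pow, hxX, map_sum, mul_sub, Finset.mul_sum, ← ha, sub_eq_zero]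
    refine Finset.sum_congr rfl fun i _ => ?_
    rw [map_mul, map_pow, hxX, hmkC, Algebra.smul_def]
    ring
  -- Step D: `F = (X - b) H`
  have heg : e * AdjoinRoot.mk F (X - C b) = 0 := by
    rw [map_sub, hxX, hmkC, mul_sub, hb, Algebra.smul_def]
    ring
  have hgH0 : AdjoinRoot.mk F ((X - C b) * H) = 0 := by
    have : AdjoinRoot.mk F ((X - C b) * H) =
        e * AdjoinRoot.mk F (X - C b) * AdjoinRoot.mk F H +
          AdjoinRoot.mk F (X - C b) * ((1 - e) * AdjoinRoot.mk F H) := by
      rw [map_mul]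
      ring
    rw [this, heg, h1eH, zero_mul, mul_zero, add_zero]
  have hdvd : F ∣ (X - C b) * H := AdjoinRoot.mk_eq_zero.mp hgH0
  have hgHm : ((X - C b) * H).Monic := (Polynomial.monic_X_sub_C b).mul hHm
  have hgHdeg : ((X - C b) * H).natDegree ≤ F.natDegree := by
    rw [(Polynomial.monic_X_sub_C b).natDegree_mul hHm, Polynomial.natDegree_X_sub_C, hHdeg]
    omega
  have hFeq : (X - C b) * H = F :=
    Polynomial.eq_of_monic_of_dvd_of_natDegree_le hF hgHm hdvd hgHdeg
  refine ⟨b, ?_, ?_⟩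
  · rw [Polynomial.IsRoot, ← hFeq, Polynomial.eval_mul]
    simp
  -- Step E: `b ≡ b₀`
  have hidx : n - 1 < F.natDegree := by omega
  have hE1 : (b - b₀) • e ∈ JB' := by
    have h1 : (b - b₀) • e = (x - algebraMap B (AdjoinRoot F) b₀) * e := by
      rw [sub_smul, ← hb, Algebra.smul_def]
      ring
    rw [h1]
    exact hA
  have hE2 : (b - b₀) • β ∈ JB' := by
    have h1 : (b - b₀) • β = (b - b₀) • e - algebraMap B (AdjoinRoot F) (b - b₀) * (e - β) := by
      rw [← Algebra.smul_def, smul_sub]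
      abel
    rw [h1]
    exact JB'.sub_mem hE1 (JB'.mul_mem_left _ heβ)
  have hE3 : ∀ a : B, AdjoinRoot.mk F (C a * G) ∈ JB' → a ∈ J := by
    intro a ha
    have h1 := (mem_map_iff_repr (AdjoinRoot.powerBasisAux' hF) J _).mp ha ⟨n - 1, hidx⟩
    rw [AdjoinRoot.powerBasisAux'_repr_apply_to_fun, AdjoinRoot.modByMonicHom_mk] at h1
    have h2 : (C a * G) %ₘ F = C a * G := by
      rw [Polynomial.modByMonic_eq_self_iff hF]
      calc (C a * G).degree ≤ G.degree := by
            rw [← Polynomial.smul_eq_C_mul]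
            exact Polynomial.degree_smul_le a G
        _ < F.degree := by
          rw [Polynomial.degree_eq_natDegree hGm.ne_zero,
            Polynomial.degree_eq_natDegree hF.ne_zero, hGdeg]
          exact_mod_cast (by omega : n - 1 < n)
    have h3 : G.coeff (n - 1) = 1 := by
      rw [← hGdeg]
      exact hGm.coeff_natDegree
    rw [h2, Polynomial.coeff_C_mul] at h1
    change a * G.coeff (n - 1) ∈ J at h1
    rw [h3, mul_one] at h1
    exact h1
  have hE4 : (b - b₀) * c' ∈ J := by
    apply hE3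
    have h1 : AdjoinRoot.mk F (C ((b - b₀) * c') * G) = (b - b₀) • β := by
      rw [Algebra.smul_def, ← hmkC, hβ, ← map_mul]
      congr 1
      rw [map_mul]
      ring
    rw [h1]
    exact hE2
  have hE5 : b - b₀ = c * ((b - b₀) * c') - (b - b₀) * (c * c' - 1) := by ring
  rw [hE5]
  exact J.sub_mem (J.mul_mem_left _ hE4) (J.mul_mem_left _ hc')

end Groth.Agent.Lib.Helper4.HenselPair
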