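import Mathlib
import Groth.Agent.Lib.Helper4.HenselPairR

/-!
# Henselian pairs and idempotents of integral algebras (Stacks 09XI)
-/

set_option autoImplicit false
universe u

namespace Groth.Agent.Lib.Helper4.HenselPair

open Polynomial

/-- If `I` is contained in the Jacobson radical of `A` and `B` is integral over `A`, then `I B` is
contained in the Jacobson radical of `B`. -/
theorem map_le_jacobson_of_isIntegral {A : Type*} {B : Type*} [CommRing A] [CommRing B]
    [Algebra A B] [Algebra.IsIntegral A B] (I : Ideal A) (hI : I ≤ Ideal.jacobson ⊥) :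
    I.map (algebraMap A B) ≤ Ideal.jacobson ⊥ := by
  rw [Ideal.map_le_iff_le_comap]
  intro a ha
  rw [Ideal.mem_comap, Ideal.jacobson, Ideal.mem_sInf]
  rintro M ⟨-, hM⟩
  have hmax : (M.comap (algebraMap A B)).IsMaximal :=
    Ideal.isMaximal_comap_of_isIntegral_of_isMaximal (R := A) M
  have h1 : a ∈ Ideal.jacobson (⊥ : Ideal A) := hI ha
  rw [Ideal.jacobson, Ideal.mem_sInf] at h1
  exact h1 ⟨bot_le, hmax⟩

/-- Two idempotents congruent modulo the Jacobson radical are equal. -/
theorem idempotent_eq_of_sub_mem_jacobson {B : Type*} [CommRing B] (e₁ e₂ : B)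
    (h₁ : IsIdempotentElem e₁) (h₂ : IsIdempotentElem e₂)
    (h : e₁ - e₂ ∈ Ideal.jacobson (⊥ : Ideal B)) : e₁ = e₂ := by
  have h1 : e₁ * e₁ = e₁ := h₁.eq
  have h2 : e₂ * e₂ = e₂ := h₂.eq
  have hx : (e₁ - e₂) * ((e₁ - e₂) * -(e₁ - e₂) + 1) = 0 := by
    linear_combination (-(e₁ + 1 - 3 * e₂)) * h1 + (-(3 * e₁ - e₂ - 1)) * h2
  have hu : IsUnit ((e₁ - e₂) * -(e₁ - e₂) + 1) := Ideal.mem_jacobson_bot.mp h _
  have := hu.mul_left_eq_zero.mp hx
  exact sub_eq_zero.mp this

/-- **Stacks 09XI (1) ⇒ (3)**: over a henselian pair, idempotents of an integral algebra correspond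
bijectively to idempotents modulo `I`. -/
theorem bijOn_idempotent_of_isIntegral {A : Type u} {B : Type u} [CommRing A] [CommRing B]
    [Algebra A B] [Algebra.IsIntegral A B] (I : Ideal A) [HenselianRing A I] :
    Set.BijOn (Ideal.Quotient.mk (Ideal.map (algebraMap A B) I))
      {e : B | IsIdempotentElem e} {e | IsIdempotentElem e} := by
  refine ⟨?_, ?_, ?_⟩
  · intro e he
    exact he.map (Ideal.Quotient.mk (Ideal.map (algebraMap A B) I))
  · intro e₁ he₁ e₂ he₂ h
    refine idempotent_eq_of_sub_mem_jacobson e₁ e₂ he₁ he₂ ?_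
    refine map_le_jacobson_of_isIntegral I (HenselianRing.jac) ?_
    exact Ideal.Quotient.eq.mp h
  · intro ebar hebar
    obtain ⟨β, rfl⟩ := Ideal.Quotient.mk_surjective ebar
    have hβ : β * β - β ∈ I.map (algebraMap A B) := by
      rw [← Ideal.Quotient.eq, map_mul]
      exact hebar.eq
    obtain ⟨e, he, heβ⟩ := exists_idempotent_lift_of_isIntegral I β hβ
    exact ⟨e, he, Ideal.Quotient.eq.mpr heβ⟩

/-- **Stacks 09XI (3) ⇒ (1)**: if idempotents lift uniquely along `B → B/IB` for all module-finite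
`A`-algebras `B`, then `(A, I)` is a henselian pair. -/
theorem henselianRing_of_bijOn_idempotent (A : Type u) [CommRing A] (I : Ideal A)
    (h : ∀ (B : Type u) [CommRing B] [Algebra A B], Module.Finite A B →
      Set.BijOn (Ideal.Quotient.mk (Ideal.map (algebraMap A B) I))
        {e : B | IsIdempotentElem e} {e | IsIdempotentElem e}) :
    HenselianRing A I := by
  have hjac : I ≤ Ideal.jacobson ⊥ := by
    intro a ha
    rw [Ideal.jacobson, Ideal.mem_sInf]
    rintro M ⟨-, hM⟩
    by_contra hna
    have hfin : Module.Finite A (A ⧸ M) := inferInstance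
    have hbij := h (A ⧸ M) hfin
    let _ := Ideal.Quotient.field M
    have hane : algebraMap A (A ⧸ M) a ≠ 0 := by
      intro h0
      exact hna (Ideal.Quotient.eq_zero_iff_mem.mp h0)
    have htop : I.map (algebraMap A (A ⧸ M)) = ⊤ :=
      Ideal.eq_top_of_isUnit_mem _ (Ideal.mem_map_of_mem _ ha) (isUnit_iff_ne_zero.mpr hane)
    have h01 : (0 : A ⧸ M) = 1 := by
      refine hbij.injOn IsIdempotentElem.zero IsIdempotentElem.one ?_
      rw [Ideal.Quotient.eq, htop]
      exact Submodule.mem_top
    exact zero_ne_one h01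
  refine ⟨hjac, fun f hf a₀ h0 hu => ?_⟩
  have hfin : Module.Finite A (AdjoinRoot f) := hf.finite_adjoinRoot
  have hbij := h (AdjoinRoot f) hfin
  refine exists_root_of_idempotent_lift I hjac f hf a₀ h0 hu fun β hβ => ?_
  have hβ' : IsIdempotentElem (Ideal.Quotient.mk (I.map (algebraMap A (AdjoinRoot f))) β) := by
    change _ * _ = _
    rw [← map_mul, Ideal.Quotient.eq]
    exact hβ
  obtain ⟨e, he, heβ⟩ := hbij.surjOn hβ'
  exact ⟨e, he, Ideal.Quotient.eq.mp heβ⟩

/-- **Stacks 09XK**: an integral algebra over a henselian pair is henselian along `I B`. -/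
theorem henselianRing_map_of_isIntegral (A : Type u) [CommRing A] (I : Ideal A) [HenselianRing A I]
    (B : Type u) [CommRing B] [Algebra A B] [Algebra.IsIntegral A B] :
    HenselianRing B (Ideal.map (algebraMap A B) I) := by
  have hjac : I.map (algebraMap A B) ≤ Ideal.jacobson ⊥ :=
    map_le_jacobson_of_isIntegral I HenselianRing.jac
  refine ⟨hjac, fun F hF b₀ h0 hu => ?_⟩
  have hfin : Module.Finite B (AdjoinRoot F) := hF.finite_adjoinRoot
  have hint : Algebra.IsIntegral A (AdjoinRoot F) := Algebra.IsIntegral.trans (A := B)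
  have hmap : (I.map (algebraMap A B)).map (algebraMap B (AdjoinRoot F)) =
      I.map (algebraMap A (AdjoinRoot F)) := by
    rw [Ideal.map_map, ← IsScalarTower.algebraMap_eq]
  refine exists_root_of_idempotent_lift _ hjac F hF b₀ h0 hu fun β hβ => ?_
  rw [hmap] at hβ ⊢
  exact exists_idempotent_lift_of_isIntegral I β hβ

end Groth.Agent.Lib.Helper4.HenselPair
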