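import Mathlib
import Groth.Prelude.Def_Hensel
import Groth.Agent.Lib.Helper4.HznProps
import Groth.Agent.Lib.Helper4.HenselPairK

/-!
# Henselization and integral local algebras
-/

set_option autoImplicit false
universe u

namespace Groth.Agent.Lib.Helper4.Hzn

open IsLocalRing Polynomial

/-- A local ring which is henselian along an ideal whose radical is the maximal ideal is a
henselian local ring. -/
theorem henselianLocalRing_of_henselianRing (C : Type*) [CommRing C] [IsLocalRing C] (I : Ideal C)
    [HenselianRing C I] (h : maximalIdeal C ≤ I.radical) : HenselianLocalRing C := by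
  refine { is_henselian := fun f hf a₀ h0 hu => ?_ }
  have hI : I ≤ maximalIdeal C := by
    have := HenselianRing.jac (R := C) (I := I)
    rwa [IsLocalRing.jacobson_eq_maximalIdeal ⊥ bot_ne_top] at this
  have hrad : I.radical ≤ maximalIdeal C :=
    (Ideal.IsPrime.radical_le_iff inferInstance).mpr hI
  have haev : ∀ (g : C[X]) (c : C), aeval (Ideal.Quotient.mk I c) g = Ideal.Quotient.mk I (g.eval c) := by
    intro g c
    rw [← Ideal.Quotient.algebraMap_eq, aeval_algebraMap_apply, coe_aeval_eq_eval]
  have hnil : IsNilpotent (aeval (Ideal.Quotient.mk I a₀) f) := by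
    rw [haev]
    obtain ⟨n, hn⟩ := h h0
    exact ⟨n, by rw [← map_pow, Ideal.Quotient.eq_zero_iff_mem]; exact hn⟩
  have hunit : IsUnit (aeval (Ideal.Quotient.mk I a₀) (derivative f)) := by
    rw [haev]; exact hu.map _
  obtain ⟨r, ⟨hr1, hr2⟩, -⟩ := existsUnique_nilpotent_sub_and_aeval_eq_zero hnil hunit
  obtain ⟨a₁, rfl⟩ := Ideal.Quotient.mk_surjective r
  have h1 : f.eval a₁ ∈ I := by
    rw [← Ideal.Quotient.eq_zero_iff_mem, ← haev]; exact hr2
  have h2 : a₀ - a₁ ∈ maximalIdeal C := by
    obtain ⟨n, hn⟩ := hr1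
    rw [← map_sub, ← map_pow, Ideal.Quotient.eq_zero_iff_mem] at hn
    exact hrad ⟨n, hn⟩
  have h3 : IsUnit (f.derivative.eval a₁) := by
    have hdvd : a₁ - a₀ ∣ f.derivative.eval a₁ - f.derivative.eval a₀ := sub_dvd_eval_sub _ _ _
    have hmem : f.derivative.eval a₁ - f.derivative.eval a₀ ∈ maximalIdeal C := by
      obtain ⟨c, hc⟩ := hdvd
      rw [hc]
      have : a₁ - a₀ = -(a₀ - a₁) := by ring
      rw [this]
      exact Ideal.mul_mem_right _ _ (neg_mem h2)
    by_contra hnu
    have h4 : f.derivative.eval a₁ ∈ maximalIdeal C := (mem_maximalIdeal _).mpr hnu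
    have h5 : f.derivative.eval a₀ ∈ maximalIdeal C := by
      have : f.derivative.eval a₀ =
          f.derivative.eval a₁ - (f.derivative.eval a₁ - f.derivative.eval a₀) := by ring
      rw [this]; exact sub_mem h4 hmem
    exact (mem_maximalIdeal _).mp h5 hu
  obtain ⟨a, ha, haI⟩ := HenselianRing.is_henselian f hf a₁ h1 (h3.map _)
  refine ⟨a, ha, ?_⟩
  have : a - a₀ = (a - a₁) - (a₀ - a₁) := by ring
  rw [this]
  exact sub_mem (hI haI) h2

/-- Abstract form: a pushout `C` of an integral local algebra `B` with the henselization `S`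
of `A` is a henselization of `B`. -/
theorem isHenselization_of_integral_pushout
    (A B S C : Type u) [CommRing A] [IsLocalRing A] [CommRing B] [IsLocalRing B] [Algebra A B]
    [IsLocalHom (algebraMap A B)]
    [CommRing S] [IsLocalRing S] [Algebra A S] [IsLocalHom (algebraMap A S)]
    [Hensel.IsHenselization A S]
    [CommRing C] [Algebra A C] [Algebra B C] [Algebra S C] [IsScalarTower A B C]
    [IsScalarTower A S C] [Algebra.IsIntegral S C]
    (hgen : ∀ (P : C → Prop), P 0 → (∀ b s, P (algebraMap B C b * algebraMap S C s)) →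
      (∀ x y, P x → P y → P (x + y)) → ∀ z, P z)
    (huniv : ∀ (T : Type u) [CommRing T] (f : B →+* T) (g : S →+* T),
      f.comp (algebraMap A B) = g.comp (algebraMap A S) →
      ∃ h : C →+* T, h.comp (algebraMap B C) = f ∧ h.comp (algebraMap S C) = g) :
    ∃ (_ : IsLocalRing C) (_ : IsLocalHom (algebraMap B C)), Hensel.IsHenselization B C := by
  have hS : HenselianLocalRing S := Hensel.IsHenselization.henselian (R := A)
  set φ := algebraMap B C with hφ
  set ψ := algebraMap S C with hψ
  set IS : Ideal C := (maximalIdeal S).map ψ with hIS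
  have hext : ∀ (T : Type u) [CommRing T] (h h' : C →+* T), h.comp φ = h'.comp φ →
      h.comp ψ = h'.comp ψ → h = h' := by
    intro T _ h h' h1 h2
    ext z
    refine hgen (fun z => h z = h' z) ?_ ?_ ?_ z
    · rw [map_zero, map_zero]
    · intro b s
      rw [map_mul, map_mul, show h (φ b) = h' (φ b) from RingHom.congr_fun h1 _,
        show h (ψ s) = h' (ψ s) from RingHom.congr_fun h2 _]
    · intro x y hx hy
      rw [map_add, map_add, hx, hy]
  -- the map to the residue field of `B`
  have hfA : IsLocalHom ((residue B).comp (algebraMap A B)) := RingHom.isLocalHom_comp _ _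
  obtain ⟨g0, hg0, -⟩ := Hensel.IsHenselization.universal (R := A) (S := S) (ResidueField B)
    ((residue B).comp (algebraMap A B)) hfA
  have hg0m : ∀ s ∈ maximalIdeal S, g0 s = 0 := by
    have hle : (maximalIdeal A).map (algebraMap A S) ≤ RingHom.ker g0 := by
      rw [Ideal.map_le_iff_le_comap]
      intro a ha
      rw [Ideal.mem_comap, RingHom.mem_ker]
      have h1 : g0 (algebraMap A S a) = residue B (algebraMap A B a) := RingHom.congr_fun hg0 a
      rw [h1, residue_eq_zero_iff]
      rw [mem_maximalIdeal, mem_nonunits_iff] at ha ⊢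
      exact fun h => ha (isUnit_of_map_unit (algebraMap A B) a h)
    intro s hs
    rw [← map_maximalIdeal_of_isHenselization A S] at hs
    exact hle hs
  obtain ⟨π, hπ1, hπ2⟩ := huniv (ResidueField B) (residue B) g0 hg0.symm
  have hπφ : ∀ b, π (φ b) = residue B b := fun b => RingHom.congr_fun hπ1 b
  have hπsurj : Function.Surjective π := by
    intro y
    obtain ⟨b, rfl⟩ := residue_surjective y
    exact ⟨φ b, hπφ b⟩
  have hkmax : (RingHom.ker π).IsMaximal := RingHom.ker_isMaximal_of_surjective π hπsurj
  have hD : ∀ z : C, ∃ b : B, z - φ b ∈ IS := by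
    intro z
    refine hgen (fun z => ∃ b : B, z - φ b ∈ IS) ?_ ?_ ?_ z
    · exact ⟨0, by rw [map_zero, sub_zero]; exact IS.zero_mem⟩
    · intro b s
      obtain ⟨a, ha⟩ := exists_sub_mem_of_isHenselization A S s
      refine ⟨a • b, ?_⟩
      have : φ b * ψ s - φ (a • b) = φ b * ψ (s - algebraMap A S a) := by
        rw [Algebra.smul_def, map_mul, map_sub, ← IsScalarTower.algebraMap_apply A B C,
          IsScalarTower.algebraMap_apply A S C]
        ring
      rw [this]
      exact Ideal.mul_mem_left _ _ (Ideal.mem_map_of_mem _ ha)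
    · rintro x y ⟨b₁, h₁⟩ ⟨b₂, h₂⟩
      refine ⟨b₁ + b₂, ?_⟩
      have : x + y - φ (b₁ + b₂) = (x - φ b₁) + (y - φ b₂) := by rw [map_add]; ring
      rw [this]
      exact IS.add_mem h₁ h₂
  have hπIS : ∀ z ∈ IS, π z = 0 := by
    have hle : IS ≤ RingHom.ker π := by
      rw [hIS, Ideal.map_le_iff_le_comap]
      intro s hs
      rw [Ideal.mem_comap, RingHom.mem_ker]
      have : π (ψ s) = g0 s := RingHom.congr_fun hπ2 s
      rw [this]
      exact hg0m s hs
    exact fun z hz => hle hz
  have hmaxIS : ∀ M : Ideal C, M.IsMaximal → IS ≤ M := by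
    intro M hM
    have h1 : (M.comap ψ).IsMaximal := Ideal.isMaximal_comap_of_isIntegral_of_isMaximal M
    have h2 : M.comap ψ = maximalIdeal S := IsLocalRing.eq_maximalIdeal h1
    rw [hIS, Ideal.map_le_iff_le_comap, h2]
  have hloc : IsLocalRing C := by
    refine IsLocalRing.of_unique_max_ideal ⟨RingHom.ker π, hkmax, ?_⟩
    intro M hM
    refine hM.eq_of_le hkmax.ne_top ?_
    intro z hz
    rw [RingHom.mem_ker]
    obtain ⟨b, hb⟩ := hD z
    have hφb : φ b ∈ M := by
      have := M.sub_mem hz (hmaxIS M hM hb)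
      simpa using this
    have hb𝔪 : b ∈ maximalIdeal B := by
      by_contra hnu
      rw [mem_maximalIdeal, mem_nonunits_iff, not_not] at hnu
      exact hM.ne_top (Ideal.eq_top_of_isUnit_mem _ hφb (hnu.map φ))
    have : z = φ b + (z - φ b) := by ring
    rw [this, map_add, hπIS _ hb, add_zero, hπφ]
    exact (residue_eq_zero_iff _).mpr hb𝔪
  have hlocφ : IsLocalHom φ := by
    constructor
    intro b hb
    have h1 := hb.map π
    rw [hπφ] at h1
    by_contra hnu
    have h2 : b ∈ maximalIdeal B := (mem_maximalIdeal b).mpr hnu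
    rw [← residue_eq_zero_iff] at h2
    rw [h2] at h1
    exact not_isUnit_zero h1
  have hHRS : HenselianRing S (maximalIdeal S) := inferInstance
  have hHR : HenselianRing C IS :=
    Groth.Agent.Lib.Helper4.HenselPair.henselianRing_map_of_isIntegral S (maximalIdeal S) C
  have hrad : maximalIdeal C ≤ IS.radical := by
    rw [Ideal.radical_eq_sInf]
    refine le_sInf ?_
    rintro P ⟨hIP, hP⟩
    have h1 : P.comap ψ = maximalIdeal S := by
      have hle : maximalIdeal S ≤ P.comap ψ := Ideal.map_le_iff_le_comap.mp hIP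
      exact ((maximalIdeal.isMaximal S).eq_of_le (Ideal.comap_ne_top _ hP.ne_top) hle).symm
    have h2 : P.IsMaximal :=
      Ideal.isMaximal_of_isIntegral_of_isMaximal_comap P (h1 ▸ maximalIdeal.isMaximal S)
    exact (IsLocalRing.eq_maximalIdeal h2).ge
  have hHL : HenselianLocalRing C := henselianLocalRing_of_henselianRing C IS hrad
  refine ⟨hloc, hlocφ, ⟨hHL, ?_⟩⟩
  intro T _ _ f hf
  have hfA' : IsLocalHom (f.comp (algebraMap A B)) := RingHom.isLocalHom_comp _ _
  obtain ⟨g, hg, hguniq⟩ := Hensel.IsHenselization.universal (R := A) (S := S) T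
    (f.comp (algebraMap A B)) hfA'
  obtain ⟨h, hh1, hh2⟩ := huniv T f g hg.symm
  refine ⟨h, hh1, fun h' hh' => ?_⟩
  have h3 : h'.comp ψ = g := by
    apply hguniq
    rw [RingHom.comp_assoc, hψ, ← IsScalarTower.algebraMap_eq A S C,
      IsScalarTower.algebraMap_eq A B C, ← RingHom.comp_assoc]
    exact congrArg (fun k => k.comp (algebraMap A B)) hh'
  exact hext T h' h (by rw [hh', hh1]) (by rw [h3, hh2])

open TensorProduct in
theorem isHenselization_tensor_of_integral_local (A B S : Type u) [CommRing A] [IsLocalRing A]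
    [CommRing B] [IsLocalRing B] [Algebra A B] [IsLocalHom (algebraMap A B)]
    [Algebra.IsIntegral A B]
    [CommRing S] [IsLocalRing S] [Algebra A S] [IsLocalHom (algebraMap A S)]
    [Hensel.IsHenselization A S] :
    ∃ (_ : IsLocalRing (B ⊗[A] S)) (_ : IsLocalHom (algebraMap B (B ⊗[A] S))),
      Hensel.IsHenselization B (B ⊗[A] S) := by
  let _ : Algebra S (B ⊗[A] S) := Algebra.TensorProduct.rightAlgebra
  have hψ : ∀ s : S, algebraMap S (B ⊗[A] S) s = (1 : B) ⊗ₜ[A] s := fun s => rfl
  have hφ : ∀ b : B, algebraMap B (B ⊗[A] S) b = b ⊗ₜ[A] (1 : S) := fun b => rfl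
  have htower : IsScalarTower A S (B ⊗[A] S) := Algebra.TensorProduct.right_isScalarTower
  have hint : Algebra.IsIntegral S (B ⊗[A] S) := by
    refine ⟨fun z => ?_⟩
    induction z with
    | zero => exact isIntegral_zero
    | add x y hx hy => exact hx.add hy
    | tmul b s =>
      have h1 : b ⊗ₜ[A] s = (b ⊗ₜ[A] (1 : S)) * algebraMap S (B ⊗[A] S) s := by
        rw [hψ, Algebra.TensorProduct.tmul_mul_tmul, mul_one, one_mul]
      rw [h1]
      refine IsIntegral.mul ?_ isIntegral_algebraMap
      have hb : IsIntegral A b := Algebra.IsIntegral.isIntegral b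
      exact hb.map_of_comp_eq (algebraMap A S)
        (Algebra.TensorProduct.includeLeftRingHom : B →+* B ⊗[A] S) (by
          ext a
          change algebraMap S (B ⊗[A] S) (algebraMap A S a) = (algebraMap A B a) ⊗ₜ[A] (1 : S)
          rw [hψ, Algebra.algebraMap_eq_smul_one, Algebra.algebraMap_eq_smul_one,
            TensorProduct.smul_tmul])
  refine isHenselization_of_integral_pushout A B S (B ⊗[A] S) ?_ ?_
  · intro P h0 hmul hadd z
    induction z with
    | zero => exact h0
    | add x y hx hy => exact hadd x y hx hy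
    | tmul b s =>
      have := hmul b s
      rwa [hφ, hψ, Algebra.TensorProduct.tmul_mul_tmul, mul_one, one_mul] at this
  · intro T _ f g hfg
    let _ : Algebra A T := (f.comp (algebraMap A B)).toAlgebra
    let fA : B →ₐ[A] T := { f with commutes' := fun a => rfl }
    let gA : S →ₐ[A] T := { g with commutes' := fun a => (RingHom.congr_fun hfg a).symm }
    have hcomm : ∀ (x : B) (y : S), Commute (fA x) (gA y) := fun _ _ => Commute.all _ _
    refine ⟨(Algebra.TensorProduct.lift fA gA hcomm).toRingHom, ?_, ?_⟩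
    · ext b
      change Algebra.TensorProduct.lift fA gA hcomm (b ⊗ₜ[A] (1 : S)) = f b
      rw [Algebra.TensorProduct.lift_tmul, map_one, mul_one]
      rfl
    · ext s
      change Algebra.TensorProduct.lift fA gA hcomm ((1 : B) ⊗ₜ[A] s) = g s
      rw [Algebra.TensorProduct.lift_tmul, map_one, one_mul]
      rfl

end Groth.Agent.Lib.Helper4.Hzn
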