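import Mathlib.RingTheory.Henselian
import Mathlib.RingTheory.Unramified.LocalStructure
import Mathlib.RingTheory.Etale.QuasiFinite

set_option autoImplicit false
universe u

namespace Groth.Agent.Lib.Helper4

open Polynomial

/-- An étale algebra over a henselian local ring with a prime over the maximal ideal having trivial
residue field extension admits a section through that prime. -/
theorem exists_section_of_etale_of_henselian {R : Type u} [CommRing R] [HenselianLocalRing R]
    {R' : Type u} [CommRing R'] [Algebra R R'] [Algebra.Etale R R'] (P : Ideal R') [P.IsPrime]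
    (hsurj : Function.Surjective (algebraMap R P.ResidueField)) :
    ∃ σ : R' →ₐ[R] R, P = (IsLocalRing.maximalIdeal R).comap σ.toRingHom := by
  have : Algebra.IsEtaleAt R P := inferInstance
  obtain ⟨f, hfP, hstd⟩ := Algebra.IsEtaleAt.exists_isStandardEtale (R := R) P
  obtain ⟨pres⟩ := hstd.nonempty_standardEtalePresentation
  set A := Localization.Away f with hA
  set K := P.ResidueField with hK
  let θ₀ : R' →ₐ[R] K := IsScalarTower.toAlgHom R R' K
  have hθ₀f : IsUnit (θ₀ f) := by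
    rw [isUnit_iff_ne_zero]
    intro h0
    exact hfP (Ideal.algebraMap_residueField_eq_zero.mp h0)
  let θ : A →ₐ[R] K := IsLocalization.Away.liftAlgHom (S := A) f hθ₀f
  have hθ : ∀ r' : R', θ (algebraMap R' A r') = algebraMap R' K r' := fun r' =>
    IsLocalization.Away.lift_eq f hθ₀f r'
  set a₀ : K := θ pres.x with ha₀
  have hmap₀ : pres.P.HasMap a₀ := pres.hasMap.map θ
  set φ : R →+* K := algebraMap R K with hφ
  -- apply henselianity
  have hTFAE := (HenselianLocalRing.TFAE R).out 0 2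
  have hH := hTFAE.mp inferInstance φ hsurj pres.P.f pres.P.monic_f a₀
    (by rw [hφ, ← Polynomial.aeval_def]; exact hmap₀.1)
    (by rw [hφ, ← Polynomial.aeval_def]; exact hmap₀.isUnit_derivative_f.ne_zero)
  obtain ⟨a, ha, haa₀⟩ := hH
  have hker : RingHom.ker φ = IsLocalRing.maximalIdeal R := IsLocalRing.ker_eq_maximalIdeal φ hsurj
  have hmapa : pres.P.HasMap a := by
    refine ⟨by simpa [Polynomial.IsRoot, Polynomial.coe_aeval_eq_eval] using ha, ?_⟩
    have h1 : φ (aeval a pres.P.g) = aeval a₀ pres.P.g := by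
      rw [← haa₀, Polynomial.aeval_def, Polynomial.aeval_def, Polynomial.hom_eval₂]
      simp [hφ]
    have h2 : aeval a pres.P.g ∉ IsLocalRing.maximalIdeal R := by
      rw [← hker, RingHom.mem_ker, h1]
      exact hmap₀.2.ne_zero
    exact (IsLocalRing.notMem_maximalIdeal).mp h2
  let σA : A →ₐ[R] R := (pres.P.lift a hmapa).comp pres.equivRing.toAlgHom
  have hσAx : σA pres.x = a := by
    simp [σA]
  have hcomp : (Algebra.ofId R K).comp σA = θ := by
    apply pres.hom_ext
    rw [AlgHom.comp_apply, hσAx]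
    exact haa₀
  refine ⟨σA.comp (IsScalarTower.toAlgHom R R' A), ?_⟩
  ext r'
  rw [Ideal.mem_comap, ← hker, RingHom.mem_ker]
  have h3 : φ (σA (algebraMap R' A r')) = algebraMap R' K r' := by
    have := congrArg (fun g : A →ₐ[R] K => g (algebraMap R' A r')) hcomp
    simp only [AlgHom.comp_apply] at this
    rw [hθ] at this
    exact this
  change r' ∈ P ↔ φ (σA (algebraMap R' A r')) = 0
  rw [h3, Ideal.algebraMap_residueField_eq_zero]

open TensorProduct in
/-- Over a henselian local ring, every finite algebra splits by idempotents into pieces having at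
most one maximal ideal each. -/
theorem exists_idempotents_of_finite_of_henselian {R : Type u} [CommRing R] [HenselianLocalRing R]
    (S : Type u) [CommRing S] [Algebra R S] [Module.Finite R S] :
    ∃ (n : ℕ) (ε : Fin (n + 1) → S), CompleteOrthogonalIdempotents ε ∧ ε (Fin.last n) = 0 ∧
      ∀ (i : Fin n) (𝔫₁ 𝔫₂ : Ideal S), 𝔫₁.IsMaximal → 𝔫₂.IsMaximal →
        ε i.castSucc ∉ 𝔫₁ → ε i.castSucc ∉ 𝔫₂ → 𝔫₁ = 𝔫₂ := by
  classical
  set m := IsLocalRing.maximalIdeal R with hm
  obtain ⟨R', _, _, _, P, _, _, n, e, he, P', hP'prime, hP'lies, hbij, heP', hP''⟩ :=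
    Algebra.exists_etale_completeOrthogonalIdempotents_forall_liesOver_eq (R := R) (S := S) m
  have hsurj : Function.Surjective (algebraMap R P.ResidueField) := by
    have h1 : algebraMap R P.ResidueField =
        (Ideal.ResidueField.mapₐ m P (Algebra.ofId _ _) (P.over_def m)).toRingHom.comp
          (algebraMap R m.ResidueField) := by
      ext r
      simp
    rw [h1]
    exact hbij.surjective.comp (Ideal.algebraMap_residueField_surjective m)
  obtain ⟨σ, hσ⟩ := exists_section_of_etale_of_henselian P hsurj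
  let ψ : R' ⊗[R] S →ₐ[R] S :=
    Algebra.TensorProduct.lift ((Algebra.ofId R S).comp σ) (AlgHom.id R S)
      (fun _ _ => Commute.all _ _)
  have hψsurj : Function.Surjective ψ := fun s => ⟨1 ⊗ₜ s, by simp [ψ]⟩
  have hε : CompleteOrthogonalIdempotents (ψ ∘ e) := he.map ψ.toRingHom
  have hmax : ∀ 𝔫 : Ideal S, 𝔫.IsMaximal → ψ (e (Fin.last n)) ∈ 𝔫 ∧
      ∀ i : Fin n, ψ (e i.castSucc) ∉ 𝔫 → 𝔫.comap ψ.toRingHom = P' i := by
    intro 𝔫 h𝔫
    have hprime : (𝔫.comap ψ.toRingHom).IsPrime := Ideal.IsPrime.comap _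
    have hunder : 𝔫.comap (algebraMap R S) = m :=
      IsLocalRing.eq_maximalIdeal (Ideal.isMaximal_comap_of_isIntegral_of_isMaximal 𝔫)
    have hlies : (𝔫.comap ψ.toRingHom).LiesOver P := by
      constructor
      ext r'
      have h2 : ψ (algebraMap R' (R' ⊗[R] S) r') = algebraMap R S (σ r') := by
        simp [ψ, Algebra.TensorProduct.algebraMap_apply]
      rw [hσ, Ideal.under_def, Ideal.mem_comap, Ideal.mem_comap, Ideal.mem_comap]
      change σ r' ∈ m ↔ ψ (algebraMap R' (R' ⊗[R] S) r') ∈ 𝔫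
      rw [h2, ← hunder, Ideal.mem_comap]
    obtain ⟨h1, h2⟩ := hP'' _ hprime hlies
    exact ⟨h1, fun i hi => h2 i hi⟩
  refine ⟨n, ψ ∘ e, hε, ?_, ?_⟩
  · -- the last idempotent lies in the Jacobson radical
    have hjac : ψ (e (Fin.last n)) ∈ Ideal.jacobson (⊥ : Ideal S) := by
      rw [Ideal.jacobson, Ideal.mem_sInf]
      rintro J ⟨-, hJ⟩
      exact (hmax J hJ).1
    have hu := (Ideal.mem_jacobson_bot.mp hjac) (-1)
    have hidem : IsIdempotentElem (ψ (e (Fin.last n))) := hε.idem (Fin.last n)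
    have h0 : (ψ (e (Fin.last n)) * -1 + 1) * ψ (e (Fin.last n)) = 0 := by
      have := hidem.eq
      linear_combination -this
    exact (hu.mul_right_eq_zero).mp h0
  · intro i 𝔫₁ 𝔫₂ h₁ h₂ hi₁ hi₂
    have e1 := (hmax 𝔫₁ h₁).2 i hi₁
    have e2 := (hmax 𝔫₂ h₂).2 i hi₂
    exact Ideal.comap_injective_of_surjective ψ.toRingHom hψsurj (e1.trans e2.symm)

theorem exists_pi_isLocalRing_of_idempotents {S : Type u} [CommRing S] (n : ℕ)
    (ε : Fin (n + 1) → S) (hε : CompleteOrthogonalIdempotents ε) (hlast : ε (Fin.last n) = 0)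
    (huniq : ∀ (i : Fin n) (𝔫₁ 𝔫₂ : Ideal S), 𝔫₁.IsMaximal → 𝔫₂.IsMaximal →
        ε i.castSucc ∉ 𝔫₁ → ε i.castSucc ∉ 𝔫₂ → 𝔫₁ = 𝔫₂) :
    ∃ (ι : Type u) (_ : Fintype ι) (A : ι → Type u) (_ : ∀ i, CommRing (A i)),
      (∀ i, IsLocalRing (A i)) ∧ Nonempty (S ≃+* (∀ i, A i)) := by
  classical
  let ι' := {i : Fin (n + 1) // ε i ≠ 0}
  let ε' : ULift.{u} ι' → S := fun j => ε j.down.1
  have hε' : CompleteOrthogonalIdempotents ε' := by
    refine ⟨⟨fun j => hε.idem _, fun j k hjk => hε.ortho ?_⟩, ?_⟩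
    · intro h
      apply hjk
      exact ULift.ext _ _ (Subtype.ext h)
    · have h1 : ∑ j : ULift.{u} ι', ε' j = ∑ i : ι', ε i.1 :=
        Equiv.ulift.sum_comp (fun i : ι' => ε i.1)
      have h2 : ∑ i : ι', ε i.1 = ∑ i ∈ Finset.univ.filter (fun i => ε i ≠ 0), ε i := by
        rw [← Finset.sum_subtype (Finset.univ.filter (fun i => ε i ≠ 0)) (by simp)]
      rw [h1, h2, Finset.sum_filter_ne_zero, hε.complete]
  refine ⟨ULift.{u} ι', inferInstance, fun j => S ⧸ Ideal.span {1 - ε' j}, inferInstance, ?_,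
    ⟨RingEquiv.ofBijective _ hε'.bijective_pi⟩⟩
  intro j
  have hj0 : ε' j ≠ 0 := j.down.2
  obtain ⟨k, hk⟩ : ∃ k : Fin n, j.down.1 = k.castSucc := by
    refine Fin.lastCases (motive := fun i => ε i ≠ 0 → ∃ k : Fin n, i = k.castSucc) ?_ ?_
      j.down.1 j.down.2
    · intro h; exact absurd hlast h
    · intro k _; exact ⟨k, rfl⟩
  have hne : Ideal.span {1 - ε' j} ≠ ⊤ := by
    intro htop
    rw [Ideal.span_singleton_eq_top] at htop
    have h0 : (1 - ε' j) * ε' j = 0 := by
      have := (hε'.idem j).eq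
      linear_combination -this
    exact hj0 ((htop.mul_right_eq_zero).mp h0)
  have hnontriv : Nontrivial (S ⧸ Ideal.span {1 - ε' j}) := Ideal.Quotient.nontrivial_iff.mpr hne
  apply IsLocalRing.of_unique_max_ideal
  obtain ⟨M, hM⟩ := Ideal.exists_maximal (S ⧸ Ideal.span {1 - ε' j})
  refine ⟨M, hM, fun M' hM' => ?_⟩
  have key : ∀ N : Ideal (S ⧸ Ideal.span {1 - ε' j}), N.IsMaximal →
      (N.comap (Ideal.Quotient.mk (Ideal.span {1 - ε' j}))).IsMaximal ∧
      ε k.castSucc ∉ N.comap (Ideal.Quotient.mk (Ideal.span {1 - ε' j})) := by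
    intro N hN
    have hmaxN := Ideal.comap_isMaximal_of_surjective (Ideal.Quotient.mk (Ideal.span {1 - ε' j}))
      Ideal.Quotient.mk_surjective (K := N)
    refine ⟨hmaxN, fun hmem => ?_⟩
    have h1 : (1 - ε' j) ∈ N.comap (Ideal.Quotient.mk (Ideal.span {1 - ε' j})) := by
      rw [Ideal.mem_comap]
      have : Ideal.Quotient.mk (Ideal.span {1 - ε' j}) (1 - ε' j) = 0 :=
        Ideal.Quotient.eq_zero_iff_mem.mpr (Ideal.mem_span_singleton_self _)
      rw [this]
      exact N.zero_mem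
    have h2 : ε' j = ε k.castSucc := by simp only [ε', hk]
    rw [← h2] at hmem
    have h3 := Ideal.add_mem _ h1 hmem
    rw [sub_add_cancel] at h3
    exact hmaxN.ne_top ((Ideal.eq_top_iff_one _).mpr h3)
  obtain ⟨hM1, hM2⟩ := key M hM
  obtain ⟨hM'1, hM'2⟩ := key M' hM'
  have := huniq k _ _ hM'1 hM1 hM'2 hM2
  exact Ideal.comap_injective_of_surjective _ Ideal.Quotient.mk_surjective this

/-- Finite algebras over henselian local rings are finite products of local rings. -/
theorem exists_pi_isLocalRing_of_finite_of_henselian {R : Type u} [CommRing R]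
    [HenselianLocalRing R] (S : Type u) [CommRing S] [Algebra R S] [Module.Finite R S] :
    ∃ (ι : Type u) (_ : Fintype ι) (A : ι → Type u) (_ : ∀ i, CommRing (A i)),
      (∀ i, IsLocalRing (A i)) ∧ Nonempty (S ≃+* (∀ i, A i)) := by
  obtain ⟨n, ε, hε, hlast, huniq⟩ := exists_idempotents_of_finite_of_henselian (R := R) S
  exact exists_pi_isLocalRing_of_idempotents n ε hε hlast huniq

end Groth.Agent.Lib.Helper4
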