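import Mathlib
import Groth.Agent.Lib.Helper4.HenselEtale
import Groth.Agent.Lib.Helper4.HenselPairZ

/-!
# Splitting off the finite part of a quasi-finite algebra over a henselian local ring
(Stacks 04GG (10)–(13))
-/

set_option autoImplicit false
universe u

namespace Groth.Agent.Lib.Helper4.HenselPair

open Groth.Agent.Lib.Helper4

/-- Over a henselian local ring `R`: given a module-finite subalgebra `S' ⊆ S` and finitely many
`r ∈ S'` such that every element of `S` is carried into `S'` by a power of `r`, there is an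
idempotent `e` with `e S ⊆ S'` which does not vanish at any prime over the closed point at which
some `r` does not vanish. -/
theorem exists_idempotent_split {R : Type u} [CommRing R] [HenselianLocalRing R] {S : Type u}
    [CommRing S] [Algebra R S] (S' : Subalgebra R S) (hS' : S'.toSubmodule.FG) (t : Finset S)
    (ht : ∀ r ∈ t, r ∈ S') (hrx : ∀ r ∈ t, ∀ x : S, ∃ N : ℕ, r ^ N * x ∈ S') :
    ∃ e : S, IsIdempotentElem e ∧ (∀ x : S, e * x ∈ S') ∧
      ∀ (q : Ideal S), q.IsPrime → (IsLocalRing.maximalIdeal R).map (algebraMap R S) ≤ q →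
        (∃ r ∈ t, r ∉ q) → e ∉ q := by
  classical
  have : Module.Finite R S' := ⟨(Submodule.fg_top _).mpr hS'⟩
  obtain ⟨n, ε, hε, hlast, huniq⟩ := exists_idempotents_of_finite_of_henselian (R := R) S'
  let good : Fin (n + 1) → Prop := fun i =>
    ∃ r : S', (r : S) ∈ t ∧ ∃ s : S', ε i * r * s = ε i
  let G : Finset (Fin (n + 1)) := Finset.univ.filter good
  set e' : S' := ∑ i ∈ G, ε i with he'
  have he'idem : IsIdempotentElem e' := hε.toOrthogonalIdempotents.isIdempotentElem_sum
  refine ⟨(e' : S), ?_, ?_, ?_⟩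
  · have := he'idem.eq
    change (e' : S) * (e' : S) = e'
    rw [← Subalgebra.coe_mul, this]
  · intro x
    have h1 : (e' : S) * x = ∑ i ∈ G, (ε i : S) * x := by
      rw [he', AddSubmonoidClass.coe_finsetSum, Finset.sum_mul]
    rw [h1]
    refine Subalgebra.sum_mem _ fun i hi => ?_
    obtain ⟨r, hrt, s, hrs⟩ := (Finset.mem_filter.mp hi).2
    obtain ⟨N, hN⟩ := hrx r hrt x
    have hpow : ∀ k : ℕ, ε i * (r * s) ^ k = ε i := by
      intro k
      induction k with
      | zero => rw [pow_zero, mul_one]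
      | succ k ih => rw [pow_succ, ← mul_assoc, ih, ← mul_assoc, hrs]
    have h2 : (ε i : S) * x = (ε i : S) * (s : S) ^ N * ((r : S) ^ N * x) := by
      have h3 := congrArg (fun y : S' => (y : S)) (hpow N)
      simp only [Subalgebra.coe_mul, Subalgebra.coe_pow] at h3
      calc (ε i : S) * x = ((ε i : S) * ((r : S) * (s : S)) ^ N) * x := by rw [h3]
        _ = _ := by ring
    rw [h2]
    exact S'.mul_mem (S'.mul_mem (ε i).2 (S'.pow_mem s.2 N)) hN
  · rintro q hq hmq ⟨r, hrt, hrq⟩ heq
    set 𝔫 : Ideal S' := q.comap S'.val with h𝔫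
    have h𝔫prime : 𝔫.IsPrime := Ideal.comap_isPrime _ _
    have h𝔫max : 𝔫.IsMaximal := by
      refine Ideal.isMaximal_of_isIntegral_of_isMaximal_comap (R := R) 𝔫 ?_
      have hle : IsLocalRing.maximalIdeal R ≤ 𝔫.comap (algebraMap R S') := by
        intro a ha
        rw [Ideal.mem_comap, h𝔫, Ideal.mem_comap]
        exact hmq (Ideal.mem_map_of_mem _ ha)
      have hne : 𝔫.comap (algebraMap R S') ≠ ⊤ := (Ideal.comap_isPrime _ _).ne_top
      rw [← (IsLocalRing.maximalIdeal.isMaximal R).eq_of_le hne hle]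
      exact IsLocalRing.maximalIdeal.isMaximal R
    have hmem𝔫 : ∀ y : S', y ∈ 𝔫 ↔ (y : S) ∈ q := fun y => Iff.rfl
    -- some `ε i ∉ 𝔫`
    obtain ⟨i, hi⟩ : ∃ i, ε i ∉ 𝔫 := by
      by_contra hall
      push Not at hall
      have : (1 : S') ∈ 𝔫 := by
        rw [← hε.complete]
        exact 𝔫.sum_mem fun i _ => hall i
      exact h𝔫prime.ne_top ((Ideal.eq_top_iff_one 𝔫).mpr this)
    have hilast : i ≠ Fin.last n := by
      rintro rfl
      rw [hlast] at hi
      exact hi 𝔫.zero_mem
    obtain ⟨i₀, rfl⟩ : ∃ i₀ : Fin n, i₀.castSucc = i := ⟨i.castPred hilast, Fin.castSucc_castPred i hilast⟩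
    let r' : S' := ⟨r, ht r hrt⟩
    have hr'𝔫 : r' ∉ 𝔫 := hrq
    have hgood : good i₀.castSucc := by
      refine ⟨r', hrt, ?_⟩
      by_cases htop : Ideal.span ({ε i₀.castSucc * r', 1 - ε i₀.castSucc} : Set S') = ⊤
      · have h1 : (1 : S') ∈ Ideal.span ({ε i₀.castSucc * r', 1 - ε i₀.castSucc} : Set S') := by
          rw [htop]
          exact Submodule.mem_top
        obtain ⟨a, b, hab⟩ := Ideal.mem_span_pair.mp h1
        refine ⟨a, ?_⟩
        have hidem := (hε.idem i₀.castSucc).eq
        linear_combination (ε i₀.castSucc) * hab + (b - a * r') * hidem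
      · exfalso
        obtain ⟨M, hM, hle⟩ := Ideal.exists_le_maximal _ htop
        have h1 : ε i₀.castSucc ∉ M := by
          intro hmem
          have h2 : 1 - ε i₀.castSucc ∈ M := hle (Ideal.subset_span (by simp))
          have : (1 : S') ∈ M := by
            have := M.add_mem hmem h2
            rwa [add_sub_cancel] at this
          exact hM.ne_top ((Ideal.eq_top_iff_one M).mpr this)
        have hMeq : M = 𝔫 := huniq i₀ M 𝔫 hM h𝔫max h1 hi
        have h3 : ε i₀.castSucc * r' ∈ 𝔫 := hMeq ▸ hle (Ideal.subset_span (by simp))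
        rcases h𝔫prime.mem_or_mem h3 with h4 | h4
        · exact hi h4
        · exact hr'𝔫 h4
    have hiG : i₀.castSucc ∈ G := Finset.mem_filter.mpr ⟨Finset.mem_univ _, hgood⟩
    have h5 : ε i₀.castSucc * e' = ε i₀.castSucc :=
      hε.toOrthogonalIdempotents.mul_sum_of_mem hiG
    have h6 : e' ∈ 𝔫 := heq
    have h7 : ε i₀.castSucc ∈ 𝔫 := by
      rw [← h5]
      exact 𝔫.mul_mem_left _ h6
    exact hi h7

/-- **Stacks 04GG (1) ⇒ (11)**: a finite type quasi-finite algebra over a henselian local ring is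
the product of a finite algebra and an algebra with empty closed fibre. -/
theorem exists_idempotent_quasiFinite_split (R : Type u) [CommRing R] [HenselianLocalRing R]
    (S : Type u) [CommRing S] [Algebra R S] [Algebra.FiniteType R S] [Algebra.QuasiFinite R S] :
    ∃ e : S, IsIdempotentElem e ∧ (∃ S' : Subalgebra R S, S'.toSubmodule.FG ∧ ∀ x : S, e * x ∈ S') ∧
      1 - e ∈ (IsLocalRing.maximalIdeal R).map (algebraMap R S) := by
  classical
  set 𝔟 : Ideal S := (IsLocalRing.maximalIdeal R).map (algebraMap R S) with h𝔟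
  obtain ⟨S', hS', t, ht, hspan, hrx⟩ := exists_finite_subalgebra_cover (R := R) 𝔟
  obtain ⟨e, he, hex, hq⟩ := exists_idempotent_split S' hS' t ht hrx
  refine ⟨e, he, ⟨S', hS', hex⟩, ?_⟩
  have hrad : 1 - e ∈ 𝔟.radical := by
    rw [Ideal.radical_eq_sInf, Ideal.mem_sInf]
    rintro q ⟨hle, hqp⟩
    have hex' : ∃ r ∈ t, r ∉ q := by
      by_contra hall
      push Not at hall
      have h1 : Ideal.span (t : Set S) ≤ q := Ideal.span_le.mpr fun r hr => hall r hr
      have h2 : (⊤ : Ideal S) ≤ q := hspan ▸ sup_le h1 hle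
      exact hqp.ne_top (top_le_iff.mp h2)
    have h3 := hq q hqp hle hex'
    have h4 : e * (1 - e) ∈ q := by
      have : e * (1 - e) = 0 := by
        rw [mul_sub, mul_one, he.eq, sub_self]
      rw [this]
      exact q.zero_mem
    exact (hqp.mem_or_mem h4).resolve_left h3
  obtain ⟨N, hN⟩ := hrad
  rcases N with _ | N
  · rw [pow_zero] at hN
    rw [(Ideal.eq_top_iff_one 𝔟).mpr hN]
    exact Submodule.mem_top
  · rwa [he.one_sub.pow_succ_eq] at hN

end Groth.Agent.Lib.Helper4.HenselPair
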