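import Mathlib
import Groth.Agent.Lib.Helper4.HenselPairQ

/-!
# Splitting off the finite part of a finite type algebra over a henselian local ring
(Stacks 04GG (12))
-/

set_option autoImplicit false
universe u v

namespace Groth.Agent.Lib.Helper4.HenselPair

open Groth.Agent.Lib.Helper4

/-- `z : S` is *nice* if some module-finite `R`-subalgebra of `S` contains `z` and absorbs every
element of `S` after multiplication by a power of `z`. -/
def Nice (R : Type u) {S : Type v} [CommRing R] [CommRing S] [Algebra R S] (z : S) : Prop :=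
  ∃ S' : Subalgebra R S, S'.toSubmodule.FG ∧ z ∈ S' ∧ ∀ x : S, ∃ N : ℕ, z ^ N * x ∈ S'

/-- Zariski's main theorem: at a quasi-finite prime there is a nice element outside the prime. -/
theorem exists_nice_notMem {R : Type u} {S : Type v} [CommRing R] [CommRing S] [Algebra R S]
    [Algebra.FiniteType R S] (q : Ideal S) [q.IsPrime] [Algebra.QuasiFiniteAt R q] :
    ∃ z : S, Nice R z ∧ z ∉ q := by
  obtain ⟨S', hS', r, hrq, hbij⟩ :=
    Algebra.QuasiFiniteAt.exists_fg_and_exists_notMem_and_awayMap_bijective (R := R) q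
  refine ⟨r.1, ⟨S', hS', r.2, fun x => ?_⟩, hrq⟩
  obtain ⟨y, m, hy⟩ := Localization.awayMap_surjective_iff.mp hbij.2 x
  exact ⟨m, by
    have : (y : S) = (r : S) ^ m * x := hy
    rw [← this]
    exact y.2⟩

/-- Finitely many nice elements share a module-finite subalgebra. -/
theorem exists_subalgebra_of_nice {R : Type u} {S : Type v} [CommRing R] [CommRing S]
    [Algebra R S] (t : Finset S) (h : ∀ z ∈ t, Nice R z) :
    ∃ S' : Subalgebra R S, S'.toSubmodule.FG ∧ (∀ r ∈ t, r ∈ S') ∧
      ∀ r ∈ t, ∀ x : S, ∃ N : ℕ, r ^ N * x ∈ S' := by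
  classical
  induction t using Finset.induction_on with
  | empty =>
    refine ⟨⊥, ?_, by simp, by simp⟩
    have : Module.Finite R (⊥ : Subalgebra R S) := inferInstance
    exact (Submodule.fg_top _).mp this.1
  | insert z t hz ih =>
    obtain ⟨S₁, hS₁, h1, h2⟩ := ih fun w hw => h w (Finset.mem_insert_of_mem hw)
    obtain ⟨S₂, hS₂, hzS₂, h3⟩ := h z (Finset.mem_insert_self z t)
    have hf1 : Module.Finite R S₁ := ⟨(Submodule.fg_top _).mpr hS₁⟩
    have hf2 : Module.Finite R S₂ := ⟨(Submodule.fg_top _).mpr hS₂⟩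
    have hf : Module.Finite R ↥(S₁ ⊔ S₂) := Subalgebra.finite_sup S₁ S₂
    refine ⟨S₁ ⊔ S₂, (Submodule.fg_top _).mp hf.1, ?_, ?_⟩
    · intro r hr
      rcases Finset.mem_insert.mp hr with rfl | hr
      · exact (le_sup_right : S₂ ≤ S₁ ⊔ S₂) hzS₂
      · exact (le_sup_left : S₁ ≤ S₁ ⊔ S₂) (h1 r hr)
    · intro r hr x
      rcases Finset.mem_insert.mp hr with rfl | hr
      · obtain ⟨N, hN⟩ := h3 x
        exact ⟨N, (le_sup_right : S₂ ≤ S₁ ⊔ S₂) hN⟩
      · obtain ⟨N, hN⟩ := h2 r hr x
        exact ⟨N, (le_sup_left : S₁ ≤ S₁ ⊔ S₂) hN⟩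

/-- If `S ⧸ 𝔟` is noetherian, then the non-vanishing on `V(𝔟)` of an arbitrary set `T` of elements
is already detected by a finite subset of `T`. -/
theorem exists_finset_notMem {S : Type v} [CommRing S] (𝔟 : Ideal S) [IsNoetherianRing (S ⧸ 𝔟)]
    (T : Set S) :
    ∃ t : Finset S, (t : Set S) ⊆ T ∧ ∀ q : Ideal S, q.IsPrime → 𝔟 ≤ q → (∃ z ∈ T, z ∉ q) →
      ∃ r ∈ t, r ∉ q := by
  classical
  have hfg : (Ideal.span (Ideal.Quotient.mk 𝔟 '' T)).FG := IsNoetherian.noetherian _
  obtain ⟨t', ht'sub, ht'eq⟩ := (Submodule.fg_span_iff_fg_span_finset_subset _).mp hfg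
  obtain ⟨t, htsub, rfl⟩ := Finset.subset_set_image_iff.mp ht'sub
  refine ⟨t, htsub, fun q hq hle ⟨z, hzT, hzq⟩ => ?_⟩
  by_contra hall
  push Not at hall
  have h1 : Ideal.span ((t.image (Ideal.Quotient.mk 𝔟) : Finset (S ⧸ 𝔟)) : Set (S ⧸ 𝔟)) ≤
      q.map (Ideal.Quotient.mk 𝔟) := by
    rw [Ideal.span_le]
    intro y hy
    obtain ⟨r, hr, rfl⟩ := Finset.mem_image.mp (Finset.mem_coe.mp hy)
    exact Ideal.mem_map_of_mem _ (hall r hr)
  have h2 : Ideal.Quotient.mk 𝔟 z ∈ q.map (Ideal.Quotient.mk 𝔟) := by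
    refine h1 ?_
    change _ ∈ Submodule.span _ _
    rw [← ht'eq]
    exact Submodule.subset_span ⟨z, hzT, rfl⟩
  have h3 : z ∈ (q.map (Ideal.Quotient.mk 𝔟)).comap (Ideal.Quotient.mk 𝔟) := h2
  rw [Ideal.comap_map_of_surjective _ Ideal.Quotient.mk_surjective, ← RingHom.ker_eq_comap_bot,
    Ideal.mk_ker, sup_eq_left.mpr hle] at h3
  exact hzq h3

/-- Quasi-finiteness at a prime of the direct factor `S ⧸ (e)` implies quasi-finiteness at the
corresponding prime of `S`. -/
theorem quasiFiniteAt_comap_of_idempotent {R : Type u} {S : Type v} [CommRing R] [CommRing S]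
    [Algebra R S] (e : S) (he : IsIdempotentElem e)
    (q' : Ideal (S ⧸ Ideal.span ({e} : Set S))) [q'.IsPrime] (h : Algebra.QuasiFiniteAt R q') :
    Algebra.QuasiFiniteAt R (q'.comap (Ideal.Quotient.mk (Ideal.span ({e} : Set S)))) := by
  set q := q'.comap (Ideal.Quotient.mk (Ideal.span ({e} : Set S))) with hq
  have heq : e ∈ q := by
    rw [hq, Ideal.mem_comap]
    have : Ideal.Quotient.mk (Ideal.span ({e} : Set S)) e = 0 :=
      Ideal.Quotient.eq_zero_iff_mem.mpr (Ideal.mem_span_singleton_self e)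
    rw [this]
    exact q'.zero_mem
  have h1e : 1 - e ∉ q := by
    intro hmem
    have : (1 : S) ∈ q := by
      have := q.add_mem heq hmem
      rwa [add_sub_cancel] at this
    exact (Ideal.IsPrime.ne_top inferInstance) ((Ideal.eq_top_iff_one q).mpr this)
  have he0 : algebraMap S (Localization.AtPrime q) e = 0 := by
    have hu : IsUnit (algebraMap S (Localization.AtPrime q) (1 - e)) :=
      IsLocalization.map_units (M := q.primeCompl) _ ⟨1 - e, h1e⟩
    have h0 : algebraMap S (Localization.AtPrime q) (1 - e) *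
        algebraMap S (Localization.AtPrime q) e = 0 := by
      rw [← map_mul, sub_mul, one_mul, he.eq, sub_self, map_zero]
    exact hu.mul_right_eq_zero.mp h0
  let g : S ⧸ Ideal.span ({e} : Set S) →ₐ[R] Localization.AtPrime q :=
    Ideal.Quotient.liftₐ _ (IsScalarTower.toAlgHom R S (Localization.AtPrime q)) (by
      intro a ha
      obtain ⟨c, rfl⟩ := Ideal.mem_span_singleton'.mp ha
      change algebraMap S (Localization.AtPrime q) (c * e) = 0
      rw [map_mul, he0, mul_zero])
  have hg : ∀ s : S, g (Ideal.Quotient.mk (Ideal.span ({e} : Set S)) s) =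
      algebraMap S (Localization.AtPrime q) s := fun s => rfl
  let f : Localization.AtPrime q' →ₐ[R] Localization.AtPrime q :=
    IsLocalization.liftAlgHom (M := q'.primeCompl) (f := g) (by
      rintro ⟨y, hy⟩
      obtain ⟨s, rfl⟩ := Ideal.Quotient.mk_surjective y
      change IsUnit (g (Ideal.Quotient.mk (Ideal.span ({e} : Set S)) s))
      rw [hg]
      exact IsLocalization.map_units (M := q.primeCompl) _ ⟨s, hy⟩)
  have hf : ∀ y : S ⧸ Ideal.span ({e} : Set S),
      f (algebraMap _ (Localization.AtPrime q') y) = g y := by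
    intro y
    change IsLocalization.lift _ (algebraMap _ _ y) = g y
    rw [IsLocalization.lift_eq]
    rfl
  refine Algebra.QuasiFinite.of_forall_exists_mul_mem_range f fun x => ?_
  obtain ⟨a, s, rfl⟩ := IsLocalization.exists_mk'_eq q.primeCompl x
  refine ⟨algebraMap _ _ (Ideal.Quotient.mk (Ideal.span ({e} : Set S)) (s : S)), ?_, ?_⟩
  · rw [hf, hg]
    exact IsLocalization.map_units (M := q.primeCompl) _ s
  · refine ⟨algebraMap _ _ (Ideal.Quotient.mk (Ideal.span ({e} : Set S)) a), ?_⟩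
    change f _ = _
    rw [hf, hf, hg, hg, IsLocalization.mk'_spec]

/-- **Stacks 04GG (1) ⇒ (12)**: a finite type algebra over a henselian local ring splits off a
finite part containing all the points of the closed fibre at which the algebra is quasi-finite. -/
theorem exists_idempotent_finiteType_split (R : Type u) [CommRing R] [HenselianLocalRing R]
    (S : Type u) [CommRing S] [Algebra R S] [Algebra.FiniteType R S] :
    ∃ e : S, IsIdempotentElem e ∧ (∃ S' : Subalgebra R S, S'.toSubmodule.FG ∧ ∀ x : S, e * x ∈ S') ∧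
      ∀ (q : Ideal S) [q.IsPrime], (IsLocalRing.maximalIdeal R).map (algebraMap R S) ≤ q →
        Algebra.QuasiFiniteAt R q → e ∉ q := by
  classical
  set 𝔟 : Ideal S := (IsLocalRing.maximalIdeal R).map (algebraMap R S) with h𝔟
  have hft : Algebra.FiniteType (R ⧸ IsLocalRing.maximalIdeal R) (S ⧸ 𝔟) :=
    Algebra.FiniteType.of_restrictScalars_finiteType R _ _
  let _ : Field (R ⧸ IsLocalRing.maximalIdeal R) := Ideal.Quotient.field _
  have hnoeth : IsNoetherianRing (S ⧸ 𝔟) :=
    Algebra.FiniteType.isNoetherianRing (R ⧸ IsLocalRing.maximalIdeal R) _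
  obtain ⟨t, htT, ht⟩ := exists_finset_notMem 𝔟 {z : S | Nice R z}
  obtain ⟨S', hS', htS', hrx⟩ := exists_subalgebra_of_nice (R := R) t fun z hz => htT hz
  obtain ⟨e, he, hex, hq⟩ := exists_idempotent_split S' hS' t htS' hrx
  refine ⟨e, he, ⟨S', hS', hex⟩, fun q hqp hle hqf => ?_⟩
  obtain ⟨z, hz, hzq⟩ := exists_nice_notMem (R := R) q
  exact hq q hqp hle (ht q hqp hle ⟨z, hz, hzq⟩)

end Groth.Agent.Lib.Helper4.HenselPair
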