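import Mathlib
import Groth.Prelude.Def_Hensel
import Groth.Agent.Lib.Helper4.HznProps

/-!
# The henselization of `S_q` is the henselization of `(R^h ⊗_R S)_Q`
-/

set_option autoImplicit false
set_option linter.unusedSectionVars false
universe u

namespace Groth.Agent.Lib.Helper4.Hzn

open IsLocalRing TensorProduct

/-- Abstract transfer of the henselization property along a factorization `B → D → Bh`. -/
theorem isHenselization_of_factor {B Bh D : Type u} [CommRing B] [IsLocalRing B] [CommRing Bh]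
    [IsLocalRing Bh] [Algebra B Bh] [IsLocalHom (algebraMap B Bh)] [hB : Hensel.IsHenselization B Bh]
    [CommRing D] [IsLocalRing D] [Algebra D Bh] [IsLocalHom (algebraMap D Bh)]
    (ι : B →+* D) (hι : (algebraMap D Bh).comp ι = algebraMap B Bh)
    (hdet : ∀ (T : Type u) [CommRing T] [HenselianLocalRing T] (f : D →+* T) (g : Bh →+* T),
      IsLocalHom f → g.comp (algebraMap B Bh) = f.comp ι → g.comp (algebraMap D Bh) = f) :
    Hensel.IsHenselization D Bh := by
  have hιloc : IsLocalHom ι := by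
    have h1 : IsLocalHom ((algebraMap D Bh).comp ι) := by rw [hι]; infer_instance
    exact isLocalHom_of_comp ι (algebraMap D Bh)
  refine ⟨hB.henselian, ?_⟩
  intro T _ _ f hf
  have hfι : IsLocalHom (f.comp ι) := RingHom.isLocalHom_comp f ι
  obtain ⟨g, hg, hguniq⟩ := hB.universal T (f.comp ι) hfι
  refine ⟨g, hdet T f g hf hg, ?_⟩
  intro g' hg'
  apply hguniq
  rw [← hι, ← RingHom.comp_assoc, hg']

section Concrete

variable (R : Type u) [CommRing R] (S : Type u) [CommRing S] [Algebra R S]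
  (p : Ideal R) [p.IsPrime] (q : Ideal S) [q.IsPrime] [q.LiesOver p]
  (Rh : Type u) [CommRing Rh] [IsLocalRing Rh] [Algebra (Localization.AtPrime p) Rh]
  [IsLocalHom (algebraMap (Localization.AtPrime p) Rh)]
  [Algebra R Rh] [IsScalarTower R (Localization.AtPrime p) Rh]
  (Sh : Type u) [CommRing Sh] [IsLocalRing Sh] [Algebra (Localization.AtPrime q) Sh]
  [IsLocalHom (algebraMap (Localization.AtPrime q) Sh)]
  [Algebra S Sh] [IsScalarTower S (Localization.AtPrime q) Sh] [Algebra R Sh] [IsScalarTower R S Sh]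
  [Algebra Rh Sh] [IsScalarTower R Rh Sh]

/-- The canonical map `R^h ⊗_R S → S^h`. -/
noncomputable abbrev tφ : Rh ⊗[R] S →ₐ[R] Sh :=
  Algebra.TensorProduct.lift (IsScalarTower.toAlgHom R Rh Sh) (IsScalarTower.toAlgHom R S Sh)
    (fun _ _ => Commute.all _ _)

/-- The prime `Q`. -/
noncomputable abbrev tQ : Ideal (Rh ⊗[R] S) := Ideal.comap (tφ R S Rh Sh) (maximalIdeal Sh)

omit [q.LiesOver p] in
theorem isUnit_algebraMap_S_iff (s : S) : IsUnit (algebraMap S Sh s) ↔ s ∉ q := by
  rw [IsScalarTower.algebraMap_apply S (Localization.AtPrime q) Sh]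
  constructor
  · intro h
    have h1 : IsUnit (algebraMap S (Localization.AtPrime q) s) :=
      IsUnit.of_map (algebraMap (Localization.AtPrime q) Sh) _ h
    exact (IsLocalization.AtPrime.isUnit_to_map_iff (Localization.AtPrime q) q s).mp h1
  · intro h
    exact ((IsLocalization.AtPrime.isUnit_to_map_iff (Localization.AtPrime q) q s).mpr h).map _

include S q in
theorem isUnit_algebraMap_R_iff (r : R) : IsUnit (algebraMap R Sh r) ↔ r ∉ p := by
  rw [IsScalarTower.algebraMap_apply R S Sh, isUnit_algebraMap_S_iff (S := S) (q := q) (Sh := Sh),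
    Ideal.LiesOver.over (p := p) (P := q)]
  rfl

theorem tφ_unit (y : (tQ R S Rh Sh).primeCompl) : IsUnit ((tφ R S Rh Sh : Rh ⊗[R] S →+* Sh) y) := by
  have := y.2
  exact IsLocalRing.notMem_maximalIdeal.mp this

/-- the map `(R^h ⊗_R S)_Q → S^h` -/
noncomputable def tψ : Localization.AtPrime (tQ R S Rh Sh) →+* Sh :=
  IsLocalization.lift (M := (tQ R S Rh Sh).primeCompl) (g := (tφ R S Rh Sh : Rh ⊗[R] S →+* Sh))
    (tφ_unit R S Rh Sh)

theorem tψ_algebraMap (d : Rh ⊗[R] S) :
    tψ R S Rh Sh (algebraMap _ _ d) = tφ R S Rh Sh d :=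
  IsLocalization.lift_eq _ d

theorem isLocalHom_tψ : IsLocalHom (tψ R S Rh Sh) := by
  refine ⟨fun x hx => ?_⟩
  obtain ⟨a, s, rfl⟩ := IsLocalization.exists_mk'_eq (tQ R S Rh Sh).primeCompl x
  have h1 : tψ R S Rh Sh (IsLocalization.mk' _ a s) * tφ R S Rh Sh s = tφ R S Rh Sh a := by
    rw [← tψ_algebraMap, ← tψ_algebraMap, ← map_mul, IsLocalization.mk'_spec]
  have h2 : IsUnit (tφ R S Rh Sh a) := by
    rw [← h1]; exact hx.mul (tφ_unit R S Rh Sh s)
  rw [IsLocalization.AtPrime.isUnit_mk'_iff]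
  intro ha
  exact (IsLocalRing.mem_maximalIdeal _).mp ha h2


/-- `s ↦ (1 ⊗ s)/1` sends `S ∖ q` to units. -/
theorem tι_unit (y : q.primeCompl) :
    IsUnit (((algebraMap (Rh ⊗[R] S) (Localization.AtPrime (tQ R S Rh Sh))).comp
      (Algebra.TensorProduct.includeRight : S →ₐ[R] Rh ⊗[R] S).toRingHom) y) := by
  apply IsLocalization.map_units (M := (tQ R S Rh Sh).primeCompl) _ ⟨_, _⟩
  change (1 : Rh) ⊗ₜ[R] (y : S) ∈ (tQ R S Rh Sh).primeCompl
  intro h
  have h1 : tφ R S Rh Sh ((1 : Rh) ⊗ₜ[R] (y : S)) ∈ maximalIdeal Sh := h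
  rw [Algebra.TensorProduct.lift_tmul, map_one, one_mul] at h1
  have h2 : IsUnit (algebraMap S Sh y) :=
    (isUnit_algebraMap_S_iff (S := S) (q := q) (Sh := Sh) y).mpr y.2
  exact (IsLocalRing.mem_maximalIdeal _).mp h1 h2

/-- the map `S_q → (R^h ⊗_R S)_Q` -/
noncomputable def tι : Localization.AtPrime q →+* Localization.AtPrime (tQ R S Rh Sh) :=
  IsLocalization.lift (M := q.primeCompl)
    (g := (algebraMap (Rh ⊗[R] S) (Localization.AtPrime (tQ R S Rh Sh))).comp
      (Algebra.TensorProduct.includeRight : S →ₐ[R] Rh ⊗[R] S).toRingHom)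
    (tι_unit R S q Rh Sh)

theorem tι_algebraMap (s : S) :
    tι R S q Rh Sh (algebraMap S _ s) = algebraMap _ _ ((1 : Rh) ⊗ₜ[R] s) :=
  IsLocalization.lift_eq _ s

theorem tψ_comp_tι : (tψ R S Rh Sh).comp (tι R S q Rh Sh) = algebraMap (Localization.AtPrime q) Sh := by
  apply IsLocalization.ringHom_ext q.primeCompl
  ext s
  simp only [RingHom.comp_apply]
  rw [tι_algebraMap, tψ_algebraMap, Algebra.TensorProduct.lift_tmul, map_one, one_mul,
    ← IsScalarTower.algebraMap_apply S (Localization.AtPrime q) Sh]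
  rfl

variable [hRh : Hensel.IsHenselization (Localization.AtPrime p) Rh]

include p hRh in
theorem t_hdet (T : Type u) [CommRing T] [HenselianLocalRing T]
    (f : Localization.AtPrime (tQ R S Rh Sh) →+* T) (g : Sh →+* T) (hf : IsLocalHom f)
    (hg : g.comp (algebraMap (Localization.AtPrime q) Sh) = f.comp (tι R S q Rh Sh)) :
    g.comp (tψ R S Rh Sh) = f := by
  -- agreement on `1 ⊗ s`
  have hS : ∀ s : S, g (algebraMap S Sh s) = f (algebraMap _ _ ((1 : Rh) ⊗ₜ[R] s)) := by
    intro s
    have := congrArg (fun m => m (algebraMap S (Localization.AtPrime q) s)) hg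
    simp only [RingHom.comp_apply] at this
    rw [tι_algebraMap, ← IsScalarTower.algebraMap_apply S (Localization.AtPrime q) Sh] at this
    exact this
  -- agreement on `a ⊗ 1`
  let a₁ : Rh →+* T := g.comp (algebraMap Rh Sh)
  let a₂ : Rh →+* T := (f.comp (algebraMap (Rh ⊗[R] S) (Localization.AtPrime (tQ R S Rh Sh)))).comp
    (Algebra.TensorProduct.includeLeft : Rh →ₐ[R] Rh ⊗[R] S).toRingHom
  have hR : ∀ r : R, a₁ (algebraMap R Rh r) = a₂ (algebraMap R Rh r) := by
    intro r
    change g (algebraMap Rh Sh (algebraMap R Rh r)) =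
      f (algebraMap _ _ ((algebraMap R Rh r) ⊗ₜ[R] (1 : S)))
    rw [← IsScalarTower.algebraMap_apply R Rh Sh, IsScalarTower.algebraMap_apply R S Sh, hS]
    congr 2
    rw [Algebra.algebraMap_eq_smul_one, Algebra.algebraMap_eq_smul_one, TensorProduct.smul_tmul]
  have h12 : a₁.comp (algebraMap (Localization.AtPrime p) Rh) =
      a₂.comp (algebraMap (Localization.AtPrime p) Rh) := by
    apply IsLocalization.ringHom_ext p.primeCompl
    ext r
    simp only [RingHom.comp_apply]
    rw [← IsScalarTower.algebraMap_apply R (Localization.AtPrime p) Rh]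
    exact hR r
  have hloc : IsLocalHom (a₂.comp (algebraMap (Localization.AtPrime p) Rh)) := by
    refine ⟨fun x hx => ?_⟩
    obtain ⟨r, s, rfl⟩ := IsLocalization.exists_mk'_eq p.primeCompl x
    rw [IsLocalization.AtPrime.isUnit_mk'_iff]
    -- `f` local
    have h1 : IsUnit (algebraMap (Rh ⊗[R] S) (Localization.AtPrime (tQ R S Rh Sh))
        ((algebraMap (Localization.AtPrime p) Rh (IsLocalization.mk' _ r s)) ⊗ₜ[R] (1 : S))) :=
      hf.map_nonunit _ hx
    have h2 := h1.map (tψ R S Rh Sh)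
    rw [tψ_algebraMap, Algebra.TensorProduct.lift_tmul, map_one, mul_one] at h2
    have h3 : algebraMap Rh Sh (algebraMap (Localization.AtPrime p) Rh (IsLocalization.mk' _ r s)) *
        algebraMap R Sh s = algebraMap R Sh r := by
      rw [IsScalarTower.algebraMap_apply R Rh Sh, IsScalarTower.algebraMap_apply R Rh Sh,
        IsScalarTower.algebraMap_apply R (Localization.AtPrime p) Rh,
        IsScalarTower.algebraMap_apply R (Localization.AtPrime p) Rh, ← map_mul, ← map_mul,
        IsLocalization.mk'_spec]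
    have h4 : IsUnit (algebraMap R Sh r) := by
      rw [← h3]
      exact IsUnit.mul h2 ((isUnit_algebraMap_R_iff R S p q Sh s).mpr s.2)
    exact (isUnit_algebraMap_R_iff R S p q Sh r).mp h4
  have ha : a₁ = a₂ :=
    (hRh.universal T (a₂.comp (algebraMap (Localization.AtPrime p) Rh)) hloc).unique h12 rfl
  -- conclude
  apply IsLocalization.ringHom_ext (tQ R S Rh Sh).primeCompl
  refine RingHom.ext fun d => ?_
  simp only [RingHom.comp_apply]
  rw [tψ_algebraMap]
  induction d using TensorProduct.induction_on with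
  | zero => simp
  | tmul a s =>
    have h1 : a ⊗ₜ[R] s = (a ⊗ₜ[R] (1 : S)) * ((1 : Rh) ⊗ₜ[R] s) := by
      rw [Algebra.TensorProduct.tmul_mul_tmul, mul_one, one_mul]
    rw [h1, map_mul, map_mul, map_mul, map_mul]
    congr 1
    · rw [Algebra.TensorProduct.lift_tmul, map_one, mul_one]
      exact congrArg (fun m => m a) ha
    · rw [Algebra.TensorProduct.lift_tmul, map_one, one_mul]
      exact hS s
  | add x y hx hy => rw [map_add, map_add, map_add, map_add, hx, hy]

variable [hSh : Hensel.IsHenselization (Localization.AtPrime q) Sh]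

include p q hRh hSh in
/-- `S^h` is a henselization of `(R^h ⊗_R S)_Q`. -/
theorem isHenselization_tensor_atPrime :
    @Hensel.IsHenselization (Localization.AtPrime (tQ R S Rh Sh)) Sh _ _ _ _
      (tψ R S Rh Sh).toAlgebra (isLocalHom_tψ R S Rh Sh) := by
  let _ : Algebra (Localization.AtPrime (tQ R S Rh Sh)) Sh := (tψ R S Rh Sh).toAlgebra
  have : IsLocalHom (algebraMap (Localization.AtPrime (tQ R S Rh Sh)) Sh) := isLocalHom_tψ R S Rh Sh
  exact isHenselization_of_factor (tι R S q Rh Sh) (tψ_comp_tι R S q Rh Sh)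
    (fun T _ _ f g hf hg => t_hdet R S p q Rh Sh T f g hf hg)

include p q hRh hSh in
/-- Final form. -/
theorem exists_ringEquiv_tensor_atPrime
    (E : Type u) [CommRing E] [IsLocalRing E]
    [Algebra (Localization.AtPrime (tQ R S Rh Sh)) E]
    [IsLocalHom (algebraMap (Localization.AtPrime (tQ R S Rh Sh)) E)]
    [Hensel.IsHenselization (Localization.AtPrime (tQ R S Rh Sh)) E] :
    ∃ e : E ≃+* Sh, ∀ d : Rh ⊗[R] S,
      e (algebraMap (Localization.AtPrime (tQ R S Rh Sh)) E (algebraMap (Rh ⊗[R] S) _ d)) =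
        tφ R S Rh Sh d := by
  let _ : Algebra (Localization.AtPrime (tQ R S Rh Sh)) Sh := (tψ R S Rh Sh).toAlgebra
  have : IsLocalHom (algebraMap (Localization.AtPrime (tQ R S Rh Sh)) Sh) := isLocalHom_tψ R S Rh Sh
  have : Hensel.IsHenselization (Localization.AtPrime (tQ R S Rh Sh)) Sh :=
    isHenselization_tensor_atPrime R S p q Rh Sh
  obtain ⟨e⟩ := nonempty_algEquiv (Localization.AtPrime (tQ R S Rh Sh)) E Sh
  refine ⟨e.toRingEquiv, fun d => ?_⟩
  change e (algebraMap _ E _) = _
  rw [e.commutes]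
  exact tψ_algebraMap R S Rh Sh d

end Concrete

end Groth.Agent.Lib.Helper4.Hzn
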