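import Mathlib
import Groth.Prelude.Def_Hensel
import Groth.Agent.Lib.Helper4.HznTensor
import Groth.Agent.Lib.Helper4.HzsProps

/-!
# The strict henselization of `S_q` is the strict henselization of `(R^sh ⊗_R S)_Q`
-/

set_option autoImplicit false
set_option linter.unusedSectionVars false
universe u

namespace Groth.Agent.Lib.Helper4.Hzs

open IsLocalRing TensorProduct Groth.Agent.Lib.Helper4.Hzn

/-- Abstract transfer of the strict henselization property along a factorization `B → D → Bh`. -/
theorem isStrictHenselization_of_factor {B Bh D : Type u} [CommRing B] [IsLocalRing B] [CommRing Bh]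
    [IsLocalRing Bh] [Algebra B Bh] [IsLocalHom (algebraMap B Bh)]
    [hB : Hensel.IsStrictHenselization B Bh]
    [CommRing D] [IsLocalRing D] [Algebra D Bh] [IsLocalHom (algebraMap D Bh)]
    (ι : B →+* D) (hι : (algebraMap D Bh).comp ι = algebraMap B Bh)
    (hdet : ∀ (T : Type u) [CommRing T] [HenselianLocalRing T] (f : D →+* T) [IsLocalHom f]
      (τ : ResidueField Bh →+* ResidueField T) (g : Bh →+* T),
      τ.comp (ResidueField.map (algebraMap D Bh)) = ResidueField.map f →
      g.comp (algebraMap B Bh) = f.comp ι →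
      (∀ x : Bh, residue T (g x) = τ (residue Bh x)) → g.comp (algebraMap D Bh) = f) :
    Hensel.IsStrictHenselization D Bh := by
  have hιloc : IsLocalHom ι := by
    have h1 : IsLocalHom ((algebraMap D Bh).comp ι) := by rw [hι]; infer_instance
    exact isLocalHom_of_comp ι (algebraMap D Bh)
  have hmap : ResidueField.map (algebraMap B Bh) =
      (ResidueField.map (algebraMap D Bh)).comp (ResidueField.map ι) := by
    rw [← ResidueField.map_comp]
    congr 1
    exact hι.symm
  refine ⟨hB.henselian, ?_, ?_⟩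
  · -- separable closure
    have hc : IsSepClosure (ResidueField B) (ResidueField Bh) := hB.isSepClosure
    let _ : Algebra B D := ι.toAlgebra
    have : IsLocalHom (algebraMap B D) := hιloc
    have : IsScalarTower B D Bh := IsScalarTower.of_algebraMap_eq' hι.symm
    have hsep : Algebra.IsSeparable (ResidueField B) (ResidueField Bh) := hc.separable
    exact ⟨hc.sep_closed,
      Algebra.isSeparable_tower_top_of_isSeparable (ResidueField B) (ResidueField D)
        (ResidueField Bh)⟩
  · intro T _ _ f _ τ hτ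
    have hfι : IsLocalHom (f.comp ι) := RingHom.isLocalHom_comp f ι
    have hτ' : τ.comp (ResidueField.map (algebraMap B Bh)) = ResidueField.map (f.comp ι) := by
      rw [hmap, ← RingHom.comp_assoc, hτ, ResidueField.map_comp]
    obtain ⟨g, ⟨hg1, hg2⟩, hguniq⟩ := hB.universal T (f.comp ι) τ hτ'
    refine ⟨g, ⟨hdet T f τ g hτ hg1 hg2, hg2⟩, ?_⟩
    rintro g' ⟨hg'1, hg'2⟩
    apply hguniq
    refine ⟨?_, hg'2⟩
    rw [← hι, ← RingHom.comp_assoc, hg'1]

section Concrete

variable (R : Type u) [CommRing R] (S : Type u) [CommRing S] [Algebra R S]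
  (p : Ideal R) [p.IsPrime] (q : Ideal S) [q.IsPrime] [q.LiesOver p]
  (Rh : Type u) [CommRing Rh] [IsLocalRing Rh] [Algebra (Localization.AtPrime p) Rh]
  [IsLocalHom (algebraMap (Localization.AtPrime p) Rh)]
  [Algebra R Rh] [IsScalarTower R (Localization.AtPrime p) Rh]
  (Sh : Type u) [CommRing Sh] [IsLocalRing Sh] [Algebra (Localization.AtPrime q) Sh]
  [IsLocalHom (algebraMap (Localization.AtPrime q) Sh)]
  [Algebra S Sh] [IsScalarTower S (Localization.AtPrime q) Sh] [Algebra R Sh] [IsScalarTower R S Sh]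
  [Algebra Rh Sh] [IsScalarTower R Rh Sh]

include S q in
/-- The composite `R_p → R^h → S^h` is local. -/
theorem isLocalHom_comp_Rp :
    IsLocalHom ((algebraMap Rh Sh).comp (algebraMap (Localization.AtPrime p) Rh)) := by
  refine ⟨fun x hx => ?_⟩
  obtain ⟨r, s, rfl⟩ := IsLocalization.exists_mk'_eq p.primeCompl x
  rw [IsLocalization.AtPrime.isUnit_mk'_iff]
  have h3 : algebraMap Rh Sh (algebraMap (Localization.AtPrime p) Rh (IsLocalization.mk' _ r s)) *
      algebraMap R Sh s = algebraMap R Sh r := by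
    rw [IsScalarTower.algebraMap_apply R Rh Sh, IsScalarTower.algebraMap_apply R Rh Sh,
      IsScalarTower.algebraMap_apply R (Localization.AtPrime p) Rh,
      IsScalarTower.algebraMap_apply R (Localization.AtPrime p) Rh, ← map_mul, ← map_mul,
      IsLocalization.mk'_spec]
  have h4 : IsUnit (algebraMap R Sh r) := by
    rw [← h3]
    exact IsUnit.mul hx ((isUnit_algebraMap_R_iff R S p q Sh s).mpr s.2)
  exact (isUnit_algebraMap_R_iff R S p q Sh r).mp h4

variable [hRh : Hensel.IsStrictHenselization (Localization.AtPrime p) Rh]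

include S p q hRh in
/-- `R^sh → S^sh` is local. -/
theorem isLocalHom_Rh_Sh : IsLocalHom (algebraMap Rh Sh) := by
  apply ((local_hom_TFAE (algebraMap Rh Sh)).out 0 2).mpr
  rw [← map_maximalIdeal_of_isStrictHenselization (Localization.AtPrime p) Rh, Ideal.map_map,
    Ideal.map_le_iff_le_comap]
  intro x hx
  rw [Ideal.mem_comap, IsLocalRing.mem_maximalIdeal, mem_nonunits_iff]
  intro h
  have := isLocalHom_comp_Rp R S p q Rh Sh
  exact (IsLocalRing.mem_maximalIdeal _).mp hx (this.map_nonunit x h)

include p hRh in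
theorem ts_hdet (T : Type u) [CommRing T] [HenselianLocalRing T]
    (f : Localization.AtPrime (tQ R S Rh Sh) →+* T) [hf : IsLocalHom f]
    (τ : ResidueField Sh →+* ResidueField T) (g : Sh →+* T)
    (hτ : τ.comp (@ResidueField.map _ _ _ _ _ _ (tψ R S Rh Sh) (isLocalHom_tψ R S Rh Sh)) =
      ResidueField.map f)
    (hg : g.comp (algebraMap (Localization.AtPrime q) Sh) = f.comp (tι R S q Rh Sh))
    (hgτ : ∀ x : Sh, residue T (g x) = τ (residue Sh x)) :
    g.comp (tψ R S Rh Sh) = f := by
  have hψloc := isLocalHom_tψ R S Rh Sh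
  -- agreement on `1 ⊗ s`
  have hS : ∀ s : S, g (algebraMap S Sh s) = f (algebraMap _ _ ((1 : Rh) ⊗ₜ[R] s)) := by
    intro s
    have := congrArg (fun m => m (algebraMap S (Localization.AtPrime q) s)) hg
    simp only [RingHom.comp_apply] at this
    rw [tι_algebraMap, ← IsScalarTower.algebraMap_apply S (Localization.AtPrime q) Sh] at this
    exact this
  -- agreement on `a ⊗ 1`
  let a₁ : Rh →+* T := g.comp (algebraMap Rh Sh)
  let a₂ : Rh →+* T := (f.comp (algebraMap (Rh ⊗[R] S) (Localization.AtPrime (tQ R S Rh Sh)))).comp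
    (Algebra.TensorProduct.includeLeft : Rh →ₐ[R] Rh ⊗[R] S).toRingHom
  have hR : ∀ r : R, a₁ (algebraMap R Rh r) = a₂ (algebraMap R Rh r) := by
    intro r
    change g (algebraMap Rh Sh (algebraMap R Rh r)) =
      f (algebraMap _ _ ((algebraMap R Rh r) ⊗ₜ[R] (1 : S)))
    rw [← IsScalarTower.algebraMap_apply R Rh Sh, IsScalarTower.algebraMap_apply R S Sh, hS]
    congr 2
    rw [Algebra.algebraMap_eq_smul_one, Algebra.algebraMap_eq_smul_one, TensorProduct.smul_tmul]
  have h12 : a₁.comp (algebraMap (Localization.AtPrime p) Rh) =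
      a₂.comp (algebraMap (Localization.AtPrime p) Rh) := by
    apply IsLocalization.ringHom_ext p.primeCompl
    ext r
    simp only [RingHom.comp_apply]
    rw [← IsScalarTower.algebraMap_apply R (Localization.AtPrime p) Rh]
    exact hR r
  have hRhSh : IsLocalHom (algebraMap Rh Sh) := isLocalHom_Rh_Sh R S p q Rh Sh
  have hψa : ∀ a : Rh, tψ R S Rh Sh (algebraMap _ _ (a ⊗ₜ[R] (1 : S))) = algebraMap Rh Sh a := by
    intro a
    rw [tψ_algebraMap, Algebra.TensorProduct.lift_tmul, map_one, mul_one]
    rfl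
  have ha₂loc : IsLocalHom a₂ := by
    refine ⟨fun x hx => ?_⟩
    have h1 : IsUnit (algebraMap (Rh ⊗[R] S) (Localization.AtPrime (tQ R S Rh Sh))
        (x ⊗ₜ[R] (1 : S))) := hf.map_nonunit _ hx
    have h2 := h1.map (tψ R S Rh Sh)
    rw [hψa] at h2
    exact hRhSh.map_nonunit x h2
  have hloc : IsLocalHom (a₂.comp (algebraMap (Localization.AtPrime p) Rh)) :=
    RingHom.isLocalHom_comp _ _
  have hτ₀ : (ResidueField.map a₂).comp (ResidueField.map (algebraMap (Localization.AtPrime p) Rh)) =
      ResidueField.map (a₂.comp (algebraMap (Localization.AtPrime p) Rh)) :=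
    (ResidueField.map_comp (algebraMap (Localization.AtPrime p) Rh) a₂).symm
  have hc₂ : ∀ x : Rh, residue T (a₂ x) = ResidueField.map a₂ (residue Rh x) := fun x => rfl
  have hc₁ : ∀ x : Rh, residue T (a₁ x) = ResidueField.map a₂ (residue Rh x) := by
    intro x
    change residue T (g (algebraMap Rh Sh x)) = residue T (a₂ x)
    rw [hgτ, ← hψa]
    have h5 := congrArg (fun m => m (residue _ (algebraMap (Rh ⊗[R] S)
      (Localization.AtPrime (tQ R S Rh Sh)) (x ⊗ₜ[R] (1 : S))))) hτ
    exact h5
  have ha : a₁ = a₂ :=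
    (hRh.universal T (a₂.comp (algebraMap (Localization.AtPrime p) Rh)) (ResidueField.map a₂)
      hτ₀).unique ⟨h12, hc₁⟩ ⟨rfl, hc₂⟩
  -- conclude
  apply IsLocalization.ringHom_ext (tQ R S Rh Sh).primeCompl
  refine RingHom.ext fun d => ?_
  simp only [RingHom.comp_apply]
  rw [tψ_algebraMap]
  induction d using TensorProduct.induction_on with
  | zero => simp
  | tmul a s =>
    have h1 : a ⊗ₜ[R] s = (a ⊗ₜ[R] (1 : S)) * ((1 : Rh) ⊗ₜ[R] s) := by
      rw [Algebra.TensorProduct.tmul_mul_tmul, mul_one, one_mul]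
    rw [h1, map_mul, map_mul, map_mul, map_mul]
    congr 1
    · rw [Algebra.TensorProduct.lift_tmul, map_one, mul_one]
      exact congrArg (fun m => m a) ha
    · rw [Algebra.TensorProduct.lift_tmul, map_one, one_mul]
      exact hS s
  | add x y hx hy => rw [map_add, map_add, map_add, map_add, hx, hy]

variable [hSh : Hensel.IsStrictHenselization (Localization.AtPrime q) Sh]

include p q hRh hSh in
/-- `S^sh` is a strict henselization of `(R^sh ⊗_R S)_Q`. -/
theorem isStrictHenselization_tensor_atPrime :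
    @Hensel.IsStrictHenselization (Localization.AtPrime (tQ R S Rh Sh)) Sh _ _ _ _
      (tψ R S Rh Sh).toAlgebra (isLocalHom_tψ R S Rh Sh) := by
  let _ : Algebra (Localization.AtPrime (tQ R S Rh Sh)) Sh := (tψ R S Rh Sh).toAlgebra
  have : IsLocalHom (algebraMap (Localization.AtPrime (tQ R S Rh Sh)) Sh) := isLocalHom_tψ R S Rh Sh
  exact isStrictHenselization_of_factor (tι R S q Rh Sh) (tψ_comp_tι R S q Rh Sh)
    (fun T _ _ f _ τ g hτ hg hgτ => ts_hdet R S p q Rh Sh T f τ g hτ hg hgτ)

include p q hRh hSh in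
/-- Final form. -/
theorem exists_ringEquiv_tensor_atPrime_strict
    (E : Type u) [CommRing E] [IsLocalRing E]
    [Algebra (Localization.AtPrime (tQ R S Rh Sh)) E]
    [IsLocalHom (algebraMap (Localization.AtPrime (tQ R S Rh Sh)) E)]
    [Hensel.IsStrictHenselization (Localization.AtPrime (tQ R S Rh Sh)) E] :
    ∃ e : E ≃+* Sh, ∀ d : Rh ⊗[R] S,
      e (algebraMap (Localization.AtPrime (tQ R S Rh Sh)) E (algebraMap (Rh ⊗[R] S) _ d)) =
        tφ R S Rh Sh d := by
  let _ : Algebra (Localization.AtPrime (tQ R S Rh Sh)) Sh := (tψ R S Rh Sh).toAlgebra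
  have : IsLocalHom (algebraMap (Localization.AtPrime (tQ R S Rh Sh)) Sh) := isLocalHom_tψ R S Rh Sh
  have : Hensel.IsStrictHenselization (Localization.AtPrime (tQ R S Rh Sh)) Sh :=
    isStrictHenselization_tensor_atPrime R S p q Rh Sh
  obtain ⟨e⟩ := nonempty_algEquiv_strict (Localization.AtPrime (tQ R S Rh Sh)) E Sh
  refine ⟨e.toRingEquiv, fun d => ?_⟩
  change e (algebraMap _ E _) = _
  rw [e.commutes]
  exact tψ_algebraMap R S Rh Sh d

end Concrete

end Groth.Agent.Lib.Helper4.Hzs
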