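import Mathlib
import Groth.Prelude.Def_Hensel
import Groth.Agent.Lib.Helper4.HenselPairQF
import Groth.Agent.Lib.Helper4.HenselEtale
import Groth.Agent.Lib.Helper4.HznInt
import Groth.Agent.Lib.Helper4.HznTensor
import Groth.Agent.Lib.Helper4.HzsTensor

/-!
# Quasi-finite algebras over henselian local rings: the local ring at a quasi-finite point of the
closed fibre is finite; consequences for (strict) henselizations.
-/

set_option autoImplicit false
set_option linter.unusedSectionVars false
universe u

namespace Groth.Agent.Lib.Helper4.Hzn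

open IsLocalRing TensorProduct

/-- Over a henselian local ring `A`, the local ring of a finite type algebra at a prime of the
closed fibre at which the algebra is quasi-finite is a finite `A`-module. -/
theorem finite_localization_of_quasiFiniteAt (A : Type u) [CommRing A] [HenselianLocalRing A]
    (C : Type u) [CommRing C] [Algebra A C] [Algebra.FiniteType A C] (Q : Ideal C) [Q.IsPrime]
    (hQ : (maximalIdeal A).map (algebraMap A C) ≤ Q) [hqf : Algebra.QuasiFiniteAt A Q] :
    Module.Finite A (Localization.AtPrime Q) := by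
  classical
  obtain ⟨e, he, ⟨S', hS', hex⟩, hq⟩ := HenselPair.exists_idempotent_finiteType_split A C
  have heQ : e ∉ Q := hq Q hQ hqf
  have hfin : Module.Finite A S' := ⟨(Submodule.fg_top _).mpr hS'⟩
  let Q' : Ideal S' := Q.comap (algebraMap S' C)
  have hQ'prime : Q'.IsPrime := Ideal.comap_isPrime _ _
  have hQ'max : Q'.IsMaximal := by
    have h1 : Q'.comap (algebraMap A S') = maximalIdeal A := by
      have h2 : Q'.comap (algebraMap A S') = Q.comap (algebraMap A C) := by
        rw [Ideal.comap_comap]
        rfl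
      rw [h2]
      exact ((maximalIdeal.isMaximal A).eq_of_le (Ideal.comap_ne_top _ Ideal.IsPrime.ne_top')
        (Ideal.map_le_iff_le_comap.mp hQ)).symm
    have : Algebra.IsIntegral A S' := inferInstance
    exact Ideal.isMaximal_of_isIntegral_of_isMaximal_comap Q' (h1 ▸ maximalIdeal.isMaximal A)
  obtain ⟨n, ε, hε, hlast, huniq⟩ := exists_idempotents_of_finite_of_henselian (R := A) S'
  have hex_i : ∃ i : Fin n, ε i.castSucc ∉ Q' := by
    by_contra hcon
    push Not at hcon
    have : (1 : S') ∈ Q' := by
      rw [← hε.complete, Fin.sum_univ_castSucc, hlast, add_zero]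
      exact Q'.sum_mem fun i _ => hcon i
    exact hQ'prime.ne_top ((Ideal.eq_top_iff_one _).mpr this)
  obtain ⟨i, hi⟩ := hex_i
  set ε₀ := ε i.castSucc with hε₀def
  have hε₀ : IsIdempotentElem ε₀ := hε.idem _
  have hkey : ∀ s' : S', s' ∉ Q' → ∃ t : S', s' * t * ε₀ = ε₀ := by
    intro s' hs'
    have htop : Ideal.span {s', 1 - ε₀} = ⊤ := by
      by_contra hne
      obtain ⟨𝔫, h𝔫, hle⟩ := Ideal.exists_le_maximal _ hne
      have hs𝔫 : s' ∈ 𝔫 := hle (Ideal.subset_span (by simp))
      have h1𝔫 : 1 - ε₀ ∈ 𝔫 := hle (Ideal.subset_span (by simp))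
      by_cases hε𝔫 : ε₀ ∈ 𝔫
      · exact h𝔫.ne_top ((Ideal.eq_top_iff_one _).mpr (by simpa using 𝔫.add_mem h1𝔫 hε𝔫))
      · have := huniq i 𝔫 Q' h𝔫 hQ'max hε𝔫 hi
        exact hs' (this ▸ hs𝔫)
    have h1 : (1 : S') ∈ Ideal.span {s', 1 - ε₀} := htop ▸ Submodule.mem_top
    obtain ⟨a, b, hab⟩ := Ideal.mem_span_pair.mp h1
    refine ⟨a, ?_⟩
    calc s' * a * ε₀ = (a * s' + b * (1 - ε₀)) * ε₀ - b * (ε₀ - ε₀ * ε₀) := by ring
      _ = ε₀ := by rw [hab, hε₀.eq, sub_self, mul_zero, sub_zero, one_mul]
  -- surjectivity
  have hidem1 : ∀ c : C, IsIdempotentElem c → c ∉ Q →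
      algebraMap C (Localization.AtPrime Q) c = 1 := by
    intro c hc hcQ
    have hu : IsUnit (algebraMap C (Localization.AtPrime Q) c) :=
      IsLocalization.map_units (M := Q.primeCompl) _ ⟨c, hcQ⟩
    have h0 : algebraMap C (Localization.AtPrime Q) c *
        (1 - algebraMap C (Localization.AtPrime Q) c) = 0 := by
      rw [mul_sub, mul_one, ← map_mul, hc.eq, sub_self]
    have := (hu.mul_right_eq_zero).mp h0
    exact (sub_eq_zero.mp this).symm
  let f : S' →ₗ[A] Localization.AtPrime Q :=
    (IsScalarTower.toAlgHom A C (Localization.AtPrime Q)).toLinearMap.comp S'.val.toLinearMap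
  have hf : ∀ x : S', f x = algebraMap C (Localization.AtPrime Q) (x : C) := fun x => rfl
  have hfsurj : Function.Surjective f := by
    intro z
    obtain ⟨x, s, rfl⟩ := IsLocalization.exists_mk'_eq Q.primeCompl z
    have hsQ' : (⟨e * s, hex s⟩ : S') ∉ Q' := by
      intro h
      have h1 : e * (s : C) ∈ Q := h
      rcases Ideal.IsPrime.mem_or_mem inferInstance h1 with h2 | h2
      · exact heQ h2
      · exact s.2 h2
    obtain ⟨t, ht⟩ := hkey _ hsQ'
    refine ⟨⟨e * x, hex x⟩ * t, ?_⟩
    rw [IsLocalization.eq_mk'_iff_mul_eq, hf]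
    have ht' : e * (s : C) * (t : C) * (ε₀ : C) = (ε₀ : C) := by
      have := congrArg (fun y : S' => (y : C)) ht
      simpa using this
    have hε₀C : IsIdempotentElem (ε₀ : C) := by
      have := congrArg (fun y : S' => (y : C)) hε₀.eq
      simpa [IsIdempotentElem] using this
    have hε₀Q : (ε₀ : C) ∉ Q := hi
    have h1 := congrArg (algebraMap C (Localization.AtPrime Q)) ht'
    rw [map_mul, map_mul, map_mul, hidem1 _ he heQ, hidem1 _ hε₀C hε₀Q, one_mul, mul_one] at h1
    change algebraMap C (Localization.AtPrime Q) (e * x * (t : C)) * _ = _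
    rw [map_mul, map_mul, hidem1 _ he heQ, one_mul, mul_assoc, mul_comm (algebraMap C _ (t : C)), h1,
      mul_one]
  exact Module.Finite.of_surjective f hfsurj

/-- A local ring integral over a henselian local ring is henselian. -/
theorem henselianLocalRing_of_isIntegral (A : Type u) [CommRing A] [HenselianLocalRing A]
    (D : Type u) [CommRing D] [IsLocalRing D] [Algebra A D] [Algebra.IsIntegral A D] :
    HenselianLocalRing D := by
  have hHRS : HenselianRing A (maximalIdeal A) := inferInstance
  have hHR : HenselianRing D ((maximalIdeal A).map (algebraMap A D)) :=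
    HenselPair.henselianRing_map_of_isIntegral A (maximalIdeal A) D
  have hrad : maximalIdeal D ≤ ((maximalIdeal A).map (algebraMap A D)).radical := by
    rw [Ideal.radical_eq_sInf]
    refine le_sInf ?_
    rintro P ⟨hIP, hP⟩
    have h1 : P.comap (algebraMap A D) = maximalIdeal A := by
      have hle : maximalIdeal A ≤ P.comap (algebraMap A D) := Ideal.map_le_iff_le_comap.mp hIP
      exact ((maximalIdeal.isMaximal A).eq_of_le (Ideal.comap_ne_top _ hP.ne_top) hle).symm
    have h2 : P.IsMaximal :=
      Ideal.isMaximal_of_isIntegral_of_isMaximal_comap P (h1 ▸ maximalIdeal.isMaximal A)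
    exact (IsLocalRing.eq_maximalIdeal h2).ge
  exact henselianLocalRing_of_henselianRing D _ hrad

/-- A henselian local ring is its own henselization. -/
theorem isHenselization_self (D : Type u) [CommRing D] [hD : HenselianLocalRing D]
    [IsLocalHom (algebraMap D D)] : Hensel.IsHenselization D D := by
  refine ⟨hD, ?_⟩
  intro T _ _ f hf
  refine ⟨f, ?_, ?_⟩
  · ext x; rfl
  · intro g hg
    rw [← hg]
    ext x; rfl

/-- If `S` is a henselization of a henselian local ring `D`, then `D → S` is bijective. -/
theorem bijective_algebraMap_of_henselian (D : Type u) [CommRing D] [hD : HenselianLocalRing D]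
    (S : Type u) [CommRing S] [IsLocalRing S] [Algebra D S] [IsLocalHom (algebraMap D S)]
    [Hensel.IsHenselization D S] : Function.Bijective (algebraMap D S) := by
  have : IsLocalHom (algebraMap D D) := ⟨fun a ha => ha⟩
  have := isHenselization_self D
  obtain ⟨e⟩ := nonempty_algEquiv D D S
  have h : (algebraMap D S : D → S) = e := by
    funext x
    have := e.commutes x
    simpa using this.symm
  rw [h]
  exact e.bijective


/-- A separably closed henselian local ring is its own strict henselization. -/
theorem isStrictHenselization_self (D : Type u) [CommRing D] [hD : HenselianLocalRing D]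
    [hsc : IsSepClosed (ResidueField D)]
    [IsLocalHom (algebraMap D D)] : Hensel.IsStrictHenselization D D := by
  refine ⟨hD, ?_, ?_⟩
  · refine @IsSepClosure.mk (ResidueField D) _ (ResidueField D) _ ResidueField.instAlgebra hsc
      (@Algebra.IsSeparable.mk (ResidueField D) (ResidueField D) _ _ ResidueField.instAlgebra
        fun x => ?_)
    · obtain ⟨y, rfl⟩ := residue_surjective x
      exact @isSeparable_algebraMap (ResidueField D) _ (ResidueField D) _ ResidueField.instAlgebra
        (residue D y)
  · intro T _ _ f hf τ hτ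
    refine ⟨f, ⟨?_, ?_⟩, ?_⟩
    · ext x; rfl
    · intro x
      have := congrArg (fun m => m (residue D x)) hτ
      simp only [RingHom.comp_apply] at this
      rw [ResidueField.map_residue, ResidueField.map_residue] at this
      exact this.symm
    · intro g hg
      rw [← hg.1]
      ext x; rfl

/-- If `S` is a strict henselization of a strictly henselian local ring `D`, then `D → S` is
bijective. -/
theorem bijective_algebraMap_of_strictHenselian (D : Type u) [CommRing D]
    [hD : HenselianLocalRing D] [hsc : IsSepClosed (ResidueField D)]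
    (S : Type u) [CommRing S] [IsLocalRing S] [Algebra D S] [IsLocalHom (algebraMap D S)]
    [Hensel.IsStrictHenselization D S] : Function.Bijective (algebraMap D S) := by
  have : IsLocalHom (algebraMap D D) := ⟨fun a ha => ha⟩
  have := isStrictHenselization_self D
  obtain ⟨e⟩ := Hzs.nonempty_algEquiv_strict D D S
  have h : (algebraMap D S : D → S) = e := by
    funext x
    have := e.commutes x
    simpa using this.symm
  rw [h]
  exact e.bijective

theorem isLocalHom_algebraMap_atPrime (A : Type u) [CommRing A] [IsLocalRing A]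
    (C : Type u) [CommRing C] [Algebra A C] (Q : Ideal C) [Q.IsPrime]
    (hQ : (maximalIdeal A).map (algebraMap A C) ≤ Q) :
    IsLocalHom (algebraMap A (Localization.AtPrime Q)) := by
  apply ((local_hom_TFAE (algebraMap A (Localization.AtPrime Q))).out 0 2).mpr
  rw [IsScalarTower.algebraMap_eq A C (Localization.AtPrime Q), ← Ideal.map_map,
    ← Localization.AtPrime.map_eq_maximalIdeal]
  exact Ideal.map_mono hQ

section Concrete

variable (R : Type u) [CommRing R] (S : Type u) [CommRing S] [Algebra R S]
  [Algebra.FiniteType R S]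
  (p : Ideal R) [p.IsPrime] (q : Ideal S) [q.IsPrime] [q.LiesOver p] [hqf : Algebra.QuasiFiniteAt R q]
  (Rh : Type u) [CommRing Rh] [IsLocalRing Rh] [Algebra (Localization.AtPrime p) Rh]
  [IsLocalHom (algebraMap (Localization.AtPrime p) Rh)]
  [Algebra R Rh] [IsScalarTower R (Localization.AtPrime p) Rh]
  (Sh : Type u) [CommRing Sh] [IsLocalRing Sh] [Algebra (Localization.AtPrime q) Sh]
  [IsLocalHom (algebraMap (Localization.AtPrime q) Sh)]
  [Algebra S Sh] [IsScalarTower S (Localization.AtPrime q) Sh] [Algebra R Sh] [IsScalarTower R S Sh]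
  [Algebra Rh Sh] [IsScalarTower R Rh Sh]

theorem tQ_le (hloc : IsLocalHom (algebraMap Rh Sh)) :
    (maximalIdeal Rh).map (algebraMap Rh (Rh ⊗[R] S)) ≤ tQ R S Rh Sh := by
  rw [Ideal.map_le_iff_le_comap]
  intro a ha
  change tφ R S Rh Sh (a ⊗ₜ[R] (1 : S)) ∈ maximalIdeal Sh
  rw [Algebra.TensorProduct.lift_tmul, map_one, mul_one]
  change algebraMap Rh Sh a ∈ maximalIdeal Sh
  rw [mem_maximalIdeal, mem_nonunits_iff]
  intro h
  exact (mem_maximalIdeal _).mp ha (hloc.map_nonunit a h)

include hqf in
theorem tQ_quasiFiniteAt : Algebra.QuasiFiniteAt Rh (tQ R S Rh Sh) := by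
  refine Algebra.QuasiFiniteAt.baseChange (R := R) q (A := Rh) (tQ R S Rh Sh) ?_
  ext s
  rw [Ideal.mem_comap]
  change s ∈ q ↔ tφ R S Rh Sh ((1 : Rh) ⊗ₜ[R] s) ∈ maximalIdeal Sh
  rw [Algebra.TensorProduct.lift_tmul, map_one, one_mul]
  change s ∈ q ↔ algebraMap S Sh s ∈ maximalIdeal Sh
  rw [mem_maximalIdeal, mem_nonunits_iff, isUnit_algebraMap_S_iff (S := S) (q := q) (Sh := Sh),
    not_not]

include hqf in
theorem finite_tensor_atPrime [HenselianLocalRing Rh] (hloc : IsLocalHom (algebraMap Rh Sh)) :
    Module.Finite Rh (Localization.AtPrime (tQ R S Rh Sh)) := by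
  have := tQ_quasiFiniteAt R S q Rh Sh
  exact finite_localization_of_quasiFiniteAt Rh (Rh ⊗[R] S) (tQ R S Rh Sh)
    (tQ_le R S Rh Sh hloc)

theorem tψ_smul (a : Rh) (d : Localization.AtPrime (tQ R S Rh Sh)) :
    tψ R S Rh Sh (a • d) = a • tψ R S Rh Sh d := by
  rw [Algebra.smul_def, Algebra.smul_def, map_mul,
    IsScalarTower.algebraMap_apply Rh (Rh ⊗[R] S) (Localization.AtPrime (tQ R S Rh Sh)),
    tψ_algebraMap]
  congr 1
  change tφ R S Rh Sh (a ⊗ₜ[R] (1 : S)) = _
  rw [Algebra.TensorProduct.lift_tmul, map_one, mul_one]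
  rfl

include hqf in
theorem finite_of_bijective_tψ [HenselianLocalRing Rh] (hloc : IsLocalHom (algebraMap Rh Sh))
    (hbij : Function.Bijective (tψ R S Rh Sh)) : Module.Finite Rh Sh := by
  have := finite_tensor_atPrime R S q Rh Sh hloc
  let ℓ : Localization.AtPrime (tQ R S Rh Sh) →ₗ[Rh] Sh :=
    { toFun := tψ R S Rh Sh
      map_add' := map_add _
      map_smul' := fun a d => tψ_smul R S Rh Sh a d }
  exact Module.Finite.of_surjective ℓ hbij.2

section Hens

variable [hRh : Hensel.IsHenselization (Localization.AtPrime p) Rh]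
  [hSh : Hensel.IsHenselization (Localization.AtPrime q) Sh]

include S p q hRh in
theorem isLocalHom_Rh_Sh : IsLocalHom (algebraMap Rh Sh) := by
  apply ((local_hom_TFAE (algebraMap Rh Sh)).out 0 2).mpr
  rw [← map_maximalIdeal_of_isHenselization (Localization.AtPrime p) Rh, Ideal.map_map,
    Ideal.map_le_iff_le_comap]
  intro x hx
  rw [Ideal.mem_comap, IsLocalRing.mem_maximalIdeal, mem_nonunits_iff]
  intro h
  have := Hzs.isLocalHom_comp_Rp R S p q Rh Sh
  exact (IsLocalRing.mem_maximalIdeal _).mp hx (this.map_nonunit x h)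

include p q hqf hRh hSh in
/-- **Henselization of a quasi-finite local map is finite.** -/
theorem finite_of_quasiFiniteAt : Module.Finite Rh Sh := by
  have hHRh : HenselianLocalRing Rh := hRh.henselian
  have hloc : IsLocalHom (algebraMap Rh Sh) := isLocalHom_Rh_Sh R S p q Rh Sh
  have hfinD := finite_tensor_atPrime R S q Rh Sh hloc
  have hDH : HenselianLocalRing (Localization.AtPrime (tQ R S Rh Sh)) :=
    henselianLocalRing_of_isIntegral Rh _
  let _ : Algebra (Localization.AtPrime (tQ R S Rh Sh)) Sh := (tψ R S Rh Sh).toAlgebra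
  have : IsLocalHom (algebraMap (Localization.AtPrime (tQ R S Rh Sh)) Sh) := isLocalHom_tψ R S Rh Sh
  have : Hensel.IsHenselization (Localization.AtPrime (tQ R S Rh Sh)) Sh :=
    isHenselization_tensor_atPrime R S p q Rh Sh
  have hbij := bijective_algebraMap_of_henselian (Localization.AtPrime (tQ R S Rh Sh)) Sh
  exact finite_of_bijective_tψ R S q Rh Sh hloc hbij

end Hens

section Strict

variable [hRh : Hensel.IsStrictHenselization (Localization.AtPrime p) Rh]
  [hSh : Hensel.IsStrictHenselization (Localization.AtPrime q) Sh]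

include p q hqf hRh hSh in
/-- **Strict henselization of a quasi-finite local map is finite.** -/
theorem finite_of_quasiFiniteAt_strict : Module.Finite Rh Sh := by
  have hHRh : HenselianLocalRing Rh := hRh.henselian
  have hloc : IsLocalHom (algebraMap Rh Sh) := Hzs.isLocalHom_Rh_Sh R S p q Rh Sh
  have hfinD := finite_tensor_atPrime R S q Rh Sh hloc
  have hDH : HenselianLocalRing (Localization.AtPrime (tQ R S Rh Sh)) :=
    henselianLocalRing_of_isIntegral Rh _
  have hlocD : IsLocalHom (algebraMap Rh (Localization.AtPrime (tQ R S Rh Sh))) :=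
    isLocalHom_algebraMap_atPrime Rh _ _ (tQ_le R S Rh Sh hloc)
  have hscR : IsSepClosed (ResidueField Rh) := hRh.isSepClosure.sep_closed
  have hscD : IsSepClosed (ResidueField (Localization.AtPrime (tQ R S Rh Sh))) :=
    Algebra.IsAlgebraic.isSepClosed (F := ResidueField Rh)
  let _ : Algebra (Localization.AtPrime (tQ R S Rh Sh)) Sh := (tψ R S Rh Sh).toAlgebra
  have : IsLocalHom (algebraMap (Localization.AtPrime (tQ R S Rh Sh)) Sh) := isLocalHom_tψ R S Rh Sh
  have : Hensel.IsStrictHenselization (Localization.AtPrime (tQ R S Rh Sh)) Sh :=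
    Hzs.isStrictHenselization_tensor_atPrime R S p q Rh Sh
  have hbij := bijective_algebraMap_of_strictHenselian (Localization.AtPrime (tQ R S Rh Sh)) Sh
  exact finite_of_bijective_tψ R S q Rh Sh hloc hbij

end Strict

end Concrete

end Groth.Agent.Lib.Helper4.Hzn
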