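import Mathlib
import Groth.Prelude.Def_CAlg2
import Groth.Prelude.Def_Hensel
import Groth.Agent.Lib.Helper4.HznCompl
import Groth.Agent.Lib.Helper4.HznWE
import Groth.Agent.Lib.Helper4.HznQF
import Groth.Agent.Lib.Helper4.HzsProps
import Groth.Agent.Lib.Helper4.HznInt

set_option autoImplicit false
set_option linter.unusedSectionVars false
universe u

namespace Groth.Agent.Lib.Helper4.BrnchCompl

open IsLocalRing

theorem card_minimalPrimes_le_of_faithfullyFlat (S T : Type*) [CommRing S] [CommRing T]
    [Algebra S T] [Module.FaithfullyFlat S T] :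
    ENat.card (minimalPrimes S) ≤ ENat.card (minimalPrimes T) := by
  obtain ⟨h1, h2⟩ := Hzn.minimalPrimes_mapsTo_surjOn_of_faithfullyFlat S T
  let f : minimalPrimes T → minimalPrimes S := fun Q => ⟨Q.1.comap (algebraMap S T), h1 Q.2⟩
  have hf : Function.Surjective f := by
    rintro ⟨p, hp⟩
    obtain ⟨Q, hQ, hQp⟩ := h2 hp
    exact ⟨⟨Q, hQ⟩, Subtype.ext hQp⟩
  exact ENat.card_le_card_of_injective (Function.injective_surjInv hf)

/-- The completion of a noetherian local ring is henselian. -/
theorem henselianLocalRing_adicCompletion (A : Type u) [CommRing A] [IsLocalRing A]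
    [IsNoetherianRing A] : HenselianLocalRing (AdicCompletion (maximalIdeal A) A) := by
  have hHR : HenselianRing (AdicCompletion (maximalIdeal A) A)
      (maximalIdeal (AdicCompletion (maximalIdeal A) A)) := inferInstance
  exact Hzn.henselianLocalRing_of_henselianRing _ _ Ideal.le_radical

/-- A flat local homomorphism induces a faithfully flat local homomorphism on strict
henselizations. -/
theorem exists_flat_local_hom_strict (A B Ash Bsh : Type u) [CommRing A] [IsLocalRing A]
    [CommRing B] [IsLocalRing B] [Algebra A B] [IsLocalHom (algebraMap A B)] [Module.Flat A B]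
    [CommRing Ash] [IsLocalRing Ash] [Algebra A Ash] [IsLocalHom (algebraMap A Ash)]
    [hW : Hensel.IsStrictHenselization A Ash]
    [CommRing Bsh] [IsLocalRing Bsh] [Algebra B Bsh] [IsLocalHom (algebraMap B Bsh)]
    [hT : Hensel.IsStrictHenselization B Bsh] :
    ∃ σ : Ash →+* Bsh, IsLocalHom σ ∧ σ.Flat := by
  let f : A →+* Bsh := (algebraMap B Bsh).comp (algebraMap A B)
  have hf : IsLocalHom f := RingHom.isLocalHom_comp _ _
  have hHT : HenselianLocalRing Bsh := hT.henselian
  have hscT : IsSepClosed (ResidueField Bsh) := hT.isSepClosure.sep_closed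
  have hsepW : Algebra.IsSeparable (ResidueField A) (ResidueField Ash) := hW.isSepClosure.separable
  let _ : Algebra (ResidueField A) (ResidueField Bsh) := (ResidueField.map f).toAlgebra
  let τ : ResidueField Ash →ₐ[ResidueField A] ResidueField Bsh := IsSepClosed.lift
  have hτ : (τ : _ →+* ResidueField Bsh).comp (ResidueField.map (algebraMap A Ash)) =
      ResidueField.map f := by
    refine RingHom.ext fun x => ?_
    exact τ.commutes x
  obtain ⟨σ, ⟨hσ1, hσ2⟩, -⟩ := hW.universal Bsh f (τ : _ →+* _) hτ
  let _ : Algebra A Bsh := f.toAlgebra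
  let _ : Algebra Ash Bsh := σ.toAlgebra
  have htow : IsScalarTower A Ash Bsh := IsScalarTower.of_algebraMap_eq
    (fun a => (congrArg (fun F => F a) hσ1).symm)
  have htow2 : IsScalarTower A B Bsh := IsScalarTower.of_algebraMap_eq (fun a => rfl)
  have hfl1 : Module.FaithfullyFlat B Bsh := Hzs.faithfullyFlat_of_isStrictHenselization B Bsh
  have hfl2 : Module.Flat A Bsh := Module.Flat.trans A B Bsh
  have hwe : Algebra.WeaklyEtale A Ash := IndEt.weaklyEtale_of_isStrictHenselization A Ash
  have hfl3 : Module.Flat Ash Bsh := (IndEt.flat_iff_of_weaklyEtale A Ash Bsh).mp hfl2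
  refine ⟨σ, ?_, hfl3⟩
  have hloc : IsLocalHom (algebraMap Ash Bsh) := by
    apply ((local_hom_TFAE (algebraMap Ash Bsh)).out 0 2).mpr
    rw [← Hzs.map_maximalIdeal_of_isStrictHenselization A Ash, Ideal.map_map,
      ← IsScalarTower.algebraMap_eq]
    exact IsLocalRing.map_maximalIdeal_le f
  exact hloc

end Groth.Agent.Lib.Helper4.BrnchCompl
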