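import Mathlib
import Groth.Prelude.Def_Hensel
import Groth.Prelude.Def_EssEt
import Groth.Agent.Lib.Helper4.EssEtale
import Groth.Agent.Lib.Helper4.HznTensor
import Groth.Agent.Lib.Helper4.HznProps

/-!
# The henselization of a strictly essentially étale local algebra
-/

set_option autoImplicit false
set_option linter.unusedSectionVars false
universe u

namespace Groth.Agent.Lib.Helper4.EtNbhd

open IsLocalRing Groth.Agent.Lib.Helper4.Hzn Groth.Agent.Lib.Helper4

/-- A henselization of `A` is a henselization of any strictly essentially étale local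
`A`-algebra mapping locally to it. -/
theorem isHenselization_of_strictlyEssEtale {A B S : Type u} [CommRing A] [IsLocalRing A]
    [CommRing B] [IsLocalRing B] [Algebra A B] [IsLocalHom (algebraMap A B)]
    (hB : EGA4loc.IsStrictlyEssentiallyEtale A B)
    [CommRing S] [IsLocalRing S] [Algebra A S] [IsLocalHom (algebraMap A S)]
    [Hensel.IsHenselization A S]
    [Algebra B S] [IsScalarTower A B S] [IsLocalHom (algebraMap B S)] :
    Hensel.IsHenselization B S := by
  refine isHenselization_of_factor (B := A) (Bh := S) (D := B) (algebraMap A B) ?_ ?_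
  · ext a
    exact (IsScalarTower.algebraMap_apply A B S a).symm
  · intro T _ _ f g hf h2
    let _ : Algebra A T := (f.comp (algebraMap A B)).toAlgebra
    have hlocT : IsLocalHom (algebraMap A T) := RingHom.isLocalHom_comp f (algebraMap A B)
    let ψ : B →ₐ[A] T := { f with commutes' := fun a => rfl }
    let ψ' : B →ₐ[A] T :=
      { g.comp (algebraMap B S) with
        commutes' := fun a => by
          show g (algebraMap B S (algebraMap A B a)) = f (algebraMap A B a)
          rw [← IsScalarTower.algebraMap_apply A B S]
          exact congrArg (fun F => F a) h2 }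
    have hmap : ∀ (χ : B →ₐ[A] T) (m : B), m ∈ (maximalIdeal A).map (algebraMap A B) →
        χ m ∈ maximalIdeal T := by
      intro χ m hm
      have h1 : χ m ∈ ((maximalIdeal A).map (algebraMap A B)).map (χ : B →+* T) :=
        Ideal.mem_map_of_mem _ hm
      rw [Ideal.map_map] at h1
      have h3 : (χ : B →+* T).comp (algebraMap A B) = algebraMap A T := χ.comp_algebraMap
      rw [h3] at h1
      have h4 : (maximalIdeal A).map (algebraMap A T) ≤ maximalIdeal T :=
        ((local_hom_TFAE (algebraMap A T)).out 0 2 rfl rfl).mp hlocT
      exact h4 h1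
    have hψ : ψ' = ψ := by
      refine EssEtale.algHom_ext hB.1 ψ' ψ fun b => ?_
      obtain ⟨a, ha⟩ := EssEtale.exists_sub_mem hB b
      have h5 : ψ' b - ψ b = ψ' (b - algebraMap A B a) - ψ (b - algebraMap A B a) := by
        rw [map_sub, map_sub, ψ'.commutes, ψ.commutes]
        ring
      rw [h5]
      exact Ideal.sub_mem _ (hmap ψ' _ ha) (hmap ψ _ ha)
    ext b
    exact congrArg (fun F => F b) hψ

/-- A strictly essentially étale local algebra maps (locally, faithfully flatly) to a
henselization of the base, which is then a henselization of the algebra. -/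
theorem exists_algebra_of_strictlyEssEtale {A B : Type u} [CommRing A] [IsLocalRing A]
    [CommRing B] [IsLocalRing B] [Algebra A B] [IsLocalHom (algebraMap A B)]
    (hB : EGA4loc.IsStrictlyEssentiallyEtale A B)
    (S : Type u) [CommRing S] [IsLocalRing S] [Algebra A S] [IsLocalHom (algebraMap A S)]
    [hS : Hensel.IsHenselization A S] :
    ∃ (_ : Algebra B S) (_ : IsScalarTower A B S) (_ : IsLocalHom (algebraMap B S)),
      Hensel.IsHenselization B S ∧ Module.FaithfullyFlat B S := by
  have hH : HenselianLocalRing S := hS.henselian
  let ρ : ResidueField A ≃+* ResidueField B := RingEquiv.ofBijective _ hB.2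
  let α : ResidueField B →+* ResidueField S :=
    (ResidueField.map (algebraMap A S)).comp (ρ.symm : ResidueField B →+* ResidueField A)
  have hα : α.comp (ResidueField.map (algebraMap A B)) = ResidueField.map (algebraMap A S) := by
    ext x
    show ResidueField.map (algebraMap A S) (ρ.symm (ρ x)) = _
    rw [RingEquiv.symm_apply_apply]
  obtain ⟨ψ, hψ⟩ := EssEtale.exists_lift hB.1 S α hα
  let _ : Algebra B S := ψ.toRingHom.toAlgebra
  have hst : IsScalarTower A B S := IsScalarTower.of_algebraMap_eq fun a => (ψ.commutes a).symm
  have hloc : IsLocalHom (algebraMap B S) := by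
    constructor
    intro b hb
    by_contra hnb
    have h3 : residue B b = 0 := (residue_eq_zero_iff b).mpr ((mem_maximalIdeal b).mpr hnb)
    have h4 : residue S (ψ b) = 0 := by rw [hψ, h3, map_zero]
    have h5 : ψ b ∈ maximalIdeal S := (residue_eq_zero_iff _).mp h4
    exact (mem_maximalIdeal _).mp h5 hb
  have hsh : Hensel.IsHenselization B S := isHenselization_of_strictlyEssEtale hB
  exact ⟨_, hst, hloc, hsh, faithfullyFlat_of_isHenselization B S⟩

end Groth.Agent.Lib.Helper4.EtNbhd
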