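import Mathlib
import Groth.Prelude.Def_EssEt

set_option autoImplicit false
set_option linter.unusedSectionVars false
universe u

namespace Groth.Agent.Lib.Helper4.EtNbhd

open IsLocalRing TensorProduct

section AlgT1

variable (R₀ E A B : Type u) [CommRing R₀] [CommRing E] [Algebra R₀ E] [Algebra.Etale R₀ E]
  (p : Ideal R₀) [p.IsPrime] (q : Ideal E) [q.IsPrime]
  [CommRing A] [Algebra R₀ A] [IsLocalization.AtPrime A p]
  [CommRing B] [Algebra E B] [IsLocalization.AtPrime B q]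
  [Algebra A B] [Algebra R₀ B] [IsScalarTower R₀ A B] [IsScalarTower R₀ E B]
  [IsLocalRing A] [IsLocalRing B] [IsLocalHom (algebraMap A B)]

/-- every element of `A ⊗ E` becomes a pure tensor `1 ⊗ e` after multiplication by a
denominator from `R₀ ∖ p`. -/
lemma exists_smul_eq_one_tmul (c : A ⊗[R₀] E) :
    ∃ (s : p.primeCompl) (e : E), (algebraMap R₀ A (s : R₀) ⊗ₜ[R₀] (1 : E)) * c = 1 ⊗ₜ[R₀] e := by
  induction c using TensorProduct.induction_on with
  | zero => exact ⟨1, 0, by simp⟩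
  | tmul a e' =>
    obtain ⟨r, s, rfl⟩ := IsLocalization.exists_mk'_eq p.primeCompl a
    refine ⟨s, r • e', ?_⟩
    rw [Algebra.TensorProduct.tmul_mul_tmul, one_mul, mul_comm, IsLocalization.mk'_spec,
      Algebra.algebraMap_eq_smul_one, TensorProduct.smul_tmul]
  | add x y hx hy =>
    obtain ⟨s₁, e₁, h₁⟩ := hx
    obtain ⟨s₂, e₂, h₂⟩ := hy
    refine ⟨s₁ * s₂, (s₂ : R₀) • e₁ + (s₁ : R₀) • e₂, ?_⟩
    have hs : (algebraMap R₀ A ((s₁ * s₂ : p.primeCompl) : R₀) ⊗ₜ[R₀] (1 : E)) =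
        (algebraMap R₀ A (s₁ : R₀) ⊗ₜ[R₀] (1 : E)) * (algebraMap R₀ A (s₂ : R₀) ⊗ₜ[R₀] (1 : E)) := by
      rw [Algebra.TensorProduct.tmul_mul_tmul, one_mul, Submonoid.coe_mul, map_mul]
    have hsm : ∀ (s : R₀) (e : E), (algebraMap R₀ A s ⊗ₜ[R₀] (1 : E)) * (1 ⊗ₜ[R₀] e) =
        (1 : A) ⊗ₜ[R₀] (s • e) := by
      intro s e
      rw [Algebra.TensorProduct.tmul_mul_tmul, one_mul, mul_one, Algebra.algebraMap_eq_smul_one,
        TensorProduct.smul_tmul]
    rw [hs, mul_add, TensorProduct.tmul_add, ← hsm, ← hsm, ← h₁, ← h₂]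
    ring

include p q in
/-- **T1 (algebra)**: the localization of an étale `R₀`-algebra at a prime `q` is essentially
étale over the localization of `R₀` at the prime below. -/
theorem essEtale_of_localizations : EGA4loc.IsEssentiallyEtale A B := by
  let f₁ : A →ₐ[A] B := Algebra.ofId A B
  let f₂ : E →ₐ[R₀] B := IsScalarTower.toAlgHom R₀ E B
  let φ : A ⊗[R₀] E →ₐ[A] B := Algebra.TensorProduct.lift f₁ f₂ (fun _ _ => Commute.all _ _)
  have hφ : ∀ (a : A) (e : E), φ (a ⊗ₜ[R₀] e) = algebraMap A B a * algebraMap E B e := by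
    intro a e
    exact Algebra.TensorProduct.lift_tmul _ _ _ a e
  set Q : Ideal (A ⊗[R₀] E) := (maximalIdeal B).comap (φ : A ⊗[R₀] E →+* B) with hQ
  have hQprime : Q.IsPrime := Ideal.comap_isPrime _ _
  have hQmem : ∀ c, c ∈ Q ↔ φ c ∈ maximalIdeal B := fun c => Iff.rfl
  let algCB : Algebra (A ⊗[R₀] E) B := (φ : A ⊗[R₀] E →+* B).toAlgebra
  have halg : ∀ c, algebraMap (A ⊗[R₀] E) B c = φ c := fun c => rfl
  have towerACB : IsScalarTower A (A ⊗[R₀] E) B :=
    IsScalarTower.of_algebraMap_eq (fun a => (φ.commutes a).symm)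
  have hsunit : ∀ s : p.primeCompl, IsUnit (algebraMap A B (algebraMap R₀ A (s : R₀))) :=
    fun s => (IsLocalization.map_units A s).map _
  have hloc : IsLocalization.AtPrime B Q := by
    refine ⟨?_, ?_, ?_⟩
    · rintro ⟨c, hc⟩
      rw [halg]
      by_contra hnu
      exact hc ((hQmem c).mpr ((mem_maximalIdeal _).mpr hnu))
    · intro b
      obtain ⟨e, t, rfl⟩ := IsLocalization.exists_mk'_eq q.primeCompl b
      have ht : (1 : A) ⊗ₜ[R₀] (t : E) ∈ Q.primeCompl := by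
        show ¬ _ ∈ Q
        rw [hQmem, hφ, map_one, one_mul]
        exact fun h => (mem_maximalIdeal _).mp h (IsLocalization.map_units B t)
      refine ⟨⟨(1 : A) ⊗ₜ[R₀] e, ⟨_, ht⟩⟩, ?_⟩
      show IsLocalization.mk' B e t * algebraMap _ B ((1 : A) ⊗ₜ[R₀] (t : E)) =
        algebraMap _ B ((1 : A) ⊗ₜ[R₀] e)
      rw [halg, halg, hφ, hφ, map_one, one_mul, one_mul, IsLocalization.mk'_spec]
    · intro c₁ c₂ h
      rw [halg, halg] at h
      obtain ⟨s, e, hse⟩ := exists_smul_eq_one_tmul R₀ E A p (c₁ - c₂)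
      have h1 : φ ((1 : A) ⊗ₜ[R₀] e) = 0 := by
        rw [← hse, map_mul, map_sub, h, sub_self, mul_zero]
      rw [hφ, map_one, one_mul] at h1
      obtain ⟨t, ht⟩ := (IsLocalization.map_eq_zero_iff q.primeCompl B e).mp h1
      have hmem : ((1 : A) ⊗ₜ[R₀] (t : E)) * (algebraMap R₀ A (s : R₀) ⊗ₜ[R₀] (1 : E)) ∈
          Q.primeCompl := by
        show ¬ _ ∈ Q
        rw [hQmem, map_mul, hφ, hφ, map_one, one_mul, map_one, mul_one]
        intro hm
        exact (mem_maximalIdeal _).mp hm ((IsLocalization.map_units B t).mul (hsunit s))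
      refine ⟨⟨_, hmem⟩, ?_⟩
      show (((1 : A) ⊗ₜ[R₀] (t : E)) * (algebraMap R₀ A (s : R₀) ⊗ₜ[R₀] (1 : E))) * c₁ =
        (((1 : A) ⊗ₜ[R₀] (t : E)) * (algebraMap R₀ A (s : R₀) ⊗ₜ[R₀] (1 : E))) * c₂
      rw [← sub_eq_zero, ← mul_sub, mul_assoc, hse, Algebra.TensorProduct.tmul_mul_tmul, one_mul,
        ht, TensorProduct.tmul_zero]
  have hQA : Q.comap (algebraMap A (A ⊗[R₀] E)) = maximalIdeal A := by
    ext a
    rw [Ideal.mem_comap, hQmem, Algebra.TensorProduct.algebraMap_apply,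
      Algebra.algebraMap_self_apply, hφ, map_one, mul_one]
    constructor
    · intro h
      rw [mem_maximalIdeal, mem_nonunits_iff] at h ⊢
      exact fun hu => h (hu.map _)
    · intro h
      rw [mem_maximalIdeal, mem_nonunits_iff] at h ⊢
      exact fun hu => h (isUnit_of_map_unit (algebraMap A B) a hu)
  let e : B ≃ₐ[A ⊗[R₀] E] Localization.AtPrime Q :=
    IsLocalization.algEquiv Q.primeCompl B (Localization.AtPrime Q)
  exact ⟨A ⊗[R₀] E, inferInstance, inferInstance, Q, hQprime, inferInstance, hQA,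
    ⟨e.restrictScalars A⟩⟩

end AlgT1

end Groth.Agent.Lib.Helper4.EtNbhd
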