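import Mathlib
import Groth.Prelude.Def_EssEt
import Groth.Agent.Lib.Helper4.EtNbhd2

set_option autoImplicit false
set_option linter.unusedSectionVars false
universe u

namespace Groth.Agent.Lib.Helper4.EtNbhd

open IsLocalRing AlgebraicGeometry CategoryTheory

/-- **T1**: the stalk map of an étale morphism is essentially étale. -/
theorem essEtale_stalkMap {U X : Scheme.{u}} (g : U ⟶ X) [Etale g] (u : U) :
    letI := (g.stalkMap u).hom.toAlgebra
    EGA4loc.IsEssentiallyEtale (X.presheaf.stalk (g u)) (U.presheaf.stalk u) := by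
  let _ := (g.stalkMap u).hom.toAlgebra
  obtain ⟨_, ⟨V, hV, rfl⟩, hxV, -⟩ := X.isBasis_affineOpens.exists_subset_of_mem_open
    (Set.mem_univ (g u)) isOpen_univ
  obtain ⟨_, ⟨W, hW, rfl⟩, huW, hWV⟩ := U.isBasis_affineOpens.exists_subset_of_mem_open
    (show u ∈ g ⁻¹ᵁ V from hxV) (g ⁻¹ᵁ V).2
  let _ : Algebra Γ(X, V) Γ(U, W) := (g.appLE V W hWV).hom.toAlgebra
  have het : Algebra.Etale Γ(X, V) Γ(U, W) :=
    RingHom.etale_algebraMap.mp
      (HasRingHomProperty.appLE @Etale g inferInstance ⟨V, hV⟩ ⟨W, hW⟩ hWV)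
  let _ := X.presheaf.algebra_section_stalk ⟨g u, hxV⟩
  have := hV.isLocalization_stalk ⟨g u, hxV⟩
  let _ := U.presheaf.algebra_section_stalk ⟨u, huW⟩
  have := hW.isLocalization_stalk ⟨u, huW⟩
  let _ : Algebra Γ(X, V) (U.presheaf.stalk u) :=
    ((algebraMap (X.presheaf.stalk (g u)) (U.presheaf.stalk u)).comp
      (algebraMap Γ(X, V) (X.presheaf.stalk (g u)))).toAlgebra
  have : IsScalarTower Γ(X, V) (X.presheaf.stalk (g u)) (U.presheaf.stalk u) :=
    IsScalarTower.of_algebraMap_eq (fun _ => rfl)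
  have : IsScalarTower Γ(X, V) Γ(U, W) (U.presheaf.stalk u) :=
    IsScalarTower.of_algebraMap_eq (fun r => by
      simp only [RingHom.algebraMap_toAlgebra, RingHom.comp_apply, Scheme.Hom.germ_stalkMap_apply,
        Scheme.Hom.appLE, homOfLE_leOfHom, CommRingCat.hom_comp, RingHom.coe_comp,
        Function.comp_apply, U.presheaf.germ_res_apply])
  have : IsLocalHom (algebraMap (X.presheaf.stalk (g u)) (U.presheaf.stalk u)) :=
    inferInstanceAs (IsLocalHom (g.stalkMap u).hom)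
  exact essEtale_of_localizations Γ(X, V) Γ(U, W) _ _ (hV.primeIdealOf ⟨g u, hxV⟩).asIdeal
    (hW.primeIdealOf ⟨u, huW⟩).asIdeal

end Groth.Agent.Lib.Helper4.EtNbhd
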