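import Mathlib
import Groth.Agent.Lib.Helper16.Generization

set_option autoImplicit false
set_option linter.unusedSectionVars false
universe u

namespace Groth.Agent.Lib.Helper4.EtNbhd

open IsLocalRing AlgebraicGeometry CategoryTheory

/-- points of `Spec R` whose closure is an irreducible component ↔ minimal primes -/
theorem encard_genericPts_eq (R : Type u) [CommRing R] :
    {z : PrimeSpectrum R | closure ({z} : Set (PrimeSpectrum R)) ∈
      irreducibleComponents (PrimeSpectrum R)}.encard = (minimalPrimes R).encard := by
  have h1 : {z : PrimeSpectrum R | closure ({z} : Set (PrimeSpectrum R)) ∈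
      irreducibleComponents (PrimeSpectrum R)} =
      {z : PrimeSpectrum R | z.asIdeal ∈ minimalPrimes R} := by
    ext z
    simp only [Set.mem_ofPred_eq]
    rw [← PrimeSpectrum.vanishingIdeal_mem_minimalPrimes, PrimeSpectrum.vanishingIdeal_singleton]
    exact Iff.rfl
  rw [h1]
  have h2 : (fun z : PrimeSpectrum R => z.asIdeal) '' {z : PrimeSpectrum R | z.asIdeal ∈ minimalPrimes R}
      = minimalPrimes R := by
    ext P
    constructor
    · rintro ⟨z, hz, rfl⟩
      exact hz
    · intro hP
      exact ⟨⟨P, hP.1.1⟩, hP, rfl⟩
  have h3 : Set.InjOn (fun z : PrimeSpectrum R => z.asIdeal)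
      {z : PrimeSpectrum R | z.asIdeal ∈ minimalPrimes R} := by
    intro z _ z' _ h
    exact PrimeSpectrum.ext h
  exact (h3.encard_image).symm.trans (congrArg Set.encard h2)

/-- the number of irreducible components of a scheme through a point is the number of minimal
primes of the local ring -/
theorem encard_components_eq (U : Scheme.{u}) (u : U) :
    {Z : Set ↑U | Z ∈ irreducibleComponents ↑U ∧ u ∈ Z}.encard =
      (minimalPrimes (U.presheaf.stalk u)).encard := by
  have hb := Groth.Agent.Lib.Helper16.bijOn_closure_of_range_eq_generizations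
    (U.fromSpecStalk u) (U.fromSpecStalk u).isEmbedding.isInducing u Scheme.range_fromSpecStalk
  rw [← hb.image_eq, hb.injOn.encard_image]
  exact encard_genericPts_eq (U.presheaf.stalk u)

end Groth.Agent.Lib.Helper4.EtNbhd
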