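import Mathlib
import Groth.Prelude.Def_Hensel
import Groth.Prelude.Def_EssEt
import Groth.Agent.Lib.Helper4.HzsNoethC
import Groth.Agent.Lib.Helper4.HzsProps

/-!
# Essentially étale subalgebras of a strict henselization
-/

set_option autoImplicit false
set_option linter.unusedSectionVars false
universe u

namespace Groth.Agent.Lib.Helper4.Hzs

open IsLocalRing Groth.Agent.Lib.Helper4.Hzn

variable (R : Type u) [CommRing R] [IsLocalRing R]

/-- The stage maps of the strict henselization. -/
noncomputable abbrev Hs.of (i : Idx R) : i.G →ₐ[R] Hs R :=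
  DirectLimit.Algebra.of (fun i : Idx R => i.G) (fun i j h => tr i j h) i

theorem Hs.of_flat (i : Idx R) : (Hs.of R i : i.G →+* Hs R).Flat :=
  flat_of_cofinal (fun i j h => tr i j h) i (Hs.cofinal_flat R i)

theorem Hs.of_isLocalHom (i : Idx R) : IsLocalHom (Hs.of R i) :=
  isLocalHom_of (fun i j h => tr i j h) (tr_isLocalHom R) i

theorem Hs.of_injective (i : Idx R) : Function.Injective (Hs.of R i) := by
  let _ : Algebra i.G (Hs R) := (Hs.of R i : i.G →+* Hs R).toAlgebra
  have h1 : Module.Flat i.G (Hs R) := Hs.of_flat R i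
  have h2 : IsLocalHom (algebraMap i.G (Hs R)) := by
    have h := Hs.of_isLocalHom R i
    exact ⟨fun a ha => h.map_nonunit a ha⟩
  have h3 : Module.FaithfullyFlat i.G (Hs R) := Module.FaithfullyFlat.of_flat_of_isLocalHom
  exact FaithfulSMul.algebraMap_injective i.G (Hs R)

/-- Transport of "essentially étale" along an algebra isomorphism. -/
theorem essEtale_of_algEquiv {A B B' : Type u} [CommRing A] [IsLocalRing A] [CommRing B]
    [Algebra A B] [CommRing B'] [Algebra A B'] (e : B ≃ₐ[A] B')
    (h : EGA4loc.IsEssentiallyEtale A B) : EGA4loc.IsEssentiallyEtale A B' := by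
  obtain ⟨C, _, _, q, _, h1, h2, ⟨θ⟩⟩ := h
  exact ⟨C, _, _, q, _, h1, h2, ⟨e.symm.trans θ⟩⟩

/-- The image of an injective algebra map from an essentially étale local algebra. -/
theorem range_props {A G S : Type u} [CommRing A] [IsLocalRing A] [CommRing G] [IsLocalRing G]
    [Algebra A G] [CommRing S] [IsLocalRing S] [Algebra A S] (φ : G →ₐ[A] S)
    (hinj : Function.Injective φ) (hloc : IsLocalHom φ)
    (hG : EGA4loc.IsEssentiallyEtale A G) :
    ∃ _ : IsLocalRing φ.range, IsLocalHom (algebraMap φ.range S) ∧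
      EGA4loc.IsEssentiallyEtale A φ.range := by
  let e : G ≃ₐ[A] φ.range := AlgEquiv.ofInjective φ hinj
  have hl : IsLocalRing φ.range := e.toRingEquiv.isLocalRing
  refine ⟨hl, ?_, essEtale_of_algEquiv e hG⟩
  constructor
  rintro ⟨_, g, rfl⟩ hu
  have hu' : IsUnit (φ g) := hu
  have := hloc.map_nonunit g hu'
  exact this.map e

/-- Finitely many elements of the strict henselization lie in a common stage. -/
theorem Hs.exists_stage (s : Finset (Hs R)) :
    ∃ i : Idx R, (s : Set (Hs R)) ⊆ ((Hs.of R i).range : Set (Hs R)) := by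
  classical
  obtain ⟨i, y, hy⟩ := exists_of_finite (fun i j h => tr i j h) (fun x : s => (x : Hs R))
  refine ⟨i, fun x hx => ?_⟩
  exact ⟨y ⟨x, hx⟩, (hy ⟨x, hx⟩).symm⟩

section General

variable (S : Type u) [CommRing S] [IsLocalRing S] [Algebra R S] [IsLocalHom (algebraMap R S)]
  [Hensel.IsStrictHenselization R S]

/-- Finitely many elements of a strict henselization lie in a local essentially étale
subalgebra dominated by it. -/
theorem exists_essEtale_subalgebra (s : Finset S) :
    ∃ E : Subalgebra R S, (s : Set S) ⊆ (E : Set S) ∧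
      ∃ _ : IsLocalRing E, IsLocalHom (algebraMap E S) ∧ EGA4loc.IsEssentiallyEtale R E := by
  classical
  obtain ⟨e⟩ := nonempty_algEquiv_strict R S (Hs R)
  obtain ⟨i, hi⟩ := Hs.exists_stage R (s.image e)
  let φ : i.G →ₐ[R] S := e.symm.toAlgHom.comp (Hs.of R i)
  have hinj : Function.Injective φ := e.symm.injective.comp (Hs.of_injective R i)
  have hloc : IsLocalHom φ := by
    have h1 := Hs.of_isLocalHom R i
    constructor
    intro a ha
    have h2 : IsUnit (e (φ a)) := ha.map e
    have h3 : e (φ a) = Hs.of R i a := e.apply_symm_apply _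
    rw [h3] at h2
    exact h1.map_nonunit a h2
  obtain ⟨hl, hl', hE⟩ := range_props φ hinj hloc i.essEtale
  refine ⟨φ.range, ?_, hl, hl', hE⟩
  intro x hx
  have hx' : e x ∈ ((s.image e : Finset (Hs R)) : Set (Hs R)) := by
    rw [Finset.coe_image]
    exact ⟨x, hx, rfl⟩
  obtain ⟨g, hg⟩ := hi hx'
  refine ⟨g, ?_⟩
  show e.symm (Hs.of R i g) = x
  have hg' : Hs.of R i g = e x := hg
  rw [hg', e.symm_apply_apply]

/-- A subalgebra of a strict henselization which is essentially of finite type lies in a
local essentially étale subalgebra dominated by the strict henselization. -/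
theorem exists_essEtale_ge_of_essFiniteType (D : Subalgebra R S) [Algebra.EssFiniteType R D] :
    ∃ E : Subalgebra R S, D ≤ E ∧
      ∃ _ : IsLocalRing E, IsLocalHom (algebraMap E S) ∧ EGA4loc.IsEssentiallyEtale R E := by
  classical
  obtain ⟨σ, hσ⟩ := (Algebra.essFiniteType_iff R D).mp inferInstance
  obtain ⟨E, hsE, hl, hl', hE⟩ := exists_essEtale_subalgebra R S (σ.image D.val)
  refine ⟨E, ?_, hl, hl', hE⟩
  have hadj : ∀ t : D, t ∈ Algebra.adjoin R (σ : Set D) → (t : S) ∈ E := by
    intro t ht
    have h1 : D.val t ∈ (Algebra.adjoin R (σ : Set D)).map D.val := ⟨t, ht, rfl⟩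
    rw [AlgHom.map_adjoin] at h1
    have h2 : Algebra.adjoin R (D.val '' (σ : Set D)) ≤ E := by
      apply Algebra.adjoin_le
      rw [← Finset.coe_image]
      exact hsE
    exact h2 h1
  intro d hd
  obtain ⟨t, ht, htu, hdt⟩ := hσ ⟨d, hd⟩
  have h1 : (t : S) ∈ E := hadj t ht
  have h2 : d * (t : S) ∈ E := hadj _ hdt
  have h3 : IsUnit (⟨(t : S), h1⟩ : E) := by
    apply hl'.map_nonunit
    exact htu.map D.val
  obtain ⟨v, hv⟩ := h3.exists_right_inv
  have h4 : (t : S) * (v : S) = 1 := congrArg Subtype.val hv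
  have h5 : d = (d * (t : S)) * (v : S) := by
    rw [mul_assoc, h4, mul_one]
  rw [h5]
  exact E.mul_mem h2 v.2

end General

end Groth.Agent.Lib.Helper4.Hzs
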