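import Mathlib
import Groth.Prelude.Def_Hensel
import Groth.Prelude.Def_EssEt
import Groth.Agent.Lib.Helper4.HzsSub

/-!
# Unramified essentially finite type subalgebras of a strict henselization are essentially étale
-/

set_option autoImplicit false
set_option linter.unusedSectionVars false
universe u

namespace Groth.Agent.Lib.Helper4.Hzs

open IsLocalRing Groth.Agent.Lib.Helper4.Hzn

variable (R : Type u) [CommRing R] [IsLocalRing R]

/-- A pointed map from the local ring of a geometric point of an étale algebra to the strict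
henselization is injective. -/
theorem Hs.injective_of_char {E : Type u} [CommRing E] [Algebra R E] [Algebra.Etale R E]
    (χ : E →ₐ[R] Ks R) (g : Loc χ →ₐ[R] Hs R) (hg : ∀ x, Hs.char R (g x) = locChar χ x) :
    Function.Injective g := by
  obtain ⟨i, θ, hθ⟩ := exists_index_equiv χ
  let g₂ : Loc χ →ₐ[R] Hs R := (Hs.of R i).comp θ.toAlgHom
  have h2 : ∀ x, Hs.char R (g₂ x) = locChar χ x := fun x => by
    show Hs.char R (Hs.of R i (θ x)) = _
    rw [Hs.char_of, hθ]
  have heq : g = g₂ := by
    refine EssEtale.algHom_ext (essEtale χ) g g₂ fun x => ?_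
    rw [← Hs.char_eq_zero_iff, map_sub, hg, h2, sub_self]
  rw [heq]
  exact (Hs.of_injective R i).comp θ.injective

variable (S : Type u) [CommRing S] [IsLocalRing S] [Algebra R S] [IsLocalHom (algebraMap R S)]
  [hS : Hensel.IsStrictHenselization R S]

/-- A local subalgebra of a strict henselization, dominated by it, essentially of finite type
and with maximal ideal generated by that of the base, is essentially étale. -/
theorem essEtale_of_essFiniteType_of_map_maximalIdeal (D : Subalgebra R S) [IsLocalRing D]
    [IsLocalHom (algebraMap D S)] [Algebra.EssFiniteType R D]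
    (hm : (maximalIdeal R).map (algebraMap R D) = maximalIdeal D) :
    EGA4loc.IsEssentiallyEtale R D := by
  classical
  obtain ⟨e⟩ := nonempty_algEquiv_strict R S (Hs R)
  have hloc : IsLocalHom (algebraMap R D) := ⟨fun a ha => by
    have h1 : IsUnit (algebraMap R S a) := by
      have := ha.map (algebraMap D S)
      rwa [← IsScalarTower.algebraMap_apply] at this
    exact isUnit_of_map_unit (algebraMap R S) a h1⟩
  have hsepS : Algebra.IsSeparable (ResidueField R) (ResidueField S) := hS.isSepClosure.separable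
  have hsep : Algebra.IsSeparable (ResidueField R) (ResidueField D) :=
    Algebra.isSeparable_tower_bot_of_isSeparable _ (ResidueField D) (ResidueField S)
  have hunr : Algebra.FormallyUnramified R D := Algebra.FormallyUnramified.of_map_maximalIdeal hm
  -- units of `D` are detected in `Hs R`
  have hunitD : ∀ d : D, IsUnit d ↔ Hs.char R (e (d : S)) ≠ 0 := by
    intro d
    rw [Ne, Hs.char_eq_zero_iff, mem_maximalIdeal, mem_nonunits_iff, not_not]
    constructor
    · intro hd
      exact (hd.map (algebraMap D S)).map e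
    · intro hd
      have h1 : IsUnit (e.symm (e (d : S))) := hd.map e.symm
      rw [e.symm_apply_apply] at h1
      exact isUnit_of_map_unit (algebraMap D S) d h1
  -- the finite type model
  let D0 := Algebra.EssFiniteType.subalgebra R D
  let M := Algebra.EssFiniteType.submonoid R D
  have hML : IsLocalization M D := inferInstance
  let Q0 : Ideal D0 := (maximalIdeal D).comap (algebraMap D0 D)
  have hQ0 : Q0.IsPrime := Ideal.comap_isPrime _ _
  have hM : M = Q0.primeCompl := by
    ext x
    show IsUnit (algebraMap D0 D x) ↔ ¬ (algebraMap D0 D x ∈ maximalIdeal D)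
    rw [mem_maximalIdeal, mem_nonunits_iff, not_not]
  have hAt : IsLocalization.AtPrime D Q0 := by
    show IsLocalization Q0.primeCompl D
    rw [← hM]; exact hML
  let θ0 : Localization.AtPrime Q0 ≃ₐ[D0] D := IsLocalization.algEquiv Q0.primeCompl _ _
  have hunrAt : Algebra.IsUnramifiedAt R Q0 :=
    Algebra.FormallyUnramified.of_equiv (θ0.symm.restrictScalars R)
  obtain ⟨f, hf, P, φ, hφ⟩ :=
    Algebra.IsUnramifiedAt.exists_hasStandardEtaleSurjectionOn (R := R) Q0
  have hfu : IsUnit (algebraMap D0 D f) := by
    have : f ∈ Q0.primeCompl := hf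
    rw [← hM] at this
    exact this
  have hpow : ∀ y : Submonoid.powers f, IsUnit (Algebra.ofId D0 D (y : D0)) := by
    rintro ⟨_, n, rfl⟩
    show IsUnit (algebraMap D0 D (f ^ n))
    rw [map_pow]
    exact hfu.pow n
  let ρ0 : Localization.Away f →ₐ[D0] D :=
    IsLocalization.liftAlgHom (M := Submonoid.powers f) (f := Algebra.ofId D0 D) hpow
  have hρ0 : ∀ d0 : D0, ρ0 (algebraMap D0 (Localization.Away f) d0) = algebraMap D0 D d0 :=
    fun d0 => IsLocalization.lift_eq _ _
  let ψ : P.Ring →ₐ[R] D := (ρ0.restrictScalars R).comp φ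
  let χ : P.Ring →ₐ[R] Ks R := (Hs.char R).comp (e.toAlgHom.comp (D.val.comp ψ))
  have hχ : ∀ c, χ c = Hs.char R (e ((ψ c : D) : S)) := fun c => rfl
  have hunit : ∀ y : (cker χ).primeCompl, IsUnit (ψ (y : P.Ring)) := by
    intro y
    rw [hunitD, ← hχ]
    exact fun h0 => y.2 (mem_cker.mpr h0)
  let ψ' : Loc χ →ₐ[R] D :=
    IsLocalization.liftAlgHom (M := (cker χ).primeCompl) (f := ψ) hunit
  have hψ' : ∀ c, ψ' (algebraMap P.Ring (Loc χ) c) = ψ c := fun c => IsLocalization.lift_eq _ _
  let g : Loc χ →ₐ[R] Hs R := e.toAlgHom.comp (D.val.comp ψ')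
  have hg : ∀ x, Hs.char R (g x) = locChar χ x := by
    have : ((Hs.char R).comp g : Loc χ →+* Ks R) = (locChar χ : Loc χ →+* Ks R) := by
      apply IsLocalization.ringHom_ext (cker χ).primeCompl
      refine RingHom.ext fun c => ?_
      show Hs.char R (e ((ψ' (algebraMap P.Ring (Loc χ) c) : D) : S)) =
        locChar χ (algebraMap P.Ring (Loc χ) c)
      rw [hψ', locChar_algebraMap, hχ]
    intro x
    exact congrArg (fun F => F x) this
  have hginj : Function.Injective g := Hs.injective_of_char R χ g hg
  have hinj : Function.Injective ψ' := by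
    intro x y hxy
    apply hginj
    show e ((ψ' x : D) : S) = e ((ψ' y : D) : S)
    rw [hxy]
  have hsurj : Function.Surjective ψ' := by
    intro d
    obtain ⟨⟨d0, m⟩, hdm⟩ := IsLocalization.surj M d
    obtain ⟨c1, hc1⟩ := hφ (algebraMap D0 (Localization.Away f) d0)
    obtain ⟨c2, hc2⟩ := hφ (algebraMap D0 (Localization.Away f) (m : D0))
    have h1 : ψ c1 = algebraMap D0 D d0 := by
      show ρ0 (φ c1) = _
      rw [hc1, hρ0]
    have h2 : ψ c2 = algebraMap D0 D (m : D0) := by
      show ρ0 (φ c2) = _
      rw [hc2, hρ0]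
    have hmu : IsUnit (algebraMap D0 D (m : D0)) := m.2
    have hc2' : c2 ∈ (cker χ).primeCompl := by
      intro h0
      have h3 : IsUnit (ψ c2) := h2 ▸ hmu
      exact (hunitD _).mp h3 (mem_cker.mp h0)
    refine ⟨IsLocalization.mk' (Loc χ) c1 ⟨c2, hc2'⟩, ?_⟩
    have h4 := congrArg ψ' (IsLocalization.mk'_spec (Loc χ) c1 ⟨c2, hc2'⟩)
    rw [map_mul, hψ', hψ', h1, h2] at h4
    exact hmu.mul_left_injective (h4.trans hdm.symm)
  exact essEtale_of_algEquiv (AlgEquiv.ofBijective ψ' ⟨hinj, hsurj⟩) (essEtale χ)

end Groth.Agent.Lib.Helper4.Hzs
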