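import Mathlib
import Groth.Prelude.Def_Hensel
import Groth.Prelude.Def_EssEt
import Groth.Agent.Lib.Helper4.HzsSub2
import Groth.Agent.Lib.Helper4.HzsTensor

/-!
# Essentially étale local algebras embed in the strict henselization; composition
-/

set_option autoImplicit false
set_option linter.unusedSectionVars false
universe u

namespace Groth.Agent.Lib.Helper4.Hzs

open IsLocalRing Groth.Agent.Lib.Helper4.Hzn

/-- A strict henselization of `A` is a strict henselization of any essentially étale local
`A`-algebra mapping locally to it. -/
theorem isStrictHenselization_of_essEtale {A B S : Type u} [CommRing A] [IsLocalRing A]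
    [CommRing B] [IsLocalRing B] [Algebra A B] [IsLocalHom (algebraMap A B)]
    (hB : EGA4loc.IsEssentiallyEtale A B)
    [CommRing S] [IsLocalRing S] [Algebra A S] [IsLocalHom (algebraMap A S)]
    [Hensel.IsStrictHenselization A S]
    [Algebra B S] [IsScalarTower A B S] [IsLocalHom (algebraMap B S)] :
    Hensel.IsStrictHenselization B S := by
  refine isStrictHenselization_of_factor (B := A) (Bh := S) (D := B) (algebraMap A B) ?_ ?_
  · ext a
    exact (IsScalarTower.algebraMap_apply A B S a).symm
  · intro T _ _ f _ τ g h1 h2 h3
    let _ : Algebra A T := (f.comp (algebraMap A B)).toAlgebra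
    let ψ : B →ₐ[A] T := { f with commutes' := fun a => rfl }
    let ψ' : B →ₐ[A] T :=
      { g.comp (algebraMap B S) with
        commutes' := fun a => by
          show g (algebraMap B S (algebraMap A B a)) = f (algebraMap A B a)
          rw [← IsScalarTower.algebraMap_apply A B S]
          exact congrArg (fun F => F a) h2 }
    have hψ : ψ' = ψ := by
      refine EssEtale.algHom_ext hB ψ' ψ fun b => ?_
      rw [← residue_eq_zero_iff, map_sub, sub_eq_zero]
      show residue T (g (algebraMap B S b)) = residue T (f b)
      rw [h3]
      have := congrArg (fun F => F (residue B b)) h1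
      exact this
    ext b
    exact congrArg (fun F => F b) hψ

/-- An essentially étale local algebra embeds (locally, injectively) in a strict henselization of
the base, which is then a strict henselization of the algebra. -/
theorem exists_algebra_of_essEtale {A B : Type u} [CommRing A] [IsLocalRing A]
    [CommRing B] [IsLocalRing B] [Algebra A B] [IsLocalHom (algebraMap A B)]
    (hB : EGA4loc.IsEssentiallyEtale A B)
    (S : Type u) [CommRing S] [IsLocalRing S] [Algebra A S] [IsLocalHom (algebraMap A S)]
    [hS : Hensel.IsStrictHenselization A S] :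
    ∃ (_ : Algebra B S) (_ : IsScalarTower A B S) (_ : IsLocalHom (algebraMap B S)),
      Hensel.IsStrictHenselization B S ∧ Function.Injective (algebraMap B S) := by
  have hH : HenselianLocalRing S := hS.henselian
  have hc : IsSepClosure (ResidueField A) (ResidueField S) := hS.isSepClosure
  have hsc : IsSepClosed (ResidueField S) := hc.sep_closed
  have h1 : Algebra.EssFiniteType A B := EssEtale.essFiniteType hB
  have h2 : Algebra.FormallyEtale A B := EssEtale.formallyEtale hB
  have hsep : Algebra.IsSeparable (ResidueField A) (ResidueField B) := inferInstance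
  let α : ResidueField B →ₐ[ResidueField A] ResidueField S := IsSepClosed.lift
  obtain ⟨ψ, hψ⟩ := EssEtale.exists_lift hB S (α : ResidueField B →+* ResidueField S)
    (comp_residueField_map A α)
  let _ : Algebra B S := ψ.toRingHom.toAlgebra
  have hst : IsScalarTower A B S := IsScalarTower.of_algebraMap_eq fun a => (ψ.commutes a).symm
  have hloc : IsLocalHom (algebraMap B S) := by
    constructor
    intro b hb
    by_contra hnb
    have h3 : residue B b = 0 := (residue_eq_zero_iff b).mpr ((mem_maximalIdeal b).mpr hnb)
    have h4 : residue S (ψ b) = 0 := by rw [hψ, h3, map_zero]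
    have h5 : ψ b ∈ maximalIdeal S := (residue_eq_zero_iff _).mp h4
    exact (mem_maximalIdeal _).mp h5 hb
  have hsh : Hensel.IsStrictHenselization B S := isStrictHenselization_of_essEtale hB
  have hff : Module.FaithfullyFlat B S := faithfullyFlat_of_isStrictHenselization B S
  exact ⟨_, hst, hloc, hsh, FaithfulSMul.algebraMap_injective B S⟩

/-- Injective version of `essEtale_of_essFiniteType_of_map_maximalIdeal`. -/
theorem essEtale_of_injective {A S C : Type u} [CommRing A] [IsLocalRing A]
    [CommRing S] [IsLocalRing S] [Algebra A S] [IsLocalHom (algebraMap A S)]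
    [Hensel.IsStrictHenselization A S]
    [CommRing C] [IsLocalRing C] [Algebra A C] (φ : C →ₐ[A] S) (hinj : Function.Injective φ)
    (hloc : IsLocalHom φ) [Algebra.EssFiniteType A C]
    (hm : (maximalIdeal A).map (algebraMap A C) = maximalIdeal C) :
    EGA4loc.IsEssentiallyEtale A C := by
  let e : C ≃ₐ[A] φ.range := AlgEquiv.ofInjective φ hinj
  have hl : IsLocalRing φ.range := e.toRingEquiv.isLocalRing
  have hl' : IsLocalHom (algebraMap φ.range S) := by
    constructor
    rintro ⟨_, c, rfl⟩ hu
    have hu' : IsUnit (φ c) := hu
    exact (hloc.map_nonunit c hu').map e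
  have heft : Algebra.EssFiniteType A φ.range := (Algebra.EssFiniteType.iff_of_algEquiv e).1 inferInstance
  have hm' : (maximalIdeal A).map (algebraMap A φ.range) = maximalIdeal φ.range := by
    have h1 : (algebraMap A φ.range) = (e : C →+* φ.range).comp (algebraMap A C) := by
      ext a
      exact congrArg Subtype.val (e.commutes a).symm
    rw [h1, ← Ideal.map_map, hm]
    have hmax : ((maximalIdeal C).map (e : C →+* φ.range)).IsMaximal :=
      (Ideal.isMaximal_map_iff_of_bijective (e : C →+* φ.range) e.bijective).mpr
        (maximalIdeal.isMaximal C)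
    exact eq_maximalIdeal hmax
  have := essEtale_of_essFiniteType_of_map_maximalIdeal A S φ.range hm'
  exact essEtale_of_algEquiv e.symm this

theorem isLocalHom_of_essEtale {A B : Type u} [CommRing A] [IsLocalRing A] [CommRing B]
    [Algebra A B] (hB : EGA4loc.IsEssentiallyEtale A B) : IsLocalHom (algebraMap A B) := by
  obtain ⟨E, _, _, q, _, het, hq, ⟨e⟩⟩ := hB
  refine ⟨fun a ha => ?_⟩
  by_contra hna
  have h1 : a ∈ maximalIdeal A := (mem_maximalIdeal a).mpr hna
  rw [← hq, Ideal.mem_comap] at h1
  have h2 : algebraMap E (Localization.AtPrime q) (algebraMap A E a) ∈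
      maximalIdeal (Localization.AtPrime q) :=
    (IsLocalization.AtPrime.to_map_mem_maximal_iff (Localization.AtPrime q) q _).mpr h1
  rw [← IsScalarTower.algebraMap_apply A E (Localization.AtPrime q)] at h2
  have h3 : IsUnit (algebraMap A (Localization.AtPrime q) a) := by
    have := ha.map e
    rwa [e.commutes] at this
  exact (mem_maximalIdeal _).mp h2 h3

theorem isLocalRing_of_essEtale {A B : Type u} [CommRing A] [IsLocalRing A] [CommRing B]
    [Algebra A B] (hB : EGA4loc.IsEssentiallyEtale A B) : IsLocalRing B := by
  obtain ⟨E, _, _, q, _, het, hq, ⟨e⟩⟩ := hB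
  exact e.symm.toRingEquiv.isLocalRing

/-- **Composition of essentially étale local algebras.** -/
theorem essEtale_comp {A B C : Type u} [CommRing A] [IsLocalRing A] [CommRing B] [IsLocalRing B]
    [Algebra A B] [CommRing C] [Algebra B C] [Algebra A C] [IsScalarTower A B C]
    (hB : EGA4loc.IsEssentiallyEtale A B) (hC : EGA4loc.IsEssentiallyEtale B C) :
    EGA4loc.IsEssentiallyEtale A C := by
  have hlAB : IsLocalHom (algebraMap A B) := isLocalHom_of_essEtale hB
  have hlC : IsLocalRing C := isLocalRing_of_essEtale hC
  have hlBC : IsLocalHom (algebraMap B C) := isLocalHom_of_essEtale hC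
  obtain ⟨_, hst1, hloc1, hsh1, hinj1⟩ := exists_algebra_of_essEtale hB (Hs A)
  obtain ⟨_, hst2, hloc2, hsh2, hinj2⟩ := exists_algebra_of_essEtale hC (Hs A)
  have hst : IsScalarTower A C (Hs A) := by
    refine IsScalarTower.of_algebraMap_eq fun a => ?_
    rw [IsScalarTower.algebraMap_apply A B (Hs A), IsScalarTower.algebraMap_apply B C (Hs A),
      ← IsScalarTower.algebraMap_apply A B C]
  let φ : C →ₐ[A] Hs A := IsScalarTower.toAlgHom A C (Hs A)
  have h1 : Algebra.EssFiniteType A B := EssEtale.essFiniteType hB
  have h2 : Algebra.EssFiniteType B C := EssEtale.essFiniteType hC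
  have h3 : Algebra.EssFiniteType A C := Algebra.EssFiniteType.comp A B C
  have hm : (maximalIdeal A).map (algebraMap A C) = maximalIdeal C := by
    rw [IsScalarTower.algebraMap_eq A B C, ← Ideal.map_map, EssEtale.map_maximalIdeal hB,
      EssEtale.map_maximalIdeal hC]
  exact essEtale_of_injective φ hinj2 ⟨fun c hc => hloc2.map_nonunit c hc⟩ hm

end Groth.Agent.Lib.Helper4.Hzs
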