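import Mathlib
import Groth.Prelude.Def_Hensel
import Groth.Agent.Lib.Helper4.HznQF

/-!
# Tensor products of local rings over a local ring, with an integral purely inseparable factor
-/

set_option autoImplicit false
set_option linter.unusedSectionVars false
universe u

namespace Groth.Agent.Lib.Helper4.Hzs

open IsLocalRing TensorProduct

/-- The residue field extension of an integral local extension is integral. -/
theorem isIntegral_residueField_of_isIntegral (R S : Type u) [CommRing R] [IsLocalRing R]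
    [CommRing S] [IsLocalRing S] [Algebra R S] [IsLocalHom (algebraMap R S)]
    [Algebra.IsIntegral R S] : Algebra.IsIntegral (ResidueField R) (ResidueField S) := by
  refine ⟨fun x => ?_⟩
  obtain ⟨s, rfl⟩ := residue_surjective x
  have h1 : IsIntegral R (residue S s) :=
    (Algebra.IsIntegral.isIntegral (R := R) s).map (IsScalarTower.toAlgHom R S (ResidueField S))
  exact h1.tower_top

/-- A ring map compatible with a map of residue fields is local. -/
theorem isLocalHom_of_residue_compat {S T : Type u} [CommRing S] [IsLocalRing S] [CommRing T]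
    [IsLocalRing T] (g : S →+* T) (τ : ResidueField S →+* ResidueField T)
    (h : ∀ x, residue T (g x) = τ (residue S x)) : IsLocalHom g := by
  refine ⟨fun x hx => ?_⟩
  have h1 : residue T (g x) ≠ 0 := by
    intro h0
    rw [residue_eq_zero_iff] at h0
    exact (mem_maximalIdeal _).mp h0 hx
  rw [h] at h1
  have h2 : residue S x ≠ 0 := by
    intro h0
    rw [h0, map_zero] at h1
    exact h1 rfl
  by_contra hnu
  exact h2 ((residue_eq_zero_iff x).mpr ((mem_maximalIdeal x).mpr hnu))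

/-- Separability is preserved along a commutative square of fields. -/
theorem isSeparable_of_square {k K k' K' : Type*} [Field k] [Field K] [Field k'] [Field K']
    [Algebra k K] [Algebra k' K'] (v : k →+* k') (t : K →+* K')
    (h : t.comp (algebraMap k K) = (algebraMap k' K').comp v) {y : K} (hy : IsSeparable k y) :
    IsSeparable k' (t y) := by
  let _ : Algebra k k' := v.toAlgebra
  let _ : Algebra k K' := ((algebraMap k' K').comp v).toAlgebra
  have : IsScalarTower k k' K' := IsScalarTower.of_algebraMap_eq fun _ => rfl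
  let t' : K →ₐ[k] K' := { t with commutes' := fun x => congrArg (fun m => m x) h }
  have h1 : IsSeparable k (t' y) := hy.map t' t.injective
  exact h1.tower_top k'

section L1

variable (Ah Bh Ch : Type u) [CommRing Ah] [IsLocalRing Ah] [CommRing Bh] [IsLocalRing Bh]
  [CommRing Ch] [IsLocalRing Ch] [Algebra Ah Bh] [Algebra Ah Ch]
  [IsLocalHom (algebraMap Ah Bh)] [IsLocalHom (algebraMap Ah Ch)]

/-- `C ⊗_A B → κ(C) ⊗_{κ(A)} κ(B)`. -/
noncomputable def bcθ : Ch ⊗[Ah] Bh →ₐ[Ah] ResidueField Ch ⊗[ResidueField Ah] ResidueField Bh :=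
  (Algebra.TensorProduct.mapOfCompatibleSMul (ResidueField Ah) Ah Ah (ResidueField Ch)
    (ResidueField Bh)).comp
  (Algebra.TensorProduct.map (IsScalarTower.toAlgHom Ah Ch (ResidueField Ch))
    (IsScalarTower.toAlgHom Ah Bh (ResidueField Bh)))

theorem bcθ_tmul (c : Ch) (b : Bh) :
    bcθ Ah Bh Ch (c ⊗ₜ[Ah] b) = residue Ch c ⊗ₜ[ResidueField Ah] residue Bh b := rfl

variable [Algebra.IsIntegral Ah Bh]

/-- contraction of a maximal ideal to `C` -/
theorem bc_comap_left (𝔫 : Ideal (Ch ⊗[Ah] Bh)) [𝔫.IsMaximal] :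
    𝔫.comap (algebraMap Ch (Ch ⊗[Ah] Bh)) = maximalIdeal Ch :=
  IsLocalRing.eq_maximalIdeal (Ideal.isMaximal_comap_of_isIntegral_of_isMaximal 𝔫)

/-- contraction of a maximal ideal to `B` -/
theorem bc_comap_right (𝔫 : Ideal (Ch ⊗[Ah] Bh)) [𝔫.IsMaximal] :
    𝔫.comap (Algebra.TensorProduct.includeRight : Bh →ₐ[Ah] Ch ⊗[Ah] Bh).toRingHom =
      maximalIdeal Bh := by
  set 𝔭 := 𝔫.comap (Algebra.TensorProduct.includeRight : Bh →ₐ[Ah] Ch ⊗[Ah] Bh).toRingHom with h𝔭
  have hprime : 𝔭.IsPrime := Ideal.comap_isPrime _ _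
  have h1 : 𝔭.comap (algebraMap Ah Bh) = maximalIdeal Ah := by
    have h2 : 𝔭.comap (algebraMap Ah Bh) =
        (𝔫.comap (algebraMap Ch (Ch ⊗[Ah] Bh))).comap (algebraMap Ah Ch) := by
      rw [h𝔭, Ideal.comap_comap, Ideal.comap_comap]
      congr 1
      ext a
      simp only [RingHom.comp_apply, AlgHom.toRingHom_eq_coe, RingHom.coe_coe, AlgHom.commutes]
      rw [← IsScalarTower.algebraMap_apply Ah Ch (Ch ⊗[Ah] Bh)]
    rw [h2, bc_comap_left]
    exact ((local_hom_TFAE (algebraMap Ah Ch)).out 0 4).mp (inferInstance : IsLocalHom (algebraMap Ah Ch))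
  have hmax : 𝔭.IsMaximal :=
    Ideal.isMaximal_of_isIntegral_of_isMaximal_comap 𝔭 (h1 ▸ maximalIdeal.isMaximal Ah)
  exact IsLocalRing.eq_maximalIdeal hmax

variable [IsPurelyInseparable (ResidueField Ah) (ResidueField Bh)]

theorem bc_prime_unique (P₁ P₂ : Ideal (ResidueField Ch ⊗[ResidueField Ah] ResidueField Bh))
    [P₁.IsPrime] [P₂.IsPrime] : P₁ = P₂ := by
  have h := PrimeSpectrum.isHomeomorph_comap_of_isPurelyInseparable (ResidueField Ah)
    (ResidueField Bh) (ResidueField Ch)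
  have h1 : (⟨P₁, inferInstance⟩ : PrimeSpectrum _) = ⟨P₂, inferInstance⟩ :=
    h.injective (Subsingleton.elim _ _)
  exact congrArg PrimeSpectrum.asIdeal h1

theorem bc_nontrivial : Nontrivial (Ch ⊗[Ah] Bh) := by
  have h := PrimeSpectrum.isHomeomorph_comap_of_isPurelyInseparable (ResidueField Ah)
    (ResidueField Bh) (ResidueField Ch)
  obtain ⟨P, -⟩ := h.surjective default
  have : Nontrivial (ResidueField Ch ⊗[ResidueField Ah] ResidueField Bh) :=
    PrimeSpectrum.nonempty_iff_nontrivial.mp ⟨P⟩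
  exact (bcθ Ah Bh Ch).toRingHom.domain_nontrivial

/-- every maximal ideal is the preimage of the unique prime of `κ(C) ⊗ κ(B)`. -/
theorem bc_exists_factor (𝔫 : Ideal (Ch ⊗[Ah] Bh)) [h𝔫 : 𝔫.IsMaximal] :
    ∃ P : Ideal (ResidueField Ch ⊗[ResidueField Ah] ResidueField Bh), P.IsPrime ∧
      𝔫 = P.comap (bcθ Ah Bh Ch).toRingHom := by
  let L := (Ch ⊗[Ah] Bh) ⧸ 𝔫
  let _ : Field L := Ideal.Quotient.field 𝔫
  let π : Ch ⊗[Ah] Bh →+* L := Ideal.Quotient.mk 𝔫
  -- the two maps of residue fields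
  let fC : Ch →+* L := π.comp (algebraMap Ch (Ch ⊗[Ah] Bh))
  let fB : Bh →+* L := π.comp (Algebra.TensorProduct.includeRight : Bh →ₐ[Ah] Ch ⊗[Ah] Bh).toRingHom
  have hfC : ∀ c ∈ maximalIdeal Ch, fC c = 0 := by
    intro c hc
    rw [← bc_comap_left Ah Bh Ch 𝔫] at hc
    exact Ideal.Quotient.eq_zero_iff_mem.mpr hc
  have hfB : ∀ b ∈ maximalIdeal Bh, fB b = 0 := by
    intro b hb
    rw [← bc_comap_right Ah Bh Ch 𝔫] at hb
    exact Ideal.Quotient.eq_zero_iff_mem.mpr hb
  let ρC : ResidueField Ch →+* L := Ideal.Quotient.lift (maximalIdeal Ch) fC hfC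
  let ρB : ResidueField Bh →+* L := Ideal.Quotient.lift (maximalIdeal Bh) fB hfB
  have hρC : ∀ c, ρC (residue Ch c) = π (c ⊗ₜ[Ah] (1 : Bh)) := fun c => rfl
  have hρB : ∀ b, ρB (residue Bh b) = π ((1 : Ch) ⊗ₜ[Ah] b) := fun b => rfl
  let _ : Algebra (ResidueField Ch) L := ρC.toAlgebra
  let _ : Algebra (ResidueField Ah) L := (ρC.comp (algebraMap _ _)).toAlgebra
  have : IsScalarTower (ResidueField Ah) (ResidueField Ch) L :=
    IsScalarTower.of_algebraMap_eq fun _ => rfl
  let ρB' : ResidueField Bh →ₐ[ResidueField Ah] L :=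
    { ρB with
      commutes' := fun x => by
        obtain ⟨a, rfl⟩ := residue_surjective x
        change ρB (algebraMap (ResidueField Ah) (ResidueField Bh) (residue Ah a)) =
          ρC (algebraMap (ResidueField Ah) (ResidueField Ch) (residue Ah a))
        rw [ResidueField.algebraMap_residue, ResidueField.algebraMap_residue, hρB, hρC]
        congr 1
        rw [Algebra.algebraMap_eq_smul_one, Algebra.algebraMap_eq_smul_one, TensorProduct.smul_tmul] }
  let χ : ResidueField Ch ⊗[ResidueField Ah] ResidueField Bh →ₐ[ResidueField Ch] L :=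
    Algebra.TensorProduct.lift (Algebra.ofId _ _) ρB' (fun _ _ => Commute.all _ _)
  have hχ : ∀ x, χ (bcθ Ah Bh Ch x) = π x := by
    intro x
    induction x using TensorProduct.induction_on with
    | zero => simp
    | tmul c b =>
      rw [bcθ_tmul, Algebra.TensorProduct.lift_tmul]
      change ρC (residue Ch c) * ρB (residue Bh b) = _
      rw [hρC, hρB, ← map_mul, Algebra.TensorProduct.tmul_mul_tmul, mul_one, one_mul]
    | add x y hx hy => rw [map_add, map_add, map_add, hx, hy]
  refine ⟨RingHom.ker χ.toRingHom, RingHom.ker_isPrime _, ?_⟩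
  ext x
  rw [Ideal.mem_comap, RingHom.mem_ker]
  change x ∈ 𝔫 ↔ χ (bcθ Ah Bh Ch x) = 0
  rw [hχ]
  exact Ideal.Quotient.eq_zero_iff_mem.symm

/-- **`C ⊗_A B` is local.** -/
theorem bc_isLocalRing : IsLocalRing (Ch ⊗[Ah] Bh) := by
  have := bc_nontrivial Ah Bh Ch
  obtain ⟨𝔫₀, h𝔫₀⟩ := Ideal.exists_maximal (Ch ⊗[Ah] Bh)
  refine IsLocalRing.of_unique_max_ideal ⟨𝔫₀, h𝔫₀, fun 𝔫 h𝔫 => ?_⟩
  obtain ⟨P, hP, h1⟩ := bc_exists_factor Ah Bh Ch 𝔫
  obtain ⟨P₀, hP₀, h2⟩ := bc_exists_factor Ah Bh Ch 𝔫₀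
  rw [h1, h2, bc_prime_unique Ah Bh Ch P P₀]


/-- `C → C ⊗_A B` is local. -/
theorem bc_isLocalHom_left [IsLocalRing (Ch ⊗[Ah] Bh)] :
    IsLocalHom (algebraMap Ch (Ch ⊗[Ah] Bh)) := by
  apply ((local_hom_TFAE (algebraMap Ch (Ch ⊗[Ah] Bh))).out 0 4).mpr
  exact bc_comap_left Ah Bh Ch (maximalIdeal _)

/-- `B → C ⊗_A B` is local. -/
theorem bc_isLocalHom_right [IsLocalRing (Ch ⊗[Ah] Bh)] :
    IsLocalHom (Algebra.TensorProduct.includeRight : Bh →ₐ[Ah] Ch ⊗[Ah] Bh).toRingHom := by
  apply ((local_hom_TFAE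
    (Algebra.TensorProduct.includeRight : Bh →ₐ[Ah] Ch ⊗[Ah] Bh).toRingHom).out 0 4).mpr
  exact bc_comap_right Ah Bh Ch (maximalIdeal _)

/-- If `C` is henselian then so is `C ⊗_A B`. -/
theorem bc_henselian [HenselianLocalRing Ch] [IsLocalRing (Ch ⊗[Ah] Bh)] :
    HenselianLocalRing (Ch ⊗[Ah] Bh) :=
  Hzn.henselianLocalRing_of_isIntegral Ch (Ch ⊗[Ah] Bh)

/-- If `κ(C)` is separably closed then so is the residue field of `C ⊗_A B`. -/
theorem bc_isSepClosed [IsSepClosed (ResidueField Ch)] [IsLocalRing (Ch ⊗[Ah] Bh)] :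
    IsSepClosed (ResidueField (Ch ⊗[Ah] Bh)) := by
  have := bc_isLocalHom_left Ah Bh Ch
  have := isIntegral_residueField_of_isIntegral Ch (Ch ⊗[Ah] Bh)
  exact Algebra.IsAlgebraic.isSepClosed (F := ResidueField Ch)

end L1

section L4

variable (R : Type u) [CommRing R] [IsLocalRing R]
variable (S₁ S₂ : Type u) [CommRing S₁] [IsLocalRing S₁] [Algebra R S₁]
  [IsLocalHom (algebraMap R S₁)] [h₁ : Hensel.IsStrictHenselization R S₁]
  [CommRing S₂] [IsLocalRing S₂] [Algebra R S₂]
  [IsLocalHom (algebraMap R S₂)] [h₂ : Hensel.IsStrictHenselization R S₂]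

include h₁ h₂ in
/-- A local `R`-algebra map between two strict henselizations of `R` is bijective. -/
theorem bijective_of_isStrictHenselization (φ : S₁ →+* S₂) [hφ : IsLocalHom φ]
    (hcomp : φ.comp (algebraMap R S₁) = algebraMap R S₂) : Function.Bijective φ := by
  have hH₁ : HenselianLocalRing S₁ := h₁.henselian
  have hH₂ : HenselianLocalRing S₂ := h₂.henselian
  have hc₁ : IsSepClosure (ResidueField R) (ResidueField S₁) := h₁.isSepClosure
  have hc₂ : IsSepClosure (ResidueField R) (ResidueField S₂) := h₂.isSepClosure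
  have hsc₁ : IsSepClosed (ResidueField S₁) := hc₁.sep_closed
  have hsep₂ : Algebra.IsSeparable (ResidueField R) (ResidueField S₂) := hc₂.separable
  let _ : Algebra S₁ S₂ := φ.toAlgebra
  have : IsLocalHom (algebraMap S₁ S₂) := hφ
  have : IsScalarTower R S₁ S₂ := IsScalarTower.of_algebraMap_eq' hcomp.symm
  have hsep : Algebra.IsSeparable (ResidueField S₁) (ResidueField S₂) :=
    Algebra.isSeparable_tower_top_of_isSeparable (ResidueField R) (ResidueField S₁)
      (ResidueField S₂)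
  have hbij : Function.Bijective (algebraMap (ResidueField S₁) (ResidueField S₂)) :=
    IsSepClosed.algebraMap_bijective _ _
  let τ : ResidueField S₁ ≃+* ResidueField S₂ :=
    RingEquiv.ofBijective (algebraMap (ResidueField S₁) (ResidueField S₂)) hbij
  have hτ : ∀ x : S₁, τ (residue S₁ x) = residue S₂ (φ x) := fun x => rfl
  have hτR : ∀ r : R, τ (residue S₁ (algebraMap R S₁ r)) = residue S₂ (algebraMap R S₂ r) := by
    intro r
    rw [hτ, ← hcomp]
    rfl
  -- the inverse
  have hcond : (τ.symm : ResidueField S₂ →+* ResidueField S₁).comp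
      (ResidueField.map (algebraMap R S₂)) = ResidueField.map (algebraMap R S₁) := by
    ext y
    obtain ⟨r, rfl⟩ := residue_surjective y
    change τ.symm (residue S₂ (algebraMap R S₂ r)) = residue S₁ (algebraMap R S₁ r)
    rw [← hτR, τ.symm_apply_apply]
  obtain ⟨ψ, ⟨hψ1, hψ2⟩, -⟩ := h₂.universal S₁ (algebraMap R S₁)
    (τ.symm : ResidueField S₂ →+* ResidueField S₁) hcond
  have hid₂ : (RingHom.id (ResidueField S₂)).comp (ResidueField.map (algebraMap R S₂)) =
      ResidueField.map (algebraMap R S₂) := RingHom.id_comp _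
  have hid₁ : (RingHom.id (ResidueField S₁)).comp (ResidueField.map (algebraMap R S₁)) =
      ResidueField.map (algebraMap R S₁) := RingHom.id_comp _
  have e₂ : φ.comp ψ = RingHom.id S₂ := by
    refine (h₂.universal S₂ (algebraMap R S₂) (RingHom.id _) hid₂).unique ⟨?_, ?_⟩ ⟨rfl, fun x => rfl⟩
    · rw [RingHom.comp_assoc, hψ1, hcomp]
    · intro x
      change residue S₂ (φ (ψ x)) = residue S₂ x
      rw [← hτ, hψ2]
      exact τ.apply_symm_apply _
  have e₁ : ψ.comp φ = RingHom.id S₁ := by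
    refine (h₁.universal S₁ (algebraMap R S₁) (RingHom.id _) hid₁).unique ⟨?_, ?_⟩ ⟨rfl, fun x => rfl⟩
    · rw [RingHom.comp_assoc, hcomp, hψ1]
    · intro x
      change residue S₁ (ψ (φ x)) = residue S₁ x
      rw [hψ2, ← hτ]
      exact τ.symm_apply_apply _
  constructor
  · intro x y hxy
    have := congrArg ψ hxy
    have hx := congrArg (fun m => m x) e₁
    have hy := congrArg (fun m => m y) e₁
    simp only [RingHom.comp_apply, RingHom.id_apply] at hx hy
    rw [hx, hy] at this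
    exact this
  · intro y
    exact ⟨ψ y, congrArg (fun m => m y) e₂⟩

end L4

end Groth.Agent.Lib.Helper4.Hzs
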