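import Mathlib
import Groth.Prelude.Def_Hensel
import Groth.Agent.Lib.Helper4.HenselEtale
import Groth.Agent.Lib.Helper4.HzsBC1
import Groth.Agent.Lib.Helper4.HzsStrict

/-!
# Auxiliary results for the unibranch criteria
-/

set_option autoImplicit false
set_option linter.unusedSectionVars false
universe u

namespace Groth.Agent.Lib.Helper4.Unibr

open IsLocalRing TensorProduct

/-- A domain which is integral over a henselian local ring is local. -/
theorem isLocalRing_of_isDomain_of_isIntegral (S D : Type u) [CommRing S] [HenselianLocalRing S]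
    [CommRing D] [IsDomain D] [Algebra S D] [Algebra.IsIntegral S D] : IsLocalRing D := by
  classical
  obtain ⟨𝔫₀, h𝔫₀⟩ := Ideal.exists_maximal D
  refine IsLocalRing.of_unique_max_ideal ⟨𝔫₀, h𝔫₀, fun 𝔫 h𝔫 => ?_⟩
  by_contra hne
  obtain ⟨x, hx, hx0⟩ : ∃ x ∈ 𝔫, x ∉ 𝔫₀ := by
    by_contra hall
    push Not at hall
    exact hne (h𝔫.eq_of_le h𝔫₀.ne_top hall)
  let D₀ : Subalgebra S D := Algebra.adjoin S {x}
  have hfin : Module.Finite S D₀ :=
    Algebra.finite_adjoin_simple_of_isIntegral (Algebra.IsIntegral.isIntegral x)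
  have hint : Algebra.IsIntegral D₀ D := Algebra.IsIntegral.tower_top (R := S)
  obtain ⟨n, ε, hε, hlast, huniq⟩ := exists_idempotents_of_finite_of_henselian (R := S) D₀
  have h01 : ∀ i, ε i = 0 ∨ ε i = 1 := fun i =>
    IsIdempotentElem.iff_eq_zero_or_one.mp (hε.idem i)
  obtain ⟨i, hi⟩ : ∃ i, ε i = 1 := by
    by_contra hall
    push Not at hall
    have h0 : ∑ i, ε i = 0 := Finset.sum_eq_zero fun i _ => (h01 i).resolve_right (hall i)
    rw [hε.complete] at h0
    exact one_ne_zero h0
  have hi' : i ≠ Fin.last n := fun h => by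
    rw [h, hlast] at hi
    exact zero_ne_one hi
  obtain ⟨j, rfl⟩ : ∃ j : Fin n, i = j.castSucc := ⟨i.castPred hi', by simp⟩
  have h1 : (𝔫.comap (algebraMap D₀ D)).IsMaximal :=
    Ideal.isMaximal_comap_of_isIntegral_of_isMaximal 𝔫
  have h2 : (𝔫₀.comap (algebraMap D₀ D)).IsMaximal :=
    Ideal.isMaximal_comap_of_isIntegral_of_isMaximal 𝔫₀
  have h3 := huniq j _ _ h1 h2
    (by rw [hi]; exact fun h => h1.ne_top ((Ideal.eq_top_iff_one _).mpr h))
    (by rw [hi]; exact fun h => h2.ne_top ((Ideal.eq_top_iff_one _).mpr h))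
  have hxmem : (⟨x, Algebra.subset_adjoin (Set.mem_singleton x)⟩ : D₀) ∈
      𝔫.comap (algebraMap D₀ D) := hx
  rw [h3] at hxmem
  exact hx0 hxmem

/-- `S ⊗_R B` is a domain when `S` is a flat domain over the domain `R` and `B` embeds into the
fraction field of `R`. -/
theorem isDomain_tensor_of_isFractionRing (R S B K : Type u) [CommRing R] [IsDomain R]
    [CommRing S] [IsDomain S] [Algebra R S] [Module.Flat R S]
    (hinj : Function.Injective (algebraMap R S)) [Field K] [Algebra R K] [IsFractionRing R K]
    [CommRing B] [Algebra R B] [Algebra B K] [IsScalarTower R B K]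
    (hB : Function.Injective (algebraMap B K)) : IsDomain (S ⊗[R] B) := by
  have hloc : IsLocalization (Algebra.algebraMapSubmonoid S (nonZeroDivisors R)) (S ⊗[R] K) :=
    IsLocalization.tensor K (nonZeroDivisors R)
  have hle : Algebra.algebraMapSubmonoid S (nonZeroDivisors R) ≤ nonZeroDivisors S := by
    rintro _ ⟨r, hr, rfl⟩
    apply mem_nonZeroDivisors_of_ne_zero
    rw [Ne, map_eq_zero_iff _ hinj]
    exact nonZeroDivisors.ne_zero hr
  have hdom : IsDomain (S ⊗[R] K) := IsLocalization.isDomain_of_le_nonZeroDivisors _ hle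
  let φ : S ⊗[R] B →ₐ[S] S ⊗[R] K :=
    Algebra.TensorProduct.map (AlgHom.id S S) (IsScalarTower.toAlgHom R B K)
  have hφ : Function.Injective φ := by
    have h1 := Module.Flat.lTensor_preserves_injective_linearMap (M := S)
      (IsScalarTower.toAlgHom R B K).toLinearMap hB
    intro x y hxy
    apply h1
    exact hxy
  exact hφ.isDomain φ.toRingHom

open Polynomial in
/-- If `ks ⊗_k k'` is local, `ks` separably closed and `k'/k` algebraic, then `k'/k` is purely
inseparable. -/
theorem isPurelyInseparable_of_isLocalRing_tensor (k ks k' : Type u) [Field k] [Field ks]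
    [Field k'] [Algebra k ks] [Algebra k k'] [IsSepClosed ks] [Algebra.IsAlgebraic k k']
    [IsLocalRing (ks ⊗[k] k')] : IsPurelyInseparable k k' := by
  classical
  rw [isPurelyInseparable_iff]
  intro α
  have hαint : IsIntegral k α := (Algebra.IsAlgebraic.isAlgebraic α).isIntegral
  refine ⟨hαint, fun hsep => ?_⟩
  set L := ks ⊗[k] k' with hL
  set f := minpoly k α with hf
  have hfsep : f.Separable := hsep
  have hsplit : (f.map (algebraMap k ks)).Splits := IsSepClosed.splits_codomain _ hfsep
  set β : L := (1 : ks) ⊗ₜ[k] α with hβdef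
  have hβ : Polynomial.aeval β (f.map (algebraMap k ks)) = 0 := by
    rw [Polynomial.aeval_map_algebraMap]
    have h1 : β = (Algebra.TensorProduct.includeRight : k' →ₐ[k] L) α := rfl
    rw [h1, Polynomial.aeval_algHom_apply, hf, minpoly.aeval, map_zero]
  have hprod := hsplit.eq_prod_roots_of_monic ((minpoly.monic hαint).map _)
  have hnodup : (f.map (algebraMap k ks)).roots.Nodup := Polynomial.nodup_roots hfsep.map
  set rts := (f.map (algebraMap k ks)).roots with hrts
  have hβ2 : (rts.map fun a => β - algebraMap ks L a).prod = 0 := by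
    rw [hprod] at hβ
    rw [← hβ, map_multiset_prod, Multiset.map_map]
    congr 1
    apply Multiset.map_congr rfl
    intro a _
    simp
  -- pass to the residue field
  have hβ3 : (rts.map fun a => residue L (β - algebraMap ks L a)).prod = 0 := by
    have h1 := congrArg (residue L) hβ2
    rwa [map_multiset_prod, Multiset.map_map, map_zero] at h1
  rw [Multiset.prod_eq_zero_iff] at hβ3
  obtain ⟨a₀, ha₀, ha₀0⟩ := Multiset.mem_map.mp hβ3
  rw [residue_eq_zero_iff] at ha₀0
  have hunit : ∀ a ∈ rts.erase a₀, IsUnit (β - algebraMap ks L a) := by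
    intro a ha
    rw [hnodup.mem_erase_iff] at ha
    have h1 : IsUnit (algebraMap ks L (a₀ - a)) :=
      (isUnit_iff_ne_zero.mpr (sub_ne_zero.mpr (Ne.symm ha.1))).map _
    have h2 : β - algebraMap ks L a = (β - algebraMap ks L a₀) + algebraMap ks L (a₀ - a) := by
      rw [map_sub]; ring
    rw [h2]
    by_contra hnu
    have h3 := (maximalIdeal L).sub_mem ((mem_maximalIdeal _).mpr hnu) ha₀0
    rw [add_sub_cancel_left] at h3
    exact (mem_maximalIdeal _).mp h3 h1
  have hsplit2 : (β - algebraMap ks L a₀) *
      ((rts.erase a₀).map fun a => β - algebraMap ks L a).prod = 0 := by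
    rw [Multiset.prod_map_erase (f := fun a => β - algebraMap ks L a) ha₀]
    exact hβ2
  have hu2 : IsUnit ((rts.erase a₀).map fun a => β - algebraMap ks L a).prod := by
    apply Multiset.prod_induction (p := IsUnit)
    · intro a b ha hb
      exact ha.mul hb
    · exact isUnit_one
    · intro x hx
      obtain ⟨a, ha, rfl⟩ := Multiset.mem_map.mp hx
      exact hunit a ha
  have hβeq : β = algebraMap ks L a₀ := by
    have := hu2.mul_left_eq_zero.mp hsplit2
    exact sub_eq_zero.mp this
  -- a linear functional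
  obtain ⟨φ, hφ⟩ := LinearMap.exists_leftInverse_of_injective (Algebra.linearMap k k')
    (LinearMap.ker_eq_bot.mpr (algebraMap k k').injective)
  have hφ1 : φ 1 = 1 := by
    have := congrArg (fun g => g 1) hφ
    simpa using this
  have hβeq' : ((1 : ks) ⊗ₜ[k] α : ks ⊗[k] k') = a₀ ⊗ₜ[k] (1 : k') := hβeq
  have h4 := congrArg (fun z => TensorProduct.rid k ks (LinearMap.lTensor ks φ z)) hβeq'
  simp only [LinearMap.lTensor_tmul, TensorProduct.rid_tmul, hφ1, one_smul] at h4
  have h5 : (Algebra.TensorProduct.includeRight : k' →ₐ[k] L) α =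
      (Algebra.TensorProduct.includeRight : k' →ₐ[k] L) (algebraMap k k' (φ α)) := by
    change ((1 : ks) ⊗ₜ[k] α : ks ⊗[k] k') = (1 : ks) ⊗ₜ[k] (algebraMap k k' (φ α))
    rw [hβeq', ← h4, Algebra.algebraMap_eq_smul_one (φ α), TensorProduct.smul_tmul]
  have hinj : Function.Injective (Algebra.TensorProduct.includeRight : k' →ₐ[k] L) :=
    Algebra.TensorProduct.includeRight_injective (algebraMap k ks).injective
  exact ⟨φ α, (hinj h5).symm⟩

section StrictTensor

variable (A B S : Type u) [CommRing A] [IsLocalRing A]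
    [CommRing B] [IsLocalRing B] [Algebra A B] [IsLocalHom (algebraMap A B)]
    [CommRing S] [IsLocalRing S] [Algebra A S] [IsLocalHom (algebraMap A S)]

theorem tmul_eq_mul (s : S) (b : B) :
    (s ⊗ₜ[A] b : S ⊗[A] B) = (s ⊗ₜ[A] (1 : B)) * ((1 : S) ⊗ₜ[A] b) := by
  rw [Algebra.TensorProduct.tmul_mul_tmul, mul_one, one_mul]

theorem algebraMap_tmul_one (a : A) :
    ((algebraMap A S a) ⊗ₜ[A] (1 : B) : S ⊗[A] B) = (1 : S) ⊗ₜ[A] (algebraMap A B a) := by
  rw [Algebra.algebraMap_eq_smul_one, Algebra.algebraMap_eq_smul_one, TensorProduct.smul_tmul]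

/-- **The strict henselization of an integral local algebra with purely inseparable residue
field extension is the tensor product.** -/
theorem isStrictHenselization_tensor_of_integral_local [Algebra.IsIntegral A B]
    [IsPurelyInseparable (ResidueField A) (ResidueField B)]
    [hS : Hensel.IsStrictHenselization A S] :
    ∃ (_ : IsLocalRing (S ⊗[A] B)),
      letI : Algebra B (S ⊗[A] B) := Algebra.TensorProduct.rightAlgebra
      ∃ (_ : IsLocalHom (algebraMap B (S ⊗[A] B))), Hensel.IsStrictHenselization B (S ⊗[A] B) := by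
  have hSh : HenselianLocalRing S := hS.henselian
  have hloc : IsLocalRing (S ⊗[A] B) := Hzs.bc_isLocalRing A B S
  refine ⟨hloc, ?_⟩
  let _ : Algebra B (S ⊗[A] B) := Algebra.TensorProduct.rightAlgebra
  have hlocR : IsLocalHom (algebraMap B (S ⊗[A] B)) := Hzs.bc_isLocalHom_right A B S
  refine ⟨hlocR, ?_⟩
  have hlocL : IsLocalHom (algebraMap S (S ⊗[A] B)) := Hzs.bc_isLocalHom_left A B S
  have hhens : HenselianLocalRing (S ⊗[A] B) := Hzs.bc_henselian A B S
  have hsc : IsSepClosed (ResidueField S) := hS.isSepClosure.sep_closed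
  have hscD : IsSepClosed (ResidueField (S ⊗[A] B)) := Hzs.bc_isSepClosed A B S
  have hmapS : ∀ s : S, algebraMap S (S ⊗[A] B) s = s ⊗ₜ[A] (1 : B) := fun s => rfl
  have hmapB : ∀ b : B, algebraMap B (S ⊗[A] B) b = (1 : S) ⊗ₜ[A] b := fun b => rfl
  have hsq : (ResidueField.map (algebraMap S (S ⊗[A] B))).comp
      (algebraMap (ResidueField A) (ResidueField S)) =
      (algebraMap (ResidueField B) (ResidueField (S ⊗[A] B))).comp
        (algebraMap (ResidueField A) (ResidueField B)) := by
    refine RingHom.ext fun x => ?_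
    obtain ⟨a, rfl⟩ := residue_surjective x
    rw [RingHom.comp_apply, RingHom.comp_apply, ResidueField.algebraMap_residue,
      ResidueField.algebraMap_residue, ResidueField.algebraMap_residue, ResidueField.map_residue,
      hmapS, hmapB, algebraMap_tmul_one]
  have hsepD : Algebra.IsSeparable (ResidueField B) (ResidueField (S ⊗[A] B)) := by
    refine ⟨fun y => ?_⟩
    obtain ⟨x, rfl⟩ := residue_surjective y
    induction x using TensorProduct.induction_on with
    | zero =>
      rw [map_zero, ← map_zero (algebraMap (ResidueField B) (ResidueField (S ⊗[A] B)))]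
      exact isSeparable_algebraMap _
    | tmul s b =>
      rw [tmul_eq_mul, map_mul]
      refine Field.isSeparable_mul ?_ ?_
      · have hs : IsSeparable (ResidueField A) (residue S s) :=
          hS.isSepClosure.separable.isSeparable _ _
        have := Hzs.isSeparable_of_square (algebraMap (ResidueField A) (ResidueField B))
          (ResidueField.map (algebraMap S (S ⊗[A] B))) hsq hs
        rwa [ResidueField.map_residue, hmapS] at this
      · rw [← hmapB, ← ResidueField.algebraMap_residue]
        exact isSeparable_algebraMap _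
    | add x y hx hy => rw [map_add]; exact Field.isSeparable_add hx hy
  have hs : IsSepClosure (ResidueField B) (ResidueField (S ⊗[A] B)) := ⟨hscD, hsepD⟩
  refine Hzs.isStrictHenselization_of B (S ⊗[A] B) hhens hs ?_
  intro T _ _ _ _ τ hτ
  let _ : Algebra A T := ((algebraMap B T).comp (algebraMap A B)).toAlgebra
  have htow : IsScalarTower A B T := IsScalarTower.of_algebraMap_eq fun _ => rfl
  have hlocAT : IsLocalHom (algebraMap A T) :=
    RingHom.isLocalHom_comp (algebraMap B T) (algebraMap A B)
  let τS : ResidueField S →+* ResidueField T :=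
    τ.comp (ResidueField.map (algebraMap S (S ⊗[A] B)))
  have hτS : τS.comp (ResidueField.map (algebraMap A S)) = ResidueField.map (algebraMap A T) := by
    refine RingHom.ext fun x => ?_
    obtain ⟨a, rfl⟩ := residue_surjective x
    rw [RingHom.comp_apply, RingHom.comp_apply, ResidueField.map_residue,
      ResidueField.map_residue, ResidueField.map_residue, hmapS, algebraMap_tmul_one, ← hmapB, hτ]
    rfl
  obtain ⟨g₀, ⟨hg₀1, hg₀2⟩, hg₀u⟩ := hS.universal T (algebraMap A T) τS hτS
  let g₀' : S →ₐ[A] T := { g₀ with commutes' := fun a => congrArg (fun m => m a) hg₀1 }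
  let h : S ⊗[A] B →ₐ[A] T :=
    Algebra.TensorProduct.lift g₀' (IsScalarTower.toAlgHom A B T) (fun _ _ => Commute.all _ _)
  have hh : ∀ (s : S) (b : B), h (s ⊗ₜ[A] b) = g₀ s * algebraMap B T b := fun s b =>
    Algebra.TensorProduct.lift_tmul _ _ _ s b
  let hB : S ⊗[A] B →ₐ[B] T :=
    { h.toRingHom with
      commutes' := fun b => by
        change h ((1 : S) ⊗ₜ[A] b) = _
        rw [hh, map_one, one_mul] }
  have hres : ∀ x, residue T (hB x) = τ (residue _ x) := by
    intro x
    induction x using TensorProduct.induction_on with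
    | zero => simp
    | tmul s b =>
      change residue T (h (s ⊗ₜ[A] b)) = _
      rw [hh, map_mul, tmul_eq_mul, map_mul, map_mul, ← hmapB, hτ, hg₀2 s]
      rfl
    | add x y hx hy => rw [map_add, map_add, map_add, map_add, hx, hy]
  refine ⟨hB, hres, fun h' hh' => ?_⟩
  have h1 : (h'.toRingHom.comp (algebraMap S (S ⊗[A] B))) = g₀ := by
    apply hg₀u
    constructor
    · refine RingHom.ext fun a => ?_
      change h' (algebraMap S _ (algebraMap A S a)) = algebraMap A T a
      rw [hmapS, algebraMap_tmul_one, ← hmapB, h'.commutes]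
      rfl
    · intro s
      change residue T (h' (algebraMap S _ s)) = τS (residue S s)
      rw [hh']
      rfl
  apply AlgHom.ext
  intro x
  induction x using TensorProduct.induction_on with
  | zero => simp
  | tmul s b =>
    change h' (s ⊗ₜ[A] b) = h (s ⊗ₜ[A] b)
    rw [hh, tmul_eq_mul, map_mul, ← hmapB, h'.commutes, ← hmapS]
    congr 1
    exact congrArg (fun m => m s) h1
  | add x y hx hy => rw [map_add, map_add, hx, hy]

end StrictTensor

end Groth.Agent.Lib.Helper4.Unibr
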