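import Mathlib
import Groth.Prelude.Def_CAlg2
import Groth.Agent.Lib.Helper4.HzsUnibr

set_option autoImplicit false
universe u

namespace Groth.Agent.Lib.Helper4.BrnchCount

open TensorProduct IsLocalRing

/-- `normRed A` is integral over `A`. -/
theorem isIntegral_normRed (A : Type u) [CommRing A] : Algebra.IsIntegral A (CAlg2.normRed A) := by
  have h1 : Algebra.IsIntegral A (CAlg2.red A) :=
    Algebra.IsIntegral.of_surjective (Algebra.ofId A (CAlg2.red A)) Ideal.Quotient.mk_surjective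
  exact Algebra.IsIntegral.trans (CAlg2.red A)

section Int

variable (A A' S : Type u) [CommRing A] [CommRing A'] [Algebra A A'] [CommRing S] [Algebra A S]

/-- `A' ⊗ S` is integral over `S` (acting on the right). -/
theorem isIntegral_rightAlgebra [Algebra.IsIntegral A A'] :
    @Algebra.IsIntegral S (A' ⊗[A] S) _ _ Algebra.TensorProduct.rightAlgebra := by
  let _ : Algebra S (A' ⊗[A] S) := Algebra.TensorProduct.rightAlgebra
  let e : S ⊗[A] A' →ₐ[S] A' ⊗[A] S :=
    { (Algebra.TensorProduct.comm A S A').toAlgHom.toRingHom with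
      commutes' := fun s => by
        show Algebra.TensorProduct.comm A S A' (s ⊗ₜ[A] (1 : A')) = (1 : A') ⊗ₜ[A] s
        rw [Algebra.TensorProduct.comm_tmul] }
  have he : Function.Surjective e := (Algebra.TensorProduct.comm A S A').surjective
  exact Algebra.IsIntegral.of_surjective e he

/-- Over a henselian local ring `S`, every prime of `A' ⊗ S` lies in a unique maximal ideal. -/
theorem existsUnique_isMaximal_ge [Algebra.IsIntegral A A'] [HenselianLocalRing S]
    (q : Ideal (A' ⊗[A] S)) [hq : q.IsPrime] :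
    ∃! m : Ideal (A' ⊗[A] S), m.IsMaximal ∧ q ≤ m := by
  let _ : Algebra S (A' ⊗[A] S) := Algebra.TensorProduct.rightAlgebra
  have hint : Algebra.IsIntegral S (A' ⊗[A] S) := isIntegral_rightAlgebra A A' S
  have hint' : Algebra.IsIntegral S ((A' ⊗[A] S) ⧸ q) :=
    Algebra.IsIntegral.of_surjective (Ideal.Quotient.mkₐ S q) Ideal.Quotient.mk_surjective
  have hloc : IsLocalRing ((A' ⊗[A] S) ⧸ q) := Unibr.isLocalRing_of_isDomain_of_isIntegral S _
  obtain ⟨m, hm, hqm⟩ := Ideal.exists_le_maximal q hq.ne_top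
  refine ⟨m, ⟨hm, hqm⟩, ?_⟩
  rintro m' ⟨hm', hqm'⟩
  have key : ∀ n : Ideal (A' ⊗[A] S), n.IsMaximal → q ≤ n →
      n = (maximalIdeal ((A' ⊗[A] S) ⧸ q)).comap (Ideal.Quotient.mk q) := by
    intro n hn hqn
    have h1 : n.map (Ideal.Quotient.mk q) ≠ ⊤ := by
      intro htop
      have h2 := congrArg (Ideal.comap (Ideal.Quotient.mk q)) htop
      rw [Ideal.comap_map_of_surjective _ Ideal.Quotient.mk_surjective, ← RingHom.ker_eq_comap_bot,
        Ideal.mk_ker, sup_eq_left.mpr hqn, Ideal.comap_top] at h2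
      exact hn.ne_top h2
    have h3 : n.map (Ideal.Quotient.mk q) ≤ maximalIdeal ((A' ⊗[A] S) ⧸ q) :=
      IsLocalRing.le_maximalIdeal h1
    have h4 : n ≤ (maximalIdeal ((A' ⊗[A] S) ⧸ q)).comap (Ideal.Quotient.mk q) :=
      Ideal.map_le_iff_le_comap.mp h3
    have h5 : (maximalIdeal ((A' ⊗[A] S) ⧸ q)).comap (Ideal.Quotient.mk q) ≠ ⊤ :=
      (Ideal.comap_isPrime _ _).ne_top
    exact hn.eq_of_le h5 h4
  rw [key m' hm' hqm', ← key m hm hqm]

end Int

end Groth.Agent.Lib.Helper4.BrnchCount
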