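import Mathlib
import Groth.Prelude.Def_CAlg2
import Groth.Agent.Lib.Helper4.BrnchCount
import Groth.Agent.Lib.Helper4.HznProps

set_option autoImplicit false
set_option linter.unusedSectionVars false
universe u

namespace Groth.Agent.Lib.Helper4.BrnchCount

open TensorProduct IsLocalRing

section MaxH

variable (A A' S : Type u) [CommRing A] [IsLocalRing A] [CommRing A'] [Algebra A A']
  [Algebra.IsIntegral A A'] [CommRing S] [IsLocalRing S] [Algebra A S] [IsLocalHom (algebraMap A S)]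

/-- The contraction of a maximal ideal of `A' ⊗ S` to `S` is the maximal ideal. -/
theorem comap_includeRight_eq (n : Ideal (A' ⊗[A] S)) [hn : n.IsMaximal] :
    n.comap (Algebra.TensorProduct.includeRight : S →ₐ[A] A' ⊗[A] S).toRingHom =
      maximalIdeal S := by
  let _ : Algebra S (A' ⊗[A] S) := Algebra.TensorProduct.rightAlgebra
  have hint : Algebra.IsIntegral S (A' ⊗[A] S) := isIntegral_rightAlgebra A A' S
  have h1 : (n.comap (algebraMap S (A' ⊗[A] S))).IsMaximal :=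
    Ideal.isMaximal_comap_of_isIntegral_of_isMaximal n
  exact IsLocalRing.eq_maximalIdeal h1

theorem comap_algebraMap_eq (n : Ideal (A' ⊗[A] S)) [hn : n.IsMaximal] :
    n.comap (algebraMap A (A' ⊗[A] S)) = maximalIdeal A := by
  have h1 := comap_includeRight_eq A A' S n
  have h2 : algebraMap A (A' ⊗[A] S) =
      ((Algebra.TensorProduct.includeRight : S →ₐ[A] A' ⊗[A] S).toRingHom).comp (algebraMap A S) := by
    ext a
    exact ((Algebra.TensorProduct.includeRight : S →ₐ[A] A' ⊗[A] S).commutes a).symm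
  rw [h2, ← Ideal.comap_comap, h1]
  exact ((local_hom_TFAE (algebraMap A S)).out 0 4).mp ‹_›

/-- The contraction of a maximal ideal of `A' ⊗ S` to `A'` is maximal. -/
theorem isMaximal_comap_includeLeft (n : Ideal (A' ⊗[A] S)) [hn : n.IsMaximal] :
    (n.comap (algebraMap A' (A' ⊗[A] S))).IsMaximal := by
  have hp : (n.comap (algebraMap A' (A' ⊗[A] S))).IsPrime := Ideal.comap_isPrime _ _
  apply Ideal.isMaximal_of_isIntegral_of_isMaximal_comap (R := A)
  rw [Ideal.comap_comap, ← IsScalarTower.algebraMap_eq, comap_algebraMap_eq]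
  exact IsLocalRing.maximalIdeal.isMaximal A

/-- Every maximal ideal of `A'` is the contraction of a maximal ideal of `A' ⊗ S` (`S` f. flat). -/
theorem exists_isMaximal_comap_eq [Module.FaithfullyFlat A S] (m' : Ideal A') [hm' : m'.IsMaximal] :
    ∃ n : Ideal (A' ⊗[A] S), n.IsMaximal ∧ n.comap (algebraMap A' (A' ⊗[A] S)) = m' := by
  obtain ⟨⟨P, hP⟩, hPm⟩ := PrimeSpectrum.comap_surjective_of_faithfullyFlat (A := A')
    (B := A' ⊗[A] S) ⟨m', hm'.isPrime⟩
  have hcomap : P.comap (algebraMap A' (A' ⊗[A] S)) = m' := congrArg PrimeSpectrum.asIdeal hPm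
  obtain ⟨n, hn, hPn⟩ := Ideal.exists_le_maximal P hP.ne_top
  refine ⟨n, hn, ?_⟩
  have h1 : m' ≤ n.comap (algebraMap A' (A' ⊗[A] S)) := by
    rw [← hcomap]; exact Ideal.comap_mono hPn
  have h2 : n.comap (algebraMap A' (A' ⊗[A] S)) ≠ ⊤ := (Ideal.comap_isPrime _ _).ne_top
  exact (hm'.eq_of_le h2 h1).symm

/-- Contraction of maximal ideals to `A'`. -/
noncomputable def contr : MaximalSpectrum (A' ⊗[A] S) → MaximalSpectrum A' := fun n =>
  ⟨n.asIdeal.comap (algebraMap A' (A' ⊗[A] S)), isMaximal_comap_includeLeft A A' S n.asIdeal⟩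

theorem contr_surjective [Module.FaithfullyFlat A S] : Function.Surjective (contr A A' S) := by
  intro m'
  obtain ⟨n, hn, hnm⟩ := exists_isMaximal_comap_eq A A' S m'.asIdeal
  refine ⟨⟨n, hn⟩, ?_⟩
  cases m'
  simp only [contr] at hnm ⊢
  congr

/-- Decomposition modulo the maximal ideal of a henselization. -/
theorem exists_sub_mem_map [Hensel.IsHenselization A S] (t : A' ⊗[A] S) :
    ∃ a'' : A', t - a'' ⊗ₜ[A] (1 : S) ∈ (maximalIdeal S).map
      (Algebra.TensorProduct.includeRight : S →ₐ[A] A' ⊗[A] S).toRingHom := by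
  induction t using TensorProduct.induction_on with
  | zero => exact ⟨0, by rw [TensorProduct.zero_tmul, sub_zero]; exact Ideal.zero_mem _⟩
  | tmul a' s =>
    obtain ⟨a, ha⟩ := Hzn.exists_sub_mem_of_isHenselization A S s
    refine ⟨a • a', ?_⟩
    have h1 : a' ⊗ₜ[A] s - (a • a') ⊗ₜ[A] (1 : S) =
        (a' ⊗ₜ[A] (1 : S)) * ((1 : A') ⊗ₜ[A] (s - algebraMap A S a)) := by
      rw [Algebra.TensorProduct.tmul_mul_tmul, mul_one, one_mul, TensorProduct.tmul_sub,
        TensorProduct.smul_tmul, Algebra.algebraMap_eq_smul_one]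
    rw [h1]
    exact Ideal.mul_mem_left _ _ (Ideal.mem_map_of_mem _ ha)
  | add t₁ t₂ h₁ h₂ =>
    obtain ⟨a₁, h₁⟩ := h₁
    obtain ⟨a₂, h₂⟩ := h₂
    refine ⟨a₁ + a₂, ?_⟩
    have : t₁ + t₂ - (a₁ + a₂) ⊗ₜ[A] (1 : S) =
        (t₁ - a₁ ⊗ₜ[A] (1 : S)) + (t₂ - a₂ ⊗ₜ[A] (1 : S)) := by
      rw [TensorProduct.add_tmul]; ring
    rw [this]
    exact Ideal.add_mem _ h₁ h₂

theorem contr_injective [Hensel.IsHenselization A S] : Function.Injective (contr A A' S) := by
  have key : ∀ n₁ n₂ : MaximalSpectrum (A' ⊗[A] S), contr A A' S n₁ = contr A A' S n₂ →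
      n₁.asIdeal ≤ n₂.asIdeal := by
    intro n₁ n₂ h t ht
    have h' : n₁.asIdeal.comap (algebraMap A' (A' ⊗[A] S)) =
        n₂.asIdeal.comap (algebraMap A' (A' ⊗[A] S)) := congrArg MaximalSpectrum.asIdeal h
    obtain ⟨a'', ha''⟩ := exists_sub_mem_map A A' S t
    have hJ : ∀ n : MaximalSpectrum (A' ⊗[A] S), (maximalIdeal S).map
        (Algebra.TensorProduct.includeRight : S →ₐ[A] A' ⊗[A] S).toRingHom ≤ n.asIdeal := by
      intro n
      rw [Ideal.map_le_iff_le_comap, comap_includeRight_eq A A' S n.asIdeal]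
    have h1 : a'' ⊗ₜ[A] (1 : S) ∈ n₁.asIdeal := by
      have := n₁.asIdeal.sub_mem ht (hJ n₁ ha'')
      rwa [sub_sub_cancel] at this
    have h2 : a'' ∈ n₁.asIdeal.comap (algebraMap A' (A' ⊗[A] S)) := h1
    rw [h'] at h2
    have h3 : a'' ⊗ₜ[A] (1 : S) ∈ n₂.asIdeal := h2
    have := n₂.asIdeal.add_mem (hJ n₂ ha'') h3
    rwa [sub_add_cancel] at this
  intro n₁ n₂ h
  have h1 := key n₁ n₂ h
  have h2 := key n₂ n₁ h.symm
  cases n₁; cases n₂
  simp only at h1 h2
  congr
  exact le_antisymm h1 h2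

end MaxH

end Groth.Agent.Lib.Helper4.BrnchCount
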