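import Mathlib

/-!
# Rings all of whose local rings are domains, in elementary terms
-/

set_option autoImplicit false
universe u

namespace Groth.Agent.Lib.Helper4.BrnchLocDom

/-- All local rings of `R` are domains (elementary formulation). -/
def LocDom (R : Type*) [CommRing R] : Prop :=
  ∀ (P : Ideal R), P.IsPrime → ∀ x y : R, x * y = 0 → ∃ u, u ∉ P ∧ (u * x = 0 ∨ u * y = 0)

theorem locDom_of_isDomain_localization {R : Type*} [CommRing R]
    (h : ∀ (P : Ideal R) [P.IsPrime], IsDomain (Localization.AtPrime P)) : LocDom R := by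
  intro P hP x y hxy
  have hd := h P
  have h1 : algebraMap R (Localization.AtPrime P) x * algebraMap R (Localization.AtPrime P) y = 0 := by
    rw [← map_mul, hxy, map_zero]
  rcases mul_eq_zero.mp h1 with h2 | h2
  · obtain ⟨u, hu⟩ := (IsLocalization.map_eq_zero_iff P.primeCompl (Localization.AtPrime P) x).mp h2
    exact ⟨u, u.2, Or.inl hu⟩
  · obtain ⟨u, hu⟩ := (IsLocalization.map_eq_zero_iff P.primeCompl (Localization.AtPrime P) y).mp h2
    exact ⟨u, u.2, Or.inr hu⟩

theorem LocDom.of_ringEquiv {R R' : Type*} [CommRing R] [CommRing R'] (e : R ≃+* R')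
    (h : LocDom R) : LocDom R' := by
  intro P' hP' x' y' hxy
  have hP : (P'.comap (e : R →+* R')).IsPrime := Ideal.comap_isPrime _ _
  obtain ⟨u, hu, h1⟩ := h (P'.comap (e : R →+* R')) hP (e.symm x') (e.symm y')
    (by rw [← map_mul, hxy, map_zero])
  refine ⟨e u, hu, ?_⟩
  rcases h1 with h1 | h1
  · left
    have := congrArg e h1
    rwa [map_mul, e.apply_symm_apply, map_zero] at this
  · right
    have := congrArg e h1
    rwa [map_mul, e.apply_symm_apply, map_zero] at this

theorem LocDom.of_isLocalization {R R' : Type*} [CommRing R] [CommRing R'] [Algebra R R']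
    (M : Submonoid R) [IsLocalization M R'] (h : LocDom R) : LocDom R' := by
  intro P' hP' x' y' hxy
  have hP : (P'.comap (algebraMap R R')).IsPrime := Ideal.comap_isPrime _ _
  obtain ⟨x, s, rfl⟩ := IsLocalization.exists_mk'_eq M x'
  obtain ⟨y, t, rfl⟩ := IsLocalization.exists_mk'_eq M y'
  rw [← IsLocalization.mk'_mul, IsLocalization.mk'_eq_zero_iff] at hxy
  obtain ⟨m, hm⟩ := hxy
  have hm' : ((m : R) * x) * y = 0 := by rw [mul_assoc]; exact hm
  obtain ⟨u, hu, h1⟩ := h _ hP ((m : R) * x) y hm'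
  have hmu : IsUnit (algebraMap R R' (m : R)) := IsLocalization.map_units R' m
  have hmP : algebraMap R R' (m : R) ∉ P' := fun hmem =>
    hP'.ne_top (Ideal.eq_top_of_isUnit_mem _ hmem hmu)
  rcases h1 with h1 | h1
  · refine ⟨algebraMap R R' (u * m), ?_, Or.inl ?_⟩
    · rw [map_mul]
      intro hmem
      rcases hP'.mem_or_mem hmem with h2 | h2
      · exact hu h2
      · exact hmP h2
    · rw [← IsLocalization.mk'_one (M := M) R' (u * (m : R)), ← IsLocalization.mk'_mul,
        IsLocalization.mk'_eq_zero_iff]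
      refine ⟨1, ?_⟩
      rw [Submonoid.coe_one, one_mul, mul_assoc]
      exact h1
  · refine ⟨algebraMap R R' u, hu, Or.inr ?_⟩
    rw [← IsLocalization.mk'_one (M := M) R' u, ← IsLocalization.mk'_mul,
      IsLocalization.mk'_eq_zero_iff]
    exact ⟨1, by rw [Submonoid.coe_one, one_mul]; exact h1⟩

/-- If `j : R₀ → R` is injective and `R₀` is `LocDom`, then zero products in the range of `j` split
locally. -/
theorem LocDom.of_injective {R₀ R : Type*} [CommRing R₀] [CommRing R] (j : R₀ →+* R)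
    (hj : Function.Injective j) (h : LocDom R₀) (P : Ideal R) [hP : P.IsPrime] (x₀ y₀ : R₀)
    (hxy : j x₀ * j y₀ = 0) : ∃ u, u ∉ P ∧ (u * j x₀ = 0 ∨ u * j y₀ = 0) := by
  have h0 : x₀ * y₀ = 0 := hj (by rw [map_mul, hxy, map_zero])
  obtain ⟨u, hu, h1⟩ := h (P.comap j) (Ideal.comap_isPrime _ _) x₀ y₀ h0
  refine ⟨j u, hu, ?_⟩
  rcases h1 with h1 | h1
  · left; rw [← map_mul, h1, map_zero]
  · right; rw [← map_mul, h1, map_zero]

theorem exists_mul_pow_eq_zero_of_mem_minimalPrimes {R : Type*} [CommRing R] {q : Ideal R}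
    (hq : q ∈ minimalPrimes R) {x : R} (hx : x ∈ q) : ∃ y, y ∉ q ∧ ∃ n : ℕ, y * x ^ n = 0 := by
  have hqp : q.IsPrime := hq.1.1
  by_contra hcon
  push Not at hcon
  let M : Submonoid R := q.primeCompl ⊔ Submonoid.powers x
  have hdis : Disjoint ((⊥ : Ideal R) : Set R) (M : Set R) := by
    rw [Set.disjoint_left]
    intro z hz hzM
    have hz0 : z = 0 := hz
    obtain ⟨y, hy, w, ⟨n, rfl⟩, hyw⟩ := Submonoid.mem_sup.mp hzM
    exact hcon y hy n (by rw [hyw, hz0])
  obtain ⟨P, hP, -, hPM⟩ := Ideal.exists_le_prime_disjoint ⊥ M hdis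
  have hPq : P ≤ q := by
    intro z hz
    by_contra hzq
    exact Set.disjoint_left.mp hPM hz (Submonoid.mem_sup_left hzq)
  have hqP : q ≤ P := hq.2 ⟨hP, bot_le⟩ hPq
  exact Set.disjoint_left.mp hPM (hqP hx) (Submonoid.mem_sup_right (Submonoid.mem_powers x))

/-- In a `LocDom` ring every prime contains a unique minimal prime. -/
theorem LocDom.minimalPrime_unique {R : Type*} [CommRing R] (h : LocDom R) (N : Ideal R)
    [hN : N.IsPrime] {q₁ q₂ : Ideal R} (h₁ : q₁ ∈ minimalPrimes R) (h₂ : q₂ ∈ minimalPrimes R)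
    (h₁N : q₁ ≤ N) (h₂N : q₂ ≤ N) : q₁ = q₂ := by
  have key : ∀ {q q' : Ideal R}, q ∈ minimalPrimes R → q' ∈ minimalPrimes R → q ≤ N → q' ≤ N →
      q ≤ q' := by
    intro q q' hq hq' hqN hq'N x hx
    have hqp : q.IsPrime := hq.1.1
    have hq'p : q'.IsPrime := hq'.1.1
    obtain ⟨y, hy, n, hyx⟩ := exists_mul_pow_eq_zero_of_mem_minimalPrimes hq hx
    obtain ⟨u, hu, h1⟩ := h N hN (x ^ n) y (by rw [mul_comm]; exact hyx)
    rcases h1 with h1 | h1
    · have h2 : u * x ^ n ∈ q' := by rw [h1]; exact q'.zero_mem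
      rcases hq'p.mem_or_mem h2 with h3 | h3
      · exact absurd (hq'N h3) hu
      · exact hq'p.mem_of_pow_mem n h3
    · have h2 : u * y ∈ q := by rw [h1]; exact q.zero_mem
      rcases hqp.mem_or_mem h2 with h3 | h3
      · exact absurd (hqN h3) hu
      · exact absurd h3 hy
  exact le_antisymm (key h₁ h₂ h₁N h₂N) (key h₂ h₁ h₂N h₁N)

end Groth.Agent.Lib.Helper4.BrnchLocDom
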