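import Mathlib
import Groth.Prelude.Def_CAlg2
import Groth.Agent.Lib.Helper4.BrnchCount2
import Groth.Agent.Lib.Helper4.BrnchLocDom
import Groth.Agent.Lib.Helper4.BrnchMin

set_option autoImplicit false
set_option linter.unusedSectionVars false
universe u

namespace Groth.Agent.Lib.Helper4.BrnchCount

open TensorProduct IsLocalRing BrnchLocDom

theorem card_minimalPrimes_eq_card_maximalSpectrum {T : Type u} [CommRing T] (hLD : LocDom T)
    (hU : ∀ q : Ideal T, q.IsPrime → ∃! m : Ideal T, m.IsMaximal ∧ q ≤ m) :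
    ENat.card (minimalPrimes T) = ENat.card (MaximalSpectrum T) := by
  choose F hF hFu using hU
  let G : minimalPrimes T → MaximalSpectrum T := fun q => ⟨F q.1 q.2.1.1, (hF q.1 q.2.1.1).1⟩
  have hG : Function.Bijective G := by
    constructor
    · rintro ⟨q₁, h₁⟩ ⟨q₂, h₂⟩ h
      have h' : F q₁ h₁.1.1 = F q₂ h₂.1.1 := congrArg MaximalSpectrum.asIdeal h
      have hm : (F q₁ h₁.1.1).IsMaximal := (hF q₁ h₁.1.1).1
      have hmp : (F q₁ h₁.1.1).IsPrime := hm.isPrime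
      have e1 : q₁ ≤ F q₁ h₁.1.1 := (hF q₁ h₁.1.1).2
      have e2 : q₂ ≤ F q₁ h₁.1.1 := by rw [h']; exact (hF q₂ h₂.1.1).2
      exact Subtype.ext (hLD.minimalPrime_unique (F q₁ h₁.1.1) h₁ h₂ e1 e2)
    · rintro ⟨m, hm⟩
      obtain ⟨q, hq, hqm⟩ := Ideal.exists_minimalPrimes_le (I := ⊥) (J := m) bot_le
      refine ⟨⟨q, hq⟩, ?_⟩
      have := hFu q hq.1.1 m ⟨hm, hqm⟩
      simp only [G]
      congr
      exact this.symm
  exact ENat.card_congr (Equiv.ofBijective G hG)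

theorem card_minimalPrimes_eq_top_of_faithfullyFlat {A S : Type u} [CommRing A] [CommRing S]
    [Algebra A S] [Module.FaithfullyFlat A S] (h : ¬ (minimalPrimes A).Finite) :
    ENat.card (minimalPrimes S) = ⊤ := by
  rw [ENat.card_eq_top]
  have hinf : Infinite (minimalPrimes A) := Set.infinite_coe_iff.mpr h
  let f : minimalPrimes S → minimalPrimes A := fun Q =>
    ⟨Q.1.comap (algebraMap A S), BrnchMin.comap_mem_minimalPrimes_of_flat Q.2⟩
  refine Infinite.of_surjective f ?_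
  rintro ⟨p, hp⟩
  have hpp : p.IsPrime := hp.1.1
  obtain ⟨⟨Q', hQ'⟩, hQ'p⟩ := PrimeSpectrum.comap_surjective_of_faithfullyFlat (A := A) (B := S)
    ⟨p, hpp⟩
  have hcomap : Q'.comap (algebraMap A S) = p := congrArg PrimeSpectrum.asIdeal hQ'p
  obtain ⟨Q, hQ, hQQ'⟩ := Ideal.exists_minimalPrimes_le (I := ⊥) (J := Q') bot_le
  refine ⟨⟨Q, hQ⟩, Subtype.ext ?_⟩
  have hQp : Q.IsPrime := hQ.1.1
  have h1 : Q.comap (algebraMap A S) ≤ p := by rw [← hcomap]; exact Ideal.comap_mono hQQ'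
  exact le_antisymm h1 (hp.2 ⟨Ideal.comap_isPrime _ _, bot_le⟩ h1)

end Groth.Agent.Lib.Helper4.BrnchCount
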