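import Mathlib
import Groth.Prelude.Def_CAlg2
import Groth.Prelude.Def_EssEt
import Groth.Agent.Lib.Helper4.BrnchLocDom
import Groth.Agent.Lib.Helper6.UB8

set_option autoImplicit false
universe u

namespace Groth.Agent.Lib.Helper4.BrnchLocDom

open TensorProduct

/-- All local rings are geometrically unibranch domains. -/
def LocGU (R : Type u) [CommRing R] : Prop :=
  ∀ (p : Ideal R) [p.IsPrime], IsDomain (Localization.AtPrime p) ∧
    CAlg2.IsGeomUnibranch (Localization.AtPrime p)

theorem locDom_tensor_etale (A A' C : Type u) [CommRing A] [CommRing A'] [Algebra A A']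
    [CommRing C] [Algebra A C] [Algebra.Etale A C] (hA' : LocGU A') : LocDom (A' ⊗[A] C) := by
  apply locDom_of_isDomain_localization
  intro Q hQ
  have hp : (Q.comap (algebraMap A' (A' ⊗[A] C))).IsPrime := Ideal.comap_isPrime _ _
  obtain ⟨h1, h2⟩ := hA' (Q.comap (algebraMap A' (A' ⊗[A] C)))
  exact (Groth.Agent.Lib.Helper6.UB.isGeomUnibranch_localization_of_etale' A' (A' ⊗[A] C) Q
    (Q.comap (algebraMap A' (A' ⊗[A] C))) rfl
    (Localization.AtPrime (Q.comap (algebraMap A' (A' ⊗[A] C)))) h2).1

theorem locDom_tensor_localization (A A' C : Type u) [CommRing A] [CommRing A'] [Algebra A A']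
    [CommRing C] [Algebra A C] [Algebra.Etale A C] (hA' : LocGU A') (q : Ideal C) [q.IsPrime] :
    LocDom (A' ⊗[A] Localization.AtPrime q) := by
  have h0 := locDom_tensor_etale A A' C hA'
  let φ : A' ⊗[A] C →ₐ[A'] A' ⊗[A] Localization.AtPrime q :=
    Algebra.TensorProduct.map (AlgHom.id A' A') (IsScalarTower.toAlgHom A C (Localization.AtPrime q))
  let _ : Algebra (A' ⊗[A] C) (A' ⊗[A] Localization.AtPrime q) := φ.toRingHom.toAlgebra
  have hst : IsScalarTower A' (A' ⊗[A] C) (A' ⊗[A] Localization.AtPrime q) :=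
    IsScalarTower.of_algebraMap_eq (fun x => (φ.commutes x).symm)
  have hloc : IsLocalization (q.primeCompl.map
      (Algebra.TensorProduct.includeRight (R := A) (A := A') (B := C)))
      (A' ⊗[A] Localization.AtPrime q) := by
    apply IsLocalization.tensorProduct_tensorProduct_right A A' q.primeCompl
      (Localization.AtPrime q)
    ext c
    show φ ((1 : A') ⊗ₜ[A] c) = (1 : A') ⊗ₜ[A] (algebraMap C (Localization.AtPrime q) c)
    simp [φ]
  exact h0.of_isLocalization (q.primeCompl.map
      (Algebra.TensorProduct.includeRight (R := A) (A := A') (B := C)))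

theorem locDom_tensor_essEtale (A A' E : Type u) [CommRing A] [IsLocalRing A] [CommRing A']
    [Algebra A A'] [CommRing E] [Algebra A E] (hE : EGA4loc.IsEssentiallyEtale A E)
    (hA' : LocGU A') : LocDom (A' ⊗[A] E) := by
  obtain ⟨C, _, _, q, _, hC, -, ⟨e⟩⟩ := hE
  have h1 := locDom_tensor_localization A A' C hA' q
  exact h1.of_ringEquiv
    (Algebra.TensorProduct.congr (AlgEquiv.refl : A' ≃ₐ[A] A') e).symm.toRingEquiv

end Groth.Agent.Lib.Helper4.BrnchLocDom
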