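import Mathlib
import Groth.Prelude.Def_CAlg2
import Groth.Prelude.Def_EssEt
import Groth.Agent.Lib.Helper4.BrnchLocDom
import Groth.Agent.Lib.Helper4.HzsSub3

set_option autoImplicit false
universe u

namespace Groth.Agent.Lib.Helper4.BrnchLocDom

open TensorProduct

section Inj

variable (A A' E S : Type u) [CommRing A] [CommRing A'] [Algebra A A'] [CommRing E] [Algebra A E]
  [CommRing S] [Algebra A S] [Algebra E S] [IsScalarTower A E S]

/-- `E ⊗ A' → S ⊗ A'`. -/
noncomputable def jL : E ⊗[A] A' →ₐ[A] S ⊗[A] A' :=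
  Algebra.TensorProduct.map (IsScalarTower.toAlgHom A E S) (AlgHom.id A A')

theorem jL_injective [Module.FaithfullyFlat E S] : Function.Injective (jL A A' E S) := by
  have h1 := Module.FaithfullyFlat.tensorProduct_mk_injective (A := E) (B := S) (E ⊗[A] A')
  have h2 : ∀ z : E ⊗[A] A', jL A A' E S z =
      Algebra.TensorProduct.cancelBaseChange A E E S A' (TensorProduct.mk E S (E ⊗[A] A') 1 z) := by
    intro z
    induction z using TensorProduct.induction_on with
    | zero => simp
    | tmul e a' =>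
      rw [TensorProduct.mk_apply, Algebra.TensorProduct.cancelBaseChange_tmul, jL,
        Algebra.TensorProduct.map_tmul, Algebra.smul_def, mul_one]
      rfl
    | add z₁ z₂ h₁ h₂ => rw [map_add, map_add, map_add, h₁, h₂]
  intro z₁ z₂ hz
  rw [h2, h2] at hz
  exact h1 ((Algebra.TensorProduct.cancelBaseChange A E E S A').injective hz)

/-- `A' ⊗ E → A' ⊗ S`. -/
noncomputable def jR : A' ⊗[A] E →ₐ[A] A' ⊗[A] S :=
  Algebra.TensorProduct.map (AlgHom.id A A') (IsScalarTower.toAlgHom A E S)

theorem jR_injective [Module.FaithfullyFlat E S] : Function.Injective (jR A A' E S) := by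
  have h2 : ∀ z : A' ⊗[A] E, jR A A' E S z =
      Algebra.TensorProduct.comm A S A' (jL A A' E S (Algebra.TensorProduct.comm A A' E z)) := by
    intro z
    induction z using TensorProduct.induction_on with
    | zero => simp
    | tmul a' e =>
      rw [Algebra.TensorProduct.comm_tmul, jL, Algebra.TensorProduct.map_tmul,
        Algebra.TensorProduct.comm_tmul, jR, Algebra.TensorProduct.map_tmul]
    | add z₁ z₂ h₁ h₂ => rw [map_add, map_add, map_add, map_add, h₁, h₂]
  intro z₁ z₂ hz
  rw [h2, h2] at hz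
  exact (Algebra.TensorProduct.comm A A' E).injective
    (jL_injective A A' E S ((Algebra.TensorProduct.comm A S A').injective hz))

end Inj

section Desc

variable (A A' S : Type u) [CommRing A] [CommRing A'] [Algebra A A'] [CommRing S] [Algebra A S]

theorem exists_finset_mem_range (x : A' ⊗[A] S) :
    ∃ F : Finset S, ∀ E : Subalgebra A S, (F : Set S) ⊆ (E : Set S) →
      x ∈ (jR A A' E S).range := by
  classical
  induction x using TensorProduct.induction_on with
  | zero => exact ⟨∅, fun E _ => Subalgebra.zero_mem _⟩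
  | tmul a' s =>
    refine ⟨{s}, fun E hE => ⟨a' ⊗ₜ[A] (⟨s, hE (by simp)⟩ : E), ?_⟩⟩
    show jR A A' E S (a' ⊗ₜ[A] (⟨s, hE (by simp)⟩ : E)) = a' ⊗ₜ[A] s
    rw [jR, Algebra.TensorProduct.map_tmul]
    rfl
  | add x₁ x₂ h₁ h₂ =>
    obtain ⟨F₁, hF₁⟩ := h₁
    obtain ⟨F₂, hF₂⟩ := h₂
    refine ⟨F₁ ∪ F₂, fun E hE => Subalgebra.add_mem _ (hF₁ E ?_) (hF₂ E ?_)⟩
    · exact fun z hz => hE (by simp [hz])
    · exact fun z hz => hE (by simp [hz])

end Desc

end Groth.Agent.Lib.Helper4.BrnchLocDom
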