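import Mathlib
import Groth.Prelude.Def_CAlg2
import Groth.Prelude.Def_EssEt
import Groth.Agent.Lib.Helper4.BrnchLocDom
import Groth.Agent.Lib.Helper4.BrnchLocDom2
import Groth.Agent.Lib.Helper4.BrnchLocDom3
import Groth.Agent.Lib.Helper4.HzsSub
import Groth.Agent.Lib.Helper4.HzsSub3

set_option autoImplicit false
universe u

namespace Groth.Agent.Lib.Helper4.BrnchLocDom

open TensorProduct

theorem locDom_tensor_strictHenselization (A A' S : Type u) [CommRing A] [IsLocalRing A]
    [CommRing A'] [Algebra A A'] [CommRing S] [IsLocalRing S] [Algebra A S]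
    [IsLocalHom (algebraMap A S)] [Hensel.IsStrictHenselization A S] (hA' : LocGU A') :
    LocDom (A' ⊗[A] S) := by
  classical
  intro P hP x y hxy
  obtain ⟨Fx, hFx⟩ := exists_finset_mem_range A A' S x
  obtain ⟨Fy, hFy⟩ := exists_finset_mem_range A A' S y
  obtain ⟨E, hsE, hEloc, hES, hE⟩ := Hzs.exists_essEtale_subalgebra A S (Fx ∪ Fy)
  have hAE : IsLocalHom (algebraMap A E) := Hzs.isLocalHom_of_essEtale hE
  have hSE : Hensel.IsStrictHenselization E S := Hzs.isStrictHenselization_of_essEtale hE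
  have hff : Module.FaithfullyFlat E S := Hzs.faithfullyFlat_of_isStrictHenselization E S
  obtain ⟨x₀, rfl⟩ := hFx E (fun z hz => hsE (by simp [hz]))
  obtain ⟨y₀, rfl⟩ := hFy E (fun z hz => hsE (by simp [hz]))
  exact LocDom.of_injective (jR A A' E S).toRingHom (jR_injective A A' E S)
    (locDom_tensor_essEtale A A' E hE hA') P x₀ y₀ hxy

end Groth.Agent.Lib.Helper4.BrnchLocDom
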