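import Mathlib
import Groth.Prelude.Def_Hensel
import Groth.Agent.Lib.Helper4.HznNoethC
import Groth.Agent.Lib.Helper4.HzsNoethC
import Groth.Agent.Lib.Helper4.HznDim

/-!
# Associated primes of (strict) henselizations
-/

set_option autoImplicit false
universe u

namespace Groth.Agent.Lib.Helper4.Hzn

open IsLocalRing

/-- Flatness: the annihilator of a finitely generated ideal commutes with flat base change. -/
theorem mem_map_annihilator_of_flat {R S : Type*} [CommRing R] [CommRing S] [Algebra R S]
    [Module.Flat R S] (T : Finset R) : ∀ (s : S), (∀ a ∈ T, algebraMap R S a * s = 0) →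
    s ∈ (Submodule.annihilator (Ideal.span (T : Set R))).map (algebraMap R S) := by
  classical
  induction T using Finset.induction_on with
  | empty =>
    intro s _
    have : Submodule.annihilator (Ideal.span (((∅ : Finset R) : Set R))) = ⊤ := by
      simp [Submodule.annihilator_bot]
    rw [this, Ideal.map_top]; trivial
  | insert a T ha ih =>
    intro s hs
    have h1 := ih s (fun a' ha' => hs a' (Finset.mem_insert_of_mem ha'))
    rw [Ideal.map, Ideal.span, Submodule.mem_span_set'] at h1
    obtain ⟨m, y, g, hyg⟩ := h1
    choose b hbJ hb using fun k => (g k).2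
    have hrel : ∑ k, (a * b k) • y k = 0 := by
      have := hs a (Finset.mem_insert_self a T)
      rw [← hyg, Finset.mul_sum] at this
      rw [← this]
      refine Finset.sum_congr rfl fun k _ => ?_
      rw [Algebra.smul_def, map_mul, smul_eq_mul, hb]; ring
    obtain ⟨l, c, z, hz, hc⟩ :=
      Module.Flat.isTrivialRelation_of_sum_smul_eq_zero (R := R) (M := S) hrel
    have hs' : s = ∑ j, algebraMap R S (∑ k, b k * c k j) * z j := by
      rw [← hyg]
      have : ∀ k, y k • (g k : S) = ∑ j, algebraMap R S (b k * c k j) * z j := by
        intro k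
        rw [smul_eq_mul, ← hb k, hz k, Finset.sum_mul]
        refine Finset.sum_congr rfl fun j _ => ?_
        rw [Algebra.smul_def, map_mul]; ring
      simp only [this]
      rw [Finset.sum_comm]
      refine Finset.sum_congr rfl fun j _ => ?_
      rw [map_sum, Finset.sum_mul]
    rw [hs']
    refine Ideal.sum_mem _ fun j _ => Ideal.mul_mem_right _ _ (Ideal.mem_map_of_mem _ ?_)
    rw [Submodule.mem_annihilator_span]
    rintro ⟨a', ha'⟩
    rw [Finset.coe_insert, Set.mem_insert_iff] at ha'
    change (∑ k, b k * c k j) * a' = 0
    rcases ha' with rfl | ha'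
    · rw [← hc j, Finset.sum_mul]
      refine Finset.sum_congr rfl fun k _ => ?_
      ring
    · rw [Finset.sum_mul]
      refine Finset.sum_eq_zero fun k _ => ?_
      have := (Submodule.mem_annihilator_span _ _).mp (hbJ k) ⟨a', ha'⟩
      change b k * a' = 0 at this
      rw [mul_right_comm, this, zero_mul]

theorem mem_associatedPrimes_iff_of_flat_incomparable (R S : Type*) [CommRing R] [CommRing S]
    [Algebra R S] [IsNoetherianRing R] [IsNoetherianRing S] [Module.Flat R S]
    (hinc : ∀ (P Q : Ideal S) [P.IsPrime] [Q.IsPrime], P ≤ Q → P.under R = Q.under R → P = Q)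
    (P : Ideal S) [P.IsPrime] :
    P ∈ associatedPrimes S S ↔ P.comap (algebraMap R S) ∈ associatedPrimes R R := by
  classical
  constructor
  · intro h
    obtain ⟨-, s, hPs⟩ := isAssociatedPrime_iff.mp h
    set p := P.comap (algebraMap R S) with hp
    have hpprime : p.IsPrime := inferInstance
    obtain ⟨T, hT⟩ : (p : Submodule R R).FG := IsNoetherian.noetherian p
    have hkill : ∀ a ∈ T, algebraMap R S a * s = 0 := by
      intro a ha
      have hap : a ∈ p := by rw [← hT]; exact Submodule.subset_span ha
      have : algebraMap R S a ∈ P := hap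
      rw [hPs, Submodule.mem_colon_singleton] at this
      simpa using this
    have hsI := mem_map_annihilator_of_flat T s hkill
    rw [hT] at hsI
    set I : Ideal R := Submodule.annihilator (p : Submodule R R) with hI
    obtain ⟨U, hU⟩ : (I : Submodule R R).FG := IsNoetherian.noetherian I
    by_contra hnot
    have hex : ∀ g ∈ U, ∃ t, t ∉ p ∧ t * g = 0 := by
      intro g hg
      have hgI : g ∈ I := by rw [← hU]; exact Submodule.subset_span hg
      have hle : p ≤ Submodule.colon (⊥ : Submodule R R) {g} := by
        intro a ha
        rw [Submodule.mem_colon_singleton, Submodule.mem_bot, smul_eq_mul, mul_comm]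
        exact (Submodule.mem_annihilator.mp hgI) a ha
      by_contra hcon
      push Not at hcon
      apply hnot
      refine isAssociatedPrime_iff.mpr ⟨hpprime, g, le_antisymm hle ?_⟩
      intro t ht
      by_contra htp
      apply hcon t htp
      rw [Submodule.mem_colon_singleton, Submodule.mem_bot, smul_eq_mul] at ht
      exact ht
    choose! t ht using hex
    set τ := ∏ g ∈ U, t g with hτ
    have hτp : τ ∉ p := by
      intro hmem
      rw [hτ, Ideal.IsPrime.prod_mem_iff] at hmem
      obtain ⟨g, hg, hgp⟩ := hmem
      exact (ht g hg).1 hgp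
    have hτI : ∀ r ∈ I, τ * r = 0 := by
      intro r hr
      rw [← hU] at hr
      induction hr using Submodule.span_induction with
      | mem g hg =>
        obtain ⟨c, hc⟩ := Finset.dvd_prod_of_mem t hg
        rw [hτ, hc, mul_right_comm, (ht g hg).2, zero_mul]
      | zero => rw [mul_zero]
      | add x y _ _ hx hy => rw [mul_add, hx, hy, add_zero]
      | smul c x _ hx => rw [smul_eq_mul, mul_left_comm, hx, mul_zero]
    have hτall : ∀ z ∈ I.map (algebraMap R S), algebraMap R S τ * z = 0 := by
      intro z hz
      rw [Ideal.map, Ideal.span] at hz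
      induction hz using Submodule.span_induction with
      | mem z hz =>
        obtain ⟨r, hr, rfl⟩ := hz
        rw [← map_mul, hτI r hr, map_zero]
      | zero => rw [mul_zero]
      | add x y _ _ hx hy => rw [mul_add, hx, hy, add_zero]
      | smul c x _ hx => rw [smul_eq_mul, mul_left_comm, hx, mul_zero]
    have hτs : algebraMap R S τ * s = 0 := hτall s hsI
    have : algebraMap R S τ ∈ P := by
      rw [hPs, Submodule.mem_colon_singleton, Submodule.mem_bot, smul_eq_mul]
      exact hτs
    exact hτp this
  · intro h
    obtain ⟨hpprime, x, hpx⟩ := isAssociatedPrime_iff.mp h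
    have hclaim : Submodule.colon (⊥ : Submodule S S) {algebraMap R S x} =
        (P.comap (algebraMap R S)).map (algebraMap R S) := by
      apply le_antisymm
      · intro s hs
        rw [Submodule.mem_colon_singleton, Submodule.mem_bot, smul_eq_mul] at hs
        have h1 := mem_map_annihilator_of_flat (R := R) (S := S) {x} s (by
          intro a ha
          rw [Finset.mem_singleton] at ha
          rw [ha, mul_comm]; exact hs)
        have h2 : Submodule.annihilator (Ideal.span (({x} : Finset R) : Set R)) =
            P.comap (algebraMap R S) := by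
          rw [hpx]
          ext r
          rw [Finset.coe_singleton]
          change r ∈ Submodule.annihilator (Submodule.span R {x}) ↔ _
          rw [Submodule.mem_annihilator_span_singleton, Submodule.mem_colon_singleton,
            Submodule.mem_bot]
        rw [h2] at h1
        exact h1
      · rw [Ideal.map_le_iff_le_comap]
        intro a ha
        rw [hpx, Submodule.mem_colon_singleton, Submodule.mem_bot, smul_eq_mul] at ha
        rw [Ideal.mem_comap, Submodule.mem_colon_singleton, Submodule.mem_bot, smul_eq_mul,
          ← map_mul, ha, map_zero]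
    have hmin : P ∈ (Submodule.colon (⊥ : Submodule S S) {algebraMap R S x}).minimalPrimes := by
      rw [hclaim]
      refine ⟨⟨inferInstance, Ideal.map_comap_le⟩, ?_⟩
      rintro Q ⟨hQ, hle⟩ hQP
      have hu : Q.under R = P.under R := by
        apply le_antisymm
        · exact Ideal.comap_mono hQP
        · exact Ideal.map_le_iff_le_comap.mp hle
      exact (hinc Q P hQP hu).ge
    obtain ⟨y, hy⟩ := Submodule.exists_eq_colon_of_mem_minimalPrimes hmin
    exact isAssociatedPrime_iff.mpr ⟨inferInstance, y, hy⟩

theorem incomparable_of_algEquiv {R S S' : Type*} [CommRing R] [CommRing S] [CommRing S']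
    [Algebra R S] [Algebra R S'] (e : S ≃ₐ[R] S')
    (h : ∀ (P Q : Ideal S') [P.IsPrime] [Q.IsPrime], P ≤ Q → P.under R = Q.under R → P = Q)
    (P Q : Ideal S) [P.IsPrime] [Q.IsPrime] (hPQ : P ≤ Q) (hu : P.under R = Q.under R) :
    P = Q := by
  have hcomp : (e.symm : S' →+* S).comp (algebraMap R S') = algebraMap R S := by
    ext a; exact e.symm.commutes a
  have h1 : (P.comap (e.symm : S' →+* S)).under R = P.under R := by
    rw [Ideal.under, Ideal.comap_comap, hcomp]
  have h2 : (Q.comap (e.symm : S' →+* S)).under R = Q.under R := by
    rw [Ideal.under, Ideal.comap_comap, hcomp]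
  have h3 := h (P.comap (e.symm : S' →+* S)) (Q.comap (e.symm : S' →+* S))
    (Ideal.comap_mono hPQ) (by rw [h1, h2, hu])
  exact Ideal.comap_injective_of_surjective (e.symm : S' →+* S) e.symm.surjective h3

variable (R : Type u) [CommRing R] [IsLocalRing R]

theorem incomparable_of_isHenselization (S : Type u) [CommRing S] [IsLocalRing S] [Algebra R S]
    [IsLocalHom (algebraMap R S)] [Hensel.IsHenselization R S]
    (P Q : Ideal S) [P.IsPrime] [Q.IsPrime] (hPQ : P ≤ Q) (hu : P.under R = Q.under R) :
    P = Q := by
  obtain ⟨e⟩ := nonempty_algEquiv R S (Hz R)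
  exact incomparable_of_algEquiv e (Hz.incomparable R) P Q hPQ hu

theorem mem_associatedPrimes_iff_of_isHenselization [IsNoetherianRing R] (S : Type u)
    [CommRing S] [IsLocalRing S] [Algebra R S] [IsLocalHom (algebraMap R S)]
    [Hensel.IsHenselization R S] (P : Ideal S) [P.IsPrime] :
    P ∈ associatedPrimes S S ↔ P.comap (algebraMap R S) ∈ associatedPrimes R R := by
  have := (isNoetherianRing_iff_of_isHenselization R S).mp inferInstance
  have := faithfullyFlat_of_isHenselization R S
  exact mem_associatedPrimes_iff_of_flat_incomparable R S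
    (fun P Q _ _ => incomparable_of_isHenselization R S P Q) P

end Groth.Agent.Lib.Helper4.Hzn

namespace Groth.Agent.Lib.Helper4.Hzs

variable (R : Type u) [CommRing R] [IsLocalRing R]

theorem incomparable_of_isStrictHenselization (S : Type u) [CommRing S] [IsLocalRing S]
    [Algebra R S] [IsLocalHom (algebraMap R S)] [Hensel.IsStrictHenselization R S]
    (P Q : Ideal S) [P.IsPrime] [Q.IsPrime] (hPQ : P ≤ Q) (hu : P.under R = Q.under R) :
    P = Q := by
  obtain ⟨e⟩ := nonempty_algEquiv_strict R S (Hs R)
  exact Hzn.incomparable_of_algEquiv e (Hs.incomparable R) P Q hPQ hu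

theorem mem_associatedPrimes_iff_of_isStrictHenselization [IsNoetherianRing R] (S : Type u)
    [CommRing S] [IsLocalRing S] [Algebra R S] [IsLocalHom (algebraMap R S)]
    [Hensel.IsStrictHenselization R S] (P : Ideal S) [P.IsPrime] :
    P ∈ associatedPrimes S S ↔ P.comap (algebraMap R S) ∈ associatedPrimes R R := by
  have := (isNoetherianRing_iff_of_isStrictHenselization R S).mp inferInstance
  have := faithfullyFlat_of_isStrictHenselization R S
  exact Hzn.mem_associatedPrimes_iff_of_flat_incomparable R S
    (fun P Q _ _ => incomparable_of_isStrictHenselization R S P Q) P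

end Groth.Agent.Lib.Helper4.Hzs
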