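import Mathlib
import Groth.Prelude.Def_CAlg2
import Groth.Prelude.Def_EssEt
import Groth.Agent.Lib.Helper4.BrnchLocDom
import Groth.Agent.Lib.Helper4.BrnchLocDom2
import Groth.Agent.Lib.Helper4.BrnchLocDom3
import Groth.Agent.Lib.Helper4.HzsSub
import Groth.Agent.Lib.Helper4.HzsSub3
import Groth.Agent.Lib.Helper4.HznAss
import Groth.Agent.Lib.Helper4.HznWE
import Groth.Agent.Lib.Helper4.BrnchLocDom4
import Groth.Agent.Lib.Helper4.HznProps
import Groth.Agent.Lib.Helper4.HzsHens

set_option autoImplicit false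
universe u

namespace Groth.Agent.Lib.Helper4.BrnchLocDom

open TensorProduct IsLocalRing

theorem LocDom.of_faithfullyFlat {R R' : Type*} [CommRing R] [CommRing R'] [Algebra R R']
    [Module.FaithfullyFlat R R'] (h : LocDom R') : LocDom R := by
  classical
  intro P hP x y hxy
  obtain ⟨⟨P', hP'⟩, hPP'⟩ :=
    PrimeSpectrum.comap_surjective_of_faithfullyFlat (A := R) (B := R') ⟨P, hP⟩
  have hcomap : P'.comap (algebraMap R R') = P := congrArg PrimeSpectrum.asIdeal hPP'
  obtain ⟨u', hu', h1⟩ := h P' hP' (algebraMap R R' x) (algebraMap R R' y)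
    (by rw [← map_mul, hxy, map_zero])
  have key : ∀ z : R, u' * algebraMap R R' z = 0 → ∃ u, u ∉ P ∧ u * z = 0 := by
    intro z hz
    have h2 := Hzn.mem_map_annihilator_of_flat (R := R) (S := R') {z} u' (by
      intro a ha
      rw [Finset.mem_singleton] at ha
      rw [ha, mul_comm]; exact hz)
    by_contra hcon
    push Not at hcon
    have h3 : Submodule.annihilator (Ideal.span (((({z} : Finset R)) : Set R))) ≤ P := by
      intro u hu
      by_contra huP
      apply hcon u huP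
      have := (Submodule.mem_annihilator_span _ _).mp hu ⟨z, by simp⟩
      exact this
    have h4 : (Submodule.annihilator (Ideal.span (((({z} : Finset R)) : Set R)))).map
        (algebraMap R R') ≤ P' := by
      rw [Ideal.map_le_iff_le_comap, hcomap]
      exact h3
    exact hu' (h4 h2)
  rcases h1 with h1 | h1
  · obtain ⟨u, hu, hux⟩ := key x h1
    exact ⟨u, hu, Or.inl hux⟩
  · obtain ⟨u, hu, huy⟩ := key y h1
    exact ⟨u, hu, Or.inr huy⟩

end Groth.Agent.Lib.Helper4.BrnchLocDom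

namespace Groth.Agent.Lib.Helper4.BrnchLocDom

open TensorProduct IsLocalRing

theorem locDom_tensor_henselization (A A' Ah : Type u) [CommRing A] [IsLocalRing A]
    [CommRing A'] [Algebra A A'] [CommRing Ah] [IsLocalRing Ah] [Algebra A Ah]
    [IsLocalHom (algebraMap A Ah)] [hAh : Hensel.IsHenselization A Ah] (hA' : LocGU A') :
    LocDom (A' ⊗[A] Ah) := by
  -- a strict henselization
  let Ash := Hzs.Hs A
  have hHs : HenselianLocalRing (Hzs.Hs A) := (inferInstance : Hensel.IsStrictHenselization A (Hzs.Hs A)).henselian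
  obtain ⟨g, hg, -⟩ := hAh.universal (Hzs.Hs A) (algebraMap A (Hzs.Hs A)) inferInstance
  let _ : Algebra Ah (Hzs.Hs A) := g.toAlgebra
  have hst : IsScalarTower A Ah (Hzs.Hs A) := IsScalarTower.of_algebraMap_eq
    (fun a => (congrArg (fun F => F a) hg).symm)
  have hwe : Algebra.WeaklyEtale A Ah := IndEt.weaklyEtale_of_isHenselization A Ah
  have hflatA : Module.Flat A (Hzs.Hs A) := inferInstance
  have hflat : Module.Flat Ah (Hzs.Hs A) := (IndEt.flat_iff_of_weaklyEtale A Ah (Hzs.Hs A)).mp hflatA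
  have hloc : IsLocalHom (algebraMap Ah (Hzs.Hs A)) := by
    apply ((local_hom_TFAE (algebraMap Ah (Hzs.Hs A))).out 0 2).mpr
    rw [← Hzn.map_maximalIdeal_of_isHenselization A Ah, Ideal.map_map,
      ← IsScalarTower.algebraMap_eq]
    exact IsLocalRing.map_maximalIdeal_le (algebraMap A (Hzs.Hs A))
  have hff : Module.FaithfullyFlat Ah (Hzs.Hs A) := Module.FaithfullyFlat.of_flat_of_isLocalHom
  have h0 : LocDom (A' ⊗[A] Hzs.Hs A) := locDom_tensor_strictHenselization A A' (Hzs.Hs A) hA'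
  have h1 : LocDom (Hzs.Hs A ⊗[A] A') :=
    h0.of_ringEquiv (Algebra.TensorProduct.comm A A' (Hzs.Hs A)).toRingEquiv
  have h2 : LocDom (Hzs.Hs A ⊗[Ah] (Ah ⊗[A] A')) :=
    h1.of_ringEquiv (Algebra.TensorProduct.cancelBaseChange A Ah Ah (Hzs.Hs A) A').symm.toRingEquiv
  have h3 : LocDom ((Ah ⊗[A] A') ⊗[Ah] Hzs.Hs A) :=
    h2.of_ringEquiv (Algebra.TensorProduct.comm Ah (Hzs.Hs A) (Ah ⊗[A] A')).toRingEquiv
  have h4 : LocDom (Ah ⊗[A] A') := LocDom.of_faithfullyFlat (R' := (Ah ⊗[A] A') ⊗[Ah] Hzs.Hs A) h3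
  exact h4.of_ringEquiv (Algebra.TensorProduct.comm A Ah A').toRingEquiv

end Groth.Agent.Lib.Helper4.BrnchLocDom
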