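import Mathlib
import Groth.Prelude.Def_CAlg2
import Groth.Agent.Helper19.BrnchProd
import Groth.Agent.S9810
import Groth.Agent.S9812

/-!
# Localizations of the normalization of a reduced ring with finitely many minimal primes
are normal domains
-/

set_option autoImplicit false
set_option linter.unusedSectionVars false
universe u

namespace Groth.Agent.Lib.Helper4.BrnchNormal

open Groth.Agent.Helper19.BrnchLib Groth.Agent.Helper19.BrnchProd

section General

variable {B : Type u} [CommRing B] [IsReduced B]
  {ι : Type u} [Fintype ι]
  {D : ι → Type u} [∀ i, CommRing (D i)] [∀ i, IsDomain (D i)]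
  {g : ∀ i, B →+* D i} (h : Cond g)

theorem exists_eC_notMem (P : Ideal (integralClosure B (FractionRing B))) [hP : P.IsPrime] :
    ∃ i, eC h i ∉ P := by
  by_contra hcon
  push Not at hcon
  have h1 : (1 : integralClosure B (FractionRing B)) ∈ P := by
    rw [← sum_eC h]
    exact P.sum_mem fun i _ => hcon i
  exact hP.ne_top ((Ideal.eq_top_iff_one _).mpr h1)

theorem ker_rho_le (P : Ideal (integralClosure B (FractionRing B))) [hP : P.IsPrime] (i : ι)
    (hi : eC h i ∉ P) : RingHom.ker (rho h i) ≤ P := by
  intro x hx
  have h1 : x * eC h i = 0 := mul_eC_eq_zero_of_rho_eq_zero h i ((RingHom.mem_ker).mp hx)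
  have h2 : x * eC h i ∈ P := by rw [h1]; exact P.zero_mem
  exact (hP.mem_or_mem h2).resolve_right hi

include h in
theorem isDomain_and_isIntegrallyClosed_localization
    (P : Ideal (integralClosure B (FractionRing B))) [hP : P.IsPrime] :
    IsDomain (Localization.AtPrime P) ∧ IsIntegrallyClosed (Localization.AtPrime P) := by
  obtain ⟨i, hi⟩ := exists_eC_notMem h P
  have hker := ker_rho_le h P i hi
  have hsurj := rho_surjective h i
  have hPi : (P.map (rho h i)).IsPrime := Ideal.map_isPrime_of_surjective hsurj hker
  have hcomap : (P.map (rho h i)).comap (rho h i) = P := by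
    rw [Ideal.comap_map_of_surjective _ hsurj, ← RingHom.ker_eq_comap_bot]
    exact sup_eq_left.mpr hker
  -- the target localization
  have hCic : IsIntegrallyClosed (integralClosure (D i) (FractionRing (D i))) :=
    integralClosure.isIntegrallyClosedOfFiniteExtension (FractionRing (D i))
  have hLic : IsIntegrallyClosed (Localization.AtPrime (P.map (rho h i))) :=
    isIntegrallyClosed_of_isLocalization (Localization.AtPrime (P.map (rho h i))) (P.map (rho h i)).primeCompl
      (Ideal.primeCompl_le_nonZeroDivisors _)
  have hLdom : IsDomain (Localization.AtPrime (P.map (rho h i))) := IsLocalization.isDomain_localization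
    (Ideal.primeCompl_le_nonZeroDivisors (P.map (rho h i)))
  let _ : Algebra (integralClosure B (FractionRing B)) (Localization.AtPrime (P.map (rho h i))) :=
    ((algebraMap (integralClosure (D i) (FractionRing (D i))) (Localization.AtPrime (P.map (rho h i)))).comp (rho h i)).toAlgebra
  have halg : ∀ x : integralClosure B (FractionRing B),
      algebraMap (integralClosure B (FractionRing B)) (Localization.AtPrime (P.map (rho h i))) x = algebraMap (integralClosure (D i) (FractionRing (D i))) (Localization.AtPrime (P.map (rho h i))) (rho h i x) :=
    fun x => rfl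
  have hloc : IsLocalization.AtPrime (Localization.AtPrime (P.map (rho h i))) P := by
    rw [IsLocalization.AtPrime, isLocalization_iff]
    refine ⟨?_, ?_, ?_⟩
    · rintro ⟨y, hy⟩
      rw [halg]
      apply IsLocalization.map_units (Localization.AtPrime (P.map (rho h i))) (⟨rho h i y, ?_⟩ : (P.map (rho h i)).primeCompl)
      intro hmem
      apply hy
      rw [← hcomap]
      exact hmem
    · intro z
      obtain ⟨⟨c, s⟩, hz⟩ := IsLocalization.surj (P.map (rho h i)).primeCompl z
      obtain ⟨c', rfl⟩ := hsurj c
      obtain ⟨s', hs'⟩ := hsurj (s : (integralClosure (D i) (FractionRing (D i))))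
      have hs'P : s' ∈ P.primeCompl := by
        intro hmem
        apply s.2
        rw [← hs']
        exact Ideal.mem_map_of_mem _ hmem
      refine ⟨(c', ⟨s', hs'P⟩), ?_⟩
      rw [halg, halg]
      simp only
      rw [hs']
      exact hz
    · intro x y hxy
      rw [halg, halg] at hxy
      have h1 : rho h i x = rho h i y :=
        IsLocalization.injective (Localization.AtPrime (P.map (rho h i))) (Ideal.primeCompl_le_nonZeroDivisors (P.map (rho h i))) hxy
      have h2 : (x - y) * eC h i = 0 :=
        mul_eC_eq_zero_of_rho_eq_zero h i (by rw [map_sub, h1, sub_self])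
      refine ⟨⟨eC h i, hi⟩, ?_⟩
      have : eC h i * x - eC h i * y = 0 := by rw [← mul_sub, mul_comm]; exact h2
      exact sub_eq_zero.mp this
  let e : Localization.AtPrime P ≃ₐ[integralClosure B (FractionRing B)] (Localization.AtPrime (P.map (rho h i))) :=
    IsLocalization.algEquiv P.primeCompl (Localization.AtPrime P) (Localization.AtPrime (P.map (rho h i)))
  refine ⟨e.toRingEquiv.toMulEquiv.isDomain _, ?_⟩
  have e' : (Localization.AtPrime (P.map (rho h i))) ≃+* Localization.AtPrime P := e.symm.toRingEquiv
  exact IsIntegrallyClosed.of_equiv (R := Localization.AtPrime (P.map (rho h i))) (h := hLic) e'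

end General

section NormRed

variable (A : Type u) [CommRing A] (hfin : (minimalPrimes A).Finite)

include hfin in
theorem normRed_localization (P : Ideal (CAlg2.normRed A)) [hP : P.IsPrime] :
    IsDomain (Localization.AtPrime P) ∧ IsIntegrallyClosed (Localization.AtPrime P) := by
  have : Fintype (minimalPrimes A) := hfin.fintype
  exact isDomain_and_isIntegrallyClosed_localization (Groth.Agent.S9810.cond_gg A) P

include hfin in
theorem normRed_localization_isGeomUnibranch (P : Ideal (CAlg2.normRed A)) [hP : P.IsPrime] :
    CAlg2.IsGeomUnibranch (Localization.AtPrime P) := by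
  obtain ⟨h1, h2⟩ := normRed_localization A hfin P
  exact Groth.Agent.S9812.result (Localization.AtPrime P)

end NormRed

end Groth.Agent.Lib.Helper4.BrnchNormal
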