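import Mathlib
import Groth.Prelude.Def_CAlg2

/-!
# Unibranch local rings with separably closed residue field are geometrically unibranch
-/

set_option autoImplicit false
universe u

namespace Groth.Agent.Lib.Helper4.Unibr

open IsLocalRing CAlg2

theorem pow_mem_range_of_isSepClosed (A K : Type u) [CommRing A] [IsLocalRing A]
    [hsc : IsSepClosed (ResidueField A)] [Field K] (f : A →+* K)
    (hf0 : ∀ a ∈ maximalIdeal A, f a = 0) (hint : ∀ x : K, f.IsIntegralElem x) (x : K) :
    ∃ n : ℕ, x ^ (ringExpChar K) ^ n ∈ f.range := by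
  classical
  let _ : Algebra A K := f.toAlgebra
  let g : ResidueField A →+* K := Ideal.Quotient.lift (maximalIdeal A) f hf0
  let _ : Algebra (ResidueField A) K := g.toAlgebra
  have htow : IsScalarTower A (ResidueField A) K :=
    IsScalarTower.of_algebraMap_eq fun _ => rfl
  have halg : Algebra.IsAlgebraic (ResidueField A) K := by
    have h1 : Algebra.IsIntegral (ResidueField A) K := by
      refine ⟨fun x => ?_⟩
      have h2 : IsIntegral A x := hint x
      exact h2.tower_top
    infer_instance
  have hpi : IsPurelyInseparable (ResidueField A) K := inferInstance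
  have hq : ExpChar K (ringExpChar K) := ringExpChar.expChar _
  have hqR : ExpChar (ResidueField A) (ringExpChar K) := RingHom.expChar g g.injective _
  obtain ⟨n, y, hy⟩ := IsPurelyInseparable.pow_mem (ResidueField A) (ringExpChar K) x
  obtain ⟨a, rfl⟩ := residue_surjective y
  exact ⟨n, a, hy⟩

theorem isGeomUnibranch_of_isSepClosed (A : Type u) [CommRing A] [IsLocalRing A]
    [hsc : IsSepClosed (ResidueField A)] (h : IsUnibranch A) : IsGeomUnibranch A := by
  classical
  refine ⟨h, ?_⟩
  obtain ⟨hdom, hloc⟩ := h
  intro m' hm'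
  let _ : Field (normRed A ⧸ m') := Ideal.Quotient.field m'
  have hint : Algebra.IsIntegral A (normRed A) := Algebra.IsIntegral.trans (red A)
  have hcomap : m'.comap (algebraMap A (normRed A)) = maximalIdeal A :=
    IsLocalRing.eq_maximalIdeal (Ideal.isMaximal_comap_of_isIntegral_of_isMaximal m')
  refine pow_mem_range_of_isSepClosed A (normRed A ⧸ m') _ ?_ ?_
  · intro a ha
    rw [← hcomap] at ha
    exact Ideal.Quotient.eq_zero_iff_mem.mpr ha
  · intro x
    obtain ⟨y, rfl⟩ := Ideal.Quotient.mk_surjective x
    have hy : IsIntegral A y := Algebra.IsIntegral.isIntegral y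
    exact hy.map_of_comp_eq (RingHom.id A) (Ideal.Quotient.mk m') rfl

end Groth.Agent.Lib.Helper4.Unibr
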