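import Mathlib
import Groth.Prelude.Def_CAlg2
import Groth.Prelude.Def_Brnch
import Groth.Prelude.Def_Hensel
import Groth.Agent.Lib.Helper4.BrnchCount2
import Groth.Agent.Lib.Helper4.HzsUnibr6

set_option autoImplicit false
set_option linter.unusedSectionVars false
universe u

namespace Groth.Agent.Lib.Helper4.BrnchEmb

open TensorProduct IsLocalRing CAlg2 Brnch

variable (A : Type u) [CommRing A] [IsLocalRing A] (Ash : Type u) [CommRing Ash] [IsLocalRing Ash]
  [Algebra A Ash] [IsLocalHom (algebraMap A Ash)] [hS : Hensel.IsStrictHenselization A Ash]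
  (B : Type u) [CommRing B] [Algebra A B] [Algebra.IsIntegral A B]

/-- Embeddings over `A` of the residue field at a maximal ideal of an `A`-algebra `B`. -/
def EmbG (m' : MaximalSpectrum B) : Type u :=
  {σ : B ⧸ m'.asIdeal →+* AlgebraicClosure (ResidueField A) //
    σ.comp ((Ideal.Quotient.mk m'.asIdeal).comp (algebraMap A B)) = toClosure A}

/-- An embedding of the residue field of `A^sh` into the algebraic closure. -/
noncomputable def iota : ResidueField Ash →ₐ[ResidueField A] AlgebraicClosure (ResidueField A) :=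
  have : Algebra.IsSeparable (ResidueField A) (ResidueField Ash) := hS.isSepClosure.separable
  IsAlgClosed.lift

/-- `A^sh → k^alg`. -/
noncomputable def gS : Ash →+* AlgebraicClosure (ResidueField A) :=
  (iota A Ash : ResidueField Ash →+* AlgebraicClosure (ResidueField A)).comp (residue Ash)

theorem gS_algebraMap (a : A) : gS A Ash (algebraMap A Ash a) = toClosure A a := by
  show iota A Ash (residue Ash (algebraMap A Ash a)) = _
  have h1 : residue Ash (algebraMap A Ash a) =
      algebraMap (ResidueField A) (ResidueField Ash) (residue A a) := rfl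
  rw [h1, AlgHom.commutes]
  rfl

theorem gS_eq_zero_iff (s : Ash) : gS A Ash s = 0 ↔ s ∈ maximalIdeal Ash := by
  show iota A Ash (residue Ash s) = 0 ↔ _
  rw [map_eq_zero_iff (iota A Ash) (iota A Ash).toRingHom.injective, residue_eq_zero_iff]

section Lift

variable {A} {A' S K : Type u} [CommRing A'] [Algebra A A'] [CommRing S] [Algebra A S] [CommRing K]

/-- Ring maps out of a tensor product. -/
noncomputable def tensorLift (f : A' →+* K) (g : S →+* K)
    (h : ∀ a, f (algebraMap A A' a) = g (algebraMap A S a)) : A' ⊗[A] S →+* K :=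
  letI : Algebra A K := (f.comp (algebraMap A A')).toAlgebra
  (Algebra.TensorProduct.productMap ({ f with commutes' := fun _ => rfl } : A' →ₐ[A] K)
    ({ g with commutes' := fun a => (h a).symm } : S →ₐ[A] K)).toRingHom

theorem tensorLift_tmul (f : A' →+* K) (g : S →+* K)
    (h : ∀ a, f (algebraMap A A' a) = g (algebraMap A S a)) (a' : A') (s : S) :
    tensorLift f g h (a' ⊗ₜ[A] s) = f a' * g s := by
  let _ : Algebra A K := (f.comp (algebraMap A A')).toAlgebra
  exact Algebra.TensorProduct.productMap_apply_tmul _ _ a' s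

theorem ringHom_ext_tensor {φ ψ : A' ⊗[A] S →+* K}
    (h1 : ∀ a', φ (a' ⊗ₜ[A] 1) = ψ (a' ⊗ₜ[A] 1)) (h2 : ∀ s, φ (1 ⊗ₜ[A] s) = ψ (1 ⊗ₜ[A] s)) :
    φ = ψ := by
  refine RingHom.ext fun z => ?_
  induction z using TensorProduct.induction_on with
  | zero => rw [map_zero, map_zero]
  | tmul a' s =>
    have : a' ⊗ₜ[A] s = (a' ⊗ₜ[A] (1 : S)) * ((1 : A') ⊗ₜ[A] s) := by
      rw [Algebra.TensorProduct.tmul_mul_tmul, mul_one, one_mul]
    rw [this, map_mul, map_mul, h1, h2]
  | add z₁ z₂ h₁ h₂ => rw [map_add, map_add, h₁, h₂]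

end Lift

section Phi

variable (m' : MaximalSpectrum B) (σ : EmbG A B m')

theorem emb_comp (a : A) :
    (σ.1.comp (Ideal.Quotient.mk m'.asIdeal)) (algebraMap A (B) a) =
      gS A Ash (algebraMap A Ash a) := by
  rw [gS_algebraMap]
  exact congrArg (fun F => F a) σ.2

/-- The point of `A' ⊗ A^sh` attached to an embedding. -/
noncomputable def phi : B ⊗[A] Ash →+* AlgebraicClosure (ResidueField A) :=
  tensorLift (σ.1.comp (Ideal.Quotient.mk m'.asIdeal)) (gS A Ash) (emb_comp A Ash B m' σ)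

theorem phi_tmul (a' : B) (s : Ash) :
    phi A Ash B m' σ (a' ⊗ₜ[A] s) = σ.1 (Ideal.Quotient.mk m'.asIdeal a') * gS A Ash s :=
  tensorLift_tmul _ _ _ a' s

theorem sigma_injective : Function.Injective σ.1 := by
  let _ : Field (B ⧸ m'.asIdeal) := Ideal.Quotient.field _
  exact σ.1.injective

theorem comap_ker_phi_left :
    (RingHom.ker (phi A Ash B m' σ)).comap (algebraMap (B) (B ⊗[A] Ash)) =
      m'.asIdeal := by
  ext a'
  rw [Ideal.mem_comap, RingHom.mem_ker, Algebra.TensorProduct.algebraMap_apply,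
    Algebra.algebraMap_self, RingHom.id_apply, phi_tmul, map_one, mul_one,
    map_eq_zero_iff _ (sigma_injective A B m' σ), Ideal.Quotient.eq_zero_iff_mem]

theorem comap_ker_phi_right :
    (RingHom.ker (phi A Ash B m' σ)).comap
      (Algebra.TensorProduct.includeRight : Ash →ₐ[A] B ⊗[A] Ash).toRingHom =
      maximalIdeal Ash := by
  ext s
  rw [Ideal.mem_comap, RingHom.mem_ker]
  show phi A Ash B m' σ ((1 : B) ⊗ₜ[A] s) = 0 ↔ _
  rw [phi_tmul, map_one, map_one, one_mul, gS_eq_zero_iff]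

theorem ker_phi_isMaximal : (RingHom.ker (phi A Ash B m' σ)).IsMaximal := by
  have hp : (RingHom.ker (phi A Ash B m' σ)).IsPrime := RingHom.ker_isPrime _
  have hc := comap_ker_phi_right A Ash B m' σ
  obtain ⟨I, hI⟩ : ∃ I, I = RingHom.ker (phi A Ash B m' σ) := ⟨_, rfl⟩
  rw [← hI] at hp hc ⊢
  let _ : Algebra Ash (B ⊗[A] Ash) := Algebra.TensorProduct.rightAlgebra
  have hint2 : Algebra.IsIntegral Ash (B ⊗[A] Ash) :=
    BrnchCount.isIntegral_rightAlgebra A (B) Ash
  refine Ideal.isMaximal_of_isIntegral_of_isMaximal_comap (R := Ash) (S := B ⊗[A] Ash) I ?_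
  show (I.comap
      (Algebra.TensorProduct.includeRight : Ash →ₐ[A] B ⊗[A] Ash).toRingHom).IsMaximal
  rw [hc]
  exact IsLocalRing.maximalIdeal.isMaximal Ash

end Phi

/-- The map from embeddings to maximal ideals. -/
noncomputable def Phi : (Σ m' : MaximalSpectrum B, EmbG A B m') →
    MaximalSpectrum (B ⊗[A] Ash) := fun x =>
  ⟨RingHom.ker (phi A Ash B x.1 x.2), ker_phi_isMaximal A Ash B x.1 x.2⟩

theorem eq_of_ker_eq {R K : Type*} [CommRing R] [CommRing K] (f g : R →+* K)
    (h : RingHom.ker f = RingHom.ker g) {x y : R} (hxy : f x = f y) : g x = g y := by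
  have : x - y ∈ RingHom.ker f := by rw [RingHom.mem_ker, map_sub, hxy, sub_self]
  rw [h, RingHom.mem_ker, map_sub, sub_eq_zero] at this
  exact this

theorem gS_isIntegralElem (x : AlgebraicClosure (ResidueField A)) :
    (gS A Ash).IsIntegralElem x := by
  have hx : IsIntegral (ResidueField A) x := Algebra.IsIntegral.isIntegral x
  obtain ⟨P, hP, hPx⟩ := hx
  have hl : P ∈ Polynomial.lifts (residue A) := by
    rw [Polynomial.mem_lifts]
    exact Polynomial.map_surjective _ residue_surjective P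
  obtain ⟨Q, hQ, -, hQm⟩ := Polynomial.lifts_and_natDegree_eq_and_monic hl hP
  refine ⟨Q.map (algebraMap A Ash), hQm.map _, ?_⟩
  rw [Polynomial.eval₂_map]
  have h1 : (gS A Ash).comp (algebraMap A Ash) =
      (algebraMap (ResidueField A) (AlgebraicClosure (ResidueField A))).comp (residue A) := by
    ext a
    exact gS_algebraMap A Ash a
  rw [h1, ← Polynomial.eval₂_map, hQ]
  exact hPx

theorem Phi_injective : Function.Injective (Phi A Ash B) := by
  have hsc : IsSepClosed (ResidueField Ash) := hS.isSepClosure.sep_closed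
  rintro ⟨m₁, σ₁⟩ ⟨m₂, σ₂⟩ h
  have hker : RingHom.ker (phi A Ash B m₁ σ₁) = RingHom.ker (phi A Ash B m₂ σ₂) :=
    congrArg MaximalSpectrum.asIdeal h
  have hm : m₁ = m₂ := by
    have h1 := comap_ker_phi_left A Ash B m₁ σ₁
    have h2 := comap_ker_phi_left A Ash B m₂ σ₂
    rw [hker, h2] at h1
    cases m₁; cases m₂
    simp only at h1
    congr
    exact h1.symm
  subst hm
  have hσ : σ₁ = σ₂ := by
    apply Subtype.ext
    refine RingHom.ext fun x => ?_
    obtain ⟨a', rfl⟩ := Ideal.Quotient.mk_surjective x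
    have e1 : σ₁.1 (Ideal.Quotient.mk m₁.asIdeal a') = phi A Ash B m₁ σ₁ (a' ⊗ₜ[A] 1) := by
      rw [phi_tmul, map_one, mul_one]
    have e2 : σ₂.1 (Ideal.Quotient.mk m₁.asIdeal a') = phi A Ash B m₁ σ₂ (a' ⊗ₜ[A] 1) := by
      rw [phi_tmul, map_one, mul_one]
    obtain ⟨n, s, hs⟩ := Unibr.pow_mem_range_of_isSepClosed Ash
      (AlgebraicClosure (ResidueField A)) (gS A Ash)
      (fun a ha => (gS_eq_zero_iff A Ash a).mpr ha) (gS_isIntegralElem A Ash)
      (phi A Ash B m₁ σ₁ (a' ⊗ₜ[A] 1))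
    set q := ringExpChar (AlgebraicClosure (ResidueField A)) with hq
    have hmem1 : phi A Ash B m₁ σ₁ ((a' ⊗ₜ[A] (1 : Ash)) ^ q ^ n) =
        phi A Ash B m₁ σ₁ ((1 : B) ⊗ₜ[A] s) := by
      rw [RingHom.map_pow, phi_tmul A Ash B m₁ σ₁ 1 s, map_one, map_one, one_mul, hs]
    have hmem := eq_of_ker_eq (phi A Ash B m₁ σ₁) (phi A Ash B m₁ σ₂) hker hmem1
    rw [RingHom.map_pow, phi_tmul A Ash B m₁ σ₂ 1 s, map_one, map_one, one_mul, hs] at hmem
    have hexp : ExpChar (AlgebraicClosure (ResidueField A)) q := ringExpChar.expChar _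
    have := iterateFrobenius_inj (AlgebraicClosure (ResidueField A)) q n
      (by rw [iterateFrobenius_def, iterateFrobenius_def]; exact hmem.symm :
        iterateFrobenius _ q n (phi A Ash B m₁ σ₁ (a' ⊗ₜ[A] 1)) =
          iterateFrobenius _ q n (phi A Ash B m₁ σ₂ (a' ⊗ₜ[A] 1)))
    rw [e1, e2]
    exact this
  rw [hσ]

theorem Phi_surjective : Function.Surjective (Phi A Ash B) := by
  rintro ⟨N, hN⟩
  let _ : Field ((B ⊗[A] Ash) ⧸ N) := Ideal.Quotient.field N
  let g₀ : Ash →+* (B ⊗[A] Ash) ⧸ N := (Ideal.Quotient.mk N).comp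
    (Algebra.TensorProduct.includeRight : Ash →ₐ[A] B ⊗[A] Ash).toRingHom
  have hg₀ : ∀ s ∈ maximalIdeal Ash, g₀ s = 0 := by
    intro s hs
    rw [← BrnchCount.comap_includeRight_eq A B Ash N] at hs
    exact Ideal.Quotient.eq_zero_iff_mem.mpr hs
  let gbar : ResidueField Ash →+* (B ⊗[A] Ash) ⧸ N :=
    Ideal.Quotient.lift (maximalIdeal Ash) g₀ hg₀
  let _ : Algebra (ResidueField Ash) ((B ⊗[A] Ash) ⧸ N) := gbar.toAlgebra
  let _ : Algebra (ResidueField Ash) (AlgebraicClosure (ResidueField A)) :=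
    (iota A Ash).toRingHom.toAlgebra
  have halg : Algebra.IsAlgebraic (ResidueField Ash) ((B ⊗[A] Ash) ⧸ N) := by
    let _ : Algebra Ash (B ⊗[A] Ash) := Algebra.TensorProduct.rightAlgebra
    have hint2 : Algebra.IsIntegral Ash (B ⊗[A] Ash) := BrnchCount.isIntegral_rightAlgebra A B Ash
    have h1 : Algebra.IsIntegral (ResidueField Ash) ((B ⊗[A] Ash) ⧸ N) := by
      refine ⟨fun x => ?_⟩
      obtain ⟨t, rfl⟩ := Ideal.Quotient.mk_surjective x
      obtain ⟨P, hP, hPt⟩ := hint2.isIntegral t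
      refine ⟨P.map (residue Ash), hP.map _, ?_⟩
      rw [Polynomial.eval₂_map]
      have h2 : (algebraMap (ResidueField Ash) ((B ⊗[A] Ash) ⧸ N)).comp (residue Ash) =
          (Ideal.Quotient.mk N).comp (algebraMap Ash (B ⊗[A] Ash)) := by
        ext s
        rfl
      rw [h2, ← Polynomial.hom_eval₂, hPt, map_zero]
    infer_instance
  let φbar : (B ⊗[A] Ash) ⧸ N →ₐ[ResidueField Ash] AlgebraicClosure (ResidueField A) :=
    IsAlgClosed.lift
  have hφres : ∀ s : Ash, φbar (Ideal.Quotient.mk N ((1 : B) ⊗ₜ[A] s)) = gS A Ash s := by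
    intro s
    have h1 : Ideal.Quotient.mk N ((1 : B) ⊗ₜ[A] s) =
        algebraMap (ResidueField Ash) ((B ⊗[A] Ash) ⧸ N) (residue Ash s) := rfl
    rw [h1, φbar.commutes]
    rfl
  let m' : MaximalSpectrum B := ⟨N.comap (algebraMap B (B ⊗[A] Ash)),
    BrnchCount.isMaximal_comap_includeLeft A B Ash N⟩
  let σ₀ : B ⧸ m'.asIdeal →+* AlgebraicClosure (ResidueField A) :=
    Ideal.Quotient.lift m'.asIdeal
      (φbar.toRingHom.comp ((Ideal.Quotient.mk N).comp (algebraMap B (B ⊗[A] Ash))))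
      (fun b hb => by
        have h1 : Ideal.Quotient.mk N (algebraMap B (B ⊗[A] Ash) b) = 0 :=
          Ideal.Quotient.eq_zero_iff_mem.mpr hb
        show φbar (Ideal.Quotient.mk N (algebraMap B (B ⊗[A] Ash) b)) = 0
        rw [h1, map_zero])
  have hσ₀ : ∀ b : B, σ₀ (Ideal.Quotient.mk m'.asIdeal b) =
      φbar (Ideal.Quotient.mk N (b ⊗ₜ[A] (1 : Ash))) := fun b => rfl
  have hσ : σ₀.comp ((Ideal.Quotient.mk m'.asIdeal).comp (algebraMap A B)) = toClosure A := by
    ext a
    rw [RingHom.comp_apply, RingHom.comp_apply, hσ₀, ← gS_algebraMap A Ash a, ← hφres]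
    congr 2
    rw [Algebra.algebraMap_eq_smul_one, Algebra.algebraMap_eq_smul_one, TensorProduct.smul_tmul]
  obtain ⟨σ, hσ1⟩ : ∃ σ : EmbG A B m', σ.1 = σ₀ := ⟨⟨σ₀, hσ⟩, rfl⟩
  refine ⟨⟨m', σ⟩, ?_⟩
  have hphi : phi A Ash B m' σ = φbar.toRingHom.comp (Ideal.Quotient.mk N) := by
    apply ringHom_ext_tensor
    · intro b
      rw [phi_tmul A Ash B m' σ, map_one, mul_one, hσ1]
      exact hσ₀ b
    · intro s
      rw [phi_tmul A Ash B m' σ, map_one, map_one, one_mul]
      exact (hφres s).symm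
  have hker : RingHom.ker (phi A Ash B m' σ) = N := by
    rw [hphi, RingHom.ker_comp_of_injective _ φbar.toRingHom.injective, Ideal.mk_ker]
  show (⟨RingHom.ker (phi A Ash B m' σ), _⟩ : MaximalSpectrum (B ⊗[A] Ash)) = ⟨N, hN⟩
  congr

theorem card_maximalSpectrum_eq :
    ENat.card (MaximalSpectrum (B ⊗[A] Ash)) =
      ENat.card (Σ m' : MaximalSpectrum B, EmbG A B m') :=
  (ENat.card_congr (Equiv.ofBijective (Phi A Ash B)
    ⟨Phi_injective A Ash B, Phi_surjective A Ash B⟩)).symm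

end Groth.Agent.Lib.Helper4.BrnchEmb
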