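import Mathlib
import Groth.Prelude.Def_Hens2
import Groth.Agent.Lib.Helper4.EtNbhd1
import Groth.Agent.Lib.Helper4.EtNbhd3
import Groth.Agent.Lib.Helper4.EtNbhd4
import Groth.Agent.Lib.Helper4.HzsSub3
import Groth.Agent.Lib.Helper4.HzsStrict
import Groth.Agent.Lib.Helper4.BrnchCompl
import Groth.Agent.S9237
import Groth.Agent.S9238

set_option autoImplicit false
set_option linter.unusedSectionVars false
universe u

namespace Groth.Agent.Lib.Helper4.EtNbhd

open IsLocalRing AlgebraicGeometry CategoryTheory Groth.Agent.Lib.Helper4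

/-- direction (1), geometric case -/
theorem encard_components_le_numGeomBranchesAt {U X : Scheme.{u}} (g : U ⟶ X) [Etale g] (u : U) :
    {Z : Set ↑U | Z ∈ irreducibleComponents ↑U ∧ u ∈ Z}.encard ≤
      Brnch.numGeomBranchesAt X (g u) := by
  rw [encard_components_eq]
  let _ := (g.stalkMap u).hom.toAlgebra
  have hB := essEtale_stalkMap g u
  have hloc : IsLocalHom (algebraMap (X.presheaf.stalk (g u)) (U.presheaf.stalk u)) :=
    inferInstanceAs (IsLocalHom (g.stalkMap u).hom)
  obtain ⟨_, _, _, hsh, -⟩ := Hzs.exists_algebra_of_essEtale hB (Hzs.Hs (X.presheaf.stalk (g u)))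
  have hff := Hzs.faithfullyFlat_of_isStrictHenselization (U.presheaf.stalk u)
    (Hzs.Hs (X.presheaf.stalk (g u)))
  have h1 := BrnchCompl.card_minimalPrimes_le_of_faithfullyFlat (U.presheaf.stalk u)
    (Hzs.Hs (X.presheaf.stalk (g u)))
  have h2 := Groth.Agent.S9238.result (X.presheaf.stalk (g u)) (Hzs.Hs (X.presheaf.stalk (g u)))
  unfold Brnch.numGeomBranchesAt
  rw [← h2]
  exact h1

/-- direction (1), elementary case -/
theorem encard_components_le_numBranchesAt {U X : Scheme.{u}} (g : U ⟶ X) (u : U) (x : X)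
    (h : Hens2.IsEtaleNbhd g u x) :
    {Z : Set ↑U | Z ∈ irreducibleComponents ↑U ∧ u ∈ Z}.encard ≤ Brnch.numBranchesAt X x := by
  obtain ⟨het, hx, hres⟩ := h
  subst hx
  rw [encard_components_eq]
  let _ := (g.stalkMap u).hom.toAlgebra
  have hB := essEtale_stalkMap g u
  have hloc : IsLocalHom (algebraMap (X.presheaf.stalk (g u)) (U.presheaf.stalk u)) :=
    inferInstanceAs (IsLocalHom (g.stalkMap u).hom)
  have hB' : EGA4loc.IsStrictlyEssentiallyEtale (X.presheaf.stalk (g u)) (U.presheaf.stalk u) :=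
    ⟨hB, hres⟩
  obtain ⟨_, _, _, hsh, hff⟩ :=
    exists_algebra_of_strictlyEssEtale hB' (Hzn.Hz (X.presheaf.stalk (g u)))
  have h1 := BrnchCompl.card_minimalPrimes_le_of_faithfullyFlat (U.presheaf.stalk u)
    (Hzn.Hz (X.presheaf.stalk (g u)))
  have h2 := Groth.Agent.S9237.result (X.presheaf.stalk (g u)) (Hzn.Hz (X.presheaf.stalk (g u)))
  unfold Brnch.numBranchesAt
  rw [← h2]
  exact h1

end Groth.Agent.Lib.Helper4.EtNbhd
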