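import Mathlib
import Groth.Prelude.Def_Hens2
import Groth.Agent.Lib.Helper4.EtNbhd5
import Groth.Agent.Lib.Helper4.EtNbhd6
import Groth.Agent.Lib.Helper4.IndEtLoc
import Groth.Agent.Lib.Helper4.IndEtHz
import Groth.Agent.Lib.Helper6.EtLocScheme2
import Groth.Agent.S0734

set_option autoImplicit false
set_option linter.unusedSectionVars false
universe u

namespace Groth.Agent.Lib.Helper4.EtNbhd

open IsLocalRing AlgebraicGeometry CategoryTheory Groth.Agent.Lib.Helper4

/-- localizations at a prime are ind-étale -/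
theorem isIndEtale_of_isLocalization_atPrime (R₀ : Type u) [CommRing R₀] (p : Ideal R₀) [p.IsPrime]
    (A : Type u) [CommRing A] [Algebra R₀ A] [IsLocalization.AtPrime A p] :
    EtPBC.IsIndEtale R₀ A := by
  have h1 := IndEt.ind_atPrime (R := R₀) (E := R₀) (q := p)
  let e : Localization.AtPrime p ≃ₐ[R₀] A := IsLocalization.algEquiv p.primeCompl _ _
  exact IndEt.isIndEtale_of_ind R₀ A (IndEt.ind_of_algEquiv e _ h1)

/-- minimal primes below `q` give irreducible components of `Spec E` through `q` -/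
theorem encard_le_components_spec (E : Type u) [CommRing E] (q : PrimeSpectrum E) :
    {P : Ideal E | P ∈ minimalPrimes E ∧ P ≤ q.asIdeal}.encard ≤
      {Z : Set (PrimeSpectrum E) | Z ∈ irreducibleComponents (PrimeSpectrum E) ∧ q ∈ Z}.encard := by
  refine Set.encard_le_encard_of_injOn (f := fun P => PrimeSpectrum.zeroLocus (P : Set E)) ?_ ?_
  · rintro P ⟨hP, hPq⟩
    refine ⟨?_, ?_⟩
    · rw [← PrimeSpectrum.zeroLocus_minimalPrimes]
      exact ⟨P, hP, rfl⟩
    · rw [PrimeSpectrum.mem_zeroLocus]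
      exact hPq
  · rintro P ⟨hP, -⟩ P' ⟨hP', -⟩ h
    have h1 := congrArg PrimeSpectrum.vanishingIdeal h
    simp only [PrimeSpectrum.vanishingIdeal_zeroLocus_eq_radical] at h1
    have hPp : P.IsPrime := hP.1.1
    have hP'p : P'.IsPrime := hP'.1.1
    rwa [hPp.radical, hP'p.radical] at h1

/-- direction (2), elementary case -/
theorem exists_etaleNbhd_of_le_numBranchesAt (X : Scheme.{u}) (x : X) (n : ℕ)
    (hn : (n : ℕ∞) ≤ Brnch.numBranchesAt X x) :
    ∃ (U : Scheme.{u}) (g : U ⟶ X) (u : U), Hens2.IsEtaleNbhd g u x ∧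
      (n : ℕ∞) ≤ {Z : Set ↑U | Z ∈ irreducibleComponents ↑U ∧ u ∈ Z}.encard := by
  obtain ⟨_, ⟨V, hV, rfl⟩, hxV, -⟩ := X.isBasis_affineOpens.exists_subset_of_mem_open
    (Set.mem_univ x) isOpen_univ
  let _ := X.presheaf.algebra_section_stalk ⟨x, hxV⟩
  have hloc := hV.isLocalization_stalk ⟨x, hxV⟩
  set p : Ideal Γ(X, V) := (hV.primeIdealOf ⟨x, hxV⟩).asIdeal with hp
  let H := Hzn.Hz (X.presheaf.stalk x)
  let _ : Algebra Γ(X, V) H :=
    ((algebraMap (X.presheaf.stalk x) H).comp (algebraMap Γ(X, V) (X.presheaf.stalk x))).toAlgebra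
  have htower : IsScalarTower Γ(X, V) (X.presheaf.stalk x) H :=
    IsScalarTower.of_algebraMap_eq (fun _ => rfl)
  have hind : EtPBC.IsIndEtale Γ(X, V) H :=
    Groth.Agent.S0734.result Γ(X, V) (X.presheaf.stalk x) H
      (isIndEtale_of_isLocalization_atPrime Γ(X, V) p (X.presheaf.stalk x))
      (IndEt.isIndEtale_of_isHenselization (X.presheaf.stalk x) H)
  have h2 := Groth.Agent.S9237.result (X.presheaf.stalk x) H
  have hn' : (n : ℕ∞) ≤ (minimalPrimes H).encard := by
    unfold Brnch.numBranchesAt at hn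
    rw [← h2] at hn
    exact hn
  obtain ⟨T, hT, hTn⟩ := Set.exists_subset_encard_eq hn'
  have hTfin : T.Finite := Set.finite_of_encard_eq_coe hTn
  obtain ⟨E, _, _, hEt, β, hβ⟩ := exists_etale_separating Γ(X, V) H hind T hT hTfin
  rw [hTn] at hβ
  set q : Ideal E := (maximalIdeal H).comap (β : E →+* H) with hq
  have hqprime : q.IsPrime := Ideal.comap_isPrime _ _
  have hqp : q.comap (algebraMap Γ(X, V) E) = p := by
    rw [hq, Ideal.comap_comap]
    have h3 : (β : E →+* H).comp (algebraMap Γ(X, V) E) = algebraMap Γ(X, V) H := β.comp_algebraMap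
    rw [h3, IsScalarTower.algebraMap_eq Γ(X, V) (X.presheaf.stalk x) H, ← Ideal.comap_comap]
    have h4 : (maximalIdeal H).comap (algebraMap (X.presheaf.stalk x) H) =
        maximalIdeal (X.presheaf.stalk x) :=
      ((local_hom_TFAE (algebraMap (X.presheaf.stalk x) H)).out 0 4).mp
        (Hzn.Hz.isLocalHom_algebraMap (X.presheaf.stalk x))
    rw [h4]
    exact IsLocalization.AtPrime.under_maximalIdeal (X.presheaf.stalk x) p
  let u : Spec (.of E) := (⟨q, hqprime⟩ : PrimeSpectrum E)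
  have := hV.isOpenImmersion_fromSpec
  let g : Spec (.of E) ⟶ X := Groth.Agent.Lib.Helper6.EtLoc.gMap hV.fromSpec E
  have hEt' : Etale (Spec.map (CommRingCat.ofHom (algebraMap Γ(X, V) E))) :=
    HasRingHomProperty.Spec_iff.mpr (RingHom.etale_algebraMap.mpr hEt)
  have hgEt : Etale g := by
    change Etale (Spec.map (CommRingCat.ofHom (algebraMap Γ(X, V) E)) ≫ hV.fromSpec)
    infer_instance
  have hgu : g u = x := by
    change (Spec.map (CommRingCat.ofHom (algebraMap Γ(X, V) E)) ≫ hV.fromSpec) u = x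
    rw [Scheme.Hom.comp_apply]
    have h5 : Spec.map (CommRingCat.ofHom (algebraMap Γ(X, V) E)) u = hV.primeIdealOf ⟨x, hxV⟩ := by
      apply PrimeSpectrum.ext
      exact hqp
    rw [h5]
    exact hV.fromSpec_primeIdealOf ⟨x, hxV⟩
  have hTriv : Groth.Agent.Lib.Helper6.EtLoc.TrivRes Γ(X, V) u.asIdeal := by
    intro e
    obtain ⟨a', ha'⟩ := Hzn.Hz.exists_sub_mem (X.presheaf.stalk x) (β e)
    obtain ⟨r, s, rfl⟩ := IsLocalization.exists_mk'_eq p.primeCompl a'
    refine ⟨(s : Γ(X, V)), r, ?_, ?_⟩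
    · intro hs
      have : (s : Γ(X, V)) ∈ q.comap (algebraMap Γ(X, V) E) := hs
      rw [hqp] at this
      exact s.2 this
    · show _ ∈ q
      rw [hq, Ideal.mem_comap]
      show β (algebraMap Γ(X, V) E (s : Γ(X, V)) * e - algebraMap Γ(X, V) E r) ∈ maximalIdeal H
      rw [map_sub, map_mul, β.commutes, β.commutes]
      have h6 : algebraMap Γ(X, V) H (s : Γ(X, V)) * β e - algebraMap Γ(X, V) H r =
          algebraMap Γ(X, V) H (s : Γ(X, V)) *
            (β e - algebraMap (X.presheaf.stalk x) H (IsLocalization.mk' (X.presheaf.stalk x) r s)) := by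
        rw [mul_sub, IsScalarTower.algebraMap_apply Γ(X, V) (X.presheaf.stalk x) H,
          IsScalarTower.algebraMap_apply Γ(X, V) (X.presheaf.stalk x) H, ← map_mul,
          mul_comm _ (IsLocalization.mk' _ _ _), IsLocalization.mk'_spec]
      rw [h6]
      exact Ideal.mul_mem_left _ _ ha'
  refine ⟨Spec (.of E), g, u, ⟨hgEt, hgu, ?_⟩, ?_⟩
  · exact Groth.Agent.Lib.Helper6.EtLoc.gMap_residueFieldMap_bijective hV.fromSpec u hTriv
  · exact hβ.trans (encard_le_components_spec E u)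

/-- direction (2), geometric case -/
theorem exists_etale_of_le_numGeomBranchesAt (X : Scheme.{u}) (x : X) (n : ℕ)
    (hn : (n : ℕ∞) ≤ Brnch.numGeomBranchesAt X x) :
    ∃ (U : Scheme.{u}) (g : U ⟶ X) (u : U), (Etale g ∧ g u = x) ∧
      (n : ℕ∞) ≤ {Z : Set ↑U | Z ∈ irreducibleComponents ↑U ∧ u ∈ Z}.encard := by
  obtain ⟨_, ⟨V, hV, rfl⟩, hxV, -⟩ := X.isBasis_affineOpens.exists_subset_of_mem_open
    (Set.mem_univ x) isOpen_univ
  let _ := X.presheaf.algebra_section_stalk ⟨x, hxV⟩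
  have hloc := hV.isLocalization_stalk ⟨x, hxV⟩
  set p : Ideal Γ(X, V) := (hV.primeIdealOf ⟨x, hxV⟩).asIdeal with hp
  let H := Hzs.Hs (X.presheaf.stalk x)
  let _ : Algebra Γ(X, V) H :=
    ((algebraMap (X.presheaf.stalk x) H).comp (algebraMap Γ(X, V) (X.presheaf.stalk x))).toAlgebra
  have htower : IsScalarTower Γ(X, V) (X.presheaf.stalk x) H :=
    IsScalarTower.of_algebraMap_eq (fun _ => rfl)
  have hind : EtPBC.IsIndEtale Γ(X, V) H :=
    Groth.Agent.S0734.result Γ(X, V) (X.presheaf.stalk x) H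
      (isIndEtale_of_isLocalization_atPrime Γ(X, V) p (X.presheaf.stalk x))
      (IndEt.isIndEtale_of_isStrictHenselization (X.presheaf.stalk x) H)
  have h2 := Groth.Agent.S9238.result (X.presheaf.stalk x) H
  have hn' : (n : ℕ∞) ≤ (minimalPrimes H).encard := by
    unfold Brnch.numGeomBranchesAt at hn
    rw [← h2] at hn
    exact hn
  obtain ⟨T, hT, hTn⟩ := Set.exists_subset_encard_eq hn'
  have hTfin : T.Finite := Set.finite_of_encard_eq_coe hTn
  obtain ⟨E, _, _, hEt, β, hβ⟩ := exists_etale_separating Γ(X, V) H hind T hT hTfin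
  rw [hTn] at hβ
  set q : Ideal E := (maximalIdeal H).comap (β : E →+* H) with hq
  have hqprime : q.IsPrime := Ideal.comap_isPrime _ _
  have hqp : q.comap (algebraMap Γ(X, V) E) = p := by
    rw [hq, Ideal.comap_comap]
    have h3 : (β : E →+* H).comp (algebraMap Γ(X, V) E) = algebraMap Γ(X, V) H := β.comp_algebraMap
    rw [h3, IsScalarTower.algebraMap_eq Γ(X, V) (X.presheaf.stalk x) H, ← Ideal.comap_comap]
    have h4 : (maximalIdeal H).comap (algebraMap (X.presheaf.stalk x) H) =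
        maximalIdeal (X.presheaf.stalk x) :=
      ((local_hom_TFAE (algebraMap (X.presheaf.stalk x) H)).out 0 4).mp
        (Hzs.Hs.isLocalHom_algebraMap (X.presheaf.stalk x))
    rw [h4]
    exact IsLocalization.AtPrime.under_maximalIdeal (X.presheaf.stalk x) p
  let u : Spec (.of E) := (⟨q, hqprime⟩ : PrimeSpectrum E)
  have := hV.isOpenImmersion_fromSpec
  let g : Spec (.of E) ⟶ X := Groth.Agent.Lib.Helper6.EtLoc.gMap hV.fromSpec E
  have hEt' : Etale (Spec.map (CommRingCat.ofHom (algebraMap Γ(X, V) E))) :=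
    HasRingHomProperty.Spec_iff.mpr (RingHom.etale_algebraMap.mpr hEt)
  have hgEt : Etale g := by
    change Etale (Spec.map (CommRingCat.ofHom (algebraMap Γ(X, V) E)) ≫ hV.fromSpec)
    infer_instance
  have hgu : g u = x := by
    change (Spec.map (CommRingCat.ofHom (algebraMap Γ(X, V) E)) ≫ hV.fromSpec) u = x
    rw [Scheme.Hom.comp_apply]
    have h5 : Spec.map (CommRingCat.ofHom (algebraMap Γ(X, V) E)) u = hV.primeIdealOf ⟨x, hxV⟩ := by
      apply PrimeSpectrum.ext
      exact hqp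
    rw [h5]
    exact hV.fromSpec_primeIdealOf ⟨x, hxV⟩
  exact ⟨Spec (.of E), g, u, ⟨hgEt, hgu⟩, hβ.trans (encard_le_components_spec E u)⟩

end Groth.Agent.Lib.Helper4.EtNbhd
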