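import Mathlib
import Groth.Agent.Lib.Helper4.EtNbhd7
import Groth.Agent.S9235
import Groth.Agent.S9236

set_option autoImplicit false
set_option linter.unusedSectionVars false
universe u

namespace Groth.Agent.Lib.Helper4.EtNbhd

open IsLocalRing AlgebraicGeometry CategoryTheory Groth.Agent.Lib.Helper4

theorem one_le_encard_minimalPrimes (R : Type u) [CommRing R] [Nontrivial R] :
    1 ≤ (minimalPrimes R).encard := by
  rw [Set.one_le_encard_iff_nonempty]
  obtain ⟨P, hP⟩ := Ideal.nonempty_minimalPrimes (R := R) (I := ⊥) bot_ne_top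
  exact ⟨P, hP⟩

theorem one_le_encard_components (U : Scheme.{u}) (u : U) :
    1 ≤ {Z : Set ↑U | Z ∈ irreducibleComponents ↑U ∧ u ∈ Z}.encard := by
  rw [encard_components_eq]
  exact one_le_encard_minimalPrimes _

theorem one_le_numBranches (A : Type u) [CommRing A] [IsLocalRing A] :
    1 ≤ Brnch.numBranches A := by
  rw [← Groth.Agent.S9237.result A (Hzn.Hz A)]
  exact one_le_encard_minimalPrimes _

theorem one_le_numGeomBranches (A : Type u) [CommRing A] [IsLocalRing A] :
    1 ≤ Brnch.numGeomBranches A := by
  rw [← Groth.Agent.S9238.result A (Hzs.Hs A)]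
  exact one_le_encard_minimalPrimes _

end Groth.Agent.Lib.Helper4.EtNbhd
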