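import Mathlib
import Groth.Agent.Lib.Helper4.HenselPairK
import Groth.Agent.Lib.Helper4.HenselPairU

/-!
# Lifting maps from étale algebras into integral algebras over a henselian pair (Stacks 09XI / 09ZL)
-/

set_option autoImplicit false
universe u v

namespace Groth.Agent.Lib.Helper4.HenselPair

open scoped TensorProduct

/-- Relative étale lifting: over a henselian pair `(A, I)`, maps from an étale `A`-algebra `B` to
`C ⧸ I C` lift to `C` for every integral `A`-algebra `C`. -/
theorem exists_lift_of_etale_of_isIntegral {A : Type u} {B : Type v} {C : Type u} [CommRing A]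
    [CommRing B] [CommRing C] [Algebra A B] [Algebra A C] [Algebra.Etale A B]
    [Algebra.IsIntegral A C] (I : Ideal A) [HenselianRing A I]
    (σ : B →ₐ[A] C ⧸ I.map (algebraMap A C)) :
    ∃ τ : B →ₐ[A] C, (Ideal.Quotient.mkₐ A (I.map (algebraMap A C))).comp τ = σ := by
  have hC : HenselianRing C (I.map (algebraMap A C)) := henselianRing_map_of_isIntegral A I C
  let σ' : C ⊗[A] B →ₐ[C] C ⧸ I.map (algebraMap A C) :=
    Algebra.TensorProduct.lift (Algebra.ofId C _) σ (fun _ _ => Commute.all _ _)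
  obtain ⟨τ', hτ'⟩ := exists_lift_of_etale (I.map (algebraMap A C)) σ'
  refine ⟨(τ'.restrictScalars A).comp Algebra.TensorProduct.includeRight, ?_⟩
  ext b
  have h1 := congrArg (fun g => g ((1 : C) ⊗ₜ[A] b)) hτ'
  simp only [AlgHom.comp_apply, σ', Algebra.TensorProduct.lift_tmul, map_one, one_mul] at h1
  exact h1

/-- Uniqueness of lifts of maps from an étale algebra into an integral algebra. -/
theorem algHom_ext_of_etale_of_isIntegral {A : Type u} {B : Type v} {C : Type u} [CommRing A]
    [CommRing B] [CommRing C] [Algebra A B] [Algebra A C] [Algebra.Etale A B]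
    [Algebra.IsIntegral A C] (I : Ideal A) [HenselianRing A I] (τ₁ τ₂ : B →ₐ[A] C)
    (h : ∀ b, τ₁ b - τ₂ b ∈ I.map (algebraMap A C)) : τ₁ = τ₂ :=
  algHom_ext_of_unramified (I.map (algebraMap A C))
    (map_le_jacobson_of_isIntegral I HenselianRing.jac) τ₁ τ₂ h

/-- **Stacks 09ZL (full faithfulness)**: for an étale `A`-algebra `B₁` and an integral `A`-algebra
`B₂` over a henselian pair `(A, I)`, reduction modulo `I` is a bijection on algebra maps. -/
theorem bijective_tensorMap_of_etale {A : Type u} [CommRing A] (I : Ideal A) [HenselianRing A I]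
    (B₁ : Type v) (B₂ : Type u) [CommRing B₁] [CommRing B₂] [Algebra A B₁] [Algebra A B₂]
    [Algebra.Etale A B₁] [Algebra.IsIntegral A B₂] :
    Function.Bijective (fun φ : B₁ →ₐ[A] B₂ =>
      Algebra.TensorProduct.map (AlgHom.id (A ⧸ I) (A ⧸ I)) φ) := by
  let θ := Algebra.TensorProduct.quotIdealMapEquivQuotTensor B₂ I
  have hθ : ∀ b : B₂, θ (Ideal.Quotient.mk _ b) = (1 : A ⧸ I) ⊗ₜ[A] b := fun b => rfl
  constructor
  · intro φ₁ φ₂ h
    refine algHom_ext_of_etale_of_isIntegral I φ₁ φ₂ fun b => ?_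
    have h1 := congrArg (fun g => g ((1 : A ⧸ I) ⊗ₜ[A] b)) h
    simp only [Algebra.TensorProduct.map_tmul, AlgHom.id_apply] at h1
    rw [← hθ, ← hθ] at h1
    exact Ideal.Quotient.eq.mp (θ.injective h1)
  · intro ψ
    let σ : B₁ →ₐ[A] B₂ ⧸ I.map (algebraMap A B₂) :=
      (θ.symm.toAlgHom.restrictScalars A).comp
        ((ψ.restrictScalars A).comp Algebra.TensorProduct.includeRight)
    obtain ⟨τ, hτ⟩ := exists_lift_of_etale_of_isIntegral I σ
    refine ⟨τ, ?_⟩
    apply Algebra.TensorProduct.ext_ring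
    ext b
    have h1 := congrArg (fun g => g b) hτ
    simp only [AlgHom.comp_apply, σ] at h1
    change (1 : A ⧸ I) ⊗ₜ[A] τ b = ψ ((1 : A ⧸ I) ⊗ₜ[A] b)
    rw [← hθ]
    have h2 : Ideal.Quotient.mk (I.map (algebraMap A B₂)) (τ b) =
        θ.symm (ψ ((1 : A ⧸ I) ⊗ₜ[A] b)) := h1
    rw [h2, AlgEquiv.apply_symm_apply]

end Groth.Agent.Lib.Helper4.HenselPair
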