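import Mathlib
import Groth.Agent.Lib.Helper4.HenselPairL

/-!
# Strictly henselian local rings: étale algebras and their points
-/

set_option autoImplicit false
universe u v w

namespace Groth.Agent.Lib.Helper4.HenselPair

open scoped TensorProduct

/-- Étale case of the smooth lifting theorem: for an étale `R`-algebra `E` and an `R`-algebra `C`
henselian along `J`, every `R`-algebra map `E → C ⧸ J` lifts to `C`. -/
theorem exists_lift_of_etale_algebra {R : Type u} {E : Type v} {C : Type w} [CommRing R]
    [CommRing E] [CommRing C] [Algebra R E] [Algebra R C] [Algebra.Etale R E] (J : Ideal C)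
    [HenselianRing C J] (σ : E →ₐ[R] C ⧸ J) :
    ∃ τ : E →ₐ[R] C, (Ideal.Quotient.mkₐ R J).comp τ = σ := by
  let σ' : C ⊗[R] E →ₐ[C] C ⧸ J :=
    Algebra.TensorProduct.lift (Algebra.ofId C _) σ (fun _ _ => Commute.all _ _)
  obtain ⟨τ', hτ'⟩ := exists_lift_of_etale J σ'
  refine ⟨(τ'.restrictScalars R).comp Algebra.TensorProduct.includeRight, ?_⟩
  ext b
  have h1 := congrArg (fun g => g ((1 : C) ⊗ₜ[R] b)) hτ'
  simp only [AlgHom.comp_apply, σ', Algebra.TensorProduct.lift_tmul, map_one, one_mul] at h1
  exact h1

/-- Points of an étale algebra over a separably closed field `K` with values in any field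
extension are `K`-rational. -/
theorem mem_range_of_etale_of_isSepClosed {K : Type u} [Field K] [IsSepClosed K] {E : Type u}
    [CommRing E] [Algebra K E] [Algebra.Etale K E] {L : Type v} [Field L] [Algebra K L]
    (g : E →ₐ[K] L) (y : E) : g y ∈ (algebraMap K L).range := by
  classical
  have hfin : Module.Finite K E := Algebra.FormallyUnramified.finite_of_free K E
  have hart : IsArtinianRing E := isArtinian_of_tower K inferInstance
  let e := Algebra.FormallyEtale.equivPiOfIsSepClosed K E
  let h : (PrimeSpectrum E → K) →ₐ[K] L := g.comp e.symm.toAlgHom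
  have hgy : g y = h (e y) := by
    change g y = g (e.symm (e y))
    rw [e.symm_apply_apply]
  rw [hgy]
  have hFin : Finite (PrimeSpectrum E) := inferInstance
  let _ : Fintype (PrimeSpectrum E) := Fintype.ofFinite _
  set v := e y with hv
  have hsum : v = ∑ p, v p • (Pi.single p (1 : K) : PrimeSpectrum E → K) := by
    funext q
    simp [Finset.sum_apply, Pi.single_apply]
  rw [hsum, map_sum]
  refine Subring.sum_mem _ fun p _ => ?_
  rw [map_smul, Algebra.smul_def]
  refine Subring.mul_mem _ ⟨v p, rfl⟩ ?_
  have hidem : IsIdempotentElem (h (Pi.single p (1 : K))) := by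
    have h2 : IsIdempotentElem (Pi.single p (1 : K) : PrimeSpectrum E → K) := by
      change (Pi.single p (1 : K) : PrimeSpectrum E → K) * Pi.single p (1 : K) = Pi.single p (1 : K)
      rw [← Pi.single_mul, mul_one]
    exact h2.map h
  rcases IsIdempotentElem.iff_eq_zero_or_one.mp hidem with h0 | h1
  · rw [h0]
    exact Subring.zero_mem _
  · rw [h1]
    exact Subring.one_mem _

/-- **Points of étale algebras over strictly henselian local rings** (EGA IV 18.8.1-ish):
for a strictly henselian local ring `R`, a henselian local `R`-algebra `S` with local structure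
map, and an étale `R`-algebra `E`, composition with `R → S` is a bijection
`Hom_R(E, R) → Hom_R(E, S)`. -/
theorem bijective_comp_of_isSepClosed (R S E : Type u) [CommRing R] [HenselianLocalRing R]
    [IsSepClosed (IsLocalRing.ResidueField R)] [CommRing S] [HenselianLocalRing S] [Algebra R S]
    [IsLocalHom (algebraMap R S)] [CommRing E] [Algebra R E] [Algebra.Etale R E] :
    Function.Bijective (fun τ : E →ₐ[R] R => (Algebra.ofId R S).comp τ) := by
  have hJR : IsLocalRing.maximalIdeal R ≤ Ideal.jacobson ⊥ := by
    rw [IsLocalRing.jacobson_eq_maximalIdeal ⊥ bot_ne_top]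
  have hJS : IsLocalRing.maximalIdeal S ≤ Ideal.jacobson ⊥ := by
    rw [IsLocalRing.jacobson_eq_maximalIdeal ⊥ bot_ne_top]
  constructor
  · intro τ τ' h
    refine algHom_ext_of_unramified (IsLocalRing.maximalIdeal R) hJR τ τ' fun x => ?_
    have h1 := congrArg (fun g => g x) h
    simp only [AlgHom.comp_apply, Algebra.ofId_apply] at h1
    by_contra hnm
    have hu : IsUnit (τ x - τ' x) := by
      by_contra hnu
      exact hnm ((IsLocalRing.mem_maximalIdeal _).mpr hnu)
    have hu' : IsUnit (algebraMap R S (τ x - τ' x)) := hu.map _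
    rw [map_sub, h1, sub_self] at hu'
    exact not_isUnit_zero hu'
  · intro g
    let gbar : E →ₐ[R] IsLocalRing.ResidueField S :=
      (IsScalarTower.toAlgHom R S (IsLocalRing.ResidueField S)).comp g
    let ghat : IsLocalRing.ResidueField R ⊗[R] E →ₐ[IsLocalRing.ResidueField R]
        IsLocalRing.ResidueField S :=
      Algebra.TensorProduct.lift (Algebra.ofId _ _) gbar (fun _ _ => Commute.all _ _)
    let f : IsLocalRing.ResidueField R →ₐ[R] IsLocalRing.ResidueField S :=
      IsScalarTower.toAlgHom R _ _
    have hf : Function.Injective f :=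
      (algebraMap (IsLocalRing.ResidueField R) (IsLocalRing.ResidueField S)).injective
    have hmem : ∀ x : E, gbar x ∈ f.range := by
      intro x
      have h1 := mem_range_of_etale_of_isSepClosed ghat ((1 : IsLocalRing.ResidueField R) ⊗ₜ[R] x)
      obtain ⟨y, hy⟩ := h1
      refine ⟨y, ?_⟩
      change algebraMap _ _ y = gbar x
      rw [hy]
      simp [ghat]
    let ef := AlgEquiv.ofInjective f hf
    let g₀ : E →ₐ[R] R ⧸ IsLocalRing.maximalIdeal R :=
      (ef.symm.toAlgHom.comp (gbar.codRestrict f.range hmem) :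
        E →ₐ[R] IsLocalRing.ResidueField R)
    have hg₀ : ∀ x : E, f (g₀ x) = gbar x := by
      intro x
      change f (ef.symm (gbar.codRestrict f.range hmem x)) = gbar x
      have h2 : ef (ef.symm (gbar.codRestrict f.range hmem x)) = gbar.codRestrict f.range hmem x :=
        ef.apply_symm_apply _
      exact congrArg Subtype.val h2
    obtain ⟨τ, hτ⟩ := exists_lift_of_etale (IsLocalRing.maximalIdeal R) g₀
    refine ⟨τ, ?_⟩
    refine algHom_ext_of_unramified (IsLocalRing.maximalIdeal S) hJS _ g fun x => ?_
    rw [← IsLocalRing.residue_eq_zero_iff, map_sub, sub_eq_zero]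
    have h3 := congrArg (fun k => k x) hτ
    simp only [AlgHom.comp_apply] at h3
    have h4 : IsLocalRing.residue S (algebraMap R S (τ x)) = f (IsLocalRing.residue R (τ x)) := rfl
    change IsLocalRing.residue S (algebraMap R S (τ x)) = gbar x
    rw [h4, ← hg₀]
    congr 1

section Points

variable {R : Type u} [CommRing R] {n : ℕ} (P : Fin n → MvPolynomial (Fin n) R)

/-- The algebra map out of `R[X₁..Xₙ] ⧸ (P)` attached to a solution of the system `P`. -/
noncomputable def homOfSol {T : Type v} [CommRing T] [Algebra R T] (t : Fin n → T)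
    (ht : ∀ i, MvPolynomial.aeval t (P i) = 0) :
    (MvPolynomial (Fin n) R ⧸ Ideal.span (Set.range P)) →ₐ[R] T :=
  Ideal.Quotient.liftₐ _ (MvPolynomial.aeval t) (by
    intro a ha
    have h1 : Ideal.span (Set.range P) ≤
        RingHom.ker ((MvPolynomial.aeval t : MvPolynomial (Fin n) R →ₐ[R] T) :
          MvPolynomial (Fin n) R →+* T) := by
      rw [Ideal.span_le]
      rintro _ ⟨i, rfl⟩
      exact ht i
    exact h1 ha)

theorem homOfSol_mk {T : Type v} [CommRing T] [Algebra R T] (t : Fin n → T)
    (ht : ∀ i, MvPolynomial.aeval t (P i) = 0) (p : MvPolynomial (Fin n) R) :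
    homOfSol P t ht (Ideal.Quotient.mk _ p) = MvPolynomial.aeval t p := rfl

theorem aeval_eq_of_algHom {T : Type v} [CommRing T] [Algebra R T]
    (τ : (MvPolynomial (Fin n) R ⧸ Ideal.span (Set.range P)) →ₐ[R] T)
    (p : MvPolynomial (Fin n) R) :
    MvPolynomial.aeval (fun i => τ (Ideal.Quotient.mk _ (MvPolynomial.X i))) p =
      τ (Ideal.Quotient.mk _ p) := by
  have h1 : (MvPolynomial.aeval (fun i => τ (Ideal.Quotient.mk _ (MvPolynomial.X i))) :
      MvPolynomial (Fin n) R →ₐ[R] T) = τ.comp (Ideal.Quotient.mkₐ R _) := by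
    apply MvPolynomial.algHom_ext
    intro i
    simp
  exact congrArg (fun g => g p) h1

theorem algHom_eq_homOfSol {T : Type v} [CommRing T] [Algebra R T]
    (τ : (MvPolynomial (Fin n) R ⧸ Ideal.span (Set.range P)) →ₐ[R] T) (t : Fin n → T)
    (ht : ∀ i, MvPolynomial.aeval t (P i) = 0)
    (h : ∀ i, τ (Ideal.Quotient.mk _ (MvPolynomial.X i)) = t i) : τ = homOfSol P t ht := by
  apply AlgHom.ext
  intro x
  obtain ⟨p, rfl⟩ := Ideal.Quotient.mk_surjective x
  rw [homOfSol_mk, ← aeval_eq_of_algHom]
  have h2 : (fun i => τ (Ideal.Quotient.mk _ (MvPolynomial.X i))) = t := funext h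
  rw [h2]

end Points

end Groth.Agent.Lib.Helper4.HenselPair
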