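import Mathlib
import Groth.Agent.Lib.Helper4.HenselPairS

/-!
# Sections of étale separated schemes over henselian local rings
-/

set_option autoImplicit false
universe u

open CategoryTheory AlgebraicGeometry Limits

namespace Groth.Agent.Lib.Helper4.HensSection

set_option backward.isDefEq.respectTransparency false in
/-- The equalizer of two morphisms into a scheme with open diagonal is an open immersion. -/
theorem isOpenImmersion_equalizer_ι_left {S : Scheme.{u}} {X Y : Over S}
    [IsOpenImmersion (pullback.diagonal Y.hom)]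
    (f g : X ⟶ Y) : IsOpenImmersion (equalizer.ι f g).left := by
  refine MorphismProperty.of_isPullback
    ((Limits.isPullback_equalizer_prod f g).map (Over.forget _)).flip ?_
  rw [← MorphismProperty.cancel_right_of_respectsIso @IsOpenImmersion _
    (Over.prodLeftIsoPullback Y Y).hom]
  convert! (inferInstance : IsOpenImmersion (pullback.diagonal Y.hom))
  ext1 <;> simp [← Over.comp_left]

/-- Two morphisms from the spectrum of a local ring into a separated scheme with open diagonal
over a base, which agree on the closed point, are equal. -/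
theorem eq_of_comp_residue_eq {R : Type u} [CommRing R] [IsLocalRing R] {X Z : Scheme.{u}}
    (f : X ⟶ Z) [IsSeparated f] [IsOpenImmersion (pullback.diagonal f)]
    (s₁ s₂ : Spec (CommRingCat.of R) ⟶ X) (h : s₁ ≫ f = s₂ ≫ f)
    (hρ : Spec.map (CommRingCat.ofHom (IsLocalRing.residue R)) ≫ s₁ =
      Spec.map (CommRingCat.ofHom (IsLocalRing.residue R)) ≫ s₂) : s₁ = s₂ := by
  let ρ := Spec.map (CommRingCat.ofHom (IsLocalRing.residue R))
  let X' : Over Z := Over.mk (s₁ ≫ f)
  let Y' : Over Z := Over.mk f
  let U' : Over Z := Over.mk (ρ ≫ s₁ ≫ f)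
  let f' : X' ⟶ Y' := Over.homMk s₁
  let g' : X' ⟶ Y' := Over.homMk s₂ h.symm
  let ρ' : U' ⟶ X' := Over.homMk ρ
  have hsep : IsSeparated Y'.hom := ‹_›
  have hopen : IsOpenImmersion (pullback.diagonal Y'.hom) := ‹_›
  have hoi : IsOpenImmersion (equalizer.ι f' g').left := isOpenImmersion_equalizer_ι_left f' g'
  have heq : ρ' ≫ f' = ρ' ≫ g' := by
    ext1; exact hρ
  have hfac : (equalizer.lift ρ' heq).left ≫ (equalizer.ι f' g').left = ρ := by
    rw [← Over.comp_left, equalizer.lift_ι]
    rfl
  have hsurj : Surjective (equalizer.ι f' g').left := by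
    constructor
    intro y
    have hy : (y : PrimeSpectrum R) ⤳ IsLocalRing.closedPoint R :=
      IsLocalRing.specializes_closedPoint y
    have hopenr : IsOpen (Set.range (equalizer.ι f' g').left) :=
      (equalizer.ι f' g').left.isOpenEmbedding.isOpen_range
    have hcl : IsLocalRing.closedPoint R ∈ Set.range (equalizer.ι f' g').left := by
      have hne : Nonempty (Spec (CommRingCat.of (IsLocalRing.ResidueField R))) :=
        inferInstanceAs (Nonempty (PrimeSpectrum (IsLocalRing.ResidueField R)))
      obtain ⟨z⟩ := hne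
      refine ⟨(equalizer.lift ρ' heq).left z, ?_⟩
      rw [← Scheme.Hom.comp_apply, hfac]
      have : (ρ z : PrimeSpectrum R) =
          PrimeSpectrum.comap (IsLocalRing.residue R) z := rfl
      rw [this]
      exact IsLocalRing.PrimeSpectrum.comap_residue R z
    exact hy.mem_open hopenr hcl
  have hiso : IsIso (equalizer.ι f' g').left :=
    (isIso_iff_isOpenImmersion_and_surjective _).mpr ⟨hoi, hsurj⟩
  rw [← cancel_epi (equalizer.ι f' g').left]
  exact congr($(equalizer.condition f' g').left)

/-- Existence of sections of étale schemes over a henselian local ring through a given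
rational point of the special fibre. -/
theorem exists_section {R : Type u} [CommRing R] [HenselianLocalRing R] {X : Scheme.{u}}
    (f : X ⟶ Spec (CommRingCat.of R)) [Etale f]
    (t : Spec (CommRingCat.of (IsLocalRing.ResidueField R)) ⟶ X)
    (ht : t ≫ f = Spec.map (CommRingCat.ofHom (IsLocalRing.residue R))) :
    ∃ s : Spec (CommRingCat.of R) ⟶ X,
      s ≫ f = 𝟙 _ ∧ Spec.map (CommRingCat.ofHom (IsLocalRing.residue R)) ≫ s = t := by
  let 𝒰 := X.affineOpenCover
  have hne : Nonempty (Spec (CommRingCat.of (IsLocalRing.ResidueField R))) :=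
    inferInstanceAs (Nonempty (PrimeSpectrum (IsLocalRing.ResidueField R)))
  have hss : Subsingleton (Spec (CommRingCat.of (IsLocalRing.ResidueField R))) :=
    inferInstanceAs (Subsingleton (PrimeSpectrum (IsLocalRing.ResidueField R)))
  obtain ⟨z⟩ := hne
  let j := 𝒰.idx (t.base z)
  have hj : t.base z ∈ Set.range (𝒰.f j) := 𝒰.covers (t.base z)
  have hrange : Set.range t ⊆ Set.range (𝒰.f j) := by
    rintro _ ⟨z', rfl⟩
    rw [Subsingleton.elim z' z]
    exact hj
  let t' := IsOpenImmersion.lift (𝒰.f j) t hrange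
  have ht' : t' ≫ 𝒰.f j = t := IsOpenImmersion.lift_fac _ _ _
  obtain ⟨ψ, hψ⟩ := Spec.map_surjective t'
  obtain ⟨θ, hθ⟩ := Spec.map_surjective (𝒰.f j ≫ f)
  have het : Etale (Spec.map θ) := by rw [hθ]; infer_instance
  have hθet : θ.hom.Etale := (HasRingHomProperty.Spec_iff (P := @Etale)).mp het
  have hθψ : θ ≫ ψ = CommRingCat.ofHom (IsLocalRing.residue R) := by
    apply Spec.map_injective
    rw [Spec.map_comp, hψ, hθ, ← Category.assoc, ht', ht]
  let _ : Algebra R (𝒰.X j) := θ.hom.toAlgebra
  have hE : Algebra.Etale R (𝒰.X j) := hθet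
  let σ : (𝒰.X j) →ₐ[R] R ⧸ IsLocalRing.maximalIdeal R :=
    { toRingHom := ψ.hom
      commutes' := fun r => by
        have := congrArg (fun g => g.hom r) hθψ
        exact this }
  obtain ⟨τ, hτ⟩ := Groth.Agent.Lib.Helper4.HenselPair.exists_lift_of_etale_algebra (IsLocalRing.maximalIdeal R) σ
  refine ⟨Spec.map (CommRingCat.ofHom τ.toRingHom) ≫ 𝒰.f j, ?_, ?_⟩
  · rw [Category.assoc, ← hθ, ← Spec.map_comp, ← Spec.map_id]
    congr 1
    ext r
    exact τ.commutes r
  · rw [← Category.assoc, ← Spec.map_comp, ← ht', ← hψ]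
    congr 2
    ext b
    exact congrArg (fun g => g b) hτ

end Groth.Agent.Lib.Helper4.HensSection
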