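import Mathlib
import Groth.Agent.Lib.Helper4.HenselPairK
import Groth.Agent.Lib.Helper4.HenselPairE

/-!
# Splitting off the finite part of a quasi-finite algebra over a henselian pair
(Stacks 09XI-type argument; used for lifting finite étale algebras, Stacks 09ZL)
-/

set_option autoImplicit false
universe u

namespace Groth.Agent.Lib.Helper4.HenselPair

/-- Over a henselian pair `(A, I)`: a finite type quasi-finite `A`-algebra `B'` with `B'/IB'`
module-finite over `A` contains an idempotent `e ≡ 1 mod I B'` with `e B'` contained in a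
module-finite subalgebra. -/
theorem exists_idempotent_finite_split_pair {A : Type u} {B' : Type u} [CommRing A] [CommRing B']
    [Algebra A B'] [Algebra.FiniteType A B'] [Algebra.QuasiFinite A B'] (I : Ideal A)
    [HenselianRing A I] (hfin : Module.Finite A (B' ⧸ I.map (algebraMap A B'))) :
    ∃ e : B', IsIdempotentElem e ∧
      (∃ S' : Subalgebra A B', S'.toSubmodule.FG ∧ ∀ x, e * x ∈ S') ∧
      1 - e ∈ I.map (algebraMap A B') := by
  classical
  set J' := I.map (algebraMap A B') with hJ'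
  obtain ⟨S', hS'fg, t, htS', htcover, htpow⟩ := exists_finite_subalgebra_cover (R := A) J'
  have hfinS' : Module.Finite A S' := ⟨(Submodule.fg_top _).mpr hS'fg⟩
  let PB : Submodule A B' := S'.toSubmodule
  let PI : Submodule A B' := I • S'.toSubmodule
  have hPB : ∀ b ∈ S', ∀ z ∈ PB, b * z ∈ PB := fun b hb z hz => S'.mul_mem hb hz
  have hPI : ∀ b ∈ S', ∀ z ∈ PI, b * z ∈ PI := fun b hb z hz =>
    mul_mem_smul_subalgebra I S' b hb z hz
  have hPIJ' : ∀ z ∈ PI, z ∈ J' := by
    intro z hz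
    have : PI ≤ I • (⊤ : Submodule A B') := Submodule.smul_mono le_rfl le_top
    have h2 := this hz
    rw [Ideal.smul_top_eq_map] at h2
    exact h2
  -- Step (b)
  let tS : Set S' := {s | (s : B') ∈ t}
  let 𝔞 : Ideal S' := Ideal.span tS
  let K : Ideal S' := J'.comap (algebraMap S' B')
  have hKmem : ∀ s : S', s ∈ K ↔ (s : B') ∈ J' := fun s => Iff.rfl
  have hb : 𝔞 ⊔ K = ⊤ := by
    by_contra hne
    obtain ⟨M, hM, hle⟩ := Ideal.exists_le_maximal _ hne
    have hint : Algebra.IsIntegral A (B' ⧸ J') := inferInstance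
    have hint' : Algebra.IsIntegral S' (B' ⧸ J') := Algebra.IsIntegral.tower_top (R := A)
    have hker : RingHom.ker (algebraMap S' (B' ⧸ J')) ≤ M := by
      intro s hs
      refine hle (Ideal.mem_sup_right ?_)
      rw [hKmem]
      exact Ideal.Quotient.eq_zero_iff_mem.mp hs
    obtain ⟨Q, hQ, hQM⟩ := Ideal.exists_ideal_over_maximal_of_isIntegral M hker
    have h1 : Ideal.span (t : Set B') ⊔ J' ≤ Q.comap (Ideal.Quotient.mk J') := by
      refine sup_le (Ideal.span_le.mpr fun r hr => ?_) ?_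
      · have h2 : (⟨r, htS' r hr⟩ : S') ∈ M :=
          hle (Ideal.mem_sup_left (Ideal.subset_span hr))
        rw [← hQM] at h2
        exact h2
      · intro x hx
        rw [Ideal.mem_comap, Ideal.Quotient.eq_zero_iff_mem.mpr hx]
        exact Q.zero_mem
    rw [htcover] at h1
    exact hQ.ne_top (Ideal.comap_eq_top_iff.mp (top_le_iff.mp h1))
  obtain ⟨a₀, ha₀, k₀, hk₀, hak⟩ := Submodule.mem_sup.mp ((Ideal.eq_top_iff_one _).mp hb)
  have hk₀J : (k₀ : B') ∈ J' := (hKmem k₀).mp hk₀
  -- radical trick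
  have hrad : ∀ (P : Submodule A B') (hP : ∀ b ∈ S', ∀ z ∈ P, b * z ∈ P) (x : B'),
      (∀ r ∈ t, ∃ N : ℕ, r ^ N * x ∈ P) → ∃ N : ℕ, (a₀ : B') ^ N * x ∈ P := by
    intro P hP x hx
    have hle : 𝔞 ≤ (condIdeal S' P hP x).radical := by
      rw [Ideal.span_le]
      intro s hs
      obtain ⟨N, hN⟩ := hx s hs
      exact ⟨N, by rw [mem_condIdeal]; simpa using hN⟩
    obtain ⟨N, hN⟩ := hle ha₀
    exact ⟨N, by rw [mem_condIdeal] at hN; simpa using hN⟩
  have hradB : ∀ x : B', ∃ N : ℕ, (a₀ : B') ^ N * x ∈ PB :=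
    fun x => hrad PB hPB x fun r hr => htpow r hr x
  have hradI : ∀ x ∈ J', ∃ N : ℕ, (a₀ : B') ^ N * x ∈ PI := by
    intro x hx
    refine hrad PI hPI x fun r hr => ?_
    have hx' : x ∈ I • (⊤ : Submodule A B') := by rw [Ideal.smul_top_eq_map]; exact hx
    refine Submodule.smul_induction_on hx' ?_ ?_
    · intro a ha w _
      obtain ⟨N, hN⟩ := htpow r hr w
      exact ⟨N, by rw [mul_smul_comm]; exact Submodule.smul_mem_smul ha hN⟩
    · rintro x y ⟨N₁, h₁⟩ ⟨N₂, h₂⟩
      refine ⟨N₁ + N₂, ?_⟩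
      rw [mul_add]
      refine Submodule.add_mem _ ?_ ?_
      · rw [pow_add, mul_comm (r ^ N₁), mul_assoc]
        exact hPI _ (S'.pow_mem (htS' r hr) _) _ h₁
      · rw [pow_add, mul_assoc]
        exact hPI _ (S'.pow_mem (htS' r hr) _) _ h₂
  obtain ⟨K₁, hK₁⟩ := hradI (k₀ : B') hk₀J
  set M := K₁ + 1 with hM
  set β : S' := a₀ ^ M with hβ
  obtain ⟨w, hw⟩ : ∃ w : S', 1 - β = k₀ * w := by
    have h1 := sub_dvd_pow_sub_pow (a₀ + k₀) a₀ M
    rw [add_sub_cancel_left, hak, one_pow] at h1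
    exact h1
  have hβidem : β * β - β ∈ I.map (algebraMap A S') := by
    rw [mem_map_subalgebra_iff]
    have hid : ((β * β - β : S') : B') =
        ((-(w * a₀) : S') : B') * ((a₀ : B') ^ K₁ * (k₀ : B')) := by
      have h2 : β * β - β = -(w * a₀) * (a₀ ^ K₁ * k₀) := by
        have h3 : β = a₀ ^ K₁ * a₀ := by rw [hβ, hM, pow_succ]
        have h4 : β * β - β = -(β * (1 - β)) := by ring
        rw [h4, hw, h3]
        ring
      have := congrArg (fun s : S' => (s : B')) h2
      simpa using this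
    rw [hid]
    exact hPI _ (-(w * a₀) : S').2 _ hK₁
  obtain ⟨e', he', he'β⟩ := exists_idempotent_lift_of_isIntegral I β hβidem
  have hiPI : ((e' - β : S') : B') ∈ PI := (mem_map_subalgebra_iff I S' _).mp he'β
  have hee : (e' : B') * (e' : B') = (e' : B') := by
    have := congrArg (fun s : S' => (s : B')) he'.eq
    simpa using this
  refine ⟨(e' : B'), hee, ⟨S', hS'fg, fun x => ?_⟩, ?_⟩
  · -- `e' x ∈ S'`
    have hiJ : e' - β ∈ Ideal.jacobson (⊥ : Ideal S') :=
      map_le_jacobson_of_isIntegral I HenselianRing.jac he'β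
    have hu : IsUnit ((e' - β) * -1 + 1) := Ideal.mem_jacobson_bot.mp hiJ (-1)
    obtain ⟨c, hc⟩ := isUnit_iff_exists_inv.mp hu
    have h1 : e' * β * c = e' := by
      have h2 : e' * β = e' * ((e' - β) * -1 + 1) := by
        have := he'.eq
        linear_combination this
      rw [h2, mul_assoc, hc, mul_one]
    have hpow : ∀ L : ℕ, e' * β ^ L * c ^ L = e' := by
      intro L
      induction L with
      | zero => simp
      | succ L ih =>
        have h3 : e' * β ^ (L + 1) * c ^ (L + 1) = (e' * β ^ L * c ^ L) * β * c := by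
          rw [pow_succ, pow_succ]
          ring
        rw [h3, ih, h1]
    obtain ⟨Kx, hKx⟩ := hradB x
    have h4 : (e' : B') * x =
        ((e' * c ^ Kx * a₀ ^ (K₁ * Kx) : S') : B') * ((a₀ : B') ^ Kx * x) := by
      have h5 : e' = e' * c ^ Kx * a₀ ^ (K₁ * Kx) * a₀ ^ Kx := by
        conv_lhs => rw [← hpow Kx]
        rw [hβ, hM, ← pow_mul, add_mul, one_mul, pow_add]
        ring
      have h6 := congrArg (fun s : S' => (s : B')) h5
      simp only [Subalgebra.coe_mul, Subalgebra.coe_pow] at h6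
      simp only [Subalgebra.coe_mul, Subalgebra.coe_pow]
      calc (e' : B') * x = ((e' : B') * (c : B') ^ Kx * (a₀ : B') ^ (K₁ * Kx) * (a₀ : B') ^ Kx) * x := by
            rw [← h6]
        _ = _ := by ring
    rw [h4]
    exact S'.mul_mem (e' * c ^ Kx * a₀ ^ (K₁ * Kx) : S').2 hKx
  · -- `1 - e' ∈ J'`
    have h1 : (1 : B') - (e' : B') = (k₀ : B') * (w : B') - ((e' - β : S') : B') := by
      have h2 : (1 : S') - e' = k₀ * w - (e' - β) := by rw [← hw]; ring
      have := congrArg (fun s : S' => (s : B')) h2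
      simpa using this
    rw [h1]
    exact J'.sub_mem (J'.mul_mem_right _ hk₀J) (hPIJ' _ hiPI)

end Groth.Agent.Lib.Helper4.HenselPair
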