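import Mathlib
import Groth.Agent.Lib.Helper4.HenselPairP

/-!
# Lifting finite étale algebras along a henselian pair (Stacks 09ZL)
-/

set_option autoImplicit false
universe u

namespace Groth.Agent.Lib.Helper4.HenselPair

open MvPolynomial Algebra

theorem exists_etale_lift {A : Type u} [CommRing A] (I : Ideal A) (C : Type u) [CommRing C]
    [Algebra A C] [Algebra (A ⧸ I) C] [IsScalarTower A (A ⧸ I) C] [Algebra.Etale (A ⧸ I) C] :
    ∃ (B' : Type u) (_ : CommRing B') (_ : Algebra A B') (_ : Algebra.Etale A B')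
      (ψ : B' →ₐ[A] C), Function.Surjective ψ ∧ RingHom.ker ψ = I.map (algebraMap A B') := by
  classical
  obtain ⟨ι, σ, hσ, hι, P, hP⟩ :=
    (Algebra.Etale.iff_isStandardSmoothOfRelativeDimension_zero.mp inferInstance :
      Algebra.IsStandardSmoothOfRelativeDimension 0 (A ⧸ I) C).out
  have := Fintype.ofFinite σ
  have hsurj : Function.Surjective (MvPolynomial.map (σ := ι) (Ideal.Quotient.mk I)) :=
    MvPolynomial.map_surjective _ Ideal.Quotient.mk_surjective
  choose r hr using fun j => hsurj (P.relation j)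
  let T := MvPolynomial ι A ⧸ Ideal.span (Set.range r)
  let Q₀ : Algebra.PreSubmersivePresentation A T ι σ :=
    Algebra.PreSubmersivePresentation.naive (v := r) P.map P.map_inj
  let j₀ : T := Q₀.jacobian
  let B' := Localization.Away j₀
  let Q₁ : Algebra.PreSubmersivePresentation T B' Unit Unit :=
    Algebra.PreSubmersivePresentation.localizationAway B' j₀
  let Q := Q₁.comp Q₀
  have hQunit : IsUnit Q.jacobian := by
    rw [Algebra.PreSubmersivePresentation.comp_jacobian_eq_jacobian_smul_jacobian,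
      Algebra.smul_def, Algebra.PreSubmersivePresentation.localizationAway_jacobian]
    exact (IsLocalization.Away.algebraMap_isUnit j₀).mul (IsLocalization.Away.algebraMap_isUnit j₀)
  let QS : Algebra.SubmersivePresentation A B' (Unit ⊕ ι) (Unit ⊕ σ) := ⟨Q, hQunit⟩
  have hdim : QS.dimension = 0 := by
    have h1 : Q.dimension = Q₁.dimension + Q₀.dimension :=
      Algebra.PreSubmersivePresentation.dimension_comp_eq_dimension_add_dimension Q₁ Q₀
    have h2 : Q₀.dimension = P.dimension := rfl
    have h3 : Q₁.dimension = 0 := by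
      simp [Algebra.Presentation.dimension]
    show Q.dimension = 0
    rw [h1, h2, h3, hP]
  have hst : Algebra.IsStandardSmoothOfRelativeDimension 0 A B' :=
    QS.isStandardSmoothOfRelativeDimension hdim
  have het : Algebra.Etale A B' :=
    Algebra.Etale.iff_isStandardSmoothOfRelativeDimension_zero.mpr hst
  -- the map to C
  let ψ₀ : MvPolynomial ι A →ₐ[A] C := MvPolynomial.aeval P.val
  have hψ₀map : ∀ p : MvPolynomial ι A,
      ψ₀ p = MvPolynomial.aeval (R := A ⧸ I) P.val (MvPolynomial.map (Ideal.Quotient.mk I) p) := by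
    intro p
    exact (MvPolynomial.aeval_map_algebraMap (A ⧸ I) P.val p).symm
  have hψ₀r : ∀ a ∈ Ideal.span (Set.range r), ψ₀ a = 0 := by
    intro a ha
    have : Ideal.span (Set.range r) ≤ RingHom.ker ψ₀.toRingHom := by
      rw [Ideal.span_le]
      rintro _ ⟨j, rfl⟩
      show ψ₀ (r j) = 0
      rw [hψ₀map, hr, P.aeval_val_relation]
    exact this ha
  let ψ₁ : T →ₐ[A] C := Ideal.Quotient.liftₐ (Ideal.span (Set.range r)) ψ₀ hψ₀r
  have hψ₁mk : ∀ p, ψ₁ (Ideal.Quotient.mk _ p) = ψ₀ p := fun p => rfl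
  have hψ₁j : ψ₁ j₀ = P.jacobian := by
    have e1 : j₀ = Ideal.Quotient.mk _ Q₀.jacobiMatrix.det :=
      Q₀.jacobian_eq_jacobiMatrix_det
    rw [e1, hψ₁mk, P.jacobian_eq_jacobiMatrix_det, Algebra.Generators.algebraMap_apply,
      AlgHom.map_det, AlgHom.map_det]
    congr 1
    ext i j
    simp only [AlgHom.mapMatrix_apply, Matrix.map_apply]
    rw [hψ₀map, Algebra.PreSubmersivePresentation.jacobiMatrix_naive,
      Algebra.PreSubmersivePresentation.jacobiMatrix_apply, ← MvPolynomial.pderiv_map, hr]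
  have hunits : ∀ y : Submonoid.powers j₀, IsUnit (ψ₁ y) := by
    rintro ⟨_, n, rfl⟩
    rw [map_pow, hψ₁j]
    exact P.jacobian_isUnit.pow n
  let ψ : B' →ₐ[A] C := IsLocalization.liftAlgHom (M := Submonoid.powers j₀) (f := ψ₁) hunits
  have hψalg : ∀ t : T, ψ (algebraMap T B' t) = ψ₁ t := fun t => IsLocalization.lift_eq _ t
  refine ⟨B', inferInstance, inferInstance, het, ψ, ?_, ?_⟩
  · intro c
    obtain ⟨p, hp⟩ := P.algebraMap_surjective c
    rw [Algebra.Generators.algebraMap_apply] at hp
    obtain ⟨p', rfl⟩ := hsurj p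
    refine ⟨algebraMap T B' (Ideal.Quotient.mk _ p'), ?_⟩
    rw [hψalg, hψ₁mk, hψ₀map, hp]
  · apply le_antisymm
    · intro x hx
      rw [RingHom.mem_ker] at hx
      obtain ⟨⟨t, m⟩, hxm⟩ := IsLocalization.surj (Submonoid.powers j₀) x
      simp only at hxm
      have hmunit : IsUnit (algebraMap T B' (m : T)) := IsLocalization.map_units B' m
      have hψt : ψ₁ t = 0 := by
        have := congrArg ψ hxm
        rw [map_mul, hψalg, hψalg] at this
        rw [← this]
        show ψ x * _ = 0
        rw [hx, zero_mul]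
      -- t is in I T
      have htI : t ∈ I.map (algebraMap A T) := by
        obtain ⟨p, rfl⟩ := Ideal.Quotient.mk_surjective t
        rw [hψ₁mk, hψ₀map] at hψt
        have hker : MvPolynomial.map (Ideal.Quotient.mk I) p ∈ P.ker := by
          rw [P.ker_eq_ker_aeval_val]
          exact hψt
        rw [← P.span_range_relation_eq_ker] at hker
        have hspan : Ideal.span (Set.range P.relation) =
            (Ideal.span (Set.range r)).map (MvPolynomial.map (σ := ι) (Ideal.Quotient.mk I)) := by
          rw [Ideal.map_span]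
          congr 1
          ext y
          constructor
          · rintro ⟨j, rfl⟩
            exact ⟨r j, ⟨j, rfl⟩, hr j⟩
          · rintro ⟨_, ⟨j, rfl⟩, rfl⟩
            exact ⟨j, (hr j).symm⟩
        rw [hspan, Ideal.mem_map_iff_of_surjective _ hsurj] at hker
        obtain ⟨q, hq, hqp⟩ := hker
        have hpq : p - q ∈ RingHom.ker (MvPolynomial.map (σ := ι) (Ideal.Quotient.mk I)) := by
          rw [RingHom.mem_ker, map_sub, hqp, sub_self]
        rw [MvPolynomial.ker_map, Ideal.mk_ker] at hpq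
        have hmk : Ideal.Quotient.mk (Ideal.span (Set.range r)) p =
            Ideal.Quotient.mk (Ideal.span (Set.range r)) (p - q) := by
          rw [map_sub, Ideal.Quotient.eq_zero_iff_mem.mpr hq, sub_zero]
        rw [hmk]
        have hcomp : algebraMap A T = (Ideal.Quotient.mk (Ideal.span (Set.range r))).comp
            (MvPolynomial.C) := rfl
        rw [hcomp, ← Ideal.map_map]
        exact Ideal.mem_map_of_mem _ hpq
      have h1 : algebraMap T B' t ∈ I.map (algebraMap A B') := by
        rw [IsScalarTower.algebraMap_eq A T B', ← Ideal.map_map]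
        exact Ideal.mem_map_of_mem _ htI
      obtain ⟨u, hu⟩ := hmunit
      have hx' : x = algebraMap T B' t * ↑u⁻¹ := by
        rw [← hxm, ← hu, mul_assoc, Units.mul_inv, mul_one]
      rw [hx']
      exact Ideal.mul_mem_right _ _ h1
    · rw [Ideal.map_le_iff_le_comap]
      intro a ha
      rw [Ideal.mem_comap, RingHom.mem_ker]
      show ψ (algebraMap A B' a) = 0
      rw [AlgHom.commutes, IsScalarTower.algebraMap_apply A (A ⧸ I) C,
        Ideal.Quotient.algebraMap_eq, Ideal.Quotient.eq_zero_iff_mem.mpr ha, map_zero]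

theorem nonempty_tensor_equiv_of_surjective {A : Type u} [CommRing A] (I : Ideal A)
    {B C : Type u} [CommRing B] [CommRing C] [Algebra A B] [Algebra A C] [Algebra (A ⧸ I) C]
    [IsScalarTower A (A ⧸ I) C] (ψ : B →ₐ[A] C) (hψ : Function.Surjective ψ)
    (hker : RingHom.ker ψ = I.map (algebraMap A B)) :
    Nonempty (TensorProduct A (A ⧸ I) B ≃ₐ[A ⧸ I] C) := by
  let e1 : (B ⧸ RingHom.ker ψ) ≃ₐ[A] C := Ideal.quotientKerAlgEquivOfSurjective hψ
  let e2 : (B ⧸ I.map (algebraMap A B)) ≃ₐ[A] (B ⧸ RingHom.ker ψ) :=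
    Ideal.quotientEquivAlgOfEq A hker.symm
  let e3 : (B ⧸ I.map (algebraMap A B)) ≃ₐ[A ⧸ I] C :=
    AlgEquiv.extendScalarsOfSurjective Ideal.Quotient.mk_surjective (e2.trans e1)
  exact ⟨(Algebra.TensorProduct.quotIdealMapEquivQuotTensor B I).symm.trans e3⟩

theorem exists_finite_etale_lift {A : Type u} [CommRing A] (I : Ideal A) [HenselianRing A I]
    (C : Type u) [CommRing C] [Algebra A C] [Algebra (A ⧸ I) C] [IsScalarTower A (A ⧸ I) C]
    [Module.Finite (A ⧸ I) C] [Algebra.Etale (A ⧸ I) C] :
    ∃ (B : Type u) (_ : CommRing B) (_ : Algebra A B), Module.Finite A B ∧ Algebra.Etale A B ∧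
      ∃ ψ : B →ₐ[A] C, Function.Surjective ψ ∧ RingHom.ker ψ = I.map (algebraMap A B) := by
  obtain ⟨B', _, _, het, ψ, hψs, hψk⟩ := exists_etale_lift I C
  have hfinC : Module.Finite A C := Module.Finite.trans (A ⧸ I) C
  have hfin : Module.Finite A (B' ⧸ I.map (algebraMap A B')) := by
    let e1 : (B' ⧸ RingHom.ker ψ) ≃ₐ[A] C := Ideal.quotientKerAlgEquivOfSurjective hψs
    let e2 : (B' ⧸ I.map (algebraMap A B')) ≃ₐ[A] (B' ⧸ RingHom.ker ψ) :=
      Ideal.quotientEquivAlgOfEq A hψk.symm
    exact Module.Finite.equiv (e2.trans e1).symm.toLinearEquiv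
  obtain ⟨e, he, ⟨S', hS'fg, hS'⟩, hone⟩ := exists_idempotent_finite_split_pair I hfin
  let B := B' ⧸ Ideal.span {1 - e}
  have hfinS' : Module.Finite A S' := ⟨(Submodule.fg_top _).mpr hS'fg⟩
  have hmk : ∀ x : B', Ideal.Quotient.mk (Ideal.span {1 - e}) x =
      Ideal.Quotient.mk (Ideal.span {1 - e}) (e * x) := by
    intro x
    rw [Ideal.Quotient.eq]
    have : x - e * x = (1 - e) * x := by ring
    rw [this]
    exact Ideal.mul_mem_right _ _ (Ideal.subset_span rfl)
  have hfinB : Module.Finite A B := by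
    let f : S' →ₗ[A] B := (Ideal.Quotient.mkₐ A (Ideal.span {1 - e})).toLinearMap ∘ₗ
      S'.val.toLinearMap
    refine Module.Finite.of_surjective f ?_
    intro y
    obtain ⟨x, rfl⟩ := Ideal.Quotient.mk_surjective y
    exact ⟨⟨e * x, hS' x⟩, (hmk x).symm⟩
  have hloc : IsLocalization.Away e B := IsLocalization.Away.quotient_of_isIdempotentElem he
  have hetB'B : Algebra.Etale B' B := Algebra.Etale.of_isLocalizationAway e
  have hetB : Algebra.Etale A B := Algebra.Etale.comp A B' B
  have hone' : ∀ a ∈ Ideal.span {1 - e}, ψ a = 0 := by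
    intro a ha
    have : Ideal.span {1 - e} ≤ RingHom.ker ψ := by
      rw [Ideal.span_le, Set.singleton_subset_iff, hψk]
      exact hone
    exact this ha
  let ψB : B →ₐ[A] C := Ideal.Quotient.liftₐ (Ideal.span {1 - e}) ψ hone'
  refine ⟨B, inferInstance, inferInstance, hfinB, hetB, ψB, ?_, ?_⟩
  · intro c
    obtain ⟨b, rfl⟩ := hψs c
    exact ⟨Ideal.Quotient.mk _ b, rfl⟩
  · apply le_antisymm
    · intro x hx
      obtain ⟨b, rfl⟩ := Ideal.Quotient.mk_surjective x
      have hb : b ∈ RingHom.ker ψ := hx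
      rw [hψk] at hb
      have hcomp : algebraMap A B = (Ideal.Quotient.mk (Ideal.span {1 - e})).comp
          (algebraMap A B') := rfl
      rw [hcomp, ← Ideal.map_map]
      exact Ideal.mem_map_of_mem _ hb
    · rw [Ideal.map_le_iff_le_comap]
      intro a ha
      rw [Ideal.mem_comap, RingHom.mem_ker]
      show ψB (algebraMap A B a) = 0
      rw [AlgHom.commutes, IsScalarTower.algebraMap_apply A (A ⧸ I) C,
        Ideal.Quotient.algebraMap_eq, Ideal.Quotient.eq_zero_iff_mem.mpr ha, map_zero]

end Groth.Agent.Lib.Helper4.HenselPair
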