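import Groth.Agent.Lib.Helper4.FEtAff
import Groth.Agent.Lib.Helper4.HenselPairL
import Groth.Agent.Lib.Helper4.HenselPairLE

/-!
# Finite étale covers over a henselian pair: algebra input for `FEt.restrict`
-/

set_option autoImplicit false

namespace Groth.Agent.Lib.Helper4.FEtAff

universe u
open CategoryTheory CategoryTheory.Limits AlgebraicGeometry TensorProduct

variable (A : Type u) [CommRing A] (I : Ideal A)

theorem hlift_of_henselian [HenselianRing A I] (B₁ B₂ : Type u) [CommRing B₁] [CommRing B₂]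
    [Algebra A B₁] [Algebra A B₂] [Algebra.Etale A B₂] [Algebra.IsIntegral A B₁]
    (ψ : B₂ ⊗[A] (A ⧸ I) →+* B₁ ⊗[A] (A ⧸ I)) (hψ : ψ.comp (inR A I B₂) = inR A I B₁) :
    ∃ φ : B₂ →ₐ[A] B₁, ψ.comp (inL A I B₂) = (inL A I B₁).comp φ.toRingHom := by
  let c₁ := Algebra.TensorProduct.comm A B₁ (A ⧸ I)
  let c₂ := Algebra.TensorProduct.comm A B₂ (A ⧸ I)
  have hψ' : ∀ r : A ⧸ I, ψ ((1 : B₂) ⊗ₜ[A] r) = (1 : B₁) ⊗ₜ[A] r := fun r =>
    congrArg (fun f => f r) hψ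
  let ψ' : (A ⧸ I) ⊗[A] B₂ →ₐ[A ⧸ I] (A ⧸ I) ⊗[A] B₁ :=
    { toRingHom := c₁.toRingEquiv.toRingHom.comp (ψ.comp c₂.symm.toRingEquiv.toRingHom)
      commutes' := by
        intro r
        show c₁ (ψ (c₂.symm (algebraMap (A ⧸ I) ((A ⧸ I) ⊗[A] B₂) r))) = _
        rw [Algebra.TensorProduct.algebraMap_apply, Algebra.TensorProduct.algebraMap_apply]
        simp only [Algebra.algebraMap_self, RingHom.id_apply]
        have : c₂.symm (r ⊗ₜ[A] (1 : B₂)) = (1 : B₂) ⊗ₜ[A] r := rfl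
        rw [this, hψ']
        rfl }
  obtain ⟨φ, hφ⟩ := (HenselPair.bijective_tensorMap_of_etale I B₂ B₁).2 ψ'
  refine ⟨φ, RingHom.ext fun b => ?_⟩
  have h1 := congrArg (fun f => f ((1 : A ⧸ I) ⊗ₜ[A] b)) hφ
  simp only [Algebra.TensorProduct.map_tmul, AlgHom.id_apply] at h1
  have h2 : ψ' ((1 : A ⧸ I) ⊗ₜ[A] b) = c₁ (ψ (b ⊗ₜ[A] (1 : A ⧸ I))) := rfl
  rw [h2] at h1
  have h3 := congrArg c₁.symm h1
  rw [AlgEquiv.symm_apply_apply] at h3
  show ψ (b ⊗ₜ[A] (1 : A ⧸ I)) = φ b ⊗ₜ[A] (1 : A ⧸ I)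
  rw [← h3]
  rfl

theorem exists_lift_ringEquiv [HenselianRing A I] (C : Type u) [CommRing C] [Algebra (A ⧸ I) C]
    [Module.Finite (A ⧸ I) C] [Algebra.Etale (A ⧸ I) C] :
    ∃ (B : Type u) (_ : CommRing B) (_ : Algebra A B) (_ : Module.Finite A B)
      (_ : Algebra.Etale A B) (e : B ⊗[A] (A ⧸ I) ≃+* C),
      e.toRingHom.comp (inR A I B) = algebraMap (A ⧸ I) C := by
  let _ : Algebra A C := ((algebraMap (A ⧸ I) C).comp (Ideal.Quotient.mk I)).toAlgebra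
  have : IsScalarTower A (A ⧸ I) C := IsScalarTower.of_algebraMap_eq fun _ => rfl
  obtain ⟨B, _, _, hfin, het, ψ, hψs, hψk⟩ := HenselPair.exists_finite_etale_lift I C
  let e1 : (B ⧸ I.map (algebraMap A B)) ≃+* B ⊗[A] (A ⧸ I) :=
    (Algebra.TensorProduct.quotIdealMapEquivTensorQuot B I).toRingEquiv
  let e2 : (B ⧸ I.map (algebraMap A B)) ≃+* (B ⧸ RingHom.ker ψ.toRingHom) :=
    Ideal.quotEquivOfEq hψk.symm
  let e3 : (B ⧸ RingHom.ker ψ.toRingHom) ≃+* C :=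
    RingHom.quotientKerEquivOfSurjective (f := ψ.toRingHom) hψs
  let e : B ⊗[A] (A ⧸ I) ≃+* C := e1.symm.trans (e2.trans e3)
  refine ⟨B, inferInstance, inferInstance, hfin, het, e, ?_⟩
  refine Ideal.Quotient.ringHom_ext (RingHom.ext fun a => ?_)
  show e3 (e2 (e1.symm ((1 : B) ⊗ₜ[A] (Ideal.Quotient.mk I a)))) =
    algebraMap (A ⧸ I) C (Ideal.Quotient.mk I a)
  have h1 : e1.symm ((1 : B) ⊗ₜ[A] (Ideal.Quotient.mk I a)) =
      Ideal.Quotient.mk _ (algebraMap A B a) := by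
    rw [RingEquiv.symm_apply_eq]
    show _ = (algebraMap A B a) ⊗ₜ[A] (1 : A ⧸ I)
    rw [Algebra.algebraMap_eq_smul_one, TensorProduct.smul_tmul, ← Algebra.algebraMap_eq_smul_one]
    rfl
  rw [h1]
  show ψ (algebraMap A B a) = _
  rw [AlgHom.commutes]
  rfl


end Groth.Agent.Lib.Helper4.FEtAff
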