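import Mathlib
import Groth.Agent.Lib.Helper4.IndEtGen

/-!
# Every algebra is a filtered colimit of finitely presented algebras
-/

set_option autoImplicit false
set_option linter.style.haveILetI false
set_option linter.unusedSectionVars false
universe u

namespace Groth.Agent.Lib.Helper4.FinAcc

open CategoryTheory CategoryTheory.Limits MvPolynomial
open Groth.Agent.Lib.Helper4.IndEt

variable (R : Type u) [CommRing R]

/-- The object property "finitely presented over `R`" on `Under (CommRingCat.of R)`. -/
def Pfp : ObjectProperty (Under (CommRingCat.of R)) := fun X => X.hom.hom.FinitePresentation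

theorem pfp_mkU (B : Type u) [CommRing B] [Algebra R B] [Algebra.FinitePresentation R B] :
    Pfp R (mkU R B) := by
  change (algebraMap R B).FinitePresentation
  rw [RingHom.finitePresentation_algebraMap]
  infer_instance

theorem pfp_le_isFinitelyPresentable :
    Pfp R ≤ ObjectProperty.isFinitelyPresentable.{u} (Under (CommRingCat.of R)) := by
  intro X hX
  exact CommRingCat.isFinitelyPresentable_under _ X hX

variable {R}
variable (B : Type u) [CommRing B] [Algebra R B]

/-- Index: a finite set of elements and a finite set of relations among them. -/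
structure Idx where
  S : Finset B
  T : Finset (MvPolynomial S R)
  hT : ∀ t ∈ T, aeval (fun x : S => (x : B)) t = 0

namespace Idx

variable {B}

/-- inclusion of variable sets -/
def incl {S S' : Finset B} (h : S ⊆ S') : S → S' := fun x => ⟨x.1, h x.2⟩

theorem incl_id {S : Finset B} (h : S ⊆ S) : incl h = id := rfl

theorem incl_comp {S S' S'' : Finset B} (h : S ⊆ S') (h' : S' ⊆ S'') :
    incl h' ∘ incl h = incl (h.trans h') := rfl

theorem val_incl {S S' : Finset B} (h : S ⊆ S') :
    (fun x : S' => (x : B)) ∘ incl h = fun x : S => (x : B) := rfl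

instance : Preorder (Idx (R := R) B) where
  le i j := ∃ h : i.S ⊆ j.S, ∀ t ∈ i.T, rename (incl h) t ∈ Ideal.span (j.T : Set (MvPolynomial j.S R))
  le_refl i := ⟨subset_rfl, fun t ht => by
    rw [incl_id, rename_id_apply]
    exact Ideal.subset_span ht⟩
  le_trans i j k := by
    rintro ⟨h, H⟩ ⟨h', H'⟩
    refine ⟨h.trans h', fun t ht => ?_⟩
    rw [← incl_comp h h', ← rename_rename]
    have h1 : Ideal.span (j.T : Set (MvPolynomial j.S R)) ≤
        (Ideal.span (k.T : Set (MvPolynomial k.S R))).comap (rename (incl h') : _ →ₐ[R] _) := by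
      rw [Ideal.span_le]
      intro t' ht'
      exact H' t' ht'
    exact h1 (H t ht)

theorem le_def' (i j : Idx (R := R) B) : i ≤ j ↔ ∃ h : i.S ⊆ j.S,
    ∀ t ∈ i.T, rename (incl h) t ∈ Ideal.span (j.T : Set (MvPolynomial j.S R)) := Iff.rfl

theorem le_S {i j : Idx (R := R) B} (h : i ≤ j) : i.S ⊆ j.S := h.choose

theorem le_T {i j : Idx (R := R) B} (h : i ≤ j) :
    Ideal.span (i.T : Set (MvPolynomial i.S R)) ≤
      (Ideal.span (j.T : Set (MvPolynomial j.S R))).comap
        (rename (incl (le_S h)) : MvPolynomial i.S R →ₐ[R] MvPolynomial j.S R) := by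
  rw [Ideal.span_le]
  intro t ht
  exact h.choose_spec t ht

instance : Nonempty (Idx (R := R) B) := ⟨⟨∅, ∅, fun t ht => by simp at ht⟩⟩

open Classical in
instance : IsDirectedOrder (Idx (R := R) B) where
  directed a b := by
    have ha : a.S ⊆ a.S ∪ b.S := Finset.subset_union_left
    have hb : b.S ⊆ a.S ∪ b.S := Finset.subset_union_right
    refine ⟨⟨a.S ∪ b.S, a.T.image (rename (incl ha)) ∪ b.T.image (rename (incl hb)), ?_⟩, ?_, ?_⟩
    · intro t ht
      rcases Finset.mem_union.mp ht with ht | ht
      · obtain ⟨t', ht', rfl⟩ := Finset.mem_image.mp ht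
        rw [aeval_rename, val_incl]
        exact a.hT t' ht'
      · obtain ⟨t', ht', rfl⟩ := Finset.mem_image.mp ht
        rw [aeval_rename, val_incl]
        exact b.hT t' ht'
    · exact ⟨ha, fun t ht => Ideal.subset_span
        (Finset.mem_coe.mpr (Finset.mem_union_left _ (Finset.mem_image_of_mem _ ht)))⟩
    · exact ⟨hb, fun t ht => Ideal.subset_span
        (Finset.mem_coe.mpr (Finset.mem_union_right _ (Finset.mem_image_of_mem _ ht)))⟩

/-- the algebra attached to an index -/
abbrev G (i : Idx (R := R) B) : Type u :=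
  MvPolynomial i.S R ⧸ Ideal.span (i.T : Set (MvPolynomial i.S R))

/-- transition maps -/
noncomputable def tr (i j : Idx (R := R) B) (h : i ≤ j) : i.G →ₐ[R] j.G :=
  Ideal.Quotient.liftₐ _ ((Ideal.Quotient.mkₐ R _).comp
    (rename (incl (le_S h)) : MvPolynomial i.S R →ₐ[R] MvPolynomial j.S R))
    (fun p hp => by
      rw [AlgHom.comp_apply, Ideal.Quotient.mkₐ_eq_mk, Ideal.Quotient.eq_zero_iff_mem]
      exact le_T h hp)

theorem tr_mk (i j : Idx (R := R) B) (h : i ≤ j) (p : MvPolynomial i.S R) :
    tr i j h (Ideal.Quotient.mk _ p) = Ideal.Quotient.mk _ (rename (incl (le_S h)) p) := rfl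

/-- map to `B` -/
noncomputable def toB (i : Idx (R := R) B) : i.G →ₐ[R] B :=
  Ideal.Quotient.liftₐ _ (aeval (fun x : i.S => (x : B)))
    (fun p hp => by
      have h1 : Ideal.span (i.T : Set (MvPolynomial i.S R)) ≤
          RingHom.ker (aeval (fun x : i.S => (x : B)) : MvPolynomial i.S R →ₐ[R] B).toRingHom := by
        rw [Ideal.span_le]
        intro t ht
        exact i.hT t ht
      exact h1 hp)

theorem toB_mk (i : Idx (R := R) B) (p : MvPolynomial i.S R) :
    toB i (Ideal.Quotient.mk _ p) = aeval (fun x : i.S => (x : B)) p := rfl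

end Idx

open Idx in
theorem ind_pfp_mkU : ObjectProperty.ind.{u} (Pfp R) (mkU R B) := by
  classical
  refine ind_of_system (R := R) (ι := Idx (R := R) B) (fun i => i.G) tr ?_ ?_ B toB ?_ ?_ ?_
    (Pfp R) ?_
  · intro i x
    obtain ⟨p, rfl⟩ := Ideal.Quotient.mk_surjective x
    rw [tr_mk, incl_id, rename_id_apply]
  · intro i j k hij hjk x
    obtain ⟨p, rfl⟩ := Ideal.Quotient.mk_surjective x
    rw [tr_mk, tr_mk, tr_mk, rename_rename, incl_comp]
  · intro i j h x
    obtain ⟨p, rfl⟩ := Ideal.Quotient.mk_surjective x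
    rw [tr_mk, toB_mk, toB_mk, aeval_rename, val_incl]
  · intro b
    refine ⟨⟨{b}, ∅, fun t ht => by simp at ht⟩, Ideal.Quotient.mk _ (X ⟨b, by simp⟩), ?_⟩
    rw [toB_mk, aeval_X]
  · intro i x hx
    obtain ⟨p, rfl⟩ := Ideal.Quotient.mk_surjective x
    rw [toB_mk] at hx
    refine ⟨⟨i.S, insert p i.T, ?_⟩, ⟨subset_rfl, ?_⟩, ?_⟩
    · intro t ht
      rcases Finset.mem_insert.mp ht with rfl | ht
      · exact hx
      · exact i.hT t ht
    · intro t ht
      rw [incl_id, rename_id_apply]
      exact Ideal.subset_span (Finset.mem_coe.mpr (Finset.mem_insert_of_mem ht))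
    · rw [tr_mk, incl_id, rename_id_apply, Ideal.Quotient.eq_zero_iff_mem]
      exact Ideal.subset_span (Finset.mem_coe.mpr (Finset.mem_insert_self _ _))
  · intro i
    have : Algebra.FinitePresentation R i.G :=
      Algebra.FinitePresentation.quotient ⟨i.T, rfl⟩
    exact pfp_mkU R i.G

theorem ind_pfp (X : Under (CommRingCat.of R)) : ObjectProperty.ind.{u} (Pfp R) X := by
  letI := X.hom.hom.toAlgebra
  have hX : mkU R X.right = X := rfl
  rw [← hX]
  exact ind_pfp_mkU X.right

end Groth.Agent.Lib.Helper4.FinAcc
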