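import Mathlib

/-!
# Étale-local lifting around `V(I)` (Stacks 0ALH and friends)
-/

set_option autoImplicit false
open Polynomial

namespace Groth.Agent.Lib.Helper4.EtLift
universe u

/-- The kernel of a retraction of an étale algebra is generated by an idempotent. -/
theorem exists_idempotent_ker_of_retraction (R : Type u) (S : Type u) [CommRing R] [CommRing S]
    [Algebra R S] [Algebra.Etale R S] (s : S →ₐ[R] R) :
    ∃ ε : S, IsIdempotentElem ε ∧ RingHom.ker s.toRingHom = Ideal.span {ε} := by
  let _ : Algebra S R := s.toRingHom.toAlgebra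
  have : IsScalarTower R S R := .of_algebraMap_eq fun r => (s.commutes r).symm
  have hsurj : Function.Surjective (algebraMap S R) := fun r => ⟨algebraMap R S r, s.commutes r⟩
  have h1 : Algebra.FormallyEtale S R :=
    (Algebra.FormallyEtale.iff_restrictScalars (R := R) (A := S) (B := R)).mp inferInstance
  have hid := (Algebra.FormallyEtale.iff_of_surjective hsurj).mp h1
  have hfg : (RingHom.ker s.toRingHom).FG :=
    Algebra.FinitePresentation.ker_fG_of_surjective s (fun r => ⟨algebraMap R S r, s.commutes r⟩)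
  exact (Ideal.isIdempotentElem_iff_of_fg _ hfg).mp hid

variable {A : Type u} [CommRing A] (I : Ideal A)

/-- Shrinking an étale algebra with a retraction mod `I` so that the retraction has kernel `I A'`. -/
theorem exists_away_ker_eq (U : Type u) [CommRing U] [Algebra A U] [Algebra.Etale A U]
    (φ : U →ₐ[A] A ⧸ I) :
    ∃ a : U, φ a = 1 ∧ ∀ u : U, φ u = 0 → a * u ∈ I.map (algebraMap A U) := by
  have hφs : Function.Surjective φ := fun x => by
    obtain ⟨y, rfl⟩ := Ideal.Quotient.mk_surjective x
    exact ⟨algebraMap A U y, φ.commutes y⟩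
  let J := I.map (algebraMap A U)
  have hJ : J ≤ RingHom.ker φ.toRingHom := by
    rw [Ideal.map_le_iff_le_comap]
    intro x hx
    show φ (algebraMap A U x) = 0
    rw [φ.commutes]
    exact Ideal.Quotient.eq_zero_iff_mem.mpr hx
  have : Algebra.Etale (A ⧸ I) (U ⧸ J) :=
    Algebra.Etale.of_equiv (Algebra.TensorProduct.quotIdealMapEquivQuotTensor U I).symm
  have hJ' : ∀ x ∈ J, φ.toRingHom x = 0 := fun x hx => RingHom.mem_ker.mp (hJ hx)
  let sR : (U ⧸ J) →+* A ⧸ I := Ideal.Quotient.lift J φ.toRingHom hJ'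
  have hsR : ∀ u : U, sR (Ideal.Quotient.mk J u) = φ u := fun u => Ideal.Quotient.lift_mk _ _ _
  let s : (U ⧸ J) →ₐ[A ⧸ I] A ⧸ I :=
    { toRingHom := sR
      commutes' := by
        intro r
        obtain ⟨y, rfl⟩ := Ideal.Quotient.mk_surjective r
        exact (hsR (algebraMap A U y)).trans (φ.commutes y) }
  have hs : ∀ u : U, s (Ideal.Quotient.mk J u) = φ u := hsR
  obtain ⟨ε, hε, hker⟩ := exists_idempotent_ker_of_retraction (A ⧸ I) (U ⧸ J) s
  obtain ⟨a, ha⟩ := Ideal.Quotient.mk_surjective (1 - ε)
  have hsε : s ε = 0 := by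
    have : ε ∈ RingHom.ker s.toRingHom := by rw [hker]; exact Ideal.mem_span_singleton_self ε
    exact this
  refine ⟨a, ?_, fun u hu => ?_⟩
  · rw [← hs, ha, map_sub, map_one, hsε, sub_zero]
  · have h1 : Ideal.Quotient.mk J u ∈ RingHom.ker s.toRingHom := by
      show s _ = 0
      rw [hs, hu]
    rw [hker, Ideal.mem_span_singleton'] at h1
    obtain ⟨c, hc⟩ := h1
    rw [← Ideal.Quotient.eq_zero_iff_mem, map_mul, ha, ← hc]
    have : (1 - ε) * (c * ε) = c * (ε - ε * ε) := by ring
    rw [this, hε.eq, sub_self, mul_zero]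

/-- Every étale algebra with a retraction onto `A/I` can be shrunk to one whose retraction has
kernel exactly `I A'`. -/
theorem exists_etale_shrink (U : Type u) [CommRing U] [Algebra A U] [Algebra.Etale A U]
    (φ : U →ₐ[A] A ⧸ I) :
    ∃ (A' : Type u) (_ : CommRing A') (_ : Algebra A A') (_ : Algebra U A')
      (_ : IsScalarTower A U A'), Algebra.Etale A A' ∧
      ∃ φ' : A' →ₐ[A] A ⧸ I, (∀ u : U, φ' (algebraMap U A' u) = φ u) ∧
        RingHom.ker φ'.toRingHom = I.map (algebraMap A A') := by
  obtain ⟨a, ha1, ha⟩ := exists_away_ker_eq I U φ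
  have hunit : IsUnit (φ a) := by rw [ha1]; exact isUnit_one
  let φ' : Localization.Away a →ₐ[A] A ⧸ I := IsLocalization.Away.liftAlgHom (f := φ) a hunit
  have hφ' : ∀ u : U, φ' (algebraMap U (Localization.Away a) u) = φ u := fun u =>
    IsLocalization.Away.lift_eq a hunit u
  have : Algebra.Etale A (Localization.Away a) := Algebra.Etale.comp A U (Localization.Away a)
  refine ⟨Localization.Away a, inferInstance, inferInstance, inferInstance, inferInstance, this,
    φ', hφ', ?_⟩
  apply le_antisymm
  · intro x hx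
    obtain ⟨n, u, hxu⟩ := IsLocalization.Away.surj a x (S := Localization.Away a)
    have hα : IsUnit (algebraMap U (Localization.Away a) a) :=
      IsLocalization.Away.algebraMap_isUnit a
    have hφu : φ u = 0 := by
      rw [← hφ', ← hxu, map_mul, show φ' x = 0 from hx, zero_mul]
    have h1 := ha u hφu
    have h2 : algebraMap U (Localization.Away a) (a * u) ∈
        I.map (algebraMap A (Localization.Away a)) := by
      rw [IsScalarTower.algebraMap_eq A U (Localization.Away a), ← Ideal.map_map]
      exact Ideal.mem_map_of_mem _ h1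
    rw [map_mul, ← hxu] at h2
    have h3 : x * (algebraMap U (Localization.Away a) a) ^ (n + 1) ∈
        I.map (algebraMap A (Localization.Away a)) := by
      rw [pow_succ]
      convert h2 using 1
      ring
    exact (Ideal.mul_unit_mem_iff_mem _ (hα.pow (n + 1))).mp h3
  · rw [Ideal.map_le_iff_le_comap]
    intro x hx
    show φ' (algebraMap A (Localization.Away a) x) = 0
    rw [φ'.commutes]
    exact Ideal.Quotient.eq_zero_iff_mem.mpr hx

/-- Universal étale algebra carrying a coprime factorisation, with its retraction to `A/I`. -/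
theorem exists_etale_factor_retraction (f : A[X]) (hf : f.Monic)
    (g h : (A ⧸ I)[X]) (hg : g.Monic) (hh : h.Monic) (hcop : IsCoprime g h)
    (hfgh : f.map (Ideal.Quotient.mk I) = g * h) :
    ∃ (U : Type u) (_ : CommRing U) (_ : Algebra A U), Algebra.Etale A U ∧
      ∃ φ : U →ₐ[A] A ⧸ I, ∃ g' h' : U[X], g'.Monic ∧ h'.Monic ∧ IsCoprime g' h' ∧
        f.map (algebraMap A U) = g' * h' ∧ g'.map φ.toRingHom = g ∧ h'.map φ.toRingHom = h := by
  rcases subsingleton_or_nontrivial (A ⧸ I) with hs | hn
  · refine ⟨A, inferInstance, inferInstance, inferInstance, Ideal.Quotient.mkₐ A I, f, 1, ?_, monic_one,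
      isCoprime_one_right, ?_, Subsingleton.elim _ _, Subsingleton.elim _ _⟩
    · exact hf
    · simp
  · have hdeg : f.natDegree = g.natDegree + h.natDegree := by
      rw [← hg.natDegree_mul hh, ← hfgh, hf.natDegree_map]
    let p : MonicDegreeEq A f.natDegree := .mk f hf rfl
    let U := UniversalCoprimeFactorizationRing g.natDegree h.natDegree hdeg p
    let q : { q : MonicDegreeEq (A ⧸ I) g.natDegree × MonicDegreeEq (A ⧸ I) h.natDegree //
        q.1.1 * q.2.1 = p.1.map (algebraMap A (A ⧸ I)) ∧ IsCoprime q.1.1 q.2.1 } :=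
      ⟨(.mk g hg rfl, .mk h hh rfl), hfgh.symm, hcop⟩
    let φ : U →ₐ[A] A ⧸ I :=
      (UniversalCoprimeFactorizationRing.homEquiv (A ⧸ I) g.natDegree h.natDegree hdeg p).symm q
    have hφ : UniversalCoprimeFactorizationRing.homEquiv (A ⧸ I) g.natDegree h.natDegree hdeg p φ = q :=
      Equiv.apply_symm_apply _ _
    let g' : U[X] := (UniversalCoprimeFactorizationRing.factor₁ g.natDegree h.natDegree hdeg p).1
    let h' : U[X] := (UniversalCoprimeFactorizationRing.factor₂ g.natDegree h.natDegree hdeg p).1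
    refine ⟨U, inferInstance, inferInstance, inferInstance, φ, g', h',
      (UniversalCoprimeFactorizationRing.factor₁ g.natDegree h.natDegree hdeg p).monic,
      (UniversalCoprimeFactorizationRing.factor₂ g.natDegree h.natDegree hdeg p).monic,
      UniversalCoprimeFactorizationRing.isCoprime_factor₁_factor₂ _ _ _ _,
      (UniversalCoprimeFactorizationRing.factor₁_mul_factor₂ _ _ _ _).symm, ?_, ?_⟩
    · have := congrArg (fun z => z.1.1.1) hφ
      simp only [q, MonicDegreeEq.mk_coe] at this
      refine Eq.trans ?_ this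
      simp [UniversalCoprimeFactorizationRing.homEquiv, UniversalFactorizationRing.homEquiv, g',
        UniversalCoprimeFactorizationRing.factor₁, MonicDegreeEq.map, Polynomial.map_map]
      rfl
    · have := congrArg (fun z => z.1.2.1) hφ
      simp only [q, MonicDegreeEq.mk_coe] at this
      refine Eq.trans ?_ this
      simp [UniversalCoprimeFactorizationRing.homEquiv, UniversalFactorizationRing.homEquiv, h',
        UniversalCoprimeFactorizationRing.factor₂, MonicDegreeEq.map, Polynomial.map_map]
      rfl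

theorem bijective_of_retraction (A' : Type u) [CommRing A'] [Algebra A A'] (φ' : A' →ₐ[A] A ⧸ I)
    (hker : RingHom.ker φ'.toRingHom = I.map (algebraMap A A')) :
    Function.Bijective (algebraMap (A ⧸ I) (A' ⧸ I.map (algebraMap A A'))) ∧
    ∀ x : A', Ideal.Quotient.mk (I.map (algebraMap A A')) x =
      algebraMap (A ⧸ I) (A' ⧸ I.map (algebraMap A A')) (φ' x) := by
  have hmk : ∀ a : A, algebraMap (A ⧸ I) (A' ⧸ I.map (algebraMap A A')) (Ideal.Quotient.mk I a) =
      Ideal.Quotient.mk _ (algebraMap A A' a) := fun a => rfl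
  have h2 : ∀ x : A', Ideal.Quotient.mk (I.map (algebraMap A A')) x =
      algebraMap (A ⧸ I) (A' ⧸ I.map (algebraMap A A')) (φ' x) := by
    intro x
    obtain ⟨a, ha⟩ := Ideal.Quotient.mk_surjective (φ' x)
    rw [← ha, hmk, Ideal.Quotient.eq, ← hker]
    show φ' (x - algebraMap A A' a) = 0
    rw [map_sub, φ'.commutes, ← ha]
    exact sub_self _
  refine ⟨⟨?_, ?_⟩, h2⟩
  · rw [injective_iff_map_eq_zero]
    intro r hr
    obtain ⟨a, rfl⟩ := Ideal.Quotient.mk_surjective r
    rw [hmk, Ideal.Quotient.eq_zero_iff_mem, ← hker] at hr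
    have : φ' (algebraMap A A' a) = 0 := hr
    rwa [φ'.commutes] at this
  · intro y
    obtain ⟨x, rfl⟩ := Ideal.Quotient.mk_surjective y
    exact ⟨φ' x, (h2 x).symm⟩

/-- **Stacks 0ALH** (strong form): coprime monic factorisations lift étale-locally around `V(I)`. -/
theorem exists_etale_factor_lift (f : A[X]) (hf : f.Monic)
    (g h : (A ⧸ I)[X]) (hg : g.Monic) (hh : h.Monic) (hcop : IsCoprime g h)
    (hfgh : f.map (Ideal.Quotient.mk I) = g * h) :
    ∃ (A' : Type u) (_ : CommRing A') (_ : Algebra A A'), Algebra.Etale A A' ∧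
      ∃ φ' : A' →ₐ[A] A ⧸ I, RingHom.ker φ'.toRingHom = I.map (algebraMap A A') ∧
      ∃ g' h' : A'[X], g'.Monic ∧ h'.Monic ∧ IsCoprime g' h' ∧
        f.map (algebraMap A A') = g' * h' ∧ g'.map φ'.toRingHom = g ∧ h'.map φ'.toRingHom = h := by
  obtain ⟨U, _, _, hU, φ, g₁, h₁, hg₁, hh₁, hcop₁, hf₁, hgφ, hhφ⟩ :=
    exists_etale_factor_retraction I f hf g h hg hh hcop hfgh
  obtain ⟨A', _, _, _, _, hA', φ', hφ', hker⟩ := exists_etale_shrink I U φ
  have hcomp : φ'.toRingHom.comp (algebraMap U A') = φ.toRingHom := RingHom.ext hφ'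
  refine ⟨A', inferInstance, inferInstance, hA', φ', hker, g₁.map (algebraMap U A'),
    h₁.map (algebraMap U A'), hg₁.map _, hh₁.map _, ?_, ?_, ?_, ?_⟩
  · exact hcop₁.map (Polynomial.mapRingHom (algebraMap U A'))
  · rw [← Polynomial.map_mul, ← hf₁, Polynomial.map_map, ← IsScalarTower.algebraMap_eq]
  · rw [Polynomial.map_map, hcomp, hgφ]
  · rw [Polynomial.map_map, hcomp, hhφ]

end Groth.Agent.Lib.Helper4.EtLift
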