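import Mathlib

/-!
# Cutting out an étale closed subscheme through a section of a smooth algebra
-/

set_option autoImplicit false
universe u

namespace Groth.Agent.Lib.Helper4.SmoothSection

open Polynomial

/-- An endomorphism of a finite module congruent to the identity modulo `J` is invertible up to a
scalar congruent to `1` modulo `J`. -/
theorem exists_comp_eq_smul {R : Type*} {M : Type*} [CommRing R] [AddCommGroup M] [Module R M]
    [Module.Finite R M] (J : Ideal R) (θ : Module.End R M)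
    (h : LinearMap.range (1 - θ) ≤ J • (⊤ : Submodule R M)) :
    ∃ (c : R) (φ : Module.End R M), c - 1 ∈ J ∧ θ * φ = c • (1 : Module.End R M) ∧
      φ * θ = c • (1 : Module.End R M) := by
  obtain ⟨p, hp, -, hcoeff, hpf⟩ :=
    LinearMap.exists_monic_and_natDegree_eq_and_coeff_mem_pow_and_aeval_eq_zero R (1 - θ) J h
  let q : R[X] := p.comp (1 - X)
  have hq : aeval θ q = 0 := by
    rw [Polynomial.aeval_comp]
    have : aeval θ (1 - X : R[X]) = 1 - θ := by simp
    rw [this, hpf]
  have hq0 : q.coeff 0 = p.eval 1 := by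
    rw [Polynomial.coeff_zero_eq_eval_zero, Polynomial.eval_comp]
    simp
  have hc : p.eval 1 - 1 ∈ J := by
    rw [Polynomial.eval_eq_sum_range, Finset.sum_range_succ, hp.coeff_natDegree]
    simp only [one_pow, mul_one, add_sub_cancel_right]
    refine Ideal.sum_mem _ fun k hk => ?_
    have hk' : k < p.natDegree := Finset.mem_range.mp hk
    have h1 := hcoeff k
    exact Ideal.pow_le_self (by omega) h1
  refine ⟨p.eval 1, -aeval θ q.divX, hc, ?_, ?_⟩
  · have h2 : q = q.divX * X + C (q.coeff 0) := (Polynomial.divX_mul_X_add q).symm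
    have h3 : aeval θ q = aeval θ q.divX * θ + (q.coeff 0) • (1 : Module.End R M) := by
      conv_lhs => rw [h2]
      rw [map_add, map_mul, aeval_X, aeval_C, Algebra.algebraMap_eq_smul_one]
    rw [hq, hq0] at h3
    have h4 : Commute θ (aeval θ q.divX) := by
      have := (Polynomial.commute_X q.divX).map (aeval θ)
      rwa [aeval_X] at this
    rw [mul_neg, h4.eq]
    exact neg_eq_of_add_eq_zero_right h3.symm
  · have h2 : q = q.divX * X + C (q.coeff 0) := (Polynomial.divX_mul_X_add q).symm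
    have h3 : aeval θ q = aeval θ q.divX * θ + (q.coeff 0) • (1 : Module.End R M) := by
      conv_lhs => rw [h2]
      rw [map_add, map_mul, aeval_X, aeval_C, Algebra.algebraMap_eq_smul_one]
    rw [hq, hq0] at h3
    rw [neg_mul]
    exact neg_eq_of_add_eq_zero_right h3.symm

open TensorProduct KaehlerDifferential in
/-- Let `B` be a smooth `A`-algebra and `𝔮` an ideal of `B` with `A → B ⧸ 𝔮` surjective. Then there
is an ideal `K ≤ 𝔮` and `c ≡ 1 mod 𝔮` such that `(B ⧸ K)_c` is étale over `A`. -/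
theorem exists_etale_quotient_away {A B : Type u} [CommRing A] [CommRing B] [Algebra A B]
    [Algebra.Smooth A B] (𝔮 : Ideal B) (hsurj : ∀ b : B, ∃ a : A, b - algebraMap A B a ∈ 𝔮) :
    ∃ (K : Ideal B) (c : B ⧸ K), K ≤ 𝔮 ∧ c - 1 ∈ 𝔮.map (Ideal.Quotient.mk K) ∧
      Algebra.Etale A (Localization.Away c) := by
  classical
  let N : Submodule B Ω[B⁄A] := 𝔮 • ⊤
  -- the conormal map `𝔮 → Ω / 𝔮 Ω`
  let π : 𝔮 →ₗ[B] (Ω[B⁄A] ⧸ N) :=
    { toFun := fun x => N.mkQ (D A B x)
      map_add' := by intro x y; simp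
      map_smul' := by
        intro b x
        simp only [RingHom.id_apply, Submodule.coe_smul, smul_eq_mul, Derivation.leibniz, map_add,
          map_smul]
        have : (x : B) • N.mkQ (D A B b) = 0 := by
          rw [← map_smul, Submodule.mkQ_apply, Submodule.Quotient.mk_eq_zero]
          exact Submodule.smul_mem_smul x.2 Submodule.mem_top
        rw [this, add_zero] }
  have hπ : Function.Surjective π := by
    have h1 : (LinearMap.range π).comap N.mkQ = ⊤ := by
      rw [eq_top_iff, ← KaehlerDifferential.span_range_derivation, Submodule.span_le]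
      rintro _ ⟨b, rfl⟩
      obtain ⟨a, ha⟩ := hsurj b
      refine ⟨⟨b - algebraMap A B a, ha⟩, ?_⟩
      show N.mkQ (D A B (b - algebraMap A B a)) = N.mkQ (D A B b)
      rw [map_sub, Derivation.map_algebraMap, sub_zero]
    intro y
    obtain ⟨ω, rfl⟩ := N.mkQ_surjective y
    have : ω ∈ (LinearMap.range π).comap N.mkQ := h1 ▸ Submodule.mem_top
    exact this
  obtain ⟨s, hs⟩ := Module.projective_lifting_property π N.mkQ hπ
  have hs' : ∀ ω, D A B ((s ω : 𝔮) : B) - ω ∈ N := by
    intro ω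
    have := LinearMap.congr_fun hs ω
    rw [LinearMap.comp_apply] at this
    have h2 : N.mkQ (D A B ((s ω : 𝔮) : B)) = N.mkQ ω := this
    rwa [← sub_eq_zero, ← map_sub, Submodule.mkQ_apply, Submodule.Quotient.mk_eq_zero] at h2
  let K : Ideal B := LinearMap.range (𝔮.subtype ∘ₗ s)
  have hK𝔮 : K ≤ 𝔮 := by
    rintro _ ⟨ω, rfl⟩
    exact (s ω).2
  have hKfg : K.FG := by
    have : K = Submodule.map (𝔮.subtype ∘ₗ s) ⊤ := (LinearMap.range_eq_map _)
    rw [this]
    exact Submodule.FG.map _ Module.Finite.fg_top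
  have hfpC : Algebra.FinitePresentation A (B ⧸ K) := Algebra.FinitePresentation.quotient hKfg
  let P : Algebra.Extension.{u} A (B ⧸ K) :=
    { Ring := B
      σ := Function.surjInv Ideal.Quotient.mk_surjective
      algebraMap_σ := Function.surjInv_eq _ }
  have hker : P.ker = K := Ideal.mk_ker
  have _ : Algebra.FormallySmooth A P.Ring := inferInstanceAs (Algebra.FormallySmooth A B)
  -- the map `Ω → K / K²`
  let s₁ : Ω[B⁄A] →ₗ[B] P.ker := LinearMap.codRestrict P.ker (𝔮.subtype ∘ₗ s) (fun ω => by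
    rw [hker]; exact ⟨ω, rfl⟩)
  let S₀ : Ω[B⁄A] →ₗ[B] P.Cotangent := (Algebra.Extension.Cotangent.mk (P := P)).comp s₁
  have hS₀ : Function.Surjective S₀ := by
    intro x
    obtain ⟨k, rfl⟩ := Algebra.Extension.Cotangent.mk_surjective x
    have hk : (k : B) ∈ K := by
      have h0 : ∀ y : B, y ∈ P.ker → y ∈ K := fun y hy => hker ▸ hy
      exact h0 _ k.2
    obtain ⟨ω, hω⟩ := hk
    refine ⟨ω, ?_⟩
    show Algebra.Extension.Cotangent.mk (s₁ ω) = _
    congr 1
    exact Subtype.ext hω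
  let S' : (B ⧸ K) ⊗[B] Ω[B⁄A] →ₗ[B ⧸ K] P.Cotangent := LinearMap.liftBaseChange (B ⧸ K) S₀
  have hS' : Function.Surjective S' := by
    intro x
    obtain ⟨ω, rfl⟩ := hS₀ x
    exact ⟨1 ⊗ₜ ω, by simp [S']⟩
  let θ : Module.End (B ⧸ K) ((B ⧸ K) ⊗[B] Ω[B⁄A]) := P.cotangentComplex ∘ₗ S'
  have hθ1 : ∀ (c : B ⧸ K) (ω : Ω[B⁄A]), θ (c ⊗ₜ ω) = c ⊗ₜ D A B ((s ω : 𝔮) : B) := by
    intro c ω
    have h1 : c ⊗ₜ[B] ω = c • ((1 : B ⧸ K) ⊗ₜ[B] ω) := by
      rw [TensorProduct.smul_tmul', smul_eq_mul, mul_one]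
    rw [h1, map_smul]
    have h2 : θ ((1 : B ⧸ K) ⊗ₜ[B] ω) = P.cotangentComplex (Algebra.Extension.Cotangent.mk (s₁ ω)) := by
      show P.cotangentComplex (S' ((1 : B ⧸ K) ⊗ₜ[B] ω)) = _
      congr 1
      simp [S', S₀]
    rw [h2, Algebra.Extension.cotangentComplex_mk, TensorProduct.smul_tmul', smul_eq_mul, mul_one]
    rfl
  let J : Ideal (B ⧸ K) := 𝔮.map (Ideal.Quotient.mk K)
  have hN : ∀ n ∈ N, ∀ c : B ⧸ K, c ⊗ₜ[B] n ∈ J • (⊤ : Submodule (B ⧸ K) ((B ⧸ K) ⊗[B] Ω[B⁄A])) := by
    intro n hn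
    refine Submodule.smul_induction_on hn ?_ ?_
    · intro x hx ω _ c
      have : c ⊗ₜ[B] (x • ω) = (Ideal.Quotient.mk K x) • (c ⊗ₜ[B] ω) := by
        rw [TensorProduct.smul_tmul', smul_eq_mul, ← TensorProduct.smul_tmul]
        congr 1
      rw [this]
      exact Submodule.smul_mem_smul (Ideal.mem_map_of_mem _ hx) Submodule.mem_top
    · intro y z hy hz c
      rw [TensorProduct.tmul_add]
      exact add_mem (hy c) (hz c)
  have hθ : LinearMap.range (1 - θ) ≤ J • (⊤ : Submodule (B ⧸ K) ((B ⧸ K) ⊗[B] Ω[B⁄A])) := by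
    rintro _ ⟨m, rfl⟩
    induction m using TensorProduct.induction_on with
    | zero => simp
    | tmul c ω =>
      rw [LinearMap.sub_apply, Module.End.one_apply, hθ1, ← TensorProduct.tmul_sub]
      have := hN _ (hs' ω) (-c)
      rwa [TensorProduct.neg_tmul, ← TensorProduct.tmul_neg, neg_sub] at this
    | add x y hx hy =>
      rw [map_add]
      exact add_mem hx hy
  have _ : Module.Finite (B ⧸ K) ((B ⧸ K) ⊗[B] Ω[B⁄A]) := inferInstance
  obtain ⟨c, φ, hc, hθφ, hφθ⟩ := exists_comp_eq_smul J θ hθ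
  refine ⟨K, c, hK𝔮, hc, ?_⟩
  -- `c` kills the Kähler differentials and `H¹` of the cotangent complex
  have hΩ : ∀ w : Ω[(B ⧸ K)⁄A], c • w = 0 := by
    intro w
    obtain ⟨m, rfl⟩ := P.toKaehler_surjective w
    rw [← map_smul]
    have h1 : c • m = θ (φ m) := by
      have := LinearMap.congr_fun hθφ m
      simpa using this.symm
    rw [h1]
    exact (P.exact_cotangentComplex_toKaehler _).mpr ⟨S' (φ m), rfl⟩
  have hH1 : ∀ h : Algebra.H1Cotangent A (B ⧸ K), c • h = 0 := by
    intro h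
    obtain ⟨x, rfl⟩ := P.equivH1CotangentOfFormallySmooth.surjective h
    rw [← map_smul]
    have hx0 : c • x = 0 := by
      obtain ⟨m, hm⟩ := hS' x.1
      have h1 : θ m = 0 := by
        show P.cotangentComplex (S' m) = 0
        rw [hm]
        exact x.2
      have h2 : c • m = 0 := by
        have := LinearMap.congr_fun hφθ m
        simp only [Module.End.mul_apply, LinearMap.smul_apply, Module.End.one_apply] at this
        rw [← this, h1, map_zero]
      apply Subtype.ext
      show c • x.1 = 0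
      rw [← hm, ← map_smul, h2, map_zero]
    rw [hx0, map_zero]
  apply Algebra.basicOpen_subset_etaleLocus_iff_etale.mp
  rw [Algebra.etaleLocus_eq_compl_support]
  intro p hp
  have hcp : c ∉ p.asIdeal := hp
  refine ⟨?_, ?_⟩
  · rw [Set.mem_compl_iff, Module.notMem_support_iff']
    exact fun w => ⟨c, hcp, hΩ w⟩
  · rw [Set.mem_compl_iff, Module.notMem_support_iff']
    exact fun h => ⟨c, hcp, hH1 h⟩

end Groth.Agent.Lib.Helper4.SmoothSection
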