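import Mathlib

namespace Groth.Agent.Lib.Helper4
open KaehlerDifferential TensorProduct Algebra

universe u

section
variable (A B S : Type u) [CommRing A] [CommRing B] [CommRing S] [Algebra A B] [Algebra B S]
  [Algebra A S] [IsScalarTower A B S]

theorem formallySmooth_iff_split_mapBaseChange [Algebra.FormallySmooth A S] :
    Algebra.FormallySmooth B S ↔
      ∃ l' : Ω[S⁄A] →ₗ[S] S ⊗[B] Ω[B⁄A], l' ∘ₗ mapBaseChange A B S = LinearMap.id := by
  have hex := KaehlerDifferential.exact_mapBaseChange_map A B S
  have hsurj := KaehlerDifferential.map_surjective A B S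
  constructor
  · intro h
    have hinj : Function.Injective (mapBaseChange A B S) := by
      rw [injective_iff_map_eq_zero]
      intro x hx
      obtain ⟨y, rfl⟩ := (Algebra.H1Cotangent.exact_δ_mapBaseChange A B S x).mp hx
      rw [Subsingleton.elim y 0, map_zero]
    have := (Function.Exact.split_tfae hex hinj hsurj).out 0 1
    exact this.mp (Module.projective_lifting_property _ _ hsurj)
  · rintro ⟨l', hl'⟩
    have hinj : Function.Injective (mapBaseChange A B S) :=
      Function.HasLeftInverse.injective ⟨l', LinearMap.congr_fun hl'⟩
    have hsplit := ((Function.Exact.split_tfae hex hinj hsurj).out 0 1)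
    obtain ⟨l, hl⟩ := hsplit.mpr ⟨l', hl'⟩
    refine ⟨Module.Projective.of_split l _ hl, ?_⟩
    refine ⟨fun a b => ?_⟩
    suffices ∀ y : H1Cotangent B S, y = 0 by rw [this a, this b]
    intro y
    have h1 : H1Cotangent.δ A B S y = 0 := hinj (by
      rw [map_zero]
      exact (Algebra.H1Cotangent.exact_δ_mapBaseChange A B S _).mpr ⟨y, rfl⟩)
    obtain ⟨z, rfl⟩ := (Algebra.H1Cotangent.exact_map_δ A B S y).mp h1
    rw [Subsingleton.elim z 0, map_zero]

end

theorem kaehler_map_map (A B C S : Type u) [CommRing A] [CommRing B] [CommRing C] [CommRing S]
    [Algebra A B] [Algebra B C] [Algebra A C] [IsScalarTower A B C]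
    [Algebra C S] [Algebra B S] [Algebra A S] [IsScalarTower A C S] [IsScalarTower B C S]
    [IsScalarTower A B S] (ω : Ω[B⁄A]) :
    KaehlerDifferential.map A A C S (KaehlerDifferential.map A A B C ω) =
      KaehlerDifferential.map A A B S ω := by
  have hω : ω ∈ Submodule.span B (Set.range <| KaehlerDifferential.D A B) := by
    rw [KaehlerDifferential.span_range_derivation]; trivial
  induction hω using Submodule.span_induction with
  | mem y hy =>
    obtain ⟨b, rfl⟩ := hy
    simp only [KaehlerDifferential.map_D]
    rw [← IsScalarTower.algebraMap_apply]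
  | zero => simp
  | add a b _ _ ha hb => simp only [map_add, ha, hb]
  | smul a b _ hb =>
    rw [LinearMap.map_smul (KaehlerDifferential.map A A B C),
      LinearMap.map_smul (KaehlerDifferential.map A A B S), ← hb,
      ← algebraMap_smul C a (KaehlerDifferential.map A A B C b), LinearMap.map_smul,
      algebraMap_smul]

variable (A B C : Type u) [CommRing A] [CommRing B] [CommRing C] [Algebra A B] [Algebra B C]
  [Algebra A C] [IsScalarTower A B C] (q : Ideal C) [q.IsPrime]

theorem lTensor_mapBaseChange_injective_iff :
    Function.Injective ((mapBaseChange A B (Localization.AtPrime q)).lTensor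
        (IsLocalRing.ResidueField (Localization.AtPrime q))) ↔
      Function.Injective ((mapBaseChange A B C).lTensor q.ResidueField) := by
  set S := Localization.AtPrime q
  set k := q.ResidueField
  have : Algebra.FormallyEtale C S := .of_isLocalization q.primeCompl
  let e1a := AlgebraTensorModule.cancelBaseChange B C k k Ω[B⁄A]
  let e1b := AlgebraTensorModule.cancelBaseChange B S k k Ω[B⁄A]
  let e2a := AlgebraTensorModule.cancelBaseChange C S k k Ω[C⁄A]
  let e2b := LinearEquiv.lTensor k (tensorKaehlerEquivOfFormallyEtale A C S)
  have key : ∀ z, e2b (e2a.symm (((mapBaseChange A B C).lTensor k) z)) =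
      ((mapBaseChange A B S).lTensor k) (e1b.symm (e1a z)) := by
    intro z
    induction z using TensorProduct.induction_on with
    | zero => simp
    | add a b ha hb => simp only [map_add, ha, hb]
    | tmul x w =>
      induction w using TensorProduct.induction_on with
      | zero => simp
      | add a b ha hb => simp only [tmul_add, map_add, ha, hb]
      | tmul c ω =>
        simp only [LinearMap.lTensor_tmul, mapBaseChange_tmul, e1a, e1b, e2a, e2b,
          AlgebraTensorModule.cancelBaseChange_tmul, AlgebraTensorModule.cancelBaseChange_symm_tmul,
          LinearEquiv.lTensor_tmul, tensorKaehlerEquivOfFormallyEtale_apply, one_smul, map_smul,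
          kaehler_map_map]
        exact (TensorProduct.smul_tmul c x _).symm
  have key' : (e2b ∘ e2a.symm) ∘ ((mapBaseChange A B C).lTensor k) =
      ((mapBaseChange A B S).lTensor k) ∘ (e1b.symm ∘ e1a) := funext key
  have hb1 : Function.Bijective (e2b ∘ e2a.symm) := e2b.bijective.comp e2a.symm.bijective
  have hb2 : Function.Bijective (e1b.symm ∘ e1a) := e1b.symm.bijective.comp e1a.bijective
  rw [← Function.Injective.of_comp_iff hb1.injective, key',
    Function.Injective.of_comp_iff' _ hb2]

/-- Descent of formal smoothness to an intermediate perfect field: if `k → K → A` with `k`, `K`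
perfect fields, `A` local and essentially of finite type over `k`, `K` essentially of finite type
over `k`, and `A` formally smooth over `k`, then `A` is formally smooth over `K`. -/
theorem formallySmooth_of_perfectField_tower (k K A : Type u) [Field k] [Field K] [CommRing A]
    [IsLocalRing A] [Algebra k K] [Algebra K A] [Algebra k A] [IsScalarTower k K A]
    [PerfectField k] [PerfectField K] [Algebra.EssFiniteType k K] [Algebra.EssFiniteType k A]
    [Algebra.FormallySmooth k A] : Algebra.FormallySmooth K A := by
  set κ := IsLocalRing.ResidueField A
  have : Algebra.EssFiniteType K A := Algebra.EssFiniteType.of_comp k K A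
  have : Algebra.EssFiniteType A κ := inferInstance
  have : Algebra.EssFiniteType k κ := .comp k A κ
  have : Algebra.EssFiniteType K κ := .comp K A κ
  have : Algebra.FormallySmooth k κ := Algebra.FormallySmooth.of_perfectField
  have : Algebra.FormallySmooth K κ := Algebra.FormallySmooth.of_perfectField
  have : Module.Free A Ω[A⁄k] := Module.free_of_flat_of_isLocalRing
  rw [formallySmooth_iff_split_mapBaseChange k K A,
    IsLocalRing.split_injective_iff_lTensor_residueField_injective]
  -- the map `v`
  obtain ⟨l', hl'⟩ := (formallySmooth_iff_split_mapBaseChange k K κ).mp inferInstance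
  have hv : Function.Injective (mapBaseChange k K κ) :=
    Function.HasLeftInverse.injective ⟨l', LinearMap.congr_fun hl'⟩
  let e := AlgebraTensorModule.cancelBaseChange K A κ κ Ω[K⁄k]
  have key : ∀ z, mapBaseChange k A κ (((mapBaseChange k K A).lTensor κ) z) =
      mapBaseChange k K κ (e z) := by
    intro z
    induction z using TensorProduct.induction_on with
    | zero => simp
    | add a b ha hb => simp only [map_add, ha, hb]
    | tmul x w =>
      induction w using TensorProduct.induction_on with
      | zero => simp
      | add a b ha hb => simp only [tmul_add, map_add, ha, hb]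
      | tmul c ω =>
        simp only [LinearMap.lTensor_tmul, mapBaseChange_tmul, e,
          AlgebraTensorModule.cancelBaseChange_tmul, map_smul, kaehler_map_map]
        rw [smul_comm x c, smul_assoc]
  rw [injective_iff_map_eq_zero]
  intro z hz
  have h1 : mapBaseChange k K κ (e z) = 0 := by rw [← key, hz, map_zero]
  have h2 : e z = 0 := hv (by rw [h1, map_zero])
  exact e.injective (by rw [h2, map_zero])


end Groth.Agent.Lib.Helper4
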