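import Mathlib

/-!
# Quasi-finiteness along `V(IR)` from finiteness of `R/IR`
-/

set_option autoImplicit false

namespace Groth.Agent.Lib.Helper4.QFQuot

open TensorProduct

variable {A R : Type*} [CommRing A] [CommRing R] [Algebra A R]

/-- If `R/IR` is module-finite over `A` and `I ≤ p`, the fibre of `R` over `p` is finite. -/
theorem finite_fiber_of_finite_quotient (I : Ideal A)
    (hfin : Module.Finite A (R ⧸ I.map (algebraMap A R))) (p : Ideal A) [p.IsPrime] (hp : I ≤ p) :
    Module.Finite p.ResidueField (p.Fiber R) := by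
  let J := I.map (algebraMap A R)
  let φ : R →ₐ[A] p.ResidueField ⊗[A] R := Algebra.TensorProduct.includeRight
  have hJ : ∀ x ∈ J, φ x = 0 := by
    have hle : J ≤ RingHom.ker φ.toRingHom := by
      rw [Ideal.map_le_iff_le_comap]
      intro c hc
      show φ (algebraMap A R c) = 0
      rw [φ.commutes, Algebra.TensorProduct.algebraMap_apply]
      have : algebraMap A p.ResidueField c = 0 :=
        Ideal.algebraMap_residueField_eq_zero.mpr (hp hc)
      rw [this, zero_tmul]
    exact fun x hx => hle hx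
  let φbar : (R ⧸ J) →ₐ[A] p.ResidueField ⊗[A] R := Ideal.Quotient.liftₐ J φ hJ
  let ψ : p.ResidueField ⊗[A] (R ⧸ J) →ₗ[p.ResidueField] p.ResidueField ⊗[A] R :=
    LinearMap.liftBaseChange p.ResidueField φbar.toLinearMap
  have hψ : Function.Surjective ψ := by
    intro z
    induction z using TensorProduct.induction_on with
    | zero => exact ⟨0, map_zero _⟩
    | tmul k x =>
      refine ⟨k ⊗ₜ Ideal.Quotient.mk J x, ?_⟩
      show ψ (k ⊗ₜ Ideal.Quotient.mk J x) = k ⊗ₜ x
      rw [LinearMap.liftBaseChange_tmul]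
      show k • ((1 : p.ResidueField) ⊗ₜ[A] x) = k ⊗ₜ x
      rw [TensorProduct.smul_tmul', smul_eq_mul, mul_one]
    | add a b ha hb =>
      obtain ⟨a', rfl⟩ := ha
      obtain ⟨b', rfl⟩ := hb
      exact ⟨a' + b', map_add _ _ _⟩
  exact Module.Finite.of_surjective ψ hψ

theorem quasiFiniteAt_of_finite_quotient [Algebra.FiniteType A R] (I : Ideal A)
    (hfin : Module.Finite A (R ⧸ I.map (algebraMap A R))) (q : Ideal R) [q.IsPrime]
    (hq : I.map (algebraMap A R) ≤ q) : Algebra.QuasiFiniteAt A q := by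
  let qs : PrimeSpectrum R := ⟨q, inferInstance⟩
  let p : PrimeSpectrum A := qs.comap (algebraMap A R)
  have hIp : I ≤ p.asIdeal := by
    intro c hc
    show algebraMap A R c ∈ q
    exact hq (Ideal.mem_map_of_mem _ hc)
  have hfib : Module.Finite p.asIdeal.ResidueField (p.asIdeal.Fiber R) :=
    finite_fiber_of_finite_quotient I hfin p.asIdeal hIp
  let e := PrimeSpectrum.preimageHomeomorphFiber A R p
  have : q.LiesOver p.asIdeal := ⟨rfl⟩
  exact Algebra.QuasiFiniteAt.of_quasiFiniteAt_residueField p.asIdeal q (e ⟨qs, rfl⟩).asIdeal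
    congr($(e.symm_apply_apply ⟨qs, rfl⟩).1.asIdeal)

end Groth.Agent.Lib.Helper4.QFQuot
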