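import Mathlib

/-!
# Zariski main theorem near a closed set, assuming quasi-finiteness only along that closed set
-/

set_option autoImplicit false
universe u v

namespace Groth.Agent.Lib.Helper4.HenselPair

/-- Global Zariski main theorem near the closed set `V(𝔟)`: a module-finite subalgebra `S'` and
finitely many `r ∈ S'` covering `V(𝔟)` such that every element of `S` lands in `S'` after
multiplication by a power of `r`. -/
theorem exists_finite_subalgebra_cover_of_quasiFiniteAt {R : Type u} {S : Type v} [CommRing R] [CommRing S]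
    [Algebra R S] [Algebra.FiniteType R S] (𝔟 : Ideal S)
    (hqf : ∀ (q : Ideal S) [q.IsPrime], 𝔟 ≤ q → Algebra.QuasiFiniteAt R q) :
    ∃ S' : Subalgebra R S, S'.toSubmodule.FG ∧ ∃ t : Finset S, (∀ r ∈ t, r ∈ S') ∧
      Ideal.span (t : Set S) ⊔ 𝔟 = ⊤ ∧ ∀ r ∈ t, ∀ x : S, ∃ N : ℕ, r ^ N * x ∈ S' := by
  classical
  have key : ∀ q : {q : Ideal S // q.IsPrime ∧ 𝔟 ≤ q}, ∃ (S' : Subalgebra R S), S'.toSubmodule.FG ∧
      ∃ r : S, r ∈ S' ∧ r ∉ q.1 ∧ ∀ x : S, ∃ N : ℕ, r ^ N * x ∈ S' := by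
    rintro ⟨q, hq, hbq⟩
    have := hqf q hbq
    obtain ⟨S', hS', r, hrq, hbij⟩ :=
      Algebra.QuasiFiniteAt.exists_fg_and_exists_notMem_and_awayMap_bijective (R := R) q
    refine ⟨S', hS', r.1, r.2, hrq, fun x => ?_⟩
    obtain ⟨y, m, hy⟩ := Localization.awayMap_surjective_iff.mp hbij.2 x
    exact ⟨m, by
      have : (y : S) = (r : S) ^ m * x := hy
      rw [← this]
      exact y.2⟩
  choose S' hS' r hrS hrq hrx using key
  -- the `r q` for `q ⊇ 𝔟` together with `𝔟` generate the unit ideal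
  let T : Set S := {x | ∃ q : {q : Ideal S // q.IsPrime ∧ 𝔟 ≤ q}, x = r q}
  have hT : Ideal.span T ⊔ 𝔟 = ⊤ := by
    by_contra hne
    obtain ⟨M, hM, hle⟩ := Ideal.exists_le_maximal _ hne
    have h1 : 𝔟 ≤ M := le_trans le_sup_right hle
    have h2 : r ⟨M, hM.isPrime, h1⟩ ∈ M :=
      hle (Ideal.mem_sup_left (Ideal.subset_span ⟨⟨M, hM.isPrime, h1⟩, rfl⟩))
    exact hrq ⟨M, hM.isPrime, h1⟩ h2
  have h1 : (1 : S) ∈ Ideal.span T ⊔ 𝔟 := by rw [hT]; trivial
  obtain ⟨x, hx, y, hy, hxy⟩ := Submodule.mem_sup.mp h1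
  obtain ⟨T', hT'sub, hxT'⟩ := Submodule.mem_span_finite_of_mem_span hx
  have hchoose : ∀ z : T', ∃ q : {q : Ideal S // q.IsPrime ∧ 𝔟 ≤ q}, (z : S) = r q :=
    fun z => hT'sub z.2
  choose qz hqz2 using hchoose
  -- module generators of each `S' q`
  have hgen : ∀ q, ∃ G : Finset S, Submodule.span R (G : Set S) = (S' q).toSubmodule := fun q => hS' q
  choose G hG using hgen
  let 𝒢 : Finset S := T'.attach.biUnion fun z => G (qz z)
  have hint : ∀ x ∈ (𝒢 : Set S), IsIntegral R x := by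
    intro x hx
    obtain ⟨z, -, hz⟩ := Finset.mem_biUnion.mp hx
    have hxS : x ∈ S' (qz z) := by
      have : x ∈ (S' (qz z)).toSubmodule := by
        rw [← hG]
        exact Submodule.subset_span hz
      exact this
    exact IsIntegral.of_mem_of_fg (S' (qz z)) (hS' (qz z)) x hxS
  refine ⟨Algebra.adjoin R (𝒢 : Set S), fg_adjoin_of_finite 𝒢.finite_toSet hint, T', ?_, ?_, ?_⟩
  · intro z hz
    have hle : (S' (qz ⟨z, hz⟩)).toSubmodule ≤ (Algebra.adjoin R (𝒢 : Set S)).toSubmodule := by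
      rw [← hG, Submodule.span_le]
      intro w hw
      exact Algebra.subset_adjoin (Finset.mem_biUnion.mpr ⟨⟨z, hz⟩, Finset.mem_attach _ _, hw⟩)
    have : z = r (qz ⟨z, hz⟩) := hqz2 ⟨z, hz⟩
    rw [this]
    exact hle (hrS _)
  · rw [Ideal.eq_top_iff_one]
    exact Submodule.mem_sup.mpr ⟨x, hxT', y, hy, hxy⟩
  · intro z hz w
    have hle : (S' (qz ⟨z, hz⟩)).toSubmodule ≤ (Algebra.adjoin R (𝒢 : Set S)).toSubmodule := by
      rw [← hG, Submodule.span_le]
      intro w hw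
      exact Algebra.subset_adjoin (Finset.mem_biUnion.mpr ⟨⟨z, hz⟩, Finset.mem_attach _ _, hw⟩)
    obtain ⟨N, hN⟩ := hrx (qz ⟨z, hz⟩) w
    have : z = r (qz ⟨z, hz⟩) := hqz2 ⟨z, hz⟩
    exact ⟨N, by rw [this]; exact hle hN⟩

end Groth.Agent.Lib.Helper4.HenselPair
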