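import Mathlib
import Groth.Prelude.Def_Hens2
import Groth.Agent.Lib.Helper4.QFQuot
import Groth.Agent.Lib.Helper4.HenselPairP2
import Groth.Agent.Lib.Helper4.HenselPairK
import Groth.Agent.Lib.Helper4.HenselPairU
import Groth.Agent.Lib.Helper12.HensCRT

/-!
# Henselization of `(R, IR)` when `R/IR` is finite over a henselian pair `(A, I)`
-/

set_option autoImplicit false

namespace Groth.Agent.Lib.Helper4.HzPairFin

universe u
open Groth.Agent.Lib.Helper4.HenselPair

variable (A : Type u) [CommRing A] (I : Ideal A) [HenselianRing A I]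
  (R : Type u) [CommRing R] [Algebra A R] [Algebra.FiniteType A R]

theorem exists_finite_quotient_isPairHenselization
    (hfin : Module.Finite A (R ⧸ I.map (algebraMap A R))) :
    ∃ e : R, IsIdempotentElem e ∧ Module.Finite A (R ⧸ Ideal.span {1 - e}) ∧
      Hens2.IsPairHenselization R (I.map (algebraMap A R)) (R ⧸ Ideal.span {1 - e}) := by
  obtain ⟨e, he, ⟨S', hS'fg, hS'⟩, hone⟩ :=
    exists_idempotent_finite_split_pair_of_quasiFiniteAt I hfin
      (fun q _ hq => QFQuot.quasiFiniteAt_of_finite_quotient I hfin q hq)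
  set K : Ideal R := Ideal.span {1 - e} with hK
  have hfinS' : Module.Finite A S' := ⟨(Submodule.fg_top _).mpr hS'fg⟩
  have hfinQ : Module.Finite A (R ⧸ K) := by
    let g : S' →ₗ[A] R ⧸ K := (Ideal.Quotient.mkₐ A K).toLinearMap ∘ₗ S'.val.toLinearMap
    refine Module.Finite.of_surjective g ?_
    intro y
    obtain ⟨x, rfl⟩ := Ideal.Quotient.mk_surjective y
    refine ⟨⟨e * x, hS' x⟩, ?_⟩
    show Ideal.Quotient.mk K (e * x) = Ideal.Quotient.mk K x
    rw [Ideal.Quotient.eq]
    have : e * x - x = -x * (1 - e) := by ring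
    rw [this]
    exact Ideal.mul_mem_left _ _ (Ideal.mem_span_singleton_self _)
  refine ⟨e, he, hfinQ, ?_, ?_⟩
  · have hint : Algebra.IsIntegral A (R ⧸ K) := Algebra.IsIntegral.of_finite A (R ⧸ K)
    have h1 := henselianRing_map_of_isIntegral A I (R ⧸ K)
    have h2 : (I.map (algebraMap A R)).map (algebraMap R (R ⧸ K)) =
        I.map (algebraMap A (R ⧸ K)) := by
      rw [Ideal.map_map, ← IsScalarTower.algebraMap_eq]
    rw [h2]
    exact h1
  · intro C _ L f hC hfL
    have hidem : IsIdempotentElem (f (1 - e)) := (he.one_sub).map f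
    have hmem : f (1 - e) ∈ L := hfL (Ideal.mem_map_of_mem f hone)
    have hzero : f (1 - e) = 0 :=
      eq_zero_of_isIdempotentElem_of_mem_jacobson hidem (hC.jac hmem)
    have hK0 : ∀ x ∈ K, f x = 0 := by
      intro x hx
      obtain ⟨c, rfl⟩ := Ideal.mem_span_singleton'.mp hx
      rw [map_mul, hzero, mul_zero]
    refine ⟨Ideal.Quotient.lift K f hK0, ?_, ?_⟩
    · exact RingHom.ext fun x => Ideal.Quotient.lift_mk K f hK0
    · intro g hg
      refine Ideal.Quotient.ringHom_ext ?_
      rw [show (Ideal.Quotient.lift K f hK0).comp (Ideal.Quotient.mk K) = f from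
        RingHom.ext fun x => Ideal.Quotient.lift_mk K f hK0]
      exact hg

end Groth.Agent.Lib.Helper4.HzPairFin
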