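import Mathlib
import Groth.Prelude.Def_Hens2
import Groth.Agent.Lib.Helper4.HzPairFin

/-!
# Splitting off the finite part over a henselian pair: idempotent with finite quotient
-/

set_option autoImplicit false

namespace Groth.Agent.Lib.Helper4.HzPairFin

universe u
open Groth.Agent.Lib.Helper4.HenselPair

variable (A : Type u) [CommRing A] (I : Ideal A) [HenselianRing A I]
  (R : Type u) [CommRing R] [Algebra A R] [Algebra.FiniteType A R]

theorem exists_idempotent_finite_quotient
    (hfin : Module.Finite A (R ⧸ I.map (algebraMap A R))) :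
    ∃ e : R, IsIdempotentElem e ∧ Module.Finite A (R ⧸ Ideal.span {1 - e}) ∧
      1 - e ∈ I.map (algebraMap A R) := by
  obtain ⟨e, he, ⟨S', hS'fg, hS'⟩, hone⟩ :=
    exists_idempotent_finite_split_pair_of_quasiFiniteAt I hfin
      (fun q _ hq => QFQuot.quasiFiniteAt_of_finite_quotient I hfin q hq)
  have hfinS' : Module.Finite A S' := ⟨(Submodule.fg_top _).mpr hS'fg⟩
  refine ⟨e, he, ?_, hone⟩
  let g : S' →ₗ[A] R ⧸ Ideal.span {1 - e} :=
    (Ideal.Quotient.mkₐ A (Ideal.span {1 - e})).toLinearMap ∘ₗ S'.val.toLinearMap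
  refine Module.Finite.of_surjective g ?_
  intro y
  obtain ⟨x, rfl⟩ := Ideal.Quotient.mk_surjective y
  refine ⟨⟨e * x, hS' x⟩, ?_⟩
  show Ideal.Quotient.mk _ (e * x) = Ideal.Quotient.mk _ x
  rw [Ideal.Quotient.eq]
  have : e * x - x = -x * (1 - e) := by ring
  rw [this]
  exact Ideal.mul_mem_left _ _ (Ideal.mem_span_singleton_self _)

end Groth.Agent.Lib.Helper4.HzPairFin
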