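import Mathlib
import Groth.Agent.Lib.Helper4.HzPairFin3
import Groth.Agent.Lib.Helper4.HenselPairJ

/-!
# Hensel factorization for non-monic polynomials over a henselian local ring

If `f̄ = g₀ h₀` with `g₀` monic and coprime to `h₀`, then `f = g h` with `g` monic lifting `g₀`.
The proof splits off the finite part of `R[X]/(f)` (flat since a coefficient of `f` is a unit).
-/

set_option autoImplicit false
universe u
open TensorProduct Polynomial IsLocalRing
open Groth.Agent.Lib.Helper4

namespace Groth.Agent.Lib.Helper4.HenselFactor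

theorem flat_quotient_of_injective_mod {R F : Type*} [CommRing R] [AddCommGroup F] [Module R F]
    [Module.Flat R F] (φ : F →ₗ[R] F)
    (h : ∀ (I : Ideal R) (q : F), φ q ∈ I • (⊤ : Submodule R F) → q ∈ I • (⊤ : Submodule R F)) :
    Module.Flat R (F ⧸ LinearMap.range φ) := by
  rw [Module.Flat.iff_rTensor_injective']
  intro I
  set π := (LinearMap.range φ).mkQ with hπ
  -- the multiplication map `I ⊗ F → F`
  let μ : I ⊗[R] F →ₗ[R] F := (TensorProduct.lid R F).toLinearMap ∘ₗ (I.subtype.rTensor F)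
  have hμ : ∀ (i : I) (x : F), μ (i ⊗ₜ x) = (i : R) • x := fun i x => by
    simp [μ]
  have hμinj : Function.Injective μ := by
    refine (TensorProduct.lid R F).injective.comp ?_
    exact Module.Flat.rTensor_preserves_injective_linearMap I.subtype Subtype.val_injective
  have hμmem : ∀ z, μ z ∈ I • (⊤ : Submodule R F) := by
    intro z
    induction z using TensorProduct.induction_on with
    | zero => simp
    | tmul i x => rw [hμ]; exact Submodule.smul_mem_smul i.2 trivial
    | add a b ha hb => rw [map_add]; exact add_mem ha hb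
  have hμsurj : ∀ q ∈ I • (⊤ : Submodule R F), ∃ z, μ z = q := by
    intro q hq
    refine Submodule.smul_induction_on hq (fun i hi x _ => ⟨⟨i, hi⟩ ⊗ₜ x, hμ _ _⟩) ?_
    rintro a b ⟨za, rfl⟩ ⟨zb, rfl⟩
    exact ⟨za + zb, map_add _ _ _⟩
  have hμφ : ∀ z, μ (φ.lTensor I z) = φ (μ z) := by
    intro z
    induction z using TensorProduct.induction_on with
    | zero => simp
    | tmul i x => rw [LinearMap.lTensor_tmul, hμ, hμ, map_smul]
    | add a b ha hb => simp only [map_add, ha, hb]
  rw [injective_iff_map_eq_zero]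
  intro z hz
  obtain ⟨zt, rfl⟩ := LinearMap.lTensor_surjective I (Submodule.mkQ_surjective _) z
  -- `π (μ zt) = 0`
  have h1 : π (μ zt) = 0 := by
    have h2 : ∀ w : I ⊗[R] F, π (μ w) =
        TensorProduct.lid R _ (I.subtype.rTensor _ (π.lTensor I w)) := by
      intro w
      induction w using TensorProduct.induction_on with
      | zero => simp
      | tmul i x => simp [hμ]
      | add a b ha hb => simp only [map_add, ha, hb]
    rw [h2, hz, map_zero]
  have h3 : μ zt ∈ LinearMap.range φ := (Submodule.Quotient.mk_eq_zero _).mp h1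
  obtain ⟨q, hq⟩ := h3
  have h4 : q ∈ I • (⊤ : Submodule R F) := h I q (hq ▸ hμmem zt)
  obtain ⟨qt, rfl⟩ := hμsurj q h4
  have h5 : zt = φ.lTensor I qt := by
    apply hμinj
    rw [hμφ, hq]
  rw [h5, ← LinearMap.comp_apply, ← LinearMap.lTensor_comp]
  have h6 : π ∘ₗ φ = 0 := by
    ext x
    exact (Submodule.Quotient.mk_eq_zero _).mpr ⟨x, rfl⟩
  rw [h6, LinearMap.lTensor_zero, LinearMap.zero_apply]

/-- If some coefficient of `f` is a unit then `R[X]/(f)` is flat over `R`. -/
theorem flat_adjoinRoot_of_isUnit_coeff {R : Type*} [CommRing R] (f : R[X]) (j : ℕ)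
    (hj : IsUnit (f.coeff j)) : Module.Flat R (AdjoinRoot f) := by
  let φ : R[X] →ₗ[R] R[X] := LinearMap.mulLeft R f
  have hrange : LinearMap.range φ = (Ideal.span {f}).restrictScalars R := by
    ext p
    rw [LinearMap.mem_range, Submodule.restrictScalars_mem, Ideal.mem_span_singleton']
    constructor
    · rintro ⟨q, rfl⟩; exact ⟨q, mul_comm _ _⟩
    · rintro ⟨q, rfl⟩; exact ⟨q, mul_comm _ _⟩
  have hmem : ∀ (I : Ideal R) (q : R[X]), q ∈ I • (⊤ : Submodule R R[X]) ↔
      q.map (Ideal.Quotient.mk I) = 0 := by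
    intro I q
    rw [Ideal.smul_top_eq_map, Submodule.restrictScalars_mem]
    have : algebraMap R R[X] = C := rfl
    rw [this, Ideal.mem_map_C_iff, Polynomial.ext_iff]
    simp only [coeff_map, coeff_zero, Ideal.Quotient.eq_zero_iff_mem]
  have hflat : Module.Flat R (R[X] ⧸ LinearMap.range φ) := by
    refine flat_quotient_of_injective_mod φ fun I q hq => ?_
    rw [hmem] at hq ⊢
    have h1 : (f.map (Ideal.Quotient.mk I)) * (q.map (Ideal.Quotient.mk I)) = 0 := by
      rw [← Polynomial.map_mul]; exact hq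
    have h2 : f.map (Ideal.Quotient.mk I) ∈ nonZeroDivisors (R ⧸ I)[X] := by
      by_contra hnot
      obtain ⟨a, ha, ha0⟩ := Polynomial.notMem_nonZeroDivisors_iff.mp hnot
      have h3 := congrArg (fun p => p.coeff j) ha0
      simp only [coeff_smul, coeff_map, smul_eq_mul, coeff_zero] at h3
      exact ha ((hj.map (Ideal.Quotient.mk I)).mul_left_eq_zero.mp h3)
    exact (mul_left_mem_nonZeroDivisors_eq_zero_iff h2).mp h1
  rw [hrange] at hflat
  exact Module.Flat.of_linearEquiv
    (Submodule.Quotient.restrictScalarsEquiv R (Ideal.span {f})).symm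

theorem finite_quotient_adjoinRoot (R : Type*) [CommRing R] [IsLocalRing R] (f : R[X])
    (hf : f.map (residue R) ≠ 0) :
    Module.Finite R (AdjoinRoot f ⧸ (maximalIdeal R).map (algebraMap R (AdjoinRoot f))) := by
  let e := AdjoinRoot.quotEquivQuotMap f (maximalIdeal R)
  have hf' : f.map (Ideal.Quotient.mk (maximalIdeal R)) ≠ 0 := hf
  have h1 : Module.Finite (ResidueField R) (AdjoinRoot (f.map (residue R))) :=
    (AdjoinRoot.powerBasis hf).finite
  have h2 : Module.Finite R (AdjoinRoot (f.map (residue R))) :=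
    Module.Finite.trans (ResidueField R) _
  have h3 : Module.Finite R ((R ⧸ maximalIdeal R)[X] ⧸
      Ideal.span {Polynomial.map (Ideal.Quotient.mk (maximalIdeal R)) f}) := h2
  exact Module.Finite.equiv e.symm.toLinearEquiv

section
variable {R : Type u} [CommRing R] [IsLocalRing R] {C : Type u} [CommRing C] [Algebra R C]
  [Module.Finite R C] [Module.Flat R C] (x : C)
  (g₀ : (ResidueField R)[X]) (hg : g₀.Monic)
  (θ : C →ₐ[R] AdjoinRoot g₀) (hθx : θ x = AdjoinRoot.root g₀)
  (hker : ∀ c, θ c = 0 → c ∈ (maximalIdeal R).map (algebraMap R C))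

omit [Module.Finite R C] [Module.Flat R C] in
include hθx in
theorem theta_aeval (p : R[X]) : θ (aeval x p) = AdjoinRoot.mk g₀ (p.map (residue R)) := by
  rw [← Polynomial.aeval_algHom_apply, hθx, ← AdjoinRoot.aeval_eq, aeval_def, aeval_def, eval₂_map]
  rfl

include hg hθx hker in
theorem bijective_linearCombination_pow :
    Function.Bijective (Finsupp.linearCombination R (fun i : Fin g₀.natDegree => x ^ (i : ℕ))) := by
  classical
  let k := ResidueField R
  let v : Fin g₀.natDegree → C := fun i => x ^ (i : ℕ)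
  apply Module.IsLocalRing.linearCombination_bijective_of_flat v
  -- the comparison map
  let Θ : k ⊗[R] C →ₗ[k] AdjoinRoot g₀ := LinearMap.liftBaseChange k θ.toLinearMap
  have hΘ : ∀ c : C, Θ (1 ⊗ₜ c) = θ c := fun c => by
    simp [Θ]
  have hΘinj : Function.Injective Θ := by
    rw [injective_iff_map_eq_zero]
    intro z hz
    obtain ⟨c, rfl⟩ := TensorProduct.mk_surjective R C k residue_surjective z
    have hz' : θ c = 0 := (hΘ c).symm.trans hz
    have hc := hker c hz'
    -- elements of `𝔪 C` die in `k ⊗ C`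
    have : ∀ c ∈ (maximalIdeal R).map (algebraMap R C), (1 : k) ⊗ₜ[R] c = 0 := by
      intro c hc
      refine Submodule.span_induction ?_ ?_ ?_ ?_ hc
      · rintro _ ⟨μ, hμ, rfl⟩
        rw [Algebra.algebraMap_eq_smul_one, ← TensorProduct.smul_tmul, Algebra.smul_def, mul_one]
        have : algebraMap R k μ = 0 := (residue_eq_zero_iff μ).mpr hμ
        rw [this, TensorProduct.zero_tmul]
      · exact TensorProduct.tmul_zero _ _
      · intro a b _ _ ha hb
        rw [TensorProduct.tmul_add, ha, hb, add_zero]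
      · intro a b _ hb
        have : (1 : k) ⊗ₜ[R] (a • b) = ((1 : k) ⊗ₜ[R] a) * ((1 : k) ⊗ₜ[R] b) := by
          rw [Algebra.TensorProduct.tmul_mul_tmul, one_mul, smul_eq_mul]
        rw [this, hb, mul_zero]
    exact this c hc
  -- the power basis downstairs
  let pb := AdjoinRoot.powerBasis' hg
  have hdim : pb.dim = g₀.natDegree := rfl
  have hcomp : ∀ l : Fin g₀.natDegree →₀ k,
      Θ (Finsupp.linearCombination k (TensorProduct.mk R k C 1 ∘ v) l) =
        Finsupp.linearCombination k (fun i : Fin g₀.natDegree => (AdjoinRoot.root g₀) ^ (i : ℕ)) l := by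
    intro l
    rw [Finsupp.linearCombination_apply, Finsupp.linearCombination_apply, map_finsuppSum]
    refine Finsupp.sum_congr fun i _ => ?_
    rw [map_smul]
    congr 1
    show Θ (1 ⊗ₜ (x ^ (i : ℕ))) = _
    rw [hΘ, map_pow, hθx]
  have hbasis : Function.Bijective
      (Finsupp.linearCombination k (fun i : Fin g₀.natDegree => (AdjoinRoot.root g₀) ^ (i : ℕ))) := by
    have h0 : Function.Bijective (Finsupp.linearCombination k pb.basis) := by
      rw [← Module.Basis.coe_repr_symm]
      exact pb.basis.repr.symm.bijective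
    have h1 : (pb.basis : Fin pb.dim → AdjoinRoot g₀) =
        (fun i : Fin pb.dim => (AdjoinRoot.root g₀) ^ (i : ℕ)) := by
      funext i
      rw [PowerBasis.coe_basis]
      rfl
    rw [h1] at h0
    exact h0
  constructor
  · intro l₁ l₂ h
    apply hbasis.1
    rw [← hcomp, ← hcomp, h]
  · intro z
    obtain ⟨l, hl⟩ := hbasis.2 (Θ z)
    refine ⟨l, hΘinj ?_⟩
    rw [hcomp, hl]

include hg hθx hker in
theorem exists_factor :
    ∃ g : R[X], g.Monic ∧ g.map (residue R) = g₀ ∧ aeval x g = 0 ∧
      ∀ p : R[X], aeval x p = 0 → g ∣ p := by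
  classical
  have hbij := bijective_linearCombination_pow x g₀ hg θ hθx hker
  set d := g₀.natDegree with hd
  obtain ⟨l, hl⟩ := hbij.2 (x ^ d)
  let s : R[X] := ∑ i : Fin d, Polynomial.C (l i) * X ^ (i : ℕ)
  have hsdeg : s.degree < d := degree_sum_fin_lt _
  let g : R[X] := X ^ d - s
  have hgm : g.Monic := monic_X_pow_sub hsdeg
  have hgdeg : g.natDegree = d := by
    apply natDegree_eq_of_degree_eq_some
    have h1 : s.degree < (X ^ d : R[X]).degree := by
      nontriviality R
      rwa [degree_X_pow]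
    rw [degree_sub_eq_left_of_degree_lt h1]
    nontriviality R
    rw [degree_X_pow]
  have hgx : aeval x g = 0 := by
    have : aeval x s = x ^ d := by
      rw [← hl, Finsupp.linearCombination_apply,
        l.sum_fintype (fun i a => a • x ^ (i : ℕ)) (fun i => zero_smul _ _)]
      simp only [s, map_sum, map_mul, aeval_C, map_pow, aeval_X, Algebra.smul_def]
    simp only [g, map_sub, map_pow, aeval_X, this, sub_self]
  have hgbar : g.map (residue R) = g₀ := by
    have h1 : AdjoinRoot.mk g₀ (g.map (residue R)) = 0 := by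
      rw [← theta_aeval x g₀ θ hθx, hgx, map_zero]
    have h2 : g₀ ∣ g.map (residue R) := AdjoinRoot.mk_eq_zero.mp h1
    have h3 : (g.map (residue R)).natDegree ≤ g₀.natDegree := by
      rw [hgm.natDegree_map, hgdeg]
    exact eq_of_monic_of_dvd_of_natDegree_le hg (hgm.map _) h2 h3
  refine ⟨g, hgm, hgbar, hgx, fun p hp => ?_⟩
  rw [← modByMonic_eq_zero_iff_dvd hgm]
  set r := p %ₘ g with hr
  have hrdeg : r.degree < d := by
    have := degree_modByMonic_lt p hgm
    rwa [degree_eq_natDegree hgm.ne_zero, hgdeg] at this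
  have hrx : aeval x r = 0 := by
    have h1 : p = r + g * (p /ₘ g) := (modByMonic_add_div p g).symm
    have h2 := congrArg (aeval x) h1
    rw [map_add, map_mul, hgx, zero_mul, add_zero, hp] at h2
    exact h2.symm
  -- coefficients of `r` as a finsupp on `Fin d`
  let c : Fin d →₀ R := Finsupp.equivFunOnFinite.symm (fun i => r.coeff i)
  have hc : Finsupp.linearCombination R (fun i : Fin d => x ^ (i : ℕ)) c = 0 := by
    rw [Finsupp.linearCombination_apply,
      c.sum_fintype (fun i a => a • x ^ (i : ℕ)) (fun i => zero_smul _ _)]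
    have hnat : r.natDegree < d ∨ r = 0 := by
      by_cases h0 : r = 0
      · exact Or.inr h0
      · left
        rwa [degree_eq_natDegree h0, Nat.cast_lt] at hrdeg
    have h3 : aeval x r = ∑ i ∈ Finset.range d, r.coeff i • x ^ i := by
      rcases hnat with h | h
      · exact aeval_eq_sum_range' h x
      · simp [h]
    rw [← hrx, h3, ← Fin.sum_univ_eq_sum_range (fun i => r.coeff i • x ^ i) d]
    rfl
  have hc0 : c = 0 := hbij.1 (hc.trans (map_zero _).symm)
  ext i
  rw [coeff_zero]
  by_cases hi : i < d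
  · have := DFunLike.congr_fun hc0 ⟨i, hi⟩
    exact this
  · exact coeff_eq_zero_of_degree_lt (lt_of_lt_of_le hrdeg (by exact_mod_cast not_lt.mp hi))
end

theorem flat_quotient_idempotent {R B : Type*} [CommRing R] [CommRing B] [Algebra R B]
    [Module.Flat R B] {e : B} (he : IsIdempotentElem e) :
    Module.Flat R (B ⧸ Ideal.span {1 - e}) := by
  have h1 : IsLocalization.Away e (B ⧸ Ideal.span {1 - e}) :=
    IsLocalization.Away.quotient_of_isIdempotentElem he
  have h2 : Module.Flat B (B ⧸ Ideal.span {1 - e}) := IsLocalization.flat _ (Submonoid.powers e)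
  exact Module.Flat.trans R B _

/-- A polynomial with zero reduction evaluates into `𝔪 C`. -/
theorem aeval_mem_map_of_map_eq_zero {R : Type*} [CommRing R] [IsLocalRing R] {C' : Type*}
    [CommRing C'] [Algebra R C'] (x : C') (p : R[X]) (hp : p.map (residue R) = 0) :
    aeval x p ∈ (maximalIdeal R).map (algebraMap R C') := by
  rw [aeval_eq_sum_range]
  refine Ideal.sum_mem _ fun i _ => ?_
  rw [Algebra.smul_def]
  refine Ideal.mul_mem_right _ _ (Ideal.mem_map_of_mem _ ?_)
  have := congrArg (fun q => q.coeff i) hp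
  simp only [coeff_map, coeff_zero] at this
  exact (residue_eq_zero_iff _).mp this

/-- An `R`-algebra map into a `k`-algebra kills `𝔪 C`. -/
theorem algHom_eq_zero_of_mem_map {R : Type*} [CommRing R] [IsLocalRing R] {C' K : Type*}
    [CommRing C'] [Algebra R C'] [CommRing K] [Algebra R K] [Algebra (ResidueField R) K]
    [IsScalarTower R (ResidueField R) K] (φ : C' →ₐ[R] K) (c : C')
    (hc : c ∈ (maximalIdeal R).map (algebraMap R C')) : φ c = 0 := by
  have : (maximalIdeal R).map (algebraMap R C') ≤ RingHom.ker φ.toRingHom := by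
    rw [Ideal.map_le_iff_le_comap]
    intro r hr
    rw [Ideal.mem_comap, RingHom.mem_ker]
    show φ (algebraMap R C' r) = 0
    rw [φ.commutes, IsScalarTower.algebraMap_apply R (ResidueField R) K]
    have : algebraMap R (ResidueField R) r = 0 := (residue_eq_zero_iff r).mpr hr
    rw [this, map_zero]
  exact this hc

theorem exists_finite_flat_quotient (R : Type u) [CommRing R] [HenselianLocalRing R]
    (f : R[X]) (g₀ h₀ : (ResidueField R)[X]) (hc : IsCoprime g₀ h₀)
    (hf : f.map (residue R) = g₀ * h₀) (hf0 : f.map (residue R) ≠ 0) :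
    ∃ (C : Type u) (_ : CommRing C) (_ : Algebra R C) (_ : Module.Finite R C)
      (_ : Module.Flat R C) (x : C) (θ : C →ₐ[R] AdjoinRoot g₀),
      aeval x f = 0 ∧ θ x = AdjoinRoot.root g₀ ∧
        ∀ c, θ c = 0 → c ∈ (maximalIdeal R).map (algebraMap R C) := by
  classical
  obtain ⟨j, hj⟩ : ∃ j, IsUnit (f.coeff j) := by
    by_contra hno
    push Not at hno
    apply hf0
    ext j
    rw [coeff_map, coeff_zero]
    exact (residue_eq_zero_iff _).mpr (hno j)
  let K := AdjoinRoot g₀
  let B := AdjoinRoot f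
  have hBflat : Module.Flat R B := flat_adjoinRoot_of_isUnit_coeff f j hj
  have hBfin : Module.Finite R (B ⧸ (maximalIdeal R).map (algebraMap R B)) :=
    finite_quotient_adjoinRoot R f hf0
  obtain ⟨e, he, hefin, he1⟩ :=
    HzPairFin.exists_idempotent_finite_quotient R (maximalIdeal R) B hBfin
  let B₁ := B ⧸ Ideal.span {1 - e}
  have hB₁flat : Module.Flat R B₁ := flat_quotient_idempotent he
  have hB₁int : Algebra.IsIntegral R B₁ := inferInstance
  let π₁ : B →ₐ[R] B₁ := Ideal.Quotient.mkₐ R _
  let x₁ : B₁ := π₁ (AdjoinRoot.root f)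
  have hx₁f : aeval x₁ f = 0 := by
    rw [aeval_algHom_apply, AdjoinRoot.aeval_eq, AdjoinRoot.mk_self, map_zero]
  -- lifts
  obtain ⟨a, b, hab⟩ := hc
  obtain ⟨at', hat⟩ := Polynomial.map_surjective (residue R) residue_surjective a
  obtain ⟨bt, hbt⟩ := Polynomial.map_surjective (residue R) residue_surjective b
  obtain ⟨gt, hgt⟩ := Polynomial.map_surjective (residue R) residue_surjective g₀
  obtain ⟨ht, hht⟩ := Polynomial.map_surjective (residue R) residue_surjective h₀
  let β : B₁ := aeval x₁ (bt * ht)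
  have hβ : β * β - β ∈ (maximalIdeal R).map (algebraMap R B₁) := by
    have h1 : β * β - β = aeval x₁ ((bt * ht) * (bt * ht) - bt * ht + at' * bt * f) := by
      simp only [β, map_add, map_sub, map_mul, hx₁f, mul_zero, add_zero]
    rw [h1]
    apply aeval_mem_map_of_map_eq_zero
    simp only [Polynomial.map_add, Polynomial.map_sub, Polynomial.map_mul, hat, hbt, hht, hf]
    linear_combination (b * h₀) * hab
  obtain ⟨ε, hε, hεβ⟩ := HenselPair.exists_idempotent_lift_of_isIntegral (maximalIdeal R) β hβ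
  let C := B₁ ⧸ Ideal.span {1 - ε}
  have hCflat : Module.Flat R C := flat_quotient_idempotent hε
  let π₂ : B₁ →ₐ[R] C := Ideal.Quotient.mkₐ R _
  have hCfin : Module.Finite R C :=
    Module.Finite.of_surjective π₂.toLinearMap Ideal.Quotient.mk_surjective
  let x : C := π₂ x₁
  have hxf : aeval x f = 0 := by
    rw [aeval_algHom_apply, hx₁f, map_zero]
  -- the map to `K`
  have hroot : f.eval₂ (Algebra.ofId R K) (AdjoinRoot.root g₀) = 0 := by
    have : f.eval₂ (Algebra.ofId R K : R →+* K) (AdjoinRoot.root g₀) =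
        aeval (AdjoinRoot.root g₀) (f.map (residue R)) := by
      rw [aeval_def, eval₂_map]
      rfl
    rw [this, AdjoinRoot.aeval_eq, hf, AdjoinRoot.mk_eq_zero]
    exact dvd_mul_right _ _
  let θB : B →ₐ[R] K := AdjoinRoot.liftAlgHom f (Algebra.ofId R K) (AdjoinRoot.root g₀) hroot
  have hθB : θB (AdjoinRoot.root f) = AdjoinRoot.root g₀ := AdjoinRoot.liftAlgHom_root _ _ _ _
  let θ₁ : B₁ →ₐ[R] K := Ideal.Quotient.liftₐ _ θB (by
    intro c hc
    obtain ⟨c', rfl⟩ := Ideal.mem_span_singleton'.mp hc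
    rw [map_mul, algHom_eq_zero_of_mem_map θB _ he1, mul_zero])
  have hθ₁ : ∀ c, θ₁ (π₁ c) = θB c := fun c => rfl
  have hθ₁x : θ₁ x₁ = AdjoinRoot.root g₀ := hθB
  have hθ₁aeval : ∀ p : R[X], θ₁ (aeval x₁ p) = AdjoinRoot.mk g₀ (p.map (residue R)) := by
    intro p
    rw [← Polynomial.aeval_algHom_apply, hθ₁x, ← AdjoinRoot.aeval_eq, aeval_def, aeval_def,
      eval₂_map]
    rfl
  have hθ₁β : θ₁ β = 1 := by
    rw [hθ₁aeval, Polynomial.map_mul, hbt, hht]
    have : b * h₀ = 1 - a * g₀ := by linear_combination hab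
    rw [this, map_sub, map_one, map_mul, AdjoinRoot.mk_self, mul_zero, sub_zero]
  have hθ₁ε : θ₁ ε = 1 := by
    have := algHom_eq_zero_of_mem_map θ₁ _ hεβ
    rw [map_sub, hθ₁β, sub_eq_zero] at this
    exact this
  let θ : C →ₐ[R] K := Ideal.Quotient.liftₐ _ θ₁ (by
    intro c hc
    obtain ⟨c', rfl⟩ := Ideal.mem_span_singleton'.mp hc
    rw [map_mul, map_sub, map_one, hθ₁ε, sub_self, mul_zero])
  have hθx : θ x = AdjoinRoot.root g₀ := hθ₁x
  have hθaeval : ∀ p : R[X], θ (aeval x p) = AdjoinRoot.mk g₀ (p.map (residue R)) := by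
    intro p
    rw [← Polynomial.aeval_algHom_apply, hθx, ← AdjoinRoot.aeval_eq, aeval_def, aeval_def,
      eval₂_map]
    rfl
  -- `ε = 1` in `C`
  have hε1 : π₂ ε = 1 := by
    have : π₂ (1 - ε) = 0 :=
      Ideal.Quotient.eq_zero_iff_mem.mpr (Ideal.mem_span_singleton_self _)
    rw [map_sub, map_one, sub_eq_zero] at this
    exact this.symm
  set 𝔪C := (maximalIdeal R).map (algebraMap R C) with h𝔪C
  -- (K1)
  have hK1 : aeval x gt ∈ 𝔪C := by
    have h1 : 1 - aeval x (bt * ht) ∈ 𝔪C := by
      have h2 : π₂ (ε - β) ∈ 𝔪C := by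
        have := Ideal.mem_map_of_mem π₂.toRingHom hεβ
        rw [Ideal.map_map] at this
        have hcomp : π₂.toRingHom.comp (algebraMap R B₁) = algebraMap R C := π₂.comp_algebraMap
        rw [hcomp] at this
        exact this
      rw [map_sub, hε1] at h2
      have : π₂ β = aeval x (bt * ht) := (aeval_algHom_apply π₂ x₁ _).symm
      rwa [this] at h2
    have h3 : aeval x (gt * ht) ∈ 𝔪C := by
      have : aeval x (gt * ht) = aeval x (gt * ht - f) := by
        rw [map_sub, hxf, sub_zero]
      rw [this]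
      apply aeval_mem_map_of_map_eq_zero
      rw [Polynomial.map_sub, Polynomial.map_mul, hgt, hht, hf, sub_self]
    have h4 : aeval x gt = aeval x gt * (1 - aeval x (bt * ht)) + aeval x bt * aeval x (gt * ht) := by
      simp only [map_mul]; ring
    rw [h4]
    exact Ideal.add_mem _ (Ideal.mul_mem_left _ _ h1) (Ideal.mul_mem_left _ _ h3)
  refine ⟨C, inferInstance, inferInstance, hCfin, hCflat, x, θ, hxf, hθx, fun c hc => ?_⟩
  -- (K2)
  obtain ⟨c₁, rfl⟩ := Ideal.Quotient.mk_surjective c
  obtain ⟨c₀, rfl⟩ := Ideal.Quotient.mk_surjective c₁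
  obtain ⟨p, rfl⟩ := AdjoinRoot.mk_surjective c₀
  have hcp : (Ideal.Quotient.mk (Ideal.span {1 - ε}) (Ideal.Quotient.mk (Ideal.span {1 - e})
      (AdjoinRoot.mk f p)) : C) = aeval x p := by
    have h1 : aeval x p = π₂ (π₁ (aeval (AdjoinRoot.root f) p)) := by
      rw [← aeval_algHom_apply, ← aeval_algHom_apply]
    rw [h1, AdjoinRoot.aeval_eq]
    rfl
  rw [hcp] at hc ⊢
  rw [hθaeval, AdjoinRoot.mk_eq_zero] at hc
  obtain ⟨q₀, hq₀⟩ := hc
  obtain ⟨qt, hqt⟩ := Polynomial.map_surjective (residue R) residue_surjective q₀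
  have h5 : aeval x (p - gt * qt) ∈ 𝔪C := by
    apply aeval_mem_map_of_map_eq_zero
    rw [Polynomial.map_sub, Polynomial.map_mul, hgt, hqt, hq₀, sub_self]
  have h6 : aeval x p = aeval x (p - gt * qt) + aeval x gt * aeval x qt := by
    simp only [map_sub, map_mul]; ring
  rw [h6]
  exact Ideal.add_mem _ h5 (Ideal.mul_mem_right _ _ hK1)

/-- **Hensel factorization for non-monic polynomials** over a henselian local ring. -/
theorem factor_lift (R : Type u) [CommRing R] [HenselianLocalRing R]
    (f : R[X]) (g₀ h₀ : (ResidueField R)[X]) (hg : g₀.Monic)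
    (hc : IsCoprime g₀ h₀) (hf : f.map (residue R) = g₀ * h₀) :
    ∃ g h : R[X], f = g * h ∧ g.Monic ∧ g.map (residue R) = g₀ ∧ h.map (residue R) = h₀ := by
  classical
  by_cases hf0 : f.map (residue R) = 0
  · -- then `h₀ = 0` and `g₀ = 1`
    have hh0 : h₀ = 0 := by
      rw [hf0] at hf
      rcases mul_eq_zero.mp hf.symm with h | h
      · exact absurd h hg.ne_zero
      · exact h
    have hg1 : g₀ = 1 := by
      obtain ⟨a, b, hab⟩ := hc
      rw [hh0, mul_zero, add_zero] at hab
      have hu : IsUnit g₀ := IsUnit.of_mul_eq_one a (by rw [mul_comm]; exact hab)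
      exact hg.isUnit_iff.mp hu
    refine ⟨1, f, (one_mul f).symm, monic_one, ?_, ?_⟩
    · rw [Polynomial.map_one, hg1]
    · rw [hf0, hh0]
  · obtain ⟨C, _, _, _, _, x, θ, hxf, hθx, hker⟩ :=
      exists_finite_flat_quotient R f g₀ h₀ hc hf hf0
    obtain ⟨g, hgm, hgbar, -, hdvd⟩ := exists_factor x g₀ hg θ hθx hker
    obtain ⟨h, hh⟩ := hdvd f hxf
    refine ⟨g, h, hh, hgm, hgbar, ?_⟩
    have h1 : g₀ * h.map (residue R) = g₀ * h₀ := by
      rw [← hf, hh, Polynomial.map_mul, hgbar]
    exact mul_left_cancel₀ hg.ne_zero h1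

end Groth.Agent.Lib.Helper4.HenselFactor
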