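import Mathlib
import Groth.Prelude.Def_Formal

/-!
# Sections of sheaves of modules: gluing over two opens, vanishing off the zero locus
-/

set_option autoImplicit false
set_option linter.style.haveILetI false
set_option linter.unusedSectionVars false
universe u

namespace Groth.Agent.Lib.Helper4.ZC

open AlgebraicGeometry CategoryTheory Limits TopologicalSpace Opposite

variable {X : Scheme.{u}}

/-- the abelian sheaf of an `O_X`-module, as a `TopCat.Sheaf` -/
noncomputable def shf (N : X.Modules) : TopCat.Sheaf Ab X := ⟨N.presheaf, N.isSheaf⟩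

theorem res_ext₂ (N : X.Modules) {U₁ U₂ V : X.Opens} (h₁ : U₁ ≤ V) (h₂ : U₂ ≤ V)
    (hcov : V ≤ U₁ ⊔ U₂) (s t : Γ(N, V))
    (e₁ : N.presheaf.map (homOfLE h₁).op s = N.presheaf.map (homOfLE h₁).op t)
    (e₂ : N.presheaf.map (homOfLE h₂).op s = N.presheaf.map (homOfLE h₂).op t) : s = t :=
  TopCat.Sheaf.eq_of_locally_eq₂ (shf N) (homOfLE h₁) (homOfLE h₂) hcov s t e₁ e₂

theorem map_map_apply (N : X.Modules) {U V W : X.Opens} (h₁ : U ≤ V) (h₂ : V ≤ W)
    (s : Γ(N, W)) :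
    N.presheaf.map (homOfLE h₁).op (N.presheaf.map (homOfLE h₂).op s) =
      N.presheaf.map (homOfLE (h₁.trans h₂)).op s := by
  rw [← ConcreteCategory.comp_apply, ← N.presheaf.map_comp]
  rfl

theorem exists_glue₂ (N : X.Modules) (U₁ U₂ : X.Opens) (hcov : U₁ ⊔ U₂ = ⊤)
    (a : Γ(N, U₁)) (b : Γ(N, U₂))
    (h : N.presheaf.map (homOfLE (inf_le_left : U₁ ⊓ U₂ ≤ U₁)).op a =
      N.presheaf.map (homOfLE (inf_le_right : U₁ ⊓ U₂ ≤ U₂)).op b) :
    ∃ s : Γ(N, ⊤), N.presheaf.map (homOfLE (le_top : U₁ ≤ ⊤)).op s = a ∧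
      N.presheaf.map (homOfLE (le_top : U₂ ≤ ⊤)).op s = b := by
  let Uf : Bool → X.Opens := fun c => cond c U₁ U₂
  let sf : ∀ c : Bool, Γ(N, Uf c) := fun c =>
    match c with
    | true => a
    | false => b
  have hc : TopCat.Presheaf.IsCompatible N.presheaf Uf sf := by
    intro c c'
    cases c <;> cases c'
    · rfl
    · change N.presheaf.map (homOfLE (inf_le_left : U₂ ⊓ U₁ ≤ U₂)).op b =
        N.presheaf.map (homOfLE (inf_le_right : U₂ ⊓ U₁ ≤ U₁)).op a
      have h1 := congrArg (N.presheaf.map (homOfLE (le_inf inf_le_right inf_le_left :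
        U₂ ⊓ U₁ ≤ U₁ ⊓ U₂)).op) h
      rw [map_map_apply, map_map_apply] at h1
      exact h1.symm
    · exact h
    · rfl
  have hle : ∀ c : Bool, Uf c ≤ ⊤ := fun c => le_top
  have hcover : (⊤ : X.Opens) ≤ iSup Uf := by
    rw [← hcov]
    exact sup_le (le_iSup Uf true) (le_iSup Uf false)
  obtain ⟨s, hs, -⟩ := (shf N).existsUnique_gluing' Uf ⊤ (fun c => homOfLE (hle c)) hcover sf hc
  exact ⟨s, hs true, hs false⟩

end Groth.Agent.Lib.Helper4.ZC
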