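import Mathlib
import Groth.Agent.Lib.Helper4.ZC1
import Groth.Agent.Lib.Helper12.FF7
import Groth.Agent.Lib.Helper29.QCohIdealMod
import Groth.Agent.Lib.Helper29.QCohQcqs

/-!
# Sections of `M / I^k M` off the zero locus of `I` vanish; glued sections
-/

set_option autoImplicit false
set_option linter.style.haveILetI false
set_option linter.unusedSectionVars false
universe u

namespace Groth.Agent.Lib.Helper4.ZC

open AlgebraicGeometry CategoryTheory Limits TopologicalSpace Opposite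
open Groth.Agent.Lib.Helper29.QCoh Groth.Agent.Lib.Helper12.H12FF

variable {A : Type u} [CommRing A] {X : Scheme.{u}} [X.Over (Spec (CommRingCat.of A))]

/-- the structure map `A → Γ(X, U)` -/
noncomputable def glHom (U : X.Opens) : A →+* Γ(X, U) :=
  (X.presheaf.map (homOfLE (le_top : U ≤ ⊤)).op).hom.comp
    (((X ↘ Spec (CommRingCat.of A)).appTop).hom.comp
      (Scheme.ΓSpecIso (CommRingCat.of A)).inv.hom)

theorem smulMod_app (N : X.Modules) (a : A) (U : X.Opens) (n : Γ(N, U)) :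
    (Formal.smulMod A N a).app U n = glHom U a • n := rfl

theorem res_glHom {U V : X.Opens} (h : V ≤ U) (a : A) :
    X.presheaf.map (homOfLE h).op (glHom U a) = glHom V a := by
  unfold glHom
  simp only [RingHom.comp_apply]
  exact Groth.Agent.Lib.Helper29.QCoh.map_map_apply X le_top h _

theorem isUnit_glHom {V : X.Opens} (a : A)
    (h : V ≤ X.basicOpen (glHom (X := X) ⊤ a)) : IsUnit (glHom V a) := by
  have h1 := X.toRingedSpace.isUnit_res_basicOpen (glHom (X := X) ⊤ a)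
  have h2 := h1.map (X.presheaf.map (homOfLE h).op).hom
  have h3 : (X.presheaf.map (homOfLE h).op).hom
      (X.presheaf.map (homOfLE (X.basicOpen_le (glHom (X := X) ⊤ a))).op (glHom (X := X) ⊤ a)) =
      glHom V a := by
    rw [← res_glHom (le_top : V ≤ ⊤) a]
    exact Groth.Agent.Lib.Helper29.QCoh.map_map_apply X _ h _
  rw [← h3]
  exact h2

theorem eq_zero_of_forall_mem_basicOpen (I : Ideal A) (k : ℕ) (M : X.Modules) (W : X.Opens)
    (hW : ∀ x ∈ W, ∃ a ∈ I, x ∈ X.basicOpen (glHom (X := X) ⊤ a))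
    (n : Γ(Formal.modPow I k M, W)) : n = 0 := by
  choose a ha hxa using hW
  refine eq_zero_of_res_cover_eq_zero _
    (fun x : W => W ⊓ X.basicOpen (glHom (X := X) ⊤ (a x.1 x.2)))
    (fun x => inf_le_left) ?_ n ?_
  · intro x hx
    exact Opens.mem_iSup.mpr ⟨⟨x, hx⟩, ⟨hx, hxa x hx⟩⟩
  · intro x
    have hu : IsUnit (glHom (W ⊓ X.basicOpen (glHom (X := X) ⊤ (a x.1 x.2))) (a x.1 x.2 ^ k)) := by
      rw [map_pow]
      exact (isUnit_glHom _ inf_le_right).pow k
    have h0 : (Formal.smulMod A (Formal.modPow I k M) (a x.1 x.2 ^ k)).app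
        (W ⊓ X.basicOpen (glHom (X := X) ⊤ (a x.1 x.2)))
        (res (Formal.modPow I k M) inf_le_left n) = 0 := by
      rw [smulMod_modPow_eq_zero I k M _ (Ideal.pow_mem_pow (ha x.1 x.2) k)]
      rfl
    rw [smulMod_app] at h0
    exact (hu.smul_eq_zero).mp h0

/-- Glued section: `π(m)` on `U₁`, zero on `U₂`. -/
theorem exists_sec (I : Ideal A) (k : ℕ) (M : X.Modules) (U₁ U₂ : X.Opens)
    (hcov : U₁ ⊔ U₂ = ⊤)
    (hoff : ∀ x ∈ U₁ ⊓ U₂, ∃ a ∈ I, x ∈ X.basicOpen (glHom (X := X) ⊤ a))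
    (m : Γ(M, ⊤)) :
    ∃ s : Γ(Formal.modPow I k M, ⊤),
      res _ (le_top : U₁ ≤ ⊤) s = res _ (le_top : U₁ ≤ ⊤) ((Formal.modPowπ I k M).app ⊤ m) ∧
      res _ (le_top : U₂ ≤ ⊤) s = 0 := by
  obtain ⟨s, h1, h2⟩ := exists_glue₂ (Formal.modPow I k M) U₁ U₂ hcov
    (res _ (le_top : U₁ ≤ ⊤) ((Formal.modPowπ I k M).app ⊤ m)) 0
    ((eq_zero_of_forall_mem_basicOpen I k M _ hoff _).trans
      (eq_zero_of_forall_mem_basicOpen I k M _ hoff _).symm)
  exact ⟨s, h1, h2⟩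

theorem sec_unique (N : X.Modules) (U₁ U₂ : X.Opens) (hcov : U₁ ⊔ U₂ = ⊤) (s t : Γ(N, ⊤))
    (h1 : res N (le_top : U₁ ≤ ⊤) s = res N (le_top : U₁ ≤ ⊤) t)
    (h2 : res N (le_top : U₂ ≤ ⊤) s = res N (le_top : U₂ ≤ ⊤) t) : s = t :=
  res_ext₂ N le_top le_top hcov.ge s t h1 h2

end Groth.Agent.Lib.Helper4.ZC
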