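import Mathlib
import Groth.Prelude.Def_Hensel
import Groth.Agent.Lib.Helper4.HznReg

/-!
# Discrete valuation rings and (strict) henselization
-/

set_option autoImplicit false
universe u

namespace Groth.Agent.Lib.Helper4.Hzn

open IsLocalRing TensorProduct

/-- A Noetherian local ring whose maximal ideal is generated by a non-zero-divisor is a domain. -/
theorem isDomain_of_maximalIdeal_eq_span_singleton (S : Type*) [CommRing S] [IsLocalRing S]
    [IsNoetherianRing S] (p : S) (hp : maximalIdeal S = Ideal.span {p})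
    (hreg : IsSMulRegular S p) : IsDomain S := by
  have hfac : ∀ a : S, a ≠ 0 → ∃ (n : ℕ) (u : S), IsUnit u ∧ a = p ^ n * u := by
    intro a ha
    have hex : ∃ n : ℕ, a ∉ maximalIdeal S ^ n := by
      by_contra hcon
      push Not at hcon
      have : a ∈ (⨅ n : ℕ, maximalIdeal S ^ n) := by
        rw [Ideal.mem_iInf]; exact hcon
      rw [Ideal.iInf_pow_eq_bot_of_isLocalRing _ Ideal.IsPrime.ne_top'] at this
      exact ha this
    classical
    let n := Nat.find hex
    have hn : a ∉ maximalIdeal S ^ n := Nat.find_spec hex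
    have hn0 : n ≠ 0 := by
      intro h0
      rw [h0, pow_zero, Ideal.one_eq_top] at hn
      exact hn Submodule.mem_top
    obtain ⟨k, hk⟩ := Nat.exists_eq_succ_of_ne_zero hn0
    have hk' : a ∈ maximalIdeal S ^ k := by
      by_contra hcon
      have := Nat.find_min' hex hcon
      omega
    rw [hp, Ideal.span_singleton_pow, Ideal.mem_span_singleton'] at hk'
    obtain ⟨u, hu⟩ := hk'
    refine ⟨k, u, ?_, by rw [← hu, mul_comm]⟩
    by_contra hnu
    have hum : u ∈ maximalIdeal S := (mem_maximalIdeal u).mpr hnu
    rw [hp, Ideal.mem_span_singleton'] at hum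
    obtain ⟨v, hv⟩ := hum
    apply hn
    rw [hk, hp, Ideal.span_singleton_pow, Ideal.mem_span_singleton']
    exact ⟨v, by rw [← hu, ← hv, pow_succ]; ring⟩
  have hpow : ∀ n : ℕ, p ^ n ≠ 0 := by
    intro n h0
    have hr : IsSMulRegular S (p ^ n) := hreg.pow n
    have : (1 : S) = 0 := hr (by simp [h0])
    exact one_ne_zero this
  have hnzd : NoZeroDivisors S := by
    refine ⟨?_⟩
    intro a b hab
    by_contra hcon
    push Not at hcon
    obtain ⟨n, u, hu, rfl⟩ := hfac a hcon.1
    obtain ⟨m, v, hv, rfl⟩ := hfac b hcon.2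
    have : p ^ (n + m) * (u * v) = 0 := by rw [← hab]; ring
    rw [(hu.mul hv).mul_left_eq_zero] at this
    exact hpow _ this
  exact NoZeroDivisors.to_isDomain S

/-- Ascent of the DVR property along a flat local map with `𝔪_R S = 𝔪_S`. -/
theorem isDomain_of_flat_local_of_dvr (R S : Type u) [CommRing R] [IsDomain R]
    [IsDiscreteValuationRing R] [CommRing S] [IsLocalRing S] [IsNoetherianRing S] [Algebra R S]
    [Module.Flat R S]
    (hm : (maximalIdeal R).map (algebraMap R S) = maximalIdeal S) : IsDomain S := by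
  obtain ⟨ϖ, hϖ⟩ := IsDiscreteValuationRing.exists_irreducible R
  have h1 : maximalIdeal R = Ideal.span {ϖ} := hϖ.maximalIdeal_eq
  have h2 : maximalIdeal S = Ideal.span {algebraMap R S ϖ} := by
    rw [← hm, h1, Ideal.map_span, Set.image_singleton]
  have hreg : IsSMulRegular R ϖ := by
    intro a b hab
    simp only [smul_eq_mul] at hab
    exact mul_left_cancel₀ hϖ.ne_zero hab
  exact isDomain_of_maximalIdeal_eq_span_singleton S _ h2 hreg.of_flat

theorem dvr_iff_of_faithfullyFlat_local (R S : Type u) [CommRing R] [IsLocalRing R]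
    [IsNoetherianRing R] [CommRing S] [IsLocalRing S] [IsNoetherianRing S] [Algebra R S]
    [Module.FaithfullyFlat R S]
    (hm : (maximalIdeal R).map (algebraMap R S) = maximalIdeal S) :
    (∃ _ : IsDomain R, IsDiscreteValuationRing R) ↔
      (∃ _ : IsDomain S, IsDiscreteValuationRing S) := by
  have hspan := spanFinrank_maximalIdeal_eq_of_flat_local R S hm
  rw [spanFinrank_maximalIdeal_eq_finrank_cotangentSpace,
    spanFinrank_maximalIdeal_eq_finrank_cotangentSpace] at hspan
  constructor
  · rintro ⟨hd, hdvr⟩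
    have hdS : IsDomain S := isDomain_of_flat_local_of_dvr R S hm
    refine ⟨hdS, ?_⟩
    rw [← finrank_CotangentSpace_eq_one_iff, hspan]
    exact finrank_CotangentSpace_eq_one R
  · rintro ⟨hd, hdvr⟩
    have hinj : Function.Injective (algebraMap R S) := FaithfulSMul.algebraMap_injective R S
    have hdR : IsDomain R := hinj.isDomain _
    refine ⟨hdR, ?_⟩
    rw [← finrank_CotangentSpace_eq_one_iff, ← hspan]
    exact finrank_CotangentSpace_eq_one S

end Groth.Agent.Lib.Helper4.Hzn
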