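import Mathlib
import Groth.Prelude.Def_Hensel
import Groth.Agent.Lib.Helper4.HzsBC1
import Groth.Agent.Lib.Helper4.HzsTensor
import Groth.Agent.Lib.Helper4.HznQF

/-!
# Integral algebras over henselian local rings: localizations at primes of the closed fibre,
and integrality of strict henselizations.
-/

set_option autoImplicit false
set_option linter.unusedSectionVars false
universe u

namespace Groth.Agent.Lib.Helper4.Hzn

open IsLocalRing TensorProduct

/-- Over a henselian local ring `A`, for an integral `A`-algebra `C` and a prime `Q` of the closed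
fibre, the localization map `C → C_Q` is surjective. -/
theorem surjective_algebraMap_localization_of_isIntegral (A : Type u) [CommRing A]
    [HenselianLocalRing A] (C : Type u) [CommRing C] [Algebra A C] [Algebra.IsIntegral A C]
    (Q : Ideal C) [Q.IsPrime] (hQ : (maximalIdeal A).map (algebraMap A C) ≤ Q) :
    Function.Surjective (algebraMap C (Localization.AtPrime Q)) := by
  classical
  have hidem1 : ∀ c : C, IsIdempotentElem c → c ∉ Q →
      algebraMap C (Localization.AtPrime Q) c = 1 := by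
    intro c hc hcQ
    have hu : IsUnit (algebraMap C (Localization.AtPrime Q) c) :=
      IsLocalization.map_units (M := Q.primeCompl) _ ⟨c, hcQ⟩
    have h0 : algebraMap C (Localization.AtPrime Q) c *
        (1 - algebraMap C (Localization.AtPrime Q) c) = 0 := by
      rw [mul_sub, mul_one, ← map_mul, hc.eq, sub_self]
    have := (hu.mul_right_eq_zero).mp h0
    exact (sub_eq_zero.mp this).symm
  intro z
  obtain ⟨x, s, rfl⟩ := IsLocalization.exists_mk'_eq Q.primeCompl z
  -- the finite subalgebra generated by `s`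
  let S' : Subalgebra A C := Algebra.adjoin A {(s : C)}
  have hsS' : (s : C) ∈ S' := Algebra.self_mem_adjoin_singleton A _
  have hfin : Module.Finite A S' :=
    Algebra.finite_adjoin_simple_of_isIntegral (Algebra.IsIntegral.isIntegral _)
  let Q' : Ideal S' := Q.comap (algebraMap S' C)
  have hQ'prime : Q'.IsPrime := Ideal.comap_isPrime _ _
  have hQ'max : Q'.IsMaximal := by
    have h1 : Q'.comap (algebraMap A S') = maximalIdeal A := by
      have h2 : Q'.comap (algebraMap A S') = Q.comap (algebraMap A C) := by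
        rw [Ideal.comap_comap]
        rfl
      rw [h2]
      exact ((maximalIdeal.isMaximal A).eq_of_le (Ideal.comap_ne_top _ Ideal.IsPrime.ne_top')
        (Ideal.map_le_iff_le_comap.mp hQ)).symm
    have : Algebra.IsIntegral A S' := inferInstance
    exact Ideal.isMaximal_of_isIntegral_of_isMaximal_comap Q' (h1 ▸ maximalIdeal.isMaximal A)
  obtain ⟨n, ε, hε, hlast, huniq⟩ := exists_idempotents_of_finite_of_henselian (R := A) S'
  have hex_i : ∃ i : Fin n, ε i.castSucc ∉ Q' := by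
    by_contra hcon
    push Not at hcon
    have : (1 : S') ∈ Q' := by
      rw [← hε.complete, Fin.sum_univ_castSucc, hlast, add_zero]
      exact Q'.sum_mem fun i _ => hcon i
    exact hQ'prime.ne_top ((Ideal.eq_top_iff_one _).mpr this)
  obtain ⟨i, hi⟩ := hex_i
  set ε₀ := ε i.castSucc with hε₀def
  have hε₀ : IsIdempotentElem ε₀ := hε.idem _
  have hsQ' : (⟨s, hsS'⟩ : S') ∉ Q' := fun h => s.2 h
  obtain ⟨t, ht⟩ : ∃ t : S', (⟨s, hsS'⟩ : S') * t * ε₀ = ε₀ := by
    have htop : Ideal.span {(⟨s, hsS'⟩ : S'), 1 - ε₀} = ⊤ := by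
      by_contra hne
      obtain ⟨𝔫, h𝔫, hle⟩ := Ideal.exists_le_maximal _ hne
      have hs𝔫 : (⟨s, hsS'⟩ : S') ∈ 𝔫 := hle (Ideal.subset_span (by simp))
      have h1𝔫 : 1 - ε₀ ∈ 𝔫 := hle (Ideal.subset_span (by simp))
      by_cases hε𝔫 : ε₀ ∈ 𝔫
      · exact h𝔫.ne_top ((Ideal.eq_top_iff_one _).mpr (by simpa using 𝔫.add_mem h1𝔫 hε𝔫))
      · have := huniq i 𝔫 Q' h𝔫 hQ'max hε𝔫 hi
        exact hsQ' (this ▸ hs𝔫)
    have h1 : (1 : S') ∈ Ideal.span {(⟨s, hsS'⟩ : S'), 1 - ε₀} := htop ▸ Submodule.mem_top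
    obtain ⟨a, b, hab⟩ := Ideal.mem_span_pair.mp h1
    refine ⟨a, ?_⟩
    calc (⟨s, hsS'⟩ : S') * a * ε₀
        = (a * (⟨s, hsS'⟩ : S') + b * (1 - ε₀)) * ε₀ - b * (ε₀ - ε₀ * ε₀) := by ring
      _ = ε₀ := by rw [hab, hε₀.eq, sub_self, mul_zero, sub_zero, one_mul]
  refine ⟨x * (t : C), ?_⟩
  rw [IsLocalization.eq_mk'_iff_mul_eq]
  have ht' : (s : C) * (t : C) * (ε₀ : C) = (ε₀ : C) := by
    have := congrArg (fun y : S' => (y : C)) ht
    simpa using this
  have hε₀C : IsIdempotentElem (ε₀ : C) := by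
    have := congrArg (fun y : S' => (y : C)) hε₀.eq
    simpa [IsIdempotentElem] using this
  have hε₀Q : (ε₀ : C) ∉ Q := hi
  have h1 := congrArg (algebraMap C (Localization.AtPrime Q)) ht'
  rw [map_mul, map_mul, hidem1 _ hε₀C hε₀Q, mul_one] at h1
  rw [map_mul, mul_assoc, mul_comm (algebraMap C _ (t : C)), h1, mul_one]

/-- The localization of an integral algebra over a henselian local ring at a prime of the closed
fibre is integral. -/
theorem isIntegral_localization_of_isIntegral (A : Type u) [CommRing A]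
    [HenselianLocalRing A] (C : Type u) [CommRing C] [Algebra A C] [Algebra.IsIntegral A C]
    (Q : Ideal C) [Q.IsPrime] (hQ : (maximalIdeal A).map (algebraMap A C) ≤ Q) :
    Algebra.IsIntegral A (Localization.AtPrime Q) :=
  Algebra.IsIntegral.of_surjective (IsScalarTower.toAlgHom A C (Localization.AtPrime Q))
    (surjective_algebraMap_localization_of_isIntegral A C Q hQ)


section Concrete

variable (R : Type u) [CommRing R] (S : Type u) [CommRing S] [Algebra R S]
  (p : Ideal R) [p.IsPrime] (q : Ideal S) [q.IsPrime] [q.LiesOver p]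
  (Rh : Type u) [CommRing Rh] [IsLocalRing Rh] [Algebra (Localization.AtPrime p) Rh]
  [IsLocalHom (algebraMap (Localization.AtPrime p) Rh)]
  [Algebra R Rh] [IsScalarTower R (Localization.AtPrime p) Rh]
  (Sh : Type u) [CommRing Sh] [IsLocalRing Sh] [Algebra (Localization.AtPrime q) Sh]
  [IsLocalHom (algebraMap (Localization.AtPrime q) Sh)]
  [Algebra S Sh] [IsScalarTower S (Localization.AtPrime q) Sh] [Algebra R Sh] [IsScalarTower R S Sh]
  [Algebra Rh Sh] [IsScalarTower R Rh Sh]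
  [hRh : Hensel.IsStrictHenselization (Localization.AtPrime p) Rh]
  [hSh : Hensel.IsStrictHenselization (Localization.AtPrime q) Sh]

omit [q.LiesOver p] hRh hSh in
theorem tQ_le' (hloc : IsLocalHom (algebraMap Rh Sh)) :
    (maximalIdeal Rh).map (algebraMap Rh (Rh ⊗[R] S)) ≤ tQ R S Rh Sh := by
  rw [Ideal.map_le_iff_le_comap]
  intro a ha
  change tφ R S Rh Sh (a ⊗ₜ[R] (1 : S)) ∈ maximalIdeal Sh
  rw [Algebra.TensorProduct.lift_tmul, map_one, mul_one]
  change algebraMap Rh Sh a ∈ maximalIdeal Sh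
  rw [mem_maximalIdeal, mem_nonunits_iff]
  intro h
  exact (mem_maximalIdeal _).mp ha (hloc.map_nonunit a h)

omit [q.LiesOver p] hRh hSh in
theorem tψ_algebraMap_Rh (a : Rh) :
    tψ R S Rh Sh (algebraMap Rh (Localization.AtPrime (tQ R S Rh Sh)) a) = algebraMap Rh Sh a := by
  rw [IsScalarTower.algebraMap_apply Rh (Rh ⊗[R] S) (Localization.AtPrime (tQ R S Rh Sh)),
    tψ_algebraMap]
  change tφ R S Rh Sh (a ⊗ₜ[R] (1 : S)) = _
  rw [Algebra.TensorProduct.lift_tmul, map_one, mul_one]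
  rfl

omit [q.LiesOver p] hRh hSh in
/-- If `S` is a directed union of quasi-finite finite type subalgebras and `R^h` is henselian, then
`(R^h ⊗_R S)_Q` is integral over `R^h`. -/
theorem isIntegral_tensor_atPrime_of_directed [HenselianLocalRing Rh]
    (hloc : IsLocalHom (algebraMap Rh Sh))
    (hB : ∀ s : Finset S, ∃ B₀ : Subalgebra R S, (↑s : Set S) ⊆ ↑B₀ ∧
      Algebra.FiniteType R ↥B₀ ∧ Algebra.QuasiFinite R ↥B₀) :
    Algebra.IsIntegral Rh (Localization.AtPrime (tQ R S Rh Sh)) := by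
  classical
  have hrange : ∀ x : Rh ⊗[R] S, ∃ s : Finset S, ∀ B₀ : Subalgebra R S, (↑s : Set S) ⊆ ↑B₀ →
      x ∈ (Algebra.TensorProduct.map (AlgHom.id Rh Rh) B₀.val).range := by
    intro x
    induction x using TensorProduct.induction_on with
    | zero => exact ⟨∅, fun B₀ _ => Subalgebra.zero_mem _⟩
    | tmul a b =>
      refine ⟨{b}, fun B₀ hb => ⟨a ⊗ₜ[R] (⟨b, hb (by simp)⟩ : B₀), ?_⟩⟩
      simp
    | add x y hx hy =>
      obtain ⟨s, hs⟩ := hx
      obtain ⟨t, ht⟩ := hy
      refine ⟨s ∪ t, fun B₀ h => Subalgebra.add_mem _ (hs B₀ ?_) (ht B₀ ?_)⟩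
      · exact fun z hz => h (by simp [Finset.mem_coe.mp hz])
      · exact fun z hz => h (by simp [Finset.mem_coe.mp hz])
  refine ⟨fun z => ?_⟩
  obtain ⟨x, y, rfl⟩ := IsLocalization.exists_mk'_eq (tQ R S Rh Sh).primeCompl z
  obtain ⟨s, hs⟩ := hrange x
  obtain ⟨t, ht⟩ := hrange y
  obtain ⟨B₀, hB₀, hft, hqf⟩ := hB (s ∪ t)
  let μ : Rh ⊗[R] B₀ →ₐ[Rh] Rh ⊗[R] S := Algebra.TensorProduct.map (AlgHom.id Rh Rh) B₀.val
  obtain ⟨x₀, hx₀⟩ := hs B₀ (fun z hz => hB₀ (by simp [Finset.mem_coe.mp hz]))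
  obtain ⟨y₀, hy₀⟩ := ht B₀ (fun z hz => hB₀ (by simp [Finset.mem_coe.mp hz]))
  have hx₀' : μ x₀ = x := hx₀
  have hy₀' : μ y₀ = (y : Rh ⊗[R] S) := hy₀
  let Q₀ : Ideal (Rh ⊗[R] B₀) := (tQ R S Rh Sh).comap μ.toRingHom
  have hQ₀prime : Q₀.IsPrime := Ideal.comap_isPrime _ _
  have hy₀Q : y₀ ∉ Q₀ := by
    intro h
    apply y.2
    rw [← hy₀']
    exact h
  have hQ₀le : (maximalIdeal Rh).map (algebraMap Rh (Rh ⊗[R] B₀)) ≤ Q₀ := by
    rw [Ideal.map_le_iff_le_comap]
    intro a ha
    change μ (algebraMap Rh _ a) ∈ tQ R S Rh Sh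
    rw [μ.commutes]
    exact (tQ_le' R S Rh Sh hloc) (Ideal.mem_map_of_mem _ ha)
  have hqfQ₀ : Algebra.QuasiFiniteAt Rh Q₀ := inferInstance
  have hftC₀ : Algebra.FiniteType Rh (Rh ⊗[R] B₀) := inferInstance
  have hfin : Module.Finite Rh (Localization.AtPrime Q₀) :=
    finite_localization_of_quasiFiniteAt Rh _ Q₀ hQ₀le
  let ν : Localization.AtPrime Q₀ →+* Localization.AtPrime (tQ R S Rh Sh) :=
    Localization.localRingHom Q₀ (tQ R S Rh Sh) μ.toRingHom rfl
  have hν : ∀ c, ν (algebraMap _ _ c) = algebraMap _ _ (μ c) := fun c =>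
    Localization.localRingHom_to_map _ _ _ _ c
  let ν' : Localization.AtPrime Q₀ →ₐ[Rh] Localization.AtPrime (tQ R S Rh Sh) :=
    { ν with
      commutes' := fun a => by
        change ν (algebraMap Rh (Localization.AtPrime Q₀) a) = _
        rw [IsScalarTower.algebraMap_apply Rh (Rh ⊗[R] B₀) (Localization.AtPrime Q₀), hν,
          μ.commutes, ← IsScalarTower.algebraMap_apply] }
  have hz : ν' (IsLocalization.mk' _ x₀ (⟨y₀, hy₀Q⟩ : Q₀.primeCompl)) =
      IsLocalization.mk' _ x y := by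
    rw [IsLocalization.eq_mk'_iff_mul_eq, ← hy₀', ← hx₀']
    change ν _ * _ = _
    rw [← hν, ← hν, ← map_mul]
    congr 1
    exact IsLocalization.mk'_spec _ x₀ (⟨y₀, hy₀Q⟩ : Q₀.primeCompl)
  rw [← hz]
  exact (Algebra.IsIntegral.isIntegral (R := Rh) _).map ν'

include p q hRh hSh in
/-- If `(R^sh ⊗_R S)_Q` is integral over `R^sh`, then it is `S^sh`, and `S^sh` is integral over
`R^sh`. -/
theorem bijective_tψ_of_isIntegral
    (hint : Algebra.IsIntegral Rh (Localization.AtPrime (tQ R S Rh Sh))) :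
    Function.Bijective (tψ R S Rh Sh) ∧ Algebra.IsIntegral Rh Sh := by
  have hHRh : HenselianLocalRing Rh := hRh.henselian
  have hloc : IsLocalHom (algebraMap Rh Sh) := Hzs.isLocalHom_Rh_Sh R S p q Rh Sh
  have hDH : HenselianLocalRing (Localization.AtPrime (tQ R S Rh Sh)) :=
    henselianLocalRing_of_isIntegral Rh _
  have hlocD : IsLocalHom (algebraMap Rh (Localization.AtPrime (tQ R S Rh Sh))) :=
    isLocalHom_algebraMap_atPrime Rh _ _ (tQ_le' R S Rh Sh hloc)
  have hscR : IsSepClosed (ResidueField Rh) := hRh.isSepClosure.sep_closed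
  have := Hzs.isIntegral_residueField_of_isIntegral Rh (Localization.AtPrime (tQ R S Rh Sh))
  have hscD : IsSepClosed (ResidueField (Localization.AtPrime (tQ R S Rh Sh))) :=
    Algebra.IsAlgebraic.isSepClosed (F := ResidueField Rh)
  have hbij : Function.Bijective (tψ R S Rh Sh) := by
    let _ : Algebra (Localization.AtPrime (tQ R S Rh Sh)) Sh := (tψ R S Rh Sh).toAlgebra
    have : IsLocalHom (algebraMap (Localization.AtPrime (tQ R S Rh Sh)) Sh) :=
      isLocalHom_tψ R S Rh Sh
    have : Hensel.IsStrictHenselization (Localization.AtPrime (tQ R S Rh Sh)) Sh :=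
      Hzs.isStrictHenselization_tensor_atPrime R S p q Rh Sh
    exact bijective_algebraMap_of_strictHenselian (Localization.AtPrime (tQ R S Rh Sh)) Sh
  refine ⟨hbij, ?_⟩
  let ℓ : Localization.AtPrime (tQ R S Rh Sh) →ₐ[Rh] Sh :=
    { tψ R S Rh Sh with
      commutes' := fun a => tψ_algebraMap_Rh R S Rh Sh a }
  exact Algebra.IsIntegral.of_surjective ℓ hbij.2

end Concrete

end Groth.Agent.Lib.Helper4.Hzn
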