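import Mathlib
import Groth.Prelude.Def_Hensel
import Groth.Agent.Lib.Helper4.HzsInt

/-!
# Strict henselization of a local algebra as a localization of `A^sh ⊗_A B` (local base)
-/

set_option autoImplicit false
set_option linter.unusedSectionVars false
universe u

namespace Groth.Agent.Lib.Helper4.Hzs

open IsLocalRing TensorProduct Groth.Agent.Lib.Helper4.Hzn

section TL

variable (R S : Type u) [CommRing R] [IsLocalRing R] [CommRing S] [IsLocalRing S] [Algebra R S]
  (Rh : Type u) [CommRing Rh] [IsLocalRing Rh] [Algebra R Rh] [IsLocalHom (algebraMap R Rh)]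
  (Sh : Type u) [CommRing Sh] [IsLocalRing Sh] [Algebra S Sh] [IsLocalHom (algebraMap S Sh)]
  [Algebra R Sh] [IsScalarTower R S Sh] [Algebra Rh Sh] [IsScalarTower R Rh Sh]

/-- `S → (R^sh ⊗_R S)_Q`. -/
noncomputable abbrev tlι : S →+* Localization.AtPrime (tQ R S Rh Sh) :=
  (algebraMap (Rh ⊗[R] S) (Localization.AtPrime (tQ R S Rh Sh))).comp
    (Algebra.TensorProduct.includeRight : S →ₐ[R] Rh ⊗[R] S).toRingHom

theorem tlι_apply (s : S) :
    tlι R S Rh Sh s = algebraMap (Rh ⊗[R] S) _ ((1 : Rh) ⊗ₜ[R] s) := rfl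

theorem tψ_comp_tlι : (tψ R S Rh Sh).comp (tlι R S Rh Sh) = algebraMap S Sh := by
  refine RingHom.ext fun s => ?_
  rw [RingHom.comp_apply, tlι_apply, tψ_algebraMap, Algebra.TensorProduct.lift_tmul, map_one,
    one_mul]
  rfl

theorem tψ_tmul_one (a : Rh) :
    tψ R S Rh Sh (algebraMap _ _ (a ⊗ₜ[R] (1 : S))) = algebraMap Rh Sh a := by
  rw [tψ_algebraMap, Algebra.TensorProduct.lift_tmul, map_one, mul_one]
  rfl

variable [hRh : Hensel.IsStrictHenselization R Rh]

include hRh in
theorem tl_hdet (hloc : IsLocalHom (algebraMap Rh Sh)) (T : Type u) [CommRing T]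
    [HenselianLocalRing T]
    (f : Localization.AtPrime (tQ R S Rh Sh) →+* T) [hf : IsLocalHom f]
    (τ : ResidueField Sh →+* ResidueField T) (g' : Sh →+* T)
    (hτ : τ.comp (@ResidueField.map _ _ _ _ _ _ (tψ R S Rh Sh) (isLocalHom_tψ R S Rh Sh)) =
      ResidueField.map f)
    (hg' : g'.comp (algebraMap S Sh) = f.comp (tlι R S Rh Sh))
    (hg'τ : ∀ x : Sh, residue T (g' x) = τ (residue Sh x)) :
    g'.comp (tψ R S Rh Sh) = f := by
  have hψloc := isLocalHom_tψ R S Rh Sh
  -- agreement on `1 ⊗ s`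
  have hS : ∀ s : S, g' (algebraMap S Sh s) = f (algebraMap _ _ ((1 : Rh) ⊗ₜ[R] s)) := by
    intro s
    exact congrArg (fun m => m s) hg'
  -- agreement on `a ⊗ 1`
  let a₁ : Rh →+* T := g'.comp (algebraMap Rh Sh)
  let a₂ : Rh →+* T := (f.comp (algebraMap (Rh ⊗[R] S) (Localization.AtPrime (tQ R S Rh Sh)))).comp
    (Algebra.TensorProduct.includeLeft : Rh →ₐ[R] Rh ⊗[R] S).toRingHom
  have h12 : a₁.comp (algebraMap R Rh) = a₂.comp (algebraMap R Rh) := by
    refine RingHom.ext fun r => ?_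
    change g' (algebraMap Rh Sh (algebraMap R Rh r)) =
      f (algebraMap _ _ ((algebraMap R Rh r) ⊗ₜ[R] (1 : S)))
    rw [← IsScalarTower.algebraMap_apply R Rh Sh, IsScalarTower.algebraMap_apply R S Sh, hS]
    congr 2
    rw [Algebra.algebraMap_eq_smul_one, Algebra.algebraMap_eq_smul_one, TensorProduct.smul_tmul]
  have ha₂loc : IsLocalHom a₂ := by
    refine ⟨fun x hx => ?_⟩
    have h1 : IsUnit (algebraMap (Rh ⊗[R] S) (Localization.AtPrime (tQ R S Rh Sh))
        (x ⊗ₜ[R] (1 : S))) := hf.map_nonunit _ hx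
    have h2 := h1.map (tψ R S Rh Sh)
    rw [tψ_tmul_one] at h2
    exact hloc.map_nonunit x h2
  have hloc' : IsLocalHom (a₂.comp (algebraMap R Rh)) := RingHom.isLocalHom_comp _ _
  have hτ₀ : (ResidueField.map a₂).comp (ResidueField.map (algebraMap R Rh)) =
      ResidueField.map (a₂.comp (algebraMap R Rh)) :=
    (ResidueField.map_comp (algebraMap R Rh) a₂).symm
  have hc₂ : ∀ x : Rh, residue T (a₂ x) = ResidueField.map a₂ (residue Rh x) := fun x => rfl
  have hc₁ : ∀ x : Rh, residue T (a₁ x) = ResidueField.map a₂ (residue Rh x) := by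
    intro x
    change residue T (g' (algebraMap Rh Sh x)) = residue T (a₂ x)
    rw [hg'τ, ← tψ_tmul_one R S Rh Sh]
    have h5 := congrArg (fun m => m (residue _ (algebraMap (Rh ⊗[R] S)
      (Localization.AtPrime (tQ R S Rh Sh)) (x ⊗ₜ[R] (1 : S))))) hτ
    exact h5
  have ha : a₁ = a₂ :=
    (hRh.universal T (a₂.comp (algebraMap R Rh)) (ResidueField.map a₂)
      hτ₀).unique ⟨h12, hc₁⟩ ⟨rfl, hc₂⟩
  -- conclude
  apply IsLocalization.ringHom_ext (tQ R S Rh Sh).primeCompl
  refine RingHom.ext fun d => ?_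
  simp only [RingHom.comp_apply]
  rw [tψ_algebraMap]
  induction d using TensorProduct.induction_on with
  | zero => simp
  | tmul a s =>
    have h1 : a ⊗ₜ[R] s = (a ⊗ₜ[R] (1 : S)) * ((1 : Rh) ⊗ₜ[R] s) := by
      rw [Algebra.TensorProduct.tmul_mul_tmul, mul_one, one_mul]
    rw [h1, map_mul, map_mul, map_mul, map_mul]
    congr 1
    · rw [Algebra.TensorProduct.lift_tmul, map_one, mul_one]
      exact congrArg (fun m => m a) ha
    · rw [Algebra.TensorProduct.lift_tmul, map_one, one_mul]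
      exact hS s
  | add x y hx hy => rw [map_add, map_add, map_add, map_add, hx, hy]

variable [hSh : Hensel.IsStrictHenselization S Sh]

include hRh hSh in
/-- `S^sh` is a strict henselization of `(R^sh ⊗_R S)_Q` (local base rings). -/
theorem isStrictHenselization_tensor_local (hloc : IsLocalHom (algebraMap Rh Sh)) :
    @Hensel.IsStrictHenselization (Localization.AtPrime (tQ R S Rh Sh)) Sh _ _ _ _
      (tψ R S Rh Sh).toAlgebra (isLocalHom_tψ R S Rh Sh) := by
  let _ : Algebra (Localization.AtPrime (tQ R S Rh Sh)) Sh := (tψ R S Rh Sh).toAlgebra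
  have : IsLocalHom (algebraMap (Localization.AtPrime (tQ R S Rh Sh)) Sh) := isLocalHom_tψ R S Rh Sh
  exact isStrictHenselization_of_factor (tlι R S Rh Sh) (tψ_comp_tlι R S Rh Sh)
    (fun T _ _ f _ τ g' hτ hg' hg'τ => tl_hdet R S Rh Sh hloc T f τ g' hτ hg' hg'τ)

include hRh hSh in
/-- If `(R^sh ⊗_R S)_Q` is integral over `R^sh` then it is `S^sh`, and `S^sh` is integral over
`R^sh` (local base rings). -/
theorem bijective_tψ_of_isIntegral_local (hloc : IsLocalHom (algebraMap Rh Sh))
    (hint : Algebra.IsIntegral Rh (Localization.AtPrime (tQ R S Rh Sh))) :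
    Function.Bijective (tψ R S Rh Sh) ∧ Algebra.IsIntegral Rh Sh := by
  have hHRh : HenselianLocalRing Rh := hRh.henselian
  have hDH : HenselianLocalRing (Localization.AtPrime (tQ R S Rh Sh)) :=
    henselianLocalRing_of_isIntegral Rh _
  have hlocD : IsLocalHom (algebraMap Rh (Localization.AtPrime (tQ R S Rh Sh))) :=
    isLocalHom_algebraMap_atPrime Rh _ _ (tQ_le' R S Rh Sh hloc)
  have hscR : IsSepClosed (ResidueField Rh) := hRh.isSepClosure.sep_closed
  have := isIntegral_residueField_of_isIntegral Rh (Localization.AtPrime (tQ R S Rh Sh))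
  have hscD : IsSepClosed (ResidueField (Localization.AtPrime (tQ R S Rh Sh))) :=
    Algebra.IsAlgebraic.isSepClosed (F := ResidueField Rh)
  have hbij : Function.Bijective (tψ R S Rh Sh) := by
    let _ : Algebra (Localization.AtPrime (tQ R S Rh Sh)) Sh := (tψ R S Rh Sh).toAlgebra
    have : IsLocalHom (algebraMap (Localization.AtPrime (tQ R S Rh Sh)) Sh) :=
      isLocalHom_tψ R S Rh Sh
    have : Hensel.IsStrictHenselization (Localization.AtPrime (tQ R S Rh Sh)) Sh :=
      isStrictHenselization_tensor_local R S Rh Sh hloc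
    exact bijective_algebraMap_of_strictHenselian (Localization.AtPrime (tQ R S Rh Sh)) Sh
  refine ⟨hbij, ?_⟩
  let ℓ : Localization.AtPrime (tQ R S Rh Sh) →ₐ[Rh] Sh :=
    { tψ R S Rh Sh with
      commutes' := fun a => tψ_algebraMap_Rh R S Rh Sh a }
  exact Algebra.IsIntegral.of_surjective ℓ hbij.2

end TL

end Groth.Agent.Lib.Helper4.Hzs
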