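import Mathlib
import Groth.Prelude.Def_Hensel
import Groth.Agent.Lib.Helper24.EtaleNormal
import Groth.Agent.Lib.Helper4.HznProps
import Groth.Agent.Lib.Helper4.HzsProps

/-!
# Normality of (strict) henselizations
-/

set_option autoImplicit false
universe u

namespace Groth.Agent.Lib.Helper4.Hzn

open IsLocalRing Polynomial

/-- Elementwise form of integral closedness. -/
def NormalEq (R : Type*) [CommRing R] : Prop :=
  ∀ (p : R[X]) (a b : R), p.Monic → b ≠ 0 → (p.scaleRoots b).eval a = 0 → b ∣ a

theorem normalEq_of_isIntegrallyClosed (R : Type*) [CommRing R] [IsDomain R]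
    [IsIntegrallyClosed R] : NormalEq R := by
  intro p a b hp hb h
  let K := FractionRing R
  have hbK : algebraMap R K b ≠ 0 := by
    rwa [Ne, map_eq_zero_iff _ (IsFractionRing.injective R K)]
  set x : K := algebraMap R K a / algebraMap R K b with hx
  have hbx : algebraMap R K b * x = algebraMap R K a := by
    rw [hx, mul_comm, div_mul_cancel₀ _ hbK]
  have h1 : eval₂ (algebraMap R K) (algebraMap R K b * x) (p.scaleRoots b) = 0 := by
    rw [hbx, eval₂_at_apply, h, map_zero]
  rw [scaleRoots_eval₂_mul] at h1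
  have h2 : eval₂ (algebraMap R K) x p = 0 := by
    rcases mul_eq_zero.mp h1 with h3 | h3
    · exact absurd h3 (pow_ne_zero _ hbK)
    · exact h3
  have hint : IsIntegral R x := ⟨p, hp, h2⟩
  obtain ⟨y, hy⟩ := IsIntegrallyClosed.isIntegral_iff.mp hint
  refine ⟨y, ?_⟩
  apply IsFractionRing.injective R K
  rw [map_mul, hy, hbx]

theorem isIntegrallyClosed_of_normalEq (R : Type*) [CommRing R] [IsDomain R] (h : NormalEq R) :
    IsIntegrallyClosed R := by
  rw [isIntegrallyClosed_iff (FractionRing R)]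
  intro x hx
  obtain ⟨p, hp, hpx⟩ := hx
  obtain ⟨a, b, hb, rfl⟩ := IsFractionRing.div_surjective (A := R) x
  have hb0 : b ≠ 0 := nonZeroDivisors.ne_zero hb
  have hbK : algebraMap R (FractionRing R) b ≠ 0 := by
    rwa [Ne, map_eq_zero_iff _ (IsFractionRing.injective R (FractionRing R))]
  have h1 : (p.scaleRoots b).eval a = 0 := by
    apply IsFractionRing.injective R (FractionRing R)
    rw [map_zero, ← eval₂_at_apply]
    have : algebraMap R (FractionRing R) a = algebraMap R (FractionRing R) b *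
        (algebraMap R (FractionRing R) a / algebraMap R (FractionRing R) b) := by
      rw [mul_comm, div_mul_cancel₀ _ hbK]
    rw [this, scaleRoots_eval₂_mul, hpx, mul_zero]
  obtain ⟨y, hy⟩ := h p a b hp hb0 h1
  refine ⟨y, ?_⟩
  rw [hy, map_mul, mul_comm, mul_div_assoc, div_self hbK, mul_one]

section

variable {R : Type*} [CommRing R] {ι : Type*} [Preorder ι] [IsDirectedOrder ι] [Nonempty ι]
  {G : ι → Type*} [∀ i, CommRing (G i)] [∀ i, Algebra R (G i)]
  (f : ∀ i j, i ≤ j → G i →ₐ[R] G j) [DirectedSystem G (f · · ·)]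

local notation "L" => DirectLimit G f
local notation "ofL" => DirectLimit.Algebra.of G f

theorem isDomain_directLimit [∀ i, IsDomain (G i)] : IsDomain L := by
  have hnt : Nontrivial L := by
    refine ⟨0, 1, fun h => ?_⟩
    obtain ⟨i⟩ := ‹Nonempty ι›
    have h1 : ofL i (1 : G i) = 0 := by rw [map_one]; exact h.symm
    rw [of_apply, mk_eq_zero_iff] at h1
    obtain ⟨j, hij, hj⟩ := h1
    rw [map_one] at hj
    exact one_ne_zero hj
  have hnzd : NoZeroDivisors L := by
    refine ⟨?_⟩
    intro x y hxy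
    obtain ⟨i, z, hz⟩ := exists_of_finite f ![x, y]
    have hx : x = ofL i (z 0) := hz 0
    have hy : y = ofL i (z 1) := hz 1
    rw [hx, hy, ← map_mul, of_apply, mk_eq_zero_iff] at hxy
    obtain ⟨j, hij, hj⟩ := hxy
    rw [map_mul] at hj
    rcases mul_eq_zero.mp hj with h0 | h0
    · left
      rw [hx, ← of_f' f hij, h0, map_zero]
    · right
      rw [hy, ← of_f' f hij, h0, map_zero]
  exact NoZeroDivisors.to_isDomain L

theorem normalEq_directLimit [∀ i, IsDomain (G i)] (hN : ∀ i, NormalEq (G i)) : NormalEq L := by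
  have hdom : IsDomain L := isDomain_directLimit f
  intro p a b hp hb h
  classical
  set n := p.natDegree with hn
  obtain ⟨i, y, hy⟩ := exists_of_finite f
    (fun m : Fin (n + 1) ⊕ Fin 2 => Sum.elim (fun m : Fin (n + 1) => p.coeff m) ![a, b] m)
  have hlift : p ∈ lifts (ofL i : G i →+* L) := by
    rw [lifts_iff_coeff_lifts]
    intro m
    by_cases hm : m < n + 1
    · exact ⟨y (Sum.inl ⟨m, hm⟩), (hy (Sum.inl ⟨m, hm⟩)).symm⟩
    · refine ⟨0, ?_⟩
      rw [coeff_eq_zero_of_natDegree_lt (by omega), map_zero]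
  obtain ⟨pi, hpimap, -, hpim⟩ := lifts_and_natDegree_eq_and_monic hlift hp
  set ai := y (Sum.inr 0) with hai
  set bi := y (Sum.inr 1) with hbi
  have ha : a = ofL i ai := hy (Sum.inr 0)
  have hb' : b = ofL i bi := hy (Sum.inr 1)
  have h1 : ofL i ((pi.scaleRoots bi).eval ai) = 0 := by
    have hlc : (ofL i : G i →+* L) pi.leadingCoeff ≠ 0 := by
      rw [hpim.leadingCoeff, map_one]; exact one_ne_zero
    have := map_scaleRoots pi bi (ofL i : G i →+* L) hlc
    rw [← h, ha, hb', ← hpimap]
    change (ofL i : G i →+* L) _ = _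
    rw [← eval₂_at_apply, ← eval_map, this]
    rfl
  rw [of_apply, mk_eq_zero_iff] at h1
  obtain ⟨j, hij, hj⟩ := h1
  have hlcj : (f i j hij : G i →+* G j) pi.leadingCoeff ≠ 0 := by
    rw [hpim.leadingCoeff, map_one]; exact one_ne_zero
  have h2 : ((pi.map (f i j hij : G i →+* G j)).scaleRoots (f i j hij bi)).eval (f i j hij ai)
      = 0 := by
    rw [← hj]
    change _ = (f i j hij : G i →+* G j) _
    rw [← eval₂_at_apply, ← eval_map, map_scaleRoots pi bi _ hlcj]
    rfl
  have hbj : f i j hij bi ≠ 0 := by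
    intro h0
    apply hb
    rw [hb', ← of_f' f hij, h0, map_zero]
  obtain ⟨c, hc⟩ := hN j _ _ _ (hpim.map _) hbj h2
  refine ⟨ofL j c, ?_⟩
  rw [ha, hb', ← of_f' f hij ai, ← of_f' f hij bi, hc, map_mul]

end

/-- Descent of normality along a faithfully flat map. -/
theorem isDomain_and_isIntegrallyClosed_of_faithfullyFlat (R S : Type*) [CommRing R] [CommRing S]
    [Algebra R S] [Module.FaithfullyFlat R S] [IsDomain S] [IsIntegrallyClosed S] :
    IsDomain R ∧ IsIntegrallyClosed R := by
  have hinj : Function.Injective (algebraMap R S) := FaithfulSMul.algebraMap_injective R S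
  have hdom : IsDomain R := hinj.isDomain _
  refine ⟨hdom, isIntegrallyClosed_of_normalEq R ?_⟩
  intro p a b hp hb h
  have hNS := normalEq_of_isIntegrallyClosed S
  have hlc : (algebraMap R S) p.leadingCoeff ≠ 0 := by
    rw [hp.leadingCoeff, map_one]; exact one_ne_zero
  have h2 : ((p.map (algebraMap R S)).scaleRoots (algebraMap R S b)).eval (algebraMap R S a)
      = 0 := by
    have : (algebraMap R S) ((p.scaleRoots b).eval a) = 0 := by rw [h, map_zero]
    rw [← this, ← eval₂_at_apply, ← eval_map, map_scaleRoots p b _ hlc]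
  have hbS : algebraMap R S b ≠ 0 := by
    rwa [Ne, map_eq_zero_iff _ hinj]
  obtain ⟨c, hc⟩ := hNS _ _ _ (hp.map _) hbS h2
  have hmem : a ∈ ((Ideal.span {b}).map (algebraMap R S)).comap (algebraMap R S) := by
    rw [Ideal.mem_comap, Ideal.map_span, Set.image_singleton, Ideal.mem_span_singleton']
    exact ⟨c, by rw [hc, mul_comm]⟩
  rw [Ideal.comap_map_eq_self_of_faithfullyFlat, Ideal.mem_span_singleton] at hmem
  exact hmem

variable (R : Type u) [CommRing R] [IsLocalRing R]

theorem Idx.normal [IsDomain R] [IsIntegrallyClosed R] (i : Idx R) :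
    IsDomain i.G ∧ IsIntegrallyClosed i.G :=
  Groth.Agent.Lib.Helper24.ENorm.isDomain_and_isIntegrallyClosed_localization_of_etale R i.C
    (cker i.χ)

theorem Hz.normal [IsDomain R] [IsIntegrallyClosed R] :
    IsDomain (Hz R) ∧ IsIntegrallyClosed (Hz R) := by
  have h1 : ∀ i : Idx R, IsDomain i.G := fun i => (Idx.normal R i).1
  have h2 : ∀ i : Idx R, IsIntegrallyClosed i.G := fun i => (Idx.normal R i).2
  have hd : IsDomain (Hz R) := isDomain_directLimit _
  exact ⟨hd, isIntegrallyClosed_of_normalEq _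
    (normalEq_directLimit _ fun i => normalEq_of_isIntegrallyClosed i.G)⟩

theorem normal_iff_of_isHenselization (S : Type u) [CommRing S] [IsLocalRing S] [Algebra R S]
    [IsLocalHom (algebraMap R S)] [Hensel.IsHenselization R S] :
    (IsDomain S ∧ IsIntegrallyClosed S) ↔ (IsDomain R ∧ IsIntegrallyClosed R) := by
  constructor
  · rintro ⟨h1, h2⟩
    have := faithfullyFlat_of_isHenselization R S
    exact isDomain_and_isIntegrallyClosed_of_faithfullyFlat R S
  · rintro ⟨h1, h2⟩
    obtain ⟨e⟩ := nonempty_algEquiv R S (Hz R)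
    obtain ⟨h3, h4⟩ := Hz.normal R
    have hd : IsDomain S := e.injective.isDomain e.toRingHom
    exact ⟨hd, IsIntegrallyClosed.of_equiv e.symm.toRingEquiv⟩

end Groth.Agent.Lib.Helper4.Hzn

namespace Groth.Agent.Lib.Helper4.Hzs

open IsLocalRing

variable (R : Type u) [CommRing R] [IsLocalRing R]

theorem Idx.normal [IsDomain R] [IsIntegrallyClosed R] (i : Idx R) :
    IsDomain i.G ∧ IsIntegrallyClosed i.G :=
  Groth.Agent.Lib.Helper24.ENorm.isDomain_and_isIntegrallyClosed_localization_of_etale R i.C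
    (cker i.χ)

theorem Hs.normal [IsDomain R] [IsIntegrallyClosed R] :
    IsDomain (Hs R) ∧ IsIntegrallyClosed (Hs R) := by
  have h1 : ∀ i : Idx R, IsDomain i.G := fun i => (Idx.normal R i).1
  have h2 : ∀ i : Idx R, IsIntegrallyClosed i.G := fun i => (Idx.normal R i).2
  have hd : IsDomain (Hs R) := Hzn.isDomain_directLimit _
  exact ⟨hd, Hzn.isIntegrallyClosed_of_normalEq _
    (Hzn.normalEq_directLimit _ fun i => Hzn.normalEq_of_isIntegrallyClosed i.G)⟩

theorem normal_iff_of_isStrictHenselization (S : Type u) [CommRing S] [IsLocalRing S]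
    [Algebra R S] [IsLocalHom (algebraMap R S)] [Hensel.IsStrictHenselization R S] :
    (IsDomain S ∧ IsIntegrallyClosed S) ↔ (IsDomain R ∧ IsIntegrallyClosed R) := by
  constructor
  · rintro ⟨h1, h2⟩
    have := faithfullyFlat_of_isStrictHenselization R S
    exact Hzn.isDomain_and_isIntegrallyClosed_of_faithfullyFlat R S
  · rintro ⟨h1, h2⟩
    obtain ⟨e⟩ := nonempty_algEquiv_strict R S (Hs R)
    obtain ⟨h3, h4⟩ := Hs.normal R
    have hd : IsDomain S := e.injective.isDomain e.toRingHom
    exact ⟨hd, IsIntegrallyClosed.of_equiv e.symm.toRingEquiv⟩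

end Groth.Agent.Lib.Helper4.Hzs
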