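import Mathlib
import Groth.Prelude.Def_Hensel
import Groth.Prelude.Def_CAlg2
import Groth.Agent.Lib.Helper4.HzsUnibr
import Groth.Agent.S2750

/-!
# Strict henselization and quotients: `T/IT` is a domain when `O/I` is reduced and
geometrically unibranch
-/

set_option autoImplicit false
universe u

namespace Groth.Agent.Lib.Helper4.Hzs

open IsLocalRing TensorProduct

/-- If `O/I` is a geometrically unibranch reduced local ring, then `I` generates a prime ideal in a
strict henselization of `O`. -/
theorem isPrime_map_of_isGeomUnibranch_quotient (O T : Type u) [CommRing O] [IsLocalRing O]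
    [CommRing T] [IsLocalRing T] [Algebra O T] [IsLocalHom (algebraMap O T)]
    [Hensel.IsStrictHenselization O T] (I : Ideal O) [hloc : IsLocalRing (O ⧸ I)]
    (hred : IsReduced (O ⧸ I)) (hGU : CAlg2.IsGeomUnibranch (O ⧸ I)) :
    (I.map (algebraMap O T)).IsPrime := by
  have hlh : IsLocalHom (algebraMap O (O ⧸ I)) :=
    IsLocalHom.of_surjective (Ideal.Quotient.mk I) Ideal.Quotient.mk_surjective
  have hint : Algebra.IsIntegral O (O ⧸ I) :=
    Algebra.IsIntegral.of_surjective (Algebra.ofId O (O ⧸ I)) Ideal.Quotient.mk_surjective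
  have hpi : IsPurelyInseparable (ResidueField O) (ResidueField (O ⧸ I)) := by
    rw [isPurelyInseparable_iff]
    intro x
    obtain ⟨y, rfl⟩ := residue_surjective x
    obtain ⟨a, rfl⟩ := Ideal.Quotient.mk_surjective y
    have h1 : residue (O ⧸ I) (Ideal.Quotient.mk I a) =
        algebraMap (ResidueField O) (ResidueField (O ⧸ I)) (residue O a) := by
      rw [ResidueField.algebraMap_residue]
      rfl
    rw [h1]
    exact ⟨isIntegral_algebraMap, fun _ => ⟨_, rfl⟩⟩
  obtain ⟨h1, h2'⟩ := Unibr.isStrictHenselization_tensor_of_integral_local O (O ⧸ I) T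
  let _ : Algebra (O ⧸ I) (T ⊗[O] (O ⧸ I)) := Algebra.TensorProduct.rightAlgebra
  obtain ⟨h2, h3⟩ := h2'
  have hdom : IsDomain (T ⊗[O] (O ⧸ I)) :=
    (Groth.Agent.S2750.result (O ⧸ I) (T ⊗[O] (O ⧸ I))).mp ⟨hred, hGU⟩
  have e := Algebra.TensorProduct.quotIdealMapEquivTensorQuot T I
  have hdom' : IsDomain (T ⧸ I.map (algebraMap O T)) :=
    e.toRingEquiv.toMulEquiv.isDomain_iff.mpr hdom
  exact (Ideal.Quotient.isDomain_iff_prime _).mp hdom'

end Groth.Agent.Lib.Helper4.Hzs
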