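import Mathlib
import Groth.Prelude.Def_PBC
import Groth.Agent.Lib.Helper4.IndEtGen
set_option autoImplicit false
open CategoryTheory CategoryTheory.Limits
universe u
namespace Groth.Agent.Lib.Helper4.IndEt

/-- converse of `isIndEtale_of_ind` in terms of an arbitrary object of `Under R`. -/
theorem ind_of_isIndEtale_obj (R : Type u) [CommRing R] (X : Under (CommRingCat.of R))
    (h : letI := X.hom.hom.toAlgebra; EtPBC.IsIndEtale R X.right) :
    ObjectProperty.ind.{u} (Pet R) X := by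
  obtain ⟨J, hJ1, hJ2, D, c, hc, hD, ⟨e⟩⟩ := h
  have hX : (Under.mk (CommRingCat.ofHom (@algebraMap R X.right _ _ X.hom.hom.toAlgebra))) = X := rfl
  rw [hX] at e
  exact ⟨J, hJ1, hJ2, (ColimitPresentation.mk D c.ι hc).ofIso e, hD⟩

theorem ind_of_isIndEtale (R : Type u) [CommRing R] (B : Type u) [CommRing B] [Algebra R B]
    (h : EtPBC.IsIndEtale R B) : ObjectProperty.ind.{u} (Pet R) (mkU R B) := by
  obtain ⟨J, hJ1, hJ2, D, c, hc, hD, ⟨e⟩⟩ := h
  exact ⟨J, hJ1, hJ2, (ColimitPresentation.mk D c.ι hc).ofIso e, hD⟩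

theorem isIndEtale_of_isColimit_filtered (A B : Type u) [CommRing A] [CommRing B] [Algebra A B]
    {J : Type u} [SmallCategory J] [IsFiltered J] (D : J ⥤ Under (CommRingCat.of A))
    (hD : ∀ j, letI := (D.obj j).hom.hom.toAlgebra; EtPBC.IsIndEtale A ↥(D.obj j).right)
    (c : Cocone D) (hc : IsColimit c)
    (e : c.pt ≅ Under.mk (CommRingCat.ofHom (algebraMap A B))) :
    EtPBC.IsIndEtale A B := by
  apply isIndEtale_of_ind
  rw [← ind_ind_pet]
  exact ⟨J, inferInstance, inferInstance, (ColimitPresentation.mk D c.ι hc).ofIso e,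
    fun j => ind_of_isIndEtale_obj A (D.obj j) (hD j)⟩

end Groth.Agent.Lib.Helper4.IndEt
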