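import Mathlib
import Groth.Agent.Lib.Helper4.HensSection

/-!
# Strictly henselian local rings via sections of étale morphisms
-/

set_option autoImplicit false
universe u

namespace Groth.Agent.Lib.Helper4.HensSection

open IsLocalRing Polynomial CategoryTheory AlgebraicGeometry Limits

theorem exists_residue_point (A : Type u) [CommRing A] [IsLocalRing A]
    [IsSepClosed (ResidueField A)] (B : Type u) [CommRing B] [Algebra A B] [Algebra.Etale A B]
    (q : Ideal B) [q.IsPrime] (hq : q.comap (algebraMap A B) = maximalIdeal A) :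
    ∃ σ : B →ₐ[A] ResidueField A, RingHom.ker (σ : B →+* ResidueField A) = q := by
  let k := ResidueField A
  let L := B ⧸ q
  let ι : k →+* L := Ideal.quotientMap q (algebraMap A B) hq.ge
  let _ : Algebra k L := ι.toAlgebra
  have hst : IsScalarTower A k L := IsScalarTower.of_algebraMap_eq (fun a => rfl)
  have h1 : Algebra.FormallyUnramified A L := Algebra.FormallyUnramified.comp A B L
  have h2 : Algebra.FormallyUnramified k L := Algebra.FormallyUnramified.of_restrictScalars A k L
  have h3 : Algebra.FiniteType A L := Algebra.FiniteType.trans (S := B) inferInstance inferInstance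
  have h4 : Algebra.FiniteType k L := Algebra.FiniteType.of_restrictScalars_finiteType A k L
  have h5 : Module.Finite k L := Algebra.FormallyUnramified.finite_of_free k L
  have hF : IsField L := isField_of_isIntegral_of_isField' (R := k) (Field.toIsField k)
  have hqm : q.IsMaximal := Ideal.Quotient.maximal_of_isField q hF
  let _ : Field L := Ideal.Quotient.field q
  have h6 : Algebra.IsSeparable k L := Algebra.FormallyUnramified.isSeparable k L
  have hsurj : Function.Surjective ι := IsSepClosed.algebraMap_surjective k L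
  have hinj : Function.Injective ι := ι.injective
  let e : k ≃+* L := RingEquiv.ofBijective ι ⟨hinj, hsurj⟩
  refine ⟨{ toRingHom := e.symm.toRingHom.comp (Ideal.Quotient.mk q), commutes' := ?_ }, ?_⟩
  · intro a
    show e.symm (Ideal.Quotient.mk q (algebraMap A B a)) = algebraMap A k a
    rw [RingEquiv.symm_apply_eq]
    rfl
  · ext x
    rw [RingHom.mem_ker]
    show e.symm (Ideal.Quotient.mk q x) = 0 ↔ _
    rw [map_eq_zero_iff _ e.symm.injective, Ideal.Quotient.eq_zero_iff_mem]

theorem exists_section_through (A : Type u) [CommRing A] [HenselianLocalRing A]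
    [IsSepClosed (ResidueField A)]
    {X : Scheme.{u}} (f : X ⟶ Spec (CommRingCat.of A)) [Etale f] (x : X)
    (hx : f.base x = closedPoint A) :
    ∃ u : Spec (CommRingCat.of A) ⟶ X, u ≫ f = 𝟙 _ ∧ u.base (closedPoint A) = x := by
  let 𝒰 := X.affineOpenCover
  let j := 𝒰.f (𝒰.idx x)
  obtain ⟨y, hy⟩ : x ∈ Set.range j := 𝒰.covers x
  obtain ⟨θ, hθ⟩ := Spec.map_surjective (j ≫ f)
  have het : Etale (Spec.map θ) := by rw [hθ]; infer_instance
  have hθet : θ.hom.Etale := (HasRingHomProperty.Spec_iff (P := @Etale)).mp het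
  let _ : Algebra A (𝒰.X (𝒰.idx x)) := θ.hom.toAlgebra
  have hE : Algebra.Etale A (𝒰.X (𝒰.idx x)) := hθet
  let q : Ideal (𝒰.X (𝒰.idx x)) := (y : PrimeSpectrum (𝒰.X (𝒰.idx x))).asIdeal
  have hqp : q.IsPrime := (y : PrimeSpectrum (𝒰.X (𝒰.idx x))).isPrime
  have hq : q.comap (algebraMap A (𝒰.X (𝒰.idx x))) = maximalIdeal A := by
    have h1 : (Spec.map θ).base y = closedPoint A := by
      rw [hθ, Scheme.Hom.comp_apply, hy, hx]
    exact congrArg PrimeSpectrum.asIdeal h1
  obtain ⟨σ, hσ⟩ := exists_residue_point A (𝒰.X (𝒰.idx x)) q hq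
  let t : Spec (CommRingCat.of (ResidueField A)) ⟶ X :=
    Spec.map (CommRingCat.ofHom σ.toRingHom) ≫ j
  have ht : t ≫ f = Spec.map (CommRingCat.ofHom (residue A)) := by
    rw [Category.assoc, ← hθ, ← Spec.map_comp]
    congr 1
    ext a
    exact σ.commutes a
  obtain ⟨u, hu1, hu2⟩ := exists_section f t ht
  refine ⟨u, hu1, ?_⟩
  have hne : Nonempty (Spec (CommRingCat.of (ResidueField A))) :=
    inferInstanceAs (Nonempty (PrimeSpectrum (ResidueField A)))
  obtain ⟨pt⟩ := hne
  have h1 : (Spec.map (CommRingCat.ofHom (residue A))).base pt = closedPoint A :=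
    IsLocalRing.PrimeSpectrum.comap_residue A pt
  rw [← h1, ← Scheme.Hom.comp_apply, hu2, Scheme.Hom.comp_apply]
  refine Eq.trans ?_ hy
  congr 1
  apply PrimeSpectrum.ext
  show ((pt : PrimeSpectrum (ResidueField A)).asIdeal).comap (σ : 𝒰.X (𝒰.idx x) →+* ResidueField A) = q
  have h2 : (pt : PrimeSpectrum (ResidueField A)).asIdeal = ⊥ :=
    ((Ideal.eq_bot_or_top _).resolve_right (pt : PrimeSpectrum (ResidueField A)).isPrime.ne_top)
  rw [h2, ← hσ]
  rfl

theorem exists_root_of_sections (A : Type u) [CommRing A] [IsLocalRing A]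
    (H : ∀ (B : Type u) [CommRing B] [Algebra A B] [Algebra.Etale A B] (q : Ideal B) [q.IsPrime],
      q.comap (algebraMap A B) = maximalIdeal A →
        ∃ τ : B →ₐ[A] A, (maximalIdeal A).comap (τ : B →+* A) = q)
    (K : Type u) [Field K] [Algebra A K] (hK : ∀ a, algebraMap A K a = 0 ↔ a ∈ maximalIdeal A)
    (p : A[X]) (hp : p.Monic) (α : K) (h0 : aeval α p = 0)
    (h1 : IsUnit (aeval α (derivative p))) :
    ∃ a : A, p.IsRoot a ∧ algebraMap A K a = α := by
  let P : StandardEtalePair A := ⟨p, hp, derivative p, ⟨1, 0, 1, by ring⟩⟩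
  have hmap : P.HasMap α := ⟨h0, h1⟩
  let χ : P.Ring →ₐ[A] K := P.lift α hmap
  let q : Ideal P.Ring := RingHom.ker (χ : P.Ring →+* K)
  have hqp : q.IsPrime := RingHom.ker_isPrime _
  have hq : q.comap (algebraMap A P.Ring) = maximalIdeal A := by
    ext a
    rw [Ideal.mem_comap, RingHom.mem_ker, ← hK]
    show χ (algebraMap A P.Ring a) = 0 ↔ _
    rw [χ.commutes]
  obtain ⟨τ, hτ⟩ := H P.Ring q hq
  refine ⟨τ P.X, ?_, ?_⟩
  · show eval (τ P.X) p = 0
    have h2 : aeval (τ P.X) p = τ (aeval P.X p) := (Polynomial.aeval_algHom_apply τ P.X p)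
    have h3 : aeval P.X p = 0 := P.hasMap_X.1
    rw [h3, map_zero] at h2
    rw [← h2]
    exact (Polynomial.coe_aeval_eq_eval (τ P.X)) ▸ rfl
  · have h2 : P.X - algebraMap A P.Ring (τ P.X) ∈ q := by
      rw [← hτ, Ideal.mem_comap]
      show τ (P.X - algebraMap A P.Ring (τ P.X)) ∈ _
      rw [map_sub, τ.commutes]
      simp
    have h3 : χ (P.X - algebraMap A P.Ring (τ P.X)) = 0 := h2
    rw [map_sub, χ.commutes, P.lift_X α hmap, sub_eq_zero] at h3
    exact h3.symm

theorem henselian_of_sections (A : Type u) [CommRing A] [IsLocalRing A]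
    (H : ∀ (B : Type u) [CommRing B] [Algebra A B] [Algebra.Etale A B] (q : Ideal B) [q.IsPrime],
      q.comap (algebraMap A B) = maximalIdeal A →
        ∃ τ : B →ₐ[A] A, (maximalIdeal A).comap (τ : B →+* A) = q) :
    HenselianLocalRing A := by
  refine ⟨fun f hf a₀ h0 h1 => ?_⟩
  have hK : ∀ a, algebraMap A (ResidueField A) a = 0 ↔ a ∈ maximalIdeal A :=
    fun a => residue_eq_zero_iff a
  have e0 : aeval (residue A a₀) f = 0 := by
    have : aeval (residue A a₀) f = residue A (eval a₀ f) := by
      rw [← Polynomial.coe_aeval_eq_eval]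
      exact (Polynomial.aeval_algebraMap_apply (ResidueField A) a₀ f)
    rw [this]
    exact (residue_eq_zero_iff _).mpr h0
  have e1 : IsUnit (aeval (residue A a₀) (derivative f)) := by
    have : aeval (residue A a₀) (derivative f) = residue A (eval a₀ (derivative f)) := by
      rw [← Polynomial.coe_aeval_eq_eval]
      exact (Polynomial.aeval_algebraMap_apply (ResidueField A) a₀ (derivative f))
    rw [this]
    exact h1.map _
  obtain ⟨a, ha, ha'⟩ := exists_root_of_sections A H (ResidueField A) hK f hf (residue A a₀) e0 e1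
  refine ⟨a, ha, ?_⟩
  rw [← residue_eq_zero_iff, map_sub, sub_eq_zero]
  exact ha'

theorem isSepClosed_of_sections (A : Type u) [CommRing A] [IsLocalRing A]
    (H : ∀ (B : Type u) [CommRing B] [Algebra A B] [Algebra.Etale A B] (q : Ideal B) [q.IsPrime],
      q.comap (algebraMap A B) = maximalIdeal A →
        ∃ τ : B →ₐ[A] A, (maximalIdeal A).comap (τ : B →+* A) = q) :
    IsSepClosed (ResidueField A) := by
  refine IsSepClosed.of_exists_root _ fun pbar hmonic hirr hsep => ?_
  have hlift : pbar ∈ lifts (residue A) := by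
    rw [lifts_iff_coeff_lifts]
    intro n
    exact residue_surjective _
  obtain ⟨p, hpmap, -, hpm⟩ := lifts_and_natDegree_eq_and_monic hlift hmonic
  have : Fact (Irreducible pbar) := ⟨hirr⟩
  let K := AdjoinRoot pbar
  have hst : IsScalarTower A (ResidueField A) K := inferInstance
  have hK : ∀ a, algebraMap A K a = 0 ↔ a ∈ maximalIdeal A := by
    intro a
    rw [IsScalarTower.algebraMap_apply A (ResidueField A) K,
      map_eq_zero_iff _ (algebraMap (ResidueField A) K).injective]
    exact residue_eq_zero_iff a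
  have haeval : ∀ g : A[X], aeval (AdjoinRoot.root pbar) g =
      aeval (AdjoinRoot.root pbar) (g.map (residue A)) := by
    intro g
    rw [aeval_def, aeval_def, eval₂_map, IsScalarTower.algebraMap_eq A (ResidueField A) K]
    rfl
  have e0 : aeval (AdjoinRoot.root pbar) p = 0 := by
    rw [haeval, hpmap, AdjoinRoot.aeval_eq, AdjoinRoot.mk_self]
  have e1 : IsUnit (aeval (AdjoinRoot.root pbar) (derivative p)) := by
    rw [haeval, ← derivative_map, hpmap]
    exact isUnit_iff_ne_zero.mpr (hsep.aeval_derivative_ne_zero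
      (by rw [AdjoinRoot.aeval_eq, AdjoinRoot.mk_self]))
  obtain ⟨a, ha, -⟩ := exists_root_of_sections A H K hK p hpm (AdjoinRoot.root pbar) e0 e1
  refine ⟨residue A a, ?_⟩
  rw [← hpmap, Polynomial.eval_map_apply]
  have : Polynomial.eval a p = 0 := ha
  rw [this, map_zero]

theorem ring_sections_of_scheme_sections (A : Type u) [CommRing A] [IsLocalRing A]
    (Hs : ∀ (X : Scheme.{u}) (f : X ⟶ Spec (CommRingCat.of A)), Etale f →
        ∀ x : X, f.base x = closedPoint A →
          ∃ u : Spec (CommRingCat.of A) ⟶ X, u ≫ f = 𝟙 _ ∧ u.base (closedPoint A) = x)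
    (B : Type u) [CommRing B] [Algebra A B] [Algebra.Etale A B] (q : Ideal B) [q.IsPrime]
    (hq : q.comap (algebraMap A B) = maximalIdeal A) :
    ∃ τ : B →ₐ[A] A, (maximalIdeal A).comap (τ : B →+* A) = q := by
  let f : Spec (CommRingCat.of B) ⟶ Spec (CommRingCat.of A) :=
    Spec.map (CommRingCat.ofHom (algebraMap A B))
  have hf : Etale f := by
    rw [HasRingHomProperty.Spec_iff (P := @Etale)]
    exact RingHom.etale_algebraMap.mpr inferInstance
  let x : Spec (CommRingCat.of B) := (⟨q, inferInstance⟩ : PrimeSpectrum B)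
  have hx : f.base x = closedPoint A := PrimeSpectrum.ext hq
  obtain ⟨u, hu1, hu2⟩ := Hs _ f hf x hx
  obtain ⟨τ0, hτ0⟩ := Spec.map_surjective u
  have h1 : CommRingCat.ofHom (algebraMap A B) ≫ τ0 = 𝟙 _ := by
    apply Spec.map_injective
    rw [Spec.map_comp, hτ0, Spec.map_id]
    exact hu1
  refine ⟨{ toRingHom := τ0.hom, commutes' := fun a => ?_ }, ?_⟩
  · exact congrArg (fun g => g.hom a) h1
  · rw [← hτ0] at hu2
    exact congrArg PrimeSpectrum.asIdeal hu2

end Groth.Agent.Lib.Helper4.HensSection
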