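import Mathlib
import Groth.Prelude.Def_PBC
import Groth.Agent.Lib.Helper4.IndEtColim
import Groth.Agent.Lib.Helper4.HenselPairS
import Groth.Agent.Lib.Helper4.HenselPairU
import Groth.Agent.Lib.Helper10.IndEtale

/-!
# Maps from ind-étale algebras to henselian local rings are determined by residue fields
-/

set_option autoImplicit false
universe u

namespace Groth.Agent.Lib.Helper4.IndEt

open CategoryTheory CategoryTheory.Limits IsLocalRing

section

variable {R : Type u} [CommRing R] {T K : Type u} [CommRing T] [HenselianLocalRing T] [Field K]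
  [Algebra R T] [Algebra R K] (uT : T →ₐ[R] K) (huT : Function.Surjective uT)
  (hk : RingHom.ker uT.toRingHom = maximalIdeal T)

include huT hk in
/-- Lemma L: étale case. -/
theorem existsUnique_lift_etale (E : Type u) [CommRing E] [Algebra R E] [Algebra.Etale R E]
    (v : E →ₐ[R] K) : ∃! w : E →ₐ[R] T, uT.comp w = v := by
  have hmem : ∀ a : T, a ∈ maximalIdeal T ↔ uT a = 0 := by
    intro a
    rw [← hk]
    rfl
  -- the iso `T ⧸ m ≃ K`
  let q : T ⧸ maximalIdeal T →ₐ[R] K :=
    Ideal.Quotient.liftₐ (maximalIdeal T) uT (fun a ha => (hmem a).mp ha)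
  have hq : ∀ a : T, q (Ideal.Quotient.mk _ a) = uT a := fun a => rfl
  have hqbij : Function.Bijective q := by
    constructor
    · rw [injective_iff_map_eq_zero]
      intro x hx
      obtain ⟨a, rfl⟩ := Ideal.Quotient.mk_surjective x
      rw [hq] at hx
      exact Ideal.Quotient.eq_zero_iff_mem.mpr ((hmem a).mpr hx)
    · intro y
      obtain ⟨a, rfl⟩ := huT y
      exact ⟨Ideal.Quotient.mk _ a, hq a⟩
  let qe : (T ⧸ maximalIdeal T) ≃ₐ[R] K := AlgEquiv.ofBijective q hqbij
  have hH : HenselianRing T (maximalIdeal T) := inferInstance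
  obtain ⟨τ, hτ⟩ := Groth.Agent.Lib.Helper4.HenselPair.exists_lift_of_etale_algebra
    (maximalIdeal T) ((qe.symm : K →ₐ[R] T ⧸ maximalIdeal T).comp v)
  have hτ' : uT.comp τ = v := by
    ext x
    have h1 := congrArg (fun m => qe (m x)) hτ
    simp only [AlgHom.comp_apply, AlgEquiv.coe_toAlgHom, AlgEquiv.apply_symm_apply] at h1
    exact h1
  refine ⟨τ, hτ', fun w hw => ?_⟩
  have hJ : maximalIdeal T ≤ Ideal.jacobson ⊥ := by
    rw [IsLocalRing.jacobson_eq_maximalIdeal ⊥ bot_ne_top]
  refine Groth.Agent.Lib.Helper4.HenselPair.algHom_ext_of_unramified (maximalIdeal T) hJ w τ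
    fun a => ?_
  rw [hmem, map_sub, sub_eq_zero]
  have h1 := congrArg (fun m => m a) (hw.trans hτ'.symm)
  exact h1

include huT hk in
/-- Lemma M: ind-étale case. -/
theorem existsUnique_lift_indEtale (S : Type u) [CommRing S] [Algebra R S]
    (hS : EtPBC.IsIndEtale R S) (v : S →ₐ[R] K) : ∃! w : S →ₐ[R] T, uT.comp w = v := by
  obtain ⟨J, _, _, pres, hpres⟩ := ind_of_isIndEtale R S hS
  -- algebra structures on the pieces
  let alg : ∀ j, Algebra R (pres.diag.obj j).right := fun j => (pres.diag.obj j).hom.hom.toAlgebra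
  have het : ∀ j, Algebra.Etale R (pres.diag.obj j).right := hpres
  -- legs into `S`
  let β : ∀ j, (pres.diag.obj j).right →ₐ[R] S := fun j =>
    { toRingHom := (pres.ι.app j).right.hom
      commutes' := fun r => Groth.Agent.Lib.Helper10.IndEtale.under_w_apply (pres.ι.app j) r }
  -- transition maps
  let tr : ∀ {j j' : J} (φ : j ⟶ j'), (pres.diag.obj j).right →ₐ[R] (pres.diag.obj j').right :=
    fun {j j'} φ =>
    { toRingHom := (pres.diag.map φ).right.hom
      commutes' := fun r => Groth.Agent.Lib.Helper10.IndEtale.under_w_apply (pres.diag.map φ) r }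
  have hβtr : ∀ {j j' : J} (φ : j ⟶ j'), (β j').comp (tr φ) = β j := by
    intro j j' φ
    ext x
    have := congrArg (fun m => m.right x) (pres.w φ)
    exact this
  -- the lifts
  have hL : ∀ j, ∃! w : (pres.diag.obj j).right →ₐ[R] T, uT.comp w = v.comp (β j) := fun j =>
    existsUnique_lift_etale uT huT hk _ _
  choose w hw hwuniq using hL
  have hwtr : ∀ {j j' : J} (φ : j ⟶ j'), (w j').comp (tr φ) = w j := by
    intro j j' φ
    apply hwuniq
    rw [← AlgHom.comp_assoc, hw, AlgHom.comp_assoc, hβtr]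
  -- the cocone
  let cc : Cocone pres.diag :=
    { pt := mkU R T
      ι :=
        { app := fun j => Under.homMk (CommRingCat.ofHom (w j).toRingHom) (by
            ext a
            exact (w j).commutes a)
          naturality := fun j j' φ => by
            ext x
            exact congrArg (fun m => m x) (hwtr φ) } }
  let d : mkU R S ⟶ mkU R T := pres.isColimit.desc cc
  have hd : ∀ j, pres.ι.app j ≫ d = cc.ι.app j := fun j => pres.isColimit.fac cc j
  let W : S →ₐ[R] T :=
    { toRingHom := d.right.hom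
      commutes' := fun r => Groth.Agent.Lib.Helper10.IndEtale.under_w_apply d r }
  have hWβ : ∀ j, W.comp (β j) = w j := by
    intro j
    ext x
    exact congrArg (fun m => m.right x) (hd j)
  -- joint surjectivity
  have hrep : ∀ x : S, ∃ j y, β j y = x := fun x =>
    Groth.Agent.Lib.Helper10.IndEtale.under_exists_rep pres.diag pres.cocone pres.isColimit x
  refine ⟨W, ?_, ?_⟩
  · ext x
    obtain ⟨j, y, rfl⟩ := hrep x
    have h1 := congrArg (fun m => m y) (hw j)
    have h2 := congrArg (fun m => m y) (hWβ j)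
    simp only [AlgHom.comp_apply] at h1 h2 ⊢
    rw [h2, h1]
  · intro W' hW'
    ext x
    obtain ⟨j, y, rfl⟩ := hrep x
    have h3 : W'.comp (β j) = w j := by
      apply hwuniq
      rw [← AlgHom.comp_assoc, hW']
    have h1 := congrArg (fun m => m y) h3
    have h2 := congrArg (fun m => m y) (hWβ j)
    simp only [AlgHom.comp_apply] at h1 h2 ⊢
    rw [h2, h1]

end

/-- Uniqueness of henselian local ind-étale algebras with prescribed residue field. -/
theorem existsUnique_algEquiv_of_henselian_indEtale (R S S' K : Type u) [CommRing R]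
    [CommRing S] [CommRing S'] [Field K] [HenselianLocalRing S] [HenselianLocalRing S']
    [Algebra R S] [Algebra R S'] [Algebra R K] (hS : EtPBC.IsIndEtale R S)
    (hS' : EtPBC.IsIndEtale R S')
    (u : S →ₐ[R] K) (u' : S' →ₐ[R] K) (hu : Function.Surjective u) (hu' : Function.Surjective u')
    (hku : RingHom.ker u.toRingHom = IsLocalRing.maximalIdeal S)
    (hku' : RingHom.ker u'.toRingHom = IsLocalRing.maximalIdeal S') :
    ∃! e : S ≃ₐ[R] S', u'.comp (e : S →ₐ[R] S') = u := by
  obtain ⟨e₁, he₁, he₁u⟩ := existsUnique_lift_indEtale u' hu' hku' S hS u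
  obtain ⟨e₂, he₂, -⟩ := existsUnique_lift_indEtale u hu hku S' hS' u'
  have h21 : e₂.comp e₁ = AlgHom.id R S := by
    obtain ⟨w, -, hwu⟩ := existsUnique_lift_indEtale u hu hku S hS u
    rw [hwu (e₂.comp e₁) (by change u.comp (e₂.comp e₁) = u; rw [← AlgHom.comp_assoc, he₂, he₁]),
      hwu (AlgHom.id R S) (by simp)]
  have h12 : e₁.comp e₂ = AlgHom.id R S' := by
    obtain ⟨w, -, hwu⟩ := existsUnique_lift_indEtale u' hu' hku' S' hS' u'
    rw [hwu (e₁.comp e₂) (by change u'.comp (e₁.comp e₂) = u'; rw [← AlgHom.comp_assoc, he₁, he₂]),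
      hwu (AlgHom.id R S') (by simp)]
  let e : S ≃ₐ[R] S' := AlgEquiv.ofAlgHom e₁ e₂ h12 h21
  refine ⟨e, he₁, fun e' he' => ?_⟩
  apply AlgEquiv.coe_toAlgHom_injective
  exact (he₁u _ he').trans (he₁u _ he₁).symm

end Groth.Agent.Lib.Helper4.IndEt
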