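import Mathlib
import Groth.Agent.Lib.Helper4.SmoothTower

set_option autoImplicit false
universe u
open CategoryTheory CategoryTheory.Limits AlgebraicGeometry TopologicalSpace

namespace Groth.Agent.Lib.Helper4

/-- Topological lemma: if `W` is an open set of a Noetherian quasi-sober space `X` containing the
whole fibre of `f : X → Y` over a generic point `η` of `Y`, then `η` is not in the closure of the
image of the complement of `W`. -/
theorem not_mem_closure_image_compl_of_fibre_subset {X Y : Type*} [TopologicalSpace X]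
    [TopologicalSpace Y] [NoetherianSpace X] [QuasiSober X] [T0Space Y] {f : X → Y}
    (hf : Continuous f) {η : Y} (hη : IsGenericPoint η Set.univ) {W : Set X} (hW : IsOpen W)
    (h : ∀ x, f x = η → x ∈ W) : η ∉ closure (f '' Wᶜ) := by
  obtain ⟨S, hSf, hSc, hSi, hSU⟩ :=
    NoetherianSpace.exists_finite_set_isClosed_irreducible hW.isClosed_compl
  rw [hSU, Set.sUnion_eq_biUnion, Set.image_iUnion₂, hSf.closure_biUnion]
  simp only [Set.mem_iUnion, not_exists]
  intro t ht hmem
  set ζ := (hSi t ht).genericPoint
  have hζ : closure {ζ} = t := (hSi t ht).closure_genericPoint (hSc t ht)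
  have hζt : ζ ∈ t := hζ ▸ subset_closure rfl
  have h1 : f '' t ⊆ closure {f ζ} := by
    rw [← hζ]
    refine (image_closure_subset_closure_image hf).trans ?_
    rw [Set.image_singleton]
  have h2 : η ∈ closure {f ζ} := closure_minimal h1 isClosed_closure hmem
  have h3 : f ζ ⤳ η := specializes_iff_mem_closure.mpr h2
  have h4 : η ⤳ f ζ := hη.specializes (Set.mem_univ _)
  have h5 : f ζ = η := (h3.antisymm h4).eq
  have h6 : ζ ∈ W := h ζ h5
  have h7 : ζ ∈ Wᶜ := by rw [hSU]; exact Set.mem_sUnion.mpr ⟨t, ht, hζt⟩
  exact h7 h6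

end Groth.Agent.Lib.Helper4

namespace Groth.Agent.Lib.Helper4

set_option backward.isDefEq.respectTransparency false in
/-- Points of the generic fibre of a morphism from a smooth `k`-scheme (char. 0) to an integral
`k`-scheme of finite type are in the smooth locus. -/
theorem mem_smoothLocus_of_eq_genericPoint (k : Type u) [Field k] [CharZero k]
    {X Y : Scheme.{u}} (qY : Y ⟶ Spec (CommRingCat.of k)) [LocallyOfFiniteType qY] [IsIntegral Y]
    (f : X ⟶ Y) [LocallyOfFinitePresentation f] [Smooth (f ≫ qY)] (x : X)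
    (hx : f x = genericPoint Y) : x ∈ f.smoothLocus := by
  rw [Scheme.Hom.mem_smoothLocus]
  have hfieldY : IsField (Y.presheaf.stalk (f x)) :=
    isField_stalk_of_closure_mem_irreducibleComponents Y _ (by
      rw [hx, (genericPoint_spec Y).def]; simp [irreducibleComponents_eq_singleton])
  have hsub : Subsingleton (Spec (CommRingCat.of k)) :=
    inferInstanceAs (Subsingleton (PrimeSpectrum k))
  have hfield0 : IsField ((Spec (CommRingCat.of k)).presheaf.stalk ((f ≫ qY) x)) :=
    isField_stalk_of_closure_mem_irreducibleComponents _ _ (by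
      have : closure {(f ≫ qY) x} = (Set.univ : Set (Spec (CommRingCat.of k))) :=
        Set.eq_univ_of_forall fun y => subset_closure (Subsingleton.elim _ _)
      rw [this]; simp [irreducibleComponents_eq_singleton])
  let _ : Field (Y.presheaf.stalk (f x)) := hfieldY.toField
  let _ : Field ((Spec (CommRingCat.of k)).presheaf.stalk ((f ≫ qY) x)) := hfield0.toField
  have : CharZero (Y.presheaf.stalk (f x)) := by
    let φ : k →+* Y.presheaf.stalk (f x) :=
      (CommRingCat.Hom.hom (Y.presheaf.germ ⊤ (f x) trivial)).comp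
        ((CommRingCat.Hom.hom qY.appTop).comp
          (CommRingCat.Hom.hom (Scheme.ΓSpecIso (CommRingCat.of k)).inv))
    exact charZero_of_injective_ringHom φ.injective
  have : CharZero ((Spec (CommRingCat.of k)).presheaf.stalk ((f ≫ qY) x)) := by
    let φ : k →+* (Spec (CommRingCat.of k)).presheaf.stalk ((f ≫ qY) x) :=
      (CommRingCat.Hom.hom ((Spec (CommRingCat.of k)).presheaf.germ ⊤ ((f ≫ qY) x) trivial)).comp
          (CommRingCat.Hom.hom (Scheme.ΓSpecIso (CommRingCat.of k)).inv)
    exact charZero_of_injective_ringHom φ.injective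
  let _ : Algebra ((Spec (CommRingCat.of k)).presheaf.stalk ((f ≫ qY) x))
      (Y.presheaf.stalk (f x)) := (qY.stalkMap (f x)).hom.toAlgebra
  let _ : Algebra (Y.presheaf.stalk (f x)) (X.presheaf.stalk x) := (f.stalkMap x).hom.toAlgebra
  let _ : Algebra ((Spec (CommRingCat.of k)).presheaf.stalk ((f ≫ qY) x))
      (X.presheaf.stalk x) := ((f ≫ qY).stalkMap x).hom.toAlgebra
  have : IsScalarTower ((Spec (CommRingCat.of k)).presheaf.stalk ((f ≫ qY) x))
      (Y.presheaf.stalk (f x)) (X.presheaf.stalk x) := .of_algebraMap_eq' (by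
    simp only [RingHom.algebraMap_toAlgebra, Scheme.Hom.stalkMap_comp]
    rfl)
  have : LocallyOfFiniteType (f ≫ qY) := inferInstance
  have : Algebra.EssFiniteType ((Spec (CommRingCat.of k)).presheaf.stalk ((f ≫ qY) x))
      (Y.presheaf.stalk (f x)) := LocallyOfFiniteType.stalkMap qY (f x)
  have : Algebra.EssFiniteType ((Spec (CommRingCat.of k)).presheaf.stalk ((f ≫ qY) x))
      (X.presheaf.stalk x) := LocallyOfFiniteType.stalkMap (f ≫ qY) x
  have : Algebra.FormallySmooth ((Spec (CommRingCat.of k)).presheaf.stalk ((f ≫ qY) x))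
      (X.presheaf.stalk x) := by
    have h1 := (f ≫ qY).smoothLocus_eq_top
    have hx' : x ∈ (f ≫ qY).smoothLocus := by rw [h1]; trivial
    exact hx'
  exact formallySmooth_of_perfectField_tower
    ((Spec (CommRingCat.of k)).presheaf.stalk ((f ≫ qY) x)) (Y.presheaf.stalk (f x))
    (X.presheaf.stalk x)

end Groth.Agent.Lib.Helper4
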