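import Mathlib
import Groth.Agent.Lib.Helper4.HenselPairK
import Groth.Agent.Lib.Helper11.Henselian

/-!
# Lifting idempotent matrices and finite projective modules along a henselian pair
-/

set_option autoImplicit false
universe u

namespace Groth.Agent.Lib.Helper4.HenselPair

open Polynomial

/-- Idempotent matrices lift along a henselian pair. -/
theorem exists_idempotent_matrix_lift {R : Type u} [CommRing R] (I : Ideal R) [HenselianRing R I]
    {n : Type} [Fintype n] [DecidableEq n] (a : Matrix n n R)
    (ha : (Ideal.Quotient.mk I).mapMatrix a * (Ideal.Quotient.mk I).mapMatrix a =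
      (Ideal.Quotient.mk I).mapMatrix a) :
    ∃ e : Matrix n n R, e * e = e ∧
      (Ideal.Quotient.mk I).mapMatrix e = (Ideal.Quotient.mk I).mapMatrix a := by
  classical
  let ev : R[X] →ₐ[R] Matrix n n R := aeval a
  let B := R[X] ⧸ RingHom.ker ev
  let φ : B →ₐ[R] Matrix n n R := Ideal.kerLiftAlg ev
  have φinj : Function.Injective φ := Ideal.kerLiftAlg_injective ev
  have hint : Algebra.IsIntegral R B :=
    ⟨fun b => (isIntegral_algHom_iff φ φinj).mp (Matrix.isIntegral (φ b))⟩
  have hHB : HenselianRing B (I.map (algebraMap R B)) := henselianRing_map_of_isIntegral R I B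
  let π : Matrix n n R →+* Matrix n n (R ⧸ I) := (Ideal.Quotient.mk I).mapMatrix
  let J : Ideal B := RingHom.ker (π.comp φ.toRingHom)
  have hJmem : ∀ b : B, b ∈ J ↔ π (φ b) = 0 := fun b => RingHom.mem_ker
  have hIJ : I.map (algebraMap R B) ≤ J := by
    rw [Ideal.map_le_iff_le_comap]
    intro r hr
    rw [Ideal.mem_comap, hJmem, φ.commutes]
    ext i j
    change Ideal.Quotient.mk I ((algebraMap R (Matrix n n R) r) i j) = 0
    rw [Matrix.algebraMap_matrix_apply]
    split_ifs
    · exact Ideal.Quotient.eq_zero_iff_mem.mpr hr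
    · exact map_zero _
  have hJrad : J ≤ (I.map (algebraMap R B)).radical := by
    intro b hb
    rw [hJmem] at hb
    set N := φ b with hN
    have hroot : aeval b N.charpoly = 0 := by
      apply φinj
      rw [← aeval_algHom_apply, map_zero]
      exact Matrix.aeval_self_charpoly N
    have hmap : N.charpoly.map (Ideal.Quotient.mk I) = X ^ Fintype.card n := by
      rw [← Matrix.charpoly_map]
      have : N.map (Ideal.Quotient.mk I) = 0 := hb
      rw [this, Matrix.charpoly_zero]
    set q := N.charpoly - X ^ Fintype.card n with hq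
    have hqmem : q ∈ Ideal.map (C : R →+* R[X]) I := by
      rw [Ideal.mem_map_C_iff]
      intro k
      rw [← Ideal.Quotient.eq_zero_iff_mem, ← coeff_map, hq, Polynomial.map_sub, hmap,
        Polynomial.map_pow, map_X, sub_self, coeff_zero]
    have hqB : aeval b q ∈ I.map (algebraMap R B) := by
      have h1 : (aeval b : R[X] →ₐ[R] B).toRingHom.comp (C : R →+* R[X]) = algebraMap R B := by
        ext r
        simp
      rw [← h1, ← Ideal.map_map]
      exact Ideal.mem_map_of_mem _ hqmem
    refine ⟨Fintype.card n, ?_⟩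
    have h2 : b ^ Fintype.card n = - aeval b q := by
      have : aeval b N.charpoly = aeval b q + b ^ Fintype.card n := by
        rw [hq, map_sub, map_pow, aeval_X]; ring
      rw [hroot] at this
      linear_combination -this
    rw [h2]
    exact neg_mem hqB
  have hrad : (I.map (algebraMap R B)).radical = J.radical := by
    apply le_antisymm
    · exact Ideal.radical_mono hIJ
    · rw [← Ideal.radical_idem (I.map (algebraMap R B))]
      exact Ideal.radical_mono hJrad
  have hHJ : HenselianRing B J :=
    (Groth.Agent.Lib.Helper11.henselianRing_iff_of_radical_eq _ J hrad).mp hHB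
  -- the element `ā`
  let abar : B := Ideal.Quotient.mk _ X
  have hφa : φ abar = a := by
    change Ideal.kerLiftAlg ev (Ideal.Quotient.mk _ X) = a
    rw [Ideal.kerLiftAlg_mk]
    exact aeval_X a
  have hidem : abar * abar - abar ∈ J := by
    rw [hJmem, map_sub, map_mul, hφa, map_sub, map_mul]
    exact sub_eq_zero.mpr ha
  -- Hensel for `X^2 - X`
  let f : B[X] := X ^ 2 - X
  have hfmonic : f.Monic := by
    rcases subsingleton_or_nontrivial B with hB | hB
    · exact Subsingleton.elim _ _
    · apply monic_X_pow_sub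
      rw [degree_X]
      norm_num
  have hfeval : ∀ c : B, f.eval c = c * c - c := by
    intro c
    simp only [f, eval_sub, eval_pow, eval_X]
    ring
  have hfder : ∀ c : B, f.derivative.eval c = 2 * c - 1 := by
    intro c
    simp only [f, derivative_sub, derivative_X_pow, derivative_X, eval_sub, eval_mul, eval_pow,
      eval_X, eval_one]
    simp
  have hunit : IsUnit (Ideal.Quotient.mk J (f.derivative.eval abar)) := by
    rw [hfder]
    have hsq : Ideal.Quotient.mk J (2 * abar - 1) * Ideal.Quotient.mk J (2 * abar - 1) = 1 := by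
      rw [← map_mul, ← map_one (Ideal.Quotient.mk J), Ideal.Quotient.eq]
      have : (2 * abar - 1) * (2 * abar - 1) - 1 = 4 * (abar * abar - abar) := by ring
      rw [this]
      exact J.mul_mem_left _ hidem
    exact ⟨⟨_, _, hsq, hsq⟩, rfl⟩
  obtain ⟨e', he', he'J⟩ := HenselianRing.is_henselian f hfmonic abar
    (by rw [hfeval]; exact hidem) hunit
  rw [Polynomial.IsRoot.def, hfeval, sub_eq_zero] at he'
  refine ⟨φ e', by rw [← map_mul, he'], ?_⟩
  have h3 := (hJmem _).mp he'J
  rw [map_sub, map_sub, hφa, sub_eq_zero] at h3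
  exact h3


open TensorProduct in
/-- Finite projective modules lift along a henselian pair. -/
theorem exists_projective_lift {R : Type u} [CommRing R] (I : Ideal R) [HenselianRing R I]
    (Q : Type u) [AddCommGroup Q] [Module (R ⧸ I) Q] [Module.Finite (R ⧸ I) Q]
    [Module.Projective (R ⧸ I) Q] :
    ∃ (P : Type u) (_ : AddCommGroup P) (_ : Module R P), Module.Finite R P ∧
      Module.Projective R P ∧ Nonempty ((R ⧸ I) ⊗[R] P ≃ₗ[R ⧸ I] Q) := by
  classical
  obtain ⟨n, s, i, hs, hi, hsi⟩ := Module.Finite.exists_comp_eq_id_of_projective (R ⧸ I) Q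
  have hsi' : ∀ q, s (i q) = q := fun q => congrArg (fun m => m q) hsi
  let ebar : (Fin n → R ⧸ I) →ₗ[R ⧸ I] (Fin n → R ⧸ I) := i ∘ₗ s
  let Ebar : Matrix (Fin n) (Fin n) (R ⧸ I) := LinearMap.toMatrix' ebar
  have hEbar : Ebar * Ebar = Ebar := by
    rw [← LinearMap.toMatrix'_comp]
    congr 1
    refine LinearMap.ext fun v => ?_
    change i (s (i (s v))) = i (s v)
    rw [hsi']
  let a : Matrix (Fin n) (Fin n) R :=
    Ebar.map (Function.surjInv (Ideal.Quotient.mk_surjective (I := I)))
  have ha : (Ideal.Quotient.mk I).mapMatrix a = Ebar := by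
    ext j k
    exact Function.surjInv_eq _ _
  obtain ⟨e, hee, he⟩ := exists_idempotent_matrix_lift I a (by rw [ha, hEbar])
  rw [ha] at he
  let E : (Fin n → R) →ₗ[R] (Fin n → R) := Matrix.toLin' e
  have hEE : ∀ v, E (E v) = E v := by
    intro v
    change Matrix.toLin' e (Matrix.toLin' e v) = Matrix.toLin' e v
    rw [← LinearMap.comp_apply, ← Matrix.toLin'_mul, hee]
  let P : Submodule R (Fin n → R) := LinearMap.range E
  have hPfix : ∀ p : P, E p = p := by
    rintro ⟨_, v, rfl⟩
    exact hEE v
  have hfinP : Module.Finite R P := Module.Finite.range E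
  have hprojP : Module.Projective R P := by
    refine Module.Projective.of_split P.subtype E.rangeRestrict ?_
    ext p : 1
    apply Subtype.ext
    exact hPfix p
  refine ⟨P, inferInstance, inferInstance, hfinP, hprojP, ?_⟩
  -- reduction map on vectors
  let _ : Module R Q := Module.compHom Q (Ideal.Quotient.mk I)
  have hsmulQ : ∀ (r : R) (q : Q), r • q = Ideal.Quotient.mk I r • q := fun r q => rfl
  have : IsScalarTower R (R ⧸ I) Q := ⟨fun r c q => by
    rw [hsmulQ, Algebra.smul_def, mul_smul]; rfl⟩
  let πv : (Fin n → R) → (Fin n → R ⧸ I) := fun v j => Ideal.Quotient.mk I (v j)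
  have hπE : ∀ v, πv (E v) = ebar (πv v) := by
    intro v
    have h1 : ebar (πv v) = Ebar.mulVec (πv v) := by
      rw [← Matrix.toLin'_apply, Matrix.toLin'_toMatrix']
    rw [h1, ← he]
    funext j
    exact RingHom.map_mulVec (Ideal.Quotient.mk I) e v j
  have hπadd : ∀ v w : Fin n → R, πv (v + w) = πv v + πv w := fun v w => by
    funext j
    exact map_add _ _ _
  have hπsmul : ∀ (r : R) (v : Fin n → R), πv (r • v) = Ideal.Quotient.mk I r • πv v := fun r v => by
    funext j
    exact map_mul _ _ _
  let l : P →ₗ[R] Q :=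
    { toFun := fun p => s (πv p)
      map_add' := fun p p' => by
        change s (πv ((p : Fin n → R) + (p' : Fin n → R))) = _
        rw [hπadd, map_add]
      map_smul' := fun r p => by
        change s (πv (r • (p : Fin n → R))) = _
        rw [hπsmul, map_smul, RingHom.id_apply, hsmulQ] }
  let α : (R ⧸ I) ⊗[R] P →ₗ[R ⧸ I] Q := LinearMap.liftBaseChange (R ⧸ I) l
  have hα : ∀ (c : R ⧸ I) (p : P), α (c ⊗ₜ p) = c • s (πv p) := fun c p => by
    simp [α, l]
  have hsurj : Function.Surjective α := by
    intro q
    let v : Fin n → R := fun j => Function.surjInv (Ideal.Quotient.mk_surjective (I := I)) (i q j)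
    have hv : πv v = i q := by
      funext j
      exact Function.surjInv_eq _ _
    refine ⟨(1 : R ⧸ I) ⊗ₜ (⟨E v, v, rfl⟩ : P), ?_⟩
    rw [hα, one_smul]
    change s (πv (E v)) = q
    rw [hπE, hv]
    change s (i (s (i q))) = q
    rw [hsi', hsi']
  have hform : ∀ z : (R ⧸ I) ⊗[R] P, ∃ p : P, z = (1 : R ⧸ I) ⊗ₜ p := by
    intro z
    induction z using TensorProduct.induction_on with
    | zero => exact ⟨0, (TensorProduct.tmul_zero _ _).symm⟩
    | tmul c p =>
      obtain ⟨r, rfl⟩ := Ideal.Quotient.mk_surjective c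
      refine ⟨r • p, ?_⟩
      rw [← TensorProduct.smul_tmul]
      congr 1
      rw [Algebra.smul_def, mul_one]
      rfl
    | add x y hx hy =>
      obtain ⟨p, rfl⟩ := hx
      obtain ⟨p', rfl⟩ := hy
      exact ⟨p + p', (TensorProduct.tmul_add _ _ _).symm⟩
  have hinj : Function.Injective α := by
    rw [injective_iff_map_eq_zero]
    intro z hz
    obtain ⟨p, rfl⟩ := hform z
    rw [hα, one_smul] at hz
    have hπp : πv p = 0 := by
      have h1 : πv p = ebar (πv p) := by
        rw [← hπE, hPfix]
      rw [h1]
      change i (s (πv p)) = 0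
      rw [hz, map_zero]
    have hpI : ∀ j, (p : Fin n → R) j ∈ I := fun j =>
      Ideal.Quotient.eq_zero_iff_mem.mp (congrFun hπp j)
    let Pj : Fin n → P := fun j => ⟨E (fun j' => if j = j' then 1 else 0), _, rfl⟩
    have h1 : (p : Fin n → R) = ∑ j, (p : Fin n → R) j • E (fun j' => if j = j' then 1 else 0) := by
      conv_lhs => rw [← hPfix p, pi_eq_sum_univ (p : Fin n → R), map_sum]
      refine Finset.sum_congr rfl fun j _ => ?_
      rw [map_smul]
    have hpsum : p = ∑ j, (p : Fin n → R) j • Pj j := by
      apply Subtype.ext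
      rw [Submodule.coe_sum]
      exact h1
    rw [hpsum, TensorProduct.tmul_sum]
    refine Finset.sum_eq_zero fun j _ => ?_
    rw [← TensorProduct.smul_tmul]
    have : ((p : Fin n → R) j) • (1 : R ⧸ I) = 0 := by
      rw [Algebra.smul_def, mul_one]
      exact Ideal.Quotient.eq_zero_iff_mem.mpr (hpI j)
    rw [this, TensorProduct.zero_tmul]
  exact ⟨LinearEquiv.ofBijective α ⟨hinj, hsurj⟩⟩

end Groth.Agent.Lib.Helper4.HenselPair
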