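import Mathlib
import Groth.Prelude.Def_Hensel
import Groth.Prelude.Def_PBC
import Groth.Agent.Lib.Helper4.IndEtUniq
import Groth.Agent.Lib.Helper4.IndEtHz
import Groth.Agent.Lib.Helper4.IndEtLoc
import Groth.Agent.Lib.Helper4.HznSerre
import Groth.Agent.S0734

/-!
# The henselization of `R_p` as a colimit of étale `R`-algebras with trivial residue extension
-/

set_option autoImplicit false
set_option linter.unusedSectionVars false
universe u

namespace Groth.Agent.Lib.Helper4.Hzn

open IsLocalRing CategoryTheory CategoryTheory.Limits Groth.Agent.Lib.Helper4.IndEt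

section

variable (R : Type u) [CommRing R] (p : Ideal R) [p.IsPrime] (Rh : Type u) [CommRing Rh]
  [IsLocalRing Rh] [Algebra (Localization.AtPrime p) Rh]
  [IsLocalHom (algebraMap (Localization.AtPrime p) Rh)]
  [hH : Hensel.IsHenselization (Localization.AtPrime p) Rh] [Algebra R Rh]
  [IsScalarTower R (Localization.AtPrime p) Rh]

include hH in
/-- `R → (R_p)^h` is ind-étale. -/
theorem isIndEtale_atPrime_henselization : EtPBC.IsIndEtale R Rh := by
  have h1 : EtPBC.IsIndEtale R (Localization.AtPrime p) :=
    isIndEtale_of_ind R _ (ind_atPrime (R := R) (E := R) (q := p))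
  have h2 : EtPBC.IsIndEtale (Localization.AtPrime p) Rh :=
    isIndEtale_of_isHenselization (Localization.AtPrime p) Rh
  exact Groth.Agent.S0734.result R (Localization.AtPrime p) Rh h1 h2

theorem comap_algebraMap_maximalIdeal :
    (maximalIdeal Rh).comap (algebraMap R Rh) = p := by
  have h1 : (maximalIdeal Rh).comap (algebraMap (Localization.AtPrime p) Rh) =
      maximalIdeal (Localization.AtPrime p) :=
    ((local_hom_TFAE (algebraMap (Localization.AtPrime p) Rh)).out 0 4).mp ‹_›
  rw [IsScalarTower.algebraMap_eq R (Localization.AtPrime p) Rh, ← Ideal.comap_comap, h1]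
  exact Localization.AtPrime.under_maximalIdeal

/-- the residue map as an algebra map -/
noncomputable def resₐ : Rh →ₐ[R] ResidueField Rh :=
  { toRingHom := residue Rh
    commutes' := fun _ => rfl }

theorem resₐ_apply (x : Rh) : resₐ R Rh x = residue Rh x := rfl

theorem resₐ_surjective : Function.Surjective (resₐ R Rh) := residue_surjective

theorem ker_resₐ : RingHom.ker (resₐ R Rh).toRingHom = maximalIdeal Rh := ker_residue

variable {R p Rh}

/-- A prime `q = β⁻¹(𝔪)` of an `R`-algebra mapping to `Rh` lies over `p`. -/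
theorem comap_comap_eq {E : Type u} [CommRing E] [Algebra R E] (β : E →ₐ[R] Rh) :
    p = ((maximalIdeal Rh).comap β.toRingHom).comap (algebraMap R E) := by
  rw [Ideal.comap_comap]
  have : β.toRingHom.comp (algebraMap R E) = algebraMap R Rh := by
    ext r; exact β.commutes r
  rw [this, comap_algebraMap_maximalIdeal R p Rh]

include hH in
/-- The residue field extension at `q = β⁻¹(𝔪)` is trivial. -/
theorem bijective_residueField_map_comap {E : Type u} [CommRing E] [Algebra R E]
    (β : E →ₐ[R] Rh) (q : Ideal E) [q.IsPrime] (hqβ : (maximalIdeal Rh).comap β.toRingHom = q)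
    (hq : p = q.comap (algebraMap R E)) :
    Function.Bijective (Ideal.ResidueField.map p q (algebraMap R E) hq) := by
  refine ⟨RingHom.injective _, ?_⟩
  have hf₁ : q ≤ RingHom.ker ((residue Rh).comp β.toRingHom) := by
    refine SetLike.le_def.mpr fun x hx => ?_
    have hx' : β.toRingHom x ∈ maximalIdeal Rh := by
      rw [← hqβ] at hx
      exact Ideal.mem_comap.mp hx
    rw [RingHom.mem_ker, RingHom.comp_apply]
    exact (residue_eq_zero_iff _).mpr hx'
  have hf₂ : q.primeCompl ≤
      (IsUnit.submonoid (ResidueField Rh)).comap ((residue Rh).comp β.toRingHom) := by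
    refine SetLike.le_def.mpr fun x hx => ?_
    have hx' : x ∉ q := Ideal.mem_primeCompl_iff.mp hx
    rw [← hqβ] at hx'
    have h1 : IsUnit (β.toRingHom x) :=
      IsLocalRing.notMem_maximalIdeal.mp (fun h => hx' (Ideal.mem_comap.mpr h))
    rw [Submonoid.mem_comap, IsUnit.mem_submonoid_iff]
    exact h1.map (residue Rh)
  let w : q.ResidueField →+* ResidueField Rh :=
    Ideal.ResidueField.lift q ((residue Rh).comp β.toRingHom) hf₁ hf₂
  have hw : w.comp (Ideal.ResidueField.map p q (algebraMap R E) hq) =
      ResidueField.map (algebraMap (Localization.AtPrime p) Rh) := by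
    apply Ideal.ResidueField.ringHom_ext
    ext r
    simp only [RingHom.comp_apply]
    rw [Ideal.ResidueField.map_algebraMap]
    change Ideal.ResidueField.lift q ((residue Rh).comp β.toRingHom) _ _ _ = _
    rw [Ideal.ResidueField.lift_algebraMap,
      IsScalarTower.algebraMap_apply R (Localization.AtPrime p) p.ResidueField]
    change residue Rh (β (algebraMap R E r)) = residue Rh (algebraMap _ Rh (algebraMap R _ r))
    rw [β.commutes, ← IsScalarTower.algebraMap_apply]
  intro z
  obtain ⟨y, hy⟩ := (bijective_residueField_map_of_isHenselization (Localization.AtPrime p) Rh).2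
    (w z)
  refine ⟨y, w.injective ?_⟩
  rw [← hy]
  exact congrArg (fun m => m y) hw

/-- Two algebra maps to a field with the same prime kernel `q`, where `κ(p) → κ(q)` is onto,
agree. -/
theorem algHom_eq_of_ker_eq {S K : Type u} [CommRing S] [Algebra R S] [Field K] [Algebra R K]
    (q : Ideal S) [q.IsPrime] (hq : p = q.comap (algebraMap R S))
    (hsurj : Function.Surjective (Ideal.ResidueField.map p q (algebraMap R S) hq))
    (v v' : S →ₐ[R] K) (hv : ∀ x, v x = 0 ↔ x ∈ q) (hv' : ∀ x, v' x = 0 ↔ x ∈ q) : v = v' := by
  ext x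
  obtain ⟨y, hy⟩ := hsurj (algebraMap S q.ResidueField x)
  obtain ⟨w, rfl⟩ := residue_surjective y
  obtain ⟨r, t, rfl⟩ := IsLocalization.exists_mk'_eq p.primeCompl w
  have h1 : algebraMap S q.ResidueField (x * algebraMap R S t - algebraMap R S r) = 0 := by
    rw [map_sub, map_mul, ← hy, ← Ideal.ResidueField.map_algebraMap p q (algebraMap R S) hq,
      ← Ideal.ResidueField.map_algebraMap p q (algebraMap R S) hq, ← map_mul, sub_eq_zero]
    congr 1
    rw [IsScalarTower.algebraMap_apply R (Localization.AtPrime p) p.ResidueField,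
      IsScalarTower.algebraMap_apply R (Localization.AtPrime p) p.ResidueField]
    change residue _ _ * residue _ _ = residue _ _
    rw [← map_mul, IsLocalization.mk'_spec]
  rw [Ideal.algebraMap_residueField_eq_zero] at h1
  have h2 := (hv _).mpr h1
  have h3 := (hv' _).mpr h1
  rw [map_sub, map_mul, AlgHom.commutes, AlgHom.commutes, sub_eq_zero] at h2 h3
  have ht : algebraMap R K t ≠ 0 := by
    intro h0
    have h4 : v (algebraMap R S t) = 0 := by rw [AlgHom.commutes, h0]
    have h5 := (hv _).mp h4
    have h6 : (t : R) ∈ p := (SetLike.ext_iff.mp hq (t : R)).mpr h5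
    exact t.2 h6
  exact mul_right_cancel₀ ht (h2.trans h3.symm)

include hH in
/-- part (a) -/
theorem existsUnique_algHom_of_etale (S : Type u) [CommRing S] [Algebra R S] [Algebra.Etale R S]
    (q : Ideal S) [q.IsPrime] (hq : p = q.comap (algebraMap R S))
    (hbij : Function.Bijective (Ideal.ResidueField.map p q (algebraMap R S) hq)) :
    ∃! f : S →ₐ[R] Rh, (maximalIdeal Rh).comap f.toRingHom = q := by
  let ρ : p.ResidueField ≃+* q.ResidueField := RingEquiv.ofBijective _ hbij
  let v₀ : S →+* ResidueField Rh :=
    (ResidueField.map (algebraMap (Localization.AtPrime p) Rh)).comp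
      (ρ.symm.toRingHom.comp (algebraMap S q.ResidueField))
  let v : S →ₐ[R] ResidueField Rh :=
    { toRingHom := v₀
      commutes' := by
        intro r
        change ResidueField.map (algebraMap (Localization.AtPrime p) Rh)
          (ρ.symm (algebraMap S q.ResidueField (algebraMap R S r))) = _
        rw [← Ideal.ResidueField.map_algebraMap p q (algebraMap R S) hq]
        change ResidueField.map (algebraMap (Localization.AtPrime p) Rh)
          (ρ.symm (ρ (algebraMap R p.ResidueField r))) = _
        rw [RingEquiv.symm_apply_apply,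
          IsScalarTower.algebraMap_apply R (Localization.AtPrime p) p.ResidueField]
        change residue Rh (algebraMap _ Rh (algebraMap R _ r)) = _
        rw [← IsScalarTower.algebraMap_apply]
        rfl }
  have hv : ∀ x, v x = 0 ↔ x ∈ q := by
    intro x
    change ResidueField.map (algebraMap (Localization.AtPrime p) Rh)
      (ρ.symm (algebraMap S q.ResidueField x)) = 0 ↔ _
    rw [map_eq_zero_iff _ (RingHom.injective _), map_eq_zero_iff _ ρ.symm.injective,
      Ideal.algebraMap_residueField_eq_zero]
  have hHens : HenselianLocalRing Rh := hH.henselian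
  obtain ⟨f, hf, hfuniq⟩ := existsUnique_lift_etale (resₐ R Rh) (resₐ_surjective R Rh)
    (ker_resₐ R Rh) S v
  have hcomap : ∀ g : S →ₐ[R] Rh, (maximalIdeal Rh).comap g.toRingHom = q ↔
      ∀ x, (resₐ R Rh).comp g x = 0 ↔ x ∈ q := by
    intro g
    constructor
    · intro h x
      rw [← h]
      change residue Rh (g x) = 0 ↔ _
      rw [residue_eq_zero_iff]
      rfl
    · intro h
      ext x
      rw [← h x]
      change g x ∈ maximalIdeal Rh ↔ residue Rh (g x) = 0
      rw [residue_eq_zero_iff]
  refine ⟨f, (hcomap f).mpr ?_, ?_⟩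
  · rw [hf]
    exact hv
  · intro g hg
    apply hfuniq
    exact algHom_eq_of_ker_eq q hq hbij.2 _ _ ((hcomap g).mp hg) hv

include hH in
/-- part (b) -/
theorem exists_etale_pair (x : Rh) :
    ∃ (S : Type u) (_ : CommRing S) (_ : Algebra R S) (_ : Algebra.Etale R S) (q : Ideal S)
      (_ : q.IsPrime) (hq : p = q.comap (algebraMap R S)),
      Function.Bijective (Ideal.ResidueField.map p q (algebraMap R S) hq) ∧
        ∃ (f : S →ₐ[R] Rh) (s : S), (maximalIdeal Rh).comap f.toRingHom = q ∧ f s = x := by
  obtain ⟨E, _, _, _, β, y, hy⟩ := exists_etale_algHom_of_isIndEtale R Rh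
    (isIndEtale_atPrime_henselization R p Rh) x
  exact ⟨E, inferInstance, inferInstance, inferInstance, (maximalIdeal Rh).comap β.toRingHom,
    inferInstance, comap_comap_eq β,
    bijective_residueField_map_comap β _ rfl (comap_comap_eq β), β, y, rfl, hy⟩

include hH in
/-- part (c) -/
theorem exists_etale_pair_killing (S : Type u) [CommRing S] [Algebra R S] [Algebra.Etale R S]
    (q : Ideal S) [q.IsPrime]
    (f : S →ₐ[R] Rh) (hf : (maximalIdeal Rh).comap f.toRingHom = q) (s : S) (hs : f s = 0) :
    ∃ (S' : Type u) (_ : CommRing S') (_ : Algebra R S') (_ : Algebra.Etale R S') (q' : Ideal S')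
      (_ : q'.IsPrime) (hq' : p = q'.comap (algebraMap R S')),
      Function.Bijective (Ideal.ResidueField.map p q' (algebraMap R S') hq') ∧
        ∃ φ : S →ₐ[R] S', q'.comap φ.toRingHom = q ∧ φ s = 0 := by
  obtain ⟨J, _, _, pres, hpres⟩ := ind_of_isIndEtale R Rh (isIndEtale_atPrime_henselization R p Rh)
  have hfp : IsFinitelyPresentable.{u} (mkU R S) :=
    pet_le_isFinitelyPresentable R _ (pet_mkU R S)
  let g : mkU R S ⟶ mkU R Rh := Under.homMk (CommRingCat.ofHom f.toRingHom) (by
    ext a
    exact f.commutes a)
  obtain ⟨j, u, hu⟩ := IsFinitelyPresentable.exists_hom_of_isColimit pres.isColimit g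
  have hu' : ∀ x : S, (pres.ι.app j).right (u.right x) = f x := fun x =>
    congrArg (fun m => m.right x) hu
  have h0 : (pres.cocone.ι.app j).right (u.right s) = (pres.cocone.ι.app j).right 0 := by
    rw [map_zero]
    exact (hu' s).trans hs
  obtain ⟨k, φ, hφ⟩ := Groth.Agent.Lib.Helper10.IndEtale.under_exists_eq pres.diag pres.cocone
    pres.isColimit j _ _ h0
  rw [map_zero] at hφ
  let _ : Algebra R (pres.diag.obj k).right := (pres.diag.obj k).hom.hom.toAlgebra
  have het : Algebra.Etale R (pres.diag.obj k).right := hpres k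
  let β : (pres.diag.obj k).right →ₐ[R] Rh :=
    { toRingHom := (pres.ι.app k).right.hom
      commutes' := fun r => Groth.Agent.Lib.Helper10.IndEtale.under_w_apply (pres.ι.app k) r }
  let ψ : S →ₐ[R] (pres.diag.obj k).right :=
    { toRingHom := (u ≫ pres.diag.map φ).right.hom
      commutes' := fun r =>
        Groth.Agent.Lib.Helper10.IndEtale.under_w_apply (X := mkU R S) (u ≫ pres.diag.map φ) r }
  have hβψ : β.comp ψ = f := by
    ext x
    have h1 := congrArg (fun m => m.right (u.right x)) (pres.w φ)
    exact h1.trans (hu' x)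
  refine ⟨(pres.diag.obj k).right, inferInstance, inferInstance, het,
    (maximalIdeal Rh).comap β.toRingHom, inferInstance, comap_comap_eq β,
    bijective_residueField_map_comap β _ rfl (comap_comap_eq β), ψ, ?_, hφ⟩
  rw [← hf, ← hβψ]
  rfl

end

end Groth.Agent.Lib.Helper4.Hzn
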