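import Mathlib
import Groth.Prelude.Def_Hens2
import Groth.Agent.Lib.Helper12.HensCRT
import Groth.Agent.Lib.Helper12.HzPairNbhd

/-!
# Base-change style lemmas for henselizations of pairs
-/

set_option autoImplicit false
universe u

namespace Groth.Agent.Lib.Helper4.HzPairBase

open Groth.Agent.Lib.Helper12 Groth.Agent.Lib.Helper12.HzPair

/-- transport a henselian pair along a ring isomorphism -/
theorem henselianRing_of_ringEquiv {P P' : Type u} [CommRing P] [CommRing P'] (e : P ≃+* P')
    (K : Ideal P) [HenselianRing P K] : HenselianRing P' (K.map (e : P →+* P')) := by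
  let _ : Algebra P P' := (e : P →+* P').toAlgebra
  have : Algebra.IsIntegral P P' :=
    Algebra.IsIntegral.of_surjective (Algebra.ofId P P') e.surjective
  exact Groth.Agent.Lib.Helper4.HenselPair.henselianRing_map_of_isIntegral P K P'

/-- transport of a henselization of a pair along isomorphisms of the base and of the algebra. -/
theorem transport {R R' P P' : Type u} [CommRing R] [CommRing R'] [CommRing P] [CommRing P']
    [Algebra R P] [Algebra R' P'] (K : Ideal R) (hP : Hens2.IsPairHenselization R K P)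
    (e₁ : R ≃+* R') (e₂ : P ≃+* P')
    (hcomm : (algebraMap R' P').comp (e₁ : R →+* R') = (e₂ : P →+* P').comp (algebraMap R P)) :
    Hens2.IsPairHenselization R' (K.map (e₁ : R →+* R')) P' := by
  obtain ⟨h1, h2⟩ := hP
  refine ⟨?_, fun C _ J f hJ hfJ => ?_⟩
  · have := henselianRing_of_ringEquiv e₂ (K.map (algebraMap R P))
    rwa [Ideal.map_map, ← hcomm, ← Ideal.map_map] at this
  · have hfJ' : K.map (f.comp (e₁ : R →+* R')) ≤ J := by rwa [← Ideal.map_map]
    obtain ⟨g, hg, hu⟩ := h2 C J (f.comp (e₁ : R →+* R')) hJ hfJ'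
    refine ⟨g.comp (e₂.symm : P' →+* P), ?_, fun g' hg' => ?_⟩
    · ext x
      obtain ⟨y, rfl⟩ := e₁.surjective x
      have h3 := congrArg (fun φ => φ y) hcomm
      simp only [RingHom.comp_apply, RingHom.coe_coe] at h3 ⊢
      rw [h3, e₂.symm_apply_apply]
      exact congrArg (fun φ => φ y) hg
    · have : g'.comp (e₂ : P →+* P') = g := by
        apply hu
        rw [RingHom.comp_assoc, ← hcomm, ← RingHom.comp_assoc, hg']
      rw [← this]
      ext x
      simp

/-- transport along an isomorphism of the henselization only. -/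
theorem transport_right {R P P' : Type u} [CommRing R] [CommRing P] [CommRing P']
    [Algebra R P] [Algebra R P'] (K : Ideal R) (hP : Hens2.IsPairHenselization R K P)
    (e₂ : P ≃+* P') (hcomm : algebraMap R P' = (e₂ : P →+* P').comp (algebraMap R P)) :
    Hens2.IsPairHenselization R K P' := by
  have := transport K hP (RingEquiv.refl R) e₂ (by rw [← hcomm]; rfl)
  have h2 : K.map ((RingEquiv.refl R : R ≃+* R) : R →+* R) = K := Ideal.map_id K
  rwa [h2] at this

/-- transport along an isomorphism of the base only. -/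
theorem transport_left {R R' P : Type u} [CommRing R] [CommRing R'] [CommRing P]
    [Algebra R P] [Algebra R' P] (K : Ideal R) (hP : Hens2.IsPairHenselization R K P)
    (e₁ : R ≃+* R') (hcomm : (algebraMap R' P).comp (e₁ : R →+* R') = algebraMap R P) :
    Hens2.IsPairHenselization R' (K.map (e₁ : R →+* R')) P :=
  transport K hP e₁ (RingEquiv.refl P) (by rw [hcomm]; rfl)

/-- Henselization commutes with quotients. -/
theorem quotient {Q P : Type u} [CommRing Q] [CommRing P] [Algebra Q P] (K : Ideal Q)
    (hP : Hens2.IsPairHenselization Q K P) (J : Ideal Q) :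
    Hens2.IsPairHenselization (Q ⧸ J) (K.map (Ideal.Quotient.mk J))
      (P ⧸ J.map (algebraMap Q P)) := by
  obtain ⟨h1, h2⟩ := hP
  have hsq : (algebraMap (Q ⧸ J) (P ⧸ J.map (algebraMap Q P))).comp (Ideal.Quotient.mk J) =
      (Ideal.Quotient.mk (J.map (algebraMap Q P))).comp (algebraMap Q P) := rfl
  refine ⟨?_, fun C _ J' f hJ' hfJ => ?_⟩
  · have := HensCRT.henselianRing_quotient (K.map (algebraMap Q P)) (J.map (algebraMap Q P))
    rwa [Ideal.map_map, ← hsq, ← Ideal.map_map] at this
  · have hfJ' : K.map (f.comp (Ideal.Quotient.mk J)) ≤ J' := by rwa [← Ideal.map_map]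
    obtain ⟨g, hg, hu⟩ := h2 C J' (f.comp (Ideal.Quotient.mk J)) hJ' hfJ'
    have hker : ∀ x ∈ J.map (algebraMap Q P), g x = 0 := by
      intro x hx
      have : J.map (algebraMap Q P) ≤ RingHom.ker g := by
        rw [Ideal.map_le_iff_le_comap]
        intro j hj
        rw [Ideal.mem_comap, RingHom.mem_ker]
        have := congrArg (fun φ => φ j) hg
        simp only [RingHom.comp_apply] at this
        rw [this, Ideal.Quotient.eq_zero_iff_mem.mpr hj, map_zero]
      exact this hx
    refine ⟨Ideal.Quotient.lift _ g hker, ?_, fun g' hg' => ?_⟩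
    · apply Ideal.Quotient.ringHom_ext
      rw [RingHom.comp_assoc, hsq, ← RingHom.comp_assoc, Ideal.Quotient.lift_comp_mk, hg]
    · apply Ideal.Quotient.ringHom_ext
      rw [Ideal.Quotient.lift_comp_mk]
      apply hu
      rw [RingHom.comp_assoc, ← hsq, ← RingHom.comp_assoc, hg']

/-- A henselization of `(Q, K)` is also a henselization of any étale neighbourhood `E`. -/
theorem of_nbhd {Q E P : Type u} [CommRing Q] [CommRing E] [CommRing P] [Algebra Q E] [Algebra Q P]
    [Algebra E P] [IsScalarTower Q E P] (K : Ideal Q) (hE : IsNbhd K E)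
    (hP : Hens2.IsPairHenselization Q K P) :
    Hens2.IsPairHenselization E (K.map (algebraMap Q E)) P := by
  obtain ⟨h1, h2⟩ := hP
  refine ⟨?_, fun C _ J f hJ hfJ => ?_⟩
  · rwa [Ideal.map_map, ← IsScalarTower.algebraMap_eq]
  · have hfJ' : K.map (f.comp (algebraMap Q E)) ≤ J := by rwa [← Ideal.map_map]
    obtain ⟨g, hg, hu⟩ := h2 C J (f.comp (algebraMap Q E)) hJ hfJ'
    let _ : Algebra Q C := (f.comp (algebraMap Q E)).toAlgebra
    have hjac : K.map (algebraMap Q C) ≤ Ideal.jacobson ⊥ := hfJ'.trans hJ.jac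
    let φ₁ : E →ₐ[Q] C :=
      { g.comp (algebraMap E P) with
        commutes' := fun q => by
          show g (algebraMap E P (algebraMap Q E q)) = f (algebraMap Q E q)
          rw [← IsScalarTower.algebraMap_apply]
          exact congrArg (fun φ => φ q) hg }
    let φ₂ : E →ₐ[Q] C := { f with commutes' := fun q => rfl }
    have h12 : φ₁ = φ₂ := algHom_eq_of_nbhd hE hjac φ₁ φ₂
    refine ⟨g, ?_, fun g' hg' => ?_⟩
    · ext x
      exact DFunLike.congr_fun h12 x
    · apply hu
      rw [← hg', RingHom.comp_assoc, ← IsScalarTower.algebraMap_eq]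

open TensorProduct in
/-- If `B` is a henselization of `(R, K)` and `C` a henselization of `(S, K S)` for an `R`-algebra
`S`, then `C` is a henselization of `B ⊗[R] S`. -/
theorem tensor {R B S C : Type u} [CommRing R] [CommRing B] [CommRing S] [CommRing C]
    [Algebra R B] [Algebra R S] [Algebra R C] [Algebra B C] [Algebra S C]
    [IsScalarTower R B C] [IsScalarTower R S C] (K : Ideal R)
    (hB : Hens2.IsPairHenselization R K B)
    (hC : Hens2.IsPairHenselization S (K.map (algebraMap R S)) C) :
    @Hens2.IsPairHenselization (B ⊗[R] S) _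
      ((K.map (algebraMap R B)).map (algebraMap B (B ⊗[R] S))) C _
      (Algebra.TensorProduct.productMap (IsScalarTower.toAlgHom R B C)
        (IsScalarTower.toAlgHom R S C)).toRingHom.toAlgebra := by
  let φ : B ⊗[R] S →ₐ[R] C := Algebra.TensorProduct.productMap (IsScalarTower.toAlgHom R B C)
    (IsScalarTower.toAlgHom R S C)
  let _ : Algebra (B ⊗[R] S) C := φ.toRingHom.toAlgebra
  have hφ : algebraMap (B ⊗[R] S) C = φ.toRingHom := rfl
  have hL : (algebraMap (B ⊗[R] S) C).comp Algebra.TensorProduct.includeLeftRingHom =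
      algebraMap B C := by
    ext b
    simp [hφ, φ]
  have hR : (algebraMap (B ⊗[R] S) C).comp
      (Algebra.TensorProduct.includeRight : S →ₐ[R] B ⊗[R] S).toRingHom = algebraMap S C := by
    ext s
    simp [hφ, φ]
  have hRT : (algebraMap B (B ⊗[R] S)).comp (algebraMap R B) =
      (Algebra.TensorProduct.includeRight : S →ₐ[R] B ⊗[R] S).toRingHom.comp (algebraMap R S) := by
    ext r
    simp [Algebra.algebraMap_eq_smul_one]
  obtain ⟨h1, h2⟩ := hB
  obtain ⟨h1', h2'⟩ := hC
  refine ⟨?_, fun D _ J f hJ hfJ => ?_⟩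
  · have : ((K.map (algebraMap R B)).map (algebraMap B (B ⊗[R] S))).map
        (algebraMap (B ⊗[R] S) C) = (K.map (algebraMap R S)).map (algebraMap S C) := by
      rw [Ideal.map_map, Ideal.map_map, Ideal.map_map, RingHom.comp_assoc, hRT,
        ← RingHom.comp_assoc, hR]
    rwa [this]
  · set fS : S →+* D :=
      f.comp (Algebra.TensorProduct.includeRight : S →ₐ[R] B ⊗[R] S).toRingHom with hfS_def
    have hfS : (K.map (algebraMap R S)).map fS ≤ J := by
      rw [Ideal.map_map, hfS_def, RingHom.comp_assoc, ← hRT, ← RingHom.comp_assoc,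
        ← Ideal.map_map, ← Ideal.map_map]
      exact hfJ
    obtain ⟨γ, hγ, hu⟩ := h2' D J fS hJ hfS
    refine ⟨γ, ?_, fun γ' hγ' => ?_⟩
    · apply Algebra.TensorProduct.ringHom_ext
      · have hKJ : K.map ((f.comp Algebra.TensorProduct.includeLeftRingHom).comp
            (algebraMap R B)) ≤ J := by
          rw [← Ideal.map_map, ← Ideal.map_map]
          exact hfJ
        obtain ⟨β, hβ, huβ⟩ := h2 D J ((f.comp Algebra.TensorProduct.includeLeftRingHom).comp
          (algebraMap R B)) hJ hKJ
        have e1 : ((γ.comp (algebraMap (B ⊗[R] S) C)).comp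
            Algebra.TensorProduct.includeLeftRingHom).comp (algebraMap R B) =
            (f.comp Algebra.TensorProduct.includeLeftRingHom).comp (algebraMap R B) := by
          ext r
          have a1 := congrArg (fun ψ => ψ (algebraMap R B r)) hL
          have a2 := congrArg (fun ψ => ψ (algebraMap R S r)) hγ
          have a3 := congrArg (fun ψ => ψ r) hRT
          simp only [RingHom.comp_apply] at a1 a2 a3 ⊢
          rw [a1, ← IsScalarTower.algebraMap_apply, IsScalarTower.algebraMap_apply R S C, a2,
            hfS_def, RingHom.comp_apply, ← a3]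
          rfl
        rw [huβ ((γ.comp (algebraMap (B ⊗[R] S) C)).comp
          Algebra.TensorProduct.includeLeftRingHom) e1,
          huβ (f.comp Algebra.TensorProduct.includeLeftRingHom) rfl]
      · rw [RingHom.comp_assoc, hR, hγ]
    · apply hu
      have hγ'' : γ'.comp (algebraMap (B ⊗[R] S) C) = f := hγ'
      rw [hfS_def, ← hγ'', RingHom.comp_assoc, hR]

open TensorProduct in
/-- finitely many elements of a henselization come from a common étale neighbourhood. -/
theorem exists_common_nbhd {Q P : Type u} [CommRing Q] [CommRing P] [Algebra Q P] (K : Ideal Q)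
    (hP : Hens2.IsPairHenselization Q K P) (T : Finset P) :
    ∃ (E : Type u) (_ : CommRing E) (_ : Algebra Q E), IsNbhd K E ∧
      ∃ ψ : E →ₐ[Q] P, ∀ x ∈ T, x ∈ ψ.range := by
  classical
  induction T using Finset.induction_on with
  | empty =>
    exact ⟨Q, inferInstance, inferInstance, isNbhd_self, Algebra.ofId Q P, fun x hx => by simp at hx⟩
  | insert a T _ ih =>
    obtain ⟨E₁, _, _, hE₁, ψ₁, h₁⟩ := ih
    obtain ⟨E₂, _, _, hE₂, ψ₂, s, hs⟩ := exists_nbhd_of_mem P hP a
    refine ⟨E₁ ⊗[Q] E₂, inferInstance, inferInstance, IsNbhd.tensor K hE₁ hE₂,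
      Algebra.TensorProduct.productMap ψ₁ ψ₂, fun x hx => ?_⟩
    rcases Finset.mem_insert.mp hx with rfl | hx
    · exact ⟨1 ⊗ₜ s, by simp [hs]⟩
    · obtain ⟨y, hy⟩ := h₁ x hx
      have hy' : ψ₁ y = x := hy
      exact ⟨y ⊗ₜ 1, by simp [hy']⟩

end Groth.Agent.Lib.Helper4.HzPairBase
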