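import Mathlib

/-!
# Flatness over a local ring with nilpotent maximal ideal descends along injective ring maps

If `𝔪` is a nilpotent maximal ideal of `R`, `R → R'` is injective and `R' ⊗[R] M` is flat over
`R'`, then `M` is flat (indeed free) over `R`.
-/

set_option autoImplicit false
set_option linter.unusedSectionVars false
set_option linter.style.haveILetI false
universe u v w

open TensorProduct Function

namespace Groth.Agent.Lib.Helper4.FinInjFlat

section general

variable {R : Type u} [CommRing R] (𝔪 : Ideal R)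

/-- tensoring a module killed by `𝔪` with an element of `𝔪 • ⊤` gives zero -/
theorem tmul_eq_zero_of_mem_smul_top {Q : Type*} {F : Type*} [AddCommGroup Q] [Module R Q]
    [AddCommGroup F] [Module R F] (hQ : ∀ a ∈ 𝔪, ∀ q : Q, a • q = 0) (q : Q) {x : F}
    (hx : x ∈ 𝔪 • (⊤ : Submodule R F)) : q ⊗ₜ[R] x = 0 := by
  refine Submodule.smul_induction_on hx ?_ ?_
  · intro a ha f _
    rw [TensorProduct.tmul_smul, TensorProduct.smul_tmul', hQ a ha, TensorProduct.zero_tmul]
  · intro x y hx hy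
    rw [TensorProduct.tmul_add, hx, hy, add_zero]

/-- If `ker π ≤ 𝔪 F` and `Q` is killed by `𝔪`, then `Q ⊗ π` is injective. -/
theorem lTensor_injective_of_ker_le {Q : Type*} {F : Type*} {M : Type*} [AddCommGroup Q]
    [Module R Q] [AddCommGroup F] [Module R F] [AddCommGroup M] [Module R M]
    (hQ : ∀ a ∈ 𝔪, ∀ q : Q, a • q = 0) (π : F →ₗ[R] M) (hπ : Surjective π)
    (hK : LinearMap.ker π ≤ 𝔪 • (⊤ : Submodule R F)) : Injective (π.lTensor Q) := by
  rw [injective_iff_map_eq_zero]
  intro y hy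
  obtain ⟨z, rfl⟩ := (lTensor_exact Q (LinearMap.exact_subtype_ker_map π) hπ y).mp hy
  clear hy
  induction z using TensorProduct.induction_on with
  | zero => simp
  | add a b ha hb => rw [map_add, ha, hb, add_zero]
  | tmul q x =>
    rw [LinearMap.lTensor_tmul]
    exact tmul_eq_zero_of_mem_smul_top 𝔪 hQ q (hK x.2)

/-- `1 ⊗ x = 0` in `(R ⧸ 𝔪) ⊗ F` iff `x ∈ 𝔪 F`. -/
theorem mem_smul_top_of_one_tmul_eq_zero {F : Type*} [AddCommGroup F] [Module R F] (x : F)
    (hx : (1 : R ⧸ 𝔪) ⊗ₜ[R] x = 0) : x ∈ 𝔪 • (⊤ : Submodule R F) := by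
  have h := congrArg (TensorProduct.quotTensorEquivQuotSMul F 𝔪) hx
  rw [TensorProduct.quotTensorEquivQuotSMul_mk_one_tmul, map_zero,
    Submodule.Quotient.mk_eq_zero] at h
  exact h

/-- Nilpotent Nakayama: `N ⊔ 𝔪 M = ⊤` with `𝔪` nilpotent implies `N = ⊤`. -/
theorem eq_top_of_sup_smul_eq_top {M : Type*} [AddCommGroup M] [Module R M] (hnil : IsNilpotent 𝔪)
    (N : Submodule R M) (h : N ⊔ 𝔪 • (⊤ : Submodule R M) = ⊤) : N = ⊤ := by
  obtain ⟨n, hn⟩ := hnil
  have key : ∀ j : ℕ, N ⊔ (𝔪 ^ j) • (⊤ : Submodule R M) = ⊤ := by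
    intro j
    induction j with
    | zero => simp
    | succ j ih =>
      rw [eq_top_iff]
      calc (⊤ : Submodule R M) = N ⊔ (𝔪 ^ j) • (⊤ : Submodule R M) := ih.symm
        _ = N ⊔ (𝔪 ^ j) • (N ⊔ 𝔪 • (⊤ : Submodule R M)) := by rw [h]
        _ ≤ N ⊔ (𝔪 ^ (j + 1)) • (⊤ : Submodule R M) := by
          rw [Submodule.smul_sup, ← mul_smul, ← pow_succ]
          refine sup_le le_sup_left (sup_le ?_ le_sup_right)
          exact le_trans Submodule.smul_le_right le_sup_left
  have := key n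
  rw [hn, Submodule.zero_eq_bot, Submodule.bot_smul, sup_bot_eq] at this
  exact this

/-- Nilpotent Nakayama: `K ≤ 𝔪 K` with `𝔪` nilpotent implies `K = ⊥`. -/
theorem eq_bot_of_le_smul {M : Type*} [AddCommGroup M] [Module R M] (hnil : IsNilpotent 𝔪)
    (K : Submodule R M) (h : K ≤ 𝔪 • K) : K = ⊥ := by
  obtain ⟨n, hn⟩ := hnil
  have key : ∀ j : ℕ, K ≤ (𝔪 ^ j) • K := by
    intro j
    induction j with
    | zero => simp
    | succ j ih =>
      calc K ≤ (𝔪 ^ j) • K := ih
        _ ≤ (𝔪 ^ j) • (𝔪 • K) := Submodule.smul_mono le_rfl h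
        _ = (𝔪 ^ (j + 1)) • K := by rw [← mul_smul, ← pow_succ]
  have := key n
  rw [hn, Submodule.zero_eq_bot, Submodule.bot_smul] at this
  exact le_bot_iff.mp this

end general

section kernel

variable {R : Type u} [CommRing R] (I : Ideal R)

/-- A surjection onto a flat module which is injective modulo a nilpotent ideal is injective. -/
theorem ker_eq_bot_of_lTensor_injective {F : Type v} {M : Type w} [AddCommGroup F] [Module R F]
    [AddCommGroup M] [Module R M] [Module.Flat R M] (hnil : IsNilpotent I)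
    (π : F →ₗ[R] M) (hπ : Surjective π) (hinj : Injective (π.lTensor (R ⧸ I))) :
    LinearMap.ker π = ⊥ := by
  have ha' : Injective ((LinearMap.ker π).subtype.lTensor (R ⧸ I)) :=
    LinearMap.lTensor_injective_of_exact_of_flat (M := LinearMap.ker π) π hπ
      (LinearMap.ker π).subtype
      (Submodule.injective_subtype _) (LinearMap.exact_subtype_ker_map π) (R ⧸ I)
  apply eq_bot_of_le_smul I hnil
  intro x hx
  have h7 : (1 : R ⧸ I) ⊗ₜ[R] (⟨x, hx⟩ : LinearMap.ker π) = 0 := by
    apply ha'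
    rw [map_zero, LinearMap.lTensor_tmul]
    apply hinj
    rw [map_zero, LinearMap.lTensor_tmul]
    have : π x = 0 := hx
    simp [this]
  have h8 := mem_smul_top_of_one_tmul_eq_zero I (⟨x, hx⟩ : LinearMap.ker π) h7
  have h9 : (LinearMap.ker π).subtype ⟨x, hx⟩ ∈
      (I • (⊤ : Submodule R (LinearMap.ker π))).map (LinearMap.ker π).subtype :=
    Submodule.mem_map_of_mem h8
  rw [Submodule.map_smul'', Submodule.map_subtype_top] at h9
  exact h9

/-- Injectivity of `Q ⊗ π` over `R` gives injectivity of `Q ⊗_{R'} (R' ⊗ π)` over `R'`. -/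
theorem lTensor_baseChange_injective {R' : Type v} [CommRing R'] [Algebra R R']
    {F : Type*} {M : Type*} [AddCommGroup F] [Module R F] [AddCommGroup M] [Module R M]
    (Q : Type*) [AddCommGroup Q] [Module R Q] [Module R' Q] [IsScalarTower R R' Q]
    (π : F →ₗ[R] M) (hR : Injective (π.lTensor Q)) :
    Injective ((π.baseChange R').lTensor Q) := by
  have hnat : ∀ y, TensorProduct.AlgebraTensorModule.cancelBaseChange R R' R' Q M
      ((π.baseChange R').lTensor Q y) = π.lTensor Q
        (TensorProduct.AlgebraTensorModule.cancelBaseChange R R' R' Q F y) := by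
    intro y
    induction y using TensorProduct.induction_on with
    | zero => simp
    | add a b ha hb => simp only [map_add, ha, hb]
    | tmul q z =>
      induction z using TensorProduct.induction_on with
      | zero => simp
      | add a b ha hb => simp only [TensorProduct.tmul_add, map_add, ha, hb]
      | tmul r f => rfl
  intro y₁ y₂ h
  apply (TensorProduct.AlgebraTensorModule.cancelBaseChange R R' R' Q F).injective
  apply hR
  rw [← hnat, ← hnat, h]

end kernel

section art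

variable {R : Type u} [CommRing R] (𝔪 : Ideal R) [h𝔪 : 𝔪.IsMaximal]
  (R' : Type v) [CommRing R'] [Algebra R R']
  (M : Type w) [AddCommGroup M] [Module R M]

set_option maxHeartbeats 1600000 in
/-- **Flatness descends along injective maps from a local ring with nilpotent maximal ideal.** -/
theorem flat_of_flat_baseChange_of_isNilpotent (hnil : IsNilpotent 𝔪)
    (hinj : Injective (algebraMap R R')) [Module.Flat R' (R' ⊗[R] M)] : Module.Flat R M := by
  classical
  letI : Field (R ⧸ 𝔪) := Ideal.Quotient.field 𝔪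
  let b := Module.Basis.ofVectorSpace (R ⧸ 𝔪) ((R ⧸ 𝔪) ⊗[R] M)
  have hlift : ∀ i, ∃ m : M, (1 : R ⧸ 𝔪) ⊗ₜ[R] m = b i :=
    fun i => TensorProduct.mk_surjective R M (R ⧸ 𝔪) Ideal.Quotient.mk_surjective (b i)
  choose m hm using hlift
  let π : (Module.Basis.ofVectorSpaceIndex (R ⧸ 𝔪) ((R ⧸ 𝔪) ⊗[R] M) →₀ R) →ₗ[R] M :=
    Finsupp.linearCombination R m
  -- `k ⊗ π` is bijective
  have hb : (fun i => (1 : R ⧸ 𝔪) ⊗ₜ[R] m i) = b := funext hm
  have h1 := Finsupp.linearCombination_one_tmul R (R ⧸ 𝔪) M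
    (Module.Basis.ofVectorSpaceIndex (R ⧸ 𝔪) ((R ⧸ 𝔪) ⊗[R] M)) (v := m)
  have hbij : Bijective (π.lTensor (R ⧸ 𝔪)) := by
    have h2 : ⇑(π.lTensor (R ⧸ 𝔪)) = ⇑(Finsupp.linearCombination (R ⧸ 𝔪) b) ∘
        ⇑(TensorProduct.finsuppScalarRight R R (R ⧸ 𝔪)
          (Module.Basis.ofVectorSpaceIndex (R ⧸ 𝔪) ((R ⧸ 𝔪) ⊗[R] M))) := by
      funext z
      have h3 := congrArg (fun φ => φ (TensorProduct.finsuppScalarRight R R (R ⧸ 𝔪)
          (Module.Basis.ofVectorSpaceIndex (R ⧸ 𝔪) ((R ⧸ 𝔪) ⊗[R] M)) z)) h1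
      simp only [LinearMap.coe_restrictScalars, LinearMap.coe_comp, LinearEquiv.coe_coe,
        Function.comp_apply, LinearEquiv.symm_apply_apply] at h3
      rw [Function.comp_apply, ← h3, hb]
    rw [h2]
    refine Bijective.comp ?_ (LinearEquiv.bijective _)
    have h4 : ⇑(Finsupp.linearCombination (R ⧸ 𝔪) b) = ⇑b.repr.symm := by
      rw [← Module.Basis.coe_repr_symm]
      rfl
    rw [h4]
    exact b.repr.symm.bijective
  -- `π` surjective
  have hπsurj : Surjective π := by
    rw [← LinearMap.range_eq_top]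
    apply eq_top_of_sup_smul_eq_top 𝔪 hnil
    rw [eq_top_iff]
    intro x _
    obtain ⟨z, hz⟩ := hbij.2 ((1 : R ⧸ 𝔪) ⊗ₜ[R] x)
    obtain ⟨f, rfl⟩ := TensorProduct.mk_surjective R _ (R ⧸ 𝔪) Ideal.Quotient.mk_surjective z
    have h5 : (1 : R ⧸ 𝔪) ⊗ₜ[R] (x - π f) = 0 := by
      rw [TensorProduct.tmul_sub, ← hz]
      simp
    have h6 := mem_smul_top_of_one_tmul_eq_zero 𝔪 (x - π f) h5
    have : x = π f + (x - π f) := by abel
    rw [this]
    exact Submodule.add_mem _ (Submodule.mem_sup_left ⟨f, rfl⟩) (Submodule.mem_sup_right h6)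
  -- kernel in `𝔪 F`
  have hK : LinearMap.ker π ≤ 𝔪 • ⊤ := by
    intro f hf
    apply mem_smul_top_of_one_tmul_eq_zero 𝔪 f
    apply hbij.1
    rw [LinearMap.lTensor_tmul, LinearMap.mem_ker.mp hf, TensorProduct.tmul_zero, map_zero]
  -- base change to `R'`
  let π' := π.baseChange R'
  have hπ'surj : Surjective π' := LinearMap.lTensor_surjective R' hπsurj
  let I' : Ideal R' := 𝔪.map (algebraMap R R')
  have hI'nil : IsNilpotent I' := by
    obtain ⟨n, hn⟩ := hnil
    refine ⟨n, ?_⟩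
    rw [← Ideal.map_pow, hn, Ideal.zero_eq_bot, Ideal.map_bot]
    rfl
  have hQ : ∀ a ∈ 𝔪, ∀ q : R' ⧸ I', a • q = 0 := by
    intro a ha q
    obtain ⟨r, rfl⟩ := Ideal.Quotient.mk_surjective q
    have : a • (Ideal.Quotient.mk I' r) = Ideal.Quotient.mk I' (algebraMap R R' a * r) := by
      rw [← Algebra.smul_def]
      rfl
    rw [this, Ideal.Quotient.eq_zero_iff_mem]
    exact I'.mul_mem_right _ (Ideal.mem_map_of_mem _ ha)
  have hb' : Injective (π'.lTensor (R' ⧸ I')) :=
    lTensor_baseChange_injective (R' ⧸ I') π (lTensor_injective_of_ker_le 𝔪 hQ π hπsurj hK)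
  have hK' : LinearMap.ker π' = ⊥ := ker_eq_bot_of_lTensor_injective I' hI'nil π' hπ'surj hb'
  have hKer : LinearMap.ker π = ⊥ := by
    rw [LinearMap.ker_eq_bot']
    intro f hf
    have h10 : (1 : R') ⊗ₜ[R] f ∈ LinearMap.ker π' := by
      rw [LinearMap.mem_ker]
      change π.baseChange R' (1 ⊗ₜ f) = 0
      rw [LinearMap.baseChange_tmul, hf, TensorProduct.tmul_zero]
    rw [hK', Submodule.mem_bot] at h10
    haveI : FaithfulSMul R R' := (faithfulSMul_iff_algebraMap_injective R R').mpr hinj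
    have h11 := Module.Flat.tensorProduct_mk_injective (R := R) (S := R')
      (M := (Module.Basis.ofVectorSpaceIndex (R ⧸ 𝔪) ((R ⧸ 𝔪) ⊗[R] M) →₀ R))
    apply h11
    rw [map_zero]
    exact h10
  exact Module.Flat.of_linearEquiv
    (LinearEquiv.ofBijective π ⟨LinearMap.ker_eq_bot.mp hKer, hπsurj⟩).symm

end art

end Groth.Agent.Lib.Helper4.FinInjFlat
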