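import Mathlib
import Groth.Agent.Lib.Helper4.FinInjFlat1
import Groth.Agent.Lib.Helper9.FlatCrit

/-!
# Descent of flatness along finite injective maps of Noetherian rings, arbitrary modules
(Stacks 0530 -- 0533).
-/

set_option autoImplicit false
set_option linter.unusedSectionVars false
set_option linter.style.haveILetI false
universe u v w

open TensorProduct Function

namespace Groth.Agent.Lib.Helper4.FinInjFlat

section transfer

variable {R A B : Type*} [CommRing R] [CommRing A] [CommRing B] [Algebra R A] [Algebra R B]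
  [Algebra A B] [IsScalarTower R A B] (M : Type*) [AddCommGroup M] [Module R M]

theorem flat_baseChange_tower [Module.Flat A (A ⊗[R] M)] : Module.Flat B (B ⊗[R] M) :=
  Module.Flat.of_linearEquiv (AlgebraTensorModule.cancelBaseChange R A B B M).symm

theorem flat_tensor_tensor [Module.Flat B (B ⊗[R] M)] : Module.Flat B (B ⊗[A] (A ⊗[R] M)) :=
  Module.Flat.of_linearEquiv (AlgebraTensorModule.cancelBaseChange R A B B M)

theorem flat_of_tensor_tensor [Module.Flat B (B ⊗[A] (A ⊗[R] M))] : Module.Flat B (B ⊗[R] M) :=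
  Module.Flat.of_linearEquiv (AlgebraTensorModule.cancelBaseChange R A B B M).symm

end transfer

section mono

variable {R : Type*} [CommRing R] (M : Type*) [AddCommGroup M] [Module R M]

/-- flatness of `M/I₁M` over `R/I₁` passes to bigger ideals. -/
theorem flat_quotient_mono {I₁ I₂ : Ideal R} (h : I₁ ≤ I₂)
    [Module.Flat (R ⧸ I₁) ((R ⧸ I₁) ⊗[R] M)] : Module.Flat (R ⧸ I₂) ((R ⧸ I₂) ⊗[R] M) := by
  letI : Algebra (R ⧸ I₁) (R ⧸ I₂) :=
    Ideal.Quotient.algebraQuotientOfLEComap (R := R) (A := R) (p := I₁) (P := I₂)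
      (by simpa using h)
  haveI : IsScalarTower R (R ⧸ I₁) (R ⧸ I₂) := IsScalarTower.of_algebraMap_eq (fun x => rfl)
  exact flat_baseChange_tower (A := R ⧸ I₁) M

end mono

section sq

/-- Stacks 0530. -/
theorem flat_quotient_comap_sq (R R' : Type u) [CommRing R] [CommRing R'] [Algebra R R']
    (I : Ideal R) (M : Type u) [AddCommGroup M] [Module R M]
    [Module.Flat (R ⧸ I) ((R ⧸ I) ⊗[R] M)] [Module.Flat R' (R' ⊗[R] M)] :
    Module.Flat (R ⧸ ((I ^ 2).map (algebraMap R R')).comap (algebraMap R R'))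
      ((R ⧸ ((I ^ 2).map (algebraMap R R')).comap (algebraMap R R')) ⊗[R] M) := by
  set 𝔞 : Ideal R' := (I ^ 2).map (algebraMap R R') with h𝔞
  set I₂ : Ideal R := 𝔞.comap (algebraMap R R') with hI₂
  set Ibar : Ideal (R ⧸ I₂) := I.map (Ideal.Quotient.mk I₂) with hIbar
  have hsq : Ibar ^ 2 = ⊥ := by
    rw [hIbar, ← Ideal.map_pow, Ideal.map_eq_bot_iff_le_ker, Ideal.mk_ker]
    exact Ideal.le_comap_map
  have hnil : IsNilpotent Ibar := ⟨2, hsq⟩
  letI algI : Algebra (R ⧸ I) ((R ⧸ I₂) ⧸ Ibar) :=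
    Ideal.Quotient.algebraQuotientOfLEComap (R := R) (A := R ⧸ I₂) (p := I) (P := Ibar)
      Ideal.le_comap_map
  haveI : IsScalarTower R (R ⧸ I) ((R ⧸ I₂) ⧸ Ibar) :=
    IsScalarTower.of_algebraMap_eq (fun x => rfl)
  haveI h1 : Module.Flat ((R ⧸ I₂) ⧸ Ibar) (((R ⧸ I₂) ⧸ Ibar) ⊗[R] M) :=
    flat_baseChange_tower (A := R ⧸ I) M
  haveI h2 : Module.Flat ((R ⧸ I₂) ⧸ Ibar) (((R ⧸ I₂) ⧸ Ibar) ⊗[R ⧸ I₂] ((R ⧸ I₂) ⊗[R] M)) :=
    flat_tensor_tensor (R := R) (A := R ⧸ I₂) M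
  haveI h3 : Module.Flat (R' ⧸ 𝔞) ((R' ⧸ 𝔞) ⊗[R] M) := flat_baseChange_tower (A := R') M
  haveI h4 : Module.Flat (R' ⧸ 𝔞) ((R' ⧸ 𝔞) ⊗[R ⧸ I₂] ((R ⧸ I₂) ⊗[R] M)) :=
    flat_tensor_tensor (R := R) (A := R ⧸ I₂) M
  have hinj : Injective (algebraMap (R ⧸ I₂) (R' ⧸ 𝔞)) := Ideal.algebraMap_quotient_injective
  refine Groth.Agent.Lib.Helper9.flat_of_isNilpotent_of_rTensor_injective Ibar hnil ?_
  set I' : Ideal (R' ⧸ 𝔞) := Ibar.map (algebraMap (R ⧸ I₂) (R' ⧸ 𝔞)) with hI'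
  have hI'sq : I' ^ 2 = ⊥ := by rw [hI', ← Ideal.map_pow, hsq, Ideal.map_bot]
  let j₁ : Ibar →ₗ[R ⧸ I₂] I' :=
    { toFun := fun a => ⟨algebraMap (R ⧸ I₂) (R' ⧸ 𝔞) a, Ideal.mem_map_of_mem _ a.2⟩
      map_add' := fun a b => Subtype.ext (map_add _ _ _)
      map_smul' := fun r a => Subtype.ext (by
        show algebraMap (R ⧸ I₂) (R' ⧸ 𝔞) (r * (a : R ⧸ I₂)) =
          r • algebraMap (R ⧸ I₂) (R' ⧸ 𝔞) (a : R ⧸ I₂)
        rw [Algebra.smul_def, map_mul]) }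
  have hj₁ : Injective j₁ := fun a b hab => Subtype.ext (hinj (congrArg Subtype.val hab))
  have hA : Module.IsTorsionBySet (R ⧸ I₂) Ibar Ibar := by
    rintro ⟨x, hx⟩ ⟨a, ha⟩
    apply Subtype.ext
    have : a * x ∈ Ibar ^ 2 := by rw [pow_two]; exact Ideal.mul_mem_mul ha hx
    rw [hsq] at this
    simpa using this
  have hB : Module.IsTorsionBySet (R ⧸ I₂) I' Ibar := by
    rintro ⟨x, hx⟩ ⟨a, ha⟩
    apply Subtype.ext
    have : algebraMap (R ⧸ I₂) (R' ⧸ 𝔞) a * x ∈ I' ^ 2 := by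
      rw [pow_two]; exact Ideal.mul_mem_mul (Ideal.mem_map_of_mem _ ha) hx
    rw [hI'sq] at this
    show (a : R ⧸ I₂) • x = 0
    rw [Algebra.smul_def]
    simpa using this
  have i₁ : Injective (j₁.rTensor ((R ⧸ I₂) ⊗[R] M)) :=
    Groth.Agent.Lib.Helper9.rTensor_injective_of_isTorsionBySet ((R ⧸ I₂) ⊗[R] M) Ibar hA hB j₁ hj₁
  have i₂ : Injective ((I'.subtype.restrictScalars (R ⧸ I₂)).rTensor ((R ⧸ I₂) ⊗[R] M)) :=
    Groth.Agent.Lib.Helper9.rTensor_injective_of_flat_baseChange ((R ⧸ I₂) ⊗[R] M) (R' ⧸ 𝔞)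
      I'.subtype I'.injective_subtype
  have hcomp : (I'.subtype.restrictScalars (R ⧸ I₂)) ∘ₗ j₁ =
      (Algebra.linearMap (R ⧸ I₂) (R' ⧸ 𝔞)) ∘ₗ Ibar.subtype := rfl
  have : Injective (((Algebra.linearMap (R ⧸ I₂) (R' ⧸ 𝔞)).rTensor ((R ⧸ I₂) ⊗[R] M)) ∘
      (Ibar.subtype.rTensor ((R ⧸ I₂) ⊗[R] M))) := by
    rw [← LinearMap.coe_comp, ← LinearMap.rTensor_comp, ← hcomp, LinearMap.rTensor_comp,
      LinearMap.coe_comp]
    exact i₂.comp i₁
  exact Injective.of_comp this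

end sq

end Groth.Agent.Lib.Helper4.FinInjFlat
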