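import Mathlib
import Groth.Agent.Lib.Helper4.FinInjFlat3

/-!
# Descent of flatness along finite injective maps of Noetherian rings, arbitrary modules, II
-/

set_option autoImplicit false
set_option linter.unusedSectionVars false
set_option linter.style.haveILetI false
universe u v w

open TensorProduct Function

namespace Groth.Agent.Lib.Helper4.FinInjFlat

open Groth.Agent.Lib.Helper9 (TorOneVanish)

section iter

variable (R S : Type u) [CommRing R] [CommRing S] [Algebra R S] (M : Type u) [AddCommGroup M]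
  [Module R M]

/-- the iterated ideals `J_{k+1} = φ⁻¹(J_k² S)`. -/
def iterIdeal (J : Ideal R) : ℕ → Ideal R
  | 0 => J
  | k + 1 => (((iterIdeal J k) ^ 2).map (algebraMap R S)).comap (algebraMap R S)

theorem flat_iterIdeal [Module.Flat S (S ⊗[R] M)] (J : Ideal R)
    [Module.Flat (R ⧸ J) ((R ⧸ J) ⊗[R] M)] (k : ℕ) :
    Module.Flat (R ⧸ iterIdeal R S J k) ((R ⧸ iterIdeal R S J k) ⊗[R] M) := by
  induction k with
  | zero => exact ‹Module.Flat (R ⧸ J) ((R ⧸ J) ⊗[R] M)›
  | succ k ih =>
    haveI := ih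
    exact flat_quotient_comap_sq R S (iterIdeal R S J k) M

theorem map_iterIdeal_le (J : Ideal R) (k : ℕ) :
    (iterIdeal R S J k).map (algebraMap R S) ≤ (J ^ (2 ^ k)).map (algebraMap R S) := by
  induction k with
  | zero => simp [iterIdeal]
  | succ k ih =>
    calc (iterIdeal R S J (k + 1)).map (algebraMap R S)
        ≤ ((iterIdeal R S J k) ^ 2).map (algebraMap R S) := Ideal.map_comap_le
      _ = ((iterIdeal R S J k).map (algebraMap R S)) ^ 2 := Ideal.map_pow _ _ _
      _ ≤ ((J ^ (2 ^ k)).map (algebraMap R S)) ^ 2 := Ideal.pow_right_mono ih 2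
      _ = (J ^ (2 ^ (k + 1))).map (algebraMap R S) := by
          rw [← Ideal.map_pow, ← pow_mul, pow_succ]

/-- Lemma B: if `M/JM` is flat over `R/J` and `φ⁻¹(Jⁿ S) ≤ I`, then `M/IM` is flat over `R/I`. -/
theorem flat_quotient_of_comap_map_pow_le [Module.Flat S (S ⊗[R] M)] (I J : Ideal R)
    [Module.Flat (R ⧸ J) ((R ⧸ J) ⊗[R] M)] (n : ℕ)
    (h : ((J ^ n).map (algebraMap R S)).comap (algebraMap R S) ≤ I) :
    Module.Flat (R ⧸ I) ((R ⧸ I) ⊗[R] M) := by
  haveI := flat_iterIdeal R S M J n
  refine flat_quotient_mono M (I₁ := iterIdeal R S J n) ?_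
  calc iterIdeal R S J n
      ≤ ((iterIdeal R S J n).map (algebraMap R S)).comap (algebraMap R S) := Ideal.le_comap_map
    _ ≤ ((J ^ (2 ^ n)).map (algebraMap R S)).comap (algebraMap R S) :=
        Ideal.comap_mono (map_iterIdeal_le R S J n)
    _ ≤ ((J ^ n).map (algebraMap R S)).comap (algebraMap R S) :=
        Ideal.comap_mono (Ideal.map_mono (Ideal.pow_le_pow_right (Nat.lt_two_pow_self).le))
    _ ≤ I := h

end iter

section ArtinRees

variable (R S : Type u) [CommRing R] [CommRing S] [Algebra R S] [IsNoetherianRing R]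
  [Module.Finite R S]

/-- Artin–Rees for a finite injective ring map. -/
theorem exists_comap_map_pow_le (hinj : Injective (algebraMap R S)) (I : Ideal R) :
    ∃ k : ℕ, ∀ n : ℕ, ((I ^ (n + k)).map (algebraMap R S)).comap (algebraMap R S) ≤ I ^ n := by
  obtain ⟨k, hk⟩ := Ideal.exists_pow_inf_eq_pow_smul I
    (LinearMap.range (Algebra.linearMap R S))
  refine ⟨k, fun n => ?_⟩
  intro a ha
  have h1 : algebraMap R S a ∈ (I ^ (n + k) • (⊤ : Submodule R S)) ⊓
      LinearMap.range (Algebra.linearMap R S) := by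
    refine ⟨?_, ⟨a, rfl⟩⟩
    rw [Ideal.smul_top_eq_map]
    exact ha
  rw [hk (n + k) (by omega)] at h1
  have h2 : ∀ x ∈ (I ^ (n + k - k)) •
      ((I ^ k • (⊤ : Submodule R S)) ⊓ LinearMap.range (Algebra.linearMap R S)),
      ∃ a' ∈ I ^ n, algebraMap R S a' = x := by
    intro x hx
    refine Submodule.smul_induction_on hx ?_ ?_
    · rintro r hr _ ⟨_, ⟨y, rfl⟩⟩
      refine ⟨r * y, Ideal.mul_mem_right _ _ (by simpa using hr), ?_⟩
      rw [Algebra.linearMap_apply, Algebra.smul_def, map_mul]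
    · rintro _ _ ⟨a₁, ha₁, rfl⟩ ⟨a₂, ha₂, rfl⟩
      exact ⟨a₁ + a₂, Ideal.add_mem _ ha₁ ha₂, map_add _ _ _⟩
  obtain ⟨a', ha', hEq⟩ := h2 _ h1
  rw [← hinj hEq]
  exact ha'

end ArtinRees

section TorUtil

variable {R : Type u} [CommRing R] {M : Type v} [AddCommGroup M] [Module R M]

theorem TorOneVanish.of_linearEquiv {N N' : Type u} [AddCommGroup N] [Module R N]
    [AddCommGroup N'] [Module R N'] (e : N ≃ₗ[R] N') (h : TorOneVanish R M N) :
    TorOneVanish R M N' := by
  intro K P _ _ _ _ f g hf hfg hg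
  refine h K P f (e.symm.toLinearMap ∘ₗ g) hf ?_ (e.symm.surjective.comp hg)
  intro p
  rw [LinearMap.comp_apply, LinearEquiv.coe_coe, LinearEquiv.map_eq_zero_iff]
  exact hfg p

theorem TorOneVanish.of_flat {N : Type u} [AddCommGroup N] [Module R N] [Module.Flat R N] :
    TorOneVanish R M N := by
  intro K P _ _ _ _ f g hf hfg hg
  have h := LinearMap.lTensor_injective_of_exact_of_flat (M := K) g hg f hf hfg M
  have hcomm : f.rTensor M = (TensorProduct.comm R M P).toLinearMap ∘ₗ f.lTensor M ∘ₗ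
      (TensorProduct.comm R K M).toLinearMap := by
    ext k m
    simp
  rw [hcomm]
  exact (TensorProduct.comm R M P).injective.comp (h.comp (TensorProduct.comm R K M).injective)

theorem TorOneVanish.of_exact {N₁ N₂ N₃ : Type u} [AddCommGroup N₁] [Module R N₁]
    [AddCommGroup N₂] [Module R N₂] [AddCommGroup N₃] [Module R N₃]
    (f : N₁ →ₗ[R] N₂) (g : N₂ →ₗ[R] N₃) (hf : Injective f) (hg : Surjective g)
    (hfg : Exact f g) (h1 : TorOneVanish R M N₁) (h3 : TorOneVanish R M N₃) :
    TorOneVanish R M N₂ := by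
  refine Groth.Agent.Lib.Helper9.TorOneVanish.of_submodule_of_quotient (LinearMap.ker g) ?_ ?_
  · have hr : LinearMap.range f = LinearMap.ker g := (LinearMap.exact_iff.mp hfg).symm
    let e : N₁ ≃ₗ[R] LinearMap.ker g :=
      (LinearEquiv.ofInjective f hf).trans (LinearEquiv.ofEq _ _ hr)
    exact TorOneVanish.of_linearEquiv e h1
  · exact TorOneVanish.of_linearEquiv (g.quotKerEquivOfSurjective hg).symm h3

/-- Over a Noetherian ring, `Tor₁(R/𝔭, M) = 0` for all primes implies flatness. -/
theorem flat_of_torOneVanish_primes [IsNoetherianRing R]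
    (h : ∀ p : PrimeSpectrum R, TorOneVanish R M (R ⧸ p.asIdeal)) : Module.Flat R M := by
  have key : ∀ (N : Type u) [AddCommGroup N] [Module R N] [Module.Finite R N],
      TorOneVanish R M N := by
    intro N _ _ hN
    induction hN using IsNoetherianRing.induction_on_isQuotientEquivQuotientPrime R with
    | subsingleton N =>
      haveI : Module.Flat R N := inferInstance
      exact TorOneVanish.of_flat
    | quotient N p e => exact TorOneVanish.of_linearEquiv e.symm (h p)
    | exact N₁ N₂ N₃ f g hf hg hfg h1 h3 => exact TorOneVanish.of_exact f g hf hg hfg h1 h3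
  rw [Module.Flat.iff_rTensor_injective']
  intro J
  exact key (R ⧸ J) J R J.subtype J.mkQ J.injective_subtype (LinearMap.exact_subtype_mkQ J)
    J.mkQ_surjective

end TorUtil

end Groth.Agent.Lib.Helper4.FinInjFlat
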