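import Mathlib
import Groth.Agent.Lib.Helper4.FinInjFlat4

/-!
# Descent of flatness along finite injective maps of Noetherian rings, arbitrary modules, III
-/

set_option autoImplicit false
set_option linter.unusedSectionVars false
set_option linter.style.haveILetI false
universe u v w

open TensorProduct Function

namespace Groth.Agent.Lib.Helper4.FinInjFlat

open Groth.Agent.Lib.Helper9 (TorOneVanish)

section bot

variable {R : Type*} [CommRing R] (M : Type*) [AddCommGroup M] [Module R M]

theorem flat_of_flat_quotient_bot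
    [Module.Flat (R ⧸ (⊥ : Ideal R)) ((R ⧸ (⊥ : Ideal R)) ⊗[R] M)] : Module.Flat R M := by
  let e : (R ⧸ (⊥ : Ideal R)) ≃ₗ[R] R := Submodule.quotEquivOfEqBot ⊥ rfl
  haveI : Module.Flat R (R ⧸ (⊥ : Ideal R)) := Module.Flat.of_linearEquiv e
  haveI : Module.Flat R ((R ⧸ (⊥ : Ideal R)) ⊗[R] M) :=
    Module.Flat.trans R (R ⧸ (⊥ : Ideal R)) _
  exact Module.Flat.of_linearEquiv
    ((TensorProduct.lid R M).symm ≪≫ₗ TensorProduct.congr e.symm (LinearEquiv.refl R M))

end bot

section general

variable {R : Type u} [CommRing R] (M : Type u) [AddCommGroup M] [Module R M]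

/-- If `I ⊓ I' = ⊥` and `M/I'M` is flat over `R/I'`, then `I ⊗ M → M` is injective. -/
theorem rTensor_injective_of_inf_eq_bot (I I' : Ideal R) (h : I ⊓ I' = ⊥)
    [Module.Flat (R ⧸ I') ((R ⧸ I') ⊗[R] M)] : Injective (I.subtype.rTensor M) := by
  let j : I →ₗ[R] R ⧸ I' := I'.mkQ ∘ₗ I.subtype
  have hj : Injective j := by
    rw [injective_iff_map_eq_zero]
    rintro ⟨x, hx⟩ h0
    have hx' : x ∈ I' := by
      have : Ideal.Quotient.mk I' x = 0 := h0
      rwa [Ideal.Quotient.eq_zero_iff_mem] at this
    have : x ∈ I ⊓ I' := ⟨hx, hx'⟩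
    rw [h] at this
    exact Subtype.ext (by simpa using this)
  have hA : Module.IsTorsionBySet R I I' := by
    rintro ⟨x, hx⟩ ⟨a, ha⟩
    apply Subtype.ext
    have : a * x ∈ I ⊓ I' := ⟨I.mul_mem_left a hx, I'.mul_mem_right x ha⟩
    rw [h] at this
    simpa using this
  have hB : Module.IsTorsionBySet R (R ⧸ I') I' := by
    intro x a
    obtain ⟨y, rfl⟩ := Ideal.Quotient.mk_surjective x
    obtain ⟨a, ha⟩ := a
    show a • Ideal.Quotient.mk I' y = 0
    rw [← Ideal.Quotient.mk_eq_mk, ← Submodule.Quotient.mk_smul,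
      Submodule.Quotient.mk_eq_zero]
    exact I'.mul_mem_right y ha
  have i₁ : Injective (j.rTensor M) :=
    Groth.Agent.Lib.Helper9.rTensor_injective_of_isTorsionBySet M I' hA hB j hj
  have : j.rTensor M = (I'.mkQ.rTensor M) ∘ₗ (I.subtype.rTensor M) := LinearMap.rTensor_comp _ _ _
  rw [this, LinearMap.coe_comp] at i₁
  exact Injective.of_comp i₁

/-- for a flat module, if `a² = 0` and `ann(a) = (a)`, then `ker(a on N) = aN`. -/
theorem exists_smul_eq_of_flat {A : Type*} [CommRing A] {N : Type*} [AddCommGroup N] [Module A N]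
    [Module.Flat A N] (a : A) (ha2 : a * a = 0) (hann : ∀ y : A, a * y = 0 → ∃ z, a * z = y)
    (n : N) (hn : a • n = 0) : ∃ n' : N, a • n' = n := by
  let f : A →ₗ[A] A := LinearMap.lsmul A A a
  have hex : Exact f f := by
    intro y
    constructor
    · intro hy
      obtain ⟨z, hz⟩ := hann y hy
      exact ⟨z, hz⟩
    · rintro ⟨z, rfl⟩
      show a * (a * z) = 0
      rw [← mul_assoc, ha2, zero_mul]
  have hex' := Module.Flat.rTensor_exact N hex
  have h1 : (f.rTensor N) ((1 : A) ⊗ₜ[A] n) = 0 := by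
    rw [LinearMap.rTensor_tmul]
    show (a • (1 : A)) ⊗ₜ[A] n = 0
    rw [TensorProduct.smul_tmul, hn, TensorProduct.tmul_zero]
  obtain ⟨w, hw⟩ := (hex' _).mp h1
  have hlid : ∀ w : A ⊗[A] N, TensorProduct.lid A N ((f.rTensor N) w) =
      a • TensorProduct.lid A N w := by
    intro w
    induction w using TensorProduct.induction_on with
    | zero => simp
    | add x y hx hy => simp only [map_add, hx, hy, smul_add]
    | tmul y m =>
      rw [LinearMap.rTensor_tmul, TensorProduct.lid_tmul, TensorProduct.lid_tmul]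
      show (a • y) • m = a • y • m
      rw [smul_assoc]
  refine ⟨TensorProduct.lid A N w, ?_⟩
  rw [← hlid, hw, TensorProduct.lid_tmul, one_smul]

end general

section lam

variable (R S' : Type u) [CommRing R] [IsDomain R] [CommRing S'] [Algebra R S']
  [Module.Finite R S']

/-- A finite extension of a domain admits a linear functional not vanishing at `1`. -/
theorem exists_linearMap_one_ne_zero (hinj : Injective (algebraMap R S')) :
    ∃ l : S' →ₗ[R] R, l 1 ≠ 0 := by
  classical
  let K := Localization (nonZeroDivisors R)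
  let V := LocalizedModule (nonZeroDivisors R) S'
  let ι : S' →ₗ[R] V := LocalizedModule.mkLinearMap (nonZeroDivisors R) S'
  have hv : ι 1 ≠ 0 := by
    intro h0
    obtain ⟨s, hs⟩ := (IsLocalizedModule.eq_zero_iff (nonZeroDivisors R) ι).mp h0
    have h1 : algebraMap R S' (s : R) = 0 := by
      have : (s : R) • (1 : S') = 0 := hs
      rwa [Algebra.smul_def, mul_one] at this
    have h2 : (s : R) = 0 := hinj (by rw [h1, map_zero])
    exact nonZeroDivisors.coe_ne_zero s h2
  obtain ⟨μ, hμ⟩ := Module.Projective.exists_dual_ne_zero K hv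
  obtain ⟨r, g, hg⟩ := Module.Finite.exists_fin (R := R) (M := S')
  obtain ⟨b, hb⟩ := IsLocalization.exist_integer_multiples_of_finite (nonZeroDivisors R)
    (fun i => μ (ι (g i)))
  let l₀ : S' →ₗ[R] K := (b : R) • ((μ.restrictScalars R) ∘ₗ ι)
  have hrange : ∀ s : S', l₀ s ∈ LinearMap.range (Algebra.linearMap R K) := by
    intro s
    have hs : s ∈ Submodule.span R (Set.range g) := by rw [hg]; trivial
    refine Submodule.span_induction (p := fun s _ => l₀ s ∈ LinearMap.range (Algebra.linearMap R K))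
      ?_ ?_ ?_ ?_ hs
    · rintro _ ⟨i, rfl⟩
      obtain ⟨c, hc⟩ := hb i
      exact ⟨c, hc⟩
    · rw [map_zero]; exact Submodule.zero_mem _
    · intro x y _ _ hx hy
      rw [map_add]; exact Submodule.add_mem _ hx hy
    · intro c x _ hx
      rw [map_smul]; exact Submodule.smul_mem _ c hx
  let e : R ≃ₗ[R] LinearMap.range (Algebra.linearMap R K) :=
    LinearEquiv.ofInjective (Algebra.linearMap R K) (IsFractionRing.injective R K)
  let l : S' →ₗ[R] R := e.symm.toLinearMap ∘ₗ (l₀.codRestrict _ hrange)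
  refine ⟨l, ?_⟩
  intro h0
  have h1 : l₀.codRestrict _ hrange 1 = 0 := by
    have : e.symm (l₀.codRestrict _ hrange 1) = 0 := h0
    rwa [LinearEquiv.map_eq_zero_iff] at this
  have h2 : l₀ 1 = 0 := congrArg Subtype.val h1
  have h3 : (b : R) • μ (ι 1) = 0 := h2
  rw [Algebra.smul_def, mul_eq_zero] at h3
  rcases h3 with h3 | h3
  · have : (b : R) = 0 := IsFractionRing.injective R K (by rw [h3, map_zero])
    exact nonZeroDivisors.coe_ne_zero b this
  · exact hμ h3

end lam

end Groth.Agent.Lib.Helper4.FinInjFlat
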