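import Mathlib
import Groth.Agent.Lib.Helper4.FinInjFlat5

/-!
# Descent of flatness along finite injective maps of Noetherian rings, arbitrary modules, IV
-/

set_option autoImplicit false
set_option linter.unusedSectionVars false
set_option linter.style.haveILetI false
universe u v w

open TensorProduct Function

namespace Groth.Agent.Lib.Helper4.FinInjFlat

open Groth.Agent.Lib.Helper9 (TorOneVanish)

section principal

variable {R : Type u} [CommRing R] (M : Type u) [AddCommGroup M] [Module R M]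

theorem rTensor_span_singleton_injective (g : R) (hg : ∀ m : M, g • m = 0 → m = 0) :
    Injective ((Ideal.span {g}).subtype.rTensor M) := by
  have hgmem : g ∈ Ideal.span {g} := Ideal.mem_span_singleton_self g
  have hform : ∀ z : (Ideal.span {g} : Ideal R) ⊗[R] M,
      ∃ m : M, z = (⟨g, hgmem⟩ : (Ideal.span {g} : Ideal R)) ⊗ₜ[R] m := by
    intro z
    induction z using TensorProduct.induction_on with
    | zero => exact ⟨0, (TensorProduct.tmul_zero _ _).symm⟩
    | add x y hx hy =>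
      obtain ⟨m₁, rfl⟩ := hx
      obtain ⟨m₂, rfl⟩ := hy
      exact ⟨m₁ + m₂, (TensorProduct.tmul_add _ _ _).symm⟩
    | tmul a m =>
      obtain ⟨a, ha⟩ := a
      obtain ⟨r, rfl⟩ := Ideal.mem_span_singleton'.mp ha
      refine ⟨r • m, ?_⟩
      rw [← TensorProduct.smul_tmul]
      rfl
  rw [injective_iff_map_eq_zero]
  intro z hz
  obtain ⟨m, rfl⟩ := hform z
  have h1 : TensorProduct.lid R M ((Ideal.span {g}).subtype.rTensor M
      ((⟨g, hgmem⟩ : (Ideal.span {g} : Ideal R)) ⊗ₜ[R] m)) = g • m := by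
    rw [LinearMap.rTensor_tmul, TensorProduct.lid_tmul]
    rfl
  rw [hz, map_zero] at h1
  rw [hg m h1.symm, TensorProduct.tmul_zero]

theorem isTorsionBySet_quotient_of_le {I J : Ideal R} (h : I ≤ J) :
    Module.IsTorsionBySet R (R ⧸ J) I := by
  intro x a
  obtain ⟨y, rfl⟩ := Ideal.Quotient.mk_surjective x
  obtain ⟨a, ha⟩ := a
  show a • Ideal.Quotient.mk J y = 0
  rw [← Ideal.Quotient.mk_eq_mk, ← Submodule.Quotient.mk_smul, Submodule.Quotient.mk_eq_zero]
  exact J.mul_mem_right y (h ha)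

end principal

section domain

variable {R S : Type u} [CommRing R] [IsNoetherianRing R] [IsDomain R] [CommRing S] [Algebra R S]
  [Module.Finite R S] (M : Type u) [AddCommGroup M] [Module R M] [Module.Flat S (S ⊗[R] M)]

set_option maxHeartbeats 1000000 in
theorem flat_of_isDomain (hinj : Injective (algebraMap R S))
    (H : ∀ I : Ideal R, I ≠ ⊥ → Module.Flat (R ⧸ I) ((R ⧸ I) ⊗[R] M)) : Module.Flat R M := by
  haveI : Algebra.IsIntegral R S := Algebra.IsIntegral.of_finite R S
  obtain ⟨𝔮, -, h𝔮p, h𝔮⟩ := Ideal.exists_ideal_over_prime_of_isIntegral (⊥ : Ideal R)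
    (⊥ : Ideal S) (by
      rw [← RingHom.ker_eq_comap_bot, (RingHom.injective_iff_ker_eq_bot _).mp hinj])
  haveI := h𝔮p
  have hinj' : Injective (algebraMap R (S ⧸ 𝔮)) := by
    rw [injective_iff_map_eq_zero]
    intro x hx
    have h1 : Ideal.Quotient.mk 𝔮 (algebraMap R S x) = 0 := hx
    rw [Ideal.Quotient.eq_zero_iff_mem] at h1
    have h2 : x ∈ 𝔮.comap (algebraMap R S) := h1
    rw [h𝔮] at h2
    simpa using h2
  haveI : Module.Flat (S ⧸ 𝔮) ((S ⧸ 𝔮) ⊗[R] M) := flat_baseChange_tower (A := S) M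
  obtain ⟨l, hl⟩ := exists_linearMap_one_ne_zero R (S ⧸ 𝔮) hinj'
  obtain ⟨f₀, hf₀⟩ : ∃ f₀ : R, f₀ = l 1 := ⟨_, rfl⟩
  rw [← hf₀] at hl
  let ι : M →ₗ[R] (S ⧸ 𝔮) ⊗[R] M := TensorProduct.mk R (S ⧸ 𝔮) M 1
  let Λ : (S ⧸ 𝔮) ⊗[R] M →ₗ[R] M := (TensorProduct.lid R M).toLinearMap ∘ₗ l.rTensor M
  have hΛ : ∀ m, Λ (ι m) = f₀ • m := fun m => by
    simp only [Λ, ι, LinearMap.comp_apply, TensorProduct.mk_apply, LinearMap.rTensor_tmul,
      LinearEquiv.coe_coe, TensorProduct.lid_tmul, hf₀]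
  have h5 : ∀ g : R, g ≠ 0 → ∀ m : M, g • m = 0 → ι m = 0 := by
    intro g hg m hm
    have hnzd : algebraMap R (S ⧸ 𝔮) g ∈ nonZeroDivisors (S ⧸ 𝔮) :=
      mem_nonZeroDivisors_of_ne_zero
        (fun h : algebraMap R (S ⧸ 𝔮) g = 0 => hg (hinj' (by rw [h, map_zero])))
    have hreg := Module.Flat.isSMulRegular_of_nonZeroDivisors (R := S ⧸ 𝔮)
      (M := (S ⧸ 𝔮) ⊗[R] M) hnzd
    apply hreg
    show algebraMap R (S ⧸ 𝔮) g • ι m = algebraMap R (S ⧸ 𝔮) g • 0
    rw [smul_zero, algebraMap_smul (S ⧸ 𝔮) g (ι m), ← LinearMap.map_smul ι g m, hm, map_zero]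
  have h6 : ∀ x : M, f₀ • x = 0 → x = 0 := by
    intro x hx
    have hI : Ideal.span {f₀ * f₀} ≠ ⊥ := by
      rw [Ne, Ideal.span_singleton_eq_bot]
      exact mul_ne_zero hl hl
    haveI := H _ hI
    have ha2 : (Ideal.Quotient.mk (Ideal.span {f₀ * f₀}) f₀) *
        (Ideal.Quotient.mk (Ideal.span {f₀ * f₀}) f₀) = 0 := by
      rw [← map_mul, Ideal.Quotient.eq_zero_iff_mem]
      exact Ideal.mem_span_singleton_self _
    have hann : ∀ y : R ⧸ Ideal.span {f₀ * f₀},
        (Ideal.Quotient.mk (Ideal.span {f₀ * f₀}) f₀) * y = 0 →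
        ∃ z, (Ideal.Quotient.mk (Ideal.span {f₀ * f₀}) f₀) * z = y := by
      intro y hy
      obtain ⟨y₀, rfl⟩ := Ideal.Quotient.mk_surjective y
      rw [← map_mul, Ideal.Quotient.eq_zero_iff_mem, Ideal.mem_span_singleton] at hy
      obtain ⟨t, ht⟩ := hy
      refine ⟨Ideal.Quotient.mk _ t, ?_⟩
      rw [← map_mul]
      congr 1
      exact (mul_left_cancel₀ hl (by rw [ht]; ring)).symm
    have hmk : (Ideal.Quotient.mk (Ideal.span {f₀ * f₀}) f₀) =
        f₀ • (1 : R ⧸ Ideal.span {f₀ * f₀}) := by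
      rw [Algebra.smul_def, mul_one]; rfl
    have hn : (Ideal.Quotient.mk (Ideal.span {f₀ * f₀}) f₀) •
        ((1 : R ⧸ Ideal.span {f₀ * f₀}) ⊗ₜ[R] x) = 0 := by
      rw [TensorProduct.smul_tmul', smul_eq_mul, mul_one, hmk, TensorProduct.smul_tmul, hx,
        TensorProduct.tmul_zero]
    obtain ⟨n', hn'⟩ := exists_smul_eq_of_flat (A := R ⧸ Ideal.span {f₀ * f₀})
      (N := (R ⧸ Ideal.span {f₀ * f₀}) ⊗[R] M) _ ha2 hann _ hn
    obtain ⟨y, rfl⟩ := TensorProduct.mk_surjective R M (R ⧸ Ideal.span {f₀ * f₀})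
      Ideal.Quotient.mk_surjective n'
    have h7 : (1 : R ⧸ Ideal.span {f₀ * f₀}) ⊗ₜ[R] (x - f₀ • y) = 0 := by
      rw [TensorProduct.tmul_sub, ← hn', sub_eq_zero, TensorProduct.mk_apply,
        TensorProduct.smul_tmul', smul_eq_mul, mul_one, hmk, TensorProduct.smul_tmul]
    have h8 := mem_smul_top_of_one_tmul_eq_zero (Ideal.span {f₀ * f₀}) _ h7
    rw [Submodule.ideal_span_singleton_smul] at h8
    obtain ⟨z, -, hz⟩ := (Submodule.mem_smul_pointwise_iff_exists _ _ _).mp h8
    have hxy : x = f₀ • (y + f₀ • z) := by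
      rw [smul_add, smul_smul, hz]
      abel
    have hy' : (f₀ * f₀) • (y + f₀ • z) = 0 := by rw [mul_smul, ← hxy, hx]
    have h9 : ι (y + f₀ • z) = 0 := h5 (f₀ * f₀) (mul_ne_zero hl hl) _ hy'
    have h10 : f₀ • (y + f₀ • z) = 0 := by rw [← hΛ, h9, map_zero]
    rw [hxy, h10]
  have h7 : ∀ g : R, g ≠ 0 → ∀ m : M, g • m = 0 → m = 0 := by
    intro g hg m hm
    apply h6
    rw [← hΛ, h5 g hg m hm, map_zero]
  refine flat_of_torOneVanish_primes (fun p => ?_)
  by_cases hp : p.asIdeal = ⊥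
  · haveI : Module.Flat R (R ⧸ p.asIdeal) := by
      rw [hp]
      exact Module.Flat.of_linearEquiv (Submodule.quotEquivOfEqBot ⊥ rfl)
    exact TorOneVanish.of_flat
  · obtain ⟨g, hgp, hg0⟩ : ∃ g ∈ p.asIdeal, g ≠ 0 := Submodule.exists_mem_ne_zero_of_ne_bot hp
    have hI : Ideal.span {g} ≠ ⊥ := by
      rw [Ne, Ideal.span_singleton_eq_bot]; exact hg0
    haveI := H _ hI
    have hinjI : Injective ((Ideal.span {g}).subtype.rTensor M) :=
      rTensor_span_singleton_injective M g (h7 g hg0)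
    refine Groth.Agent.Lib.Helper9.torOneVanish_of_isTorsionBySet (Ideal.span {g}) hinjI ?_
    exact isTorsionBySet_quotient_of_le
      ((Ideal.span_singleton_le_iff_mem _).mpr hgp)

end domain

section nondomain

variable {R : Type u} [CommRing R] [IsNoetherianRing R] (M : Type u) [AddCommGroup M] [Module R M]

theorem flat_of_isReduced_of_not_isDomain [IsReduced R] (hD : ¬ IsDomain R)
    (H : ∀ I : Ideal R, I ≠ ⊥ → Module.Flat (R ⧸ I) ((R ⧸ I) ⊗[R] M)) : Module.Flat R M := by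
  by_cases hsub : Subsingleton R
  · haveI := hsub
    haveI : Subsingleton M := Module.subsingleton R M
    infer_instance
  haveI : Nontrivial R := not_subsingleton_iff_nontrivial.mp hsub
  obtain ⟨a, b, ha, hb, hab⟩ : ∃ a b : R, a ≠ 0 ∧ b ≠ 0 ∧ a * b = 0 := by
    by_contra hno
    push Not at hno
    apply hD
    haveI : NoZeroDivisors R := ⟨fun {x y} hxy => by
      by_contra h
      push Not at h
      exact hno x y h.1 h.2 hxy⟩
    exact NoZeroDivisors.to_isDomain R
  set I : Ideal R := (Ideal.span {a} : Ideal R).annihilator with hIdef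
  set I' : Ideal R := (I : Submodule R R).annihilator with hI'def
  have hbI : b ∈ I := by
    rw [hIdef, Submodule.mem_annihilator_span_singleton]
    show b * a = 0
    rw [mul_comm]; exact hab
  have haI' : a ∈ I' := by
    rw [hI'def, Submodule.mem_annihilator]
    intro x hx
    rw [hIdef, Submodule.mem_annihilator_span_singleton] at hx
    show a * x = 0
    rw [mul_comm]; exact hx
  have hI0 : I ≠ ⊥ := fun h => hb (by rw [h] at hbI; simpa using hbI)
  have hI'0 : I' ≠ ⊥ := fun h => ha (by rw [h] at haI'; simpa using haI')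
  have hinf : I ⊓ I' = ⊥ := by
    rw [eq_bot_iff]
    rintro x ⟨hx, hx'⟩
    have : x * x = 0 := (Submodule.mem_annihilator.mp hx') x hx
    have hnil : IsNilpotent x := ⟨2, by rw [pow_two]; exact this⟩
    simpa using hnil.eq_zero
  haveI := H I hI0
  haveI := H I' hI'0
  have hinjI : Injective (I.subtype.rTensor M) := rTensor_injective_of_inf_eq_bot M I I' hinf
  have hinjI' : Injective (I'.subtype.rTensor M) :=
    rTensor_injective_of_inf_eq_bot M I' I (by rw [inf_comm]; exact hinf)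
  refine flat_of_torOneVanish_primes (fun p => ?_)
  have hmul : I * I' ≤ p.asIdeal := by
    refine le_trans Ideal.mul_le_inf ?_
    rw [hinf]; exact bot_le
  rcases (p.isPrime.mul_le).mp hmul with h | h
  · exact Groth.Agent.Lib.Helper9.torOneVanish_of_isTorsionBySet I hinjI
      (isTorsionBySet_quotient_of_le h)
  · exact Groth.Agent.Lib.Helper9.torOneVanish_of_isTorsionBySet I' hinjI'
      (isTorsionBySet_quotient_of_le h)

end nondomain

section setting

variable {R S : Type u} [CommRing R] [IsNoetherianRing R] [CommRing S] [Algebra R S]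
  [Module.Finite R S] (M : Type u) [AddCommGroup M] [Module R M] [Module.Flat S (S ⊗[R] M)]

theorem flat_of_nilradical_ne_bot (hinj : Injective (algebraMap R S))
    (H : ∀ I : Ideal R, I ≠ ⊥ → Module.Flat (R ⧸ I) ((R ⧸ I) ⊗[R] M))
    (hN : nilradical R ≠ ⊥) : Module.Flat R M := by
  haveI := H _ hN
  obtain ⟨n, hn⟩ := IsNoetherianRing.isNilpotent_nilradical R
  haveI : Module.Flat (R ⧸ (⊥ : Ideal R)) ((R ⧸ (⊥ : Ideal R)) ⊗[R] M) := by
    refine flat_quotient_of_comap_map_pow_le R S M ⊥ (nilradical R) n ?_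
    rw [hn, Ideal.zero_eq_bot, Ideal.map_bot, ← RingHom.ker_eq_comap_bot,
      (RingHom.injective_iff_ker_eq_bot _).mp hinj]
  exact flat_of_flat_quotient_bot M

theorem flat_of_forall_ne_bot (hinj : Injective (algebraMap R S))
    (H : ∀ I : Ideal R, I ≠ ⊥ → Module.Flat (R ⧸ I) ((R ⧸ I) ⊗[R] M)) : Module.Flat R M := by
  by_cases hN : nilradical R = ⊥
  · haveI : IsReduced R := nilradical_eq_bot_iff.mp hN
    by_cases hD : IsDomain R
    · exact flat_of_isDomain M hinj H
    · exact flat_of_isReduced_of_not_isDomain M hD H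
  · exact flat_of_nilradical_ne_bot M hinj H hN

end setting

end Groth.Agent.Lib.Helper4.FinInjFlat
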