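import Mathlib
import Groth.Agent.Lib.Helper4.FinInjFlat6

/-!
# Descent of flatness along finite injective maps of Noetherian rings, arbitrary modules: main
theorem (Stacks 0533)
-/

set_option autoImplicit false
set_option linter.unusedSectionVars false
set_option linter.style.haveILetI false
universe u v w

open TensorProduct Function

namespace Groth.Agent.Lib.Helper4.FinInjFlat

section main

variable (R S : Type u) [CommRing R] [IsNoetherianRing R] [CommRing S] [Algebra R S]
  [Module.Finite R S] (M : Type u) [AddCommGroup M] [Module R M] [Module.Flat S (S ⊗[R] M)]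

set_option maxHeartbeats 1000000 in
theorem flat_quotient_step (hinj : Injective (algebraMap R S)) (I : Ideal R)
    (IH : ∀ J : Ideal R, I < J → Module.Flat (R ⧸ J) ((R ⧸ J) ⊗[R] M)) :
    Module.Flat (R ⧸ I) ((R ⧸ I) ⊗[R] M) := by
  · by_cases hJ : (I.map (algebraMap R S)).comap (algebraMap R S) = I
    · have hinj' : Injective (algebraMap (R ⧸ (I.map (algebraMap R S)).comap (algebraMap R S))
          (S ⧸ I.map (algebraMap R S))) := Ideal.algebraMap_quotient_injective
      haveI : Module.Finite (R ⧸ (I.map (algebraMap R S)).comap (algebraMap R S))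
          (S ⧸ I.map (algebraMap R S)) := Module.Finite.of_restrictScalars_finite R _ _
      haveI : Module.Flat (S ⧸ I.map (algebraMap R S)) ((S ⧸ I.map (algebraMap R S)) ⊗[R] M) :=
        flat_baseChange_tower (A := S) M
      haveI : Module.Flat (S ⧸ I.map (algebraMap R S))
          ((S ⧸ I.map (algebraMap R S)) ⊗[R ⧸ (I.map (algebraMap R S)).comap (algebraMap R S)]
            ((R ⧸ (I.map (algebraMap R S)).comap (algebraMap R S)) ⊗[R] M)) :=
        flat_tensor_tensor (R := R)
          (A := R ⧸ (I.map (algebraMap R S)).comap (algebraMap R S)) M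
      have H' : ∀ Ibar : Ideal (R ⧸ (I.map (algebraMap R S)).comap (algebraMap R S)),
          Ibar ≠ ⊥ →
          Module.Flat ((R ⧸ (I.map (algebraMap R S)).comap (algebraMap R S)) ⧸ Ibar)
            (((R ⧸ (I.map (algebraMap R S)).comap (algebraMap R S)) ⧸ Ibar)
              ⊗[R ⧸ (I.map (algebraMap R S)).comap (algebraMap R S)]
              ((R ⧸ (I.map (algebraMap R S)).comap (algebraMap R S)) ⊗[R] M)) := by
        intro Ibar hIbar
        have hlt : I < Ibar.comap (algebraMap R
            (R ⧸ (I.map (algebraMap R S)).comap (algebraMap R S))) := by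
          refine lt_of_le_of_ne ?_ ?_
          · intro x hx
            have hx' : x ∈ (I.map (algebraMap R S)).comap (algebraMap R S) := by rw [hJ]; exact hx
            have : Ideal.Quotient.mk ((I.map (algebraMap R S)).comap (algebraMap R S)) x = 0 :=
              Ideal.Quotient.eq_zero_iff_mem.mpr hx'
            show Ideal.Quotient.mk _ x ∈ Ibar
            rw [this]
            exact Ibar.zero_mem
          · intro h
            apply hIbar
            rw [eq_bot_iff]
            intro y hy
            obtain ⟨x, rfl⟩ := Ideal.Quotient.mk_surjective y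
            have hx : x ∈ Ibar.comap (algebraMap R
                (R ⧸ (I.map (algebraMap R S)).comap (algebraMap R S))) := hy
            rw [← h, ← hJ] at hx
            rw [Ideal.mem_bot]
            exact Ideal.Quotient.eq_zero_iff_mem.mpr hx
        haveI := IH _ hlt
        haveI : Module.Flat ((R ⧸ (I.map (algebraMap R S)).comap (algebraMap R S)) ⧸ Ibar)
            (((R ⧸ (I.map (algebraMap R S)).comap (algebraMap R S)) ⧸ Ibar) ⊗[R] M) :=
          flat_baseChange_tower
            (A := R ⧸ Ibar.comap (algebraMap R
              (R ⧸ (I.map (algebraMap R S)).comap (algebraMap R S)))) M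
        exact flat_tensor_tensor (R := R)
          (A := R ⧸ (I.map (algebraMap R S)).comap (algebraMap R S)) M
      haveI : Module.Flat (R ⧸ (I.map (algebraMap R S)).comap (algebraMap R S))
          ((R ⧸ (I.map (algebraMap R S)).comap (algebraMap R S)) ⊗[R] M) :=
        flat_of_forall_ne_bot (S := S ⧸ I.map (algebraMap R S))
          ((R ⧸ (I.map (algebraMap R S)).comap (algebraMap R S)) ⊗[R] M) hinj' H'
      exact flat_quotient_mono M (le_of_eq hJ)
    · have hlt : I < (I.map (algebraMap R S)).comap (algebraMap R S) :=
        lt_of_le_of_ne Ideal.le_comap_map (Ne.symm hJ)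
      haveI := IH _ hlt
      obtain ⟨k, hk⟩ := exists_comap_map_pow_le R S hinj I
      refine flat_quotient_of_comap_map_pow_le R S M I
        ((I.map (algebraMap R S)).comap (algebraMap R S)) (1 + k) ?_
      calc ((((I.map (algebraMap R S)).comap (algebraMap R S)) ^ (1 + k)).map
            (algebraMap R S)).comap (algebraMap R S)
          ≤ ((I ^ (1 + k)).map (algebraMap R S)).comap (algebraMap R S) := by
            refine Ideal.comap_mono ?_
            rw [Ideal.map_pow, Ideal.map_pow]
            exact Ideal.pow_right_mono Ideal.map_comap_le _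
        _ ≤ I ^ 1 := hk 1
        _ = I := pow_one I

theorem flat_quotient_of_finite_injective (hinj : Injective (algebraMap R S)) (I : Ideal R) :
    Module.Flat (R ⧸ I) ((R ⧸ I) ⊗[R] M) :=
  IsNoetherian.induction (P := fun I : Submodule R R => Module.Flat (R ⧸ (I : Ideal R))
    ((R ⧸ (I : Ideal R)) ⊗[R] M)) (fun I IH => flat_quotient_step R S M hinj I IH) I

/-- **Descent of flatness along a finite injective map of Noetherian rings** (Stacks 0533). -/
theorem flat_of_flat_baseChange_finite_injective_noetherian (hinj : Injective (algebraMap R S)) :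
    Module.Flat R M := by
  haveI := flat_quotient_of_finite_injective R S M hinj ⊥
  exact flat_of_flat_quotient_bot M

end main

end Groth.Agent.Lib.Helper4.FinInjFlat
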