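import Mathlib
import Groth.Agent.Lib.Helper9.NoEmb

/-!
# Clopen subsets of a scheme and idempotent global sections
-/

set_option autoImplicit false
set_option linter.style.haveILetI false
set_option linter.unusedSectionVars false
universe u

namespace Groth.Agent.Lib.Helper4.HC

open AlgebraicGeometry CategoryTheory Limits TopologicalSpace Opposite

theorem basicOpen_sup_one_sub {Z : Scheme.{u}} (e : Γ(Z, ⊤)) :
    Z.basicOpen e ⊔ Z.basicOpen (1 - e) = ⊤ := by
  have h := Z.basicOpen_add_le (f := e) (g := 1 - e)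
  have h1 : e + (1 - e) = 1 := by ring
  rw [h1, Scheme.basicOpen_one] at h
  exact top_le_iff.mp h

theorem basicOpen_inf_one_sub {Z : Scheme.{u}} (e : Γ(Z, ⊤)) (he : IsIdempotentElem e) :
    Z.basicOpen e ⊓ Z.basicOpen (1 - e) = ⊥ := by
  rw [← Scheme.basicOpen_mul]
  have h1 : e * (1 - e) = 0 := by
    have := he.eq
    linear_combination (-1 : Γ(Z, ⊤)) * this
  rw [h1, Scheme.basicOpen_zero]

theorem isClopen_basicOpen_of_isIdempotentElem {Z : Scheme.{u}} (e : Γ(Z, ⊤))
    (he : IsIdempotentElem e) : IsClopen (Z.basicOpen e : Set Z) := by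
  refine ⟨?_, (Z.basicOpen e).2⟩
  have hc : ((Z.basicOpen e : Set Z))ᶜ = (Z.basicOpen (1 - e) : Set Z) := by
    have h1 := congrArg (fun W : Z.Opens => (W : Set Z)) (basicOpen_sup_one_sub e)
    have h2 := congrArg (fun W : Z.Opens => (W : Set Z)) (basicOpen_inf_one_sub e he)
    simp only [Opens.coe_sup, Opens.coe_top, Opens.coe_inf, Opens.coe_bot] at h1 h2
    exact compl_unique h2 h1
  rw [← isOpen_compl_iff, hc]
  exact (Z.basicOpen (1 - e)).2

theorem exists_idempotent_basicOpen_eq {Z : Scheme.{u}} (U : Set Z) (hU : IsClopen U) :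
    ∃ e : Γ(Z, ⊤), IsIdempotentElem e ∧ (Z.basicOpen e : Set Z) = U := by
  let W : Z.Opens := ⟨U, hU.isOpen⟩
  let W' : Z.Opens := ⟨Uᶜ, hU.isClosed.isOpen_compl⟩
  have hcov : W ⊔ W' = ⊤ := by
    ext x
    simp only [Opens.coe_sup, Opens.coe_top, Set.mem_univ, iff_true]
    by_cases hx : x ∈ U
    · exact Or.inl hx
    · exact Or.inr hx
  have hbot : W ⊓ W' = ⊥ := by
    ext x
    simp only [Opens.coe_inf, Opens.coe_bot, Set.mem_empty_iff_false, iff_false]
    rintro ⟨h1, h2⟩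
    exact h2 h1
  have hsub : Subsingleton Γ(Z, W ⊓ W') := by
    rw [hbot]
    infer_instance
  obtain ⟨e, he1, he2⟩ := Groth.Agent.Lib.Helper9.NoEmb.exists_glue_zero (C := Z) W W' hcov
    (1 : Γ(Z, W)) (Subsingleton.elim _ _)
  have hloc : ∀ s t : Γ(Z, ⊤), Z.presheaf.map (homOfLE (le_top : W ≤ ⊤)).op s =
      Z.presheaf.map (homOfLE (le_top : W ≤ ⊤)).op t →
      Z.presheaf.map (homOfLE (le_top : W' ≤ ⊤)).op s =
      Z.presheaf.map (homOfLE (le_top : W' ≤ ⊤)).op t → s = t := by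
    intro s t h1 h2
    let Uf : Bool → Z.Opens := fun b => cond b W W'
    have hcover : (⊤ : Z.Opens) ≤ iSup Uf := by
      rw [← hcov]
      exact sup_le (le_iSup Uf true) (le_iSup Uf false)
    refine Z.sheaf.eq_of_locally_eq' Uf ⊤ (fun b => homOfLE le_top) hcover s t ?_
    intro b
    cases b
    · exact h2
    · exact h1
  have hidem : IsIdempotentElem e := by
    apply hloc
    · rw [map_mul, he1, mul_one]
    · rw [map_mul, he2, mul_zero]
  refine ⟨e, hidem, ?_⟩
  have hW : W ≤ Z.basicOpen e := by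
    have h1 : Z.basicOpen (Z.presheaf.map (homOfLE (le_top : W ≤ ⊤)).op e) = W := by
      rw [he1, Scheme.basicOpen_one]
    rw [Scheme.basicOpen_res] at h1
    rw [← h1]
    exact inf_le_right
  have hW' : W' ⊓ Z.basicOpen e = ⊥ := by
    have h1 : Z.basicOpen (Z.presheaf.map (homOfLE (le_top : W' ≤ ⊤)).op e) = ⊥ := by
      rw [he2, Scheme.basicOpen_zero]
    rw [Scheme.basicOpen_res] at h1
    exact h1
  apply Set.Subset.antisymm
  · intro x hx
    by_contra hxU
    have : x ∈ (W' ⊓ Z.basicOpen e : Z.Opens) := ⟨hxU, hx⟩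
    rw [hW'] at this
    exact this
  · exact hW

theorem idempotent_eq_zero_of_basicOpen_eq_bot {Z : Scheme.{u}} [CompactSpace Z] (e : Γ(Z, ⊤))
    (he : IsIdempotentElem e) (h : Z.basicOpen e = ⊥) : e = 0 := by
  have hn : IsNilpotent e := (Scheme.isNilpotent_iff_basicOpen_eq_bot e).mpr h
  obtain ⟨n, hn⟩ := hn
  rcases Nat.eq_zero_or_pos n with h0 | hpos
  · subst h0
    rw [pow_zero] at hn
    have : e = e * 1 := (mul_one e).symm
    rw [this, hn, mul_zero]
  · obtain ⟨m, rfl⟩ := Nat.exists_eq_succ_of_ne_zero hpos.ne'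
    rw [Nat.succ_eq_add_one, he.pow_succ_eq m] at hn
    exact hn

theorem idempotent_eq_of_basicOpen_eq {Z : Scheme.{u}} [CompactSpace Z] (e₁ e₂ : Γ(Z, ⊤))
    (h₁ : IsIdempotentElem e₁) (h₂ : IsIdempotentElem e₂)
    (h : Z.basicOpen e₁ = Z.basicOpen e₂) : e₁ = e₂ := by
  have key : ∀ a b : Γ(Z, ⊤), IsIdempotentElem a → IsIdempotentElem b →
      Z.basicOpen a = Z.basicOpen b → a * (1 - b) = 0 := by
    intro a b ha hb hab
    refine idempotent_eq_zero_of_basicOpen_eq_bot _ (ha.mul hb.one_sub) ?_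
    rw [Scheme.basicOpen_mul, hab]
    exact basicOpen_inf_one_sub b hb
  have k1 := key e₁ e₂ h₁ h₂ h
  have k2 := key e₂ e₁ h₂ h₁ h.symm
  linear_combination k1 - k2

theorem isUnit_of_basicOpen_eq_top {Z : Scheme.{u}} (s : Γ(Z, ⊤)) (h : Z.basicOpen s = ⊤) :
    IsUnit s := by
  refine Z.toRingedSpace.isUnit_of_isUnit_germ ⊤ s ?_
  intro x hx
  have hx' : x ∈ Z.basicOpen s := by
    rw [h]
    trivial
  exact (Z.mem_basicOpen s x hx).mp hx'

end Groth.Agent.Lib.Helper4.HC
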