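import Mathlib
import Groth.Agent.Lib.Helper4.HenselPairJ
import Groth.Agent.Lib.Helper4.HenselPairK

/-!
# Clopen subsets of `V(I A')` for an integral algebra `A'` over a henselian pair `(A, I)`
-/

set_option autoImplicit false
universe u

namespace Groth.Agent.Lib.Helper4.HensClopen

open Groth.Agent.Lib.Helper4.HenselPair

/-- Let `A'` be integral over a henselian pair `(A, I)` and `U ⊆ Spec A'` open with `U ∩ V(I A')`
closed. Then some idempotent `e` has `D(e) ⊆ U` and `U ∩ V(I A') ⊆ D(e)`. -/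
theorem exists_idempotent_of_isClosed_inter {A A' : Type u} [CommRing A] [CommRing A']
    [Algebra A A'] [Algebra.IsIntegral A A'] (I : Ideal A) [HenselianRing A I]
    (U : Set (PrimeSpectrum A')) (hU : IsOpen U)
    (hC : IsClosed (U ∩ PrimeSpectrum.zeroLocus ((I.map (algebraMap A A') : Ideal A') : Set A'))) :
    ∃ e : A', IsIdempotentElem e ∧ (PrimeSpectrum.basicOpen e : Set (PrimeSpectrum A')) ⊆ U ∧
      U ∩ PrimeSpectrum.zeroLocus ((I.map (algebraMap A A') : Ideal A') : Set A') ⊆
        PrimeSpectrum.basicOpen e := by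
  classical
  set J : Ideal A' := I.map (algebraMap A A') with hJ
  let q := Ideal.Quotient.mk J
  let ι : PrimeSpectrum (A' ⧸ J) → PrimeSpectrum A' := PrimeSpectrum.comap q
  have hιcont : Continuous ι := PrimeSpectrum.continuous_comap q
  have hιrange : Set.range ι = PrimeSpectrum.zeroLocus (J : Set A') := by
    have := _root_.range_comap_of_surjective (A' ⧸ J) q Ideal.Quotient.mk_surjective
    rw [Ideal.mk_ker] at this
    exact this
  have hpre : ι ⁻¹' U = ι ⁻¹' (U ∩ PrimeSpectrum.zeroLocus (J : Set A')) := by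
    ext p
    simp only [Set.mem_preimage, Set.mem_inter_iff, iff_self_and]
    intro _
    rw [← hιrange]
    exact ⟨p, rfl⟩
  have hclopen : IsClopen (ι ⁻¹' U) := ⟨hpre ▸ hC.preimage hιcont, hU.preimage hιcont⟩
  obtain ⟨ebar, hebar, hC'⟩ := PrimeSpectrum.isClopen_iff.mp hclopen
  obtain ⟨β, rfl⟩ := Ideal.Quotient.mk_surjective ebar
  have hβ : β * β - β ∈ I.map (algebraMap A A') := by
    rw [← hJ, ← Ideal.Quotient.eq, map_mul]
    exact hebar.eq
  obtain ⟨e, he, heβ⟩ := exists_idempotent_lift_of_isIntegral I β hβ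
  -- key: on `V(J)`, membership in `U` is detected by `e`
  have key : ∀ p : PrimeSpectrum A', p ∈ PrimeSpectrum.zeroLocus (J : Set A') →
      (p ∈ U ↔ e ∉ p.asIdeal) := by
    intro p hp
    rw [← hιrange] at hp
    obtain ⟨p', rfl⟩ := hp
    have h1 : ι p' ∈ U ↔ p' ∈ ι ⁻¹' U := Iff.rfl
    rw [h1, hC']
    show q β ∉ p'.asIdeal ↔ _
    have h2 : e ∈ (ι p').asIdeal ↔ q e ∈ p'.asIdeal := Iff.rfl
    rw [h2]
    have h3 : q e = q β := Ideal.Quotient.eq.mpr heβ
    rw [h3]
  refine ⟨e, he, ?_, ?_⟩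
  · -- `D(e) ⊆ U`
    intro p hp
    by_contra hpU
    have hep : e ∉ p.asIdeal := hp
    have hproper : p.asIdeal ⊔ Ideal.span {1 - e} ≠ ⊤ := by
      intro htop
      have h1 : (1 : A') ∈ p.asIdeal ⊔ Ideal.span {1 - e} := by rw [htop]; trivial
      obtain ⟨a, ha, b, hb, hab⟩ := Submodule.mem_sup.mp h1
      obtain ⟨c, rfl⟩ := Ideal.mem_span_singleton'.mp hb
      apply hep
      have h2 : e = a * e := by
        have h3 : e = (a + c * (1 - e)) * e := by rw [hab, one_mul]
        have h4 : (a + c * (1 - e)) * e = a * e + c * (e - e * e) := by ring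
        rw [h4, he.eq, sub_self, mul_zero, add_zero] at h3
        exact h3
      rw [h2]
      exact Ideal.mul_mem_right _ _ ha
    obtain ⟨n, hn, hle⟩ := Ideal.exists_le_maximal _ hproper
    let np : PrimeSpectrum A' := ⟨n, hn.isPrime⟩
    have hpn : p.asIdeal ≤ n := le_sup_left.trans hle
    have hen : e ∉ n := by
      intro h
      have h1 : 1 - e ∈ n := hle (Ideal.mem_sup_right (Ideal.mem_span_singleton_self _))
      have h2 : (1 : A') ∈ n := by
        have := Ideal.add_mem _ h h1
        rwa [add_sub_cancel] at this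
      exact hn.ne_top ((Ideal.eq_top_iff_one _).mpr h2)
    have hJn : np ∈ PrimeSpectrum.zeroLocus (J : Set A') := by
      intro x hx
      have hjac : J ≤ Ideal.jacobson ⊥ :=
        map_le_jacobson_of_isIntegral I (HenselianRing.jac)
      have h1 := hjac hx
      rw [Ideal.jacobson, Ideal.mem_sInf] at h1
      exact h1 ⟨bot_le, hn⟩
    have hnU : np ∈ U := (key np hJn).mpr hen
    -- `np` is a specialization of `p`, and `Uᶜ` is closed
    have hspec : p ⤳ np := (PrimeSpectrum.le_iff_specializes p np).mp hpn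
    exact hpU (hspec.mem_open hU hnU)
  · intro p ⟨hpU, hpJ⟩
    exact (key p hpJ).mp hpU

end Groth.Agent.Lib.Helper4.HensClopen
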