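import Mathlib
import Groth.Agent.Lib.Helper4.HensClopen

/-!
# Splitting off the finite part of a quasi-finite separated scheme over a henselian pair
-/

set_option autoImplicit false
universe u

open CategoryTheory AlgebraicGeometry Limits

namespace Groth.Agent.Lib.Helper4.HensSplitSch

/-- Zariski's main theorem over an affine base: a quasi-finite separated morphism to `Spec A`
factors as an open immersion into `Spec A'` with `A'` integral over `A`. -/
theorem exists_openImmersion_integral {A : Type u} [CommRing A] {X : Scheme.{u}}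
    (f : X ⟶ Spec (CommRingCat.of A))
    [LocallyQuasiFinite f] [LocallyOfFiniteType f] [QuasiCompact f] [IsSeparated f] :
    ∃ (A' : CommRingCat.{u}) (φ : CommRingCat.of A ⟶ A') (j : X ⟶ Spec A'),
      φ.hom.IsIntegral ∧ IsOpenImmersion j ∧ j ≫ Spec.map φ = f := by
  have haff : IsAffine f.normalization := isAffine_of_isAffineHom f.fromNormalization
  let A' : CommRingCat.{u} := Γ(f.normalization, ⊤)
  let iso := f.normalization.isoSpec
  obtain ⟨φ, hφ⟩ := Spec.map_surjective (iso.inv ≫ f.fromNormalization)
  refine ⟨A', φ, f.toNormalization ≫ iso.hom, ?_, inferInstance, ?_⟩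
  · have h1 : IsIntegralHom (Spec.map φ) := by
      rw [hφ]; infer_instance
    exact IsIntegralHom.SpecMap_iff.mp h1
  · rw [hφ, Category.assoc, Iso.hom_inv_id_assoc, Scheme.Hom.toNormalization_fromNormalization]

/-- Étale morphisms are locally quasi-finite. -/
theorem locallyQuasiFinite_of_etale {X Y : Scheme.{u}} (g : X ⟶ Y) [Etale g] :
    LocallyQuasiFinite g := by
  rw [HasRingHomProperty.iff_appLE (P := @LocallyQuasiFinite)]
  intro U V e
  have h := (HasRingHomProperty.iff_appLE (P := @Etale) (f := g)).mp inferInstance U V e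
  algebraize [(g.appLE U V e).hom]
  have : Algebra.Etale Γ(Y, U) Γ(X, V) := h
  show Algebra.QuasiFinite _ _
  infer_instance

/-- **Finite part splitting over a henselian pair.** -/
theorem core {A : Type u} [CommRing A] (I : Ideal A) [HenselianRing A I]
    {X : Scheme.{u}} (f : X ⟶ Spec (CommRingCat.of A))
    [LocallyQuasiFinite f] [LocallyOfFiniteType f] [QuasiCompact f] [IsSeparated f]
    (hfin : IsFinite (pullback.snd f (Spec.map (CommRingCat.ofHom (Ideal.Quotient.mk I))))) :
    ∃ W : X.Opens, IsClosed (W : Set X) ∧ IsFinite (W.ι ≫ f) ∧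
      ∀ x : X, I ≤ (f.base x : PrimeSpectrum A).asIdeal → x ∈ W := by
  classical
  obtain ⟨A', φ, j, hφint, hj, hjf⟩ := exists_openImmersion_integral f
  let ι := Spec.map (CommRingCat.ofHom (Ideal.Quotient.mk I))
  let _ : Algebra A A' := φ.hom.toAlgebra
  have hint : Algebra.IsIntegral A A' := ⟨hφint⟩
  set J : Ideal A' := I.map (algebraMap A A') with hJ
  -- `V(J)` is the preimage of `V(I)`
  have hVJ : ∀ y : PrimeSpectrum A', y ∈ PrimeSpectrum.zeroLocus (J : Set A') ↔
      I ≤ (PrimeSpectrum.comap φ.hom y).asIdeal := by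
    intro y
    rw [PrimeSpectrum.mem_zeroLocus, SetLike.coe_subset_coe, hJ, Ideal.map_le_iff_le_comap]
    rfl
  -- the closedness
  let h : pullback f ι ⟶ Spec A' := pullback.fst f ι ≫ j
  have hh : h ≫ Spec.map φ = pullback.snd f ι ≫ ι := by
    rw [Category.assoc, hjf, pullback.condition]
  have hιci : IsClosedImmersion ι :=
    IsClosedImmersion.spec_of_surjective _ Ideal.Quotient.mk_surjective
  have hfin' := hfin
  have huc : UniversallyClosed (h ≫ Spec.map φ) := by
    rw [hh]; infer_instance
  have huc' : UniversallyClosed h := UniversallyClosed.of_comp_of_isSeparated h (Spec.map φ)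
  have hclosed : IsClosed (Set.range h) := h.isClosedMap.isClosed_range
  have hrangeι : Set.range ι = PrimeSpectrum.zeroLocus (I : Set A) := by
    have := _root_.range_comap_of_surjective (A ⧸ I) (Ideal.Quotient.mk I)
      Ideal.Quotient.mk_surjective
    rw [Ideal.mk_ker] at this
    exact this
  have hrange : (Set.range h : Set (PrimeSpectrum A')) =
      (Set.range j : Set (PrimeSpectrum A')) ∩ PrimeSpectrum.zeroLocus (J : Set A') := by
    ext y
    constructor
    · rintro ⟨z, rfl⟩
      refine ⟨⟨pullback.fst f ι z, rfl⟩, ?_⟩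
      refine (hVJ _).mpr ?_
      have h1 : (Spec.map φ).base (h.base z) = ι.base (pullback.snd f ι z) := by
        rw [← Scheme.Hom.comp_apply, hh, Scheme.Hom.comp_apply]
      have h2 : ι.base (pullback.snd f ι z) ∈ Set.range ι := ⟨_, rfl⟩
      rw [hrangeι, ← h1] at h2
      exact h2
    · rintro ⟨⟨x, rfl⟩, hy⟩
      have hy := (hVJ _).mp hy
      have h1 : (Spec.map φ).base (j.base x) = f.base x := by
        rw [← Scheme.Hom.comp_apply, hjf]
      have hy' : I ≤ ((Spec.map φ).base (j.base x) : PrimeSpectrum A).asIdeal := hy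
      rw [h1] at hy'
      have h2 : f.base x ∈ Set.range ι := by
        rw [hrangeι]; exact hy'
      have h3 : x ∈ Set.range (pullback.fst f ι) := by
        rw [Scheme.Pullback.range_fst]; exact h2
      obtain ⟨z, rfl⟩ := h3
      exact ⟨z, rfl⟩
  have hclosed' : IsClosed ((Set.range j : Set (PrimeSpectrum A')) ∩
      PrimeSpectrum.zeroLocus (J : Set A')) := by
    rw [← hrange]; exact hclosed
  obtain ⟨e, he, heU, hCe⟩ := HensClopen.exists_idempotent_of_isClosed_inter I
    (Set.range j : Set (PrimeSpectrum A')) j.isOpenEmbedding.isOpen_range hclosed'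
  -- the clopen `D(e)`
  let De : (Spec A').Opens := PrimeSpectrum.basicOpen e
  have hDeclopen : IsClopen (De : Set (Spec A')) := PrimeSpectrum.isClopen_iff.mpr ⟨e, he, rfl⟩
  let W : X.Opens := j ⁻¹ᵁ De
  have hrestr : (j ∣_ De) ≫ De.ι = W.ι ≫ j := morphismRestrict_ι j De
  have hsurj : Surjective (j ∣_ De) := by
    constructor
    intro y
    obtain ⟨x, hx⟩ := heU y.2
    have hxW : x ∈ W := by
      show j.base x ∈ De
      rw [hx]; exact y.2
    refine ⟨⟨x, hxW⟩, ?_⟩
    apply Subtype.ext
    exact (morphismRestrict_base_coe j De ⟨x, hxW⟩).trans hx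
  have hiso : IsIso (j ∣_ De) :=
    (isIso_iff_isOpenImmersion_and_surjective _).mpr ⟨inferInstance, hsurj⟩
  have hci : IsClosedImmersion De.ι := by
    apply IsClosedImmersion.of_isPreimmersion
    rw [Scheme.Opens.range_ι]
    exact hDeclopen.1
  have hφI : IsIntegralHom (Spec.map φ) := IsIntegralHom.SpecMap_iff.mpr hφint
  refine ⟨W, hDeclopen.1.preimage j.continuous, ?_, ?_⟩
  · have h1 : W.ι ≫ f = (j ∣_ De) ≫ De.ι ≫ Spec.map φ := by
      rw [← hjf, ← Category.assoc, ← hrestr, Category.assoc]
    rw [IsFinite.iff_isIntegralHom_and_locallyOfFiniteType]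
    refine ⟨?_, inferInstance⟩
    rw [h1]
    infer_instance
  · intro x hx
    show j.base x ∈ De
    apply hCe
    refine ⟨⟨x, rfl⟩, (hVJ _).mpr ?_⟩
    have h1 : (Spec.map φ).base (j.base x) = f.base x := by
      rw [← Scheme.Hom.comp_apply, hjf]
    show I ≤ ((Spec.map φ).base (j.base x) : PrimeSpectrum A).asIdeal
    rw [h1]
    exact hx

end Groth.Agent.Lib.Helper4.HensSplitSch
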