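import Mathlib
import Groth.Prelude.Def_EGA4b
import Groth.Agent.Lib.Helper23.GenericFormalFibre
import Groth.Agent.Lib.Helper18.OnePlus
import Groth.Agent.Lib.Helper18.LocHom
import Groth.Agent.Lib.Helper18.PMor2
import Groth.Agent.Lib.Helper18.Exc

/-!
# Finite algebras over G-rings are G-rings
-/

set_option autoImplicit false
set_option linter.unusedSectionVars false
universe u
open IsLocalRing TensorProduct

namespace Groth.Agent.Lib.Helper4.ExcFin

open Groth.Agent.Lib.Helper23.GenericFormalFibre

attribute [local instance] Algebra.TensorProduct.rightAlgebra in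
theorem finite_right' {A B : Type u} [CommRing A] [IsLocalRing A] [CommRing B] [Algebra A B]
    [Module.Finite A B] : Module.Finite (AdicCompletion (maximalIdeal A) A)
    (B ⊗[A] AdicCompletion (maximalIdeal A) A) :=
  Module.Finite.equiv
    (Algebra.TensorProduct.commRight A (AdicCompletion (maximalIdeal A) A) B).toLinearEquiv

set_option maxHeartbeats 1000000 in
set_option synthInstance.maxHeartbeats 200000 in
/-- The local case: the localization at a maximal ideal of a finite algebra over a noetherian
local ring with regular completion map has a regular completion map. -/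
theorem isRegularHom_cpl_of_finite_local {A B C : Type u} [CommRing A] [IsLocalRing A]
    [IsNoetherianRing A] [CommRing B] [Algebra A B] [Module.Finite A B] (n : Ideal B)
    [hnmax : n.IsMaximal] [CommRing C] [Algebra B C] [IsLocalization.AtPrime C n] [IsLocalRing C]
    (hn : maximalIdeal A ≤ n.comap (algebraMap A B))
    (hA : CAlg.IsRegularHom A (EGA4.Cpl A)) : CAlg.IsRegularHom C (EGA4.Cpl C) := by
  classical
  have hNmax : (n.map (algebraMap B (B ⊗[A] AdicCompletion (maximalIdeal A) A))).IsMaximal :=
    isMaximal_map n hn
  have hcomap := comap_map n hn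
  have hres : ∀ x : B ⊗[A] AdicCompletion (maximalIdeal A) A, ∃ b : B,
      x - algebraMap B _ b ∈ n.map (algebraMap B (B ⊗[A] AdicCompletion (maximalIdeal A) A)) :=
    fun x => exists_sub_mem n hn x
  have hAc : IsAdicComplete (maximalIdeal (AdicCompletion (maximalIdeal A) A))
      (AdicCompletion (maximalIdeal A) A) := inferInstance
  have hAcN : IsNoetherianRing (AdicCompletion (maximalIdeal A) A) := inferInstance
  have hTnoeth : IsNoetherianRing (B ⊗[A] AdicCompletion (maximalIdeal A) A) :=
    letI := Algebra.TensorProduct.rightAlgebra (R := A) (A := B)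
      (B := AdicCompletion (maximalIdeal A) A)
    haveI := finite_right' (A := A) (B := B)
    IsNoetherianRing.of_finite (AdicCompletion (maximalIdeal A) A) _
  obtain ⟨hDnoeth, hDcomp⟩ :=
    letI := Algebra.TensorProduct.rightAlgebra (R := A) (A := B)
      (B := AdicCompletion (maximalIdeal A) A)
    haveI := finite_right' (A := A) (B := B)
    complete_of_finite (AdicCompletion (maximalIdeal A) A)
      (B ⊗[A] AdicCompletion (maximalIdeal A) A)
      (n.map (algebraMap B (B ⊗[A] AdicCompletion (maximalIdeal A) A)))
  have hBN : IsNoetherianRing B := IsNoetherianRing.of_finite A B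
  have hCN : IsNoetherianRing C := IsLocalization.isNoetherianRing n.primeCompl C inferInstance
  obtain ⟨e, he⟩ := exists_equiv (C := C) (D := Localization.AtPrime
    (n.map (algebraMap B (B ⊗[A] AdicCompletion (maximalIdeal A) A)))) n
    (n.map (algebraMap B (B ⊗[A] AdicCompletion (maximalIdeal A) A))) rfl hcomap hres
  -- regularity of `B → T → D`
  have hBT : CAlg.IsRegularHom B (B ⊗[A] AdicCompletion (maximalIdeal A) A) :=
    Groth.Agent.Lib.Helper18.PMor.isRegularHom_baseChange (AdicCompletion (maximalIdeal A) A) B hA
  have hTD : CAlg.IsRegularHom (B ⊗[A] AdicCompletion (maximalIdeal A) A)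
      (Localization.AtPrime (n.map (algebraMap B (B ⊗[A] AdicCompletion (maximalIdeal A) A)))) :=
    Groth.Agent.Lib.Helper18.LocHom.isRegularHom_of_isLocalization _
      (n.map (algebraMap B (B ⊗[A] AdicCompletion (maximalIdeal A) A))).primeCompl _
  have hBD := Groth.Agent.Lib.Helper18.PMor.isRegularHom_comp B
    (B ⊗[A] AdicCompletion (maximalIdeal A) A)
    (Localization.AtPrime (n.map (algebraMap B (B ⊗[A] AdicCompletion (maximalIdeal A) A))))
    hBT hTD
  let _ : Algebra C (Localization.AtPrime
      (n.map (algebraMap B (B ⊗[A] AdicCompletion (maximalIdeal A) A)))) :=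
    (phi (C := C) (D := Localization.AtPrime
      (n.map (algebraMap B (B ⊗[A] AdicCompletion (maximalIdeal A) A)))) n
      (n.map (algebraMap B (B ⊗[A] AdicCompletion (maximalIdeal A) A))) hcomap).toAlgebra
  have htow2 : IsScalarTower B C (Localization.AtPrime
      (n.map (algebraMap B (B ⊗[A] AdicCompletion (maximalIdeal A) A)))) :=
    by
    refine IsScalarTower.of_algebraMap_eq (fun b => ?_)
    rw [IsScalarTower.algebraMap_apply B (B ⊗[A] AdicCompletion (maximalIdeal A) A)]
    exact (phi_algebraMap (C := C) (D := Localization.AtPrime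
      (n.map (algebraMap B (B ⊗[A] AdicCompletion (maximalIdeal A) A)))) n
      (n.map (algebraMap B (B ⊗[A] AdicCompletion (maximalIdeal A) A))) hcomap b).symm
  have hself : IsLocalization (Algebra.algebraMapSubmonoid (Localization.AtPrime
      (n.map (algebraMap B (B ⊗[A] AdicCompletion (maximalIdeal A) A)))) n.primeCompl)
      (Localization.AtPrime
        (n.map (algebraMap B (B ⊗[A] AdicCompletion (maximalIdeal A) A)))) := by
    apply IsLocalization.self
    rintro _ ⟨y, hy, rfl⟩
    rw [IsScalarTower.algebraMap_apply B C]
    exact (IsLocalization.map_units (M := n.primeCompl) C ⟨y, hy⟩).map _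
  have hCD : CAlg.IsRegularHom C (Localization.AtPrime
      (n.map (algebraMap B (B ⊗[A] AdicCompletion (maximalIdeal A) A)))) :=
    Groth.Agent.Lib.Helper18.OnePlus.isRegularHom_localization B
      (Localization.AtPrime (n.map (algebraMap B (B ⊗[A] AdicCompletion (maximalIdeal A) A))))
      n.primeCompl C _ hBD
  -- transport along `e`
  have hcomm : ∀ c : C, e (algebraMap C (AdicCompletion (maximalIdeal C) C) c) =
      algebraMap C (Localization.AtPrime
        (n.map (algebraMap B (B ⊗[A] AdicCompletion (maximalIdeal A) A)))) c := by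
    have h1 : (e.toRingHom.comp (algebraMap C (AdicCompletion (maximalIdeal C) C))) =
        algebraMap C (Localization.AtPrime
          (n.map (algebraMap B (B ⊗[A] AdicCompletion (maximalIdeal A) A)))) := by
      refine IsLocalization.ringHom_ext n.primeCompl ?_
      ext b
      simp only [RingHom.comp_apply]
      rw [← IsScalarTower.algebraMap_apply B C (Localization.AtPrime
        (n.map (algebraMap B (B ⊗[A] AdicCompletion (maximalIdeal A) A)))),
        IsScalarTower.algebraMap_apply B (B ⊗[A] AdicCompletion (maximalIdeal A) A)
          (Localization.AtPrime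
            (n.map (algebraMap B (B ⊗[A] AdicCompletion (maximalIdeal A) A))))]
      exact he b
    exact fun c => congrArg (fun φ => φ c) h1
  let eA : AdicCompletion (maximalIdeal C) C ≃ₐ[C] Localization.AtPrime
      (n.map (algebraMap B (B ⊗[A] AdicCompletion (maximalIdeal A) A))) :=
    AlgEquiv.ofRingEquiv (f := e) hcomm
  exact Groth.Agent.Lib.Helper18.OnePlus.isRegularHom_of_algEquiv eA.symm hCD

end Groth.Agent.Lib.Helper4.ExcFin
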