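import Mathlib
import Groth.Agent.Lib.Helper4.ExcFin1

/-!
# Finite algebras over G-rings (excellent rings) are G-rings (excellent)
-/

set_option autoImplicit false
set_option linter.unusedSectionVars false
universe u
open IsLocalRing TensorProduct

namespace Groth.Agent.Lib.Helper4.ExcFin

open Groth.Agent.Lib.Helper23.GenericFormalFibre

set_option maxHeartbeats 1000000 in
set_option synthInstance.maxHeartbeats 200000 in
/-- A finite algebra over a G-ring is a G-ring. -/
theorem isGRing_of_finite (A B : Type u) [CommRing A] [CommRing B] [Algebra A B]
    [Module.Finite A B] (hA : CAlg.IsGRing A) : CAlg.IsGRing B := by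
  classical
  have hAN : IsNoetherianRing A := hA.1
  have hBN : IsNoetherianRing B := IsNoetherianRing.of_finite A B
  refine ⟨hBN, fun q hq => ?_⟩
  obtain ⟨m, hm⟩ : ∃ m : Ideal A, q.comap (algebraMap A B) = m := ⟨_, rfl⟩
  have hmp : m.IsPrime := hm ▸ Ideal.comap_isPrime _ q
  have hfin₁ : Module.Finite (Localization.AtPrime m)
      (Localization (Algebra.algebraMapSubmonoid B m.primeCompl)) :=
    Module.Finite.of_isLocalization A B m.primeCompl
  have hint₁ : Algebra.IsIntegral (Localization.AtPrime m)
      (Localization (Algebra.algebraMapSubmonoid B m.primeCompl)) :=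
    Algebra.IsIntegral.of_finite _ _
  have hdisj : Disjoint (Algebra.algebraMapSubmonoid B m.primeCompl : Set B) (q : Set B) := by
    rw [Set.disjoint_left]
    rintro _ ⟨a, ha, rfl⟩ haq
    apply ha
    rw [← hm]
    exact haq
  have hn₁p : (q.map (algebraMap B
      (Localization (Algebra.algebraMapSubmonoid B m.primeCompl)))).IsPrime :=
    IsLocalization.isPrime_of_isPrime_disjoint _ _ q hq hdisj
  have hle : maximalIdeal (Localization.AtPrime m) ≤
      (q.map (algebraMap B (Localization (Algebra.algebraMapSubmonoid B m.primeCompl)))).comap
        (algebraMap (Localization.AtPrime m)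
          (Localization (Algebra.algebraMapSubmonoid B m.primeCompl))) := by
    rw [← IsLocalization.AtPrime.map_eq_maximalIdeal m (Localization.AtPrime m),
      Ideal.map_le_iff_le_comap]
    intro a ha
    rw [Ideal.mem_comap, Ideal.mem_comap, ← IsScalarTower.algebraMap_apply,
      IsScalarTower.algebraMap_apply A B
        (Localization (Algebra.algebraMapSubmonoid B m.primeCompl))]
    apply Ideal.mem_map_of_mem
    rw [← hm] at ha
    exact ha
  have hn₁max : (q.map (algebraMap B
      (Localization (Algebra.algebraMapSubmonoid B m.primeCompl)))).IsMaximal := by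
    apply Ideal.isMaximal_of_isIntegral_of_isMaximal_comap (R := Localization.AtPrime m)
    have h2 : (q.map (algebraMap B
        (Localization (Algebra.algebraMapSubmonoid B m.primeCompl)))).comap
        (algebraMap (Localization.AtPrime m)
          (Localization (Algebra.algebraMapSubmonoid B m.primeCompl))) ≠ ⊤ :=
      Ideal.IsPrime.ne_top inferInstance
    rw [← (maximalIdeal.isMaximal (Localization.AtPrime m)).eq_of_le h2 hle]
    infer_instance
  let _ : Algebra (Localization (Algebra.algebraMapSubmonoid B m.primeCompl))
      (Localization.AtPrime q) :=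
    (psi (B₁ := Localization (Algebra.algebraMapSubmonoid B m.primeCompl))
      (C := Localization.AtPrime q) q m hm).toAlgebra
  have htow : IsScalarTower B (Localization (Algebra.algebraMapSubmonoid B m.primeCompl))
      (Localization.AtPrime q) :=
    IsScalarTower.of_algebraMap_eq (fun b => (psi_algebraMap q m hm b).symm)
  have hloc : IsLocalization.AtPrime (Localization.AtPrime q)
      (q.map (algebraMap B (Localization (Algebra.algebraMapSubmonoid B m.primeCompl)))) :=
    isLocalization_atPrime_n₁ q m hm
  exact isRegularHom_cpl_of_finite_local (A := Localization.AtPrime m)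
    (B := Localization (Algebra.algebraMapSubmonoid B m.primeCompl))
    (C := Localization.AtPrime q)
    (q.map (algebraMap B (Localization (Algebra.algebraMapSubmonoid B m.primeCompl))))
    hle (hA.2 m)

/-- A finite algebra over an excellent ring is excellent. -/
theorem isExcellent_of_finite (A B : Type u) [CommRing A] [CommRing B] [Algebra A B]
    [Module.Finite A B] (hA : EGA4.IsExcellent A) : EGA4.IsExcellent B := by
  have hAN : IsNoetherianRing A := hA.1
  have hBN : IsNoetherianRing B := IsNoetherianRing.of_finite A B
  refine ⟨hBN, ⟨hBN, ?_⟩, isGRing_of_finite A B hA.2.2.1, ?_⟩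
  · intro S _ _ hS
    let _ : Algebra A S := ((algebraMap B S).comp (algebraMap A B)).toAlgebra
    have htow : IsScalarTower A B S := IsScalarTower.of_algebraMap_eq (fun _ => rfl)
    exact hA.2.1.2 S (Algebra.FiniteType.trans (S := B) inferInstance hS)
  · intro S _ _ hS
    let _ : Algebra A S := ((algebraMap B S).comp (algebraMap A B)).toAlgebra
    have htow : IsScalarTower A B S := IsScalarTower.of_algebraMap_eq (fun _ => rfl)
    exact hA.2.2.2 S (Algebra.FiniteType.trans (S := B) inferInstance hS)

end Groth.Agent.Lib.Helper4.ExcFin
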