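import Mathlib

/-!
# Directed colimits of rings (`DirectLimit` with `DirectLimit.Ring.of`): elements, ideals,
polynomials, henselian pairs
-/

set_option autoImplicit false
set_option linter.unusedSectionVars false

namespace Groth.Agent.Lib.Helper4.DLim

open Polynomial

theorem map_eval_eq {A B : Type*} [CommRing A] [CommRing B] (φ : A →+* B) (q : A[X]) (b : A) :
    (q.map φ).eval (φ b) = φ (q.eval b) := by
  rw [Polynomial.eval_map, Polynomial.eval₂_at_apply]

theorem map_derivative_eval_eq {A B : Type*} [CommRing A] [CommRing B] (φ : A →+* B) (q : A[X])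
    (b : A) : (q.map φ).derivative.eval (φ b) = φ (q.derivative.eval b) := by
  rw [Polynomial.derivative_map, map_eval_eq]

section

variable {ι : Type*} [Preorder ι] [IsDirectedOrder ι] [Nonempty ι]
  {G : ι → Type*} [∀ i, CommRing (G i)]
  (f : ∀ i j, i ≤ j → G i →+* G j) [DirectedSystem G (fun i j h => f i j h)]

local notation "L" => DirectLimit G f
local notation "ofR" => DirectLimit.Ring.of G f

theorem of_apply (i : ι) (x : G i) : ofR i x = (⟦⟨i, x⟩⟧ : L) := rfl

theorem exists_of (x : L) : ∃ i y, ofR i y = x := by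
  obtain ⟨i, y, rfl⟩ := DirectLimit.exists_eq_mk f x
  exact ⟨i, y, rfl⟩

theorem of_f' {i j : ι} (h : i ≤ j) (x : G i) : ofR j (f i j h x) = ofR i x :=
  DirectLimit.Ring.of_f h x

theorem of_eq_of_iff {i j : ι} (x : G i) (y : G j) :
    ofR i x = ofR j y ↔ ∃ k, ∃ (hik : i ≤ k) (hjk : j ≤ k), f i k hik x = f j k hjk y :=
  Quotient.eq

theorem of_eq_zero_iff {i : ι} (x : G i) :
    ofR i x = 0 ↔ ∃ k, ∃ (hik : i ≤ k), f i k hik x = 0 :=
  DirectLimit.exists_eq_zero (f := f) ⟨i, x⟩

theorem of_eq_one_iff {i : ι} (x : G i) :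
    ofR i x = 1 ↔ ∃ k, ∃ (hik : i ≤ k), f i k hik x = 1 :=
  DirectLimit.exists_eq_one (f := f) ⟨i, x⟩

/-- Finitely many elements of a directed colimit come from a common stage. -/
theorem exists_of_finite {κ : Type*} [Finite κ] (x : κ → L) :
    ∃ (i : ι) (y : κ → G i), ∀ m, x m = ofR i (y m) := by
  choose i₀ y₀ hy₀ using fun m => DirectLimit.exists_eq_mk f (x m)
  obtain ⟨i, hi⟩ := Finite.exists_le i₀
  refine ⟨i, fun m => f (i₀ m) i (hi m) (y₀ m), fun m => ?_⟩
  rw [of_f', hy₀ m]
  rfl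

theorem isUnit_of_of_isUnit {i : ι} (a : G i) (h : IsUnit a) : IsUnit (ofR i a) := h.map _

/-- monic polynomials descend to a finite stage -/
theorem exists_monic_map_eq (p : L[X]) (hp : p.Monic) :
    ∃ (i : ι) (q : (G i)[X]), q.Monic ∧ q.map (ofR i) = p := by
  obtain ⟨i, y, hy⟩ := exists_of_finite f (fun k : Fin p.natDegree => p.coeff k)
  refine ⟨i, X ^ p.natDegree + ∑ k : Fin p.natDegree, C (y k) * X ^ (k : ℕ), ?_, ?_⟩
  · exact Polynomial.monic_X_pow_add (Polynomial.degree_sum_fin_lt _)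
  · conv_rhs => rw [hp.as_sum]
    rw [Polynomial.map_add, Polynomial.map_pow, Polynomial.map_X, Polynomial.map_sum,
      ← Fin.sum_univ_eq_sum_range (fun k => C (p.coeff k) * X ^ k)]
    congr 1
    refine Finset.sum_congr rfl fun k _ => ?_
    rw [Polynomial.map_mul, Polynomial.map_C, Polynomial.map_pow, Polynomial.map_X, ← hy]

variable (I : ∀ i, Ideal (G i)) (hI : ∀ i j (h : i ≤ j), (I i).map (f i j h) ≤ I j)

include hI in
/-- The colimit ideal consists of images of elements of the `I i`. -/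
theorem mem_iSup_map_iff (x : L) :
    x ∈ ⨆ i, (I i).map (ofR i) ↔ ∃ i y, y ∈ I i ∧ ofR i y = x := by
  constructor
  · intro hx
    -- the explicit set is an ideal
    let J : Ideal L :=
      { carrier := {x | ∃ i y, y ∈ I i ∧ ofR i y = x}
        add_mem' := by
          rintro _ _ ⟨i, y, hy, rfl⟩ ⟨j, z, hz, rfl⟩
          obtain ⟨k, hik, hjk⟩ := exists_ge_ge i j
          refine ⟨k, f i k hik y + f j k hjk z, ?_, ?_⟩
          · exact (I k).add_mem (hI i k hik (Ideal.mem_map_of_mem _ hy))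
              (hI j k hjk (Ideal.mem_map_of_mem _ hz))
          · rw [map_add, of_f', of_f']
        zero_mem' := by
          obtain ⟨i⟩ := ‹Nonempty ι›
          exact ⟨i, 0, (I i).zero_mem, map_zero _⟩
        smul_mem' := by
          rintro c _ ⟨i, y, hy, rfl⟩
          obtain ⟨j, z, rfl⟩ := exists_of f c
          obtain ⟨k, hik, hjk⟩ := exists_ge_ge i j
          refine ⟨k, f j k hjk z * f i k hik y, ?_, ?_⟩
          · exact (I k).mul_mem_left _ (hI i k hik (Ideal.mem_map_of_mem _ hy))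
          · rw [map_mul, of_f', of_f']
            rfl }
    have hle : ⨆ i, (I i).map (ofR i) ≤ J := by
      refine iSup_le fun i => ?_
      rw [Ideal.map_le_iff_le_comap]
      intro y hy
      exact ⟨i, y, hy, rfl⟩
    exact hle hx
  · rintro ⟨i, y, hy, rfl⟩
    exact (le_iSup (fun i => (I i).map (ofR i)) i) (Ideal.mem_map_of_mem _ hy)

include hI in
/-- membership in the colimit ideal descends to a finite stage -/
theorem of_mem_iSup_map_iff {i : ι} (a : G i) :
    ofR i a ∈ ⨆ i, (I i).map (ofR i) ↔ ∃ j, ∃ (h : i ≤ j), f i j h a ∈ I j := by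
  rw [mem_iSup_map_iff f I hI]
  constructor
  · rintro ⟨j, y, hy, hya⟩
    rw [of_eq_of_iff] at hya
    obtain ⟨k, hjk, hik, hk⟩ := hya
    refine ⟨k, hik, ?_⟩
    rw [← hk]
    exact hI j k hjk (Ideal.mem_map_of_mem _ hy)
  · rintro ⟨j, h, hj⟩
    exact ⟨j, _, hj, of_f' f h a⟩

include hI in
/-- A directed colimit of henselian pairs is a henselian pair. -/
theorem henselianRing_directLimit [∀ i, HenselianRing (G i) (I i)] :
    HenselianRing L (⨆ i, (I i).map (ofR i)) := by
  refine ⟨?_, ?_⟩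
  · intro x hx
    rw [Ideal.mem_jacobson_bot]
    intro y
    obtain ⟨i, x', hx', rfl⟩ := (mem_iSup_map_iff f I hI x).mp hx
    obtain ⟨j, y', rfl⟩ := exists_of f y
    obtain ⟨k, hik, hjk⟩ := exists_ge_ge i j
    have h1 : f i k hik x' ∈ Ideal.jacobson (⊥ : Ideal (G k)) :=
      HenselianRing.jac (hI i k hik (Ideal.mem_map_of_mem _ hx'))
    have h2 := Ideal.mem_jacobson_bot.mp h1 (f j k hjk y')
    have h3 := h2.map (ofR k)
    rw [map_add, map_mul, map_one, of_f', of_f'] at h3
    exact h3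
  · intro p hp a₀ ha₀ hu
    obtain ⟨i₁, q₁, hq₁, rfl⟩ := exists_monic_map_eq f p hp
    obtain ⟨i₂, b₂, rfl⟩ := exists_of f a₀
    -- the inverse of the derivative modulo the ideal
    obtain ⟨v, hv⟩ := hu.exists_right_inv
    obtain ⟨v', rfl⟩ := Ideal.Quotient.mk_surjective v
    rw [← map_mul, ← map_one (Ideal.Quotient.mk _), Ideal.Quotient.eq] at hv
    obtain ⟨i₃, w₃, rfl⟩ := exists_of f v'
    -- common stage
    obtain ⟨i₁₂, h1, h2⟩ := exists_ge_ge i₁ i₂
    obtain ⟨k, h12, h3⟩ := exists_ge_ge i₁₂ i₃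
    let q := q₁.map (f i₁ k (h1.trans h12))
    let b := f i₂ k (h2.trans h12) b₂
    let w := f i₃ k h3 w₃
    have hqmap : q.map (ofR k) = q₁.map (ofR i₁) := by
      rw [Polynomial.map_map]
      congr 1
      ext x
      exact of_f' f _ x
    have hb : ofR k b = ofR i₂ b₂ := of_f' f _ _
    have hw : ofR k w = ofR i₃ w₃ := of_f' f _ _
    have he : ofR k (q.eval b) = (q₁.map (ofR i₁)).eval (ofR i₂ b₂) := by
      rw [← hqmap, ← hb, map_eval_eq]
    have hd : ofR k (q.derivative.eval b * w - 1) =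
        (q₁.map (ofR i₁)).derivative.eval (ofR i₂ b₂) * ofR i₃ w₃ - 1 := by
      rw [map_sub, map_mul, map_one, ← hqmap, ← hb, ← hw, map_derivative_eval_eq]
    rw [← he, of_mem_iSup_map_iff f I hI] at ha₀
    rw [← hd, of_mem_iSup_map_iff f I hI] at hv
    obtain ⟨l₁, hl₁, hm₁⟩ := ha₀
    obtain ⟨l₂, hl₂, hm₂⟩ := hv
    obtain ⟨l, hll₁, hll₂⟩ := exists_ge_ge l₁ l₂
    -- everything at stage `l`
    let Q := q.map (f k l (hl₁.trans hll₁))
    let β := f k l (hl₁.trans hll₁) b
    let ω := f k l (hl₁.trans hll₁) w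
    have hQ : Q.Monic := (hq₁.map _).map _
    have hQe : Q.eval β ∈ I l := by
      have : Q.eval β = f l₁ l hll₁ (f k l₁ hl₁ (q.eval b)) := by
        rw [DirectedSystem.map_map' (f := f)]
        exact map_eval_eq _ q b
      rw [this]
      exact hI l₁ l hll₁ (Ideal.mem_map_of_mem _ hm₁)
    have hQd : Q.derivative.eval β * ω - 1 ∈ I l := by
      have : Q.derivative.eval β * ω - 1 =
          f l₂ l hll₂ (f k l₂ hl₂ (q.derivative.eval b * w - 1)) := by
        rw [DirectedSystem.map_map' (f := f), map_sub, map_mul, map_one]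
        congr 2
        exact map_derivative_eval_eq _ q b
      rw [this]
      exact hI l₂ l hll₂ (Ideal.mem_map_of_mem _ hm₂)
    have hQu : IsUnit (Ideal.Quotient.mk (I l) (Q.derivative.eval β)) := by
      refine IsUnit.of_mul_eq_one (Ideal.Quotient.mk (I l) ω) ?_
      rw [← map_mul, ← map_one (Ideal.Quotient.mk (I l)), Ideal.Quotient.eq]
      exact hQd
    obtain ⟨a, hroot, hsub⟩ := HenselianRing.is_henselian Q hQ β hQe hQu
    have hQmap : Q.map (ofR l) = q₁.map (ofR i₁) := by
      rw [← hqmap, Polynomial.map_map]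
      congr 1
      ext x
      exact of_f' f _ x
    refine ⟨ofR l a, ?_, ?_⟩
    · rw [Polynomial.IsRoot.def, ← hQmap, map_eval_eq, hroot, map_zero]
    · have hβ : ofR l β = ofR i₂ b₂ := by
        rw [of_f', hb]
      rw [← hβ, ← map_sub]
      exact (le_iSup (fun i => (I i).map (ofR i)) l) (Ideal.mem_map_of_mem _ hsub)

end

end Groth.Agent.Lib.Helper4.DLim
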