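import Mathlib
import Groth.Agent.Lib.Helper12.Fin12
import Groth.Agent.Lib.Helper9.RefStalk2
import Groth.Agent.Lib.Helper29.Twist6
import Groth.Agent.Lib.Helper10.HartogsOne
import Groth.Agent.Lib.Helper22.FibreDim

/-!
# Global sections of a proper scheme over a Noetherian ring are a finite module
-/

set_option autoImplicit false
set_option linter.style.haveILetI false
set_option linter.unusedSectionVars false
universe u

namespace Groth.Agent.Lib.Helper4.HC

open AlgebraicGeometry CategoryTheory Limits TensorProduct TopologicalSpace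

theorem finite_toGlobal_of_isProper (A : Type u) [CommRing A] [IsNoetherianRing A]
    {X : Scheme.{u}} (f : X ⟶ Spec (CommRingCat.of A)) [IsProper f] :
    (f.appTop.hom.comp (Scheme.ΓSpecIso (CommRingCat.of A)).inv.hom : A →+* Γ(X, ⊤)).Finite := by
  letI : X.Over (Spec (CommRingCat.of A)) := ⟨f⟩
  haveI : IsProper (X ↘ Spec (CommRingCat.of A)) := ‹IsProper f›
  have h : Module.Finite A (Coh.HH X (Coh.structureModule X) 0) :=
    Groth.Agent.Lib.Helper12.H12Fin.module_finite_HH_of_isProper A X (Coh.structureModule X)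
      (Groth.Agent.Lib.Helper9.RefStalk.isCoh_unit X) 0
  letI : Algebra A Γ(X, ⊤) :=
    (f.appTop.hom.comp (Scheme.ΓSpecIso (CommRingCat.of A)).inv.hom : A →+* Γ(X, ⊤)).toAlgebra
  change Module.Finite A Γ(X, ⊤)
  let e₁ := Groth.Agent.Lib.Helper29.QCoh.hh0 (Coh.structureModule X)
  let e₂ := (Groth.Agent.Lib.Helper10.HartogsOne.unitEquiv (X := X) ⊤).symm
  let e : Coh.HH X (Coh.structureModule X) 0 →ₗ[A] Γ(X, ⊤) :=
    { toFun := fun x => e₂ (e₁ x)
      map_add' := fun x y => by rw [map_add, map_add]
      map_smul' := fun a x => by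
        have h1 : a • x = (Coh.toGlobal f a : Coh.Γtop X) • x := rfl
        rw [h1, Groth.Agent.Lib.Helper29.QCoh.hh0_smul, map_smul]
        rfl }
  have hsurj : Function.Surjective e := by
    intro y
    refine ⟨e₁.symm (e₂.symm y), ?_⟩
    change e₂ (e₁ (e₁.symm (e₂.symm y))) = y
    rw [AddEquiv.apply_symm_apply, LinearEquiv.apply_symm_apply]
  exact Module.Finite.of_surjective e hsurj

end Groth.Agent.Lib.Helper4.HC
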