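import Mathlib

/-!
# Kernel of the base change map for a flat algebra; flat base change of global sections
-/

set_option autoImplicit false
set_option linter.style.haveILetI false
set_option linter.unusedSectionVars false
universe u

namespace Groth.Agent.Lib.Helper4.HC

open AlgebraicGeometry CategoryTheory Limits TensorProduct

theorem mem_map_ker_of_one_tmul_eq_zero {R A B : Type*} [CommRing R] [CommRing A] [CommRing B]
    [Algebra R A] [Algebra R B] [Module.Flat R B] (c : B) (hc : (1 : A) ⊗ₜ[R] c = 0) :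
    c ∈ Ideal.map (algebraMap R B) (RingHom.ker (algebraMap R A)) := by
  let K : Ideal R := RingHom.ker (algebraMap R A)
  let f : K →ₗ[R] R := Submodule.subtype K
  let g : R →ₗ[R] A := Algebra.linearMap R A
  have hex : Function.Exact f g := by
    intro y
    constructor
    · intro hy
      exact ⟨⟨y, hy⟩, rfl⟩
    · rintro ⟨k, rfl⟩
      exact k.2
  have hex' := Module.Flat.rTensor_exact B hex
  have h0 : (g.rTensor B) ((1 : R) ⊗ₜ[R] c) = 0 := by
    rw [LinearMap.rTensor_tmul]
    change (algebraMap R A 1) ⊗ₜ[R] c = 0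
    rw [map_one]
    exact hc
  obtain ⟨x, hx⟩ := (hex' _).mp h0
  have key : ∀ x : K ⊗[R] B, TensorProduct.lid R B ((f.rTensor B) x) ∈
      Ideal.map (algebraMap R B) K := by
    intro x
    induction x using TensorProduct.induction_on with
    | zero => simp
    | tmul k b =>
      rw [LinearMap.rTensor_tmul, TensorProduct.lid_tmul, Algebra.smul_def]
      exact Ideal.mul_mem_right _ _ (Ideal.mem_map_of_mem _ k.2)
    | add x y hx hy =>
      rw [map_add, map_add]
      exact Ideal.add_mem _ hx hy
  have := key x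
  rw [hx, TensorProduct.lid_tmul, one_smul] at this
  exact this

theorem mem_map_ker_of_isPushout {R A B X : CommRingCat.{u}} {f : R ⟶ A} {g : R ⟶ B}
    {a : A ⟶ X} {b : B ⟶ X} (H : IsPushout f g a b) (hg : g.hom.Flat) (c : B)
    (hc : b.hom c = 0) : c ∈ Ideal.map g.hom (RingHom.ker f.hom) := by
  algebraize [f.hom, g.hom]
  let e := ((CommRingCat.isPushout_tensorProduct R A B).isoIsPushout A B H)
  have h1 : CommRingCat.ofHom (S := A ⊗[R] B)
      (Algebra.TensorProduct.includeRight (R := R) (A := A) (B := B)).toRingHom ≫ e.hom = b :=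
    IsPushout.inr_isoIsPushout_hom ..
  have h2 : (1 : A) ⊗ₜ[R] c = 0 := by
    have hinj : Function.Injective e.hom.hom := by
      have : Function.Bijective e.hom.hom :=
        ConcreteCategory.bijective_of_isIso e.hom
      exact this.1
    apply hinj
    rw [map_zero]
    have := congrArg (fun φ => φ.hom c) h1
    simp only [CommRingCat.hom_comp, RingHom.comp_apply, CommRingCat.hom_ofHom] at this
    rw [← hc, ← this]
    rfl
  exact mem_map_ker_of_one_tmul_eq_zero (R := R) (A := A) (B := B) c h2

theorem appLE_top_top {X Y : Scheme.{u}} (f : X ⟶ Y) (e : (⊤ : X.Opens) ≤ f ⁻¹ᵁ ⊤) :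
    f.appLE ⊤ ⊤ e = f.appTop := by
  simp [Scheme.Hom.appLE, Scheme.Hom.appTop]

/-- Flat base change for global sections, as a pushout square of rings. -/
theorem isPushout_appTop_of_flat {W S T P : Scheme.{u}} [IsAffine S] [IsAffine T]
    [CompactSpace W] [QuasiSeparatedSpace W] {p : W ⟶ S} {f : T ⟶ S} [Flat f]
    {fst : P ⟶ W} {snd : P ⟶ T} (H : IsPullback fst snd p f) :
    IsPushout p.appTop f.appTop fst.appTop snd.appTop := by
  have hUST : (⊤ : T.Opens) ≤ f ⁻¹ᵁ ⊤ := le_rfl
  have hUSX : (⊤ : W.Opens) ≤ p ⁻¹ᵁ ⊤ := le_rfl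
  have hUY : (⊤ : P.Opens) = fst ⁻¹ᵁ ⊤ ⊓ snd ⁻¹ᵁ ⊤ := by simp
  have h1 := isIso_pushoutSection_of_isQuasiSeparated_of_flat_right H hUST hUSX hUY
    (isAffineOpen_top S) (isAffineOpen_top T) (by simpa using isCompact_univ)
    (by simpa using (isQuasiSeparated_univ_iff.mpr inferInstance))
  have h2 := (isIso_pushoutSection_iff H hUST hUSX hUY).mp h1
  simpa only [appLE_top_top] using h2

end Groth.Agent.Lib.Helper4.HC
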