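import Mathlib
import Groth.Agent.Lib.Helper12.FF10
import Groth.Agent.Lib.Helper29.Twist6

/-!
# Formal functions for global sections: compatible systems of sections of `M / I^(n+1) M`
-/

set_option autoImplicit false
set_option linter.style.haveILetI false
set_option linter.unusedSectionVars false
universe u

namespace Groth.Agent.Lib.Helper4.ZC

open AlgebraicGeometry CategoryTheory Limits TopologicalSpace Opposite
open Groth.Agent.Lib.Helper29.QCoh

variable {X : Scheme.{u}}

theorem hh0_map {M N : X.Modules} (φ : M ⟶ N) (x : Coh.HH X M 0) :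
    hh0 N (Sheaf.H.map ((SheafOfModules.toSheaf _).map φ) 0 x) = φ.app ⊤ (hh0 M x) :=
  (Sheaf.H.equiv₀_naturality (hT := (isTerminalTop : IsTerminal (⊤ : Opens X)))
    ((SheafOfModules.toSheaf _).map φ) x).symm

theorem hh0_symm_map {M N : X.Modules} (φ : M ⟶ N) (m : Γ(M, ⊤)) :
    Sheaf.H.map ((SheafOfModules.toSheaf _).map φ) 0 ((hh0 M).symm m) =
      (hh0 N).symm (φ.app ⊤ m) := by
  apply (hh0 N).injective
  rw [hh0_map, AddEquiv.apply_symm_apply, AddEquiv.apply_symm_apply]

section FF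
variable (A : Type u) [CommRing A] [IsNoetherianRing A] (I : Ideal A) [IsAdicComplete I A]
  (X : Scheme.{u}) [X.Over (Spec (CommRingCat.of A))] [IsProper (X ↘ Spec (CommRingCat.of A))]
  (M : X.Modules) (hM : Coh.IsCoh M)

include hM in
theorem exists_section_of_compatible (s : ∀ n, Γ(Formal.modPow I (n + 1) M, ⊤))
    (hs : ∀ n, (Formal.modPowTrans I (n + 1) M).app ⊤ (s (n + 1)) = s n) :
    ∃ m : Γ(M, ⊤), ∀ n, (Formal.modPowπ I (n + 1) M).app ⊤ m = s n := by
  have hb := Groth.Agent.Lib.Helper12.H12FF.formal_functions_complete A I X M hM 0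
  let y : Formal.HHlim I M 0 :=
    ⟨fun n => (hh0 (Formal.modPow I (n + 1) M)).symm (s n), fun n => by
      change Sheaf.H.map ((SheafOfModules.toSheaf _).map (Formal.modPowTrans I (n + 1) M)) 0
        ((hh0 (Formal.modPow I (n + 1 + 1) M)).symm (s (n + 1))) = _
      rw [hh0_symm_map, hs n]⟩
  obtain ⟨x, hx⟩ := hb.2 y
  refine ⟨hh0 M x, fun n => ?_⟩
  have h1 : Formal.toHHmodPow I M 0 n x = (hh0 (Formal.modPow I (n + 1) M)).symm (s n) :=
    congrArg (fun z : Formal.HHlim I M 0 => z.1 n) hx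
  have h2 := congrArg (hh0 (Formal.modPow I (n + 1) M)) h1
  rw [AddEquiv.apply_symm_apply] at h2
  rw [← h2]
  exact (hh0_map (Formal.modPowπ I (n + 1) M) x).symm

include hM in
theorem eq_zero_of_forall_modPowπ_eq_zero (m : Γ(M, ⊤))
    (hm : ∀ n, (Formal.modPowπ I (n + 1) M).app ⊤ m = 0) : m = 0 := by
  have hb := Groth.Agent.Lib.Helper12.H12FF.formal_functions_complete A I X M hM 0
  have h1 : Formal.toHHlim I M 0 ((hh0 M).symm m) = 0 := by
    apply Subtype.ext
    funext n
    change Sheaf.H.map ((SheafOfModules.toSheaf _).map (Formal.modPowπ I (n + 1) M)) 0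
      ((hh0 M).symm m) = 0
    rw [hh0_symm_map, hm n, map_zero]
  have h2 : (hh0 M).symm m = 0 := hb.1 (h1.trans (map_zero _).symm)
  have h3 := congrArg (hh0 M) h2
  rwa [AddEquiv.apply_symm_apply, map_zero] at h3

end FF

end Groth.Agent.Lib.Helper4.ZC
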