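import Mathlib
import Groth.Agent.Lib.Helper4.ZC2
import Groth.Agent.Lib.Helper4.ZC3
import Groth.Agent.Lib.Helper9.RefStalk2

/-!
# The idempotent attached to a decomposition of the closed fibre
-/

set_option autoImplicit false
set_option linter.style.haveILetI false
set_option linter.unusedSectionVars false
universe u

namespace Groth.Agent.Lib.Helper4.ZC

open AlgebraicGeometry CategoryTheory Limits TopologicalSpace Opposite
open Groth.Agent.Lib.Helper29.QCoh Groth.Agent.Lib.Helper12.H12FF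

variable (A : Type u) [CommRing A] [IsNoetherianRing A] (I : Ideal A) [IsAdicComplete I A]
  (X : Scheme.{u}) [X.Over (Spec (CommRingCat.of A))] [IsProper (X ↘ Spec (CommRingCat.of A))]

theorem exists_idempotent (U₁ U₂ : X.Opens) (hcov : U₁ ⊔ U₂ = ⊤)
    (hoff : ∀ x ∈ U₁ ⊓ U₂, ∃ a ∈ I, x ∈ X.basicOpen (glHom (X := X) ⊤ a)) :
    ∃ e : Γ(X, ⊤), IsIdempotentElem e ∧
      res _ (le_top : U₁ ≤ ⊤) ((Formal.modPowπ I 1 (unitM X)).app ⊤ (toUnit (1 - e))) = 0 ∧
      res _ (le_top : U₂ ≤ ⊤) ((Formal.modPowπ I 1 (unitM X)).app ⊤ (toUnit e)) = 0 := by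
  have hM : Coh.IsCoh (unitM X) := Groth.Agent.Lib.Helper9.RefStalk.isCoh_unit X
  -- the glued sections
  have hex := fun n : ℕ => exists_sec I (n + 1) (unitM X) U₁ U₂ hcov hoff (toUnit (1 : Γ(X, ⊤)))
  choose s hs1 hs2 using hex
  have hcompat : ∀ n, (Formal.modPowTrans I (n + 1) (unitM X)).app ⊤ (s (n + 1)) = s n := by
    intro n
    apply sec_unique _ U₁ U₂ hcov
    · rw [← app_res, hs1 (n + 1), app_res, hs1 n]
      congr 1
      change ((Formal.modPowπ I (n + 1 + 1) (unitM X)) ≫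
        (Formal.modPowTrans I (n + 1) (unitM X))).app ⊤ _ = _
      rw [Formal.modPowπ_trans]
    · rw [← app_res, hs2 (n + 1), map_zero, hs2 n]
  obtain ⟨m, hm⟩ := exists_section_of_compatible A I X (unitM X) hM s hcompat
  -- the key vanishing
  have hkey : ∀ n, (Formal.modPowπ I (n + 1) (unitM X)).app ⊤
      (toUnit (fromUnit m * (1 - fromUnit m))) = 0 := by
    intro n
    have e1 : toUnit (fromUnit m * (1 - fromUnit m)) =
        fromUnit m • (toUnit (1 : Γ(X, ⊤)) - m) := rfl
    rw [e1, Scheme.Modules.Hom.app_smul, map_sub, hm n]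
    apply sec_unique _ U₁ U₂ hcov
    · rw [res_smul, map_sub, hs1 n, sub_self, smul_zero, map_zero]
    · rw [map_zero, res_smul, map_sub, hs2 n, sub_zero, ← res_smul,
        ← Scheme.Modules.Hom.app_smul]
      have e2 : fromUnit m • toUnit (1 : Γ(X, ⊤)) = m := by
        change fromUnit m * 1 = m
        rw [mul_one]
        rfl
      rw [e2, hm n, hs2 n]
  have hzero : toUnit (fromUnit m * (1 - fromUnit m)) = 0 :=
    eq_zero_of_forall_modPowπ_eq_zero A I X (unitM X) hM _ hkey
  have hidem : IsIdempotentElem (fromUnit m) := by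
    have h1 : fromUnit m * (1 - fromUnit m) = 0 := hzero
    rw [mul_sub, mul_one, sub_eq_zero] at h1
    exact h1.symm
  refine ⟨fromUnit m, hidem, ?_, ?_⟩
  · have e3 : toUnit (1 - fromUnit m) = toUnit (1 : Γ(X, ⊤)) - m := rfl
    rw [e3, map_sub, hm 0, map_sub, hs1 0, sub_self]
  · have e4 : toUnit (fromUnit m) = m := rfl
    rw [e4, hm 0, hs2 0]

end Groth.Agent.Lib.Helper4.ZC
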