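import Mathlib
import Groth.Agent.Lib.Helper4.ZC2

/-!
# Detecting vanishing on the closed fibre through `O_X / I O_X ⟶ i_* O_{X₀}`
-/

set_option autoImplicit false
set_option linter.style.haveILetI false
set_option linter.unusedSectionVars false
universe u

namespace Groth.Agent.Lib.Helper4.ZC

open AlgebraicGeometry CategoryTheory Limits TopologicalSpace Opposite
open Groth.Agent.Lib.Helper29.QCoh Groth.Agent.Lib.Helper12.H12FF

variable {A : Type u} [CommRing A] {X : Scheme.{u}} [X.Over (Spec (CommRingCat.of A))]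

theorem app_glHom {X₀ : Scheme.{u}} (i : X₀ ⟶ X) (I : Ideal A)
    (hi : ∀ a ∈ I, i.appTop.hom (glHom (X := X) ⊤ a) = 0) (U : X.Opens) (a : A) (ha : a ∈ I) :
    (i.app U).hom (glHom U a) = 0 := by
  rw [← res_glHom (le_top : U ≤ ⊤) a]
  have h1 := i.naturality (homOfLE (le_top : U ≤ ⊤)).op
  have h2 := congrArg (fun k => k.hom (glHom (X := X) ⊤ a)) h1
  simp only [CommRingCat.hom_comp, RingHom.comp_apply] at h2
  rw [h2]
  have h3 : (i.app ⊤).hom (glHom (X := X) ⊤ a) = 0 := hi a ha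
  rw [h3, map_zero]

theorem smulFamily_unitToPush {X₀ : Scheme.{u}} (i : X₀ ⟶ X) (I : Ideal A)
    (hi : ∀ a ∈ I, i.appTop.hom (glHom (X := X) ⊤ a) = 0) :
    Formal.smulFamily (I ^ 1) (unitM X) ≫ ClSub.unitToPush i = 0 := by
  apply Limits.Sigma.hom_ext
  intro a
  rw [← Category.assoc, ι_smulFamily, comp_zero]
  apply Scheme.Modules.hom_ext
  intro U
  ext s
  change (ClSub.unitToPush i).app U ((Formal.smulMod A (unitM X) (a : A)).app U s) = 0
  rw [smulMod_app, unitToPush_app, fromUnit_smul, map_mul,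
    app_glHom i I hi U a (by simpa using a.2), zero_mul]
  rfl

theorem not_mem_basicOpen_of_res_eq_zero {X₀ : Scheme.{u}} (i : X₀ ⟶ X) (I : Ideal A)
    (hi : ∀ a ∈ I, i.appTop.hom (glHom (X := X) ⊤ a) = 0)
    (r : Γ(X, ⊤)) (U' : X.Opens)
    (h : res _ (le_top : U' ≤ ⊤) ((Formal.modPowπ I 1 (unitM X)).app ⊤ (toUnit r)) = 0)
    (y : X₀) (hy : i.base y ∈ U') : i.base y ∉ X.basicOpen r := by
  let φ : Formal.modPow I 1 (unitM X) ⟶
      (Scheme.Modules.pushforward i).obj (Coh.structureModule X₀) :=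
    cokernel.desc (Formal.smulFamily (I ^ 1) (unitM X)) (ClSub.unitToPush i)
      (smulFamily_unitToPush i I hi)
  have hφ : Formal.modPowπ I 1 (unitM X) ≫ φ = ClSub.unitToPush i := cokernel.π_desc _ _ _
  have h1 : φ.app U' (res _ (le_top : U' ≤ ⊤)
      ((Formal.modPowπ I 1 (unitM X)).app ⊤ (toUnit r))) = 0 := by
    rw [h]
    exact map_zero (φ.app U').hom
  rw [app_res] at h1
  have h2 : φ.app ⊤ ((Formal.modPowπ I 1 (unitM X)).app ⊤ (toUnit r)) =
      toUnit (i.appTop.hom r) := by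
    change (Formal.modPowπ I 1 (unitM X) ≫ φ).app ⊤ (toUnit r) = _
    rw [hφ]
    rfl
  rw [h2] at h1
  have h3 : X₀.presheaf.map (homOfLE (le_top : i ⁻¹ᵁ U' ≤ ⊤)).op (i.appTop.hom r) = 0 := h1
  intro hmem
  have h4 : y ∈ X₀.basicOpen
      (X₀.presheaf.map (homOfLE (le_top : i ⁻¹ᵁ U' ≤ ⊤)).op (i.appTop.hom r)) := by
    rw [Scheme.basicOpen_res]
    refine ⟨hy, ?_⟩
    have h5 := Scheme.preimage_basicOpen_top i r
    have h6 : y ∈ i ⁻¹ᵁ X.basicOpen r := hmem
    rw [h5] at h6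
    exact h6
  rw [h3, Scheme.basicOpen_zero] at h4
  exact h4

end Groth.Agent.Lib.Helper4.ZC
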