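import Mathlib
import Groth.Agent.Lib.Helper4.ZC4
import Groth.Agent.Lib.Helper4.ZC5
import Groth.Agent.Lib.Helper4.HC3

/-!
# Clopen subsets of the closed fibre lift, for a proper scheme over a complete Noetherian ring
-/

set_option autoImplicit false
set_option linter.style.haveILetI false
set_option linter.unusedSectionVars false
universe u

namespace Groth.Agent.Lib.Helper4.ZC

open AlgebraicGeometry CategoryTheory Limits TopologicalSpace Opposite
open Groth.Agent.Lib.Helper29.QCoh Groth.Agent.Lib.Helper12.H12FF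

theorem range_fst_eq (A : Type u) [CommRing A] (I : Ideal A) {X : Scheme.{u}}
    (f : X ⟶ Spec (CommRingCat.of A)) :
    Set.range (pullback.fst f (Spec.map (CommRingCat.ofHom (Ideal.Quotient.mk I)))).base =
      f.base ⁻¹' (PrimeSpectrum.zeroLocus (I : Set A)) := by
  rw [Scheme.Pullback.range_fst]
  congr 1
  have h := _root_.range_comap_of_surjective (A ⧸ I) (Ideal.Quotient.mk I)
    Ideal.Quotient.mk_surjective
  rw [Ideal.mk_ker] at h
  exact h

theorem mem_basicOpen_glHom {A : Type u} [CommRing A] {X : Scheme.{u}}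
    [X.Over (Spec (CommRingCat.of A))] (a : A) (x : X)
    (hx : a ∉ ((X ↘ Spec (CommRingCat.of A)).base x).asIdeal) :
    x ∈ X.basicOpen (glHom (X := X) ⊤ a) := by
  unfold glHom
  simp only [RingHom.comp_apply]
  erw [Scheme.basicOpen_res]
  refine ⟨trivial, ?_⟩
  erw [← Scheme.preimage_basicOpen_top]
  change (X ↘ Spec (CommRingCat.of A)).base x ∈
    (Spec (CommRingCat.of A)).basicOpen ((Scheme.ΓSpecIso (CommRingCat.of A)).inv.hom a)
  erw [basicOpen_eq_of_affine]
  exact hx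

theorem appTop_glHom_eq_zero (A : Type u) [CommRing A] (I : Ideal A) {X : Scheme.{u}}
    (f : X ⟶ Spec (CommRingCat.of A)) (a : A) (ha : a ∈ I) :
    letI : X.Over (Spec (CommRingCat.of A)) := ⟨f⟩
    (pullback.fst f (Spec.map (CommRingCat.ofHom (Ideal.Quotient.mk I)))).appTop.hom
      (glHom (X := X) ⊤ a) = 0 := by
  letI : X.Over (Spec (CommRingCat.of A)) := ⟨f⟩
  let mk : Spec (CommRingCat.of (A ⧸ I)) ⟶ Spec (CommRingCat.of A) :=
    Spec.map (CommRingCat.ofHom (Ideal.Quotient.mk I))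
  let i : pullback f mk ⟶ X := pullback.fst f mk
  let sn : pullback f mk ⟶ Spec (CommRingCat.of (A ⧸ I)) := pullback.snd f mk
  let γA := Scheme.ΓSpecIso (CommRingCat.of A)
  have e0 : glHom (X := X) ⊤ a = f.appTop.hom (γA.inv.hom a) := by
    unfold glHom
    simp only [RingHom.comp_apply]
    change (X.presheaf.map (𝟙 _)).hom _ = _
    rw [X.presheaf.map_id]
    rfl
  rw [e0]
  have e1 : f.appTop ≫ i.appTop = mk.appTop ≫ sn.appTop := by
    rw [← Scheme.Hom.comp_appTop, ← Scheme.Hom.comp_appTop, pullback.condition]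
  have e2 : CommRingCat.ofHom (Ideal.Quotient.mk I) ≫
      (Scheme.ΓSpecIso (CommRingCat.of (A ⧸ I))).inv = γA.inv ≫ mk.appTop :=
    Scheme.ΓSpecIso_inv_naturality _
  have e3 : γA.inv ≫ f.appTop ≫ i.appTop = CommRingCat.ofHom (Ideal.Quotient.mk I) ≫
      (Scheme.ΓSpecIso (CommRingCat.of (A ⧸ I))).inv ≫ sn.appTop := by
    rw [e1, ← Category.assoc, ← e2, Category.assoc]
  have e4 := congrArg (fun m => m.hom a) e3
  simp only [CommRingCat.hom_comp, RingHom.comp_apply, CommRingCat.hom_ofHom] at e4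
  have e5 : Ideal.Quotient.mk I a = 0 := Ideal.Quotient.eq_zero_iff_mem.mpr ha
  rw [e5, map_zero, map_zero] at e4
  exact e4

/-- **Existence of clopen lifts** for a proper scheme over a complete Noetherian ring. -/
theorem exists_clopen_lift (A : Type u) [CommRing A] [IsNoetherianRing A] (I : Ideal A)
    [IsAdicComplete I A] {X : Scheme.{u}} (f : X ⟶ Spec (CommRingCat.of A)) [IsProper f]
    (V : Set ↥(pullback f (Spec.map (CommRingCat.ofHom (Ideal.Quotient.mk I)))))
    (hV : IsClopen V) :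
    ∃ U : Set X, IsClopen U ∧
      (pullback.fst f (Spec.map (CommRingCat.ofHom (Ideal.Quotient.mk I)))).base ⁻¹' U = V := by
  letI : X.Over (Spec (CommRingCat.of A)) := ⟨f⟩
  haveI : IsProper (X ↘ Spec (CommRingCat.of A)) := ‹IsProper f›
  let mk : Spec (CommRingCat.of (A ⧸ I)) ⟶ Spec (CommRingCat.of A) :=
    Spec.map (CommRingCat.ofHom (Ideal.Quotient.mk I))
  haveI : IsClosedImmersion mk :=
    IsClosedImmersion.spec_of_surjective _ Ideal.Quotient.mk_surjective
  let i : pullback f mk ⟶ X := pullback.fst f mk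
  haveI : IsClosedImmersion i := by
    dsimp only [i]
    infer_instance
  have hemb : Topology.IsClosedEmbedding i.base := i.isClosedEmbedding
  have hZ₁ : IsClosed (i.base '' V) := hemb.isClosedMap _ hV.isClosed
  have hZ₂ : IsClosed (i.base '' Vᶜ) := hemb.isClosedMap _ hV.compl.isClosed
  let U₁ : X.Opens := ⟨(i.base '' Vᶜ)ᶜ, hZ₂.isOpen_compl⟩
  let U₂ : X.Opens := ⟨(i.base '' V)ᶜ, hZ₁.isOpen_compl⟩
  have hmemU₁ : ∀ y, y ∈ V → i.base y ∈ U₁ := by
    rintro y hy ⟨y', hy', h'⟩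
    exact hy' (hemb.injective h' ▸ hy)
  have hmemU₂ : ∀ y, y ∉ V → i.base y ∈ U₂ := by
    rintro y hy ⟨y', hy', h'⟩
    exact hy (hemb.injective h' ▸ hy')
  have hcov : U₁ ⊔ U₂ = ⊤ := by
    rw [eq_top_iff]
    intro x _
    by_cases hx : x ∈ i.base '' V
    · left
      obtain ⟨y, hy, rfl⟩ := hx
      exact hmemU₁ y hy
    · right
      exact hx
  have hoff : ∀ x ∈ U₁ ⊓ U₂, ∃ a ∈ I, x ∈ X.basicOpen (glHom (X := X) ⊤ a) := by
    rintro x ⟨hx1, hx2⟩
    have hx : x ∉ Set.range i.base := by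
      rintro ⟨y, rfl⟩
      by_cases hy : y ∈ V
      · exact hx2 ⟨y, hy, rfl⟩
      · exact hx1 ⟨y, hy, rfl⟩
    rw [range_fst_eq A I f] at hx
    have hx' : ¬ (I : Set A) ⊆ (f.base x).asIdeal := hx
    obtain ⟨a, haI, ha⟩ := Set.not_subset.mp hx'
    exact ⟨a, haI, mem_basicOpen_glHom a x ha⟩
  have hi : ∀ a ∈ I, i.appTop.hom (glHom (X := X) ⊤ a) = 0 :=
    fun a ha => appTop_glHom_eq_zero A I f a ha
  obtain ⟨e, he, h1, h2⟩ := exists_idempotent A I X U₁ U₂ hcov hoff
  refine ⟨(X.basicOpen e : Set X),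
    Groth.Agent.Lib.Helper4.HC.isClopen_basicOpen_of_isIdempotentElem e he, ?_⟩
  ext y
  constructor
  · intro hy
    by_contra hyV
    exact not_mem_basicOpen_of_res_eq_zero i I hi e U₂ h2 y (hmemU₂ y hyV) hy
  · intro hyV
    have h3 := not_mem_basicOpen_of_res_eq_zero i I hi (1 - e) U₁ h1 y (hmemU₁ y hyV)
    have hsup := Groth.Agent.Lib.Helper4.HC.basicOpen_sup_one_sub e
    have h4 : i.base y ∈ X.basicOpen e ⊔ X.basicOpen (1 - e) := by
      rw [hsup]
      trivial
    rcases h4 with h | h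
    · exact h
    · exact absurd h h3

end Groth.Agent.Lib.Helper4.ZC
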