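import Mathlib
import Groth.Agent.Lib.Helper4.ZC6

/-!
# Zariski connectedness, local form (no completeness): via the uniform Mittag-Leffler property
-/

set_option autoImplicit false
set_option linter.style.haveILetI false
set_option linter.unusedSectionVars false
universe u

namespace Groth.Agent.Lib.Helper4.ZC

open AlgebraicGeometry CategoryTheory Limits TopologicalSpace Opposite
open Groth.Agent.Lib.Helper29.QCoh Groth.Agent.Lib.Helper12.H12FF

section ML
variable (A : Type u) [CommRing A] [IsNoetherianRing A] (I : Ideal A)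
  (X : Scheme.{u}) [X.Over (Spec (CommRingCat.of A))] [IsProper (X ↘ Spec (CommRingCat.of A))]
  (M : X.Modules) (hM : Coh.IsCoh M)

include hM in
/-- Sections of `M / I M` that lift to a deep enough level come from global sections of `M`. -/
theorem exists_section_level_zero :
    ∃ c : ℕ, ∀ s : Γ(Formal.modPow I (c + 1) M, ⊤), ∃ m : Γ(M, ⊤),
      (Formal.modPowπ I (0 + 1) M).app ⊤ m =
        (modPowLe I M (Nat.succ_le_succ (Nat.zero_le c))).app ⊤ s := by
  obtain ⟨c, hc⟩ := exists_ML A I X M hM 0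
  refine ⟨c, fun s => ?_⟩
  obtain ⟨x, hx⟩ := hc 0 c (Nat.zero_le c) (by rw [zero_add])
    ((hh0 (Formal.modPow I (c + 1) M)).symm s)
  refine ⟨hh0 M x, ?_⟩
  have h1 : Formal.toHHmodPow I M 0 0 x =
      Sheaf.H.map ((SheafOfModules.toSheaf _).map
        (modPowLe I M (Nat.succ_le_succ (Nat.zero_le c)))) 0
        ((hh0 (Formal.modPow I (c + 1) M)).symm s) := hx
  rw [hh0_symm_map] at h1
  have h2 := congrArg (hh0 (Formal.modPow I (0 + 1) M)) h1
  rw [AddEquiv.apply_symm_apply] at h2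
  rw [← h2]
  exact (hh0_map (Formal.modPowπ I (0 + 1) M) x).symm

end ML

/-- The two opens attached to a clopen subset of the closed fibre. -/
theorem exists_opens_of_isClopen (A : Type u) [CommRing A] (I : Ideal A) {X : Scheme.{u}}
    (f : X ⟶ Spec (CommRingCat.of A))
    (V : Set ↥(pullback f (Spec.map (CommRingCat.ofHom (Ideal.Quotient.mk I)))))
    (hV : IsClopen V) :
    letI : X.Over (Spec (CommRingCat.of A)) := ⟨f⟩
    ∃ U₁ U₂ : X.Opens, U₁ ⊔ U₂ = ⊤ ∧
      (∀ x ∈ U₁ ⊓ U₂, ∃ a ∈ I, x ∈ X.basicOpen (glHom (X := X) ⊤ a)) ∧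
      (∀ y, y ∈ V →
        (pullback.fst f (Spec.map (CommRingCat.ofHom (Ideal.Quotient.mk I)))).base y ∈ U₁) ∧
      (∀ y, y ∉ V →
        (pullback.fst f (Spec.map (CommRingCat.ofHom (Ideal.Quotient.mk I)))).base y ∈ U₂) := by
  letI : X.Over (Spec (CommRingCat.of A)) := ⟨f⟩
  let mk : Spec (CommRingCat.of (A ⧸ I)) ⟶ Spec (CommRingCat.of A) :=
    Spec.map (CommRingCat.ofHom (Ideal.Quotient.mk I))
  haveI : IsClosedImmersion mk :=
    IsClosedImmersion.spec_of_surjective _ Ideal.Quotient.mk_surjective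
  let i : pullback f mk ⟶ X := pullback.fst f mk
  haveI : IsClosedImmersion i := by
    dsimp only [i]
    infer_instance
  have hemb : Topology.IsClosedEmbedding i.base := i.isClosedEmbedding
  have hZ₁ : IsClosed (i.base '' V) := hemb.isClosedMap _ hV.isClosed
  have hZ₂ : IsClosed (i.base '' Vᶜ) := hemb.isClosedMap _ hV.compl.isClosed
  let U₁ : X.Opens := ⟨(i.base '' Vᶜ)ᶜ, hZ₂.isOpen_compl⟩
  let U₂ : X.Opens := ⟨(i.base '' V)ᶜ, hZ₁.isOpen_compl⟩
  have hmemU₁ : ∀ y, y ∈ V → i.base y ∈ U₁ := by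
    rintro y hy ⟨y', hy', h'⟩
    exact hy' (hemb.injective h' ▸ hy)
  have hmemU₂ : ∀ y, y ∉ V → i.base y ∈ U₂ := by
    rintro y hy ⟨y', hy', h'⟩
    exact hy (hemb.injective h' ▸ hy')
  refine ⟨U₁, U₂, ?_, ?_, hmemU₁, hmemU₂⟩
  · rw [eq_top_iff]
    intro x _
    by_cases hx : x ∈ i.base '' V
    · left
      obtain ⟨y, hy, rfl⟩ := hx
      exact hmemU₁ y hy
    · right
      exact hx
  · rintro x ⟨hx1, hx2⟩
    have hx : x ∉ Set.range i.base := by
      rintro ⟨y, rfl⟩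
      by_cases hy : y ∈ V
      · exact hx2 ⟨y, hy, rfl⟩
      · exact hx1 ⟨y, hy, rfl⟩
    rw [range_fst_eq A I f] at hx
    have hx' : ¬ (I : Set A) ⊆ (f.base x).asIdeal := hx
    obtain ⟨a, haI, ha⟩ := Set.not_subset.mp hx'
    exact ⟨a, haI, mem_basicOpen_glHom a x ha⟩

/-- **Zariski connectedness, local form.** If every global function on `X` (proper over a
Noetherian ring `A`) is a unit or has unit complement, then the fibre over `V(I)` has only
trivial clopen subsets. -/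
theorem eq_empty_or_univ_of_isClopen (A : Type u) [CommRing A] [IsNoetherianRing A]
    (I : Ideal A) {X : Scheme.{u}} (f : X ⟶ Spec (CommRingCat.of A)) [IsProper f]
    (hloc : ∀ m : Γ(X, ⊤), IsUnit m ∨ IsUnit (1 - m))
    (V : Set ↥(pullback f (Spec.map (CommRingCat.ofHom (Ideal.Quotient.mk I)))))
    (hV : IsClopen V) : V = ∅ ∨ V = Set.univ := by
  letI : X.Over (Spec (CommRingCat.of A)) := ⟨f⟩
  haveI : IsProper (X ↘ Spec (CommRingCat.of A)) := ‹IsProper f›
  obtain ⟨U₁, U₂, hcov, hoff, hmemU₁, hmemU₂⟩ := exists_opens_of_isClopen A I f V hV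
  have hM : Coh.IsCoh (unitM X) := Groth.Agent.Lib.Helper9.RefStalk.isCoh_unit X
  obtain ⟨c, hc⟩ := exists_section_level_zero A I X (unitM X) hM
  obtain ⟨sc, hsc1, hsc2⟩ :=
    exists_sec I (c + 1) (unitM X) U₁ U₂ hcov hoff (toUnit (1 : Γ(X, ⊤)))
  obtain ⟨s0, hs01, hs02⟩ :=
    exists_sec I (0 + 1) (unitM X) U₁ U₂ hcov hoff (toUnit (1 : Γ(X, ⊤)))
  have hcompat : (modPowLe I (unitM X) (Nat.succ_le_succ (Nat.zero_le c))).app ⊤ sc = s0 := by
    apply sec_unique _ U₁ U₂ hcov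
    · rw [← app_res, hsc1, app_res, hs01]
      congr 1
      change ((Formal.modPowπ I (c + 1) (unitM X)) ≫
        (modPowLe I (unitM X) (Nat.succ_le_succ (Nat.zero_le c)))).app ⊤ _ = _
      rw [modPowπ_le]
    · rw [← app_res, hsc2, map_zero, hs02]
  obtain ⟨m, hm⟩ := hc sc
  rw [hcompat] at hm
  let mk : Spec (CommRingCat.of (A ⧸ I)) ⟶ Spec (CommRingCat.of A) :=
    Spec.map (CommRingCat.ofHom (Ideal.Quotient.mk I))
  let i : pullback f mk ⟶ X := pullback.fst f mk
  have hi : ∀ a ∈ I, i.appTop.hom (glHom (X := X) ⊤ a) = 0 :=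
    fun a ha => appTop_glHom_eq_zero A I f a ha
  have h1 : res _ (le_top : U₁ ≤ ⊤)
      ((Formal.modPowπ I 1 (unitM X)).app ⊤ (toUnit (1 - fromUnit m))) = 0 := by
    have e3 : toUnit (1 - fromUnit m) = toUnit (1 : Γ(X, ⊤)) - m := rfl
    rw [e3, map_sub]
    change res _ (le_top : U₁ ≤ ⊤) ((Formal.modPowπ I (0 + 1) (unitM X)).app ⊤ (toUnit 1) -
      (Formal.modPowπ I (0 + 1) (unitM X)).app ⊤ m) = 0
    rw [hm, map_sub, hs01, sub_self]
  have h2 : res _ (le_top : U₂ ≤ ⊤)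
      ((Formal.modPowπ I 1 (unitM X)).app ⊤ (toUnit (fromUnit m))) = 0 := by
    have e4 : toUnit (fromUnit m) = m := rfl
    rw [e4]
    change res _ (le_top : U₂ ≤ ⊤) ((Formal.modPowπ I (0 + 1) (unitM X)).app ⊤ m) = 0
    rw [hm, hs02]
  rcases hloc (fromUnit m) with hu | hu
  · right
    rw [Set.eq_univ_iff_forall]
    intro y
    by_contra hyV
    have h3 := not_mem_basicOpen_of_res_eq_zero i I hi (fromUnit m) U₂ h2 y (hmemU₂ y hyV)
    rw [Scheme.basicOpen_of_isUnit _ hu] at h3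
    exact h3 trivial
  · left
    rw [Set.eq_empty_iff_forall_notMem]
    intro y hyV
    have h3 := not_mem_basicOpen_of_res_eq_zero i I hi (1 - fromUnit m) U₁ h1 y (hmemU₁ y hyV)
    rw [Scheme.basicOpen_of_isUnit _ hu] at h3
    exact h3 trivial

end Groth.Agent.Lib.Helper4.ZC
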