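import Mathlib
import Groth.Agent.Lib.Helper4.HC4

/-!
# Base change to the local ring: global sections of `X ×_Y Spec O_{Y,y}` when `f_* O_X = O_Y`
-/

set_option autoImplicit false
set_option linter.style.haveILetI false
set_option linter.unusedSectionVars false
universe u

namespace Groth.Agent.Lib.Helper4.ZL

open AlgebraicGeometry CategoryTheory Limits TopologicalSpace Opposite

theorem flat_fromSpecStalkOfMem {Y : Scheme.{u}} (V : Y.Opens) (hV : IsAffineOpen V) (y : Y)
    (hy : y ∈ V) : Flat (V.fromSpecStalkOfMem y hy) := by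
  haveI : IsAffine (V : Scheme) := hV
  have h1 : Flat (Spec.map (Y.presheaf.germ V y hy)) := by
    rw [Flat.SpecMap_iff]
    let _ : Algebra Γ(Y, V) (Y.presheaf.stalk y) :=
      TopCat.Presheaf.algebra_section_stalk Y.presheaf ⟨y, hy⟩
    have hloc := hV.isLocalization_stalk ⟨y, hy⟩
    exact IsLocalization.flat (Y.presheaf.stalk y) (hV.primeIdealOf ⟨y, hy⟩).asIdeal.primeCompl
  haveI : IsIso V.toSpecΓ := by
    delta Scheme.Opens.toSpecΓ
    infer_instance
  have h2 : V.fromSpecStalkOfMem y hy = Spec.map (Y.presheaf.germ V y hy) ≫ inv V.toSpecΓ := by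
    rw [← Scheme.Opens.fromSpecStalkOfMem_toSpecΓ, Category.assoc, IsIso.hom_inv_id,
      Category.comp_id]
  rw [h2]
  infer_instance

/-- If `O_Y(W) → O_X(f⁻¹ W)` is an isomorphism for all opens `W`, then `O_{Y,y}` maps
isomorphically onto the global sections of `X ×_Y Spec O_{Y,y}` (flat base change). -/
theorem isIso_snd_appTop {X Y : Scheme.{u}} (f : X ⟶ Y) [QuasiCompact f] [QuasiSeparated f]
    (y : Y) (hiso : ∀ W : Y.Opens, IsIso (f.app W)) :
    IsIso (pullback.snd f (Y.fromSpecStalk y)).appTop := by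
  obtain ⟨V, hV, hy, -⟩ :=
    exists_isAffineOpen_mem_and_subset (x := y) (U := (⊤ : Y.Opens)) trivial
  haveI : IsAffine (V : Scheme) := hV
  let g₁ := pullback.fst f (Y.fromSpecStalk y)
  let g₂ := pullback.snd f (Y.fromSpecStalk y)
  let t := V.fromSpecStalkOfMem y hy
  haveI : Flat t := flat_fromSpecStalkOfMem V hV y hy
  have hR := isPullback_morphismRestrict f V
  have hcond : (g₂ ≫ t) ≫ V.ι = g₁ ≫ f := by
    rw [Category.assoc, Scheme.Opens.fromSpecStalkOfMem_ι]
    exact pullback.condition.symm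
  let l := hR.lift (g₂ ≫ t) g₁ hcond
  have hl1 : l ≫ (f ∣_ V) = g₂ ≫ t := hR.lift_fst _ _ _
  have hl2 : l ≫ (f ⁻¹ᵁ V).ι = g₁ := hR.lift_snd _ _ _
  have hbig : IsPullback (l ≫ (f ⁻¹ᵁ V).ι) g₂ f (t ≫ V.ι) := by
    rw [hl2, Scheme.Opens.fromSpecStalkOfMem_ι]
    exact IsPullback.of_hasPullback f (Y.fromSpecStalk y)
  have hleft : IsPullback l g₂ (f ∣_ V) t := IsPullback.of_right hbig hl1 hR.flip
  haveI : CompactSpace ((f ⁻¹ᵁ V : X.Opens) : Scheme) :=
    QuasiCompact.compactSpace_of_compactSpace (f ∣_ V)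
  haveI : QuasiSeparatedSpace ((f ⁻¹ᵁ V : X.Opens) : Scheme) :=
    quasiSeparatedSpace_of_quasiSeparated (f ∣_ V)
  have hpo := Groth.Agent.Lib.Helper4.HC.isPushout_appTop_of_flat hleft
  haveI : IsIso (f ∣_ V).appTop := by
    rw [morphismRestrict_appTop]
    have h2 : IsIso (X.presheaf.map (eqToHom (image_morphismRestrict_preimage f V ⊤)).op) := by
      infer_instance
    exact @IsIso.comp_isIso _ _ _ _ _ _ _ (hiso _) h2
  exact hpo.isIso_inr_of_isIso

/-- Under the same hypothesis the ring of global sections of `X ×_Y Spec O_{Y,y}` is "local". -/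
theorem isUnit_or_isUnit_one_sub {X Y : Scheme.{u}} (f : X ⟶ Y) [QuasiCompact f]
    [QuasiSeparated f] (y : Y) (hiso : ∀ W : Y.Opens, IsIso (f.app W))
    (m : Γ(pullback f (Y.fromSpecStalk y), ⊤)) : IsUnit m ∨ IsUnit (1 - m) := by
  haveI := isIso_snd_appTop f y hiso
  let e : Y.presheaf.stalk y ⟶ Γ(pullback f (Y.fromSpecStalk y), ⊤) :=
    (Scheme.ΓSpecIso (Y.presheaf.stalk y)).inv ≫ (pullback.snd f (Y.fromSpecStalk y)).appTop
  haveI : IsIso e := by
    dsimp only [e]
    infer_instance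
  have hbij : Function.Bijective e.hom := ConcreteCategory.bijective_of_isIso e
  obtain ⟨a, rfl⟩ := hbij.2 m
  rcases IsLocalRing.isUnit_or_isUnit_one_sub_self a with h | h
  · exact Or.inl (h.map e.hom)
  · right
    have := h.map e.hom
    rwa [map_sub, map_one] at this

end Groth.Agent.Lib.Helper4.ZL
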