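import Mathlib
import Groth.Agent.Lib.Helper4.ZL1
import Groth.Agent.Lib.Helper4.ZC8

/-!
# Zariski's connectedness theorem: fibres of a proper morphism with `f_* O_X = O_Y`
-/

set_option autoImplicit false
set_option linter.style.haveILetI false
set_option linter.unusedSectionVars false
universe u

namespace Groth.Agent.Lib.Helper4.ZL

open AlgebraicGeometry CategoryTheory Limits TopologicalSpace Opposite

/-- If `f` is proper over a locally Noetherian base and `O_Y → f_* O_X` is an isomorphism,
the fibres of `f` are preconnected. -/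
theorem preconnectedSpace_fiber {X Y : Scheme.{u}} (f : X ⟶ Y) [IsProper f]
    [IsLocallyNoetherian Y] (y : Y) (hiso : ∀ W : Y.Opens, IsIso (f.app W)) :
    PreconnectedSpace ↥(f.fiber y) := by
  let A : Type u := Y.presheaf.stalk y
  let g : pullback f (Y.fromSpecStalk y) ⟶ Spec (CommRingCat.of A) :=
    pullback.snd f (Y.fromSpecStalk y)
  haveI : IsProper g := by
    dsimp only [g]
    infer_instance
  haveI : IsNoetherianRing A := inferInstanceAs (IsNoetherianRing (Y.presheaf.stalk y))
  have hloc : ∀ m : Γ(pullback f (Y.fromSpecStalk y), ⊤), IsUnit m ∨ IsUnit (1 - m) :=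
    fun m => isUnit_or_isUnit_one_sub f y hiso m
  have key := Groth.Agent.Lib.Helper4.ZC.eq_empty_or_univ_of_isClopen A
    (IsLocalRing.maximalIdeal A) g hloc
  let e : pullback g (Spec.map (CommRingCat.ofHom (Ideal.Quotient.mk (IsLocalRing.maximalIdeal A))))
      ≅ f.fiber y :=
    pullbackLeftPullbackSndIso f (Y.fromSpecStalk y) (Spec.map (Y.residue y))
  let h := Scheme.homeoOfIso e
  rw [preconnectedSpace_iff_clopen]
  intro s hs
  have hs' : IsClopen (h ⁻¹' s) := hs.preimage h.continuous
  rcases key _ hs' with h0 | h1
  · left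
    have := congrArg (fun t => h.symm ⁻¹' t) h0
    simpa [← Set.preimage_comp] using this
  · right
    have := congrArg (fun t => h.symm ⁻¹' t) h1
    simpa [← Set.preimage_comp] using this

end Groth.Agent.Lib.Helper4.ZL
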