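import Mathlib
import Groth.Agent.Lib.Helper4.ZL2

/-!
# Zariski connectedness with the isomorphism hypothesis on one affine neighbourhood
-/

set_option autoImplicit false
set_option linter.style.haveILetI false
set_option linter.unusedSectionVars false
universe u

namespace Groth.Agent.Lib.Helper4.ZL

open AlgebraicGeometry CategoryTheory Limits TopologicalSpace Opposite

theorem isIso_snd_appTop' {X Y : Scheme.{u}} (f : X ⟶ Y) [QuasiCompact f] [QuasiSeparated f]
    (y : Y) (V : Y.Opens) (hV : IsAffineOpen V) (hy : y ∈ V) (hiso : IsIso (f.app V)) :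
    IsIso (pullback.snd f (Y.fromSpecStalk y)).appTop := by
  haveI : IsAffine (V : Scheme) := hV
  let g₁ := pullback.fst f (Y.fromSpecStalk y)
  let g₂ := pullback.snd f (Y.fromSpecStalk y)
  let t := V.fromSpecStalkOfMem y hy
  haveI : Flat t := flat_fromSpecStalkOfMem V hV y hy
  have hR := isPullback_morphismRestrict f V
  have hcond : (g₂ ≫ t) ≫ V.ι = g₁ ≫ f := by
    rw [Category.assoc, Scheme.Opens.fromSpecStalkOfMem_ι]
    exact pullback.condition.symm
  let l := hR.lift (g₂ ≫ t) g₁ hcond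
  have hl1 : l ≫ (f ∣_ V) = g₂ ≫ t := hR.lift_fst _ _ _
  have hl2 : l ≫ (f ⁻¹ᵁ V).ι = g₁ := hR.lift_snd _ _ _
  have hbig : IsPullback (l ≫ (f ⁻¹ᵁ V).ι) g₂ f (t ≫ V.ι) := by
    rw [hl2, Scheme.Opens.fromSpecStalkOfMem_ι]
    exact IsPullback.of_hasPullback f (Y.fromSpecStalk y)
  have hleft : IsPullback l g₂ (f ∣_ V) t := IsPullback.of_right hbig hl1 hR.flip
  haveI : CompactSpace ((f ⁻¹ᵁ V : X.Opens) : Scheme) :=
    QuasiCompact.compactSpace_of_compactSpace (f ∣_ V)
  haveI : QuasiSeparatedSpace ((f ⁻¹ᵁ V : X.Opens) : Scheme) :=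
    quasiSeparatedSpace_of_quasiSeparated (f ∣_ V)
  have hpo := Groth.Agent.Lib.Helper4.HC.isPushout_appTop_of_flat hleft
  have hVeq : V.ι ''ᵁ ⊤ = V := by simp
  haveI : IsIso (f ∣_ V).appTop := by
    rw [morphismRestrict_appTop]
    have h2 : IsIso (X.presheaf.map (eqToHom (image_morphismRestrict_preimage f V ⊤)).op) := by
      infer_instance
    have h1 : IsIso (f.app (V.ι ''ᵁ ⊤)) := by
      rw [hVeq]
      exact hiso
    exact @IsIso.comp_isIso _ _ _ _ _ _ _ h1 h2
  exact hpo.isIso_inr_of_isIso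

theorem isUnit_or_isUnit_one_sub' {X Y : Scheme.{u}} (f : X ⟶ Y) [QuasiCompact f]
    [QuasiSeparated f] (y : Y) (V : Y.Opens) (hV : IsAffineOpen V) (hy : y ∈ V)
    (hiso : IsIso (f.app V))
    (m : Γ(pullback f (Y.fromSpecStalk y), ⊤)) : IsUnit m ∨ IsUnit (1 - m) := by
  haveI := isIso_snd_appTop' f y V hV hy hiso
  let e : Y.presheaf.stalk y ⟶ Γ(pullback f (Y.fromSpecStalk y), ⊤) :=
    (Scheme.ΓSpecIso (Y.presheaf.stalk y)).inv ≫ (pullback.snd f (Y.fromSpecStalk y)).appTop
  haveI : IsIso e := by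
    dsimp only [e]
    infer_instance
  have hbij : Function.Bijective e.hom := ConcreteCategory.bijective_of_isIso e
  obtain ⟨a, rfl⟩ := hbij.2 m
  rcases IsLocalRing.isUnit_or_isUnit_one_sub_self a with h | h
  · exact Or.inl (h.map e.hom)
  · right
    have := h.map e.hom
    rwa [map_sub, map_one] at this

/-- Zariski connectedness at `y`, given one affine neighbourhood `V` of `y` with
`O_Y(V) → O_X(f⁻¹ V)` an isomorphism. -/
theorem preconnectedSpace_fiber' {X Y : Scheme.{u}} (f : X ⟶ Y) [IsProper f]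
    [IsLocallyNoetherian Y] (y : Y) (V : Y.Opens) (hV : IsAffineOpen V) (hy : y ∈ V)
    (hiso : IsIso (f.app V)) : PreconnectedSpace ↥(f.fiber y) := by
  let A : Type u := Y.presheaf.stalk y
  let g : pullback f (Y.fromSpecStalk y) ⟶ Spec (CommRingCat.of A) :=
    pullback.snd f (Y.fromSpecStalk y)
  haveI : IsProper g := by
    dsimp only [g]
    infer_instance
  haveI : IsNoetherianRing A := inferInstanceAs (IsNoetherianRing (Y.presheaf.stalk y))
  have hloc : ∀ m : Γ(pullback f (Y.fromSpecStalk y), ⊤), IsUnit m ∨ IsUnit (1 - m) :=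
    fun m => isUnit_or_isUnit_one_sub' f y V hV hy hiso m
  have key := Groth.Agent.Lib.Helper4.ZC.eq_empty_or_univ_of_isClopen A
    (IsLocalRing.maximalIdeal A) g hloc
  let e : pullback g (Spec.map (CommRingCat.ofHom (Ideal.Quotient.mk (IsLocalRing.maximalIdeal A))))
      ≅ f.fiber y :=
    pullbackLeftPullbackSndIso f (Y.fromSpecStalk y) (Spec.map (Y.residue y))
  let h := Scheme.homeoOfIso e
  rw [preconnectedSpace_iff_clopen]
  intro s hs
  have hs' : IsClopen (h ⁻¹' s) := hs.preimage h.continuous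
  rcases key _ hs' with h0 | h1
  · left
    have := congrArg (fun t => h.symm ⁻¹' t) h0
    simpa [← Set.preimage_comp] using this
  · right
    have := congrArg (fun t => h.symm ⁻¹' t) h1
    simpa [← Set.preimage_comp] using this

end Groth.Agent.Lib.Helper4.ZL
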