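import Mathlib
import Groth.Agent.Lib.Helper4.HC7
import Groth.Agent.Lib.Helper4.ZL3
import Groth.Agent.Lib.Helper4.ZG5
import Groth.Agent.Lib.Helper22.FibreDim

/-!
# The canonical morphism `W ⟶ Spec Γ(W, O_W)` for `W` proper over a Noetherian ring
-/

set_option autoImplicit false
set_option linter.style.haveILetI false
set_option linter.unusedSectionVars false
universe u

namespace Groth.Agent.Lib.Helper4.ZY

open AlgebraicGeometry CategoryTheory Limits TopologicalSpace Opposite

variable (R : Type u) [CommRing R] [IsNoetherianRing R] {W : Scheme.{u}}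
  (h : W ⟶ Spec (CommRingCat.of R)) [IsProper h]

/-- the ring map `R → Γ(W, O_W)` -/
noncomputable def ρ : R →+* Γ(W, ⊤) :=
  h.appTop.hom.comp (Scheme.ΓSpecIso (CommRingCat.of R)).inv.hom

theorem finite_ρ : (ρ R h).Finite := Groth.Agent.Lib.Helper4.HC.finite_toGlobal_of_isProper R h

theorem fac : h = W.toSpecΓ ≫ Spec.map (CommRingCat.ofHom (ρ R h)) :=
  Groth.Agent.Lib.Helper22.eq_toSpecΓ_comp W (CommRingCat.of R) h

include R h in
theorem isNoetherianRing_Γ : IsNoetherianRing Γ(W, ⊤) := by
  letI : Algebra R Γ(W, ⊤) := (ρ R h).toAlgebra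
  haveI : Module.Finite R Γ(W, ⊤) := finite_ρ R h
  exact IsNoetherianRing.of_finite R Γ(W, ⊤)

include R h in
theorem isProper_toSpecΓ : IsProper W.toSpecΓ := by
  haveI : IsProper (W.toSpecΓ ≫ Spec.map (CommRingCat.ofHom (ρ R h))) := by
    rw [← fac R h]
    infer_instance
  exact IsProper.of_comp W.toSpecΓ (Spec.map (CommRingCat.ofHom (ρ R h)))

theorem isFinite_SpecMap_ρ : IsFinite (Spec.map (CommRingCat.ofHom (ρ R h))) := by
  rw [IsFinite.SpecMap_iff]
  exact finite_ρ R h

include R h in
theorem surjective_toSpecΓ : Function.Surjective W.toSpecΓ.base := by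
  haveI := isProper_toSpecΓ R h
  haveI : CompactSpace W := (quasiCompact_iff_compactSpace h).mp inferInstance
  have hd : DenseRange W.toSpecΓ.base := W.toSpecΓ.denseRange
  have hcl : IsClosed (Set.range W.toSpecΓ.base) := W.toSpecΓ.isClosedMap.isClosed_range
  intro y
  have h1 : y ∈ closure (Set.range W.toSpecΓ.base) := hd y
  rwa [hcl.closure_eq] at h1

include R h in
theorem geometricallyConnected_toSpecΓ : GeometricallyConnected W.toSpecΓ := by
  haveI := isProper_toSpecΓ R h
  haveI := isNoetherianRing_Γ R h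
  rw [GeometricallyConnected.iff_geometricallyConnected_fiber]
  intro y
  have hiso : IsIso (W.toSpecΓ.app ⊤) := by
    change IsIso W.toSpecΓ.appTop
    rw [Scheme.toSpecΓ_appTop]
    infer_instance
  have hO := Groth.Agent.Lib.Helper4.ZL.isIso_snd_appTop' W.toSpecΓ y ⊤
    (isAffineOpen_top _) trivial hiso
  exact Groth.Agent.Lib.Helper4.ZG.geometricallyConnected_fiberToSpecResidueField
    W.toSpecΓ y hO (surjective_toSpecΓ R h y)

end Groth.Agent.Lib.Helper4.ZY
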