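import Mathlib
import Groth.Prelude.Def_Models
import Groth.Agent.Lib.Helper4.ZY2
import Groth.Agent.Lib.Helper21.DedekindH0
import Groth.Agent.Lib.Helper21.RegularLocal

/-!
# Regular proper models over a discrete valuation ring: integrality, global functions,
connectedness of the fibres
-/

set_option autoImplicit false
set_option linter.style.haveILetI false
set_option linter.unusedSectionVars false
universe u

namespace Groth.Agent.Lib.Helper4.ZZ

open AlgebraicGeometry CategoryTheory CategoryTheory.Limits TopologicalSpace Opposite

open Groth.Agent.Lib.Helper21.PropH0 Groth.Agent.Lib.Helper21.DedekindH0 in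
/-- `H⁰(X, O_X) = R` for `X` integral and proper over a Dedekind domain `R` whose generic fibre
has only the constants as global functions. -/
theorem bijective_toGlobal_of_dedekind_of_generic {R : Type u} [CommRing R] [IsDedekindDomain R]
    (X : Scheme.{u}) (f : X ⟶ Spec (CommRingCat.of R)) [IsIntegral X] [IsProper f]
    (hb : Function.Bijective ((Scheme.ΓSpecIso (CommRingCat.of (FractionRing R))).inv ≫
      (pullback.snd f (Neron.genPt R)).appTop).hom) :
    Function.Bijective ((Scheme.ΓSpecIso (CommRingCat.of R)).inv ≫ f.appTop).hom := by
  let y := Neron.genPt R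
  have H := IsPullback.of_hasPullback f y
  haveI : CompactSpace X := (quasiCompact_iff_compactSpace f).mp inferInstance
  haveI : QuasiSeparatedSpace X := (quasiSeparated_iff_quasiSeparatedSpace f).mp inferInstance
  haveI : Flat y := by
    refine Flat.SpecMap_iff.mpr ?_
    exact RingHom.flat_algebraMap_iff.mpr (IsLocalization.flat (FractionRing R) (nonZeroDivisors R))
  have h1 := isIso_pushoutSection_of_isQuasiSeparated_of_flat_right H
    (US := ⊤) (UT := ⊤) (UX := ⊤) (UY := ⊤) le_top le_top (by simp)
    (isAffineOpen_top _) (isAffineOpen_top _) isCompact_univ isQuasiSeparated_univ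
  replace h1 := (isIso_pushoutSection_iff ..).mp h1
  have e1 : f.appLE ⊤ ⊤ le_top = f.appTop := appLE_top_top f _
  have e2 : y.appLE ⊤ ⊤ le_top = y.appTop := appLE_top_top y _
  have e3 : (pullback.fst f y).appLE ⊤ ⊤ (by simp) = (pullback.fst f y).appTop :=
    appLE_top_top _ _
  have e4 : (pullback.snd f y).appLE ⊤ ⊤ (by simp) = (pullback.snd f y).appTop :=
    appLE_top_top _ _
  rw [e1, e2, e3, e4] at h1
  have H' : IsPushout ((Scheme.ΓSpecIso (CommRingCat.of R)).inv ≫ f.appTop)
      (CommRingCat.ofHom (algebraMap R (FractionRing R))) (pullback.fst f y).appTop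
      ((Scheme.ΓSpecIso (CommRingCat.of (FractionRing R))).inv ≫ (pullback.snd f y).appTop) := by
    refine IsPushout.of_iso h1 (Scheme.ΓSpecIso (CommRingCat.of R)) (Iso.refl _)
      (Scheme.ΓSpecIso (CommRingCat.of (FractionRing R))) (Iso.refl _) ?_ ?_ ?_ ?_
    · simp
    · exact Scheme.ΓSpecIso_naturality _
    · simp
    · simp
  have hint : ((Scheme.ΓSpecIso (CommRingCat.of R)).inv ≫ f.appTop).hom.IsIntegral := by
    apply RingHom.isIntegral_respectsIso.2
      (e := (Scheme.ΓSpecIso _).symm.commRingCatIsoToRingEquiv)
    exact isIntegral_appTop_of_universallyClosed f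
  exact bijective_of_isPushout_fractionRing _ _ _ H' hint hb

section model

variable (R : Type u) [CommRing R] [IsDomain R] [IsDiscreteValuationRing R] {C X : Scheme.{u}}
  (f : C ⟶ Spec (CommRingCat.of (FractionRing R))) (p : X ⟶ Spec (CommRingCat.of R))
  (g : C ⟶ X) (hpb : IsPullback g f p (Neron.genPt R))

include hpb in
theorem range_eq_preimage_of_isPullback :
    Set.range g.base = p.base ⁻¹' Set.range (Neron.genPt R).base := by
  have h1 : g = hpb.isoPullback.hom ≫ pullback.fst p (Neron.genPt R) :=
    (hpb.isoPullback_hom_fst).symm
  have hs : Function.Surjective ⇑hpb.isoPullback.hom :=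
    hpb.isoPullback.hom.homeomorph.surjective
  rw [h1, Scheme.Hom.comp_base, TopCat.coe_comp, Set.range_comp,
    Set.range_eq_univ.mpr hs, Set.image_univ]
  exact Scheme.Pullback.range_fst p (Neron.genPt R)

include hpb in
/-- The generic fibre of a flat scheme over a discrete valuation ring is dense. -/
theorem dense_range_of_isPullback [Flat p] : Dense (Set.range g.base) := by
  intro x
  let pt : Spec (CommRingCat.of (FractionRing R)) := (⊥ : PrimeSpectrum (FractionRing R))
  have hη : (Neron.genPt R).base pt ⤳ p.base x := by
    have hle : PrimeSpectrum.asIdeal (R := R) ((Neron.genPt R).base pt) ≤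
        PrimeSpectrum.asIdeal (R := R) (p.base x) := by
      intro r hr
      have h2 : algebraMap R (FractionRing R) r = 0 := hr
      have h3 : r = 0 := (IsFractionRing.injective R (FractionRing R)) (by rw [h2, map_zero])
      rw [h3]
      exact Ideal.zero_mem _
    exact (PrimeSpectrum.le_iff_specializes (R := R) ((Neron.genPt R).base pt) (p.base x)).mp hle
  obtain ⟨x', hx'x, hx'⟩ := (Flat.generalizingMap p) hη
  have hx'mem : x' ∈ Set.range g.base := by
    rw [range_eq_preimage_of_isPullback R f p g hpb]
    exact ⟨pt, hx'.symm⟩
  exact hx'x.mem_closed isClosed_closure (subset_closure hx'mem)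

include hpb in
/-- A regular scheme, flat over a discrete valuation ring with integral generic fibre, is
integral. -/
theorem isIntegral_of_isPullback_of_isRegularScheme [Flat p] [IsIntegral C]
    (hreg : Models.IsRegularScheme X) : IsIntegral X := by
  haveI : IsReduced X := by
    haveI : ∀ x : X, _root_.IsReduced (X.presheaf.stalk x) := fun x => by
      haveI := hreg x
      haveI := Groth.Agent.Lib.Helper21.isDomain_of_isRegularLocalRing (X.presheaf.stalk x)
      infer_instance
    exact isReduced_of_isReduced_stalk X
  have hdense := dense_range_of_isPullback R f p g hpb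
  haveI : IrreducibleSpace X := by
    have h1 : IsIrreducible (Set.range g.base) := by
      rw [← Set.image_univ]
      exact (IrreducibleSpace.isIrreducible_univ C).image g.base g.continuous.continuousOn
    have h2 := h1.closure
    rw [hdense.closure_eq] at h2
    exact (irreducibleSpace_def X).mpr h2
  exact isIntegral_of_irreducibleSpace_of_isReduced X

omit [IsDomain R] [IsDiscreteValuationRing R] in
/-- A proper morphism to `Spec R` (`R` Noetherian) with `R = Γ(X, O_X)` has geometrically
connected fibres. -/
theorem geometricallyConnected_of_bijective_toGlobal [IsNoetherianRing R] [IsProper p]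
    (hbij : Function.Bijective ((Scheme.ΓSpecIso (CommRingCat.of R)).inv ≫ p.appTop).hom) :
    GeometricallyConnected p := by
  have hρ : Function.Bijective (Groth.Agent.Lib.Helper4.ZY.ρ R p) := hbij
  haveI : IsIso (CommRingCat.ofHom (Groth.Agent.Lib.Helper4.ZY.ρ R p)) :=
    (ConcreteCategory.isIso_iff_bijective _).mpr hρ
  haveI := Groth.Agent.Lib.Helper4.ZY.geometricallyConnected_toSpecΓ R p
  haveI : MorphismProperty.RespectsIso @GeometricallyConnected.{u} :=
    MorphismProperty.IsStableUnderBaseChange.respectsIso
  rw [Groth.Agent.Lib.Helper4.ZY.fac R p]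
  exact (MorphismProperty.cancel_right_of_respectsIso (P := @GeometricallyConnected)
    X.toSpecΓ (Spec.map (CommRingCat.ofHom (Groth.Agent.Lib.Helper4.ZY.ρ R p)))).mpr inferInstance

include hpb in
/-- A regular proper flat model over a discrete valuation ring of an integral `K`-scheme whose
global functions are the constants has geometrically connected fibres. -/
theorem geometricallyConnected_of_isIso_appTop [Flat p] [IsProper p] [IsIntegral C]
    (hreg : Models.IsRegularScheme X) (hH0 : IsIso f.appTop) : GeometricallyConnected p := by
  haveI := isIntegral_of_isPullback_of_isRegularScheme R f p g hpb hreg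
  apply geometricallyConnected_of_bijective_toGlobal R p
  apply bijective_toGlobal_of_dedekind_of_generic X p
  have he : hpb.isoPullback.hom ≫ pullback.snd p (Neron.genPt R) = f := hpb.isoPullback_hom_snd
  have h1 : f.appTop = (pullback.snd p (Neron.genPt R)).appTop ≫ hpb.isoPullback.hom.appTop := by
    rw [← Scheme.Hom.comp_appTop]
    exact congrArg Scheme.Hom.appTop he.symm
  have h2 : IsIso ((pullback.snd p (Neron.genPt R)).appTop ≫ hpb.isoPullback.hom.appTop) := by
    rw [← h1]
    exact hH0
  haveI h4 : IsIso hpb.isoPullback.hom.appTop := by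
    change IsIso (hpb.isoPullback.hom.app ⊤)
    infer_instance
  haveI h3 : IsIso (pullback.snd p (Neron.genPt R)).appTop :=
    IsIso.of_isIso_comp_right _ hpb.isoPullback.hom.appTop
  haveI : IsIso ((Scheme.ΓSpecIso (CommRingCat.of (FractionRing R))).inv ≫
      (pullback.snd p (Neron.genPt R)).appTop) := inferInstance
  exact (ConcreteCategory.isIso_iff_bijective _).mp inferInstance

end model

end Groth.Agent.Lib.Helper4.ZZ
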