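import Mathlib

/-!
# Idempotents from coprime factorisations (towards Stacks 0ALI)
-/

set_option autoImplicit false
open Polynomial

namespace Groth.Agent.Lib.Helper4.EtLift
universe u

section
variable {A' : Type*} [CommRing A'] {T Q : Type*} [Ring T] [Algebra A' T] [Ring Q]

theorem map_aeval_eq_zero_of_map_eq_zero (I' : Ideal A') (q : T →+* Q)
    (hq : ∀ x ∈ I', q (algebraMap A' T x) = 0) (θ : T) (P : A'[X])
    (hP : P.map (Ideal.Quotient.mk I') = 0) : q (aeval θ P) = 0 := by
  rw [Polynomial.aeval_eq_sum_range, map_sum]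
  refine Finset.sum_eq_zero fun i _ => ?_
  have hc : P.coeff i ∈ I' := by
    have := congrArg (fun p => p.coeff i) hP
    simpa [Polynomial.coeff_map, Ideal.Quotient.eq_zero_iff_mem] using this
  rw [Algebra.smul_def, map_mul, hq _ hc, zero_mul]

/-- From a coprime factorisation `g' h'` killing `θ`, with `g' ≡ X^(d+1)`, `h' ≡ (X-1)^(d+1)` modulo
`I'`, and `θ` idempotent modulo (the kernel of) `q`, we get an idempotent congruent to `θ`. -/
theorem exists_idempotent_aeval (I' : Ideal A') (q : T →+* Q)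
    (hq : ∀ x ∈ I', q (algebraMap A' T x) = 0)
    (θ : T) (hθ : q θ * q θ = q θ) (d : ℕ) (g' h' : A'[X]) (hcop : IsCoprime g' h')
    (hfθ : aeval θ (g' * h') = 0)
    (hg : g'.map (Ideal.Quotient.mk I') = X ^ (d + 1))
    (hh : h'.map (Ideal.Quotient.mk I') = (X - 1) ^ (d + 1)) :
    ∃ E : T, IsIdempotentElem E ∧ q E = q θ := by
  obtain ⟨u, v, huv⟩ := hcop
  let ev : A'[X] →+* Q := q.comp (aeval θ : A'[X] →ₐ[A'] T).toRingHom
  have hev : ∀ P : A'[X], ev P = q (aeval θ P) := fun P => rfl
  have hevX : ev X = q θ := by rw [hev, aeval_X]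
  have hev0 : ∀ P : A'[X], P.map (Ideal.Quotient.mk I') = 0 → ev P = 0 := fun P hP =>
    map_aeval_eq_zero_of_map_eq_zero I' q hq θ P hP
  have hcomm : ∀ P R : A'[X], ev P * ev R = ev R * ev P := fun P R => by
    rw [← map_mul, ← map_mul, mul_comm]
  set b := q θ with hb
  have hbpow : ∀ n : ℕ, b ^ (n + 1) = b := fun n => (show IsIdempotentElem b from hθ).pow_succ_eq n
  have hevg : ev g' = b := by
    have h1 : ev (g' - X ^ (d + 1)) = 0 := hev0 _ (by
      rw [Polynomial.map_sub, hg, Polynomial.map_pow, Polynomial.map_X, sub_self])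
    rw [map_sub, sub_eq_zero] at h1
    rw [h1, map_pow, hevX, hbpow]
  have hevh : ev h' = (b - 1) ^ (d + 1) := by
    have h1 : ev (h' - (X - 1) ^ (d + 1)) = 0 := hev0 _ (by
      rw [Polynomial.map_sub, hh, Polynomial.map_pow, Polynomial.map_sub, Polynomial.map_X,
        Polynomial.map_one, sub_self])
    rw [map_sub, sub_eq_zero] at h1
    rw [h1, map_pow, map_sub, hevX, map_one]
  have hkill : (b - 1) ^ (d + 1) * b = 0 := by
    rw [pow_succ, mul_assoc]
    have : (b - 1) * b = 0 := by rw [sub_mul, one_mul, hθ, sub_self]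
    rw [this, mul_zero]
  have hub : ev u * b = b := by
    have h1 : ev ((u * g' + v * h') * X) = ev X := by rw [huv, one_mul]
    rw [map_mul, map_add, map_mul, map_mul, hevg, hevh, hevX, add_mul, mul_assoc, hθ, mul_assoc,
      hkill, mul_zero, add_zero] at h1
    exact h1
  refine ⟨aeval θ (u * g'), ?_, ?_⟩
  · have h1 : u * g' * (u * g') - u * g' = -(u * v) * (g' * h') := by
      have : u * g' = 1 - v * h' := by rw [← huv]; ring
      linear_combination (u * g') * huv
    show aeval θ (u * g') * aeval θ (u * g') = aeval θ (u * g')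
    rw [← sub_eq_zero, ← map_mul, ← map_sub, h1, map_mul, hfθ, mul_zero]
  · rw [← hev, map_mul, hevg, hub]

end

end Groth.Agent.Lib.Helper4.EtLift
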