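import Mathlib
import Groth.Agent.Lib.Helper4.EtLift
import Groth.Agent.Lib.Helper4.EtLift2

/-!
# Étale-local lifting of idempotent matrices and finite projective modules
-/

set_option autoImplicit false
open TensorProduct Polynomial

namespace Groth.Agent.Lib.Helper4.EtLift
universe u

/-- Base change of a retract is the corresponding retract of the base change. -/
noncomputable def retractBaseChange {R S : Type*} [CommRing R] [CommRing S] [Algebra R S]
    {M N M' N' : Type*} [AddCommGroup M] [AddCommGroup N] [AddCommGroup M'] [AddCommGroup N']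
    [Module R M] [Module R N] [Module S M'] [Module S N']
    (i : N →ₗ[R] M) (s : M →ₗ[R] N) (hsi : s ∘ₗ i = LinearMap.id)
    (i' : N' →ₗ[S] M') (s' : M' →ₗ[S] N') (hsi' : s' ∘ₗ i' = LinearMap.id)
    (e : S ⊗[R] M ≃ₗ[S] M')
    (he : e.toLinearMap ∘ₗ (LinearMap.baseChange S (i ∘ₗ s)) = (i' ∘ₗ s') ∘ₗ e.toLinearMap) :
    S ⊗[R] N ≃ₗ[S] N' :=
  LinearEquiv.ofLinearMap (s' ∘ₗ e.toLinearMap ∘ₗ LinearMap.baseChange S i)
    (LinearMap.baseChange S s ∘ₗ e.symm.toLinearMap ∘ₗ i')
    (by
      have h1 : e.toLinearMap ∘ₗ LinearMap.baseChange S i ∘ₗ LinearMap.baseChange S s =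
          (i' ∘ₗ s') ∘ₗ e.toLinearMap := by
        rw [← LinearMap.baseChange_comp]; exact he
      calc (s' ∘ₗ e.toLinearMap ∘ₗ LinearMap.baseChange S i) ∘ₗ
            (LinearMap.baseChange S s ∘ₗ e.symm.toLinearMap ∘ₗ i')
          = s' ∘ₗ (e.toLinearMap ∘ₗ LinearMap.baseChange S i ∘ₗ LinearMap.baseChange S s) ∘ₗ
              e.symm.toLinearMap ∘ₗ i' := by simp only [LinearMap.comp_assoc]
        _ = s' ∘ₗ ((i' ∘ₗ s') ∘ₗ e.toLinearMap) ∘ₗ e.symm.toLinearMap ∘ₗ i' := by rw [h1]
        _ = (s' ∘ₗ i') ∘ₗ (s' ∘ₗ i') := by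
            ext x; simp
        _ = LinearMap.id := by rw [hsi']; rfl)
    (by
      have h1 : e.toLinearMap ∘ₗ LinearMap.baseChange S i ∘ₗ LinearMap.baseChange S s =
          (i' ∘ₗ s') ∘ₗ e.toLinearMap := by
        rw [← LinearMap.baseChange_comp]; exact he
      have h2 : e.symm.toLinearMap ∘ₗ (i' ∘ₗ s') ∘ₗ e.toLinearMap =
          LinearMap.baseChange S i ∘ₗ LinearMap.baseChange S s := by
        rw [← h1]
        ext x; simp
      calc (LinearMap.baseChange S s ∘ₗ e.symm.toLinearMap ∘ₗ i') ∘ₗ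
            (s' ∘ₗ e.toLinearMap ∘ₗ LinearMap.baseChange S i)
          = LinearMap.baseChange S s ∘ₗ (e.symm.toLinearMap ∘ₗ (i' ∘ₗ s') ∘ₗ e.toLinearMap) ∘ₗ
              LinearMap.baseChange S i := by simp only [LinearMap.comp_assoc]
        _ = LinearMap.baseChange S s ∘ₗ (LinearMap.baseChange S i ∘ₗ LinearMap.baseChange S s) ∘ₗ
              LinearMap.baseChange S i := by rw [h2]
        _ = LinearMap.baseChange S (s ∘ₗ i) ∘ₗ LinearMap.baseChange S (s ∘ₗ i) := by
            simp only [LinearMap.baseChange_comp, LinearMap.comp_assoc]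
        _ = LinearMap.id := by rw [hsi, LinearMap.baseChange_id]; rfl)

theorem piScalarRight_comp_baseChange_toLin' {R S : Type*} [CommRing R] [CommRing S] [Algebra R S]
    {n : ℕ} (M : Matrix (Fin n) (Fin n) R) :
    (TensorProduct.piScalarRight R S S (Fin n)).toLinearMap ∘ₗ
        LinearMap.baseChange S (Matrix.toLin' M) =
      Matrix.toLin' (M.map (algebraMap R S)) ∘ₗ
        (TensorProduct.piScalarRight R S S (Fin n)).toLinearMap := by
  apply TensorProduct.AlgebraTensorModule.ext
  intro x f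
  ext i
  simp only [LinearMap.coe_comp, LinearEquiv.coe_coe, Function.comp_apply,
    LinearMap.baseChange_tmul, TensorProduct.piScalarRight_apply,
    TensorProduct.piScalarRightHom_tmul, Matrix.toLin'_apply, Matrix.mulVec, dotProduct,
    Matrix.map_apply, Algebra.smul_def]
  rw [map_sum, Finset.sum_mul]
  refine Finset.sum_congr rfl fun j _ => ?_
  rw [map_mul, mul_assoc]

theorem exists_monic_of_matrix_idempotent_mod {A : Type*} [CommRing A] (I : Ideal A) {n : ℕ}
    (E : Matrix (Fin n) (Fin n) A) (hE : (E * E - E).map (Ideal.Quotient.mk I) = 0) :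
    ∃ f : A[X], f.Monic ∧ aeval E f = 0 ∧
      f.map (Ideal.Quotient.mk I) = X ^ (n + 1) * (X - 1) ^ (n + 1) := by
  rcases subsingleton_or_nontrivial A with hs | hnt
  · have : Subsingleton (A ⧸ I) := Function.Surjective.subsingleton Ideal.Quotient.mk_surjective
    exact ⟨1, monic_one, Subsingleton.elim _ _, Subsingleton.elim _ _⟩
  set N := E * E - E with hN
  set χ := N.charpoly with hχ
  have hχmap : χ.map (Ideal.Quotient.mk I) = X ^ n := by
    rw [hχ, ← Matrix.charpoly_map, hE, Matrix.charpoly_zero, Fintype.card_fin]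
  let r : A[X] := X ^ 2 - X
  have hrdeg : r.natDegree = 2 := by
    have h1 : (X : A[X]).natDegree < (X ^ 2 : A[X]).natDegree := by
      rw [natDegree_X_pow, natDegree_X]; norm_num
    rw [show r = X ^ 2 - X from rfl, natDegree_sub_eq_left_of_natDegree_lt h1, natDegree_X_pow]
  have hr : r.Monic := by
    have h1 : (X : A[X]).degree < (X ^ 2 : A[X]).degree := by
      rw [degree_X_pow, degree_X]; norm_num
    exact (monic_X_pow 2).sub_of_left h1
  refine ⟨χ.comp r * r, ((Matrix.charpoly_monic N).comp hr (by rw [hrdeg]; norm_num)).mul hr, ?_, ?_⟩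
  · rw [map_mul, Polynomial.aeval_comp]
    have : aeval E r = N := by simp [r, hN, pow_two]
    rw [this, hχ, Matrix.aeval_self_charpoly, zero_mul]
  · rw [Polynomial.map_mul, Polynomial.map_comp, hχmap]
    simp only [r, Polynomial.map_sub, Polynomial.map_pow, Polynomial.map_X, Polynomial.pow_comp,
      Polynomial.X_comp]
    have : (X ^ 2 - X : (A ⧸ I)[X]) = X * (X - 1) := by ring
    rw [this, mul_pow]
    ring

theorem exists_etale_idempotent_matrix_lift {A : Type u} [CommRing A] (I : Ideal A) {n : ℕ}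
    (ebar : Matrix (Fin n) (Fin n) (A ⧸ I)) (hebar : ebar * ebar = ebar) :
    ∃ (A' : Type u) (_ : CommRing A') (_ : Algebra A A'), Algebra.Etale A A' ∧
      ∃ φ' : A' →ₐ[A] A ⧸ I, RingHom.ker φ'.toRingHom = I.map (algebraMap A A') ∧
      ∃ E' : Matrix (Fin n) (Fin n) A', E' * E' = E' ∧ E'.map φ' = ebar := by
  let E : Matrix (Fin n) (Fin n) A := fun i j => (Ideal.Quotient.mk_surjective (ebar i j)).choose
  have hEmap : E.map (Ideal.Quotient.mk I) = ebar := by
    ext i j
    exact (Ideal.Quotient.mk_surjective (ebar i j)).choose_spec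
  have hE : (E * E - E).map (Ideal.Quotient.mk I) = 0 := by
    have : (Ideal.Quotient.mk I).mapMatrix (E * E - E) = 0 := by
      rw [map_sub, map_mul, RingHom.mapMatrix_apply, hEmap, hebar, sub_self]
    exact this
  obtain ⟨f, hfm, hfE, hfmap⟩ := exists_monic_of_matrix_idempotent_mod I E hE
  have hcop0 : IsCoprime (X : (A ⧸ I)[X]) (X - 1) := ⟨1, -1, by ring⟩
  have hmon : (X - 1 : (A ⧸ I)[X]).Monic := by simpa using monic_X_sub_C (1 : A ⧸ I)
  obtain ⟨A', _, _, hA', φ', hker, g', h', hg', hh', hcop', hf', hgφ, hhφ⟩ :=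
    exists_etale_factor_lift I f hfm (X ^ (n + 1)) ((X - 1) ^ (n + 1)) (monic_X_pow _)
      (hmon.pow _) hcop0.pow hfmap
  obtain ⟨hbij, hmk⟩ := bijective_of_retraction I A' φ' hker
  have hcomp : Ideal.Quotient.mk (I.map (algebraMap A A')) =
      (algebraMap (A ⧸ I) (A' ⧸ I.map (algebraMap A A'))).comp φ'.toRingHom :=
    RingHom.ext hmk
  let α : Matrix (Fin n) (Fin n) A →ₐ[A] Matrix (Fin n) (Fin n) A' := (Algebra.ofId A A').mapMatrix
  let θ : Matrix (Fin n) (Fin n) A' := α E
  let q : Matrix (Fin n) (Fin n) A' →+* Matrix (Fin n) (Fin n) (A ⧸ I) := φ'.toRingHom.mapMatrix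
  have hqθ : q θ = ebar := by
    rw [← hEmap]
    ext i j
    show φ' (algebraMap A A' (E i j)) = Ideal.Quotient.mk I (E i j)
    rw [φ'.commutes]
    rfl
  have hq : ∀ x ∈ I.map (algebraMap A A'),
      q (algebraMap A' (Matrix (Fin n) (Fin n) A') x) = 0 := by
    intro x hx
    have hx0 : φ' x = 0 := by rw [← hker] at hx; exact hx
    ext i j
    show φ' ((algebraMap A' (Matrix (Fin n) (Fin n) A') x) i j) = 0
    rw [Matrix.algebraMap_matrix_apply]
    split_ifs
    · simpa using hx0
    · simp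
  have hθ : q θ * q θ = q θ := by rw [hqθ, hebar]
  have hfθ : aeval θ (g' * h') = 0 := by
    rw [← hf', Polynomial.aeval_map_algebraMap, Polynomial.aeval_algHom_apply, hfE, map_zero]
  have hg2 : g'.map (Ideal.Quotient.mk (I.map (algebraMap A A'))) = X ^ (n + 1) := by
    rw [hcomp, ← Polynomial.map_map, hgφ, Polynomial.map_pow, Polynomial.map_X]
  have hh2 : h'.map (Ideal.Quotient.mk (I.map (algebraMap A A'))) = (X - 1) ^ (n + 1) := by
    rw [hcomp, ← Polynomial.map_map, hhφ, Polynomial.map_pow, Polynomial.map_sub,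
      Polynomial.map_X, Polynomial.map_one]
  obtain ⟨E', hE', hE'θ⟩ := exists_idempotent_aeval (I.map (algebraMap A A')) q hq θ hθ n g' h'
    hcop' hfθ hg2 hh2
  exact ⟨A', inferInstance, inferInstance, hA', φ', hker, E', hE', hE'θ.trans hqθ⟩

section Img
variable {R : Type*} [CommRing R] {n : ℕ} (M : Matrix (Fin n) (Fin n) R)

/-- The image of a matrix, as a module. -/
abbrev imgMod : Submodule R (Fin n → R) := LinearMap.range (Matrix.toLin' M)

/-- The corestriction of a matrix onto its image. -/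
noncomputable def imgProj : (Fin n → R) →ₗ[R] imgMod M := (Matrix.toLin' M).rangeRestrict

theorem subtype_comp_imgProj : (imgMod M).subtype ∘ₗ imgProj M = Matrix.toLin' M := by
  ext x : 1
  rfl

theorem imgProj_comp_subtype (hM : M * M = M) :
    imgProj M ∘ₗ (imgMod M).subtype = LinearMap.id := by
  ext ⟨x, y, rfl⟩ : 1
  apply Subtype.ext
  show Matrix.toLin' M (Matrix.toLin' M y) = Matrix.toLin' M y
  rw [← LinearMap.comp_apply, ← Matrix.toLin'_mul, hM]

theorem imgMod_projective (hM : M * M = M) : Module.Projective R (imgMod M) :=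
  Module.Projective.of_split (imgMod M).subtype (imgProj M) (imgProj_comp_subtype M hM)

theorem imgMod_finite : Module.Finite R (imgMod M) := Module.Finite.range _

/-- Base change of a retract of `Rⁿ` cut out by the idempotent matrix `M`. -/
noncomputable def baseChangeImg (S : Type*) [CommRing S] [Algebra R S] (hM : M * M = M)
    {N : Type*} [AddCommGroup N] [Module R N] (i : N →ₗ[R] (Fin n → R))
    (s : (Fin n → R) →ₗ[R] N) (hsi : s ∘ₗ i = LinearMap.id) (his : i ∘ₗ s = Matrix.toLin' M) :
    S ⊗[R] N ≃ₗ[S] imgMod (M.map (algebraMap R S)) :=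
  retractBaseChange i s hsi (imgMod (M.map (algebraMap R S))).subtype
    (imgProj (M.map (algebraMap R S)))
    (imgProj_comp_subtype _ (by
      have : (algebraMap R S).mapMatrix (M * M) = (algebraMap R S).mapMatrix M := by rw [hM]
      rw [map_mul] at this
      exact this))
    (TensorProduct.piScalarRight R S S (Fin n))
    (by rw [his, subtype_comp_imgProj]; exact piScalarRight_comp_baseChange_toLin' M)

end Img

end Groth.Agent.Lib.Helper4.EtLift
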