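import Mathlib
import Groth.Prelude.Def_EtMod2
import Groth.Prelude.Def_EtCore
import Groth.Agent.Lib.Helper22.EtLoc.OverSite

/-!
# Pullbacks of sheaves of modules on small étale sites: composition, constants, localization
(helper4; module-valued port of helper22's `EtLoc` lemmas)
-/

set_option linter.style.haveILetI false
set_option linter.unusedSectionVars false
set_option autoImplicit false
open CategoryTheory CategoryTheory.Limits AlgebraicGeometry Opposite
universe u

namespace Groth.Agent.Lib.Helper4.CM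

open Groth.Agent.Lib.Helper22.EtLoc Groth.Agent.Lib.Helper22.EtLoc.OverSite

variable (Λ : Type (u + 1)) [CommRing Λ]

/-- The adjunction `f^* ⊣ f_*` for sheaves of modules. -/
noncomputable abbrev pullPushAdjM {X Y : Scheme.{u}} (f : X ⟶ Y) :
    EtModW.pull Λ f ⊣ EtModW.push Λ f :=
  (EtCoh.bc f).sheafAdjunctionContinuous (ModuleCat.{u + 1} Λ) Y.smallEtaleTopology
    X.smallEtaleTopology

set_option backward.isDefEq.respectTransparency.types false in
/-- Direct images compose. -/
noncomputable def pushCompM {X Y Z : Scheme.{u}} (f : X ⟶ Y) (g : Z ⟶ X) :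
    EtModW.push Λ g ⋙ EtModW.push Λ f ≅ EtModW.push Λ (g ≫ f) :=
  Functor.sheafPushforwardContinuousComp' (F := EtCoh.bc f) (G := EtCoh.bc g)
    (FG := EtCoh.bc (g ≫ f))
    ((MorphismProperty.Over.pullbackComp (P := EtCoh.etaleMP) (Q := ⊤) g f).symm :
      EtCoh.bc f ⋙ EtCoh.bc g ≅ EtCoh.bc (g ≫ f))
    (ModuleCat.{u + 1} Λ) Y.smallEtaleTopology X.smallEtaleTopology Z.smallEtaleTopology

/-- Pullbacks compose. -/
noncomputable def pullCompM {X Y Z : Scheme.{u}} (f : X ⟶ Y) (g : Y ⟶ Z) :
    EtModW.pull Λ (f ≫ g) ≅ EtModW.pull Λ g ⋙ EtModW.pull Λ f :=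
  Adjunction.leftAdjointUniq (pullPushAdjM Λ (f ≫ g))
    (((pullPushAdjM Λ g).comp (pullPushAdjM Λ f)).ofNatIsoRight (pushCompM Λ g f))

/-- Transport of pullback along an equality of morphisms. -/
noncomputable def pullCongrM {X Y : Scheme.{u}} {f f' : X ⟶ Y} (h : f = f') :
    EtModW.pull Λ f ≅ EtModW.pull Λ f' :=
  eqToIso (by rw [h])

/-- Global sections of sheaves of modules. -/
noncomputable abbrev gsecM (X : Scheme.{u}) : EtModW.Mod Λ X ⥤ ModuleCat.{u + 1} Λ :=
  (sheafSections X.smallEtaleTopology (ModuleCat.{u + 1} Λ)).obj (op (EtCoh.top X))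

/-- The constant sheaf functor is left adjoint to global sections. -/
noncomputable abbrev constAdjM (X : Scheme.{u}) :
    constantSheaf X.smallEtaleTopology (ModuleCat.{u + 1} Λ) ⊣ gsecM Λ X :=
  constantSheafAdj X.smallEtaleTopology (ModuleCat.{u + 1} Λ) (EtCore.topIsTerminal X)

/-- `f_*` followed by global sections is global sections. -/
noncomputable def pushGsecIsoM {X Y : Scheme.{u}} (f : X ⟶ Y) :
    EtModW.push Λ f ⋙ gsecM Λ Y ≅ gsecM Λ X :=
  NatIso.ofComponents (fun F => F.obj.mapIso (EtCore.bcTopIso f).op.symm) (fun {F G} φ => by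
    simp only [Functor.comp_map, Functor.mapIso_hom, Iso.symm_hom]
    exact (φ.hom.naturality _).symm)

/-- Pullback of a constant sheaf of modules is constant. -/
noncomputable def pullConstIsoM {X Y : Scheme.{u}} (f : X ⟶ Y) :
    constantSheaf Y.smallEtaleTopology (ModuleCat.{u + 1} Λ) ⋙ EtModW.pull Λ f ≅
      constantSheaf X.smallEtaleTopology (ModuleCat.{u + 1} Λ) :=
  Adjunction.leftAdjointUniq
    (((constAdjM Λ Y).comp (pullPushAdjM Λ f)).ofNatIsoRight (pushGsecIsoM Λ f)) (constAdjM Λ X)

section etale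

variable {X Y : Scheme.{u}} (j : Y ⟶ X) [hj : Etale j]

/-- Restriction of sheaves of modules along an étale morphism. -/
noncomputable def resM : EtModW.Mod Λ X ⥤ EtModW.Mod Λ Y :=
  (pj j).sheafPushforwardContinuous (ModuleCat.{u + 1} Λ) Y.smallEtaleTopology
    X.smallEtaleTopology

/-- `res j ⊣ push j`. -/
noncomputable def resPushAdjM : resM Λ j ⊣ EtModW.push Λ j :=
  (pjAdj j).sheafPushforwardContinuous _ _

/-- Pullback along an étale morphism is restriction. -/
noncomputable def pullIsoResM : EtModW.pull Λ j ≅ resM Λ j :=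
  Adjunction.leftAdjointUniq (pullPushAdjM Λ j) (resPushAdjM Λ j)

end etale

section overSite

variable {X : Scheme.{u}} (U : X.Etale)

/-- The equivalence between sheaves of modules on `U.left` and on the over-site of `U`. -/
noncomputable abbrev shEquivM :
    EtModW.Mod Λ U.left ≌ Sheaf (X.smallEtaleTopology.over U) (ModuleCat.{u + 1} Λ) :=
  Functor.IsDenseSubsite.sheafEquiv (U.left).smallEtaleTopology
    (X.smallEtaleTopology.over U) (toOver U) (ModuleCat.{u + 1} Λ)

lemma shEquivM_inverse_obj (F : EtModW.Mod Λ X) :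
    (shEquivM Λ U).inverse.obj (EtModW.restr Λ F U) = (resM Λ U.hom).obj F := rfl

/-- Constant sheaves correspond under the equivalence. -/
noncomputable def constIsoM :
    constantSheaf (U.left).smallEtaleTopology (ModuleCat.{u + 1} Λ) ⋙ (shEquivM Λ U).functor ≅
      constantSheaf (X.smallEtaleTopology.over U) (ModuleCat.{u + 1} Λ) :=
  equivCommuteConstant (U.left).smallEtaleTopology (ModuleCat.{u + 1} Λ)
    (X.smallEtaleTopology.over U) (toOver U) (EtCore.topIsTerminal U.left) (toOverTopIsTerminal U)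

/-- Constant sheaves correspond under the equivalence (inverse direction). -/
noncomputable def constIsoM' :
    constantSheaf (U.left).smallEtaleTopology (ModuleCat.{u + 1} Λ) ≅
      constantSheaf (X.smallEtaleTopology.over U) (ModuleCat.{u + 1} Λ) ⋙
        (shEquivM Λ U).inverse :=
  equivCommuteConstant' (U.left).smallEtaleTopology (ModuleCat.{u + 1} Λ)
    (X.smallEtaleTopology.over U) (toOver U) (EtCore.topIsTerminal U.left) (toOverTopIsTerminal U)

/-- `F|_U` is constant with value `M` on the over-site iff the pullback of `F` to `U.left` is the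
constant sheaf with value `M`. -/
theorem restr_iso_const_iff_M (F : EtModW.Mod Λ X) (M : ModuleCat.{u + 1} Λ) :
    Nonempty (EtModW.restr Λ F U ≅
        (constantSheaf (X.smallEtaleTopology.over U) (ModuleCat.{u + 1} Λ)).obj M) ↔
      Nonempty ((EtModW.pull Λ U.hom).obj F ≅
        (constantSheaf (U.left).smallEtaleTopology (ModuleCat.{u + 1} Λ)).obj M) := by
  constructor
  · rintro ⟨e⟩
    exact ⟨(pullIsoResM Λ U.hom).app F ≪≫ (shEquivM Λ U).inverse.mapIso e ≪≫
      ((constIsoM' Λ U).app M).symm⟩
  · rintro ⟨e⟩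
    have e1 : (resM Λ U.hom).obj F ≅
        (constantSheaf (U.left).smallEtaleTopology (ModuleCat.{u + 1} Λ)).obj M :=
      ((pullIsoResM Λ U.hom).app F).symm ≪≫ e
    exact ⟨((shEquivM Λ U).counitIso.app (EtModW.restr Λ F U)).symm ≪≫
      (shEquivM Λ U).functor.mapIso e1 ≪≫ (constIsoM Λ U).app M⟩

end overSite

end Groth.Agent.Lib.Helper4.CM
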