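import Mathlib
import Groth.Prelude.Def_EtMod2
import Groth.Prelude.Def_WeakSerre
import Groth.Agent.Lib.Helper4.CM1
import Groth.Agent.Lib.Helper22.EtLoc.LccPull
import Groth.Agent.Lib.Helper22.Strata.Refine
import Groth.Agent.Lib.Helper2.LCSite.Serre
import Groth.Agent.Lib.Helper17.EtModPull

/-!
# Constructible sheaves of modules on the small étale site form a weak Serre subcategory (helper4)
-/

set_option linter.style.haveILetI false
set_option linter.unusedSectionVars false
set_option autoImplicit false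
open CategoryTheory CategoryTheory.Limits AlgebraicGeometry Opposite
universe u

namespace Groth.Agent.Lib.Helper4.CM

open Groth.Agent.Lib.Helper22.EtLoc Groth.Agent.Lib.Helper22.EtLoc.OverSite
  Groth.Agent.Lib.Helper22.Strata Set

variable (Λ : Type (u + 1)) [CommRing Λ]

lemma isFTLocConst_of_iso {X : Scheme.{u}} {F G : EtModW.Mod Λ X} (e : F ≅ G)
    (h : EtModW.IsFTLocConst Λ F) : EtModW.IsFTLocConst Λ G := by
  obtain ⟨ι, U, hU, hM⟩ := h
  refine ⟨ι, U, hU, fun i => ?_⟩
  obtain ⟨M, i1, i2, i3, ⟨a⟩⟩ := hM i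
  exact ⟨M, i1, i2, i3,
    ⟨(X.smallEtaleTopology.overPullback (ModuleCat.{u + 1} Λ) (U i)).mapIso e.symm ≪≫ a⟩⟩

/-- If the pullback of `G` along `g` is constant, so is its pullback along `h ≫ g`. -/
theorem pull_comp_iso_const_M {X Y Z : Scheme.{u}} (h : Z ⟶ X) (g : X ⟶ Y)
    (G : EtModW.Mod Λ Y) (M : ModuleCat.{u + 1} Λ)
    (e : Nonempty ((EtModW.pull Λ g).obj G ≅
      (constantSheaf X.smallEtaleTopology (ModuleCat.{u + 1} Λ)).obj M)) :
    Nonempty ((EtModW.pull Λ (h ≫ g)).obj G ≅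
      (constantSheaf Z.smallEtaleTopology (ModuleCat.{u + 1} Λ)).obj M) := by
  obtain ⟨e⟩ := e
  exact ⟨(pullCompM Λ h g).app G ≪≫ (EtModW.pull Λ h).mapIso e ≪≫ (pullConstIsoM Λ h).app M⟩

/-- Restriction of `f^* G` to the base change of `U` is constant when `G|_U` is. -/
theorem restr_bc_iso_const_M {X Y : Scheme.{u}} (f : X ⟶ Y) (G : EtModW.Mod Λ Y) (U : Y.Etale)
    (M : ModuleCat.{u + 1} Λ)
    (e : Nonempty (EtModW.restr Λ G U ≅
      (constantSheaf (Y.smallEtaleTopology.over U) (ModuleCat.{u + 1} Λ)).obj M)) :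
    Nonempty (EtModW.restr Λ ((EtModW.pull Λ f).obj G) ((EtCoh.bc f).obj U) ≅
      (constantSheaf (X.smallEtaleTopology.over ((EtCoh.bc f).obj U))
        (ModuleCat.{u + 1} Λ)).obj M) := by
  rw [restr_iso_const_iff_M] at e ⊢
  have h1 := pull_comp_iso_const_M Λ (pullback.fst U.hom f) U.hom G M e
  have hc : pullback.fst U.hom f ≫ U.hom = ((EtCoh.bc f).obj U).hom ≫ f := pullback.condition
  obtain ⟨e1⟩ := h1
  exact ⟨((pullCompM Λ ((EtCoh.bc f).obj U).hom f).app G).symm ≪≫
    (pullCongrM Λ hc.symm).app G ≪≫ e1⟩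

theorem isFTLocConst_pull {X Y : Scheme.{u}} (f : X ⟶ Y) (G : EtModW.Mod Λ Y)
    (h : EtModW.IsFTLocConst Λ G) : EtModW.IsFTLocConst Λ ((EtModW.pull Λ f).obj G) := by
  obtain ⟨ι, U, hU, hM⟩ := h
  refine ⟨ι, fun i => (EtCoh.bc f).obj (U i), LccPull.covers_bc f U hU, fun i => ?_⟩
  obtain ⟨M, i1, i2, i3, e⟩ := hM i
  exact ⟨M, i1, i2, i3, restr_bc_iso_const_M Λ f G (U i) _ e⟩

variable {X : Scheme.{u}}

/-- The pullback of `F` along `g` is finite type locally constant. -/
def PFM (F : EtModW.Mod Λ X) : MorProp X :=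
  fun _ g => EtModW.IsFTLocConst Λ ((EtModW.pull Λ g).obj F)

lemma PFM_stable (F : EtModW.Mod Λ X) : (PFM Λ F).Stable := by
  intro T T' h g hg
  exact isFTLocConst_of_iso Λ ((pullCompM Λ h g).app F).symm (isFTLocConst_pull Λ h _ hg)

lemma adaptedStrata_iff_M (F : EtModW.Mod Λ X) (S : Set X) :
    EtModW.AdaptedStrata Λ F S ↔ StIn (PFM Λ F) S S := by
  constructor
  · rintro ⟨n, T, g, him, hc, hdis, hun, hP⟩
    exact ⟨Fin n, inferInstance, T, g, him, hc, hdis, hun, fun i => hP i⟩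
  · rintro ⟨ι, fin, T, g, him, hc, hdis, hun, hP⟩
    let e : ι ≃ Fin (Nat.card ι) := Finite.equivFin ι
    refine ⟨Nat.card ι, fun k => T (e.symm k), fun k => g (e.symm k), fun k => him _,
      fun k => hc _, ?_, ?_, fun k => hP _⟩
    · intro k l hkl
      exact hdis (fun h => hkl (e.symm.injective h))
    · rw [← hun]
      exact e.symm.surjective.iUnion_comp (fun i => Set.range (g i))

instance additive_pullM {T : Scheme.{u}} (g : T ⟶ X) : (EtModW.pull Λ g).Additive :=
  (pullPushAdjM Λ g).left_adjoint_additive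

instance preservesFiniteColimits_pullM {T : Scheme.{u}} (g : T ⟶ X) :
    PreservesFiniteColimits (EtModW.pull Λ g) := by
  haveI : PreservesColimitsOfSize.{0, 0} (EtModW.pull Λ g) :=
    (pullPushAdjM Λ g).leftAdjoint_preservesColimits
  exact PreservesColimitsOfSize.preservesFiniteColimits _

variable [IsNoetherianRing Λ]

theorem constructible_common {F G : EtModW.Mod Λ X} (hF : EtModW.IsConstructible Λ F)
    (hG : EtModW.IsConstructible Λ G) (U : X.Opens) (hU : IsAffineOpen U) :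
    StIn (fun _ g => PFM Λ F g ∧ PFM Λ G g) (U : Set X) (U : Set X) := by
  have h1 := (adaptedStrata_iff_M Λ F _).1 (hF U hU)
  have h2 := (adaptedStrata_iff_M Λ G _).1 (hG U hU)
  have := StIn.inter₂ (PFM_stable Λ F) (PFM_stable Λ G) h1 h2
  rwa [inter_self] at this

theorem constructible_kernel_cokernel {F G : EtModW.Mod Λ X} (φ : F ⟶ G)
    (hF : EtModW.IsConstructible Λ F) (hG : EtModW.IsConstructible Λ G) :
    EtModW.IsConstructible Λ (kernel φ) ∧ EtModW.IsConstructible Λ (cokernel φ) := by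
  constructor
  · intro U hU
    rw [adaptedStrata_iff_M]
    refine StIn.mono_prop ?_ (constructible_common Λ hF hG U hU)
    rintro T g ⟨h1, h2⟩
    have hk := (Groth.Agent.Lib.Helper2.LCSite.Et.ftLocConst_kernel_cokernel
      ((EtModW.pull Λ g).map φ) h1 h2).1
    exact isFTLocConst_of_iso Λ (PreservesKernel.iso (EtModW.pull Λ g) φ).symm hk
  · intro U hU
    rw [adaptedStrata_iff_M]
    refine StIn.mono_prop ?_ (constructible_common Λ hF hG U hU)
    rintro T g ⟨h1, h2⟩
    have hk := (Groth.Agent.Lib.Helper2.LCSite.Et.ftLocConst_kernel_cokernel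
      ((EtModW.pull Λ g).map φ) h1 h2).2
    exact isFTLocConst_of_iso Λ (PreservesCokernel.iso (EtModW.pull Λ g) φ).symm hk

theorem constructible_extension (S : ShortComplex (EtModW.Mod Λ X)) (hS : S.ShortExact)
    (h1 : EtModW.IsConstructible Λ S.X₁) (h3 : EtModW.IsConstructible Λ S.X₃) :
    EtModW.IsConstructible Λ S.X₂ := by
  intro U hU
  rw [adaptedStrata_iff_M]
  refine StIn.mono_prop ?_ (constructible_common Λ h1 h3 U hU)
  rintro T g ⟨k1, k3⟩
  have hS' : (S.map (EtModW.pull Λ g)).ShortExact := hS.map_of_exact (EtModW.pull Λ g)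
  exact Groth.Agent.Lib.Helper2.LCSite.Et.ftLocConst_extension (S.map (EtModW.pull Λ g)) hS' k1 k3

end Groth.Agent.Lib.Helper4.CM
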