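import Mathlib
import Groth.Prelude.Def_Hens2
import Groth.Agent.S7178
import Groth.Agent.Lib.Helper4.HznWE

/-!
# `Spec` of a (strict) henselization of a stalk is weakly étale over the scheme
-/

set_option autoImplicit false
universe u

namespace Groth.Agent.Lib.Helper4.IndEt

open CategoryTheory CategoryTheory.Limits AlgebraicGeometry

theorem weaklyEtale_SpecMap_of_weaklyEtale (A B : Type u) [CommRing A] [CommRing B] [Algebra A B]
    [Algebra.WeaklyEtale A B] :
    WeaklyEtale (Spec.map (CommRingCat.ofHom (algebraMap A B))) := by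
  rw [Groth.Agent.S7178.weaklyEtale_SpecMap_iff]
  change @Algebra.WeaklyEtale A B _ _ (RingHom.toAlgebra (algebraMap A B))
  have : RingHom.toAlgebra (algebraMap A B) = (inferInstance : Algebra A B) :=
    Algebra.algebra_ext _ _ (fun _ => rfl)
  rw [this]
  infer_instance

theorem flat_fromSpecStalk (X : Scheme.{u}) (x : X) : Flat (X.fromSpecStalk x) := by
  obtain ⟨_, ⟨U, hU : IsAffineOpen U, rfl⟩, hxU, -⟩ :=
    X.isBasis_affineOpens.exists_subset_of_mem_open (Set.mem_univ x) isOpen_univ
  rw [← hU.fromSpecStalk_eq_fromSpecStalk hxU]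
  unfold IsAffineOpen.fromSpecStalk
  have h1 : Flat (Spec.map (X.presheaf.germ U x hxU)) := by
    rw [Flat.SpecMap_iff]
    let _ := X.presheaf.algebra_section_stalk ⟨x, hxU⟩
    have hloc := hU.isLocalization_stalk ⟨x, hxU⟩
    have : Module.Flat Γ(X, U) (X.presheaf.stalk x) :=
      IsLocalization.flat _ (hU.primeIdealOf ⟨x, hxU⟩).asIdeal.primeCompl
    exact this
  infer_instance

theorem weaklyEtale_fromSpecStalk (X : Scheme.{u}) (x : X) : WeaklyEtale (X.fromSpecStalk x) := by
  have h1 := flat_fromSpecStalk X x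
  have h2 : IsIso (pullback.diagonal (X.fromSpecStalk x)) := inferInstance
  exact { flat := h1, flat_diagonal := inferInstance }

theorem weaklyEtale_specOf (X : Scheme.{u}) (x : X) (R : Type u) [CommRing R]
    [Algebra (X.presheaf.stalk x) R] [Algebra.WeaklyEtale (X.presheaf.stalk x) R] :
    WeaklyEtale (Hens2.specOf X x R) := by
  have h1 := weaklyEtale_SpecMap_of_weaklyEtale (X.presheaf.stalk x) R
  have h2 := weaklyEtale_fromSpecStalk X x
  unfold Hens2.specOf
  infer_instance

end Groth.Agent.Lib.Helper4.IndEt
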