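import Mathlib
import Groth.Prelude.Def_ProEtS

/-!
# Covering sieves of the small pro-étale site: finite affine refinements
-/

set_option autoImplicit false
set_option linter.style.haveILetI false
set_option linter.unusedSectionVars false
universe u w

namespace Groth.Agent.Lib.Helper4.PE

open CategoryTheory CategoryTheory.Limits AlgebraicGeometry Opposite

variable {X : Scheme.{u}}

/-- A sieve `R` on `U` is *finitely affinely refined along* `h : W ⟶ U` if there is a finite
jointly surjective family of affine objects over `W` whose composites to `U` belong to `R`. -/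
def Refines {U : X.ProEt} (R : Sieve U) {W : X.ProEt} (h : W ⟶ U) : Prop :=
  ∃ (ι : Type) (_ : Finite ι) (W' : ι → X.ProEt) (g : ∀ k, W' k ⟶ W),
    (∀ k, IsAffine (W' k).left) ∧ (∀ k, R.arrows (g k ≫ h)) ∧
    (∀ w : W.left, ∃ k, w ∈ Set.range (g k).left.base)

theorem refines_top {U W : X.ProEt} [IsAffine W.left] (h : W ⟶ U) :
    Refines (⊤ : Sieve U) h := by
  refine ⟨PUnit, inferInstance, fun _ => W, fun _ => 𝟙 W, fun _ => inferInstance,
    fun _ => trivial, fun w => ⟨PUnit.unit, w, rfl⟩⟩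

theorem refines_transitive {U : X.ProEt} (S R : Sieve U)
    (hS : ∀ (W : X.ProEt) [IsAffine W.left] (h : W ⟶ U), Refines S h)
    (hR : ∀ ⦃Y : X.ProEt⦄ ⦃f : Y ⟶ U⦄, S.arrows f →
      ∀ (W : X.ProEt) [IsAffine W.left] (h : W ⟶ Y), Refines (R.pullback f) h)
    (W : X.ProEt) [IsAffine W.left] (h : W ⟶ U) : Refines R h := by
  obtain ⟨ι, hι, W', g, haff, hmem, hsurj⟩ := hS W h
  have key : ∀ k, Refines (R.pullback (g k ≫ h)) (𝟙 (W' k)) := fun k =>
    haveI := haff k
    hR (hmem k) (W' k) (𝟙 _)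
  choose κ hκ W'' g' haff' hmem' hsurj' using key
  refine ⟨Σ k, κ k, inferInstance, fun p => W'' p.1 p.2, fun p => g' p.1 p.2 ≫ g p.1,
    fun p => haff' p.1 p.2, fun p => ?_, fun w => ?_⟩
  · have := hmem' p.1 p.2
    simpa using this
  · obtain ⟨k, w', hw'⟩ := hsurj w
    obtain ⟨l, w'', hw''⟩ := hsurj' k w'
    refine ⟨⟨k, l⟩, w'', ?_⟩
    rw [← hw', ← hw'']
    rfl

theorem exists_affine_cover_pullback {S T : Scheme.{u}} (h : T ⟶ S) [CompactSpace T]
    {ι : Type w} (Y : ι → Scheme.{u}) (f : ∀ i, Y i ⟶ S)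
    (hqc : QuasiCompactCover (⟨ι, Y, f⟩ : PreZeroHypercover S)) :
    ∃ (n : ℕ) (idx : Fin n → ι) (V : ∀ k, (pullback h (f (idx k))).Opens),
      (∀ k, IsAffineOpen (V k)) ∧
      ⋃ k, (pullback.fst h (f (idx k))).base '' (V k : Set _) = Set.univ := by
  have hcpt : IsCompact ((⊤ : T.Opens) : Set T) := by
    simpa using isCompact_univ
  obtain ⟨n, idx, V, hV, hcov⟩ :=
    QuasiCompactCover.exists_isAffineOpen_of_isCompact
      ((⟨ι, Y, f⟩ : PreZeroHypercover S).pullback₁ h) hcpt
  exact ⟨n, idx, V, hV, hcov⟩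

theorem refines_of {U : X.ProEt} (S : Presieve U) (hS : S ∈ Scheme.ProEt.precoverage X U)
    (W : X.ProEt) [IsAffine W.left] (h : W ⟶ U) : Refines (Sieve.generate S) h := by
  obtain ⟨ι, Y, f, rfl⟩ := S.exists_eq_ofArrows
  have h1 : (Presieve.ofArrows Y f).map (Scheme.ProEt.forget X ⋙ Over.forget X) ∈
    Scheme.proetalePrecoverage U.left := hS
  rw [Presieve.map_ofArrows] at h1
  obtain ⟨h2, h3⟩ := h1
  let E : PreZeroHypercover U.left := ⟨ι, fun i => (Y i).left, fun i => (f i).left⟩
  haveI h4 : QuasiCompactCover E := by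
    rw [← Scheme.presieve₀_mem_qcPrecoverage_iff]
    exact h2
  have h5 := (Scheme.presieve₀_mem_precoverage_iff (E := E)).mp h3
  have hWE : ∀ i, WeaklyEtale (f i).left := h5.2
  obtain ⟨n, idx, V, hV, hcov⟩ :=
    exists_affine_cover_pullback h.left (fun i => (Y i).left) (fun i => (f i).left) h4
  -- the objects
  haveI : ∀ k, WeaklyEtale (f (idx k)).left := fun k => hWE _
  haveI hwe : ∀ k : Fin n, WeaklyEtale ((V k).ι ≫ pullback.fst h.left (f (idx k)).left ≫ W.hom) :=
    fun k => inferInstance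
  let W' : Fin n → X.ProEt := fun k =>
    Scheme.ProEt.mk ((V k).ι ≫ pullback.fst h.left (f (idx k)).left ≫ W.hom)
  let g : ∀ k, W' k ⟶ W := fun k =>
    MorphismProperty.Over.homMk ((V k).ι ≫ pullback.fst h.left (f (idx k)).left)
      (Category.assoc _ _ _)
  have ht : ∀ k, ((V k).ι ≫ pullback.snd h.left (f (idx k)).left) ≫ (Y (idx k)).hom =
      (V k).ι ≫ pullback.fst h.left (f (idx k)).left ≫ W.hom := by
    intro k
    have e1 := MorphismProperty.Over.w (f (idx k))
    have e2 := MorphismProperty.Over.w h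
    have e3 := pullback.condition (f := h.left) (g := (f (idx k)).left)
    rw [← e1, ← e2, Category.assoc, reassoc_of% e3]
  let t : ∀ k, W' k ⟶ Y (idx k) := fun k =>
    MorphismProperty.Over.homMk ((V k).ι ≫ pullback.snd h.left (f (idx k)).left) (ht k)
  refine ⟨Fin n, inferInstance, W', g, fun k => hV k, fun k => ?_, fun w => ?_⟩
  · refine ⟨Y (idx k), t k, f (idx k), ⟨idx k⟩, ?_⟩
    apply MorphismProperty.Over.Hom.ext
    have e3 := pullback.condition (f := h.left) (g := (f (idx k)).left)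
    change ((V k).ι ≫ pullback.snd h.left (f (idx k)).left) ≫ (f (idx k)).left =
      ((V k).ι ≫ pullback.fst h.left (f (idx k)).left) ≫ h.left
    rw [Category.assoc, Category.assoc, e3]
  · have hw : w ∈ (Set.univ : Set W.left) := trivial
    rw [← hcov] at hw
    obtain ⟨k, hk⟩ := Set.mem_iUnion.mp hw
    obtain ⟨v, hv, hvw⟩ := hk
    refine ⟨k, ⟨v, hv⟩, ?_⟩
    rw [← hvw]
    rfl

theorem refines_pullback {U Y : X.ProEt} (S : Sieve U) (f : Y ⟶ U)
    (hS : ∀ (W : X.ProEt) [IsAffine W.left] (h : W ⟶ U), Refines S h)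
    (W : X.ProEt) [IsAffine W.left] (h : W ⟶ Y) : Refines (S.pullback f) h := by
  obtain ⟨ι, hι, W', g, haff, hmem, hsurj⟩ := hS W (h ≫ f)
  refine ⟨ι, hι, W', g, haff, fun k => ?_, hsurj⟩
  have := hmem k
  simpa using this

/-- Every covering sieve of the small pro-étale site admits, along any map from an affine object,
a finite jointly surjective affine refinement. -/
theorem refines_of_mem {U : X.ProEt} (R : Sieve U) (hR : R ∈ Scheme.ProEt.topology X U) :
    ∀ (W : X.ProEt) [IsAffine W.left] (h : W ⟶ U), Refines R h := by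
  have hR' : (Scheme.ProEt.precoverage X).Saturate U R := hR
  clear hR
  induction hR' with
  | of U S hS =>
    intro W _ h
    exact refines_of S hS W h
  | top U =>
    intro W _ h
    exact refines_top h
  | pullback U S hS Y f ih =>
    intro W _ h
    exact refines_pullback S f ih W h
  | transitive U S R hS hR ih1 ih2 =>
    intro W _ h
    exact refines_transitive S R ih1 (fun Y f hf => ih2 hf) W h

end Groth.Agent.Lib.Helper4.PE
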