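import Mathlib
import Groth.Prelude.Def_ProEtS
import Groth.Prelude.Def_PBC
import Groth.Agent.Lib.Helper3.WeaklyEtaleStalk

/-!
# Sections of weakly étale covers of w-contractible affine schemes
-/

set_option autoImplicit false
set_option linter.style.haveILetI false
set_option linter.unusedSectionVars false
universe u

namespace Groth.Agent.Lib.Helper4.PE

open CategoryTheory CategoryTheory.Limits AlgebraicGeometry Opposite

/-- ring-level data of a weakly étale surjective morphism of affine schemes -/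
theorem weaklyEtale_ff_appTop {W T : Scheme.{u}} [IsAffine W] [IsAffine T] (p : W ⟶ T)
    [WeaklyEtale p] [Surjective p] :
    letI := p.appTop.hom.toAlgebra
    Algebra.WeaklyEtale Γ(T, ⊤) Γ(W, ⊤) ∧ Module.FaithfullyFlat Γ(T, ⊤) Γ(W, ⊤) := by
  letI := p.appTop.hom.toAlgebra
  have h1 : WeaklyEtale (Spec.map p.appTop) :=
    (MorphismProperty.arrow_mk_iso_iff @WeaklyEtale (arrowIsoSpecΓOfIsAffine p)).mp inferInstance
  have h2 : Surjective (Spec.map p.appTop) :=
    (MorphismProperty.arrow_mk_iso_iff @Surjective (arrowIsoSpecΓOfIsAffine p)).mp inferInstance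
  have h3 := (Groth.Agent.Lib.Helper3.WeaklyEtaleStalk.weaklyEtale_SpecMap_iff p.appTop).mp h1
  have hfl : Module.Flat Γ(T, ⊤) Γ(W, ⊤) := h3.1
  have h4 : Flat (Spec.map p.appTop) := inferInstance
  have h5 := (flat_and_surjective_SpecMap_iff p.appTop).mp ⟨h4, h2⟩
  exact ⟨⟨hfl, h3.2⟩, h5⟩

/-- A weakly étale surjective morphism from an affine scheme to a w-contractible affine scheme
has a section. -/
theorem exists_section {W T : Scheme.{u}} [IsAffine W] [IsAffine T] (p : W ⟶ T)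
    [WeaklyEtale p] [Surjective p] (hT : EtPBC.IsWContractible Γ(T, ⊤)) :
    ∃ s : T ⟶ W, s ≫ p = 𝟙 T := by
  letI := p.appTop.hom.toAlgebra
  obtain ⟨hwe, hff⟩ := weaklyEtale_ff_appTop p
  obtain ⟨σ⟩ := hT Γ(W, ⊤) hff hwe
  let ψ : Γ(W, ⊤) ⟶ Γ(T, ⊤) := CommRingCat.ofHom σ.toRingHom
  have hψ : p.appTop ≫ ψ = 𝟙 _ := by
    ext a
    exact σ.commutes a
  refine ⟨T.toSpecΓ ≫ Spec.map ψ ≫ W.isoSpec.inv, ?_⟩
  rw [← cancel_mono T.toSpecΓ]
  simp only [Category.assoc, Category.id_comp]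
  rw [Scheme.toSpecΓ_naturality, ← Scheme.isoSpec_hom W, Iso.inv_hom_id_assoc, ← Spec.map_comp, hψ,
    Spec.map_id, Category.comp_id]

end Groth.Agent.Lib.Helper4.PE
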