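import Mathlib
import Groth.Prelude.Def_ProEtS
import Groth.Prelude.Def_PBC
import Groth.Agent.Lib.Helper4.PE1
import Groth.Agent.Lib.Helper4.PE2

/-!
# Splitting finite affine covers of w-contractible affine objects into clopen pieces
-/

set_option autoImplicit false
set_option linter.style.haveILetI false
set_option linter.unusedSectionVars false
universe u

namespace Groth.Agent.Lib.Helper4.PE

open CategoryTheory CategoryTheory.Limits AlgebraicGeometry Opposite

variable {X : Scheme.{u}}

/-- Morphisms in the small pro-étale site are weakly étale. -/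
theorem weaklyEtale_left {U V : X.ProEt} (g : V ⟶ U) : WeaklyEtale g.left := by
  haveI : WeaklyEtale (g.left ≫ U.hom) := by
    rw [MorphismProperty.Over.w g]
    infer_instance
  exact WeaklyEtale.of_comp g.left U.hom

set_option maxHeartbeats 1000000 in
theorem split {U : X.ProEt} [IsAffine U.left] (hU : EtPBC.IsWContractible Γ(U.left, ⊤))
    {ι : Type} [Finite ι] (W' : ι → X.ProEt) (g : ∀ k, W' k ⟶ U)
    (haff : ∀ k, IsAffine (W' k).left)
    (hsurj : ∀ x : U.left, ∃ k, x ∈ Set.range (g k).left.base) :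
    ∃ (V : ι → U.left.Opens), (∀ k, IsClopen (V k : Set U.left)) ∧
      (∀ k l, k ≠ l → Disjoint (V k : Set U.left) (V l)) ∧
      (⋃ k, (V k : Set U.left)) = Set.univ ∧
      ∀ k, ∃ t : Scheme.ProEt.mk ((V k).ι ≫ U.hom) ⟶ W' k,
        t ≫ g k = MorphismProperty.Over.homMk (V k).ι := by
  classical
  haveI := haff
  let F : ι → Scheme.{u} := fun k => (W' k).left
  let p : (∐ F) ⟶ U.left := Sigma.desc (fun k => (g k).left)
  haveI hpwe : WeaklyEtale p := by
    rw [IsZariskiLocalAtSource.iff_of_openCover (P := @WeaklyEtale) (sigmaOpenCover F)]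
    intro k
    change WeaklyEtale (Sigma.ι F k ≫ p)
    rw [Sigma.ι_desc]
    exact weaklyEtale_left (g k)
  haveI hpsurj : Surjective p := by
    rw [surjective_iff]
    intro x
    obtain ⟨k, y, hy⟩ := hsurj x
    refine ⟨(Sigma.ι F k).base y, ?_⟩
    rw [← Scheme.Hom.comp_apply, Sigma.ι_desc]
    exact hy
  haveI : IsAffine (∐ F) := inferInstance
  obtain ⟨s, hs⟩ := exists_section p hU
  let V : ι → U.left.Opens := fun k => s ⁻¹ᵁ (Sigma.ι F k).opensRange
  have hdisj : ∀ k l, k ≠ l → Disjoint (V k : Set U.left) (V l) := by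
    intro k l hkl
    have h1 := disjoint_opensRange_sigmaι F k l hkl
    rw [Set.disjoint_iff]
    intro x ⟨hx1, hx2⟩
    have h2 : s.base x ∈ ((Sigma.ι F k).opensRange ⊓ (Sigma.ι F l).opensRange : (∐ F).Opens) :=
      ⟨hx1, hx2⟩
    rw [disjoint_iff.mp h1] at h2
    exact h2
  have hcov : (⋃ k, (V k : Set U.left)) = Set.univ := by
    rw [Set.eq_univ_iff_forall]
    intro x
    obtain ⟨y, hy⟩ := (sigmaOpenCover F).covers (s.base x)
    exact Set.mem_iUnion.mpr ⟨(sigmaOpenCover F).idx (s.base x), ⟨y, hy⟩⟩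
  have hclopen : ∀ k, IsClopen (V k : Set U.left) := by
    intro k
    refine ⟨?_, (V k).2⟩
    have hcompl : (V k : Set U.left) = (⋃ l ∈ {l | l ≠ k}, (V l : Set U.left))ᶜ := by
      ext x
      simp only [Set.mem_compl_iff, Set.mem_iUnion, not_exists]
      constructor
      · intro hx l hl hxl
        exact (Set.disjoint_iff.mp (hdisj k l (Ne.symm hl))) ⟨hx, hxl⟩
      · intro hx
        have hxu : x ∈ (⋃ k, (V k : Set U.left)) := by rw [hcov]; trivial
        obtain ⟨l, hl⟩ := Set.mem_iUnion.mp hxu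
        by_cases hlk : l = k
        · rw [← hlk]; exact hl
        · exact absurd hl (hx l hlk)
    rw [hcompl]
    exact (isOpen_biUnion (fun l _ => (V l).2)).isClosed_compl
  refine ⟨V, hclopen, hdisj, hcov, fun k => ?_⟩
  have hrange : Set.range ((V k).ι ≫ s).base ⊆ Set.range (Sigma.ι F k).base := by
    rintro _ ⟨x, rfl⟩
    exact x.2
  let t0 : ((V k : U.left.Opens) : Scheme) ⟶ (W' k).left :=
    IsOpenImmersion.lift (Sigma.ι F k) ((V k).ι ≫ s) hrange
  have ht0 : t0 ≫ Sigma.ι F k = (V k).ι ≫ s := IsOpenImmersion.lift_fac _ _ _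
  have ht1 : t0 ≫ (g k).left = (V k).ι := by
    have : (g k).left = Sigma.ι F k ≫ p := (Sigma.ι_desc (fun k => (g k).left) k).symm
    rw [this, reassoc_of% ht0, hs, Category.comp_id]
  refine ⟨MorphismProperty.Over.homMk t0 ?_, ?_⟩
  · change t0 ≫ (W' k).hom = (V k).ι ≫ U.hom
    rw [← MorphismProperty.Over.w (g k), reassoc_of% ht1]
  · apply MorphismProperty.Over.Hom.ext
    exact ht1

end Groth.Agent.Lib.Helper4.PE
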