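import Mathlib
import Groth.Prelude.Def_ProEtS
import Groth.Prelude.Def_PBC
import Groth.Agent.Lib.Helper4.PE3

/-!
# w-contractible affine objects: covering sieves contain clopen partitions
-/

set_option autoImplicit false
set_option linter.style.haveILetI false
set_option linter.unusedSectionVars false
universe u

namespace Groth.Agent.Lib.Helper4.PE

open CategoryTheory CategoryTheory.Limits AlgebraicGeometry Opposite

variable {X : Scheme.{u}}

/-- Every covering sieve contains the inclusions of a finite clopen partition. -/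
def PartitionProp (U : X.ProEt) : Prop :=
  ∀ R ∈ Scheme.ProEt.topology X U, ∃ (n : ℕ) (W : Fin n → U.left.Opens),
    (∀ k, IsClopen ((W k : Set ↥U.left))) ∧
    Pairwise (fun k l => Disjoint (W k : Set ↥U.left) (W l)) ∧
    (⋃ k, (W k : Set ↥U.left)) = Set.univ ∧
    ∀ k, R.arrows (MorphismProperty.Over.homMk (W k).ι :
      Scheme.ProEt.mk ((W k).ι ≫ U.hom) ⟶ U)

theorem partitionProp_of_isWContractible (U : X.ProEt) [IsAffine U.left]
    (hU : EtPBC.IsWContractible Γ(U.left, ⊤)) : PartitionProp U := by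
  intro R hR
  obtain ⟨ι, hι, W', g, haff, hmem, hsurj⟩ := refines_of_mem R hR U (𝟙 U)
  haveI := hι
  obtain ⟨V, hclopen, hdisj, hcov, ht⟩ := split hU W' g haff hsurj
  obtain ⟨n, ⟨e⟩⟩ := Finite.exists_equiv_fin ι
  refine ⟨n, fun j => V (e.symm j), fun j => hclopen _, ?_, ?_, fun j => ?_⟩
  · intro j l hjl
    exact hdisj _ _ (fun h => hjl (e.symm.injective h))
  · rw [Set.eq_univ_iff_forall]
    intro x
    have hx : x ∈ (⋃ k, (V k : Set U.left)) := by rw [hcov]; trivial
    obtain ⟨k, hk⟩ := Set.mem_iUnion.mp hx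
    refine Set.mem_iUnion.mpr ⟨e k, ?_⟩
    change x ∈ (V (e.symm (e k)) : Set U.left)
    rw [e.symm_apply_apply]
    exact hk
  · obtain ⟨t, ht'⟩ := ht (e.symm j)
    have h1 := hmem (e.symm j)
    rw [Category.comp_id] at h1
    have h2 : R.arrows (t ≫ g (e.symm j)) := R.downward_closed h1 t
    rw [ht'] at h2
    exact h2

end Groth.Agent.Lib.Helper4.PE
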