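import Mathlib
import Groth.Prelude.Def_ProEtS
import Groth.Prelude.Def_PBC
import Groth.Agent.Lib.Helper4.PE4

/-!
# Clopen partitions are coverings; gluing sections; weakly contractible objects
-/

set_option autoImplicit false
set_option linter.style.haveILetI false
set_option linter.unusedSectionVars false
universe u

namespace Groth.Agent.Lib.Helper4.PE

open CategoryTheory CategoryTheory.Limits AlgebraicGeometry Opposite

variable {X : Scheme.{u}}

/-- the object of the small pro-étale site given by an open of an object -/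
noncomputable abbrev opn (U : X.ProEt) (W : U.left.Opens) : X.ProEt :=
  Scheme.ProEt.mk (W.ι ≫ U.hom)

/-- the inclusion of an open of an object -/
noncomputable abbrev opnι (U : X.ProEt) (W : U.left.Opens) : opn U W ⟶ U :=
  MorphismProperty.Over.homMk W.ι

/-- An open cover of an object gives a covering sieve. -/
theorem ofArrows_opn_mem {U : X.ProEt} {ι : Type*} (W : ι → U.left.Opens)
    (hW : (⋃ k, (W k : Set U.left)) = Set.univ) :
    Sieve.ofArrows (fun k => opn U (W k)) (fun k => opnι U (W k)) ∈
      Scheme.ProEt.topology X U := by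
  have hcov : TopologicalSpace.IsOpenCover W := by
    apply TopologicalSpace.Opens.ext
    rw [TopologicalSpace.Opens.coe_iSup, hW]
    rfl
  apply Precoverage.generate_mem_toGrothendieck
  change (Presieve.ofArrows _ _).map (Scheme.ProEt.forget X ⋙ Over.forget X) ∈
    Scheme.proetalePrecoverage U.left
  rw [Presieve.map_ofArrows]
  exact Scheme.zariskiPrecoverage_le_propQCPrecoverage _
    (U.left.openCoverOfIsOpenCover W hcov).mem₀

theorem opnι_mono {U : X.ProEt} (W : U.left.Opens) {Z : X.ProEt} (a b : Z ⟶ opn U W)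
    (h : a ≫ opnι U W = b ≫ opnι U W) : a = b := by
  apply MorphismProperty.Over.Hom.ext
  have h1 : (a ≫ opnι U W).left = (b ≫ opnι U W).left := by rw [h]
  have h2 : a.left ≫ W.ι = b.left ≫ W.ι := h1
  exact (cancel_mono W.ι).mp h2

/-- sheaves of types have at most one section on empty objects -/
theorem subsingleton_of_isEmpty (F : Sheaf (Scheme.ProEt.topology X) (Type (u + 1)))
    (Z : X.ProEt) [IsEmpty Z.left] (a b : F.obj.obj (op Z)) : a = b := by
  have hF : Presieve.IsSheaf (Scheme.ProEt.topology X) F.obj :=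
    (isSheaf_iff_isSheaf_of_type _ _).1 F.property
  have h1 := (hF (⊥ : Sieve Z) (Scheme.ProEt.bot_mem_topology Z)).isSeparatedFor
  exact h1.ext (fun Y f hf => False.elim hf)

/-- Gluing sections of a sheaf of types over a pairwise disjoint open cover of an object. -/
theorem exists_glue (F : Sheaf (Scheme.ProEt.topology X) (Type (u + 1))) {U : X.ProEt}
    {ι : Type*} (W : ι → U.left.Opens)
    (hdisj : ∀ k l, k ≠ l → Disjoint (W k : Set U.left) (W l))
    (hW : (⋃ k, (W k : Set U.left)) = Set.univ)
    (x : ∀ k, F.obj.obj (op (opn U (W k)))) :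
    ∃! t : F.obj.obj (op U), ∀ k, F.obj.map (opnι U (W k)).op t = x k := by
  classical
  have hF : Presieve.IsSheaf (Scheme.ProEt.topology X) F.obj :=
    (isSheaf_iff_isSheaf_of_type _ _).1 F.property
  have h1 : Presieve.IsSheafFor F.obj
      (Presieve.ofArrows (fun k => opn U (W k)) (fun k => opnι U (W k))) := by
    exact hF.isSheafFor _ (ofArrows_opn_mem W hW)
  refine (Presieve.isSheafFor_arrows_iff _ _).mp h1 x ?_
  intro k l Z gk gl hkl
  by_cases hkl' : k = l
  · subst hkl'
    rw [opnι_mono (W k) gk gl hkl]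
  · haveI : IsEmpty Z.left := by
      refine ⟨fun z => ?_⟩
      have h2 : (gk ≫ opnι U (W k)).left = (gl ≫ opnι U (W l)).left := by rw [hkl]
      have h3 : gk.left ≫ (W k).ι = gl.left ≫ (W l).ι := h2
      have h4 : ((gk.left ≫ (W k).ι).base z) ∈ (W k : Set U.left) := by
        rw [Scheme.Hom.comp_apply]
        exact (gk.left.base z).2
      have h5 : ((gk.left ≫ (W k).ι).base z) ∈ (W l : Set U.left) := by
        rw [h3, Scheme.Hom.comp_apply]
        exact (gl.left.base z).2
      exact (Set.disjoint_iff.mp (hdisj k l hkl')) ⟨h4, h5⟩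
    exact subsingleton_of_isEmpty F Z _ _

theorem isWC_of_partitionProp (U : X.ProEt) (h : PartitionProp U) : ProEtS.IsWC U := by
  intro F G φ hφ
  haveI := hφ
  haveI hls : Sheaf.IsLocallySurjective φ := (Sheaf.isLocallySurjective_iff_epi φ).mpr hφ
  intro s
  have hR : Presheaf.imageSieve φ.hom s ∈ Scheme.ProEt.topology X U :=
    Presheaf.imageSieve_mem (Scheme.ProEt.topology X) φ.hom (U := op U) s
  obtain ⟨n, W, hclopen, hdisj, hcov, hmem⟩ := h _ hR
  choose t ht using hmem
  have hdisj' : ∀ k l, k ≠ l → Disjoint (W k : Set U.left) (W l) := fun k l hkl => hdisj hkl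
  obtain ⟨t0, ht0, -⟩ := exists_glue F W hdisj' hcov t
  refine ⟨t0, ?_⟩
  obtain ⟨s', hs', hs'uniq⟩ := exists_glue G W hdisj' hcov
    (fun k => G.obj.map (opnι U (W k)).op s)
  have e1 : φ.hom.app (op U) t0 = s' := by
    apply hs'uniq
    intro k
    have := FunctorToTypes.naturality φ.hom (opnι U (W k)).op t0
    rw [← this, ht0 k]
    exact ht k
  have e2 : s = s' := hs'uniq s (fun k => rfl)
  rw [e1, e2]

end Groth.Agent.Lib.Helper4.PE
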