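import Mathlib
import Groth.Prelude.Def_ProEtS
import Groth.Prelude.Def_PBC
import Groth.Agent.Lib.Helper4.PE5
import Groth.Agent.Lib.Helper4.HznWESch

/-!
# Weakly contractible affine objects have w-contractible rings of functions
-/

set_option autoImplicit false
set_option linter.style.haveILetI false
set_option linter.unusedSectionVars false
universe u

namespace Groth.Agent.Lib.Helper4.PE

open CategoryTheory CategoryTheory.Limits AlgebraicGeometry Opposite

variable {X : Scheme.{u}}

/-- A single weakly étale, surjective, quasi-compact morphism generates a covering sieve. -/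
theorem singleton_mem {U V : X.ProEt} (g : V ⟶ U) [Surjective g.left] [QuasiCompact g.left] :
    Sieve.generate (Presieve.singleton g) ∈ Scheme.ProEt.topology X U := by
  apply Precoverage.generate_mem_toGrothendieck
  change (Presieve.singleton g).map (Scheme.ProEt.forget X ⋙ Over.forget X) ∈
    Scheme.proetalePrecoverage U.left
  rw [Presieve.map_singleton]
  change Presieve.singleton g.left ∈ Scheme.proetalePrecoverage U.left
  exact Scheme.Hom.singleton_mem_propQCPrecoverage (weaklyEtale_left g)

/-- If a morphism generates a covering sieve and the target is weakly contractible, then the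
morphism has a section. -/
theorem exists_section_of_isWC {U V : X.ProEt} (g : V ⟶ U)
    (hg : Sieve.generate (Presieve.singleton g) ∈ Scheme.ProEt.topology X U)
    (hU : ProEtS.IsWC U) : ∃ a : U ⟶ V, a ≫ g = 𝟙 U := by
  let J := Scheme.ProEt.topology X
  let φ := (GrothendieckTopology.uliftYoneda.{u + 1} J).map g
  haveI hls : Sheaf.IsLocallySurjective φ := by
    constructor
    intro T s
    have h1 : (Sieve.generate (Presieve.singleton g)).pullback s.down ∈ J T :=
      J.pullback_stable s.down hg
    refine J.superset_covering ?_ h1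
    intro T' f hf
    obtain ⟨Z, a, b, hb, hab⟩ := hf
    obtain ⟨⟩ := hb
    exact ⟨⟨a⟩, ULift.ext _ _ hab⟩
  haveI : Epi φ := (Sheaf.isLocallySurjective_iff_epi φ).mp hls
  obtain ⟨a, ha⟩ := hU _ _ φ inferInstance ⟨𝟙 U⟩
  exact ⟨a.down, congrArg ULift.down ha⟩

theorem isWContractible_of_isWC (U : X.ProEt) [IsAffine U.left] (hU : ProEtS.IsWC U) :
    EtPBC.IsWContractible Γ(U.left, ⊤) := by
  intro B _ _ hff hwe
  haveI := hff
  haveI := hwe
  let φ : Γ(U.left, ⊤) ⟶ CommRingCat.of B := CommRingCat.ofHom (algebraMap Γ(U.left, ⊤) B)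
  haveI h1 : WeaklyEtale (Spec.map φ) :=
    Groth.Agent.Lib.Helper4.IndEt.weaklyEtale_SpecMap_of_weaklyEtale Γ(U.left, ⊤) B
  haveI h2 : Surjective (Spec.map φ) := by
    have h3 : φ.hom.FaithfullyFlat := by
      rw [RingHom.FaithfullyFlat]
      have : RingHom.toAlgebra (algebraMap Γ(U.left, ⊤) B) =
          (inferInstance : Algebra Γ(U.left, ⊤) B) := Algebra.algebra_ext _ _ (fun _ => rfl)
      change @Module.FaithfullyFlat Γ(U.left, ⊤) B _ _
        (RingHom.toAlgebra (algebraMap Γ(U.left, ⊤) B)).toModule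
      rw [this]
      exact hff
    exact ((flat_and_surjective_SpecMap_iff φ).mpr h3).2
  let q : Spec (CommRingCat.of B) ⟶ U.left := Spec.map φ ≫ U.left.isoSpec.inv
  haveI : WeaklyEtale q := inferInstance
  haveI : Surjective q := inferInstance
  haveI : QuasiCompact q := inferInstance
  haveI : WeaklyEtale (q ≫ U.hom) := inferInstance
  let V' : X.ProEt := Scheme.ProEt.mk (q ≫ U.hom)
  let gV : V' ⟶ U := MorphismProperty.Over.homMk q
  haveI : Surjective gV.left := (inferInstance : Surjective q)
  haveI : QuasiCompact gV.left := (inferInstance : QuasiCompact q)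
  obtain ⟨a, ha⟩ := exists_section_of_isWC gV (singleton_mem gV) hU
  have hs : a.left ≫ q = 𝟙 U.left := by
    have := congrArg (fun m => m.left) ha
    exact this
  have hs' : a.left ≫ Spec.map φ = U.left.toSpecΓ := by
    have h4 : (a.left ≫ Spec.map φ ≫ U.left.isoSpec.inv) ≫ U.left.isoSpec.hom =
        U.left.isoSpec.hom := by
      have h4' : a.left ≫ Spec.map φ ≫ U.left.isoSpec.inv = 𝟙 _ := hs
      rw [h4', Category.id_comp]
    rw [Category.assoc, Category.assoc, Iso.inv_hom_id, Category.comp_id, Scheme.isoSpec_hom] at h4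
    exact h4
  let ρ : CommRingCat.of B ⟶ Γ(U.left, ⊤) :=
    (Scheme.ΓSpecIso (CommRingCat.of B)).inv ≫ a.left.appTop
  have hρ : φ ≫ ρ = 𝟙 _ := by
    have h5 := congrArg Scheme.Hom.appTop hs'
    rw [Scheme.Hom.comp_appTop, Scheme.toSpecΓ_appTop] at h5
    have h6 := Scheme.ΓSpecIso_inv_naturality φ
    calc φ ≫ (Scheme.ΓSpecIso (CommRingCat.of B)).inv ≫ a.left.appTop
        = (φ ≫ (Scheme.ΓSpecIso (CommRingCat.of B)).inv) ≫ a.left.appTop :=
          (Category.assoc _ _ _).symm
      _ = ((Scheme.ΓSpecIso Γ(U.left, ⊤)).inv ≫ (Spec.map φ).appTop) ≫ a.left.appTop := by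
          rw [h6]
      _ = (Scheme.ΓSpecIso Γ(U.left, ⊤)).inv ≫ ((Spec.map φ).appTop ≫ a.left.appTop) :=
          Category.assoc _ _ _
      _ = (Scheme.ΓSpecIso Γ(U.left, ⊤)).inv ≫ (Scheme.ΓSpecIso Γ(U.left, ⊤)).hom :=
          congrArg (fun m => (Scheme.ΓSpecIso Γ(U.left, ⊤)).inv ≫ m) h5
      _ = 𝟙 _ := Iso.inv_hom_id _
  refine ⟨{ ρ.hom with commutes' := fun r => ?_ }⟩
  have := congrArg (fun m => m.hom r) hρ
  exact this

end Groth.Agent.Lib.Helper4.PE
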