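import Mathlib
import Groth.Agent.Lib.Helper22.CechU.Eval
import Groth.Agent.Lib.Helper22.CechU.Transfer
import Groth.Agent.Lib.Helper22.ColimCohU.Local

/-!
# Čech complexes: pullback of cochains along morphisms of families, and passage of acyclicity
to "limits" of families and to "colimits" of presheaves
-/

set_option autoImplicit false
set_option linter.style.haveILetI false
set_option linter.unusedSectionVars false
universe w₁ w₂ u v u'

namespace Groth.Agent.Lib.Helper4.PEC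

open CategoryTheory CategoryTheory.Limits Opposite Groth.Agent.Lib.Helper22.CechU
  Groth.Agent.Lib.Helper22.ColimCohU

variable {C : Type u'} [Category.{v} C] [HasFiniteProducts C] {ι : Type u}
  (P : Cᵒᵖ ⥤ AddCommGrpCat.{u})

section pull

variable {U U' U'' : ι → C} (φ : ∀ i, U i ⟶ U' i) (ψ : ∀ i, U' i ⟶ U'' i)

/-- push a tuple forward along a morphism of families -/
def tpush {n : ℕ} {V : C} (t : T U n V) : T U' n V := fun j => ⟨(t j).1, (t j).2 ≫ φ (t j).1⟩

lemma pre_tpush {n : ℕ} {V W : C} (h : W ⟶ V) (t : T U n V) :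
    T.pre U' h (tpush φ t) = tpush φ (T.pre U h t) := by
  funext j
  change (⟨(t j).1, h ≫ (t j).2 ≫ φ (t j).1⟩ : SV U' W) = ⟨(t j).1, (h ≫ (t j).2) ≫ φ (t j).1⟩
  rw [Category.assoc]

/-- the induced map on the members of the nerve -/
noncomputable def nm {n : ℕ} (σ : Fin (n + 1) → ι) : Uσ U σ ⟶ Uσ U' σ :=
  Pi.lift fun j => Pi.π (U ∘ σ) j ≫ φ (σ j)

@[reassoc (attr := simp)]
lemma nm_π {n : ℕ} (σ : Fin (n + 1) → ι) (j : Fin (n + 1)) :
    nm φ σ ≫ Pi.π (U' ∘ σ) j = Pi.π (U ∘ σ) j ≫ φ (σ j) := by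
  unfold nm
  exact Pi.lift_π _ _

lemma nm_comp {n : ℕ} (σ : Fin (n + 1) → ι) :
    nm φ σ ≫ nm ψ σ = nm (fun i => φ i ≫ ψ i) σ := by
  refine Pi.hom_ext (f := U'' ∘ σ) _ _ (fun j => ?_)
  rw [Category.assoc, nm_π, nm_π_assoc, nm_π]

lemma toProd_tpush_can {n : ℕ} (σ : Fin (n + 1) → ι) :
    toProd U' (tpush φ (can U σ)) = nm φ σ := rfl

/-- pullback of cochains along a morphism of families -/
noncomputable def pull (n : ℕ) (x : (CK U' P).X n) : (CK U P).X n :=
  mk U P fun σ => P.map (nm φ σ).op (proj U' P n σ x)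

lemma proj_pull (n : ℕ) (σ : Fin (n + 1) → ι) (x : (CK U' P).X n) :
    proj U P n σ (pull P φ n x) = P.map (nm φ σ).op (proj U' P n σ x) := by
  unfold pull
  rw [proj_mk]

lemma proj_pull' (n : ℕ) (σ : Fin (n + 1) → ι) (x : (CK U' P).X n) :
    proj U P n σ (pull P φ n x) = ev U' P x (tpush φ (can U σ)) :=
  proj_pull P φ n σ x

lemma ev_pull {n : ℕ} (x : (CK U' P).X n) {V : C} (t : T U n V) :
    ev U P (pull P φ n x) t = ev U' P x (tpush φ t) := by
  have h1 : ev U P (pull P φ n x) t =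
      P.map (toProd U t).op (ev U' P x (tpush φ (can U (idx U t)))) := by
    unfold ev
    rw [proj_pull]
    rfl
  rw [h1, ← ev_pre, pre_tpush, pre_can]

lemma pull_d (n : ℕ) (x : (CK U' P).X n) :
    (CK U P).d n (n + 1) (pull P φ n x) = pull P φ (n + 1) ((CK U' P).d n (n + 1) x) := by
  apply ext_proj
  intro σ
  rw [proj_pull', ev_d, ← ev_can, ev_d]
  refine Finset.sum_congr rfl fun k _ => ?_
  rw [ev_pull]
  rfl

lemma pull_zero (n : ℕ) : pull P φ n (0 : (CK U' P).X n) = 0 := by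
  apply ext_proj
  intro σ
  rw [proj_pull, map_zero, map_zero, map_zero]

lemma pull_comp (n : ℕ) (x : (CK U'' P).X n) :
    pull P φ n (pull P ψ n x) = pull P (fun i => φ i ≫ ψ i) n x := by
  apply ext_proj
  intro σ
  rw [proj_pull, proj_pull, proj_pull, ← nm_comp, op_comp, P.map_comp]
  rfl

end pull

section system

variable {I : Type w₁} [Category.{w₂} I] [IsFiltered I] [Finite ι]

/-- Acyclicity passes to the limit of a cofiltered system of families, if sections over the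
members of the nerve are the colimits of the sections over the members of the nerves of the
stages. -/
theorem acyc_of_system (U : ι → C) (Ub : I → ι → C) (φ : ∀ b i, U i ⟶ Ub b i)
    (ψ : ∀ {b b' : I} (_ : b ⟶ b') (i : ι), Ub b' i ⟶ Ub b i)
    (hφ : ∀ {b b' : I} (f : b ⟶ b') (i : ι), φ b' i ≫ ψ f i = φ b i)
    (hψ : ∀ {b b' b'' : I} (f : b ⟶ b') (g : b' ⟶ b'') (i : ι), ψ g i ≫ ψ f i = ψ (f ≫ g) i)
    (n : ℕ)
    (hrep : ∀ (σ : Fin (n + 2) → ι) (t : P.obj (op (Uσ U σ))),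
      ∃ (b : I) (s : P.obj (op (Uσ (Ub b) σ))), P.map (nm (φ b) σ).op s = t)
    (hzero : ∀ (σ : Fin (n + 3) → ι) (b : I) (s : P.obj (op (Uσ (Ub b) σ))),
      P.map (nm (φ b) σ).op s = 0 → ∃ (b' : I) (f : b ⟶ b'), P.map (nm (ψ f) σ).op s = 0)
    (hacyc : ∀ b, Acyc (Ub b) P n) : Acyc U P n := by
  have hφ' : ∀ {b b' : I} (f : b ⟶ b') {m : ℕ} (σ : Fin (m + 1) → ι),
      nm (φ b') σ ≫ nm (ψ f) σ = nm (φ b) σ := by
    intro b b' f m σ
    rw [nm_comp]
    congr 1
    funext i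
    exact hφ f i
  have hψ' : ∀ {b b' b'' : I} (f : b ⟶ b') (g : b' ⟶ b'') {m : ℕ} (σ : Fin (m + 1) → ι),
      nm (ψ g) σ ≫ nm (ψ f) σ = nm (ψ (f ≫ g)) σ := by
    intro b b' b'' f g m σ
    rw [nm_comp]
    congr 1
    funext i
    exact hψ f g i
  intro x hx
  -- represent `x` at a finite stage
  obtain ⟨b, hb⟩ := exists_common_obj (I := I) (Fin (n + 2) → ι)
    (fun σ b => ∃ s : P.obj (op (Uσ (Ub b) σ)), P.map (nm (φ b) σ).op s = proj U P (n + 1) σ x)
    (fun σ b b' f hb => by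
      obtain ⟨s, hs⟩ := hb
      refine ⟨P.map (nm (ψ f) σ).op s, ?_⟩
      rw [← hs, ← ConcreteCategory.comp_apply, ← P.map_comp, ← op_comp, hφ' f σ])
    (fun σ => hrep σ _)
  choose s hs using hb
  let xb : (CK (Ub b) P).X (n + 1) := mk (Ub b) P s
  have hxb : pull P (φ b) (n + 1) xb = x := by
    apply ext_proj
    intro σ
    rw [proj_pull, proj_mk]
    exact hs σ
  -- its coboundary dies at a later stage
  have hd : pull P (φ b) (n + 2) ((CK (Ub b) P).d (n + 1) (n + 2) xb) = 0 := by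
    rw [← pull_d, hxb, hx]
  obtain ⟨b', f, hf⟩ := exists_common (I := I) b (Fin (n + 3) → ι)
    (fun σ b' f => P.map (nm (ψ f) σ).op
      (proj (Ub b) P (n + 2) σ ((CK (Ub b) P).d (n + 1) (n + 2) xb)) = 0)
    (fun σ b' f b'' g h => by
      rw [← hψ' f g σ, op_comp, P.map_comp, ConcreteCategory.comp_apply, h, map_zero])
    (fun σ => by
      apply hzero σ b
      rw [← proj_pull, hd, map_zero])
  have hcoc : (CK (Ub b') P).d (n + 1) (n + 2) (pull P (ψ f) (n + 1) xb) = 0 := by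
    rw [pull_d]
    apply ext_proj
    intro σ
    rw [proj_pull, map_zero]
    exact hf σ
  obtain ⟨y, hy⟩ := hacyc b' _ hcoc
  refine ⟨pull P (φ b') n y, ?_⟩
  rw [pull_d, hy, pull_comp]
  have : (fun i => φ b' i ≫ ψ f i) = φ b := by
    funext i
    exact hφ f i
  rw [this, hxb]

/-- Acyclicity passes to a "colimit" of presheaves, if sections over the members of the nerve are
the colimits of the sections of the stages. -/
theorem acyc_of_presheaf_system (U : ι → C) (Pb : I → (Cᵒᵖ ⥤ AddCommGrpCat.{u}))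
    (lam : ∀ b, Pb b ⟶ P) (tau : ∀ {b b' : I} (_ : b ⟶ b'), Pb b ⟶ Pb b')
    (hlam : ∀ {b b' : I} (f : b ⟶ b'), tau f ≫ lam b' = lam b)
    (htau : ∀ {b b' b'' : I} (f : b ⟶ b') (g : b' ⟶ b''), tau f ≫ tau g = tau (f ≫ g))
    (n : ℕ)
    (hrep : ∀ (σ : Fin (n + 2) → ι) (t : P.obj (op (Uσ U σ))),
      ∃ (b : I) (s : (Pb b).obj (op (Uσ U σ))), (lam b).app _ s = t)
    (hzero : ∀ (σ : Fin (n + 3) → ι) (b : I) (s : (Pb b).obj (op (Uσ U σ))),
      (lam b).app _ s = 0 → ∃ (b' : I) (f : b ⟶ b'), (tau f).app _ s = 0)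
    (hacyc : ∀ b, Acyc U (Pb b) n) : Acyc U P n := by
  intro x hx
  obtain ⟨b, hb⟩ := exists_common_obj (I := I) (Fin (n + 2) → ι)
    (fun σ b => ∃ s : (Pb b).obj (op (Uσ U σ)), (lam b).app _ s = proj U P (n + 1) σ x)
    (fun σ b b' f hb => by
      obtain ⟨s, hs⟩ := hb
      refine ⟨(tau f).app _ s, ?_⟩
      rw [← hs, ← hlam f]
      rfl)
    (fun σ => hrep σ _)
  choose s hs using hb
  let xb : (CK U (Pb b)).X (n + 1) := mk U (Pb b) s
  have hxb : cmap U (lam b) (n + 1) xb = x := by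
    apply ext_proj
    intro σ
    rw [proj_map, proj_mk]
    exact hs σ
  have hd : cmap U (lam b) (n + 2) ((CK U (Pb b)).d (n + 1) (n + 2) xb) = 0 := by
    rw [map_d, hxb, hx]
  obtain ⟨b', f, hf⟩ := exists_common (I := I) b (Fin (n + 3) → ι)
    (fun σ b' f => (tau f).app _
      (proj U (Pb b) (n + 2) σ ((CK U (Pb b)).d (n + 1) (n + 2) xb)) = 0)
    (fun σ b' f b'' g h => by
      rw [← htau f g]
      change (tau g).app _ ((tau f).app _ _) = 0
      rw [h, map_zero])
    (fun σ => by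
      apply hzero σ b
      rw [← proj_map, hd, map_zero])
  have hcoc : (CK U (Pb b')).d (n + 1) (n + 2) (cmap U (tau f) (n + 1) xb) = 0 := by
    rw [← map_d]
    apply ext_proj
    intro σ
    rw [proj_map, map_zero]
    exact hf σ
  obtain ⟨y, hy⟩ := hacyc b' _ hcoc
  refine ⟨cmap U (lam b') n y, ?_⟩
  rw [← map_d, hy]
  apply ext_proj
  intro σ
  rw [proj_map, proj_map, ← hxb, proj_map, ← hlam f]
  rfl

end system

section iso

/-- acyclicity is invariant under isomorphism of complexes -/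
theorem acyc_of_iso {C' : Type*} [Category C'] [HasFiniteProducts C'] {ι' : Type u}
    (U : ι → C) (U' : ι' → C') (P' : C'ᵒᵖ ⥤ AddCommGrpCat.{u})
    (e : CK U P ≅ CK U' P') (n : ℕ) (h : Acyc U' P' n) : Acyc U P n := by
  rw [← isZero_homology_succ_iff_acyc] at h ⊢
  exact IsZero.of_iso h ((HomologicalComplex.homologyFunctor _ _ (n + 1)).mapIso e)

/-- acyclicity is invariant under isomorphism of families -/
theorem acyc_of_family_iso (U U' : ι → C) (e : ∀ i, U i ≅ U' i) (n : ℕ) (h : Acyc U' P n) :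
    Acyc U P n := by
  intro x hx
  have h1 : ∀ (m : ℕ) (z : (CK U P).X m),
      pull P (fun i => (e i).hom) m (pull P (fun i => (e i).inv) m z) = z := by
    intro m z
    rw [pull_comp]
    apply ext_proj
    intro σ
    rw [proj_pull]
    have : nm (fun i => (e i).hom ≫ (e i).inv) σ = 𝟙 (Uσ U σ) := by
      refine Pi.hom_ext (f := U ∘ σ) _ _ (fun j => ?_)
      rw [nm_π, Iso.hom_inv_id]
      exact (Category.comp_id _).trans (Category.id_comp _).symm
    rw [this, op_id, P.map_id]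
    rfl
  have hx' : (CK U' P).d (n + 1) (n + 2) (pull P (fun i => (e i).inv) (n + 1) x) = 0 := by
    rw [pull_d, hx, pull_zero]
  obtain ⟨y, hy⟩ := h _ hx'
  refine ⟨pull P (fun i => (e i).hom) n y, ?_⟩
  rw [pull_d, hy, h1]

end iso

end Groth.Agent.Lib.Helper4.PEC
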