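import Mathlib
import Groth.Agent.Lib.Helper4.UnivInj

/-!
# Basic permanence of weakly étale algebras: localizations and binary products
-/

set_option autoImplicit false
set_option linter.style.haveILetI false
set_option linter.unusedSectionVars false
universe u

namespace Groth.Agent.Lib.Helper4.WEtBasic

open TensorProduct

theorem lmul'_bijective_of_isLocalization {A B : Type*} [CommRing A] [CommRing B] [Algebra A B]
    (S : Submonoid A) [IsLocalization S B] :
    Function.Bijective (Algebra.TensorProduct.lmul' A (S := B)) := by
  have hloc : IsLocalization (Algebra.algebraMapSubmonoid B S) (B ⊗[A] B) :=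
    IsLocalization.tensor B S
  have hunits : Algebra.algebraMapSubmonoid B S ≤ IsUnit.submonoid B := by
    rintro _ ⟨s, hs, rfl⟩
    exact IsLocalization.map_units B ⟨s, hs⟩
  have hbij : Function.Bijective (algebraMap B (B ⊗[A] B)) :=
    (IsLocalization.atUnits B _ hunits).bijective
  have hcomp : (Algebra.TensorProduct.lmul' A (S := B)) ∘ (algebraMap B (B ⊗[A] B)) = id := by
    funext b
    simp [Algebra.TensorProduct.algebraMap_apply]
  have h2 : Function.Bijective
      ((Algebra.TensorProduct.lmul' A (S := B)) ∘ (algebraMap B (B ⊗[A] B))) := by
    rw [hcomp]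
    exact Function.bijective_id
  exact (Function.Bijective.of_comp_iff _ hbij).mp h2

theorem weaklyEtale_of_isLocalization {A B : Type*} [CommRing A] [CommRing B] [Algebra A B]
    (S : Submonoid A) [IsLocalization S B] : Algebra.WeaklyEtale A B where
  flat := IsLocalization.flat B S
  flat_lmul' := RingHom.Flat.of_bijective (lmul'_bijective_of_isLocalization S)

theorem flat_of_fst_snd {U S T : Type u} [CommRing U] [CommRing S] [CommRing T] (φ : U →+* S × T)
    (h1 : ((RingHom.fst S T).comp φ).Flat) (h2 : ((RingHom.snd S T).comp φ).Flat) : φ.Flat := by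
  refine RingHom.Flat.ofLocalizationSpanTarget φ ({(1, 0), (0, 1)} : Set (S × T)) ?_ ?_
  · rw [Ideal.eq_top_iff_one]
    have : (1 : S × T) = (1, 0) + (0, 1) := by ext <;> simp
    rw [this]
    exact Ideal.add_mem _ (Ideal.subset_span (by simp)) (Ideal.subset_span (by simp))
  · rintro ⟨r, hr⟩
    rcases hr with rfl | hr
    · letI := (RingHom.fst S T).toAlgebra
      let e : Localization.Away ((1, 0) : S × T) ≃ₐ[S × T] S :=
        IsLocalization.algEquiv (Submonoid.powers ((1, 0) : S × T)) _ _
      have : (algebraMap (S × T) (Localization.Away ((1, 0) : S × T))) =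
          (e.symm : S →+* Localization.Away ((1, 0) : S × T)).comp (RingHom.fst S T) := by
        ext x
        exact (e.symm.commutes x).symm
      change RingHom.Flat ((algebraMap (S × T) (Localization.Away ((1, 0) : S × T))).comp φ)
      rw [this, RingHom.comp_assoc]
      exact RingHom.Flat.comp h1 (.of_bijective e.symm.bijective)
    · have hr' : r = (0, 1) := hr
      subst hr'
      letI := (RingHom.snd S T).toAlgebra
      let e : Localization.Away ((0, 1) : S × T) ≃ₐ[S × T] T :=
        IsLocalization.algEquiv (Submonoid.powers ((0, 1) : S × T)) _ _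
      have : (algebraMap (S × T) (Localization.Away ((0, 1) : S × T))) =
          (e.symm : T →+* Localization.Away ((0, 1) : S × T)).comp (RingHom.snd S T) := by
        ext x
        exact (e.symm.commutes x).symm
      change RingHom.Flat ((algebraMap (S × T) (Localization.Away ((0, 1) : S × T))).comp φ)
      rw [this, RingHom.comp_assoc]
      exact RingHom.Flat.comp h2 (.of_bijective e.symm.bijective)

theorem flat_fst (S T : Type*) [CommRing S] [CommRing T] : (RingHom.fst S T).Flat := by
  letI := (RingHom.fst S T).toAlgebra
  have : IsLocalization.Away ((1, 0) : S × T) S := IsLocalization.away_fst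
  exact IsLocalization.flat S (Submonoid.powers ((1, 0) : S × T))

theorem flat_snd (S T : Type*) [CommRing S] [CommRing T] : (RingHom.snd S T).Flat := by
  letI := (RingHom.snd S T).toAlgebra
  have : IsLocalization.Away ((0, 1) : S × T) T := IsLocalization.away_snd
  exact IsLocalization.flat T (Submonoid.powers ((0, 1) : S × T))

theorem weaklyEtale_prod (R S T : Type u) [CommRing R] [CommRing S] [CommRing T] [Algebra R S]
    [Algebra R T] [Algebra.WeaklyEtale R S] [Algebra.WeaklyEtale R T] :
    Algebra.WeaklyEtale R (S × T) where
  flat := Groth.Agent.Lib.Helper4.flat_prod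
  flat_lmul' := by
    apply flat_of_fst_snd
    · have : (RingHom.fst S T).comp (Algebra.TensorProduct.lmul' R (S := S × T)).toRingHom =
          (Algebra.TensorProduct.lmul' R (S := S)).toRingHom.comp
            (Algebra.TensorProduct.map (AlgHom.fst R S T) (AlgHom.fst R S T)).toRingHom := by
        have h : ((AlgHom.fst R S T).comp (Algebra.TensorProduct.lmul' R (S := S × T))) =
            (Algebra.TensorProduct.lmul' R (S := S)).comp
              (Algebra.TensorProduct.map (AlgHom.fst R S T) (AlgHom.fst R S T)) := by
          ext <;> simp
        exact congrArg AlgHom.toRingHom h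
      rw [this]
      exact RingHom.Flat.comp (RingHom.Flat.tensorProductMap (flat_fst S T) (flat_fst S T))
        (Algebra.WeaklyEtale.flat_lmul' R S)
    · have : (RingHom.snd S T).comp (Algebra.TensorProduct.lmul' R (S := S × T)).toRingHom =
          (Algebra.TensorProduct.lmul' R (S := T)).toRingHom.comp
            (Algebra.TensorProduct.map (AlgHom.snd R S T) (AlgHom.snd R S T)).toRingHom := by
        have h : ((AlgHom.snd R S T).comp (Algebra.TensorProduct.lmul' R (S := S × T))) =
            (Algebra.TensorProduct.lmul' R (S := T)).comp
              (Algebra.TensorProduct.map (AlgHom.snd R S T) (AlgHom.snd R S T)) := by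
          ext <;> simp
        exact congrArg AlgHom.toRingHom h
      rw [this]
      exact RingHom.Flat.comp (RingHom.Flat.tensorProductMap (flat_snd S T) (flat_snd S T))
        (Algebra.WeaklyEtale.flat_lmul' R T)

end Groth.Agent.Lib.Helper4.WEtBasic
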