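import Mathlib
import Groth.Prelude.Def_ProEtW

/-!
# Maps identifying local rings: composition, cancellation, localizations
-/

set_option autoImplicit false
set_option linter.style.haveILetI false
set_option linter.unusedSectionVars false
universe u

namespace Groth.Agent.Lib.Helper4.IdLoc

open Function

theorem bijective_localRingHom_congr {A C : Type*} [CommRing A] [CommRing C] (f g : A →+* C)
    (hfg : f = g) (r : Ideal C) [r.IsPrime] (I : Ideal A) [I.IsPrime] (hI : I = r.comap f)
    (h : Bijective (Localization.localRingHom I r f hI)) :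
    Bijective (Localization.localRingHom (r.comap g) r g rfl) := by
  subst hfg
  subst hI
  exact h

theorem bijective_localRingHom_congr' {A C : Type*} [CommRing A] [CommRing C] (f g : A →+* C)
    (hfg : f = g) (r : Ideal C) [r.IsPrime] (I : Ideal A) [I.IsPrime] (hI : I = r.comap f)
    (h : Bijective (Localization.localRingHom (r.comap g) r g rfl)) :
    Bijective (Localization.localRingHom I r f hI) := by
  subst hfg
  subst hI
  exact h

section comp

variable (A B C : Type u) [CommRing A] [CommRing B] [CommRing C]
variable [Algebra A B] [Algebra B C] [Algebra A C] [IsScalarTower A B C]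

theorem localRingHom_comp_aux (r : PrimeSpectrum C) :
    Localization.localRingHom
      ((r.asIdeal.comap (algebraMap B C)).comap (algebraMap A B)) r.asIdeal
      ((algebraMap B C).comp (algebraMap A B)) rfl =
    (Localization.localRingHom (r.asIdeal.comap (algebraMap B C)) r.asIdeal
      (algebraMap B C) rfl).comp
    (Localization.localRingHom ((r.asIdeal.comap (algebraMap B C)).comap (algebraMap A B))
      (r.asIdeal.comap (algebraMap B C)) (algebraMap A B) rfl) :=
  Localization.localRingHom_comp _ _ _ _ rfl _ rfl

theorem comp (h1 : EtPBC.IdentifiesLocalRings A B) (h2 : EtPBC.IdentifiesLocalRings B C) :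
    EtPBC.IdentifiesLocalRings A C := by
  intro r
  have b1 := h1 (PrimeSpectrum.comap (algebraMap B C) r)
  have b2 := h2 r
  have hc := localRingHom_comp_aux A B C r
  have b3 : Bijective (Localization.localRingHom
      ((r.asIdeal.comap (algebraMap B C)).comap (algebraMap A B)) r.asIdeal
      ((algebraMap B C).comp (algebraMap A B)) rfl) := by
    rw [hc]
    exact b2.comp b1
  exact bijective_localRingHom_congr _ _ (IsScalarTower.algebraMap_eq A B C).symm r.asIdeal _ rfl b3

/-- cancellation: if `A → C` and `B → C` identify local rings at `r`, so does `A → B` at `r ∩ B` -/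
theorem cancel_at (r : PrimeSpectrum C)
    (h1 : Bijective (Localization.localRingHom (r.asIdeal.comap (algebraMap A C)) r.asIdeal
      (algebraMap A C) rfl))
    (h2 : Bijective (Localization.localRingHom (r.asIdeal.comap (algebraMap B C)) r.asIdeal
      (algebraMap B C) rfl)) :
    Bijective (Localization.localRingHom
      ((r.asIdeal.comap (algebraMap B C)).comap (algebraMap A B))
      (r.asIdeal.comap (algebraMap B C)) (algebraMap A B) rfl) := by
  have hc := localRingHom_comp_aux A B C r
  have b3 : Bijective (Localization.localRingHom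
      ((r.asIdeal.comap (algebraMap B C)).comap (algebraMap A B)) r.asIdeal
      ((algebraMap B C).comp (algebraMap A B)) rfl) :=
    bijective_localRingHom_congr' _ _ (IsScalarTower.algebraMap_eq A B C).symm r.asIdeal _ rfl h1
  rw [hc] at b3
  have b4 : Bijective ((Localization.localRingHom (r.asIdeal.comap (algebraMap B C)) r.asIdeal
      (algebraMap B C) rfl) ∘
    (Localization.localRingHom ((r.asIdeal.comap (algebraMap B C)).comap (algebraMap A B))
      (r.asIdeal.comap (algebraMap B C)) (algebraMap A B) rfl)) := b3
  constructor
  · exact Injective.of_comp b4.1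
  · intro y
    obtain ⟨x, hx⟩ := b4.2 (Localization.localRingHom (r.asIdeal.comap (algebraMap B C)) r.asIdeal
      (algebraMap B C) rfl y)
    exact ⟨x, h2.1 hx⟩

end comp

section loc

variable {R S : Type u} [CommRing R] [CommRing S] [Algebra R S] (M : Submonoid R)
  [IsLocalization M S]

include M in
/-- a localization identifies local rings -/
theorem of_isLocalization : EtPBC.IdentifiesLocalRings R S := by
  intro q
  have hunit : ∀ m : M, algebraMap R S m ∉ q.asIdeal := fun m h =>
    q.2.ne_top (Ideal.eq_top_of_isUnit_mem _ h (IsLocalization.map_units S m))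
  have hMp : ∀ m : M, (m : R) ∉ q.asIdeal.comap (algebraMap R S) := fun m h => hunit m h
  constructor
  · rw [injective_iff_map_eq_zero]
    intro x hx
    obtain ⟨a, s, rfl⟩ := IsLocalization.exists_mk'_eq (q.asIdeal.comap (algebraMap R S)).primeCompl x
    rw [Localization.localRingHom_mk', IsLocalization.mk'_eq_zero_iff] at hx
    obtain ⟨⟨z, hz⟩, hza⟩ := hx
    obtain ⟨⟨b, m'⟩, hb⟩ := IsLocalization.surj M z
    have hb' : z * algebraMap R S m' = algebraMap R S b := hb
    have hbq : b ∉ q.asIdeal.comap (algebraMap R S) := by
      intro h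
      have h1 : algebraMap R S b ∈ q.asIdeal := h
      rw [← hb'] at h1
      rcases q.2.mem_or_mem h1 with h2 | h2
      · exact hz h2
      · exact hunit m' h2
    have h0 : algebraMap R S (b * a) = 0 := by
      rw [map_mul, ← hb']
      have hza' : z * algebraMap R S a = 0 := hza
      calc z * algebraMap R S m' * algebraMap R S a
          = algebraMap R S m' * (z * algebraMap R S a) := by ring
        _ = 0 := by rw [hza', mul_zero]
    obtain ⟨m'', hm''⟩ := (IsLocalization.map_eq_zero_iff M S _).mp h0
    rw [IsLocalization.mk'_eq_zero_iff]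
    refine ⟨⟨m'' * b, ?_⟩, ?_⟩
    · exact (q.asIdeal.comap (algebraMap R S)).primeCompl.mul_mem (hMp m'') hbq
    · change m'' * b * a = 0
      rw [mul_assoc]
      exact hm''
  · intro x
    obtain ⟨y, ⟨z, hz⟩, rfl⟩ := IsLocalization.exists_mk'_eq q.asIdeal.primeCompl x
    obtain ⟨⟨a, m⟩, ha⟩ := IsLocalization.surj M y
    obtain ⟨⟨b, m'⟩, hb⟩ := IsLocalization.surj M z
    have ha' : y * algebraMap R S m = algebraMap R S a := ha
    have hb' : z * algebraMap R S m' = algebraMap R S b := hb
    have hbq : b ∉ q.asIdeal.comap (algebraMap R S) := by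
      intro h
      have h1 : algebraMap R S b ∈ q.asIdeal := h
      rw [← hb'] at h1
      rcases q.2.mem_or_mem h1 with h2 | h2
      · exact hz h2
      · exact hunit m' h2
    have hbm : b * m ∈ (q.asIdeal.comap (algebraMap R S)).primeCompl :=
      (q.asIdeal.comap (algebraMap R S)).primeCompl.mul_mem hbq (hMp m)
    refine ⟨IsLocalization.mk' _ (a * m') ⟨b * m, hbm⟩, ?_⟩
    rw [Localization.localRingHom_mk', IsLocalization.mk'_eq_iff_eq]
    congr 1
    change z * algebraMap R S (a * m') = algebraMap R S (b * m) * y
    rw [map_mul, map_mul, ← ha', ← hb']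
    ring

end loc

end Groth.Agent.Lib.Helper4.IdLoc
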