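import Mathlib
import Groth.Agent.Lib.Helper4.FinAcc1

/-!
# `Under (CommRingCat.of R)` is finitely accessible; a factorization criterion for `ind P`
-/

set_option autoImplicit false
set_option linter.style.haveILetI false
set_option linter.unusedSectionVars false
universe u

namespace Groth.Agent.Lib.Helper4.FinAcc

open CategoryTheory CategoryTheory.Limits
open Groth.Agent.Lib.Helper4.IndEt

attribute [local instance] Cardinal.fact_isRegular_aleph0

variable (R : Type u) [CommRing R]

theorem essentiallySmall_pfp : ObjectProperty.EssentiallySmall.{u} (Pfp R) where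
  exists_small_le' := by
    let Xf : (Σ n : ℕ, Finset (MvPolynomial (Fin n) R)) → Under (CommRingCat.of R) :=
      fun i => mkU R (MvPolynomial (Fin i.1) R ⧸ Ideal.span (i.2 : Set (MvPolynomial (Fin i.1) R)))
    refine ⟨ObjectProperty.ofObj Xf, inferInstance, ?_⟩
    intro X hX
    letI := X.hom.hom.toAlgebra
    have hfp : Algebra.FinitePresentation R X.right := hX
    obtain ⟨n, f, hf, s, hs⟩ := Algebra.FinitePresentation.out (R := R) (A := X.right)
    refine ⟨Xf ⟨n, s⟩, ObjectProperty.ofObj_apply Xf ⟨n, s⟩, ⟨?_⟩⟩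
    let e : (MvPolynomial (Fin n) R ⧸ Ideal.span (s : Set (MvPolynomial (Fin n) R))) ≃ₐ[R]
        X.right :=
      (Ideal.quotientEquivAlgOfEq R hs).trans (Ideal.quotientKerAlgEquivOfSurjective hf)
    refine (Under.isoMk e.toRingEquiv.toCommRingCatIso ?_).symm
    ext a
    exact e.commutes a

theorem isCardinalFilteredGenerator_pfp :
    (Pfp R).IsCardinalFilteredGenerator Cardinal.aleph0.{u} where
  le_isCardinalPresentable := pfp_le_isFinitelyPresentable R
  exists_colimitsOfShape X := by
    obtain ⟨J, hJ1, hJ2, pres, hp⟩ := ind_pfp (R := R) X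
    exact ⟨J, hJ1, (isCardinalFiltered_aleph0_iff J).mpr hJ2, ⟨⟨pres, hp⟩⟩⟩

instance : IsFinitelyAccessibleCategory.{u} (Under (CommRingCat.of R)) where
  toHasCardinalFilteredGenerator :=
    haveI := essentiallySmall_pfp R
    (isCardinalFilteredGenerator_pfp R).hasCardinalFilteredGenerator

/-- **Factorization criterion.** Let `P ≤ f.p.` be a property of `R`-algebras. If every `R`-algebra
map from a finitely presented `R`-algebra to `B` factors through a `P`-algebra, then `B` is a
filtered colimit of `P`-algebras. -/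
theorem ind_of_factor (P : ObjectProperty (Under (CommRingCat.of R)))
    (hP : P ≤ ObjectProperty.isFinitelyPresentable.{u} (Under (CommRingCat.of R)))
    (B : Type u) [CommRing B] [Algebra R B]
    (h : ∀ (Z : Type u) [CommRing Z] [Algebra R Z] [Algebra.FinitePresentation R Z]
      (g : Z →ₐ[R] B), ∃ (W : Type u) (_ : CommRing W) (_ : Algebra R W) (u : Z →ₐ[R] W)
      (v : W →ₐ[R] B), v.comp u = g ∧ P (mkU R W)) :
    ObjectProperty.ind.{u} P (mkU R B) := by
  rw [ObjectProperty.ind_iff_exists hP]
  intro Z g hZ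
  -- `Z` is a retract of a finitely presented algebra
  have hZ' : ObjectProperty.isFinitelyPresentable.{u} (Under (CommRingCat.of R)) Z := hZ
  rw [ObjectProperty.isFinitelyPresentable_eq_isCardinalPresentable,
    (isCardinalFilteredGenerator_pfp R).isPresentable_eq_retractClosure] at hZ'
  obtain ⟨Z', hZ'fp, ⟨r⟩⟩ := hZ'
  -- `r : Retract Z Z'`
  letI := Z'.hom.hom.toAlgebra
  have hfp : Algebra.FinitePresentation R Z'.right := hZ'fp
  let g' : Z'.right →ₐ[R] B :=
    { toRingHom := (r.r ≫ g).right.hom
      commutes' := fun a => by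
        have := congrArg (fun φ => φ.hom a) (Under.w (r.r ≫ g))
        exact this }
  obtain ⟨W, _, _, u, v, huv, hW⟩ := h Z'.right g'
  let uU : Z' ⟶ mkU R W := Under.homMk (CommRingCat.ofHom u.toRingHom) (by
    ext a
    exact u.commutes a)
  let vU : mkU R W ⟶ mkU R B := Under.homMk (CommRingCat.ofHom v.toRingHom) (by
    ext a
    exact v.commutes a)
  refine ⟨mkU R W, r.i ≫ uU, vU, ?_, hW⟩
  have h1 : uU ≫ vU = r.r ≫ g := by
    ext x
    exact congrArg (fun φ : Z'.right →ₐ[R] B => φ x) huv
  rw [Category.assoc, h1, ← Category.assoc, r.retract, Category.id_comp]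

end Groth.Agent.Lib.Helper4.FinAcc
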