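import Mathlib
import Groth.Prelude.Def_PBC
import Groth.Agent.Lib.Helper4.FinAcc2

/-!
# Ind-Zariski algebras: basics and the factorization criterion
-/

set_option autoImplicit false
set_option linter.style.haveILetI false
set_option linter.unusedSectionVars false
universe u

namespace Groth.Agent.Lib.Helper4.IndZar

open CategoryTheory CategoryTheory.Limits
open Groth.Agent.Lib.Helper4.IndEt Groth.Agent.Lib.Helper4.FinAcc

theorem finitePresentation_of_isLocalIso (R S : Type u) [CommRing R] [CommRing S] [Algebra R S]
    [Algebra.IsLocalIso R S] : Algebra.FinitePresentation R S := by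
  rw [← RingHom.finitePresentation_algebraMap]
  refine RingHom.finitePresentation_ofLocalizationSpanTarget (algebraMap R S)
    {g : S | Algebra.IsStandardOpenImmersion R (Localization.Away g)}
    (Algebra.IsLocalIso.span_isStandardOpenImmersion_eq_top R S) ?_
  rintro ⟨g, hg⟩
  have hg' : Algebra.IsStandardOpenImmersion R (Localization.Away g) := hg
  obtain ⟨r, hr⟩ := Algebra.IsStandardOpenImmersion.exists_away R (Localization.Away g)
  have h1 : Algebra.FinitePresentation R (Localization.Away g) :=
    IsLocalization.Away.finitePresentation r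
  have h2 : (algebraMap S (Localization.Away g)).comp (algebraMap R S) =
      algebraMap R (Localization.Away g) := by
    ext x
    exact (IsScalarTower.algebraMap_apply R S (Localization.Away g) x).symm
  change ((algebraMap S (Localization.Away g)).comp (algebraMap R S)).FinitePresentation
  rw [h2, RingHom.finitePresentation_algebraMap]
  exact h1

variable (R : Type u) [CommRing R]

/-- The object property "local isomorphism over `R`" on `Under (CommRingCat.of R)`. -/
def Pli : ObjectProperty (Under (CommRingCat.of R)) := fun X =>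
  let _ := X.hom.hom.toAlgebra; Algebra.IsLocalIso R X.right

theorem pli_mkU (B : Type u) [CommRing B] [Algebra R B] [Algebra.IsLocalIso R B] :
    Pli R (mkU R B) := by
  change @Algebra.IsLocalIso R B _ _ (RingHom.toAlgebra (algebraMap R B))
  have : RingHom.toAlgebra (algebraMap R B) = (inferInstance : Algebra R B) :=
    Algebra.algebra_ext _ _ (fun _ => rfl)
  rw [this]
  infer_instance

theorem pli_le_isFinitelyPresentable :
    Pli R ≤ ObjectProperty.isFinitelyPresentable.{u} (Under (CommRingCat.of R)) := by
  intro X hX
  apply CommRingCat.isFinitelyPresentable_under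
  letI := X.hom.hom.toAlgebra
  have h1 : Algebra.IsLocalIso R X.right := hX
  have h2 : Algebra.FinitePresentation R X.right := finitePresentation_of_isLocalIso R X.right
  exact h2

theorem isIndZariski_of_ind (B : Type u) [CommRing B] [Algebra R B]
    (h : ObjectProperty.ind.{u} (Pli R) (mkU R B)) : EtPBC.IsIndZariski R B := by
  obtain ⟨J, hJ1, hJ2, pres, hp⟩ := h
  exact ⟨J, hJ1, hJ2, pres.diag, ⟨_, pres.ι⟩, pres.isColimit, hp, ⟨Iso.refl _⟩⟩

theorem ind_of_isIndZariski (B : Type u) [CommRing B] [Algebra R B]
    (h : EtPBC.IsIndZariski R B) : ObjectProperty.ind.{u} (Pli R) (mkU R B) := by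
  obtain ⟨J, hJ1, hJ2, D, c, hc, hD, ⟨e⟩⟩ := h
  exact ⟨J, hJ1, hJ2, (ColimitPresentation.mk D c.ι hc).ofIso e, hD⟩

/-- **Factorization criterion for ind-Zariski algebras.** -/
theorem isIndZariski_of_factor (B : Type u) [CommRing B] [Algebra R B]
    (h : ∀ (Z : Type u) [CommRing Z] [Algebra R Z] [Algebra.FinitePresentation R Z]
      (g : Z →ₐ[R] B), ∃ (W : Type u) (_ : CommRing W) (_ : Algebra R W) (u : Z →ₐ[R] W)
      (v : W →ₐ[R] B), v.comp u = g ∧ Algebra.IsLocalIso R W) :
    EtPBC.IsIndZariski R B := by
  apply isIndZariski_of_ind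
  apply ind_of_factor R (Pli R) (pli_le_isFinitelyPresentable R) B
  intro Z _ _ _ g
  obtain ⟨W, _, _, u, v, huv, hW⟩ := h Z g
  exact ⟨W, inferInstance, inferInstance, u, v, huv, pli_mkU R W⟩

/-- converse: maps from f.p. algebras into an ind-Zariski algebra factor through local isos -/
theorem exists_factor_of_isIndZariski (B : Type u) [CommRing B] [Algebra R B]
    (hB : EtPBC.IsIndZariski R B)
    (Z : Type u) [CommRing Z] [Algebra R Z] [Algebra.FinitePresentation R Z] (g : Z →ₐ[R] B) :
    ∃ (W : Type u) (_ : CommRing W) (_ : Algebra R W) (u : Z →ₐ[R] W)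
      (v : W →ₐ[R] B), v.comp u = g ∧ Algebra.IsLocalIso R W := by
  have h1 := ind_of_isIndZariski R B hB
  rw [ObjectProperty.ind_iff_exists (pli_le_isFinitelyPresentable R)] at h1
  let gU : mkU R Z ⟶ mkU R B := Under.homMk (CommRingCat.ofHom g.toRingHom) (by
    ext a
    exact g.commutes a)
  have hZ : IsFinitelyPresentable.{u} (mkU R Z) :=
    pfp_le_isFinitelyPresentable R _ (pfp_mkU R Z)
  obtain ⟨W, u, v, huv, hW⟩ := h1 gU
  letI := W.hom.hom.toAlgebra
  have hW' : Algebra.IsLocalIso R W.right := hW
  refine ⟨W.right, inferInstance, inferInstance,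
    { toRingHom := u.right.hom
      commutes' := fun a => by
        have := congrArg (fun φ => φ.hom a) (Under.w u)
        exact this },
    { toRingHom := v.right.hom
      commutes' := fun a => by
        have := congrArg (fun φ => φ.hom a) (Under.w v)
        exact this }, ?_, hW'⟩
  ext x
  have := congrArg (fun φ => φ.right.hom x) huv
  exact this

end Groth.Agent.Lib.Helper4.IndZar
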