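import Mathlib
import Groth.Prelude.Def_ProEtW
import Groth.Agent.Lib.Helper4.IdLoc
import Groth.Agent.Lib.Helper4.IndZar1

/-!
# Local isomorphisms and ind-Zariski maps identify local rings
-/

set_option autoImplicit false
set_option linter.style.haveILetI false
set_option linter.unusedSectionVars false
universe u

namespace Groth.Agent.Lib.Helper4.IdLoc

open Function Polynomial

theorem of_isLocalIso (A W : Type u) [CommRing A] [CommRing W] [Algebra A W]
    [Algebra.IsLocalIso A W] : EtPBC.IdentifiesLocalRings A W := by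
  intro r
  obtain ⟨g, hg, hstd⟩ :=
    Algebra.IsLocalIso.exists_notMem_isStandardOpenImmersion (R := A) r.asIdeal
  obtain ⟨a, ha⟩ := Algebra.IsStandardOpenImmersion.exists_away A (Localization.Away g)
  have h1 : EtPBC.IdentifiesLocalRings A (Localization.Away g) :=
    of_isLocalization (Submonoid.powers a)
  have h2 : EtPBC.IdentifiesLocalRings W (Localization.Away g) :=
    of_isLocalization (Submonoid.powers g)
  have hr : r ∈ Set.range (PrimeSpectrum.comap (algebraMap W (Localization.Away g))) := by
    rw [PrimeSpectrum.localization_comap_range (Localization.Away g) (Submonoid.powers g)]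
    change Disjoint ((Submonoid.powers g : Submonoid W) : Set W) (r.asIdeal : Set W)
    rw [Set.disjoint_left]
    rintro x ⟨n, rfl⟩ hx
    exact hg (r.2.mem_of_pow_mem n hx)
  obtain ⟨r', rfl⟩ := hr
  exact cancel_at A W (Localization.Away g) r' (h1 r') (h2 r')

set_option maxHeartbeats 1000000 in
theorem of_isIndZariski (A B : Type u) [CommRing A] [CommRing B] [Algebra A B]
    (h : EtPBC.IsIndZariski A B) : EtPBC.IdentifiesLocalRings A B := by
  classical
  intro q
  constructor
  · -- injective
    rw [injective_iff_map_eq_zero]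
    intro x hx
    obtain ⟨a, ⟨t, ht⟩, rfl⟩ :=
      IsLocalization.exists_mk'_eq (q.asIdeal.comap (algebraMap A B)).primeCompl x
    rw [Localization.localRingHom_mk', IsLocalization.mk'_eq_zero_iff] at hx
    obtain ⟨⟨γ, hγ⟩, hγa⟩ := hx
    have hγa' : γ * algebraMap A B a = 0 := hγa
    -- the finitely presented algebra `A[X]/(aX)`
    let J : Ideal A[X] := Ideal.span {C a * X}
    have hJ : J.FG := ⟨{C a * X}, by simp [J]⟩
    haveI : Algebra.FinitePresentation A (A[X] ⧸ J) := Algebra.FinitePresentation.quotient hJ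
    let g : (A[X] ⧸ J) →ₐ[A] B := Ideal.Quotient.liftₐ J (Polynomial.aeval γ) (by
      intro z hz
      obtain ⟨c, rfl⟩ := Ideal.mem_span_singleton'.mp hz
      rw [map_mul, map_mul, Polynomial.aeval_C, Polynomial.aeval_X, mul_comm (algebraMap A B a),
        hγa', mul_zero])
    obtain ⟨W, _, _, u, v, huv, hW⟩ := IndZar.exists_factor_of_isIndZariski A B h (A[X] ⧸ J) g
    let w : W := u (Ideal.Quotient.mk J X)
    have hvw : v w = γ := by
      change (v.comp u) (Ideal.Quotient.mk J X) = γ
      rw [huv]
      change Ideal.Quotient.liftₐ J (Polynomial.aeval γ) _ (Ideal.Quotient.mk J X) = γ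
      rw [Ideal.Quotient.liftₐ_apply, Ideal.Quotient.lift_mk]
      exact Polynomial.aeval_X γ
    have haw : w * algebraMap A W a = 0 := by
      have h1 : Ideal.Quotient.mk J (C a * X) = 0 :=
        Ideal.Quotient.eq_zero_iff_mem.mpr (Ideal.mem_span_singleton_self _)
      have h2 : Ideal.Quotient.mk J (C a * X) = a • Ideal.Quotient.mk J X := by
        rw [← Polynomial.smul_eq_C_mul]
        rfl
      have h3 := congrArg u h1
      rw [h2, map_smul, map_zero, Algebra.smul_def] at h3
      rw [mul_comm]
      exact h3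
    let r : PrimeSpectrum W := PrimeSpectrum.comap v.toRingHom q
    have hmem : ∀ m : A, m ∈ r.asIdeal.comap (algebraMap A W) ↔
        m ∈ q.asIdeal.comap (algebraMap A B) := by
      intro m
      change v (algebraMap A W m) ∈ q.asIdeal ↔ algebraMap A B m ∈ q.asIdeal
      rw [AlgHom.commutes]
    have ht' : t ∈ (r.asIdeal.comap (algebraMap A W)).primeCompl := fun h1 => ht ((hmem t).mp h1)
    have hwr : w ∈ r.asIdeal.primeCompl := by
      intro h1
      have h2 : v w ∈ q.asIdeal := h1
      rw [hvw] at h2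
      exact hγ h2
    have hinj := ((of_isLocalIso A W) r).1
    have hzero : Localization.localRingHom (r.asIdeal.comap (algebraMap A W)) r.asIdeal
        (algebraMap A W) rfl (IsLocalization.mk' _ a ⟨t, ht'⟩) = 0 := by
      rw [Localization.localRingHom_mk', IsLocalization.mk'_eq_zero_iff]
      exact ⟨⟨w, hwr⟩, haw⟩
    rw [← map_zero (Localization.localRingHom (r.asIdeal.comap (algebraMap A W)) r.asIdeal
        (algebraMap A W) rfl)] at hzero
    have h0 := hinj hzero
    rw [IsLocalization.mk'_eq_zero_iff] at h0 ⊢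
    obtain ⟨⟨m, hm⟩, hma⟩ := h0
    exact ⟨⟨m, fun h1 => hm ((hmem m).mpr h1)⟩, hma⟩
  · -- surjective
    intro y
    obtain ⟨b, ⟨s, hs⟩, rfl⟩ := IsLocalization.exists_mk'_eq q.asIdeal.primeCompl y
    let g : MvPolynomial (Fin 2) A →ₐ[A] B := MvPolynomial.aeval ![b, s]
    obtain ⟨W, _, _, u, v, huv, hW⟩ :=
      IndZar.exists_factor_of_isIndZariski A B h (MvPolynomial (Fin 2) A) g
    let wb : W := u (MvPolynomial.X 0)
    let ws : W := u (MvPolynomial.X 1)
    have hvb : v wb = b := by
      change (v.comp u) (MvPolynomial.X 0) = b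
      rw [huv]
      change MvPolynomial.aeval ![b, s] (MvPolynomial.X 0) = b
      rw [MvPolynomial.aeval_X]
      rfl
    have hvs : v ws = s := by
      change (v.comp u) (MvPolynomial.X 1) = s
      rw [huv]
      change MvPolynomial.aeval ![b, s] (MvPolynomial.X 1) = s
      rw [MvPolynomial.aeval_X]
      rfl
    let r : PrimeSpectrum W := PrimeSpectrum.comap v.toRingHom q
    have hmem : ∀ m : A, m ∈ r.asIdeal.comap (algebraMap A W) ↔
        m ∈ q.asIdeal.comap (algebraMap A B) := by
      intro m
      change v (algebraMap A W m) ∈ q.asIdeal ↔ algebraMap A B m ∈ q.asIdeal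
      rw [AlgHom.commutes]
    have hwsr : ws ∈ r.asIdeal.primeCompl := by
      intro h1
      have h2 : v ws ∈ q.asIdeal := h1
      rw [hvs] at h2
      exact hs h2
    obtain ⟨x', hx'⟩ := ((of_isLocalIso A W) r).2 (IsLocalization.mk' _ wb ⟨ws, hwsr⟩)
    obtain ⟨a, ⟨t, ht⟩, rfl⟩ :=
      IsLocalization.exists_mk'_eq (r.asIdeal.comap (algebraMap A W)).primeCompl x'
    rw [Localization.localRingHom_mk', IsLocalization.mk'_eq_iff_eq,
      IsLocalization.eq_iff_exists r.asIdeal.primeCompl] at hx'
    obtain ⟨⟨c, hc⟩, hceq⟩ := hx'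
    have hceq' : c * (ws * algebraMap A W a) = c * (algebraMap A W t * wb) := hceq
    have ht' : t ∈ (q.asIdeal.comap (algebraMap A B)).primeCompl :=
      fun h1 => ht ((hmem t).mpr h1)
    refine ⟨IsLocalization.mk' _ a ⟨t, ht'⟩, ?_⟩
    rw [Localization.localRingHom_mk', IsLocalization.mk'_eq_iff_eq,
      IsLocalization.eq_iff_exists q.asIdeal.primeCompl]
    have hvc : v c ∈ q.asIdeal.primeCompl := hc
    refine ⟨⟨v c, hvc⟩, ?_⟩
    change v c * (s * algebraMap A B a) = v c * (algebraMap A B t * b)
    have h3 := congrArg v hceq'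
    rw [map_mul, map_mul, map_mul, map_mul, AlgHom.commutes, AlgHom.commutes, hvs, hvb] at h3
    exact h3

theorem algebraicResidueExtensions (A B : Type u) [CommRing A] [CommRing B] [Algebra A B]
    (h : EtPBC.IdentifiesLocalRings A B) : ProEtW.AlgebraicResidueExtensions A B := by
  intro q hq
  constructor
  intro y
  obtain ⟨b, rfl⟩ := Ideal.Quotient.mk_surjective y
  obtain ⟨x, hx⟩ := (h ⟨q, hq⟩).2 (algebraMap B (Localization.AtPrime q) b)
  obtain ⟨a, ⟨s, hs⟩, rfl⟩ :=
    IsLocalization.exists_mk'_eq (q.comap (algebraMap A B)).primeCompl x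
  rw [Localization.localRingHom_mk', IsLocalization.mk'_eq_iff_eq_mul, ← map_mul,
    IsLocalization.eq_iff_exists q.primeCompl] at hx
  obtain ⟨⟨c, hc⟩, hceq⟩ := hx
  have hceq' : c * algebraMap A B a = c * (b * algebraMap A B s) := hceq
  have hmem : b * algebraMap A B s - algebraMap A B a ∈ q := by
    have h1 : c * (b * algebraMap A B s - algebraMap A B a) = 0 := by
      rw [mul_sub, hceq', sub_self]
    have h2 : c * (b * algebraMap A B s - algebraMap A B a) ∈ q := by
      rw [h1]
      exact q.zero_mem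
    exact (hq.mem_or_mem h2).resolve_left hc
  let sbar : A ⧸ q.comap (algebraMap A B) := Ideal.Quotient.mk _ s
  let abar : A ⧸ q.comap (algebraMap A B) := Ideal.Quotient.mk _ a
  have hsbar : sbar ≠ 0 := by
    intro h1
    exact hs (Ideal.Quotient.eq_zero_iff_mem.mp h1)
  refine ⟨C sbar * X - C abar, ?_, ?_⟩
  · intro h0
    have h1 := congrArg (fun p => Polynomial.coeff p 1) h0
    simp only [Polynomial.coeff_sub, Polynomial.coeff_C_mul, Polynomial.coeff_X_one, mul_one,
      Polynomial.coeff_C_succ, sub_zero, Polynomial.coeff_zero] at h1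
    exact hsbar h1
  · rw [map_sub, map_mul, Polynomial.aeval_C, Polynomial.aeval_C, Polynomial.aeval_X]
    change Ideal.Quotient.mk q (algebraMap A B s) * Ideal.Quotient.mk q b -
      Ideal.Quotient.mk q (algebraMap A B a) = 0
    rw [← map_mul, ← map_sub, Ideal.Quotient.eq_zero_iff_mem, mul_comm]
    exact hmem

theorem flat (A B : Type u) [CommRing A] [CommRing B] [Algebra A B]
    (h : EtPBC.IdentifiesLocalRings A B) : Module.Flat A B := by
  rw [← RingHom.flat_algebraMap_iff]
  apply RingHom.Flat.ofLocalizationPrime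
  intro J hJ
  exact RingHom.Flat.of_bijective (h ⟨J, hJ⟩)

end Groth.Agent.Lib.Helper4.IdLoc
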