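import Mathlib
import Groth.Prelude.Def_PBC
import Groth.Prelude.Def_ProEtW
import Groth.Agent.Lib.Helper4.IndZar1
import Groth.Agent.Lib.Helper10.IndEtale

/-!
# Ind-Zariski ⟹ ind-étale; primes over maximal ideals in ind-étale algebras are maximal
-/

set_option autoImplicit false
set_option linter.style.haveILetI false
set_option linter.unusedSectionVars false
universe u

namespace Groth.Agent.Lib.Helper4.Sq

open CategoryTheory CategoryTheory.Limits

/-- A local isomorphism of rings is étale. -/
theorem etale_of_isLocalIso (R S : Type u) [CommRing R] [CommRing S] [Algebra R S]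
    [Algebra.IsLocalIso R S] : Algebra.Etale R S := by
  rw [← RingHom.etale_algebraMap]
  refine RingHom.Etale.ofLocalizationSpanTarget (algebraMap R S)
    {g : S | Algebra.IsStandardOpenImmersion R (Localization.Away g)}
    (Algebra.IsLocalIso.span_isStandardOpenImmersion_eq_top R S) ?_
  rintro ⟨g, hg⟩
  have hg' : Algebra.IsStandardOpenImmersion R (Localization.Away g) := hg
  obtain ⟨r, hr⟩ := Algebra.IsStandardOpenImmersion.exists_away R (Localization.Away g)
  have h1 : Algebra.Etale R (Localization.Away g) :=
    Algebra.Etale.of_isLocalizationAway r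
  have h2 : (algebraMap S (Localization.Away g)).comp (algebraMap R S) =
      algebraMap R (Localization.Away g) := by
    ext x
    exact (IsScalarTower.algebraMap_apply R S (Localization.Away g) x).symm
  change ((algebraMap S (Localization.Away g)).comp (algebraMap R S)).Etale
  rw [h2, RingHom.etale_algebraMap]
  exact h1

/-- Ind-Zariski algebras are ind-étale. -/
theorem isIndEtale_of_isIndZariski (A B : Type u) [CommRing A] [CommRing B] [Algebra A B]
    (h : EtPBC.IsIndZariski A B) : EtPBC.IsIndEtale A B := by
  obtain ⟨J, hJ1, hJ2, D, c, hc, hD, e⟩ := h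
  refine ⟨J, hJ1, hJ2, D, c, hc, ?_, e⟩
  intro j
  letI := (D.obj j).hom.hom.toAlgebra
  haveI : Algebra.IsLocalIso A (D.obj j).right := hD j
  exact etale_of_isLocalIso A (D.obj j).right

/-- Every element of an ind-étale algebra comes from an étale algebra. -/
theorem exists_etale_rep (R S : Type u) [CommRing R] [CommRing S] [Algebra R S]
    (h : EtPBC.IsIndEtale R S) (x : S) :
    ∃ (E : Type u) (_ : CommRing E) (_ : Algebra R E) (_ : Algebra.Etale R E)
      (g : E →ₐ[R] S) (e : E), g e = x := by
  obtain ⟨J, hJ1, hJ2, D, c, hc, hD, ⟨iso⟩⟩ := h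
  obtain ⟨j, y, hy⟩ := Groth.Agent.Lib.Helper10.IndEtale.under_exists_rep D c hc
    (iso.inv.right.hom x)
  letI := (D.obj j).hom.hom.toAlgebra
  refine ⟨(D.obj j).right, inferInstance, inferInstance, hD j,
    { toRingHom := (c.ι.app j ≫ iso.hom).right.hom
      commutes' := fun a => by
        have := Groth.Agent.Lib.Helper10.IndEtale.under_w_apply (c.ι.app j ≫ iso.hom) a
        exact this }, y, ?_⟩
  change iso.hom.right.hom ((c.ι.app j).right.hom y) = x
  have hy' : (c.ι.app j).right.hom y = iso.inv.right.hom x := hy
  rw [hy']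
  have := congrArg (fun φ => φ.right.hom x) iso.inv_hom_id
  exact this

/-- In an ind-étale algebra, primes lying over maximal ideals are maximal. -/
theorem isMaximal_of_isIndEtale (R S : Type u) [CommRing R] [CommRing S] [Algebra R S]
    (h : EtPBC.IsIndEtale R S) (Q : Ideal S) [hQ : Q.IsPrime]
    (hmax : (Q.comap (algebraMap R S)).IsMaximal) : Q.IsMaximal := by
  obtain ⟨Q', hQ'max, hle⟩ := Ideal.exists_le_maximal Q hQ.ne_top
  haveI : Q'.IsPrime := hQ'max.isPrime
  have hcomap : Q.comap (algebraMap R S) = Q'.comap (algebraMap R S) := by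
    apply hmax.eq_of_le
    · exact (Ideal.comap_isPrime (algebraMap R S) Q').ne_top
    · exact Ideal.comap_mono hle
  have hge : Q' ≤ Q := by
    intro x hx
    obtain ⟨E, _, _, hE, g, e, rfl⟩ := exists_etale_rep R S h x
    haveI : Algebra.QuasiFinite R E := inferInstance
    haveI hP : (Q.comap g.toRingHom).IsPrime := Ideal.comap_isPrime _ _
    haveI hP' : (Q'.comap g.toRingHom).IsPrime := Ideal.comap_isPrime _ _
    have h1 : Q.comap g.toRingHom ≤ Q'.comap g.toRingHom := Ideal.comap_mono hle
    have hgalg : g.toRingHom.comp (algebraMap R E) = algebraMap R S := by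
      ext a
      exact g.commutes a
    have h2 : (Q.comap g.toRingHom).under R = (Q'.comap g.toRingHom).under R := by
      change (Q.comap g.toRingHom).comap (algebraMap R E) =
        (Q'.comap g.toRingHom).comap (algebraMap R E)
      rw [Ideal.comap_comap, Ideal.comap_comap, hgalg]
      exact hcomap
    have h3 := Algebra.QuasiFinite.eq_of_le_of_under_eq (R := R) _ _ h1 h2
    have h4 : e ∈ Q'.comap g.toRingHom := hx
    rw [← h3] at h4
    exact h4
  have : Q = Q' := le_antisymm hle hge
  rw [this]
  exact hQ'max

end Groth.Agent.Lib.Helper4.Sq
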