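import Mathlib
import Groth.Prelude.Def_PBC
import Groth.Prelude.Def_ProEtW

/-!
# Primes of tensor products: existence over compatible pairs, and maximality
-/

set_option autoImplicit false
set_option linter.style.haveILetI false
set_option linter.unusedSectionVars false
universe u

namespace Groth.Agent.Lib.Helper4.Sq

open TensorProduct

/-- Given primes `q` of `B` and `r` of `C` over the same prime of `A`, there is a prime of
`B ⊗[A] C` over both. -/
theorem exists_prime_tensor {A B C : Type u} [CommRing A] [CommRing B] [CommRing C]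
    [Algebra A B] [Algebra A C] (q : Ideal B) [q.IsPrime] (r : Ideal C) [r.IsPrime]
    (h : q.comap (algebraMap A B) = r.comap (algebraMap A C)) :
    ∃ P : Ideal (B ⊗[A] C), P.IsPrime ∧ P.comap (algebraMap B (B ⊗[A] C)) = q ∧
      P.comap (Algebra.TensorProduct.includeRight : C →ₐ[A] B ⊗[A] C).toRingHom = r := by
  let p : Ideal A := q.comap (algebraMap A B)
  haveI : p.IsPrime := Ideal.comap_isPrime _ _
  let fK : p.ResidueField →+* q.ResidueField :=
    Ideal.ResidueField.map p q (algebraMap A B) rfl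
  let fL : p.ResidueField →+* r.ResidueField :=
    Ideal.ResidueField.map p r (algebraMap A C) h
  letI algK : Algebra p.ResidueField q.ResidueField := fK.toAlgebra
  letI algL : Algebra p.ResidueField r.ResidueField := fL.toAlgebra
  haveI : Nontrivial (q.ResidueField ⊗[p.ResidueField] r.ResidueField) :=
    Algebra.TensorProduct.nontrivial_of_algebraMap_injective_of_flat_left
      p.ResidueField q.ResidueField r.ResidueField fL.injective
  obtain ⟨M, hM⟩ := Ideal.exists_maximal (q.ResidueField ⊗[p.ResidueField] r.ResidueField)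
  haveI hMp : M.IsPrime := hM.isPrime
  let iL : q.ResidueField →+* q.ResidueField ⊗[p.ResidueField] r.ResidueField :=
    Algebra.TensorProduct.includeLeftRingHom
  let iR : r.ResidueField →+* q.ResidueField ⊗[p.ResidueField] r.ResidueField :=
    (Algebra.TensorProduct.includeRight :
      r.ResidueField →ₐ[p.ResidueField] q.ResidueField ⊗[p.ResidueField] r.ResidueField).toRingHom
  let φB : B →+* q.ResidueField ⊗[p.ResidueField] r.ResidueField :=
    iL.comp (algebraMap B q.ResidueField)
  let φC : C →+* q.ResidueField ⊗[p.ResidueField] r.ResidueField :=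
    iR.comp (algebraMap C r.ResidueField)
  have hcomm : ∀ a : A, φB (algebraMap A B a) = φC (algebraMap A C a) := by
    intro a
    have h1 : algebraMap B q.ResidueField (algebraMap A B a) =
        algebraMap p.ResidueField q.ResidueField (algebraMap A p.ResidueField a) :=
      (Ideal.ResidueField.map_algebraMap p q (algebraMap A B) rfl a).symm
    have h2 : algebraMap C r.ResidueField (algebraMap A C a) =
        algebraMap p.ResidueField r.ResidueField (algebraMap A p.ResidueField a) :=
      (Ideal.ResidueField.map_algebraMap p r (algebraMap A C) h a).symm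
    change (algebraMap B q.ResidueField (algebraMap A B a)) ⊗ₜ[p.ResidueField] (1 : r.ResidueField)
      = (1 : q.ResidueField) ⊗ₜ[p.ResidueField] (algebraMap C r.ResidueField (algebraMap A C a))
    rw [h1, h2, Algebra.algebraMap_eq_smul_one, Algebra.algebraMap_eq_smul_one (A := r.ResidueField),
      TensorProduct.smul_tmul]
  let gB : B →ₐ[A] q.ResidueField ⊗[p.ResidueField] r.ResidueField :=
    { toRingHom := φB
      commutes' := fun a => rfl }
  let gC : C →ₐ[A] q.ResidueField ⊗[p.ResidueField] r.ResidueField :=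
    { toRingHom := φC
      commutes' := fun a => (hcomm a).symm }
  let Φ : B ⊗[A] C →ₐ[A] q.ResidueField ⊗[p.ResidueField] r.ResidueField :=
    Algebra.TensorProduct.lift gB gC (fun _ _ => Commute.all _ _)
  have hΦB : ∀ b : B, Φ (algebraMap B (B ⊗[A] C) b) = φB b := by
    intro b
    change Φ (b ⊗ₜ[A] (1 : C)) = φB b
    rw [Algebra.TensorProduct.lift_tmul]
    change φB b * φC 1 = φB b
    rw [map_one, mul_one]
  have hΦC : ∀ c : C, Φ ((1 : B) ⊗ₜ[A] c) = φC c := by
    intro c
    rw [Algebra.TensorProduct.lift_tmul]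
    change φB 1 * φC c = φC c
    rw [map_one, one_mul]
  have hML : M.comap iL = ⊥ := by
    haveI : (M.comap iL).IsPrime := Ideal.comap_isPrime _ _
    exact Ideal.eq_bot_of_prime _
  have hMR : M.comap iR = ⊥ := by
    haveI : (M.comap iR).IsPrime := Ideal.comap_isPrime _ _
    exact Ideal.eq_bot_of_prime _
  refine ⟨M.comap Φ.toRingHom, Ideal.comap_isPrime _ _, ?_, ?_⟩
  · ext b
    rw [Ideal.mem_comap, Ideal.mem_comap]
    change Φ (algebraMap B (B ⊗[A] C) b) ∈ M ↔ _
    rw [hΦB]
    change algebraMap B q.ResidueField b ∈ M.comap iL ↔ _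
    rw [hML, Ideal.mem_bot, Ideal.algebraMap_residueField_eq_zero]
  · ext c
    rw [Ideal.mem_comap, Ideal.mem_comap]
    change Φ ((1 : B) ⊗ₜ[A] c) ∈ M ↔ _
    rw [hΦC]
    change algebraMap C r.ResidueField c ∈ M.comap iR ↔ _
    rw [hMR, Ideal.mem_bot, Ideal.algebraMap_residueField_eq_zero]

/-- If `A → B` has algebraic residue field extensions, then a prime of `B ⊗[A] C` lying over a
maximal ideal of `C` is maximal. -/
theorem isMaximal_tensor {A B C : Type u} [CommRing A] [CommRing B] [CommRing C]
    [Algebra A B] [Algebra A C] (h : ProEtW.AlgebraicResidueExtensions A B)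
    (P : Ideal (B ⊗[A] C)) [hP : P.IsPrime]
    (hr : (P.comap (Algebra.TensorProduct.includeRight : C →ₐ[A] B ⊗[A] C).toRingHom).IsMaximal) :
    P.IsMaximal := by
  let iR : C →+* B ⊗[A] C := (Algebra.TensorProduct.includeRight : C →ₐ[A] B ⊗[A] C).toRingHom
  let r : Ideal C := P.comap iR
  let q : Ideal B := P.comap (algebraMap B (B ⊗[A] C))
  haveI : q.IsPrime := Ideal.comap_isPrime _ _
  let p : Ideal A := q.comap (algebraMap A B)
  haveI hrmax : r.IsMaximal := hr
  letI : Field (C ⧸ r) := Ideal.Quotient.field r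
  let β : C ⧸ r →+* (B ⊗[A] C) ⧸ P := Ideal.quotientMap P iR le_rfl
  let γ : B ⧸ q →+* (B ⊗[A] C) ⧸ P := Ideal.quotientMap P (algebraMap B (B ⊗[A] C)) le_rfl
  have hAD : ∀ a : A, algebraMap B (B ⊗[A] C) (algebraMap A B a) = iR (algebraMap A C a) := by
    intro a
    change (algebraMap A B a) ⊗ₜ[A] (1 : C) = (1 : B) ⊗ₜ[A] (algebraMap A C a)
    rw [Algebra.algebraMap_eq_smul_one, Algebra.algebraMap_eq_smul_one (A := C),
      TensorProduct.smul_tmul]
  have hpr : p = r.comap (algebraMap A C) := by
    ext a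
    change algebraMap B (B ⊗[A] C) (algebraMap A B a) ∈ P ↔ iR (algebraMap A C a) ∈ P
    rw [hAD]
  let α : A ⧸ p →+* C ⧸ r := Ideal.quotientMap r (algebraMap A C) (le_of_eq hpr)
  have hα : Function.Injective α := Ideal.quotientMap_injective' (le_of_eq hpr.symm)
  have hsq : ∀ z : A ⧸ p, γ (algebraMap (A ⧸ p) (B ⧸ q) z) = β (α z) := by
    intro z
    obtain ⟨a, rfl⟩ := Ideal.Quotient.mk_surjective z
    change Ideal.Quotient.mk P (algebraMap B (B ⊗[A] C) (algebraMap A B a)) =
      Ideal.Quotient.mk P (iR (algebraMap A C a))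
    rw [hAD]
  letI algβ : Algebra (C ⧸ r) ((B ⊗[A] C) ⧸ P) := β.toAlgebra
  have hb : ∀ b : B, IsIntegral (C ⧸ r) (γ (Ideal.Quotient.mk q b)) := by
    intro b
    haveI halg : Algebra.IsAlgebraic (A ⧸ p) (B ⧸ q) := h q
    obtain ⟨g, hg0, hg⟩ := halg.isAlgebraic (Ideal.Quotient.mk q b)
    apply IsAlgebraic.isIntegral
    refine ⟨g.map α, (Polynomial.map_ne_zero_iff hα).mpr hg0, ?_⟩
    rw [Polynomial.aeval_def, Polynomial.eval₂_map]
    have h1 : (algebraMap (C ⧸ r) ((B ⊗[A] C) ⧸ P)).comp α =
        γ.comp (algebraMap (A ⧸ p) (B ⧸ q)) := by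
      ext z
      exact (hsq (Ideal.Quotient.mk p z)).symm
    rw [h1, ← Polynomial.hom_eval₂, ← Polynomial.aeval_def, hg, map_zero]
  haveI hint : Algebra.IsIntegral (C ⧸ r) ((B ⊗[A] C) ⧸ P) := by
    constructor
    intro y
    obtain ⟨t, rfl⟩ := Ideal.Quotient.mk_surjective y
    induction t using TensorProduct.induction_on with
    | zero => rw [map_zero]; exact isIntegral_zero
    | tmul b c =>
      have h1 : Ideal.Quotient.mk P (b ⊗ₜ[A] c) =
          γ (Ideal.Quotient.mk q b) * algebraMap (C ⧸ r) ((B ⊗[A] C) ⧸ P) (Ideal.Quotient.mk r c) := by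
        change _ = Ideal.Quotient.mk P (b ⊗ₜ[A] (1 : C)) * Ideal.Quotient.mk P ((1 : B) ⊗ₜ[A] c)
        rw [← map_mul, Algebra.TensorProduct.tmul_mul_tmul, mul_one, one_mul]
      rw [h1]
      exact (hb b).mul isIntegral_algebraMap
    | add x y hx hy => rw [map_add]; exact hx.add hy
  haveI : IsDomain ((B ⊗[A] C) ⧸ P) := Ideal.Quotient.isDomain P
  have hf : IsField ((B ⊗[A] C) ⧸ P) :=
    isField_of_isIntegral_of_isField' (R := C ⧸ r) (Field.toIsField _)
  exact Ideal.Quotient.maximal_of_isField _ hf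

end Groth.Agent.Lib.Helper4.Sq
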