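import Mathlib
import Groth.Prelude.Def_PBC
import Groth.Prelude.Def_ProEtW
import Groth.Prelude.Def_EtBase

/-!
# Transport of strict henselianity along ring isomorphisms
-/

set_option autoImplicit false
set_option linter.style.haveILetI false
set_option linter.unusedSectionVars false
universe u

namespace Groth.Agent.Lib.Helper4.Sq

open Polynomial

theorem henselianLocalRing_of_ringEquiv {R R' : Type u} [CommRing R] [CommRing R']
    (e : R ≃+* R') [hR : HenselianLocalRing R] : HenselianLocalRing R' := by
  haveI : IsLocalRing R' := e.isLocalRing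
  refine ⟨?_⟩
  intro f hf a₀ h1 h2
  have hmem : ∀ x : R', x ∈ IsLocalRing.maximalIdeal R' ↔ e.symm x ∈ IsLocalRing.maximalIdeal R := by
    intro x
    rw [IsLocalRing.mem_maximalIdeal, IsLocalRing.mem_maximalIdeal, mem_nonunits_iff,
      mem_nonunits_iff]
    exact not_congr (MulEquiv.isUnit_map e.symm (x := x)).symm
  have hev : ∀ (g : R'[X]) (x : R'), (g.map (e.symm : R' →+* R)).eval (e.symm x) =
      e.symm (g.eval x) := by
    intro g x
    rw [Polynomial.eval_map]
    have := Polynomial.hom_eval₂ g (RingHom.id R') (e.symm : R' →+* R) x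
    rw [Polynomial.eval₂_id, RingHom.comp_id] at this
    exact this.symm
  obtain ⟨b, hb1, hb2⟩ := hR.is_henselian (f.map (e.symm : R' →+* R)) (hf.map _) (e.symm a₀)
    (by rw [hev]; exact (hmem _).mp h1)
    (by
      rw [Polynomial.derivative_map, hev]
      exact (MulEquiv.isUnit_map e.symm).mpr h2)
  refine ⟨e b, ?_, ?_⟩
  · have h3 : (f.map (e.symm : R' →+* R)).eval (e.symm (e b)) = e.symm (f.eval (e b)) := hev f (e b)
    rw [RingEquiv.symm_apply_apply] at h3
    have h4 : (f.map (e.symm : R' →+* R)).eval b = 0 := hb1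
    rw [h4] at h3
    change f.eval (e b) = 0
    have := congrArg e h3
    rw [map_zero, RingEquiv.apply_symm_apply] at this
    exact this.symm
  · rw [hmem, map_sub, RingEquiv.symm_apply_apply]
    exact hb2

theorem isSepClosed_of_ringEquiv {k k' : Type u} [Field k] [Field k'] [IsSepClosed k]
    (e : k ≃+* k') : IsSepClosed k' := by
  refine IsSepClosed.of_exists_root k' fun p _ hirr hsep => ?_
  have hsep' : (p.map (e.symm : k' →+* k)).Separable := hsep.map
  have hdeg : (p.map (e.symm : k' →+* k)).degree ≠ 0 := by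
    rw [Polynomial.degree_map]
    exact (Polynomial.degree_pos_of_irreducible hirr).ne'
  obtain ⟨x, hx⟩ := IsSepClosed.exists_root _ hdeg hsep'
  refine ⟨e x, ?_⟩
  have h2 : Polynomial.eval₂ (e.symm : k' →+* k) x p = 0 := by
    rw [← Polynomial.eval_map]; exact hx
  have h3 := congrArg (e : k →+* k') h2
  rw [Polynomial.hom_eval₂ p (e.symm : k' →+* k) (e : k →+* k') x] at h3
  have h4 : ((e : k →+* k').comp (e.symm : k' →+* k)) = RingHom.id k' := by
    ext y; simp
  rw [h4, map_zero] at h3
  rw [Polynomial.eval₂_id] at h3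
  exact h3

theorem isStrictlyHenselian_of_ringEquiv {R R' : Type u} [CommRing R] [CommRing R']
    (e : R ≃+* R') (h : EtCoh.IsStrictlyHenselianLocalRing R) :
    EtCoh.IsStrictlyHenselianLocalRing R' := by
  obtain ⟨hH, hS⟩ := h
  haveI hH' : HenselianLocalRing R' := henselianLocalRing_of_ringEquiv e
  refine ⟨hH', ?_⟩
  exact isSepClosed_of_ringEquiv (IsLocalRing.ResidueField.mapEquiv e)

/-- If `R → S` identifies local rings, strict henselianity of `R_{q ∩ R}` passes to `S_q`. -/
theorem isStrictlyHenselian_of_identifies {R S : Type u} [CommRing R] [CommRing S] [Algebra R S]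
    (h : EtPBC.IdentifiesLocalRings R S) (q : Ideal S) [hq : q.IsPrime]
    (hs : EtCoh.IsStrictlyHenselianLocalRing
      (Localization.AtPrime (q.comap (algebraMap R S)))) :
    EtCoh.IsStrictlyHenselianLocalRing (Localization.AtPrime q) :=
  isStrictlyHenselian_of_ringEquiv (RingEquiv.ofBijective _ (h ⟨q, hq⟩)) hs

end Groth.Agent.Lib.Helper4.Sq
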