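import Mathlib
import Groth.Prelude.Def_ProEtW
import Groth.Agent.S9633

/-!
# Miscellany for w-local rings: spectral maps and profinite closed subsets
-/

set_option autoImplicit false
set_option linter.style.haveILetI false
set_option linter.unusedSectionVars false
universe u

namespace Groth.Agent.Lib.Helper4.WLocMisc

open Topology

theorem isSpectralMap_comap {R S : Type*} [CommRing R] [CommRing S] (f : R →+* S) :
    IsSpectralMap (PrimeSpectrum.comap f) := by
  classical
  refine ⟨PrimeSpectrum.continuous_comap f, fun s hs hc => ?_⟩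
  obtain ⟨t, rfl⟩ := PrimeSpectrum.isCompact_isOpen_iff.mp ⟨hc, hs⟩
  rw [Set.preimage_compl, PrimeSpectrum.preimage_comap_zeroLocus]
  have : (f '' (t : Set R)) = ((t.image f : Finset S) : Set S) := by simp
  rw [this]
  exact (PrimeSpectrum.isCompact_isOpen_iff.mpr ⟨_, rfl⟩).1

/-- a closed subset `V(J)` all of whose points are maximal ideals is profinite -/
theorem isProfinite_zeroLocus {B : Type u} [CommRing B] (J : Ideal B)
    (h : ∀ q : PrimeSpectrum B, q ∈ PrimeSpectrum.zeroLocus (J : Set B) → q.asIdeal.IsMaximal) :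
    ProEtW.IsProfinite (PrimeSpectrum.zeroLocus (R := B) J) := by
  have h1 : ∀ p : Ideal (B ⧸ J), p.IsPrime → p.IsMaximal := by
    intro p hp
    have hmem : (⟨p.comap (Ideal.Quotient.mk J), inferInstance⟩ : PrimeSpectrum B) ∈
        PrimeSpectrum.zeroLocus (J : Set B) := by
      intro x hx
      change Ideal.Quotient.mk J x ∈ p
      rw [Ideal.Quotient.eq_zero_iff_mem.mpr hx]
      exact p.zero_mem
    have hmax : (p.comap (Ideal.Quotient.mk J)).IsMaximal := h _ hmem
    have hmap := Ideal.map_comap_of_surjective (Ideal.Quotient.mk J)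
      Ideal.Quotient.mk_surjective p
    rw [← hmap]
    rcases Ideal.map_eq_top_or_isMaximal_of_surjective (Ideal.Quotient.mk J)
      Ideal.Quotient.mk_surjective hmax with h2 | h2
    · exfalso
      rw [hmap] at h2
      exact hp.ne_top h2
    · exact h2
  obtain ⟨c1, c2, c3⟩ := ((Groth.Agent.S9633.result (R := B ⧸ J)).out 5 0).mp h1
  have hemb := PrimeSpectrum.isClosedEmbedding_comap_of_surjective (B ⧸ J)
    (Ideal.Quotient.mk J) Ideal.Quotient.mk_surjective
  have hrange : PrimeSpectrum.zeroLocus (J : Set B) =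
      Set.range (PrimeSpectrum.comap (Ideal.Quotient.mk J)) := by
    rw [range_comap_of_surjective (B ⧸ J) (Ideal.Quotient.mk J) Ideal.Quotient.mk_surjective, Ideal.mk_ker]
  rw [hrange]
  let e := hemb.isEmbedding.toHomeomorph
  refine ⟨e.compactSpace, e.t2Space, ?_⟩
  rw [totallyDisconnectedSpace_subtype_iff, hemb.isEmbedding.isTotallyDisconnected_range]
  exact c3

end Groth.Agent.Lib.Helper4.WLocMisc
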