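import Mathlib

/-!
# Rings of locally-constant-fraction sections over a profinite space

Given a ring `A`, a space `T` and a family `S t` of submonoids of `A`, `Sec S` is the subalgebra
of `∏ t, S(t)⁻¹ A` of families that are, locally on `T` (on clopen sets), given by a single
fraction `a / f`.
-/

set_option autoImplicit false
set_option linter.style.haveILetI false
set_option linter.unusedSectionVars false
universe u

namespace Groth.Agent.Lib.Helper4.LocSec

variable {A : Type u} [CommRing A] {T : Type u} [TopologicalSpace T] (S : T → Submonoid A)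

/-- `s` is locally (on clopen sets) a fraction. -/
def IsLocFrac (s : ∀ t, Localization (S t)) : Prop :=
  ∀ t₀ : T, ∃ N : Set T, IsClopen N ∧ t₀ ∈ N ∧ ∃ a f : A, ∀ t ∈ N, f ∈ S t ∧
    algebraMap A (Localization (S t)) f * s t = algebraMap A (Localization (S t)) a

/-- The algebra of locally-constant-fraction sections. -/
def sec : Subalgebra A (∀ t, Localization (S t)) where
  carrier := {s | IsLocFrac S s}
  mul_mem' := by
    intro s s' hs hs' t₀
    obtain ⟨N, hN, ht, a, f, h⟩ := hs t₀
    obtain ⟨N', hN', ht', a', f', h'⟩ := hs' t₀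
    refine ⟨N ∩ N', hN.inter hN', ⟨ht, ht'⟩, a * a', f * f', fun t htt => ?_⟩
    obtain ⟨h1, h2⟩ := h t htt.1
    obtain ⟨h1', h2'⟩ := h' t htt.2
    refine ⟨(S t).mul_mem h1 h1', ?_⟩
    rw [map_mul, map_mul, ← h2, ← h2', Pi.mul_apply]
    ring
  add_mem' := by
    intro s s' hs hs' t₀
    obtain ⟨N, hN, ht, a, f, h⟩ := hs t₀
    obtain ⟨N', hN', ht', a', f', h'⟩ := hs' t₀
    refine ⟨N ∩ N', hN.inter hN', ⟨ht, ht'⟩, f' * a + f * a', f * f', fun t htt => ?_⟩
    obtain ⟨h1, h2⟩ := h t htt.1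
    obtain ⟨h1', h2'⟩ := h' t htt.2
    refine ⟨(S t).mul_mem h1 h1', ?_⟩
    rw [map_mul, map_add, map_mul, map_mul, ← h2, ← h2', Pi.add_apply]
    ring
  algebraMap_mem' := by
    intro r t₀
    refine ⟨Set.univ, isClopen_univ, trivial, r, 1, fun t _ => ⟨(S t).one_mem, ?_⟩⟩
    rw [map_one, one_mul]
    rfl

/-- The ring of sections as a type. -/
abbrev Sec : Type u := ↥(sec S)

variable {S}

theorem Sec.ext {s s' : Sec S} (h : ∀ t, s.1 t = s'.1 t) : s = s' :=
  Subtype.ext (funext h)

variable (S)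

/-- evaluation at a point -/
def ev (t : T) : Sec S →ₐ[A] Localization (S t) :=
  (Pi.evalAlgHom A (fun t => Localization (S t)) t).comp (sec S).val

variable {S}

@[simp] theorem ev_apply (t : T) (s : Sec S) : ev S t s = s.1 t := rfl

theorem algebraMap_apply (a : A) (t : T) :
    (algebraMap A (Sec S) a).1 t = algebraMap A (Localization (S t)) a := rfl

@[simp] theorem mul_apply (s s' : Sec S) (t : T) : (s * s').1 t = s.1 t * s'.1 t := rfl
@[simp] theorem add_apply (s s' : Sec S) (t : T) : (s + s').1 t = s.1 t + s'.1 t := rfl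
@[simp] theorem sub_apply (s s' : Sec S) (t : T) : (s - s').1 t = s.1 t - s'.1 t := rfl
@[simp] theorem one_apply (t : T) : (1 : Sec S).1 t = 1 := rfl
@[simp] theorem zero_apply (t : T) : (0 : Sec S).1 t = 0 := rfl

theorem isUnit_of_mem {t : T} {f : A} (hf : f ∈ S t) :
    IsUnit (algebraMap A (Localization (S t)) f) :=
  IsLocalization.map_units _ ⟨f, hf⟩

open Classical in
/-- indicator section of a clopen set -/
noncomputable def ind (N : Set T) (hN : IsClopen N) : Sec S :=
  ⟨fun t => if t ∈ N then 1 else 0, by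
    intro t₀
    by_cases ht : t₀ ∈ N
    · refine ⟨N, hN, ht, 1, 1, fun t htt => ⟨(S t).one_mem, ?_⟩⟩
      beta_reduce
      rw [if_pos htt, map_one, one_mul]
    · refine ⟨Nᶜ, hN.compl, ht, 0, 1, fun t htt => ⟨(S t).one_mem, ?_⟩⟩
      beta_reduce
      rw [if_neg htt, map_one, one_mul, map_zero]⟩

theorem ind_apply_mem {N : Set T} (hN : IsClopen N) {t : T} (ht : t ∈ N) :
    (ind (S := S) N hN).1 t = 1 := if_pos ht

theorem ind_apply_notMem {N : Set T} (hN : IsClopen N) {t : T} (ht : t ∉ N) :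
    (ind (S := S) N hN).1 t = 0 := if_neg ht

theorem ind_mul_ind {N N' : Set T} (hN : IsClopen N) (hN' : IsClopen N') :
    ind (S := S) N hN * ind N' hN' = ind (N ∩ N') (hN.inter hN') := by
  apply Sec.ext
  intro t
  rw [mul_apply]
  by_cases h : t ∈ N
  · by_cases h' : t ∈ N'
    · rw [ind_apply_mem hN h, ind_apply_mem hN' h',
        ind_apply_mem (hN.inter hN') (show t ∈ N ∩ N' from ⟨h, h'⟩), one_mul]
    · rw [ind_apply_notMem hN' h',
        ind_apply_notMem (hN.inter hN') (fun hh : t ∈ N ∩ N' => h' hh.2), mul_zero]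
  · rw [ind_apply_notMem hN h,
      ind_apply_notMem (hN.inter hN') (fun hh : t ∈ N ∩ N' => h hh.1), zero_mul]

theorem ind_add_ind_compl {N : Set T} (hN : IsClopen N) :
    ind (S := S) N hN + ind Nᶜ hN.compl = 1 := by
  apply Sec.ext
  intro t
  rw [add_apply, one_apply]
  by_cases h : t ∈ N
  · rw [ind_apply_mem hN h, ind_apply_notMem hN.compl (fun hh : t ∈ Nᶜ => hh h), add_zero]
  · rw [ind_apply_notMem hN h, ind_apply_mem hN.compl (show t ∈ Nᶜ from h), zero_add]

theorem ind_mul_ind_compl {N : Set T} (hN : IsClopen N) :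
    ind (S := S) N hN * ind Nᶜ hN.compl = 0 := by
  apply Sec.ext
  intro t
  rw [mul_apply, zero_apply]
  by_cases h : t ∈ N
  · rw [ind_apply_notMem hN.compl (fun hh : t ∈ Nᶜ => hh h), mul_zero]
  · rw [ind_apply_notMem hN h, zero_mul]

theorem ind_univ : ind (S := S) Set.univ isClopen_univ = 1 := by
  apply Sec.ext
  intro t
  rw [ind_apply_mem isClopen_univ (Set.mem_univ t), one_apply]

theorem ind_union {N N' : Set T} (hN : IsClopen N) (hN' : IsClopen N') :
    ind (S := S) (N ∪ N') (hN.union hN') =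
      ind N hN + ind N' hN' - ind N hN * ind N' hN' := by
  apply Sec.ext
  intro t
  rw [sub_apply, add_apply, mul_apply]
  by_cases h : t ∈ N
  · by_cases h' : t ∈ N'
    · rw [ind_apply_mem hN h, ind_apply_mem hN' h',
        ind_apply_mem (hN.union hN') (show t ∈ N ∪ N' from Or.inl h)]
      ring
    · rw [ind_apply_mem hN h, ind_apply_notMem hN' h',
        ind_apply_mem (hN.union hN') (show t ∈ N ∪ N' from Or.inl h)]
      ring
  · by_cases h' : t ∈ N'
    · rw [ind_apply_notMem hN h, ind_apply_mem hN' h',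
        ind_apply_mem (hN.union hN') (show t ∈ N ∪ N' from Or.inr h')]
      ring
    · rw [ind_apply_notMem hN h, ind_apply_notMem hN' h',
        ind_apply_notMem (hN.union hN') (fun hh : t ∈ N ∪ N' => hh.elim h h')]
      ring

open Classical in
/-- the section equal to the fraction `a / f` on the clopen `N` and `0` elsewhere -/
noncomputable def frac (N : Set T) (hN : IsClopen N) (a f : A) (hf : ∀ t ∈ N, f ∈ S t) : Sec S :=
  ⟨fun t => if h : t ∈ N then Localization.mk a ⟨f, hf t h⟩ else 0, by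
    intro t₀
    by_cases ht : t₀ ∈ N
    · refine ⟨N, hN, ht, a, f, fun t htt => ⟨hf t htt, ?_⟩⟩
      beta_reduce
      rw [dif_pos htt, Localization.mk_eq_mk']
      exact IsLocalization.mk'_spec' _ a ⟨f, hf t htt⟩
    · refine ⟨Nᶜ, hN.compl, ht, 0, 1, fun t htt => ⟨(S t).one_mem, ?_⟩⟩
      beta_reduce
      rw [dif_neg htt, map_one, one_mul, map_zero]⟩

theorem frac_apply_mem {N : Set T} (hN : IsClopen N) (a f : A) (hf : ∀ t ∈ N, f ∈ S t)
    {t : T} (ht : t ∈ N) :
    (frac N hN a f hf).1 t = Localization.mk a ⟨f, hf t ht⟩ := dif_pos ht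

theorem frac_apply_notMem {N : Set T} (hN : IsClopen N) (a f : A) (hf : ∀ t ∈ N, f ∈ S t)
    {t : T} (ht : t ∉ N) :
    (frac N hN a f hf).1 t = 0 := dif_neg ht

theorem frac_spec {N : Set T} (hN : IsClopen N) (a f : A) (hf : ∀ t ∈ N, f ∈ S t)
    {t : T} (ht : t ∈ N) :
    algebraMap A (Localization (S t)) f * (frac N hN a f hf).1 t =
      algebraMap A (Localization (S t)) a := by
  rw [frac_apply_mem hN a f hf ht, Localization.mk_eq_mk']
  exact IsLocalization.mk'_spec' _ a ⟨f, hf t ht⟩

section topology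

variable [CompactSpace T] [T2Space T] [TotallyDisconnectedSpace T]

theorem exists_clopen_nbhd {U : Set T} (hU : IsOpen U) {t : T} (ht : t ∈ U) :
    ∃ N : Set T, IsClopen N ∧ t ∈ N ∧ N ⊆ U := by
  obtain ⟨N, hN, htN, hNU⟩ :=
    (isTopologicalBasis_isClopen (X := T)).exists_subset_of_mem_open ht hU
  exact ⟨N, hN, htN, hNU⟩

variable (hS : ∀ a : A, IsOpen {t | a ∈ S t})
include hS

theorem ev_surjective (t : T) : Function.Surjective (ev S t) := by
  intro x
  obtain ⟨a, ⟨f, hf⟩, rfl⟩ := IsLocalization.exists_mk'_eq (S t) x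
  obtain ⟨N, hN, htN, hNU⟩ := exists_clopen_nbhd (hS f) (show t ∈ {t | f ∈ S t} from hf)
  refine ⟨frac N hN a f (fun t' ht' => hNU ht'), ?_⟩
  rw [ev_apply, frac_apply_mem hN a f _ htN, Localization.mk_eq_mk']

/-- common clopen neighbourhood on which finitely many sections are fractions with a common
denominator -/
theorem exists_common_frac (F : Finset (Sec S)) (t₀ : T) :
    ∃ (N : Set T) (f : A), IsClopen N ∧ t₀ ∈ N ∧ (∀ t ∈ N, f ∈ S t) ∧
      ∀ s ∈ F, ∃ a : A, ∀ t ∈ N,
        algebraMap A (Localization (S t)) f * s.1 t = algebraMap A (Localization (S t)) a := by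
  classical
  induction F using Finset.induction_on with
  | empty =>
    exact ⟨Set.univ, 1, isClopen_univ, trivial, fun t _ => (S t).one_mem, by simp⟩
  | insert s F hs ih =>
    obtain ⟨N, f, hN, htN, hf, hF⟩ := ih
    obtain ⟨N', hN', htN', a', f', h'⟩ := s.2 t₀
    refine ⟨N ∩ N', f * f', hN.inter hN', ⟨htN, htN'⟩,
      fun t ht => (S t).mul_mem (hf t ht.1) (h' t ht.2).1, ?_⟩
    intro s' hs'
    rcases Finset.mem_insert.mp hs' with rfl | hs'
    · refine ⟨f * a', fun t ht => ?_⟩
      rw [map_mul, map_mul, ← (h' t ht.2).2]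
      ring
    · obtain ⟨a, ha⟩ := hF s' hs'
      refine ⟨f' * a, fun t ht => ?_⟩
      rw [map_mul, map_mul, ← ha t ht.1]
      ring

end topology

end Groth.Agent.Lib.Helper4.LocSec
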