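import Mathlib
import Groth.Prelude.Def_PBC
import Groth.Agent.Lib.Helper4.LocSec1
import Groth.Agent.Lib.Helper4.IndZar1
import Groth.Agent.Lib.Lead.SpreadOut
import Groth.Agent.Lib.Helper20.SpecTop

/-!
# `Sec S` is ind-Zariski over `A`
-/

set_option autoImplicit false
set_option linter.style.haveILetI false
set_option linter.unusedSectionVars false
universe u

namespace Groth.Agent.Lib.Helper4.LocSec

open Groth.Agent.Lib.Lead.SpreadOut

variable {A : Type u} [CommRing A] {T : Type u} [TopologicalSpace T] {S : T → Submonoid A}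
variable [CompactSpace T] [T2Space T] [TotallyDisconnectedSpace T]
variable (hS : ∀ a : A, IsOpen {t | a ∈ S t})

/-- the canonical map `A_f → S(t)⁻¹A` for `f ∈ S t` -/
noncomputable abbrev awayTo (f : A) (t : T) (h : f ∈ S t) :
    Localization.Away f →ₐ[A] Localization (S t) :=
  ι (R := A) (T := A) (L := Localization (S t)) (S t) f h

include hS in
set_option maxHeartbeats 1000000 in
/-- local factorization of a map from a finitely presented algebra -/
theorem exists_local_factor (Z : Type u) [CommRing Z] [Algebra A Z]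
    [Algebra.FinitePresentation A Z] (g : Z →ₐ[A] Sec S) (t₀ : T) :
    ∃ (f : A) (N : Set T) (g' : Z →ₐ[A] Localization.Away f), IsClopen N ∧ t₀ ∈ N ∧
      (∀ t ∈ N, f ∈ S t) ∧
      ∀ t ∈ N, ∀ (hft : f ∈ S t) (z : Z), awayTo f t hft (g' z) = (g z).1 t := by
  classical
  obtain ⟨f, hf, g', hg'⟩ := exists_lift_away (R := A) (T := A) (L := Localization (S t₀))
    (S t₀) ((ev S t₀).comp g)
  obtain ⟨F, hF⟩ := Algebra.FiniteType.out (R := A) (A := Z)
  -- per-generator neighbourhoods
  have hz : ∀ z : Z, ∃ N : Set T, IsClopen N ∧ t₀ ∈ N ∧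
      ∀ t ∈ N, ∀ (hft : f ∈ S t), awayTo f t hft (g' z) = (g z).1 t := by
    intro z
    obtain ⟨N₁, hN₁, ht₁, a, f₁, h₁⟩ := (g z).2 t₀
    obtain ⟨k, b, hb⟩ := IsLocalization.Away.surj f (g' z)
    have hkey : ∀ t (hft : f ∈ S t), awayTo f t hft (g' z) *
        algebraMap A (Localization (S t)) f ^ k = algebraMap A (Localization (S t)) b := by
      intro t hft
      have := congrArg (awayTo f t hft) hb
      rw [map_mul, map_pow, ι_algebraMap, ι_algebraMap] at this
      exact this
    have e₀ : algebraMap A (Localization (S t₀)) (f₁ * b) =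
        algebraMap A (Localization (S t₀)) (f ^ k * a) := by
      have h2 := (h₁ t₀ ht₁).2
      have h3 := hkey t₀ hf
      have h4 : awayTo f t₀ hf (g' z) = (g z).1 t₀ := hg' z
      rw [map_mul, map_mul, map_pow, ← h3, ← h2, h4]
      ring
    obtain ⟨⟨c, hc⟩, hceq⟩ := (IsLocalization.eq_iff_exists (S t₀) _).mp e₀
    obtain ⟨N, hN, htN, hNU⟩ := exists_clopen_nbhd
      ((hN₁.isOpen.inter (hS c)).inter (hS f))
      (show t₀ ∈ (N₁ ∩ {t | c ∈ S t}) ∩ {t | f ∈ S t} from ⟨⟨ht₁, hc⟩, hf⟩)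
    refine ⟨N, hN, htN, fun t ht hft => ?_⟩
    obtain ⟨⟨htN₁, hct⟩, -⟩ := hNU ht
    obtain ⟨hf₁t, hf₁eq⟩ := h₁ t htN₁
    have hcu := isUnit_of_mem (S := S) (t := t) hct
    have hfu := isUnit_of_mem (S := S) (t := t) hft
    have hf₁u := isUnit_of_mem (S := S) (t := t) hf₁t
    have e₁ : algebraMap A (Localization (S t)) (f₁ * b) =
        algebraMap A (Localization (S t)) (f ^ k * a) := by
      apply hcu.mul_left_cancel
      rw [← map_mul, ← map_mul]
      exact congrArg _ hceq
    apply (hf₁u.mul (hfu.pow k)).mul_left_cancel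
    calc algebraMap A (Localization (S t)) f₁ * algebraMap A (Localization (S t)) f ^ k *
          awayTo f t hft (g' z)
        = algebraMap A (Localization (S t)) f₁ * (awayTo f t hft (g' z) *
          algebraMap A (Localization (S t)) f ^ k) := by ring
      _ = algebraMap A (Localization (S t)) (f₁ * b) := by rw [hkey t hft, map_mul]
      _ = algebraMap A (Localization (S t)) (f ^ k * a) := e₁
      _ = algebraMap A (Localization (S t)) f ^ k *
          (algebraMap A (Localization (S t)) f₁ * (g z).1 t) := by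
            rw [hf₁eq, map_mul, map_pow]
      _ = algebraMap A (Localization (S t)) f₁ * algebraMap A (Localization (S t)) f ^ k *
          (g z).1 t := by ring
  choose Nz hNz htNz hNzeq using hz
  obtain ⟨N₀, hN₀, htN₀, hN₀U⟩ := exists_clopen_nbhd (hS f) (show t₀ ∈ {t | f ∈ S t} from hf)
  refine ⟨f, N₀ ∩ ⋂ z ∈ F, Nz z, g', hN₀.inter (isClopen_biInter_finset fun z _ => hNz z),
    ⟨htN₀, Set.mem_iInter₂.mpr fun z _ => htNz z⟩, fun t ht => hN₀U ht.1, ?_⟩
  intro t ht hft z
  have halg : (awayTo f t hft).comp g' = (ev S t).comp g := by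
    apply AlgHom.ext_of_adjoin_eq_top hF
    intro z hz
    rw [AlgHom.comp_apply, AlgHom.comp_apply, ev_apply]
    exact hNzeq z t (Set.mem_iInter₂.mp ht.2 z hz) hft
  exact AlgHom.congr_fun halg z

include hS in
set_option maxHeartbeats 1000000 in
/-- **`Sec S` is ind-Zariski over `A`.** -/
theorem isIndZariski_sec : EtPBC.IsIndZariski A (Sec S) := by
  classical
  apply IndZar.isIndZariski_of_factor
  intro Z _ _ _ g
  choose f N g' hN htN hfN hfac using fun t₀ => exists_local_factor hS Z g t₀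
  obtain ⟨I, hI⟩ := isCompact_univ.elim_finite_subcover (fun t₀ => N t₀)
    (fun t₀ => (hN t₀).isOpen) (fun t _ => Set.mem_iUnion.mpr ⟨t, htN t⟩)
  let τ : Fin I.card → T := fun k => (I.equivFin.symm k).1
  have hcov : (⋃ k, N (τ k)) = Set.univ := by
    rw [Set.eq_univ_iff_forall]
    intro t
    obtain ⟨i, hi, hti⟩ := Set.mem_iUnion₂.mp (hI (Set.mem_univ t))
    refine Set.mem_iUnion.mpr ⟨I.equivFin ⟨i, hi⟩, ?_⟩
    change t ∈ N ((I.equivFin.symm (I.equivFin ⟨i, hi⟩)).1)
    rw [Equiv.symm_apply_apply]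
    exact hti
  obtain ⟨V, hVc, hVd, hVu, hVN⟩ := Groth.Agent.Lib.Helper20.SpecTop.exists_disjoint_refinement
    (fun k => N (τ k)) (fun k => hN (τ k)) hcov
  have hidx' : ∀ t, ∃ k, t ∈ V k := fun t => Set.mem_iUnion.mp (by rw [hVu]; trivial)
  choose idx hidx using hidx'
  have hidx_unique : ∀ t k, t ∈ V k → idx t = k := by
    intro t k hk
    by_contra hne
    exact Set.disjoint_left.mp (hVd hne) (hidx t) hk
  have hmem : ∀ t, f (τ (idx t)) ∈ S t := fun t => hfN _ t (hVN _ (hidx t))
  let φ : ∀ t, (∀ k : Fin I.card, Localization.Away (f (τ k))) →ₐ[A] Localization (S t) :=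
    fun t => (awayTo (f (τ (idx t))) t (hmem t)).comp
      (Pi.evalAlgHom A (fun k => Localization.Away (f (τ k))) (idx t))
  let v₀ : (∀ k : Fin I.card, Localization.Away (f (τ k))) →ₐ[A] (∀ t, Localization (S t)) :=
    Pi.algHom A _ φ
  have hv₀app : ∀ w t, v₀ w t = awayTo (f (τ (idx t))) t (hmem t) (w (idx t)) := fun w t => rfl
  have hdep : ∀ (w : ∀ k : Fin I.card, Localization.Away (f (τ k))) t k (h : f (τ k) ∈ S t),
      idx t = k → awayTo (f (τ (idx t))) t (hmem t) (w (idx t)) = awayTo (f (τ k)) t h (w k) := by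
    intro w t k h hk
    subst hk
    rfl
  have hv₀ : ∀ w, v₀ w ∈ sec S := by
    intro w t₀
    obtain ⟨m, b, hb⟩ := IsLocalization.Away.surj (f (τ (idx t₀))) (w (idx t₀))
    refine ⟨V (idx t₀), hVc (idx t₀), hidx t₀, b, f (τ (idx t₀)) ^ m, fun t ht => ?_⟩
    have hk : idx t = idx t₀ := hidx_unique t (idx t₀) ht
    have hft : f (τ (idx t₀)) ∈ S t := hfN _ t (hVN _ ht)
    refine ⟨(S t).pow_mem hft m, ?_⟩
    rw [hv₀app, hdep w t (idx t₀) hft hk, map_pow, mul_comm,
      ← ι_algebraMap (R := A) (L := Localization (S t)) (S t) (f (τ (idx t₀))) hft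
        (f (τ (idx t₀))), ← map_pow, ← map_mul, hb, ι_algebraMap]
  let v := v₀.codRestrict (sec S) hv₀
  let u : Z →ₐ[A] (∀ k : Fin I.card, Localization.Away (f (τ k))) :=
    Pi.algHom A _ (fun k => g' (τ k))
  refine ⟨(∀ k : Fin I.card, Localization.Away (f (τ k))), inferInstance, inferInstance, u, v, ?_,
    Algebra.IsLocalIso.pi_of_finite A (fun k : Fin I.card => Localization.Away (f (τ k)))⟩
  apply AlgHom.ext
  intro z
  apply Sec.ext
  intro t
  change awayTo (f (τ (idx t))) t (hmem t) (g' (τ (idx t)) z) = (g z).1 t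
  exact hfac (τ (idx t)) t (hVN _ (hidx t)) (hmem t) z

end Groth.Agent.Lib.Helper4.LocSec
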