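import Mathlib
import Groth.Agent.Lib.Helper4.LocSec1

/-!
# The prime spectrum of `Sec S`
-/

set_option autoImplicit false
set_option linter.style.haveILetI false
set_option linter.unusedSectionVars false
universe u

namespace Groth.Agent.Lib.Helper4.LocSec

open Topology

variable {A : Type u} [CommRing A] {T : Type u} [TopologicalSpace T] {S : T → Submonoid A}
variable [CompactSpace T] [T2Space T] [TotallyDisconnectedSpace T]

theorem ind_congr {N N' : Set T} (hN : IsClopen N) (hN' : IsClopen N') (h : N = N') :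
    ind (S := S) N hN = ind N' hN' := by
  subst h
  rfl

theorem ind_empty : ind (S := S) ∅ isClopen_empty = 0 := by
  apply Sec.ext
  intro t
  rw [ind_apply_notMem _ (Set.notMem_empty t), zero_apply]

/-- every prime of `Sec S` lies over a point of `T` -/
theorem exists_point (𝔮 : Ideal (Sec S)) [h𝔮 : 𝔮.IsPrime] :
    ∃ t₀ : T, ∀ (N : Set T) (hN : IsClopen N), t₀ ∈ N → ind N hN ∉ 𝔮 := by
  by_contra hcon
  push Not at hcon
  have key : ∃ (N : Set T) (hN : IsClopen N), Set.univ ⊆ N ∧ ind (S := S) N hN ∈ 𝔮 := by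
    refine IsCompact.induction_on (p := fun U => ∃ (N : Set T) (hN : IsClopen N),
      U ⊆ N ∧ ind (S := S) N hN ∈ 𝔮) isCompact_univ ?_ ?_ ?_ ?_
    · exact ⟨∅, isClopen_empty, subset_rfl, by rw [ind_empty]; exact 𝔮.zero_mem⟩
    · rintro s t hst ⟨N, hN, htN, hq⟩
      exact ⟨N, hN, hst.trans htN, hq⟩
    · rintro s t ⟨N, hN, hsN, hq⟩ ⟨N', hN', htN', hq'⟩
      refine ⟨N ∪ N', hN.union hN', Set.union_subset_union hsN htN', ?_⟩
      rw [ind_union hN hN']
      exact 𝔮.sub_mem (𝔮.add_mem hq hq') (𝔮.mul_mem_right _ hq)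
    · intro x _
      obtain ⟨N, hN, hxN, hq⟩ := hcon x
      exact ⟨N, mem_nhdsWithin_of_mem_nhds (hN.isOpen.mem_nhds hxN), N, hN, subset_rfl, hq⟩
  obtain ⟨N, hN, hsub, hq⟩ := key
  have hNu : N = Set.univ := Set.eq_univ_of_univ_subset hsub
  rw [ind_congr hN isClopen_univ hNu, ind_univ] at hq
  exact h𝔮.ne_top ((Ideal.eq_top_iff_one _).mpr hq)

/-- the point of `T` under a prime of `Sec S` -/
noncomputable def pt (𝔮 : PrimeSpectrum (Sec S)) : T := (exists_point 𝔮.asIdeal).choose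

theorem pt_spec (𝔮 : PrimeSpectrum (Sec S)) (N : Set T) (hN : IsClopen N) (h : pt 𝔮 ∈ N) :
    ind N hN ∉ 𝔮.asIdeal := (exists_point 𝔮.asIdeal).choose_spec N hN h

theorem mem_iff (𝔮 : PrimeSpectrum (Sec S)) (N : Set T) (hN : IsClopen N) :
    pt 𝔮 ∈ N ↔ ind N hN ∉ 𝔮.asIdeal := by
  refine ⟨pt_spec 𝔮 N hN, fun h => ?_⟩
  by_contra hpt
  have h1 := pt_spec 𝔮 Nᶜ hN.compl hpt
  have h2 : ind (S := S) N hN * ind Nᶜ hN.compl ∈ 𝔮.asIdeal := by
    rw [ind_mul_ind_compl]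
    exact 𝔮.asIdeal.zero_mem
  rcases 𝔮.2.mem_or_mem h2 with h3 | h3
  · exact h h3
  · exact h1 h3

theorem pt_eq_of_forall (𝔮 : PrimeSpectrum (Sec S)) (t : T)
    (h : ∀ (N : Set T) (hN : IsClopen N), t ∈ N → ind N hN ∉ 𝔮.asIdeal) : pt 𝔮 = t := by
  by_contra hne
  obtain ⟨N, hN, hptN, hNt⟩ := exists_clopen_nbhd (isOpen_compl_singleton (x := t))
    (show pt 𝔮 ∈ ({t} : Set T)ᶜ from hne)
  have htN : t ∈ Nᶜ := fun htN => hNt htN rfl
  have h1 := h Nᶜ hN.compl htN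
  rw [← mem_iff] at h1
  exact h1 hptN

theorem continuous_pt : Continuous (pt : PrimeSpectrum (Sec S) → T) := by
  rw [(isTopologicalBasis_isClopen (X := T)).continuous_iff]
  intro N hN
  have hN' : IsClopen N := hN
  have : pt ⁻¹' N = (PrimeSpectrum.basicOpen (ind (S := S) N hN') : Set (PrimeSpectrum (Sec S))) := by
    ext 𝔮
    exact mem_iff 𝔮 N hN'
  rw [this]
  exact (PrimeSpectrum.basicOpen _).2

theorem pt_eq_of_specializes {𝔮 𝔮' : PrimeSpectrum (Sec S)} (h : 𝔮 ⤳ 𝔮') : pt 𝔮 = pt 𝔮' :=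
  (h.map continuous_pt).eq

theorem pt_comap_ev (t : T) (𝔭 : PrimeSpectrum (Localization (S t))) :
    pt (PrimeSpectrum.comap (ev S t).toRingHom 𝔭) = t := by
  apply pt_eq_of_forall
  intro N hN htN hmem
  have h1 : ev S t (ind N hN) ∈ 𝔭.asIdeal := hmem
  rw [ev_apply, ind_apply_mem hN htN] at h1
  exact 𝔭.2.ne_top ((Ideal.eq_top_iff_one _).mpr h1)

variable (hS : ∀ a : A, IsOpen {t | a ∈ S t})
include hS

theorem ker_ev_le (𝔮 : PrimeSpectrum (Sec S)) :
    RingHom.ker (ev S (pt 𝔮)).toRingHom ≤ 𝔮.asIdeal := by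
  intro x hx
  have hx0 : x.1 (pt 𝔮) = 0 := hx
  obtain ⟨N, hN, htN, a, f, h⟩ := x.2 (pt 𝔮)
  obtain ⟨hf, hfa⟩ := h (pt 𝔮) htN
  rw [hx0, mul_zero] at hfa
  obtain ⟨⟨c, hc⟩, hca⟩ := (IsLocalization.map_eq_zero_iff (S (pt 𝔮)) _ a).mp hfa.symm
  obtain ⟨N', hN', htN', hN'U⟩ := exists_clopen_nbhd (hN.isOpen.inter (hS c))
    (show pt 𝔮 ∈ N ∩ {t | c ∈ S t} from ⟨htN, hc⟩)
  have hzero : x * ind N' hN' = 0 := by
    apply Sec.ext
    intro t
    rw [mul_apply, zero_apply]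
    by_cases ht : t ∈ N'
    · obtain ⟨htN, hct⟩ := hN'U ht
      obtain ⟨hft, hfat⟩ := h t htN
      have ha0 : algebraMap A (Localization (S t)) a = 0 := by
        apply (isUnit_of_mem (S := S) (t := t) hct).mul_left_cancel
        rw [← map_mul, mul_zero]
        change algebraMap A (Localization (S t)) (c * a) = 0
        rw [hca, map_zero]
      rw [ha0] at hfat
      have hx0 : x.1 t = 0 := by
        apply (isUnit_of_mem (S := S) (t := t) hft).mul_left_cancel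
        rw [hfat, mul_zero]
      rw [hx0, zero_mul]
    · rw [ind_apply_notMem hN' ht, mul_zero]
  have h2 : x * ind N' hN' ∈ 𝔮.asIdeal := by
    rw [hzero]
    exact 𝔮.asIdeal.zero_mem
  exact (𝔮.2.mem_or_mem h2).resolve_right (pt_spec 𝔮 N' hN' htN')

/-- every prime of `Sec S` is pulled back from a prime of the localization at its point -/
theorem exists_comap_ev (𝔮 : PrimeSpectrum (Sec S)) :
    ∃ 𝔭 : PrimeSpectrum (Localization (S (pt 𝔮))),
      PrimeSpectrum.comap (ev S (pt 𝔮)).toRingHom 𝔭 = 𝔮 := by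
  have hsurj : Function.Surjective (ev S (pt 𝔮)).toRingHom := ev_surjective hS (pt 𝔮)
  have hker := ker_ev_le hS 𝔮
  have hprime : (𝔮.asIdeal.map (ev S (pt 𝔮)).toRingHom).IsPrime :=
    Ideal.map_isPrime_of_surjective hsurj hker
  refine ⟨⟨_, hprime⟩, ?_⟩
  apply PrimeSpectrum.ext
  change (𝔮.asIdeal.map (ev S (pt 𝔮)).toRingHom).comap (ev S (pt 𝔮)).toRingHom = 𝔮.asIdeal
  rw [Ideal.comap_map_of_surjective _ hsurj, ← RingHom.ker_eq_comap_bot]
  exact sup_eq_left.mpr hker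

omit hS in
theorem comap_algebraMap_comap_ev (t : T) (𝔭 : PrimeSpectrum (Localization (S t))) :
    PrimeSpectrum.comap (algebraMap A (Sec S)) (PrimeSpectrum.comap (ev S t).toRingHom 𝔭) =
      PrimeSpectrum.comap (algebraMap A (Localization (S t))) 𝔭 := by
  apply PrimeSpectrum.ext
  ext a
  change ev S t (algebraMap A (Sec S) a) ∈ 𝔭.asIdeal ↔ algebraMap A (Localization (S t)) a ∈ 𝔭.asIdeal
  rw [AlgHom.commutes]

end Groth.Agent.Lib.Helper4.LocSec
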