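import Mathlib
import Groth.Prelude.Def_ProEtW
import Groth.Agent.Lib.Helper4.LocSec3

/-!
# The w-local case: `S t` is the complement of a prime `P t`
-/

set_option autoImplicit false
set_option linter.style.haveILetI false
set_option linter.unusedSectionVars false
universe u

namespace Groth.Agent.Lib.Helper4.LocSec

open Topology

variable {A : Type u} [CommRing A] {T : Type u} [TopologicalSpace T]
variable [CompactSpace T] [T2Space T] [TotallyDisconnectedSpace T]
variable (P : T → PrimeSpectrum A)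

/-- the submonoid family attached to a family of primes -/
def Sp : T → Submonoid A := fun t => (P t).asIdeal.primeCompl

variable (hP : ∀ a : A, IsClopen {t | a ∈ (P t).asIdeal})

include hP in
theorem hS_of_hP : ∀ a : A, IsOpen {t | a ∈ Sp P t} := by
  intro a
  have : {t | a ∈ Sp P t} = {t | a ∈ (P t).asIdeal}ᶜ := rfl
  rw [this]
  exact (hP a).compl.isOpen

instance (t : T) : IsLocalRing (Localization (Sp P t)) :=
  inferInstanceAs (IsLocalRing (Localization.AtPrime (P t).asIdeal))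

/-- the closed point over `t` -/
noncomputable def mpt (t : T) : PrimeSpectrum (Sec (Sp P)) :=
  PrimeSpectrum.comap (ev (Sp P) t).toRingHom (IsLocalRing.closedPoint (Localization (Sp P t)))

theorem pt_mpt (t : T) : pt (mpt P t) = t := pt_comap_ev t _

theorem mem_mpt_iff (t : T) (s : Sec (Sp P)) :
    s ∈ (mpt P t).asIdeal ↔ s.1 t ∈ IsLocalRing.maximalIdeal (Localization (Sp P t)) := Iff.rfl

theorem comap_mpt (t : T) : PrimeSpectrum.comap (algebraMap A (Sec (Sp P))) (mpt P t) = P t := by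
  rw [mpt, comap_algebraMap_comap_ev]
  apply PrimeSpectrum.ext
  exact Localization.AtPrime.under_maximalIdeal (I := (P t).asIdeal)

include hP in
theorem isMaximal_mpt (t : T) : (mpt P t).asIdeal.IsMaximal := by
  have hsurj : Function.Surjective (ev (Sp P) t).toRingHom := ev_surjective (hS_of_hP P hP) t
  exact Ideal.comap_isMaximal_of_surjective (ev (Sp P) t).toRingHom hsurj
    (K := IsLocalRing.maximalIdeal (Localization (Sp P t)))

include hP in
theorem le_mpt (𝔮 : PrimeSpectrum (Sec (Sp P))) : 𝔮 ≤ mpt P (pt 𝔮) := by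
  obtain ⟨𝔭, h𝔭⟩ := exists_comap_ev (hS_of_hP P hP) 𝔮
  intro s hs
  rw [← h𝔭] at hs
  have hs' : s.1 (pt 𝔮) ∈ 𝔭.asIdeal := hs
  rw [mem_mpt_iff]
  exact IsLocalRing.le_maximalIdeal 𝔭.2.ne_top hs'

include hP in
theorem isClosed_singleton_iff (𝔮 : PrimeSpectrum (Sec (Sp P))) :
    IsClosed ({𝔮} : Set (PrimeSpectrum (Sec (Sp P)))) ↔ 𝔮 = mpt P (pt 𝔮) := by
  rw [PrimeSpectrum.isClosed_singleton_iff_isMaximal]
  constructor
  · intro hmax
    apply PrimeSpectrum.ext
    exact hmax.eq_of_le (isMaximal_mpt P hP (pt 𝔮)).ne_top (le_mpt P hP 𝔮)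
  · intro h
    rw [h]
    exact isMaximal_mpt P hP _

include hP in
theorem closedPoints_eq_zeroLocus :
    {𝔮 : PrimeSpectrum (Sec (Sp P)) | IsClosed ({𝔮} : Set (PrimeSpectrum (Sec (Sp P))))} =
      PrimeSpectrum.zeroLocus ((⨅ t, (mpt P t).asIdeal : Ideal (Sec (Sp P))) : Set (Sec (Sp P))) := by
  ext 𝔮
  constructor
  · intro h𝔮
    have h1 : 𝔮 = mpt P (pt 𝔮) := (isClosed_singleton_iff P hP 𝔮).mp h𝔮
    intro s hs
    rw [h1]
    exact (Ideal.mem_iInf.mp hs) (pt 𝔮)
  · intro h𝔮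
    have hsub : (⨅ t, (mpt P t).asIdeal : Ideal (Sec (Sp P))) ≤ 𝔮.asIdeal := h𝔮
    rw [Set.mem_setOf_eq, isClosed_singleton_iff P hP]
    obtain ⟨𝔭, h𝔭⟩ := exists_comap_ev (hS_of_hP P hP) 𝔮
    apply le_antisymm (le_mpt P hP 𝔮)
    intro s hs
    rw [mem_mpt_iff] at hs
    -- `s (pt 𝔮)` lies in the maximal ideal; write it as a fraction
    have h𝔭' : ∀ x : Sec (Sp P), x ∈ 𝔮.asIdeal ↔ x.1 (pt 𝔮) ∈ 𝔭.asIdeal := by
      intro x
      have : 𝔮.asIdeal = 𝔭.asIdeal.comap (ev (Sp P) (pt 𝔮)).toRingHom :=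
        congrArg PrimeSpectrum.asIdeal h𝔭.symm
      rw [this]
      rfl
    obtain ⟨a, ⟨f, hf⟩, hx⟩ := IsLocalization.exists_mk'_eq (Sp P (pt 𝔮)) (s.1 (pt 𝔮))
    have ha : a ∈ (P (pt 𝔮)).asIdeal := by
      rw [← hx] at hs
      exact (IsLocalization.AtPrime.mk'_mem_maximal_iff
        (Localization.AtPrime (P (pt 𝔮)).asIdeal)
        (P (pt 𝔮)).asIdeal a ⟨f, hf⟩).mp hs
    obtain ⟨N, hN, htN, hNU⟩ := exists_clopen_nbhd
      ((hP a).isOpen.inter (hS_of_hP P hP f))
      (show pt 𝔮 ∈ {t | a ∈ (P t).asIdeal} ∩ {t | f ∈ Sp P t} from ⟨ha, hf⟩)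
    let s' : Sec (Sp P) := frac N hN a f (fun t ht => (hNU ht).2)
    have hs'I : s' ∈ (⨅ t, (mpt P t).asIdeal : Ideal (Sec (Sp P))) := by
      rw [Ideal.mem_iInf]
      intro t
      rw [mem_mpt_iff]
      by_cases ht : t ∈ N
      · rw [frac_apply_mem hN a f _ ht, Localization.mk_eq_mk']
        exact (IsLocalization.AtPrime.mk'_mem_maximal_iff (Localization.AtPrime (P t).asIdeal)
          (P t).asIdeal a ⟨f, (hNU ht).2⟩).mpr (hNU ht).1
      · rw [frac_apply_notMem hN a f _ ht]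
        exact Ideal.zero_mem _
    have h2 : s' ∈ 𝔮.asIdeal := hsub hs'I
    rw [h𝔭'] at h2 ⊢
    rw [frac_apply_mem hN a f _ htN, Localization.mk_eq_mk', hx] at h2
    exact h2

include hP in
/-- **`Spec (Sec (Sp P))` is w-local.** -/
theorem isWLocal_sec : ProEtW.IsWLocal (PrimeSpectrum (Sec (Sp P))) := by
  refine ⟨inferInstance, ?_, ?_⟩
  · rw [closedPoints_eq_zeroLocus P hP]
    exact PrimeSpectrum.isClosed_zeroLocus _
  · intro 𝔮
    refine ⟨mpt P (pt 𝔮), ⟨?_, ?_⟩, ?_⟩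
    · rw [isClosed_singleton_iff P hP, pt_mpt]
    · exact (PrimeSpectrum.le_iff_specializes _ _).mp (le_mpt P hP 𝔮)
    · rintro y ⟨hy, hqy⟩
      rw [isClosed_singleton_iff P hP] at hy
      rw [hy, ← pt_eq_of_specializes hqy]

include hP in
theorem closedPoints_eq_range :
    ProEtW.closedPoints (PrimeSpectrum (Sec (Sp P))) = Set.range (mpt P) := by
  ext 𝔮
  constructor
  · intro h
    exact ⟨pt 𝔮, ((isClosed_singleton_iff P hP 𝔮).mp h).symm⟩
  · rintro ⟨t, rfl⟩
    change IsClosed _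
    rw [isClosed_singleton_iff P hP, pt_mpt]

end Groth.Agent.Lib.Helper4.LocSec
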