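import Mathlib
import Groth.Prelude.Def_PBC
import Groth.Agent.Lib.Helper4.LocSec3

/-!
# `A → Sec S` identifies local rings; flatness
-/

set_option autoImplicit false
set_option linter.style.haveILetI false
set_option linter.unusedSectionVars false
universe u

namespace Groth.Agent.Lib.Helper4.LocSec

open Topology

variable {A : Type u} [CommRing A] {T : Type u} [TopologicalSpace T] {S : T → Submonoid A}
variable [CompactSpace T] [T2Space T] [TotallyDisconnectedSpace T]
variable (hS : ∀ a : A, IsOpen {t | a ∈ S t})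

include hS in
set_option maxHeartbeats 1000000 in
theorem identifiesLocalRings_sec : EtPBC.IdentifiesLocalRings A (Sec S) := by
  classical
  intro 𝔮
  obtain ⟨𝔭, h𝔭⟩ := exists_comap_ev hS 𝔮
  have hq : ∀ x : Sec S, x ∈ 𝔮.asIdeal ↔ x.1 (pt 𝔮) ∈ 𝔭.asIdeal := by
    intro x
    have : 𝔮.asIdeal = 𝔭.asIdeal.comap (ev S (pt 𝔮)).toRingHom :=
      congrArg PrimeSpectrum.asIdeal h𝔭.symm
    rw [this]
    rfl
  have hp : ∀ a : A, a ∈ 𝔮.asIdeal.comap (algebraMap A (Sec S)) ↔
      algebraMap A (Localization (S (pt 𝔮))) a ∈ 𝔭.asIdeal := by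
    intro a
    rw [Ideal.mem_comap, hq]
    rfl
  have hunit_notMem : ∀ u : Localization (S (pt 𝔮)), IsUnit u → u ∉ 𝔭.asIdeal := by
    intro u hu hmem
    exact 𝔭.2.ne_top (Ideal.eq_top_of_isUnit_mem _ hmem hu)
  constructor
  · rw [injective_iff_map_eq_zero]
    intro x hx
    obtain ⟨a, s', rfl⟩ := IsLocalization.exists_mk'_eq
      (𝔮.asIdeal.comap (algebraMap A (Sec S))).primeCompl x
    rw [Localization.localRingHom_mk', IsLocalization.mk'_eq_zero_iff] at hx
    obtain ⟨⟨m, hm⟩, hma⟩ := hx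
    have hm' : m.1 (pt 𝔮) ∉ 𝔭.asIdeal := fun h => hm ((hq m).mpr h)
    have hma' : m.1 (pt 𝔮) * algebraMap A (Localization (S (pt 𝔮))) a = 0 := by
      have := congrArg (fun s : Sec S => s.1 (pt 𝔮)) hma
      exact this
    obtain ⟨a', ⟨f', hf'⟩, hm1⟩ := IsLocalization.exists_mk'_eq (S (pt 𝔮)) (m.1 (pt 𝔮))
    have ha' : a' ∉ 𝔮.asIdeal.comap (algebraMap A (Sec S)) := by
      intro h
      rw [hp] at h
      apply hm'
      rw [← hm1, IsLocalization.mk'_eq_mul_mk'_one]
      exact Ideal.mul_mem_right _ _ h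
    have h0 : algebraMap A (Localization (S (pt 𝔮))) (a' * a) = 0 := by
      have hfu := isUnit_of_mem (S := S) (t := pt 𝔮) hf'
      have h1 : algebraMap A (Localization (S (pt 𝔮))) f' * m.1 (pt 𝔮) =
          algebraMap A (Localization (S (pt 𝔮))) a' := by
        rw [← hm1]
        exact IsLocalization.mk'_spec' _ a' ⟨f', hf'⟩
      rw [map_mul, ← h1, mul_assoc, hma', mul_zero]
    obtain ⟨⟨c, hc⟩, hca⟩ := (IsLocalization.map_eq_zero_iff (S (pt 𝔮)) _ _).mp h0
    have hcp : c ∉ 𝔮.asIdeal.comap (algebraMap A (Sec S)) := by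
      intro h
      rw [hp] at h
      exact hunit_notMem _ (isUnit_of_mem (S := S) (t := pt 𝔮) hc) h
    rw [IsLocalization.mk'_eq_zero_iff]
    refine ⟨⟨c * a', ?_⟩, ?_⟩
    · intro h
      rcases (Ideal.IsPrime.comap (algebraMap A (Sec S))).mem_or_mem h with h | h
      · exact hcp h
      · exact ha' h
    · change c * a' * a = 0
      rw [mul_assoc]
      exact hca
  · intro y
    obtain ⟨b, ⟨b', hb'⟩, rfl⟩ := IsLocalization.exists_mk'_eq 𝔮.asIdeal.primeCompl y
    obtain ⟨N, f, hN, htN, hfN, hF⟩ := exists_common_frac hS {b, b'} (pt 𝔮)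
    obtain ⟨a, ha⟩ := hF b (by simp)
    obtain ⟨a', ha'⟩ := hF b' (by simp)
    have hfu := isUnit_of_mem (S := S) (t := pt 𝔮) (hfN _ htN)
    have ha'p : a' ∉ 𝔮.asIdeal.comap (algebraMap A (Sec S)) := by
      intro h
      rw [hp, ← ha' _ htN] at h
      have hb'' : b'.1 (pt 𝔮) ∉ 𝔭.asIdeal := fun h => hb' ((hq b').mpr h)
      rcases 𝔭.2.mem_or_mem h with h | h
      · exact hunit_notMem _ hfu h
      · exact hb'' h
    refine ⟨IsLocalization.mk' (Localization.AtPrime (𝔮.asIdeal.comap (algebraMap A (Sec S)))) a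
      (⟨a', ha'p⟩ : (𝔮.asIdeal.comap (algebraMap A (Sec S))).primeCompl), ?_⟩
    rw [Localization.localRingHom_mk', IsLocalization.eq]
    refine ⟨⟨ind N hN, (mem_iff 𝔮 N hN).mp htN⟩, ?_⟩
    apply Sec.ext
    intro t
    change (ind N hN).1 t * (b'.1 t * algebraMap A (Localization (S t)) a) =
      (ind N hN).1 t * (algebraMap A (Localization (S t)) a' * b.1 t)
    by_cases ht : t ∈ N
    · rw [← ha t ht, ← ha' t ht]
      ring
    · rw [ind_apply_notMem hN ht, zero_mul, zero_mul]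

include hS in
theorem flat_sec : Module.Flat A (Sec S) := by
  rw [← RingHom.flat_algebraMap_iff]
  apply RingHom.Flat.ofLocalizationPrime
  intro J hJ
  exact RingHom.Flat.of_bijective (identifiesLocalRings_sec hS ⟨J, hJ⟩)

end Groth.Agent.Lib.Helper4.LocSec
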