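import Mathlib
import Groth.Prelude.Def_ProEtW
import Groth.Agent.Lib.Helper4.LocSec2
import Groth.Agent.Lib.Helper4.LocSec4
import Groth.Agent.Lib.Helper4.LocSec5
import Groth.Agent.Lib.Helper20.SpecTop

/-!
# The w-local case: connected components, faithful flatness
-/

set_option autoImplicit false
set_option linter.style.haveILetI false
set_option linter.unusedSectionVars false
universe u

namespace Groth.Agent.Lib.Helper4.LocSec

open Topology

variable {A : Type u} [CommRing A] {T : Type u} [TopologicalSpace T]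
variable [CompactSpace T] [T2Space T] [TotallyDisconnectedSpace T]
variable (P : T → PrimeSpectrum A)
variable (hP : ∀ a : A, IsClopen {t | a ∈ (P t).asIdeal})

include hP in
/-- `π₀ (Spec (Sec (Sp P))) ≃ₜ T` -/
theorem exists_connHomeo :
    ∃ e : _root_.ConnectedComponents (PrimeSpectrum (Sec (Sp P))) ≃ₜ T,
      ∀ 𝔮 : PrimeSpectrum (Sec (Sp P)), e (_root_.ConnectedComponents.mk 𝔮) = pt 𝔮 := by
  have hcont : Continuous (pt : PrimeSpectrum (Sec (Sp P)) → T) := continuous_pt
  let e0 : _root_.ConnectedComponents (PrimeSpectrum (Sec (Sp P))) → T :=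
    hcont.connectedComponentsLift
  have he0 : Continuous e0 := hcont.connectedComponentsLift_continuous
  have he0app : ∀ 𝔮, e0 (_root_.ConnectedComponents.mk 𝔮) = pt 𝔮 :=
    fun 𝔮 => hcont.connectedComponentsLift_apply_coe 𝔮
  have hmk : ∀ 𝔮 : PrimeSpectrum (Sec (Sp P)),
      _root_.ConnectedComponents.mk 𝔮 = _root_.ConnectedComponents.mk (mpt P (pt 𝔮)) := by
    intro 𝔮
    exact (Groth.Agent.Lib.Helper20.SpecTop.mk_eq_of_specializes
      ((PrimeSpectrum.le_iff_specializes _ _).mp (le_mpt P hP 𝔮))).symm
  have hbij : Function.Bijective e0 := by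
    constructor
    · intro c c' hcc
      obtain ⟨y, rfl⟩ := _root_.ConnectedComponents.surjective_coe c
      obtain ⟨y', rfl⟩ := _root_.ConnectedComponents.surjective_coe c'
      change e0 (_root_.ConnectedComponents.mk y) = e0 (_root_.ConnectedComponents.mk y') at hcc
      rw [he0app, he0app] at hcc
      change _root_.ConnectedComponents.mk y = _root_.ConnectedComponents.mk y'
      rw [hmk y, hmk y', hcc]
    · intro t
      exact ⟨_root_.ConnectedComponents.mk (mpt P t), by rw [he0app, pt_mpt]⟩
  let eq : _root_.ConnectedComponents (PrimeSpectrum (Sec (Sp P))) ≃ T := Equiv.ofBijective e0 hbij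
  have heq : Continuous eq := he0
  exact ⟨heq.homeoOfEquivCompactToT2, he0app⟩

include hP in
theorem faithfullyFlat_sec (hsurj : Function.Surjective P) :
    Module.FaithfullyFlat A (Sec (Sp P)) := by
  have hflat : Module.Flat A (Sec (Sp P)) := flat_sec (hS_of_hP P hP)
  apply Module.FaithfullyFlat.of_comap_surjective
  intro p
  obtain ⟨t, rfl⟩ := hsurj p
  exact ⟨mpt P t, comap_mpt P t⟩

include hP in
theorem isIndZariski_sec_sp : EtPBC.IsIndZariski A (Sec (Sp P)) :=
  isIndZariski_sec (hS_of_hP P hP)

end Groth.Agent.Lib.Helper4.LocSec
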