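import Mathlib
import Groth.Prelude.Def_ProEtW
import Groth.Agent.Lib.Helper4.LocSec6
import Groth.Agent.Lib.Helper4.WLocMisc
import Groth.Agent.Lib.Helper20.SpecTop
import Groth.Agent.S0699

/-!
# A w-local ring is the ring of sections over its closed points
-/

set_option autoImplicit false
set_option linter.style.haveILetI false
set_option linter.unusedSectionVars false
universe u

namespace Groth.Agent.Lib.Helper4.LocSec

open Topology Groth.Agent.Lib.Helper20.SpecTop

variable (B : Type u) [CommRing B]

/-- the closed points as a type -/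
abbrev TB : Type u := ↥(ProEtW.closedPoints (PrimeSpectrum B))

/-- the inclusion of the closed points -/
def PB : TB B → PrimeSpectrum B := Subtype.val

variable {B}

theorem profinite_closedPoints (hB : ProEtW.IsWLocal (PrimeSpectrum B)) :
    CompactSpace (TB B) ∧ T2Space (TB B) ∧ TotallyDisconnectedSpace (TB B) := by
  obtain ⟨hs, h0, hu⟩ := hB
  haveI := hs
  have hc : CompactSpace (TB B) := isCompact_iff_compactSpace.mp h0.isCompact
  have hbij := closedPoints_bijective_of_wLocal (X := PrimeSpectrum B) h0 hu
  haveI : T2Space (_root_.ConnectedComponents (PrimeSpectrum B)) := t2Space_connectedComponents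
  let κ : TB B → _root_.ConnectedComponents (PrimeSpectrum B) :=
    fun x => _root_.ConnectedComponents.mk x.1
  have hκ : Continuous κ :=
    _root_.ConnectedComponents.continuous_coe.comp continuous_subtype_val
  have hκb : Function.Bijective κ := hbij
  let eq : TB B ≃ _root_.ConnectedComponents (PrimeSpectrum B) := Equiv.ofBijective κ hκb
  have heq : Continuous eq := hκ
  let e : TB B ≃ₜ _root_.ConnectedComponents (PrimeSpectrum B) := heq.homeoOfEquivCompactToT2
  refine ⟨hc, e.symm.t2Space, ?_⟩
  rw [← e.isEmbedding.isTotallyDisconnected_range]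
  exact isTotallyDisconnected_of_totallyDisconnectedSpace _

variable [CompactSpace (TB B)] [T2Space (TB B)]

theorem hPB (hB : ProEtW.IsWLocal (PrimeSpectrum B)) :
    ∀ b : B, IsClopen {t : TB B | b ∈ (PB B t).asIdeal} := by
  intro b
  obtain ⟨hs, h0, hu⟩ := hB
  constructor
  · have : {t : TB B | b ∈ (PB B t).asIdeal} =
        (Subtype.val : TB B → PrimeSpectrum B) ⁻¹' (PrimeSpectrum.zeroLocus {b}) := by
      ext t
      simp [PB]
    rw [this]
    exact (PrimeSpectrum.isClosed_zeroLocus _).preimage continuous_subtype_val
  · rw [← isClosed_compl_iff]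
    have : {t : TB B | b ∈ (PB B t).asIdeal}ᶜ =
        (Subtype.val : TB B → PrimeSpectrum B) ⁻¹' (PrimeSpectrum.basicOpen b : Set _) := by
      ext t
      rfl
    rw [this]
    apply IsCompact.isClosed
    apply Topology.IsInducing.isCompact_preimage Topology.IsInducing.subtypeVal
    · rw [Subtype.range_coe]
      exact h0
    · exact PrimeSpectrum.isCompact_basicOpen b

variable [TotallyDisconnectedSpace (TB B)]

theorem mk_eq_mk_mpt {A : Type u} [CommRing A] {T : Type u} [TopologicalSpace T]
    [CompactSpace T] [T2Space T] [TotallyDisconnectedSpace T]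
    (P : T → PrimeSpectrum A) (hP : ∀ a : A, IsClopen {t | a ∈ (P t).asIdeal})
    (𝔮 : PrimeSpectrum (Sec (Sp P))) :
    _root_.ConnectedComponents.mk 𝔮 = _root_.ConnectedComponents.mk (mpt P (pt 𝔮)) :=
  (mk_eq_of_specializes ((PrimeSpectrum.le_iff_specializes _ _).mp (le_mpt P hP 𝔮))).symm

/-- a w-local ring is its own ring of sections over the closed points -/
theorem bijective_algebraMap_sec (hB : ProEtW.IsWLocal (PrimeSpectrum B)) :
    Function.Bijective (algebraMap B (Sec (Sp (PB B)))) := by
  have hP := hPB hB
  have hS := hS_of_hP (PB B) hP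
  obtain ⟨hs, h0, hu⟩ := hB
  haveI := hs
  have hbij := closedPoints_bijective_of_wLocal (X := PrimeSpectrum B) h0 hu
  have hcont : Continuous (PrimeSpectrum.comap (algebraMap B (Sec (Sp (PB B))))) :=
    PrimeSpectrum.continuous_comap _
  apply Groth.Agent.S0699.result B (Sec (Sp (PB B))) (identifiesLocalRings_sec hS) ⟨hs, h0, hu⟩
    (isWLocal_sec (PB B) hP)
  · refine ⟨WLocMisc.isSpectralMap_comap _, ?_⟩
    intro x hx
    have hx' : x ∈ ProEtW.closedPoints (PrimeSpectrum (Sec (Sp (PB B)))) := hx
    rw [closedPoints_eq_range (PB B) hP] at hx'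
    obtain ⟨t, rfl⟩ := hx'
    rw [comap_mpt]
    exact t.2
  · constructor
    · intro c c' hcc
      obtain ⟨y, rfl⟩ := _root_.ConnectedComponents.surjective_coe c
      obtain ⟨y', rfl⟩ := _root_.ConnectedComponents.surjective_coe c'
      change hcont.connectedComponentsMap (_root_.ConnectedComponents.mk y) =
        hcont.connectedComponentsMap (_root_.ConnectedComponents.mk y') at hcc
      change _root_.ConnectedComponents.mk y = _root_.ConnectedComponents.mk y'
      rw [mk_eq_mk_mpt (PB B) hP y, mk_eq_mk_mpt (PB B) hP y'] at hcc ⊢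
      rw [Continuous.connectedComponentsMap_mk, Continuous.connectedComponentsMap_mk,
        comap_mpt, comap_mpt] at hcc
      have := hbij.1 hcc
      rw [this]
    · intro d
      obtain ⟨t, ht⟩ := hbij.2 d
      refine ⟨_root_.ConnectedComponents.mk (mpt (PB B) t), ?_⟩
      rw [Continuous.connectedComponentsMap_mk, comap_mpt]
      exact ht

end Groth.Agent.Lib.Helper4.LocSec
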