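import Mathlib
import Groth.Prelude.Def_ProEtW
import Groth.Agent.Lib.Helper4.LocSec13

/-!
# Auxiliary lemmas on w-local spaces and quotient maps
-/

set_option autoImplicit false
set_option linter.style.haveILetI false
set_option linter.unusedSectionVars false
universe u

namespace Groth.Agent.Lib.Helper4.WLocRetr

open Topology Groth.Agent.Lib.Helper20.SpecTop Groth.Agent.Lib.Helper4.LocSec

theorem isClosed_singleton_iff_of_isClosedEmbedding {X Y : Type*} [TopologicalSpace X]
    [TopologicalSpace Y] {ι : X → Y} (hι : IsClosedEmbedding ι) (x : X) :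
    IsClosed ({x} : Set X) ↔ IsClosed ({ι x} : Set Y) := by
  constructor
  · intro h
    have := hι.isClosedMap _ h
    rwa [Set.image_singleton] at this
  · intro h
    have h1 := h.preimage hι.continuous
    have h2 : ι ⁻¹' {ι x} = {x} := by
      ext y
      simp only [Set.mem_preimage, Set.mem_singleton_iff]
      exact ⟨fun h => hι.injective h, fun h => by rw [h]⟩
    rwa [h2] at h1

/-- a spectral space closed-embedded in a w-local space is w-local -/
theorem isWLocal_of_isClosedEmbedding {X Y : Type u} [TopologicalSpace X] [TopologicalSpace Y]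
    [SpectralSpace X] (ι : X → Y) (hι : IsClosedEmbedding ι) (hY : ProEtW.IsWLocal Y) :
    ProEtW.IsWLocal X := by
  obtain ⟨hYs, hY0, hYu⟩ := hY
  have hcl := isClosed_singleton_iff_of_isClosedEmbedding hι
  refine ⟨inferInstance, ?_, ?_⟩
  · have : {x : X | IsClosed ({x} : Set X)} = ι ⁻¹' {y | IsClosed ({y} : Set Y)} := by
      ext x
      exact hcl x
    rw [this]
    exact hY0.preimage hι.continuous
  · intro x
    obtain ⟨z, ⟨hz1, hz2⟩, hz3⟩ := hYu (ι x)
    have hzr : z ∈ Set.range ι := by
      have h1 : z ∈ closure ({ι x} : Set Y) := specializes_iff_mem_closure.mp hz2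
      have hsub : closure ({ι x} : Set Y) ⊆ Set.range ι :=
        hι.isClosed_range.closure_subset_iff.mpr (by rintro _ rfl; exact ⟨x, rfl⟩)
      exact hsub h1
    obtain ⟨y, rfl⟩ := hzr
    refine ⟨y, ⟨(hcl y).mpr hz1, hι.isInducing.specializes_iff.mp hz2⟩, ?_⟩
    rintro y' ⟨hy'1, hy'2⟩
    apply hι.injective
    exact hz3 (ι y') ⟨(hcl y').mp hy'1, hy'2.map hι.continuous⟩

theorem exists_homeo_closedPoints {B : Type u} [CommRing B]
    (hB : ProEtW.IsWLocal (PrimeSpectrum B)) :
    ∃ e : TB B ≃ₜ _root_.ConnectedComponents (PrimeSpectrum B),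
      ∀ t : TB B, e t = _root_.ConnectedComponents.mk t.1 := by
  obtain ⟨hs, h0, hu⟩ := hB
  haveI := hs
  haveI hc : CompactSpace (TB B) := isCompact_iff_compactSpace.mp h0.isCompact
  have hbij := closedPoints_bijective_of_wLocal (X := PrimeSpectrum B) h0 hu
  haveI : T2Space (_root_.ConnectedComponents (PrimeSpectrum B)) := t2Space_connectedComponents
  let κ : TB B → _root_.ConnectedComponents (PrimeSpectrum B) :=
    fun x => _root_.ConnectedComponents.mk x.1
  have hκ : Continuous κ :=
    _root_.ConnectedComponents.continuous_coe.comp continuous_subtype_val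
  have hκb : Function.Bijective κ := hbij
  let eq : TB B ≃ _root_.ConnectedComponents (PrimeSpectrum B) := Equiv.ofBijective κ hκb
  have heq : Continuous eq := hκ
  exact ⟨heq.homeoOfEquivCompactToT2, fun _ => rfl⟩

/-- lifting primes along a map that is bijective modulo an ideal -/
theorem exists_prime_over_of_bijective_quotientMap {B C : Type u} [CommRing B] [CommRing C]
    [Algebra B C] (J : Ideal B)
    (hbij : Function.Bijective (Ideal.quotientMap (J.map (algebraMap B C)) (algebraMap B C)
      Ideal.le_comap_map))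
    (q : PrimeSpectrum B) (hq : J ≤ q.asIdeal) :
    ∃ r : PrimeSpectrum C, PrimeSpectrum.comap (algebraMap B C) r = q ∧
      J.map (algebraMap B C) ≤ r.asIdeal := by
  let ρ : (B ⧸ J) ≃+* (C ⧸ J.map (algebraMap B C)) := RingEquiv.ofBijective _ hbij
  have hρ : ∀ b : B, ρ (Ideal.Quotient.mk J b) =
      Ideal.Quotient.mk (J.map (algebraMap B C)) (algebraMap B C b) := fun b => rfl
  have hqprime : (q.asIdeal.map (Ideal.Quotient.mk J)).IsPrime :=
    Ideal.map_isPrime_of_surjective Ideal.Quotient.mk_surjective (by rwa [Ideal.mk_ker])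
  let qbar : PrimeSpectrum (B ⧸ J) := ⟨_, hqprime⟩
  let rbar : PrimeSpectrum (C ⧸ J.map (algebraMap B C)) :=
    PrimeSpectrum.comap ρ.symm.toRingHom qbar
  let r : PrimeSpectrum C := PrimeSpectrum.comap (Ideal.Quotient.mk (J.map (algebraMap B C))) rbar
  have hr : ∀ c : C, c ∈ r.asIdeal ↔
      ρ.symm (Ideal.Quotient.mk (J.map (algebraMap B C)) c) ∈
        q.asIdeal.map (Ideal.Quotient.mk J) := fun c => Iff.rfl
  refine ⟨r, ?_, ?_⟩
  · apply PrimeSpectrum.ext
    ext b
    change algebraMap B C b ∈ r.asIdeal ↔ b ∈ q.asIdeal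
    rw [hr, ← hρ, RingEquiv.symm_apply_apply, Ideal.mem_quotient_iff_mem hq]
  · intro c hc
    rw [hr, Ideal.Quotient.eq_zero_iff_mem.mpr hc, map_zero]
    exact Ideal.zero_mem _

end Groth.Agent.Lib.Helper4.WLocRetr
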