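import Mathlib
import Groth.Prelude.Def_ProEtW

/-!
# Rings over which faithfully flat étale algebras have retractions: maps to local rings
-/

set_option autoImplicit false
universe u

namespace Groth.Agent.Lib.Helper4.EtRetr

open IsLocalRing

/-- the two-element family of rings -/
def Fam2 (B₁ B₂ : Type u) : Bool → Type u
  | true => B₁
  | false => B₂

instance instCommRingFam2 (B₁ B₂ : Type u) [CommRing B₁] [CommRing B₂] :
    ∀ i, CommRing (Fam2 B₁ B₂ i)
  | true => inferInstanceAs (CommRing B₁)
  | false => inferInstanceAs (CommRing B₂)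

instance instAlgebraFam2 (A : Type u) [CommRing A] (B₁ B₂ : Type u) [CommRing B₁] [CommRing B₂]
    [Algebra A B₁] [Algebra A B₂] : ∀ i, Algebra A (Fam2 B₁ B₂ i)
  | true => inferInstanceAs (Algebra A B₁)
  | false => inferInstanceAs (Algebra A B₂)

instance instEtaleFam2 (A : Type u) [CommRing A] (B₁ B₂ : Type u) [CommRing B₁] [CommRing B₂]
    [Algebra A B₁] [Algebra A B₂] [Algebra.Etale A B₁] [Algebra.Etale A B₂] :
    ∀ i, Algebra.Etale A (Fam2 B₁ B₂ i)
  | true => inferInstanceAs (Algebra.Etale A B₁)
  | false => inferInstanceAs (Algebra.Etale A B₂)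

/-- In a local ring an idempotent is `0` or `1`. -/
theorem eq_zero_or_eq_one_of_isIdempotentElem {L : Type*} [CommRing L] [IsLocalRing L] {e : L}
    (he : IsIdempotentElem e) : e = 0 ∨ e = 1 := by
  rcases IsLocalRing.isUnit_or_isUnit_one_sub_self e with h | h
  · right
    have h1 : e * e = e * 1 := by rw [mul_one]; exact he
    exact h.mul_left_cancel h1
  · left
    have h1 : (1 - e) * e = (1 - e) * 0 := by
      rw [mul_zero, sub_mul, one_mul, he.eq, sub_self]
    exact h.mul_left_cancel h1

section Cover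

variable (A : Type u) [CommRing A] (B₁ B₂ : Type u) [CommRing B₁] [CommRing B₂]
  [Algebra A B₁] [Algebra A B₂] [Algebra.Etale A B₁] [Algebra.Etale A B₂]

/-- A retraction of the product of a two-piece étale cover gives a map from one of the pieces to
any local `A`-algebra. -/
theorem exists_algHom_of_cover (h : ProEtW.HasEtaleRetractions A)
    (hcov : ∀ p : PrimeSpectrum A, p ∈ Set.range (PrimeSpectrum.comap (algebraMap A B₁)) ∨
      p ∈ Set.range (PrimeSpectrum.comap (algebraMap A B₂)))
    (L : Type u) [CommRing L] [IsLocalRing L] [Algebra A L] :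
    Nonempty (B₁ →ₐ[A] L) ∨ Nonempty (B₂ →ₐ[A] L) := by
  classical
  have hflat : Module.Flat A (Π i, Fam2 B₁ B₂ i) := Algebra.Smooth.flat A _
  have hff : Module.FaithfullyFlat A (Π i, Fam2 B₁ B₂ i) := by
    refine Module.FaithfullyFlat.of_comap_surjective fun p => ?_
    rcases hcov p with ⟨P, hP⟩ | ⟨P, hP⟩
    · refine ⟨PrimeSpectrum.comap (Pi.evalRingHom (Fam2 B₁ B₂) true) P, ?_⟩
      rw [← hP]
      rfl
    · refine ⟨PrimeSpectrum.comap (Pi.evalRingHom (Fam2 B₁ B₂) false) P, ?_⟩
      rw [← hP]
      rfl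
  obtain ⟨ρ⟩ := h (Π i, Fam2 B₁ B₂ i) hff inferInstance
  let ι : A →+* L := algebraMap A L
  -- the idempotents
  let e₁ : A := ρ (Pi.single true (1 : Fam2 B₁ B₂ true))
  let e₂ : A := ρ (Pi.single false (1 : Fam2 B₁ B₂ false))
  have hsum : e₁ + e₂ = 1 := by
    have h1 : (Pi.single true (1 : Fam2 B₁ B₂ true) + Pi.single false (1 : Fam2 B₁ B₂ false) : Π i, Fam2 B₁ B₂ i) = 1 := by
      funext i
      cases i
      · rw [Pi.add_apply, Pi.one_apply, Pi.single_eq_of_ne (by decide), Pi.single_eq_same,
          zero_add]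
      · rw [Pi.add_apply, Pi.one_apply, Pi.single_eq_same, Pi.single_eq_of_ne (by decide),
          add_zero]
    change ρ _ + ρ _ = 1
    rw [← map_add, h1, map_one]
  have hid₁ : IsIdempotentElem (ι e₁) := by
    change ι e₁ * ι e₁ = ι e₁
    rw [← map_mul]
    congr 1
    change ρ _ * ρ _ = ρ _
    rw [← map_mul, ← Pi.single_mul, one_mul]
  have key : ∀ (b : Bool) (e : A), e = ρ (Pi.single b (1 : Fam2 B₁ B₂ b)) → ι e = 1 →
      Nonempty (Fam2 B₁ B₂ b →ₐ[A] L) := by
    intro b e he hιe
    refine ⟨{ toFun := fun x => ι (ρ (Pi.single b x))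
              map_one' := by rw [← he]; exact hιe
              map_mul' := fun x y => by rw [Pi.single_mul, map_mul, map_mul]
              map_zero' := by rw [Pi.single_zero, map_zero, map_zero]
              map_add' := fun x y => by rw [Pi.single_add, map_add, map_add]
              commutes' := fun a => ?_ }⟩
    have h1 : (Pi.single b (algebraMap A (Fam2 B₁ B₂ b) a) : Π i, Fam2 B₁ B₂ i) =
        a • Pi.single b (1 : Fam2 B₁ B₂ b) := by
      rw [← Pi.single_smul, Algebra.algebraMap_eq_smul_one]
    change ι (ρ (Pi.single b (algebraMap A (Fam2 B₁ B₂ b) a))) = ι a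
    rw [h1, map_smul, ← he, smul_eq_mul, map_mul, hιe, mul_one]
  rcases eq_zero_or_eq_one_of_isIdempotentElem hid₁ with h0 | h1
  · right
    have h2 : ι e₂ = 1 := by
      have := congrArg ι hsum
      rw [map_add, h0, zero_add, map_one] at this
      exact this
    exact key false e₂ rfl h2
  · left
    exact key true e₁ rfl h1

end Cover

end Groth.Agent.Lib.Helper4.EtRetr
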