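import Mathlib
import Groth.Prelude.Def_ProEtW
import Groth.Agent.Lib.Helper4.EtRetr1

/-!
# Rings with étale retractions: maps from étale algebras into the local rings at maximal ideals
-/

set_option autoImplicit false
universe u

namespace Groth.Agent.Lib.Helper4.EtRetr

open IsLocalRing

/-- If every faithfully flat étale `A`-algebra has a retraction, every étale `A`-algebra with a
prime over the maximal ideal `m` maps to `A_m`. -/
theorem exists_algHom_atPrime (A : Type u) [CommRing A] (h : ProEtW.HasEtaleRetractions A)
    (m : Ideal A) [hm : m.IsMaximal] (B : Type u) [CommRing B] [Algebra A B] [Algebra.Etale A B]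
    (hmB : (⟨m, inferInstance⟩ : PrimeSpectrum A) ∈
      Set.range (PrimeSpectrum.comap (algebraMap A B))) :
    Nonempty (B →ₐ[A] Localization.AtPrime m) := by
  have hflat : Module.Flat A B := Algebra.Smooth.flat A B
  have hopen : IsOpen (Set.range (PrimeSpectrum.comap (algebraMap A B))) :=
    (PrimeSpectrum.isOpenMap_comap_of_hasGoingDown_of_finitePresentation (R := A)
      (S := B)).isOpen_range
  obtain ⟨I, hI⟩ := (PrimeSpectrum.isClosed_iff_zeroLocus_ideal _).mp hopen.isClosed_compl
  have hIm : ¬ I ≤ m := by
    intro hle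
    have h1 : (⟨m, inferInstance⟩ : PrimeSpectrum A) ∈ PrimeSpectrum.zeroLocus (I : Set A) :=
      (PrimeSpectrum.mem_zeroLocus _ _).mpr hle
    rw [← hI] at h1
    exact h1 hmB
  obtain ⟨e, heI, hem⟩ := SetLike.not_le_iff_exists.mp hIm
  obtain ⟨y, t, ht, hyt⟩ := hm.exists_inv hem
  have hcov : ∀ p : PrimeSpectrum A, p ∈ Set.range (PrimeSpectrum.comap (algebraMap A B)) ∨
      p ∈ Set.range (PrimeSpectrum.comap (algebraMap A (Localization.Away t))) := by
    intro p
    by_cases hp : p ∈ Set.range (PrimeSpectrum.comap (algebraMap A B))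
    · exact Or.inl hp
    · right
      have h1 : p ∈ PrimeSpectrum.zeroLocus (I : Set A) := by
        rw [← hI]
        exact hp
      have h2 : y * e ∈ p.asIdeal := p.asIdeal.mul_mem_left y ((PrimeSpectrum.mem_zeroLocus _ _).mp h1 heI)
      have h3 : t ∉ p.asIdeal := by
        intro ht'
        have : (1 : A) ∈ p.asIdeal := by
          rw [← hyt]
          exact p.asIdeal.add_mem h2 ht'
        exact p.isPrime.ne_top ((Ideal.eq_top_iff_one _).mpr this)
      rw [PrimeSpectrum.localization_away_comap_range (Localization.Away t) t]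
      exact h3
  rcases exists_algHom_of_cover A B (Localization.Away t) h hcov (Localization.AtPrime m) with
    h1 | ⟨⟨σ₂⟩⟩
  · exact h1
  · exfalso
    have h1 : IsUnit (algebraMap A (Localization.AtPrime m) t) := by
      have h2 : IsUnit (algebraMap A (Localization.Away t) t) :=
        IsLocalization.Away.algebraMap_isUnit t
      have h3 := h2.map σ₂
      rwa [σ₂.commutes] at h3
    have h4 : algebraMap A (Localization.AtPrime m) t ∈ maximalIdeal (Localization.AtPrime m) :=
      (IsLocalization.AtPrime.to_map_mem_maximal_iff (Localization.AtPrime m) m t).mpr ht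
    exact ((mem_maximalIdeal _).mp h4) h1

end Groth.Agent.Lib.Helper4.EtRetr
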