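import Mathlib
import Groth.Prelude.Def_ProEtW
import Groth.Agent.Lib.Helper4.EtRetr2

/-!
# Rings with étale retractions: solving standard étale equations in `A_m`
-/

set_option autoImplicit false
universe u

namespace Groth.Agent.Lib.Helper4.EtRetr

open IsLocalRing Polynomial

variable (A : Type u) [CommRing A] (m : Ideal A) [hm : m.IsMaximal]

/-- `A_t → A_m` for `t ∉ m`. -/
noncomputable def awayToAtPrime (t : A) (ht : t ∉ m) :
    Localization.Away t →+* Localization.AtPrime m :=
  IsLocalization.Away.lift t (g := algebraMap A (Localization.AtPrime m))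
    (IsLocalization.map_units (Localization.AtPrime m) (⟨t, ht⟩ : m.primeCompl))

theorem awayToAtPrime_algebraMap (t : A) (ht : t ∉ m) (a : A) :
    awayToAtPrime A m t ht (algebraMap A (Localization.Away t) a) =
      algebraMap A (Localization.AtPrime m) a :=
  IsLocalization.Away.lift_eq t _ a

/-- A monic polynomial over `A_m` descends to some `A_t`. -/
theorem exists_away_lift (p : (Localization.AtPrime m)[X]) (hp : p.Monic) :
    ∃ (t : A) (ht : t ∉ m) (pt : (Localization.Away t)[X]), pt.Monic ∧
      pt.map (awayToAtPrime A m t ht) = p := by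
  classical
  obtain ⟨b, hb⟩ := IsLocalization.exist_integer_multiples_of_finset m.primeCompl p.coeffs
  have ht : (b : A) ∉ m := b.2
  refine ⟨b, ht, ?_⟩
  have hlifts : p ∈ Polynomial.lifts (awayToAtPrime A m b ht) := by
    rw [Polynomial.lifts_iff_coeff_lifts]
    intro n
    by_cases h0 : p.coeff n = 0
    · exact ⟨0, by rw [map_zero, h0]⟩
    · obtain ⟨a, ha⟩ := hb (p.coeff n) (Polynomial.coeff_mem_coeffs h0)
      refine ⟨IsLocalization.mk' (Localization.Away (b : A)) a
        (⟨b, Submonoid.mem_powers _⟩ : Submonoid.powers (b : A)), ?_⟩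
      unfold awayToAtPrime IsLocalization.Away.lift
      rw [IsLocalization.lift_mk'_spec]
      rw [ha, Algebra.smul_def]
  obtain ⟨pt, h1, -, h2⟩ := Polynomial.lifts_and_natDegree_eq_and_monic hlifts hp
  exact ⟨pt, h2, h1⟩

section Away

variable (t : A) (ht : t ∉ m)

/-- **Solving a standard étale system in `A_m`**, given a solution in a field `K` over `A_t` such
that the kernel of `A → K` is `m`. -/
theorem exists_hasMap (h : ProEtW.HasEtaleRetractions A)
    (P : StandardEtalePair (Localization.Away t)) (K : Type u) [Field K]
    [Algebra (Localization.Away t) K]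
    (hK : ∀ a : A, algebraMap (Localization.Away t) K (algebraMap A (Localization.Away t) a) = 0 ↔
      a ∈ m) (x : K) (hx : P.HasMap x) :
    let _ : Algebra (Localization.Away t) (Localization.AtPrime m) :=
      (awayToAtPrime A m t ht).toAlgebra
    ∃ a : Localization.AtPrime m, P.HasMap a := by
  intro _
  let _ : Algebra A P.Ring :=
    ((algebraMap (Localization.Away t) P.Ring).comp (algebraMap A (Localization.Away t))).toAlgebra
  have hst : IsScalarTower A (Localization.Away t) P.Ring :=
    IsScalarTower.of_algebraMap_eq fun _ => rfl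
  have het : Algebra.Etale A P.Ring := Algebra.Etale.comp A (Localization.Away t) P.Ring
  let _ : Algebra A K :=
    ((algebraMap (Localization.Away t) K).comp (algebraMap A (Localization.Away t))).toAlgebra
  have hstK : IsScalarTower A (Localization.Away t) K :=
    IsScalarTower.of_algebraMap_eq fun _ => rfl
  let χ : P.Ring →ₐ[A] K := (P.lift x hx).restrictScalars A
  have hmB : (⟨m, inferInstance⟩ : PrimeSpectrum A) ∈
      Set.range (PrimeSpectrum.comap (algebraMap A P.Ring)) := by
    refine ⟨⟨RingHom.ker (χ : P.Ring →+* K), RingHom.ker_isPrime _⟩, ?_⟩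
    apply PrimeSpectrum.ext
    ext a
    change χ (algebraMap A P.Ring a) = 0 ↔ a ∈ m
    rw [χ.commutes]
    exact hK a
  obtain ⟨σ⟩ := exists_algHom_atPrime A h m P.Ring hmB
  have hcomp : (σ : P.Ring →+* Localization.AtPrime m).comp
      (algebraMap (Localization.Away t) P.Ring) = awayToAtPrime A m t ht := by
    apply IsLocalization.ringHom_ext (Submonoid.powers t)
    ext a
    change σ (algebraMap (Localization.Away t) P.Ring (algebraMap A (Localization.Away t) a)) =
      awayToAtPrime A m t ht (algebraMap A (Localization.Away t) a)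
    rw [awayToAtPrime_algebraMap, ← IsScalarTower.algebraMap_apply A (Localization.Away t) P.Ring,
      σ.commutes]
  let σ' : P.Ring →ₐ[Localization.Away t] Localization.AtPrime m :=
    { (σ : P.Ring →+* Localization.AtPrime m) with
      commutes' := fun r => RingHom.congr_fun hcomp r }
  exact ⟨σ' P.X, P.hasMap_X.map σ'⟩

end Away

end Groth.Agent.Lib.Helper4.EtRetr
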