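import Mathlib
import Groth.Prelude.Def_ProEtW
import Groth.Agent.Lib.Helper4.EtRetr3

/-!
# Rings with étale retractions: the local rings at maximal ideals are strictly henselian
-/

set_option autoImplicit false
universe u

namespace Groth.Agent.Lib.Helper4.EtRetr

open IsLocalRing Polynomial

variable (A : Type u) [CommRing A] (m : Ideal A) [hm : m.IsMaximal]

/-- residues of `A_m` lift to `A`. -/
theorem exists_sub_mem_maximalIdeal (a₀ : Localization.AtPrime m) :
    ∃ b : A, algebraMap A (Localization.AtPrime m) b - a₀ ∈
      maximalIdeal (Localization.AtPrime m) := by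
  obtain ⟨ā, hā⟩ := (IsLocalization.AtPrime.equivQuotMaximalIdeal m
    (Localization.AtPrime m)).surjective (Ideal.Quotient.mk _ a₀)
  obtain ⟨b, rfl⟩ := Ideal.Quotient.mk_surjective ā
  rw [IsLocalization.AtPrime.equivQuotMaximalIdeal_apply_mk] at hā
  exact ⟨b, Ideal.Quotient.eq.mp hā⟩

theorem henselian_atPrime (h : ProEtW.HasEtaleRetractions A) :
    HenselianLocalRing (Localization.AtPrime m) := by
  refine ⟨fun f hf a₀ h0 h1 => ?_⟩
  obtain ⟨t, ht, pt, hpt, hmap⟩ := exists_away_lift A m f hf
  let φ : Localization.Away t →+* Localization.AtPrime m := awayToAtPrime A m t ht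
  let _ : Algebra (Localization.Away t) (Localization.AtPrime m) := φ.toAlgebra
  obtain ⟨b, hb⟩ := exists_sub_mem_maximalIdeal A m a₀
  let bt : Localization.Away t := algebraMap A (Localization.Away t) b
  have hφbt : φ bt = algebraMap A (Localization.AtPrime m) b := awayToAtPrime_algebraMap A m t ht b
  let G : (Localization.Away t)[X] := pt /ₘ (X - C bt)
  have hdiv : C (pt.eval bt) + (X - C bt) * G = pt := by
    have := Polynomial.modByMonic_add_div pt (X - C bt)
    rw [Polynomial.modByMonic_X_sub_C_eq_C_eval] at this
    exact this
  have hder : (derivative pt).eval bt = G.eval bt := by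
    have h2 := congrArg (fun q => (derivative q).eval bt) hdiv
    simp only [derivative_add, derivative_C, zero_add, derivative_mul, derivative_sub,
      derivative_X, sub_zero, one_mul, eval_add, eval_mul, eval_sub, eval_X, eval_C, sub_self,
      zero_mul, add_zero] at h2
    exact h2.symm
  let P : StandardEtalePair (Localization.Away t) :=
    ⟨pt, hpt, derivative pt * G, ⟨G, 0, 1, by ring⟩⟩
  -- the residue field as an `A_t`-algebra
  let _ : Algebra (Localization.Away t) (ResidueField (Localization.AtPrime m)) :=
    ((residue (Localization.AtPrime m)).comp φ).toAlgebra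
  have hK : ∀ a : A, algebraMap (Localization.Away t) (ResidueField (Localization.AtPrime m))
      (algebraMap A (Localization.Away t) a) = 0 ↔ a ∈ m := by
    intro a
    change residue _ (φ (algebraMap A (Localization.Away t) a)) = 0 ↔ _
    rw [awayToAtPrime_algebraMap, residue_eq_zero_iff]
    exact IsLocalization.AtPrime.to_map_mem_maximal_iff (Localization.AtPrime m) m a
  have haeval : ∀ (q : (Localization.Away t)[X]) (y : Localization.AtPrime m),
      aeval (residue (Localization.AtPrime m) y) q =
        residue (Localization.AtPrime m) ((q.map φ).eval y) := by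
    intro q y
    rw [Polynomial.eval_map, Polynomial.hom_eval₂, Polynomial.aeval_def]
    rfl
  have hxeq : residue (Localization.AtPrime m) a₀ =
      algebraMap (Localization.Away t) (ResidueField (Localization.AtPrime m)) bt := by
    change _ = residue _ (φ bt)
    rw [hφbt]
    have : residue (Localization.AtPrime m) (algebraMap A (Localization.AtPrime m) b - a₀) = 0 :=
      (residue_eq_zero_iff _).mpr hb
    rw [map_sub, sub_eq_zero] at this
    exact this.symm
  have hx : P.HasMap (residue (Localization.AtPrime m) a₀) := by
    constructor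
    · change aeval _ pt = 0
      rw [haeval, hmap]
      exact (residue_eq_zero_iff _).mpr h0
    · change IsUnit (aeval _ (derivative pt * G))
      have hu : IsUnit (aeval (residue (Localization.AtPrime m) a₀) (derivative pt)) := by
        rw [haeval, ← Polynomial.derivative_map, hmap]
        exact h1.map _
      have hG : aeval (residue (Localization.AtPrime m) a₀) G =
          aeval (residue (Localization.AtPrime m) a₀) (derivative pt) := by
        rw [hxeq, Polynomial.aeval_algebraMap_apply_eq_algebraMap_eval,
          Polynomial.aeval_algebraMap_apply_eq_algebraMap_eval, hder]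
      rw [map_mul, hG]
      exact hu.mul hu
  obtain ⟨a, ha0, ha1⟩ := exists_hasMap A m t ht h P (ResidueField (Localization.AtPrime m)) hK
    (residue (Localization.AtPrime m) a₀) hx
  have haev : ∀ q : (Localization.Away t)[X], aeval a q = (q.map φ).eval a := by
    intro q
    rw [Polynomial.eval_map, Polynomial.aeval_def]
    rfl
  have hroot : f.eval a = 0 := by
    rw [← hmap, ← haev]
    exact ha0
  refine ⟨a, hroot, ?_⟩
  -- `a ≡ b ≡ a₀`
  have hGu : IsUnit (aeval a G) := by
    have h2 : IsUnit (aeval a (derivative pt * G)) := ha1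
    rw [map_mul] at h2
    exact isUnit_of_mul_isUnit_right h2
  have h3 : aeval a pt = φ (pt.eval bt) + (a - φ bt) * aeval a G := by
    conv_lhs => rw [← hdiv]
    rw [map_add, map_mul, map_sub, aeval_X, aeval_C, aeval_C]
    rfl
  have h4 : φ (pt.eval bt) ∈ maximalIdeal (Localization.AtPrime m) := by
    have h5 : φ (pt.eval bt) = f.eval (φ bt) := by
      rw [← hmap, Polynomial.eval_map, Polynomial.eval₂_at_apply]
    rw [h5, hφbt]
    have h6 : algebraMap A (Localization.AtPrime m) b - a₀ ∣
        f.eval (algebraMap A (Localization.AtPrime m) b) - f.eval a₀ :=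
      Polynomial.sub_dvd_eval_sub _ _ f
    have h7 : f.eval (algebraMap A (Localization.AtPrime m) b) - f.eval a₀ ∈
        maximalIdeal (Localization.AtPrime m) :=
      Ideal.mem_of_dvd _ h6 hb
    have := Ideal.add_mem _ h7 h0
    rwa [sub_add_cancel] at this
  have h8 : (a - φ bt) * aeval a G ∈ maximalIdeal (Localization.AtPrime m) := by
    have h9 : (a - φ bt) * aeval a G = aeval a pt - φ (pt.eval bt) := by rw [h3]; ring
    rw [h9, ha0, zero_sub]
    exact Ideal.neg_mem_iff _ |>.mpr h4
  have h10 : a - φ bt ∈ maximalIdeal (Localization.AtPrime m) := by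
    obtain ⟨u, hu⟩ := hGu
    have : a - φ bt = ((a - φ bt) * aeval a G) * ↑u⁻¹ := by
      rw [← hu, mul_assoc, Units.mul_inv, mul_one]
    rw [this]
    exact Ideal.mul_mem_right _ _ h8
  have h11 : a - a₀ = (a - φ bt) + (algebraMap A (Localization.AtPrime m) b - a₀) := by
    rw [hφbt]; ring
  rw [h11]
  exact Ideal.add_mem _ h10 hb

end Groth.Agent.Lib.Helper4.EtRetr
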