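import Mathlib
import Groth.Prelude.Def_ProEtW
import Groth.Agent.Lib.Helper4.EtRetr4

/-!
# Rings with étale retractions: residue fields at maximal ideals are separably closed
-/

set_option autoImplicit false
universe u

namespace Groth.Agent.Lib.Helper4.EtRetr

open IsLocalRing Polynomial

variable (A : Type u) [CommRing A] (m : Ideal A) [hm : m.IsMaximal]

theorem isSepClosed_residueField_atPrime (h : ProEtW.HasEtaleRetractions A) :
    IsSepClosed (ResidueField (Localization.AtPrime m)) := by
  refine IsSepClosed.of_exists_root _ fun pbar hmonic hirr hsep => ?_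
  have hlift : pbar ∈ lifts (residue (Localization.AtPrime m)) := by
    rw [lifts_iff_coeff_lifts]
    intro n
    exact residue_surjective _
  obtain ⟨p, hpmap, -, hpm⟩ := lifts_and_natDegree_eq_and_monic hlift hmonic
  obtain ⟨t, ht, pt, hpt, hmap⟩ := exists_away_lift A m p hpm
  let φ : Localization.Away t →+* Localization.AtPrime m := awayToAtPrime A m t ht
  let _ : Algebra (Localization.Away t) (Localization.AtPrime m) := φ.toAlgebra
  have : Fact (Irreducible pbar) := ⟨hirr⟩
  let P : StandardEtalePair (Localization.Away t) :=
    ⟨pt, hpt, derivative pt, ⟨1, 0, 1, by ring⟩⟩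
  let ψ : Localization.Away t →+* AdjoinRoot pbar :=
    (algebraMap (ResidueField (Localization.AtPrime m)) (AdjoinRoot pbar)).comp
      ((residue (Localization.AtPrime m)).comp φ)
  let _ : Algebra (Localization.Away t) (AdjoinRoot pbar) := ψ.toAlgebra
  have hK : ∀ a : A, algebraMap (Localization.Away t) (AdjoinRoot pbar)
      (algebraMap A (Localization.Away t) a) = 0 ↔ a ∈ m := by
    intro a
    change algebraMap (ResidueField (Localization.AtPrime m)) (AdjoinRoot pbar)
      (residue _ (φ (algebraMap A (Localization.Away t) a))) = 0 ↔ _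
    rw [map_eq_zero_iff _ (algebraMap (ResidueField (Localization.AtPrime m))
      (AdjoinRoot pbar)).injective, awayToAtPrime_algebraMap, residue_eq_zero_iff]
    exact IsLocalization.AtPrime.to_map_mem_maximal_iff (Localization.AtPrime m) m a
  have hmapψ : ∀ q : (Localization.Away t)[X], aeval (AdjoinRoot.root pbar) q =
      aeval (AdjoinRoot.root pbar) ((q.map φ).map (residue (Localization.AtPrime m))) := by
    intro q
    rw [Polynomial.aeval_def, Polynomial.aeval_def, Polynomial.eval₂_map, Polynomial.eval₂_map]
    rfl
  have hx : P.HasMap (AdjoinRoot.root pbar) := by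
    constructor
    · change aeval _ pt = 0
      rw [hmapψ, hmap, hpmap, AdjoinRoot.aeval_eq, AdjoinRoot.mk_self]
    · change IsUnit (aeval _ (derivative pt))
      rw [hmapψ, ← Polynomial.derivative_map, ← Polynomial.derivative_map, hmap, hpmap]
      exact isUnit_iff_ne_zero.mpr (hsep.aeval_derivative_ne_zero
        (by rw [AdjoinRoot.aeval_eq, AdjoinRoot.mk_self]))
  obtain ⟨a, ha0, -⟩ := exists_hasMap A m t ht h P (AdjoinRoot pbar) hK (AdjoinRoot.root pbar) hx
  refine ⟨residue _ a, ?_⟩
  have h1 : aeval a pt = (pt.map φ).eval a := by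
    rw [Polynomial.eval_map, Polynomial.aeval_def]
    rfl
  have h2 : p.eval a = 0 := by
    rw [← hmap, ← h1]
    exact ha0
  rw [← hpmap, Polynomial.eval_map_apply, h2, map_zero]

/-- **The local rings at maximal ideals are strictly henselian.** -/
theorem isStrictlyHenselian_atPrime (h : ProEtW.HasEtaleRetractions A) :
    ∃ _ : HenselianLocalRing (Localization.AtPrime m),
      IsSepClosed (ResidueField (Localization.AtPrime m)) :=
  ⟨henselian_atPrime A m h, isSepClosed_residueField_atPrime A m h⟩

end Groth.Agent.Lib.Helper4.EtRetr
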