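import Mathlib

/-!
# Arbitrary tensor products of finitely presented algebras, by generators and relations
-/

set_option autoImplicit false
set_option linter.style.haveILetI false
set_option linter.unusedSectionVars false
universe u

namespace Groth.Agent.Lib.Helper4.TensBig

open MvPolynomial

variable {R : Type u} [CommRing R] {κ : Type u} (n : κ → ℕ)
  (I : ∀ k, Ideal (MvPolynomial (Fin (n k)) R))

/-- the `k`-th factor -/
abbrev E (k : κ) : Type u := MvPolynomial (Fin (n k)) R ⧸ I k

/-- the inclusion of the `k`-th block of variables -/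
def sm (k : κ) : Fin (n k) → (Σ k, Fin (n k)) := fun j => ⟨k, j⟩

/-- the ideal of relations of the big tensor product -/
noncomputable def relIdeal : Ideal (MvPolynomial (Σ k, Fin (n k)) R) :=
  ⨆ k, (I k).map (rename (sm n k) : MvPolynomial (Fin (n k)) R →ₐ[R] _).toRingHom

/-- the big tensor product -/
abbrev Tens : Type u := MvPolynomial (Σ k, Fin (n k)) R ⧸ relIdeal n I

theorem map_le_relIdeal (k : κ) :
    (I k).map (rename (sm n k) : MvPolynomial (Fin (n k)) R →ₐ[R] _).toRingHom ≤
      relIdeal n I :=
  le_iSup (fun k => (I k).map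
    (rename (sm n k) : MvPolynomial (Fin (n k)) R →ₐ[R] _).toRingHom) k

/-- the inclusion of the `k`-th factor -/
noncomputable def inc (k : κ) : E n I k →ₐ[R] Tens n I :=
  Ideal.Quotient.liftₐ (I k)
    ((Ideal.Quotient.mkₐ R (relIdeal n I)).comp (rename (sm n k))) (by
      intro a ha
      change Ideal.Quotient.mk (relIdeal n I) (rename (sm n k) a) = 0
      rw [Ideal.Quotient.eq_zero_iff_mem]
      exact map_le_relIdeal n I k (Ideal.mem_map_of_mem _ ha))

theorem inc_mk (k : κ) (p : MvPolynomial (Fin (n k)) R) :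
    inc n I k (Ideal.Quotient.mk (I k) p) =
      Ideal.Quotient.mk (relIdeal n I) (rename (sm n k) p) := rfl

variable {S : Type u} [CommRing S] [Algebra R S]

/-- the values of the variables determined by a family of maps -/
noncomputable def vals (φ : ∀ k, E n I k →ₐ[R] S) : (Σ k, Fin (n k)) → S :=
  fun x => φ x.1 (Ideal.Quotient.mk (I x.1) (X x.2))

theorem aeval_vals_rename (φ : ∀ k, E n I k →ₐ[R] S) (k : κ)
    (p : MvPolynomial (Fin (n k)) R) :
    aeval (vals n I φ) (rename (sm n k) p) = φ k (Ideal.Quotient.mk (I k) p) := by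
  rw [aeval_rename]
  have h : (aeval (vals n I φ ∘ sm n k) : MvPolynomial (Fin (n k)) R →ₐ[R] S) =
      (φ k).comp (Ideal.Quotient.mkₐ R (I k)) := by
    apply MvPolynomial.algHom_ext
    intro j
    rw [aeval_X]
    rfl
  rw [h]
  rfl

/-- the universal property -/
noncomputable def lift (φ : ∀ k, E n I k →ₐ[R] S) : Tens n I →ₐ[R] S :=
  Ideal.Quotient.liftₐ (relIdeal n I) (aeval (vals n I φ)) (by
    have hle : relIdeal n I ≤ RingHom.ker (aeval (vals n I φ) :
        MvPolynomial (Σ k, Fin (n k)) R →ₐ[R] S).toRingHom := by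
      apply iSup_le
      intro k
      rw [Ideal.map_le_iff_le_comap]
      intro p hp
      change aeval (vals n I φ) (rename (sm n k) p) = 0
      rw [aeval_vals_rename, Ideal.Quotient.eq_zero_iff_mem.mpr hp, map_zero]
    intro a ha
    exact hle ha)

theorem lift_mk (φ : ∀ k, E n I k →ₐ[R] S) (p : MvPolynomial (Σ k, Fin (n k)) R) :
    lift n I φ (Ideal.Quotient.mk (relIdeal n I) p) = aeval (vals n I φ) p := rfl

theorem lift_inc (φ : ∀ k, E n I k →ₐ[R] S) (k : κ) :
    (lift n I φ).comp (inc n I k) = φ k := by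
  apply AlgHom.ext
  intro x
  obtain ⟨p, rfl⟩ := Ideal.Quotient.mk_surjective x
  change lift n I φ (inc n I k (Ideal.Quotient.mk (I k) p)) = _
  rw [inc_mk, lift_mk, aeval_vals_rename]

theorem lift_inc_apply (φ : ∀ k, E n I k →ₐ[R] S) (k : κ) (x : E n I k) :
    lift n I φ (inc n I k x) = φ k x :=
  congrArg (fun f => f x) (lift_inc n I φ k)

theorem hom_ext (f g : Tens n I →ₐ[R] S)
    (h : ∀ k, f.comp (inc n I k) = g.comp (inc n I k)) : f = g := by
  apply AlgHom.ext
  intro x
  obtain ⟨p, rfl⟩ := Ideal.Quotient.mk_surjective x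
  have h2 : f.comp (Ideal.Quotient.mkₐ R (relIdeal n I)) =
      g.comp (Ideal.Quotient.mkₐ R (relIdeal n I)) := by
    apply MvPolynomial.algHom_ext
    rintro ⟨k, j⟩
    have h3 := congrArg (fun φ => φ (Ideal.Quotient.mk (I k) (X j))) (h k)
    simp only [AlgHom.comp_apply, inc_mk, rename_X] at h3
    exact h3
  exact congrArg (fun φ => φ p) h2

/-- formal étaleness of the big tensor product -/
theorem formallyEtale (h : ∀ k, Algebra.FormallyEtale R (E n I k)) :
    Algebra.FormallyEtale R (Tens n I) := by
  rw [Algebra.FormallyEtale.iff_comp_bijective]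
  intro B _ _ J hJ
  constructor
  · intro f g hfg
    apply hom_ext
    intro k
    haveI := h k
    apply (Algebra.FormallyEtale.comp_bijective R (E n I k) J hJ).1
    change (Ideal.Quotient.mkₐ R J).comp (f.comp (inc n I k)) =
      (Ideal.Quotient.mkₐ R J).comp (g.comp (inc n I k))
    have hfg' : (Ideal.Quotient.mkₐ R J).comp f = (Ideal.Quotient.mkₐ R J).comp g := hfg
    rw [← AlgHom.comp_assoc, ← AlgHom.comp_assoc, hfg']
  · intro g
    have hs : ∀ k, ∃ φ : E n I k →ₐ[R] B, (Ideal.Quotient.mkₐ R J).comp φ =
        g.comp (inc n I k) := by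
      intro k
      haveI := h k
      exact (Algebra.FormallyEtale.comp_bijective R (E n I k) J hJ).2 (g.comp (inc n I k))
    choose φ hφ using hs
    refine ⟨lift n I φ, ?_⟩
    change (Ideal.Quotient.mkₐ R J).comp (lift n I φ) = g
    apply hom_ext
    intro k
    rw [AlgHom.comp_assoc, lift_inc, hφ]

/-- finite presentation of a finite tensor product -/
theorem finitePresentation [Finite κ] (h : ∀ k, Algebra.FinitePresentation R (E n I k)) :
    Algebra.FinitePresentation R (Tens n I) := by
  apply Algebra.FinitePresentation.quotient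
  have hfg : ∀ k, (I k).FG := by
    intro k
    haveI := h k
    have h1 := Algebra.FinitePresentation.ker_fG_of_surjective
      (Ideal.Quotient.mkₐ R (I k)) (Ideal.Quotient.mkₐ_surjective R (I k))
    have h2 : RingHom.ker (Ideal.Quotient.mkₐ R (I k)).toRingHom = I k := Ideal.mk_ker
    rw [h2] at h1
    exact h1
  unfold relIdeal
  exact Submodule.fg_iSup _ (fun k => (hfg k).map _)

theorem etale [Finite κ] (h : ∀ k, Algebra.Etale R (E n I k)) : Algebra.Etale R (Tens n I) :=
  { formallyEtale := formallyEtale n I (fun k => (h k).formallyEtale)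
    finitePresentation := finitePresentation n I (fun k => (h k).finitePresentation) }

end Groth.Agent.Lib.Helper4.TensBig
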