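import Mathlib
import Groth.Prelude.Def_ProEtW
import Groth.Agent.Lib.Helper4.TensBig1
import Groth.Agent.Lib.Helper4.IndEtGen

/-!
# The big tensor product is the filtered colimit of its finite sub-tensor products
-/

set_option autoImplicit false
set_option linter.style.haveILetI false
set_option linter.unusedSectionVars false
universe u

namespace Groth.Agent.Lib.Helper4.TensBig

open CategoryTheory CategoryTheory.Limits Groth.Agent.Lib.Helper4.IndEt

section general

variable {R : Type u} [CommRing R]
variable {ι : Type u} [Preorder ι] [IsDirectedOrder ι] [Nonempty ι]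
  (G : ι → Type u) [∀ i, CommRing (G i)] [∀ i, Algebra R (G i)]
  (f : ∀ i j, i ≤ j → G i →ₐ[R] G j)
  (hid : ∀ i x, f i i le_rfl x = x)
  (hcomp : ∀ i j k (hij : i ≤ j) (hjk : j ≤ k) x, f j k hjk (f i j hij x) = f i k (hij.trans hjk) x)
variable (B : Type u) [CommRing B] [Algebra R B] (g : ∀ i, G i →ₐ[R] B)
  (hg : ∀ i j (h : i ≤ j) x, g j (f i j h x) = g i x)

theorem under_w_apply' {X Y : Under (CommRingCat.of R)} (m : X ⟶ Y) (a : R) :
    m.right (X.hom a) = Y.hom a := by
  have := Under.w m
  exact congrArg (fun m => m a) this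

/-- the colimit property from the algebraic universal property -/
theorem isColimit_of_univ
    (huniv : ∀ (S : Type u) [CommRing S] [Algebra R S] (ψ : ∀ i, G i →ₐ[R] S),
      (∀ i j (h : i ≤ j) x, ψ j (f i j h x) = ψ i x) →
      ∃ Ψ : B →ₐ[R] S, ∀ i x, Ψ (g i x) = ψ i x)
    (hext : ∀ (S : Type u) [CommRing S] [Algebra R S] (Ψ Ψ' : B →ₐ[R] S),
      (∀ i x, Ψ (g i x) = Ψ' (g i x)) → Ψ = Ψ') :
    Nonempty (IsColimit (sysCocone G f hid hcomp B g hg)) := by
  have key : ∀ s : Cocone (sysFunctor G f hid hcomp), ∃ m : mkU R B ⟶ s.pt,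
      ∀ i, (sysCocone G f hid hcomp B g hg).ι.app i ≫ m = s.ι.app i := by
    intro s
    letI : Algebra R s.pt.right := s.pt.hom.hom.toAlgebra
    let ψ : ∀ i, G i →ₐ[R] s.pt.right := fun i =>
      { toRingHom := (s.ι.app i).right.hom
        commutes' := fun a => under_w_apply' (s.ι.app i) a }
    have hcompat : ∀ i j (h : i ≤ j) x, ψ j (f i j h x) = ψ i x := by
      intro i j h x
      have h1 := s.w (homOfLE h)
      have h2 := congrArg (fun m => m.right x) h1
      exact h2
    obtain ⟨Ψ, hΨ⟩ := huniv s.pt.right ψ hcompat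
    refine ⟨Under.homMk (CommRingCat.ofHom Ψ.toRingHom) (by
      ext a
      exact Ψ.commutes a), fun i => ?_⟩
    ext x
    exact hΨ i x
  choose desc hdesc using key
  refine ⟨⟨desc, fun s i => hdesc s i, fun s m hm => ?_⟩⟩
  letI : Algebra R s.pt.right := s.pt.hom.hom.toAlgebra
  let Φ : ∀ m : mkU R B ⟶ s.pt, B →ₐ[R] s.pt.right := fun m =>
    { toRingHom := m.right.hom
      commutes' := fun a => under_w_apply' m a }
  have h1 : Φ m = Φ (desc s) := by
    apply hext
    intro i x
    have e1 := congrArg (fun m => m.right x) (hm i)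
    have e2 := congrArg (fun m => m.right x) (hdesc s i)
    exact e1.trans e2.symm
  ext x
  exact congrArg (fun φ => φ x) h1

end general

section tens

variable {R : Type u} [CommRing R] {κ : Type u} (n : κ → ℕ)
  (I : ∀ k, Ideal (MvPolynomial (Fin (n k)) R))

/-- the finite sub-tensor product -/
abbrev TF (F : Finset κ) : Type u :=
  Tens (fun k : F => n k.1) (fun k : F => I k.1)

/-- transition maps -/
noncomputable def tr (F F' : Finset κ) (h : F ≤ F') : TF n I F →ₐ[R] TF n I F' :=
  lift (fun k : F => n k.1) (fun k : F => I k.1)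
    (fun k => inc (fun k : F' => n k.1) (fun k : F' => I k.1) ⟨k.1, h k.2⟩)

/-- the maps to the big tensor product -/
noncomputable def toAll (F : Finset κ) : TF n I F →ₐ[R] Tens n I :=
  lift (fun k : F => n k.1) (fun k : F => I k.1) (fun k => inc n I k.1)

theorem tr_inc (F F' : Finset κ) (h : F ≤ F') (k : F) (x : E n I k.1) :
    tr n I F F' h (inc (fun k : F => n k.1) (fun k : F => I k.1) k x) =
      inc (fun k : F' => n k.1) (fun k : F' => I k.1) ⟨k.1, h k.2⟩ x :=
  lift_inc_apply (fun k : F => n k.1) (fun k : F => I k.1)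
    (fun k => inc (fun k : F' => n k.1) (fun k : F' => I k.1) ⟨k.1, h k.2⟩) k x

theorem toAll_inc (F : Finset κ) (k : F) (x : E n I k.1) :
    toAll n I F (inc (fun k : F => n k.1) (fun k : F => I k.1) k x) = inc n I k.1 x :=
  lift_inc_apply (fun k : F => n k.1) (fun k : F => I k.1) (fun k => inc n I k.1) k x

theorem tr_id (F : Finset κ) (x : TF n I F) : tr n I F F le_rfl x = x := by
  have : tr n I F F le_rfl = AlgHom.id R _ := by
    apply hom_ext
    intro k
    apply AlgHom.ext
    intro y
    exact tr_inc n I F F le_rfl k y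
  rw [this]
  rfl

theorem tr_comp (F F' F'' : Finset κ) (h : F ≤ F') (h' : F' ≤ F'') (x : TF n I F) :
    tr n I F' F'' h' (tr n I F F' h x) = tr n I F F'' (h.trans h') x := by
  have : (tr n I F' F'' h').comp (tr n I F F' h) = tr n I F F'' (h.trans h') := by
    apply hom_ext
    intro k
    apply AlgHom.ext
    intro y
    change tr n I F' F'' h' (tr n I F F' h (inc _ _ k y)) = tr n I F F'' (h.trans h') (inc _ _ k y)
    rw [tr_inc, tr_inc, tr_inc]
  exact congrArg (fun φ => φ x) this

theorem toAll_tr (F F' : Finset κ) (h : F ≤ F') (x : TF n I F) :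
    toAll n I F' (tr n I F F' h x) = toAll n I F x := by
  have : (toAll n I F').comp (tr n I F F' h) = toAll n I F := by
    apply hom_ext
    intro k
    apply AlgHom.ext
    intro y
    change toAll n I F' (tr n I F F' h (inc _ _ k y)) = toAll n I F (inc _ _ k y)
    rw [tr_inc, toAll_inc, toAll_inc]
  exact congrArg (fun φ => φ x) this

theorem isColimit_tens :
    Nonempty (IsColimit (sysCocone (TF n I) (tr n I) (tr_id n I) (tr_comp n I) (Tens n I)
      (toAll n I) (toAll_tr n I))) := by
  classical
  apply isColimit_of_univ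
  · intro S _ _ ψ hψ
    let φ : ∀ k, E n I k →ₐ[R] S := fun k =>
      (ψ {k}).comp (inc (fun k' : ({k} : Finset κ) => n k'.1) (fun k' : ({k} : Finset κ) => I k'.1)
        ⟨k, Finset.mem_singleton_self k⟩)
    refine ⟨lift n I φ, ?_⟩
    intro F x
    have : (lift n I φ).comp (toAll n I F) = ψ F := by
      apply hom_ext
      intro k
      apply AlgHom.ext
      intro y
      change lift n I φ (toAll n I F (inc _ _ k y)) = ψ F (inc _ _ k y)
      rw [toAll_inc, lift_inc_apply]
      have hle : ({k.1} : Finset κ) ≤ F := Finset.singleton_subset_iff.mpr k.2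
      have h1 := hψ {k.1} F hle (inc (fun k' : ({k.1} : Finset κ) => n k'.1)
        (fun k' : ({k.1} : Finset κ) => I k'.1) ⟨k.1, Finset.mem_singleton_self k.1⟩ y)
      rw [tr_inc] at h1
      exact h1.symm
    exact congrArg (fun φ => φ x) this
  · intro S _ _ Ψ Ψ' h
    apply hom_ext
    intro k
    apply AlgHom.ext
    intro y
    have h1 := h {k} (inc (fun k' : ({k} : Finset κ) => n k'.1)
      (fun k' : ({k} : Finset κ) => I k'.1) ⟨k, Finset.mem_singleton_self k⟩ y)
    rw [toAll_inc] at h1
    exact h1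

/-- **the big tensor product of étale algebras is ind-étale** -/
theorem isIndEtale_tens (h : ∀ k, Algebra.Etale R (E n I k)) : EtPBC.IsIndEtale R (Tens n I) := by
  obtain ⟨hc⟩ := isColimit_tens n I
  refine ⟨Finset κ, inferInstance, inferInstance, _, _, hc, ?_, ⟨Iso.refl _⟩⟩
  intro F
  haveI : Algebra.Etale R (TF n I F) := etale _ _ (fun k => h k.1)
  exact pet_mkU R (TF n I F)

end tens

end Groth.Agent.Lib.Helper4.TensBig
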