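import Mathlib
import Groth.Prelude.Def_ProEtW
import Groth.Agent.Lib.Helper4.TensBig2
import Groth.Agent.S0736

/-!
# The tensor product of all faithfully flat étale algebras
-/

set_option autoImplicit false
set_option linter.style.haveILetI false
set_option linter.unusedSectionVars false
universe u

namespace Groth.Agent.Lib.Helper4.TensBig

open MvPolynomial

variable (R : Type u) [CommRing R]

/-- presentations of all faithfully flat étale algebras -/
def Idx : Type u :=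
  Σ m : ℕ, {I : Ideal (MvPolynomial (Fin m) R) //
    Algebra.Etale R (MvPolynomial (Fin m) R ⧸ I) ∧
    Module.FaithfullyFlat R (MvPolynomial (Fin m) R ⧸ I)}

/-- number of variables -/
def nn (k : Idx R) : ℕ := k.1

/-- the ideal of relations -/
def II (k : Idx R) : Ideal (MvPolynomial (Fin (nn R k)) R) := k.2.1

/-- the tensor product of all faithfully flat étale `R`-algebras -/
def T : Type u := Tens (nn R) (II R)

noncomputable instance : CommRing (T R) := inferInstanceAs (CommRing (Tens (nn R) (II R)))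

noncomputable instance : Algebra R (T R) := inferInstanceAs (Algebra R (Tens (nn R) (II R)))

theorem etale_E (k : Idx R) : Algebra.Etale R (E (nn R) (II R) k) := k.2.2.1

theorem faithfullyFlat_E (k : Idx R) : Module.FaithfullyFlat R (E (nn R) (II R) k) := k.2.2.2

theorem isIndEtale_T : EtPBC.IsIndEtale R (T R) :=
  isIndEtale_tens (nn R) (II R) (etale_E R)

/-- every faithfully flat étale algebra maps to `T R` -/
theorem exists_algHom (B : Type u) [CommRing B] [Algebra R B] [Algebra.Etale R B]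
    [Module.FaithfullyFlat R B] : Nonempty (B →ₐ[R] T R) := by
  obtain ⟨m, f, hf⟩ := Algebra.FiniteType.iff_quotient_mvPolynomial''.mp
    (inferInstance : Algebra.FiniteType R B)
  let e : (MvPolynomial (Fin m) R ⧸ RingHom.ker f.toRingHom) ≃ₐ[R] B :=
    Ideal.quotientKerAlgEquivOfSurjective hf
  have h1 : Algebra.Etale R (MvPolynomial (Fin m) R ⧸ RingHom.ker f.toRingHom) :=
    Algebra.Etale.of_equiv e.symm
  have h2 : Module.FaithfullyFlat R (MvPolynomial (Fin m) R ⧸ RingHom.ker f.toRingHom) :=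
    Module.FaithfullyFlat.of_linearEquiv R B e.toLinearEquiv
  let k : Idx R := ⟨m, RingHom.ker f.toRingHom, h1, h2⟩
  exact ⟨(inc (nn R) (II R) k).comp e.symm.toAlgHom⟩

/-- a map from each factor to the algebraic closure of a residue field -/
theorem exists_algHom_algebraicClosure (𝔪 : Ideal R) [h𝔪 : 𝔪.IsMaximal] (k : Idx R) :
    letI : Field (R ⧸ 𝔪) := Ideal.Quotient.field 𝔪
    Nonempty (E (nn R) (II R) k →ₐ[R] AlgebraicClosure (R ⧸ 𝔪)) := by
  letI : Field (R ⧸ 𝔪) := Ideal.Quotient.field 𝔪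
  haveI := faithfullyFlat_E R k
  haveI := etale_E R k
  have hne : 𝔪.map (algebraMap R (E (nn R) (II R) k)) ≠ ⊤ := by
    have := Module.FaithfullyFlat.submodule_ne_top (R := R) (M := E (nn R) (II R) k) h𝔪
    rwa [Ideal.smul_top_eq_map, Ne, Submodule.restrictScalars_eq_top_iff] at this
  obtain ⟨𝔫, h𝔫, hle⟩ := Ideal.exists_le_maximal _ hne
  have hle' : 𝔪 ≤ 𝔫.comap (algebraMap R (E (nn R) (II R) k)) := fun a ha =>
    hle (Ideal.mem_map_of_mem _ ha)
  letI algKL : Algebra (R ⧸ 𝔪) (E (nn R) (II R) k ⧸ 𝔫) :=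
    Ideal.Quotient.algebraQuotientOfLEComap hle'
  haveI : IsScalarTower R (R ⧸ 𝔪) (E (nn R) (II R) k ⧸ 𝔫) :=
    IsScalarTower.of_algebraMap_eq (fun _ => rfl)
  letI : Field (E (nn R) (II R) k ⧸ 𝔫) := Ideal.Quotient.field 𝔫
  haveI : Algebra.FiniteType R (E (nn R) (II R) k ⧸ 𝔫) :=
    Algebra.FiniteType.trans (inferInstance : Algebra.FiniteType R (E (nn R) (II R) k))
      inferInstance
  haveI : Algebra.FiniteType (R ⧸ 𝔪) (E (nn R) (II R) k ⧸ 𝔫) :=
    Algebra.FiniteType.of_restrictScalars_finiteType R (R ⧸ 𝔪) _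
  haveI : Module.Finite (R ⧸ 𝔪) (E (nn R) (II R) k ⧸ 𝔫) :=
    finite_of_finite_type_of_isJacobsonRing _ _
  haveI : Algebra.IsAlgebraic (R ⧸ 𝔪) (E (nn R) (II R) k ⧸ 𝔫) := Algebra.IsAlgebraic.of_finite _ _
  let ψ : (E (nn R) (II R) k ⧸ 𝔫) →ₐ[R ⧸ 𝔪] AlgebraicClosure (R ⧸ 𝔪) := IsAlgClosed.lift
  exact ⟨(ψ.restrictScalars R).comp (Ideal.Quotient.mkₐ R 𝔫)⟩

theorem faithfullyFlat_T : Module.FaithfullyFlat R (T R) := by
  haveI hw : Algebra.WeaklyEtale R (T R) := Groth.Agent.S0736.result R (T R) (isIndEtale_T R)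
  haveI : Module.Flat R (T R) := hw.flat
  refine ⟨fun 𝔪 h𝔪 htop => ?_⟩
  letI : Field (R ⧸ 𝔪) := Ideal.Quotient.field 𝔪
  have hφ := fun k => exists_algHom_algebraicClosure R 𝔪 k
  let φ : ∀ k, E (nn R) (II R) k →ₐ[R] AlgebraicClosure (R ⧸ 𝔪) := fun k => (hφ k).some
  let Φ : T R →ₐ[R] AlgebraicClosure (R ⧸ 𝔪) := lift (nn R) (II R) φ
  rw [Ideal.smul_top_eq_map, Submodule.restrictScalars_eq_top_iff] at htop
  have hle : 𝔪.map (algebraMap R (T R)) ≤ RingHom.ker Φ.toRingHom := by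
    rw [Ideal.map_le_iff_le_comap]
    intro a ha
    change Φ (algebraMap R (T R) a) = 0
    rw [AlgHom.commutes, IsScalarTower.algebraMap_apply R (R ⧸ 𝔪) (AlgebraicClosure (R ⧸ 𝔪))]
    have : algebraMap R (R ⧸ 𝔪) a = 0 := Ideal.Quotient.eq_zero_iff_mem.mpr ha
    rw [this, map_zero]
  have h1 : (1 : T R) ∈ RingHom.ker Φ.toRingHom := by
    apply hle
    rw [htop]
    trivial
  have h2 : Φ 1 = 0 := h1
  rw [map_one] at h2
  exact one_ne_zero h2

end Groth.Agent.Lib.Helper4.TensBig
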