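import Mathlib
import Groth.Agent.Lib.Helper10.ColimFlat

/-!
# Legs of a sequential colimit of faithfully flat ring maps are faithfully flat
-/

set_option autoImplicit false
set_option linter.style.haveILetI false
set_option linter.unusedSectionVars false
universe u

namespace Groth.Agent.Lib.Helper4.TowerFF

open CategoryTheory CategoryTheory.Limits

variable (F : ℕ ⥤ CommRingCat.{u}) (c : Cocone F) (hc : IsColimit c)

instance : PreservesFilteredColimitsOfSize.{0, 0} (forget CommRingCat.{u}) :=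
  preservesSmallestFilteredColimits_of_preservesFilteredColimits _

/-- transition maps -/
def tr (m k : ℕ) (h : m ≤ k) : F.obj m →+* F.obj k := (F.map (homOfLE h)).hom

/-- legs -/
def leg (m : ℕ) : F.obj m →+* c.pt := (c.ι.app m).hom

theorem leg_tr (m k : ℕ) (h : m ≤ k) (x : F.obj m) : leg F c k (tr F m k h x) = leg F c m x := by
  have := c.w (homOfLE h)
  exact congrArg (fun f => f.hom x) this

theorem tr_tr (m k l : ℕ) (h : m ≤ k) (h' : k ≤ l) (x : F.obj m) :
    tr F k l h' (tr F m k h x) = tr F m l (h.trans h') x := by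
  have : F.map (homOfLE (h.trans h')) = F.map (homOfLE h) ≫ F.map (homOfLE h') := by
    rw [← F.map_comp]
    rfl
  exact (congrArg (fun f => f.hom x) this).symm

theorem tr_self (m : ℕ) (x : F.obj m) : tr F m m le_rfl x = x := by
  have : F.map (homOfLE (le_refl m)) = 𝟙 _ := F.map_id m
  exact congrArg (fun f => f.hom x) this

include hc in
theorem exists_rep (x : c.pt) : ∃ (m : ℕ) (y : F.obj m), leg F c m y = x :=
  Concrete.isColimit_exists_rep F hc x

include hc in
theorem exists_eq (m : ℕ) (a b : F.obj m) (h : leg F c m a = leg F c m b) :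
    ∃ (k : ℕ) (hk : m ≤ k), tr F m k hk a = tr F m k hk b := by
  obtain ⟨k, f, g, hfg⟩ := (Concrete.isColimit_rep_eq_iff_exists F hc a b).mp h
  have hf : f = homOfLE (leOfHom f) := Subsingleton.elim _ _
  have hgf : g = f := Subsingleton.elim _ _
  refine ⟨k, leOfHom f, ?_⟩
  change (F.map (homOfLE (leOfHom f))).hom a = (F.map (homOfLE (leOfHom f))).hom b
  rw [← hf]
  rw [hgf] at hfg
  exact hfg

include hc in
theorem flat_leg (n : ℕ) (h : ∀ m, (tr F n (n + m) (Nat.le_add_right n m)).Flat) :
    (leg F c n).Flat := by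
  refine Groth.Agent.Lib.Helper10.ColimFlat.flat_of_approx (J := ℕ) (leg F c n)
    (fun _ => F.obj n) (fun j => F.obj (n + j))
    (fun j => tr F n (n + j) (Nat.le_add_right n j)) (fun _ => RingHom.id _)
    (fun j => leg F c (n + j)) (fun _ => RingHom.id _)
    (fun {j k} u => tr F (n + j) (n + k) (Nat.add_le_add_left (leOfHom u) n))
    h ?_ ?_ ?_ ?_ ?_ ?_ ?_
  · intro j x
    exact (leg_tr F c n (n + j) _ x).symm
  · intro j k u x
    rfl
  · intro j k u x
    exact leg_tr F c _ _ _ x
  · intro j k u x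
    exact (tr_tr F _ _ _ _ _ x).symm
  · intro r
    exact ⟨0, r, rfl⟩
  · intro x
    obtain ⟨m, y, hy⟩ := exists_rep F c hc x
    refine ⟨m, tr F m (n + m) (Nat.le_add_left m n) y, ?_⟩
    rw [leg_tr]
    exact hy
  · intro j x hx
    have h0 : leg F c (n + j) x = leg F c (n + j) 0 := by rw [hx, map_zero]
    obtain ⟨k, hk, hk'⟩ := exists_eq F c hc (n + j) x 0 h0
    rw [map_zero] at hk'
    have hjk : j ≤ k := (Nat.le_add_left j n).trans hk
    refine ⟨k, homOfLE hjk, ?_⟩
    rw [← tr_tr F (n + j) k (n + k) hk (Nat.le_add_left k n) x, hk', map_zero]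

include hc in
theorem faithfullyFlat_leg (n : ℕ)
    (h : ∀ m, (tr F n (n + m) (Nat.le_add_right n m)).FaithfullyFlat) :
    (leg F c n).FaithfullyFlat := by
  have hflat : (leg F c n).Flat := flat_leg F c hc n (fun m => (h m).flat)
  letI : Algebra (F.obj n) c.pt := (leg F c n).toAlgebra
  change Module.FaithfullyFlat (F.obj n) c.pt
  haveI : Module.Flat (F.obj n) c.pt := hflat
  refine ⟨fun 𝔪 h𝔪 htop => ?_⟩
  rw [Ideal.smul_top_eq_map, Submodule.restrictScalars_eq_top_iff] at htop
  have hmap : 𝔪.map (algebraMap (F.obj n) c.pt) = 𝔪.map (leg F c n) := rfl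
  rw [hmap] at htop
  -- every element of `𝔪 C` comes from `𝔪 F_m` for some `m ≥ n`
  have key : ∀ x ∈ 𝔪.map (leg F c n), ∃ (m : ℕ) (hm : n ≤ m) (y : F.obj m),
      y ∈ 𝔪.map (tr F n m hm) ∧ leg F c m y = x := by
    intro x hx
    refine Submodule.span_induction (p := fun x _ => ∃ (m : ℕ) (hm : n ≤ m) (y : F.obj m),
      y ∈ 𝔪.map (tr F n m hm) ∧ leg F c m y = x) ?_ ?_ ?_ ?_ hx
    · rintro _ ⟨a, ha, rfl⟩
      refine ⟨n, le_rfl, a, ?_, rfl⟩
      have : tr F n n le_rfl a = a := tr_self F n a
      rw [← this]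
      exact Ideal.mem_map_of_mem _ ha
    · exact ⟨n, le_rfl, 0, Ideal.zero_mem _, map_zero _⟩
    · rintro x y _ _ ⟨m, hm, a, ha, rfl⟩ ⟨m', hm', b, hb, rfl⟩
      have hle : m ≤ max m m' := le_max_left _ _
      have hle' : m' ≤ max m m' := le_max_right _ _
      refine ⟨max m m', hm.trans hle, tr F m _ hle a + tr F m' _ hle' b, ?_, ?_⟩
      · apply Ideal.add_mem
        · have h1 : tr F m _ hle a ∈ (𝔪.map (tr F n m hm)).map (tr F m (max m m') hle) :=
            Ideal.mem_map_of_mem _ ha
          rw [Ideal.map_map] at h1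
          have h2 : (tr F m (max m m') hle).comp (tr F n m hm) = tr F n (max m m') (hm.trans hle) :=
            RingHom.ext (fun x => tr_tr F _ _ _ _ _ x)
          rwa [h2] at h1
        · have h1 : tr F m' _ hle' b ∈ (𝔪.map (tr F n m' hm')).map (tr F m' (max m m') hle') :=
            Ideal.mem_map_of_mem _ hb
          rw [Ideal.map_map] at h1
          have h2 : (tr F m' (max m m') hle').comp (tr F n m' hm') =
              tr F n (max m m') (hm.trans hle) :=
            RingHom.ext (fun x => tr_tr F _ _ _ _ _ x)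
          rwa [h2] at h1
      · rw [map_add, leg_tr, leg_tr]
    · rintro r x _ ⟨m, hm, a, ha, rfl⟩
      obtain ⟨m', b, rfl⟩ := exists_rep F c hc r
      have hle : m ≤ max m m' := le_max_left _ _
      have hle' : m' ≤ max m m' := le_max_right _ _
      refine ⟨max m m', hm.trans hle, tr F m' _ hle' b * tr F m _ hle a, ?_, ?_⟩
      · apply Ideal.mul_mem_left
        have h1 : tr F m _ hle a ∈ (𝔪.map (tr F n m hm)).map (tr F m (max m m') hle) :=
          Ideal.mem_map_of_mem _ ha
        rw [Ideal.map_map] at h1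
        have h2 : (tr F m (max m m') hle).comp (tr F n m hm) = tr F n (max m m') (hm.trans hle) :=
          RingHom.ext (fun x => tr_tr F _ _ _ _ _ x)
        rwa [h2] at h1
      · rw [map_mul, leg_tr, leg_tr]
        rfl
  have h1 : (1 : c.pt) ∈ 𝔪.map (leg F c n) := by rw [htop]; trivial
  obtain ⟨m, hm, y, hy, hy1⟩ := key 1 h1
  have h2 : leg F c m y = leg F c m 1 := by rw [hy1, map_one]
  obtain ⟨k, hk, hk'⟩ := exists_eq F c hc m y 1 h2
  rw [map_one] at hk'
  have h3 : (1 : F.obj k) ∈ 𝔪.map (tr F n k (hm.trans hk)) := by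
    rw [← hk']
    have h4 : tr F m k hk y ∈ (𝔪.map (tr F n m hm)).map (tr F m k hk) :=
      Ideal.mem_map_of_mem _ hy
    rw [Ideal.map_map] at h4
    have h5 : (tr F m k hk).comp (tr F n m hm) = tr F n k (hm.trans hk) :=
      RingHom.ext (fun x => tr_tr F _ _ _ _ _ x)
    rwa [h5] at h4
  -- contradiction with faithful flatness of `F n → F k`
  obtain ⟨j, rfl⟩ : ∃ j, k = n + j := ⟨k - n, by omega⟩
  have hff := h j
  letI : Algebra (F.obj n) (F.obj (n + j)) := (tr F n (n + j) (Nat.le_add_right n j)).toAlgebra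
  have hff' : Module.FaithfullyFlat (F.obj n) (F.obj (n + j)) := hff
  have h6 := Module.FaithfullyFlat.submodule_ne_top (R := F.obj n) (M := F.obj (n + j)) h𝔪
  apply h6
  rw [Ideal.smul_top_eq_map, Submodule.restrictScalars_eq_top_iff, Ideal.eq_top_iff_one]
  exact h3

end Groth.Agent.Lib.Helper4.TowerFF
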