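import Mathlib
import Groth.Prelude.Def_ProEtW
import Groth.Agent.Lib.Helper4.TensBig3
import Groth.Agent.Lib.Helper4.TowerFF
import Groth.Agent.Lib.Lead.IndEtTrans
import Groth.Agent.S0734
import Groth.Agent.S7289

/-!
# The tower `A → T A → T (T A) → ⋯` and its colimit
-/

set_option autoImplicit false
set_option linter.style.haveILetI false
set_option linter.unusedSectionVars false
universe u

namespace Groth.Agent.Lib.Helper4.TensBig

open CategoryTheory CategoryTheory.Limits Groth.Agent.Lib.Helper4.IndEt

variable (A : Type u) [CommRing A]

/-- the next stage -/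
noncomputable def next (Y : Under (CommRingCat.of A)) : Under (CommRingCat.of A) :=
  Under.mk (Y.hom ≫ CommRingCat.ofHom (algebraMap Y.right (T Y.right)))

/-- the map to the next stage -/
noncomputable def toNext (Y : Under (CommRingCat.of A)) : Y ⟶ next A Y :=
  Under.homMk (CommRingCat.ofHom (algebraMap Y.right (T Y.right))) rfl

/-- the stages -/
noncomputable def stage : ℕ → Under (CommRingCat.of A)
  | 0 => Under.mk (𝟙 (CommRingCat.of A))
  | n + 1 => next A (stage n)

/-- the tower -/
noncomputable def tower : ℕ ⥤ Under (CommRingCat.of A) :=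
  Functor.ofSequence (fun n => toNext A (stage A n))

/-- the tower of underlying rings -/
noncomputable def towerF : ℕ ⥤ CommRingCat.{u} := tower A ⋙ Under.forget _

/-- the colimit cocone in `Under A` -/
noncomputable def cU : Cocone (tower A) := colimit.cocone (tower A)

/-- it is a colimit -/
noncomputable def hcU : IsColimit (cU A) := colimit.isColimit (tower A)

/-- the cocone of underlying rings -/
noncomputable def cF : Cocone (towerF A) := (Under.forget _).mapCocone (cU A)

/-- it is a colimit -/
noncomputable def hcF : IsColimit (cF A) := by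
  haveI : IsConnected ℕ := IsFiltered.isConnected ℕ
  exact isColimitOfPreserves (Under.forget _) (hcU A)

/-- the colimit ring -/
abbrev C : Type u := (cU A).pt.right

noncomputable instance : Algebra A (C A) := (cU A).pt.hom.hom.toAlgebra

theorem tr_succ (n : ℕ) (x : (stage A n).right) :
    TowerFF.tr (towerF A) n (n + 1) (Nat.le_succ n) x =
      algebraMap (stage A n).right (T (stage A n).right) x := by
  have h := Functor.ofSequence_map_homOfLE_succ (fun n => toNext A (stage A n)) n
  have h2 : (tower A).map (homOfLE (Nat.le_succ n)) = toNext A (stage A n) := h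
  change ((tower A).map (homOfLE (Nat.le_succ n))).right.hom x = _
  rw [h2]
  rfl

/-- the property of stages -/
theorem stage_prop (n : ℕ) :
    letI := (stage A n).hom.hom.toAlgebra
    EtPBC.IsIndEtale A (stage A n).right := by
  induction n with
  | zero =>
    change @EtPBC.IsIndEtale A A _ _ (RingHom.toAlgebra (RingHom.id A))
    have : RingHom.toAlgebra (RingHom.id A) = (Algebra.id A : Algebra A A) :=
      Algebra.algebra_ext _ _ (fun _ => rfl)
    rw [this]
    have h := isIndEtale_T A
    obtain ⟨k⟩ : Nonempty PUnit.{u + 1} := ⟨PUnit.unit⟩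
    -- `A` is étale over itself
    refine ⟨Discrete PUnit.{u + 1}, inferInstance, inferInstance,
      (Functor.const _).obj (mkU A A), ⟨mkU A A, 𝟙 _⟩, ?_, ?_, ⟨Iso.refl _⟩⟩
    · exact
        { desc := fun s => s.ι.app ⟨PUnit.unit⟩
          fac := fun s j => by
            obtain ⟨⟨⟩⟩ := j
            simp
          uniq := fun s m hm => by
            have := hm ⟨PUnit.unit⟩
            simpa using this }
    · intro j
      exact pet_mkU A A
  | succ n ih =>
    letI algY : Algebra A (stage A n).right := (stage A n).hom.hom.toAlgebra
    letI algN : Algebra A (T (stage A n).right) := (stage A (n + 1)).hom.hom.toAlgebra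
    haveI : IsScalarTower A (stage A n).right (T (stage A n).right) :=
      IsScalarTower.of_algebraMap_eq (fun _ => rfl)
    exact Groth.Agent.S0734.result A (stage A n).right (T (stage A n).right) ih
      (isIndEtale_T (stage A n).right)

theorem tr_faithfullyFlat (n m : ℕ) :
    (TowerFF.tr (towerF A) n (n + m) (Nat.le_add_right n m)).FaithfullyFlat := by
  induction m with
  | zero =>
    apply RingHom.FaithfullyFlat.of_bijective
    have : (TowerFF.tr (towerF A) n (n + 0) (Nat.le_add_right n 0) : _ → _) = id := by
      funext x
      exact TowerFF.tr_self (towerF A) n x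
    rw [this]
    exact Function.bijective_id
  | succ m ih =>
    have h1 : TowerFF.tr (towerF A) n (n + (m + 1)) (Nat.le_add_right n (m + 1)) =
        (TowerFF.tr (towerF A) (n + m) (n + m + 1) (Nat.le_succ _)).comp
          (TowerFF.tr (towerF A) n (n + m) (Nat.le_add_right n m)) :=
      RingHom.ext (fun x => (TowerFF.tr_tr (towerF A) _ _ _ _ _ x).symm)
    rw [h1]
    refine RingHom.FaithfullyFlat.stableUnderComposition _ _ ih ?_
    have h2 : TowerFF.tr (towerF A) (n + m) (n + m + 1) (Nat.le_succ _) =
        algebraMap (stage A (n + m)).right (T (stage A (n + m)).right) :=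
      RingHom.ext (fun x => tr_succ A (n + m) x)
    rw [h2]
    change (algebraMap (stage A (n + m)).right (T (stage A (n + m)).right)).FaithfullyFlat
    rw [RingHom.faithfullyFlat_algebraMap_iff]
    exact faithfullyFlat_T _

theorem leg_faithfullyFlat (n : ℕ) : (TowerFF.leg (towerF A) (cF A) n).FaithfullyFlat :=
  TowerFF.faithfullyFlat_leg (towerF A) (cF A) (hcF A) n (tr_faithfullyFlat A n)

theorem leg_zero_eq : TowerFF.leg (towerF A) (cF A) 0 = algebraMap A (C A) := by
  apply RingHom.ext
  intro a
  have h := Under.w ((cU A).ι.app 0)
  have h2 := congrArg (fun f => f.hom a) h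
  exact h2

theorem faithfullyFlat_C : Module.FaithfullyFlat A (C A) := by
  rw [← RingHom.faithfullyFlat_algebraMap_iff, ← leg_zero_eq]
  exact leg_faithfullyFlat A 0

end Groth.Agent.Lib.Helper4.TensBig
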