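import Mathlib
import Groth.Prelude.Def_ProEtW
import Groth.Agent.Lib.Helper4.TensBig4

/-!
# The colimit of the tower is ind-étale with étale retractions
-/

set_option autoImplicit false
set_option linter.style.haveILetI false
set_option linter.unusedSectionVars false
universe u

namespace Groth.Agent.Lib.Helper4.TensBig

open CategoryTheory CategoryTheory.Limits Groth.Agent.Lib.Helper4.IndEt TensorProduct

variable (A : Type u) [CommRing A]

/-- the projection `ULift ℕ ⥤ ℕ` -/
def dn : ULift.{u} ℕ ⥤ ℕ := Monotone.functor (f := ULift.down) (fun _ _ h => h)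

instance : (dn.{u}).Final :=
  Functor.final_of_exists_of_isFiltered _ (fun d => ⟨⟨d⟩, ⟨𝟙 _⟩⟩)
    (fun _ _ => ⟨_, 𝟙 _, Subsingleton.elim _ _⟩)

/-- the whiskered cocone -/
noncomputable def cUU : Cocone (dn.{u} ⋙ tower A) := (cU A).whisker dn

/-- it is a colimit -/
noncomputable def hcUU : IsColimit (cUU A) :=
  (Functor.Final.isColimitWhiskerEquiv dn (cU A)).symm (hcU A)

/-- the comparison iso -/
noncomputable def isoC : (cUU A).pt ≅ mkU A (C A) := Iso.refl _

theorem isIndEtale_C : EtPBC.IsIndEtale A (C A) :=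
  Groth.Agent.S7289.result A (C A) (dn.{u} ⋙ tower A) (fun j => stage_prop A j.down)
    (cUU A) (hcUU A) (isoC A)

/-- the colimit presentation over `ULift ℕ` -/
noncomputable def presC : ColimitPresentation (ULift.{u} ℕ) (mkU A (C A)) :=
  (ColimitPresentation.mk (dn.{u} ⋙ tower A) (cUU A).ι (hcUU A)).ofIso (isoC A)

set_option maxHeartbeats 2000000 in
set_option synthInstance.maxHeartbeats 400000 in
theorem hasEtaleRetractions_C : ProEtW.HasEtaleRetractions (C A) := by
  intro B _ _ hff het
  haveI := hff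
  haveI := het
  obtain ⟨A₀, B₀, _, _, hfg, hEt, ⟨eqv⟩⟩ := Algebra.Etale.exists_subalgebra_fg ℤ (C A) B
  obtain ⟨i, g', hg'⟩ := Groth.Agent.Lib.Lead.IndEtTrans.exists_factor (presC A) A₀ hfg
  let ℓ : (stage A i.down).right →+* C A := TowerFF.leg (towerF A) (cF A) i.down
  have hℓ : ∀ x : A₀, ℓ (g' x) = (x : C A) := hg'
  letI algA₀Sn : Algebra A₀ (stage A i.down).right := g'.toAlgebra
  letI algSnC : Algebra (stage A i.down).right (C A) := ℓ.toAlgebra
  haveI : IsScalarTower A₀ (stage A i.down).right (C A) :=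
    IsScalarTower.of_algebraMap_eq (fun x => (hℓ x).symm)
  haveI : Algebra.Etale (stage A i.down).right ((stage A i.down).right ⊗[A₀] B₀) := inferInstance
  letI algSnB : Algebra (stage A i.down).right B := ((algebraMap (C A) B).comp ℓ).toAlgebra
  haveI : IsScalarTower (stage A i.down).right (C A) B :=
    IsScalarTower.of_algebraMap_eq (fun _ => rfl)
  haveI ffSnC : Module.FaithfullyFlat (stage A i.down).right (C A) := leg_faithfullyFlat A i.down
  haveI ffSnB : Module.FaithfullyFlat (stage A i.down).right B :=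
    Module.FaithfullyFlat.trans (stage A i.down).right (C A) B
  let θ₀ : (stage A i.down).right ⊗[A₀] B₀ →ₐ[A₀] (C A) ⊗[A₀] B₀ :=
    Algebra.TensorProduct.map (IsScalarTower.toAlgHom A₀ (stage A i.down).right (C A))
      (AlgHom.id A₀ B₀)
  let θ : (stage A i.down).right ⊗[A₀] B₀ →+* B :=
    (eqv.symm : (C A) ⊗[A₀] B₀ →+* B).comp θ₀.toRingHom
  have hθ : ∀ s : (stage A i.down).right,
      θ (algebraMap (stage A i.down).right ((stage A i.down).right ⊗[A₀] B₀) s) =
        algebraMap (stage A i.down).right B s := by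
    intro s
    change eqv.symm (θ₀ (s ⊗ₜ[A₀] (1 : B₀))) = algebraMap (C A) B (ℓ s)
    have h1 : θ₀ (s ⊗ₜ[A₀] (1 : B₀)) = algebraMap (C A) ((C A) ⊗[A₀] B₀) (ℓ s) := rfl
    rw [h1, AlgEquiv.commutes]
  have ffB' : Module.FaithfullyFlat (stage A i.down).right
      ((stage A i.down).right ⊗[A₀] B₀) := by
    refine ⟨fun 𝔪 h𝔪 htop => ?_⟩
    rw [Ideal.smul_top_eq_map, Submodule.restrictScalars_eq_top_iff] at htop
    apply Module.FaithfullyFlat.submodule_ne_top (R := (stage A i.down).right) (M := B) h𝔪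
    rw [Ideal.smul_top_eq_map, Submodule.restrictScalars_eq_top_iff, Ideal.eq_top_iff_one]
    have h1 : (1 : (stage A i.down).right ⊗[A₀] B₀) ∈
        𝔪.map (algebraMap (stage A i.down).right ((stage A i.down).right ⊗[A₀] B₀)) := by
      rw [htop]
      trivial
    have h2 := Ideal.mem_map_of_mem θ h1
    rw [Ideal.map_map, map_one] at h2
    have h3 : θ.comp (algebraMap (stage A i.down).right ((stage A i.down).right ⊗[A₀] B₀)) =
        algebraMap (stage A i.down).right B := RingHom.ext hθ
    rwa [h3] at h2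
  obtain ⟨χ⟩ := exists_algHom (stage A i.down).right ((stage A i.down).right ⊗[A₀] B₀)
  let ℓ' : T (stage A i.down).right →+* C A := TowerFF.leg (towerF A) (cF A) (i.down + 1)
  have hℓ' : ∀ s : (stage A i.down).right,
      ℓ' (algebraMap (stage A i.down).right (T (stage A i.down).right) s) = ℓ s := by
    intro s
    rw [← tr_succ A i.down s]
    exact TowerFF.leg_tr (towerF A) (cF A) i.down (i.down + 1) (Nat.le_succ _) s
  let ξ : (stage A i.down).right ⊗[A₀] B₀ →ₐ[(stage A i.down).right] C A :=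
    { toRingHom := ℓ'.comp χ.toRingHom
      commutes' := fun s => by
        change ℓ' (χ (algebraMap _ _ s)) = ℓ s
        rw [χ.commutes, hℓ'] }
  let β : B₀ →ₐ[A₀] C A := (ξ.restrictScalars A₀).comp Algebra.TensorProduct.includeRight
  let ρ : (C A) ⊗[A₀] B₀ →ₐ[C A] C A :=
    Algebra.TensorProduct.lift (AlgHom.id (C A) (C A)) β (fun _ _ => Commute.all _ _)
  exact ⟨ρ.comp eqv.toAlgHom⟩

end Groth.Agent.Lib.Helper4.TensBig
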