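import Mathlib

/-!
# The constructible topology on a prime spectrum is profinite
-/

set_option autoImplicit false
set_option linter.style.haveILetI false
set_option linter.unusedSectionVars false
universe u

namespace Groth.Agent.Lib.Helper4.ConsTop

variable (A : Type u) [CommRing A]

/-- `Spec A` with the constructible topology -/
abbrev Cons : Type u := WithConstructibleTopology (PrimeSpectrum A)

variable {A}

/-- the underlying prime -/
def toSpec (t : Cons A) : PrimeSpectrum A := WithTopology.ofTopology t

theorem toSpec_bijective : Function.Bijective (toSpec : Cons A → PrimeSpectrum A) :=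
  (WithTopology.equiv _ _).bijective

theorem isOpen_basicOpen (a : A) : IsOpen {t : Cons A | a ∉ (toSpec t).asIdeal} := by
  rw [WithConstructibleTopology.isOpen_iff]
  have : (WithTopology.toTopology (constructibleTopology (PrimeSpectrum A))) ⁻¹'
      {t : Cons A | a ∉ (toSpec t).asIdeal} =
      (PrimeSpectrum.basicOpen a : Set (PrimeSpectrum A)) := rfl
  rw [this]
  exact IsCompact.isOpen_constructibleTopology_of_isOpen
    (PrimeSpectrum.isCompact_basicOpen a) (PrimeSpectrum.basicOpen a).2

theorem isOpen_zeroLocus (a : A) : IsOpen {t : Cons A | a ∈ (toSpec t).asIdeal} := by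
  rw [WithConstructibleTopology.isOpen_iff]
  have : (WithTopology.toTopology (constructibleTopology (PrimeSpectrum A))) ⁻¹'
      {t : Cons A | a ∈ (toSpec t).asIdeal} =
      (PrimeSpectrum.basicOpen a : Set (PrimeSpectrum A))ᶜ := by
    ext p
    simp [toSpec]
  rw [this]
  apply IsCompact.isOpen_constructibleTopology_of_isClosed
  · rw [compl_compl]
    exact PrimeSpectrum.isCompact_basicOpen a
  · exact (PrimeSpectrum.basicOpen a).2.isClosed_compl

theorem isClopen_zeroLocus (a : A) : IsClopen {t : Cons A | a ∈ (toSpec t).asIdeal} := by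
  refine ⟨?_, isOpen_zeroLocus a⟩
  rw [← isOpen_compl_iff]
  exact isOpen_basicOpen a

instance : TotallySeparatedSpace (Cons A) := by
  refine ⟨fun x _ y _ hxy => ?_⟩
  have hne : toSpec x ≠ toSpec y := fun h => hxy (toSpec_bijective.1 h)
  have hne' : (toSpec x).asIdeal ≠ (toSpec y).asIdeal := fun h => hne (PrimeSpectrum.ext h)
  by_cases hle : (toSpec x).asIdeal ≤ (toSpec y).asIdeal
  · -- some `a ∈ y \\ x`
    have : ¬ (toSpec y).asIdeal ≤ (toSpec x).asIdeal := fun h => hne' (le_antisymm hle h)
    obtain ⟨a, hay, hax⟩ := Set.not_subset.mp this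
    refine ⟨{t | a ∉ (toSpec t).asIdeal}, {t | a ∈ (toSpec t).asIdeal}, isOpen_basicOpen a,
      isOpen_zeroLocus a, hax, hay, ?_, ?_⟩
    · intro t _
      by_cases h : a ∈ (toSpec t).asIdeal
      · exact Or.inr h
      · exact Or.inl h
    · rw [Set.disjoint_left]
      intro t h1 h2
      exact h1 h2
  · obtain ⟨a, hax, hay⟩ := Set.not_subset.mp hle
    refine ⟨{t | a ∈ (toSpec t).asIdeal}, {t | a ∉ (toSpec t).asIdeal}, isOpen_zeroLocus a,
      isOpen_basicOpen a, hax, hay, ?_, ?_⟩
    · intro t _
      by_cases h : a ∈ (toSpec t).asIdeal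
      · exact Or.inl h
      · exact Or.inr h
    · rw [Set.disjoint_left]
      intro t h1 h2
      exact h2 h1

example : T2Space (Cons A) := inferInstance
example : TotallyDisconnectedSpace (Cons A) := inferInstance
example : CompactSpace (Cons A) := inferInstance

end Groth.Agent.Lib.Helper4.ConsTop
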