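import Mathlib
import Groth.Agent.Lib.Helper4.LocSec3

/-!
# Extended ideals in `Sec S`
-/

set_option autoImplicit false
set_option linter.style.haveILetI false
set_option linter.unusedSectionVars false
universe u

namespace Groth.Agent.Lib.Helper4.LocSec

open Topology

variable {A : Type u} [CommRing A] {T : Type u} [TopologicalSpace T] {S : T → Submonoid A}
variable [CompactSpace T] [T2Space T] [TotallyDisconnectedSpace T]
variable (hS : ∀ a : A, IsOpen {t | a ∈ S t})

omit [CompactSpace T] [T2Space T] [TotallyDisconnectedSpace T] in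
theorem ev_mem_map_of_mem (I : Ideal A) (s : Sec S) (hs : s ∈ I.map (algebraMap A (Sec S)))
    (t : T) : s.1 t ∈ I.map (algebraMap A (Localization (S t))) := by
  have h1 : I.map (algebraMap A (Sec S)) ≤
      (I.map (algebraMap A (Localization (S t)))).comap (ev S t).toRingHom := by
    rw [Ideal.map_le_iff_le_comap]
    intro a ha
    change ev S t (algebraMap A (Sec S) a) ∈ I.map (algebraMap A (Localization (S t)))
    rw [AlgHom.commutes]
    exact Ideal.mem_map_of_mem _ ha
  exact h1 hs

include hS in
set_option maxHeartbeats 1000000 in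
/-- a section lying pointwise in the extended ideal lies in the extended ideal -/
theorem mem_map_of_forall (I : Ideal A) (s : Sec S)
    (hs : ∀ t, s.1 t ∈ I.map (algebraMap A (Localization (S t)))) :
    s ∈ I.map (algebraMap A (Sec S)) := by
  classical
  have hloc : ∀ t₀ : T, ∃ (N : Set T) (hN : IsClopen N), t₀ ∈ N ∧
      s * ind N hN ∈ I.map (algebraMap A (Sec S)) := by
    intro t₀
    obtain ⟨N', hN', htN', a', f', h'⟩ := s.2 t₀
    obtain ⟨hf't₀, heq₀⟩ := h' t₀ htN'
    have h1 : algebraMap A (Localization (S t₀)) a' ∈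
        I.map (algebraMap A (Localization (S t₀))) := by
      rw [← heq₀]
      exact Ideal.mul_mem_left _ _ (hs t₀)
    rw [IsLocalization.mem_map_algebraMap_iff (S t₀)] at h1
    obtain ⟨⟨⟨i, hi⟩, c⟩, h2⟩ := h1
    rw [← map_mul, IsLocalization.eq_iff_exists (S t₀)] at h2
    obtain ⟨c', h3⟩ := h2
    -- `c'' a' ∈ I` with `c'' = c' * c ∈ S t₀`
    have hc'' : (c' : A) * (c : A) ∈ S t₀ := (S t₀).mul_mem c'.2 c.2
    have hI : (c' : A) * (c : A) * a' ∈ I := by
      have : (c' : A) * (c : A) * a' = c' * (a' * c) := by ring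
      rw [this, h3]
      exact I.mul_mem_left _ hi
    obtain ⟨N, hN, htN, hNU⟩ := exists_clopen_nbhd (hN'.isOpen.inter (hS ((c' : A) * (c : A))))
      (show t₀ ∈ N' ∩ {t | (c' : A) * (c : A) ∈ S t} from ⟨htN', hc''⟩)
    refine ⟨N, hN, htN, ?_⟩
    have hden : ∀ t ∈ N, (c' : A) * (c : A) * f' ∈ S t := fun t ht =>
      (S t).mul_mem (hNU ht).2 (h' t (hNU ht).1).1
    have heq : s * ind N hN = algebraMap A (Sec S) ((c' : A) * (c : A) * a') *
        frac N hN 1 ((c' : A) * (c : A) * f') hden := by
      apply Sec.ext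
      intro t
      rw [mul_apply, mul_apply, algebraMap_apply]
      by_cases ht : t ∈ N
      · rw [ind_apply_mem hN ht, mul_one]
        have hu := isUnit_of_mem (S := S) (t := t) (hden t ht)
        apply hu.mul_left_cancel
        have h5 := frac_spec hN 1 ((c' : A) * (c : A) * f') hden ht
        have h6 := (h' t (hNU ht).1).2
        calc algebraMap A (Localization (S t)) ((c' : A) * (c : A) * f') * s.1 t
            = algebraMap A (Localization (S t)) ((c' : A) * (c : A)) *
              (algebraMap A (Localization (S t)) f' * s.1 t) := by rw [map_mul]; ring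
          _ = algebraMap A (Localization (S t)) ((c' : A) * (c : A) * a') := by
              rw [h6, ← map_mul]
          _ = algebraMap A (Localization (S t)) ((c' : A) * (c : A) * a') *
              (algebraMap A (Localization (S t)) ((c' : A) * (c : A) * f') *
                (frac N hN 1 ((c' : A) * (c : A) * f') hden).1 t) := by
              rw [h5, map_one, mul_one]
          _ = _ := by ring
      · rw [ind_apply_notMem hN ht, frac_apply_notMem hN _ _ _ ht, mul_zero, mul_zero]
    rw [heq]
    exact Ideal.mul_mem_right _ _ (Ideal.mem_map_of_mem _ hI)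
  have key : ∃ (N : Set T) (hN : IsClopen N), Set.univ ⊆ N ∧
      s * ind N hN ∈ I.map (algebraMap A (Sec S)) := by
    refine IsCompact.induction_on (p := fun U => ∃ (N : Set T) (hN : IsClopen N),
      U ⊆ N ∧ s * ind (S := S) N hN ∈ I.map (algebraMap A (Sec S))) isCompact_univ ?_ ?_ ?_ ?_
    · exact ⟨∅, isClopen_empty, subset_rfl, by rw [ind_empty, mul_zero]; exact Ideal.zero_mem _⟩
    · rintro U V hUV ⟨N, hN, hVN, hq⟩
      exact ⟨N, hN, hUV.trans hVN, hq⟩
    · rintro U V ⟨N, hN, hUN, hq⟩ ⟨N', hN', hVN', hq'⟩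
      refine ⟨N ∪ N', hN.union hN', Set.union_subset_union hUN hVN', ?_⟩
      rw [ind_union hN hN']
      have : s * (ind N hN + ind N' hN' - ind N hN * ind N' hN') =
          s * ind N hN + s * ind N' hN' - (s * ind N hN) * ind N' hN' := by ring
      rw [this]
      exact Ideal.sub_mem _ (Ideal.add_mem _ hq hq') (Ideal.mul_mem_right _ _ hq)
    · intro x _
      obtain ⟨N, hN, hxN, hq⟩ := hloc x
      exact ⟨N, mem_nhdsWithin_of_mem_nhds (hN.isOpen.mem_nhds hxN), N, hN, subset_rfl, hq⟩
  obtain ⟨N, hN, hsub, hq⟩ := key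
  have hNu : N = Set.univ := Set.eq_univ_of_univ_subset hsub
  rw [ind_congr hN isClopen_univ hNu, ind_univ, mul_one] at hq
  exact hq

end Groth.Agent.Lib.Helper4.LocSec
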