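import Mathlib
import Groth.Prelude.Def_ProEtW
import Groth.Agent.Lib.Helper4.LocSec6
import Groth.Agent.Lib.Helper4.LocSec7

/-!
# Zariski localization along a profinite closed subset `V(I)`
-/

set_option autoImplicit false
set_option linter.style.haveILetI false
set_option linter.unusedSectionVars false
universe u

namespace Groth.Agent.Lib.Helper4.LocSec

open Topology

variable {A : Type u} [CommRing A] (I : Ideal A)

/-- the closed subset `V(I)` as a type -/
abbrev TI : Type u := ↥(PrimeSpectrum.zeroLocus (I : Set A))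

/-- the family of primes -/
def PI : TI I → PrimeSpectrum A := Subtype.val

theorem le_of_mem (t : TI I) : I ≤ (PI I t).asIdeal := fun _ hx => t.2 hx

variable [CompactSpace (TI I)] [T2Space (TI I)]

theorem hPI : ∀ a : A, IsClopen {t : TI I | a ∈ (PI I t).asIdeal} := by
  intro a
  constructor
  · have : {t : TI I | a ∈ (PI I t).asIdeal} =
        (Subtype.val : TI I → PrimeSpectrum A) ⁻¹' (PrimeSpectrum.zeroLocus {a}) := by
      ext t
      simp [PI]
    rw [this]
    exact (PrimeSpectrum.isClosed_zeroLocus _).preimage continuous_subtype_val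
  · rw [← isClosed_compl_iff]
    have : {t : TI I | a ∈ (PI I t).asIdeal}ᶜ =
        (Subtype.val : TI I → PrimeSpectrum A) ⁻¹' (PrimeSpectrum.basicOpen a : Set _) := by
      ext t
      rfl
    rw [this]
    apply IsCompact.isClosed
    apply Topology.IsInducing.isCompact_preimage Topology.IsInducing.subtypeVal
    · rw [Subtype.range_coe]
      exact PrimeSpectrum.isClosed_zeroLocus _
    · exact PrimeSpectrum.isCompact_basicOpen a

omit [CompactSpace (TI I)] [T2Space (TI I)] in
/-- lifting idempotents: every clopen of `V(I)` is cut out by an element idempotent mod `I` -/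
theorem exists_eps (N : Set (TI I)) (hN : IsClopen N) :
    ∃ ε : A, ε * (1 - ε) ∈ I ∧ ∀ t : TI I, t ∈ N ↔ ε ∉ (PI I t).asIdeal := by
  let φ : PrimeSpectrum (A ⧸ I) → TI I := fun q =>
    ⟨PrimeSpectrum.comap (Ideal.Quotient.mk I) q, by
      intro x hx
      change Ideal.Quotient.mk I x ∈ q.asIdeal
      rw [Ideal.Quotient.eq_zero_iff_mem.mpr hx]
      exact q.asIdeal.zero_mem⟩
  have hφ : Continuous φ :=
    Continuous.subtype_mk (PrimeSpectrum.continuous_comap (Ideal.Quotient.mk I)) _
  obtain ⟨e, he, heq⟩ := PrimeSpectrum.isClopen_iff.mp (hN.preimage hφ)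
  obtain ⟨ε, rfl⟩ := Ideal.Quotient.mk_surjective e
  refine ⟨ε, ?_, ?_⟩
  · rw [← Ideal.Quotient.eq_zero_iff_mem, map_mul, map_sub, map_one, mul_sub, mul_one, he.eq,
      sub_self]
  · intro t
    have hle : I ≤ t.1.asIdeal := le_of_mem I t
    have hprime : (t.1.asIdeal.map (Ideal.Quotient.mk I)).IsPrime :=
      Ideal.map_isPrime_of_surjective Ideal.Quotient.mk_surjective (by rwa [Ideal.mk_ker])
    let q : PrimeSpectrum (A ⧸ I) := ⟨_, hprime⟩
    have hq : φ q = t := by
      apply Subtype.ext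
      apply PrimeSpectrum.ext
      change (t.1.asIdeal.map (Ideal.Quotient.mk I)).comap (Ideal.Quotient.mk I) = t.1.asIdeal
      rw [Ideal.comap_map_of_surjective _ Ideal.Quotient.mk_surjective,
        ← RingHom.ker_eq_comap_bot, Ideal.mk_ker]
      exact sup_eq_left.mpr hle
    have h1 : q ∈ φ ⁻¹' N ↔ t ∈ N := by
      change φ q ∈ N ↔ _
      rw [hq]
    rw [← h1, heq]
    change Ideal.Quotient.mk I ε ∉ t.1.asIdeal.map (Ideal.Quotient.mk I) ↔ _
    rw [Ideal.mem_quotient_iff_mem hle]
    rfl

variable [TotallyDisconnectedSpace (TI I)]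

omit [CompactSpace (TI I)] [T2Space (TI I)] [TotallyDisconnectedSpace (TI I)] in
theorem mem_map_of_mul_mem {t : TI I} {u x : A} (hu : u ∉ (PI I t).asIdeal) (h : u * x ∈ I) :
    algebraMap A (Localization (Sp (PI I) t)) x ∈
      I.map (algebraMap A (Localization (Sp (PI I) t))) := by
  have hunit : IsUnit (algebraMap A (Localization (Sp (PI I) t)) u) :=
    isUnit_of_mem (S := Sp (PI I)) (t := t) hu
  have h1 : algebraMap A (Localization (Sp (PI I) t)) (u * x) ∈
      I.map (algebraMap A (Localization (Sp (PI I) t))) := Ideal.mem_map_of_mem _ h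
  rw [map_mul] at h1
  obtain ⟨v, hv⟩ := hunit
  have h2 := Ideal.mul_mem_left _ (↑v⁻¹ : Localization (Sp (PI I) t)) h1
  rwa [← hv, ← mul_assoc, Units.inv_mul, one_mul] at h2

omit [CompactSpace (TI I)] [T2Space (TI I)] [TotallyDisconnectedSpace (TI I)] in
theorem eps_mem {N : Set (TI I)} {ε : A} (h1 : ε * (1 - ε) ∈ I)
    (h2 : ∀ t : TI I, t ∈ N ↔ ε ∉ (PI I t).asIdeal) (t : TI I) :
    (t ∈ N → algebraMap A (Localization (Sp (PI I) t)) (1 - ε) ∈
      I.map (algebraMap A (Localization (Sp (PI I) t)))) ∧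
    (t ∉ N → algebraMap A (Localization (Sp (PI I) t)) ε ∈
      I.map (algebraMap A (Localization (Sp (PI I) t)))) := by
  constructor
  · intro ht
    exact mem_map_of_mul_mem I ((h2 t).mp ht) h1
  · intro ht
    have hε : ε ∈ (PI I t).asIdeal := by
      by_contra h
      exact ht ((h2 t).mpr h)
    have h1ε : (1 - ε) ∉ (PI I t).asIdeal := by
      intro h
      apply (PI I t).2.ne_top
      rw [Ideal.eq_top_iff_one]
      have := (PI I t).asIdeal.add_mem h hε
      simpa using this
    exact mem_map_of_mul_mem I h1ε (by rw [mul_comm]; exact h1)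

/-- injectivity of `A/I → B/IB` -/
theorem quotientMap_injective :
    Function.Injective (Ideal.quotientMap (I.map (algebraMap A (Sec (Sp (PI I)))))
      (algebraMap A (Sec (Sp (PI I)))) Ideal.le_comap_map) := by
  rw [injective_iff_map_eq_zero]
  intro x hx
  obtain ⟨a, rfl⟩ := Ideal.Quotient.mk_surjective x
  rw [Ideal.quotientMap_mk, Ideal.Quotient.eq_zero_iff_mem] at hx
  rw [Ideal.Quotient.eq_zero_iff_mem]
  by_contra haI
  let J : Ideal A := (I : Submodule A A).colon ({a} : Set A)
  have hJ : ∀ x : A, x ∈ J ↔ x * a ∈ I := fun x => by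
    change x ∈ (I : Submodule A A).colon ({a} : Set A) ↔ _
    rw [Submodule.mem_colon_singleton]
    rfl
  have hJtop : J ≠ ⊤ := by
    intro h
    have : (1 : A) ∈ J := by rw [h]; trivial
    rw [hJ, one_mul] at this
    exact haI this
  obtain ⟨m, hm, hle⟩ := Ideal.exists_le_maximal _ hJtop
  have hIm : I ≤ m := fun i hi => hle ((hJ i).mpr (I.mul_mem_right _ hi))
  let t : TI I := ⟨⟨m, hm.isPrime⟩, fun x hx => hIm hx⟩
  have h1 := ev_mem_map_of_mem (S := Sp (PI I)) I _ hx t
  rw [algebraMap_apply, IsLocalization.mem_map_algebraMap_iff (Sp (PI I) t)] at h1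
  obtain ⟨⟨⟨i, hi⟩, c⟩, h2⟩ := h1
  rw [← map_mul, IsLocalization.eq_iff_exists (Sp (PI I) t)] at h2
  obtain ⟨c', h3⟩ := h2
  have h4 : (c' : A) * (c : A) ∈ J := by
    rw [hJ]
    have : (c' : A) * (c : A) * a = c' * (a * c) := by ring
    rw [this, h3]
    exact I.mul_mem_left _ hi
  have h5 := hle h4
  rcases hm.isPrime.mem_or_mem h5 with h | h
  · exact c'.2 h
  · exact c.2 h

end Groth.Agent.Lib.Helper4.LocSec
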