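import Mathlib
import Groth.Prelude.Def_ProEtW
import Groth.Agent.Lib.Helper4.LocSec8

/-!
# Zariski localization along a profinite closed subset `V(I)`: surjectivity and closed points
-/

set_option autoImplicit false
set_option linter.style.haveILetI false
set_option linter.unusedSectionVars false
universe u

namespace Groth.Agent.Lib.Helper4.LocSec

open Topology

variable {A : Type u} [CommRing A] (I : Ideal A)
variable [CompactSpace (TI I)] [T2Space (TI I)] [TotallyDisconnectedSpace (TI I)]

set_option maxHeartbeats 1000000 in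
/-- every section is congruent to a constant modulo `I` -/
theorem exists_const_congr (b : Sec (Sp (PI I))) :
    ∃ a : A, ∀ t : TI I, b.1 t - algebraMap A (Localization (Sp (PI I) t)) a ∈
      I.map (algebraMap A (Localization (Sp (PI I) t))) := by
  classical
  have hS := hS_of_hP (PI I) (hPI I)
  have key : ∃ (N : Set (TI I)) (_ : IsClopen N), Set.univ ⊆ N ∧ ∃ a : A, ∀ t ∈ N,
      b.1 t - algebraMap A (Localization (Sp (PI I) t)) a ∈
        I.map (algebraMap A (Localization (Sp (PI I) t))) := by
    refine IsCompact.induction_on (p := fun U => ∃ (N : Set (TI I)) (_ : IsClopen N),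
      U ⊆ N ∧ ∃ a : A, ∀ t ∈ N, b.1 t - algebraMap A (Localization (Sp (PI I) t)) a ∈
        I.map (algebraMap A (Localization (Sp (PI I) t)))) isCompact_univ ?_ ?_ ?_ ?_
    · exact ⟨∅, isClopen_empty, subset_rfl, 0, fun t ht => (Set.notMem_empty t ht).elim⟩
    · rintro U V hUV ⟨N, hN, hVN, hq⟩
      exact ⟨N, hN, hUV.trans hVN, hq⟩
    · rintro U V ⟨N, hN, hUN, a, ha⟩ ⟨N', hN', hVN', a', ha'⟩
      obtain ⟨ε, hε1, hε2⟩ := exists_eps I N hN
      refine ⟨N ∪ N', hN.union hN', Set.union_subset_union hUN hVN',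
        ε * a + (1 - ε) * a', fun t ht => ?_⟩
      by_cases htN : t ∈ N
      · have h1 := (eps_mem I hε1 hε2 t).1 htN
        have : b.1 t - algebraMap A (Localization (Sp (PI I) t)) (ε * a + (1 - ε) * a') =
            (b.1 t - algebraMap A (Localization (Sp (PI I) t)) a) +
            algebraMap A (Localization (Sp (PI I) t)) (1 - ε) *
              (algebraMap A (Localization (Sp (PI I) t)) a -
                algebraMap A (Localization (Sp (PI I) t)) a') := by
          simp only [map_add, map_mul, map_sub, map_one]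
          ring
        rw [this]
        exact Ideal.add_mem _ (ha t htN) (Ideal.mul_mem_right _ _ h1)
      · have htN' : t ∈ N' := ht.resolve_left htN
        have h1 := (eps_mem I hε1 hε2 t).2 htN
        have : b.1 t - algebraMap A (Localization (Sp (PI I) t)) (ε * a + (1 - ε) * a') =
            (b.1 t - algebraMap A (Localization (Sp (PI I) t)) a') +
            algebraMap A (Localization (Sp (PI I) t)) ε *
              (algebraMap A (Localization (Sp (PI I) t)) a' -
                algebraMap A (Localization (Sp (PI I) t)) a) := by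
          simp only [map_add, map_mul, map_sub, map_one]
          ring
        rw [this]
        exact Ideal.add_mem _ (ha' t htN') (Ideal.mul_mem_right _ _ h1)
    · intro t₀ _
      obtain ⟨N₀, hN₀, htN₀, a₀, f₀, h₀⟩ := b.2 t₀
      obtain ⟨ε, hε1, hε2⟩ := exists_eps I N₀ hN₀
      -- `I + (f₀) + (1 - ε) = ⊤`
      have htop : I ⊔ Ideal.span {f₀} ⊔ Ideal.span {1 - ε} = ⊤ := by
        by_contra hne
        obtain ⟨m, hm, hle⟩ := Ideal.exists_le_maximal _ hne
        have hIm : I ≤ m := le_sup_left.trans (le_sup_left.trans hle)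
        have hfm : f₀ ∈ m := hle (Ideal.mem_sup_left (Ideal.mem_sup_right
          (Ideal.mem_span_singleton_self _)))
        have hεm : (1 - ε) ∈ m := hle (Ideal.mem_sup_right (Ideal.mem_span_singleton_self _))
        let t : TI I := ⟨⟨m, hm.isPrime⟩, fun x hx => hIm hx⟩
        have hεt : ε ∉ (PI I t).asIdeal := by
          intro h
          apply hm.ne_top
          rw [Ideal.eq_top_iff_one]
          have := m.add_mem hεm h
          simpa using this
        have htN : t ∈ N₀ := (hε2 t).mpr hεt
        exact (h₀ t htN).1 hfm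
      obtain ⟨x, hx, d', hd', hxd⟩ := Submodule.mem_sup.mp ((Ideal.eq_top_iff_one _).mp htop)
      obtain ⟨i, hi, c', hc', hic⟩ := Submodule.mem_sup.mp hx
      obtain ⟨c, rfl⟩ := Ideal.mem_span_singleton'.mp hc'
      obtain ⟨d, rfl⟩ := Ideal.mem_span_singleton'.mp hd'
      -- `i + c f₀ + d (1 - ε) = 1`
      refine ⟨N₀, mem_nhdsWithin_of_mem_nhds (hN₀.isOpen.mem_nhds htN₀), N₀, hN₀, subset_rfl,
        c * a₀, fun t ht => ?_⟩
      have h1 := (eps_mem I hε1 hε2 t).1 ht
      obtain ⟨hft, hfeq⟩ := h₀ t ht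
      have hone : (1 : Localization (Sp (PI I) t)) =
          algebraMap A (Localization (Sp (PI I) t)) i +
          algebraMap A (Localization (Sp (PI I) t)) c *
            algebraMap A (Localization (Sp (PI I) t)) f₀ +
          algebraMap A (Localization (Sp (PI I) t)) d *
            algebraMap A (Localization (Sp (PI I) t)) (1 - ε) := by
        rw [← map_mul, ← map_mul, ← map_add, ← map_add, hic, hxd, map_one]
      have : b.1 t - algebraMap A (Localization (Sp (PI I) t)) (c * a₀) =
          b.1 t * (algebraMap A (Localization (Sp (PI I) t)) i +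
            algebraMap A (Localization (Sp (PI I) t)) d *
            algebraMap A (Localization (Sp (PI I) t)) (1 - ε)) := by
        rw [map_mul, ← hfeq]
        calc b.1 t - algebraMap A (Localization (Sp (PI I) t)) c *
              (algebraMap A (Localization (Sp (PI I) t)) f₀ * b.1 t)
            = b.1 t * (1 - algebraMap A (Localization (Sp (PI I) t)) c *
              algebraMap A (Localization (Sp (PI I) t)) f₀) := by ring
          _ = _ := by
              congr 1
              nth_rw 1 [hone]
              ring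
      rw [this]
      apply Ideal.mul_mem_left
      exact Ideal.add_mem _ (Ideal.mem_map_of_mem _ hi) (Ideal.mul_mem_left _ _ h1)
  obtain ⟨N, hN, hsub, a, ha⟩ := key
  exact ⟨a, fun t => ha t (hsub (Set.mem_univ t))⟩

/-- surjectivity of `A/I → B/IB` -/
theorem quotientMap_surjective :
    Function.Surjective (Ideal.quotientMap (I.map (algebraMap A (Sec (Sp (PI I)))))
      (algebraMap A (Sec (Sp (PI I)))) Ideal.le_comap_map) := by
  intro y
  obtain ⟨b, rfl⟩ := Ideal.Quotient.mk_surjective y
  obtain ⟨a, ha⟩ := exists_const_congr I b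
  refine ⟨Ideal.Quotient.mk I a, ?_⟩
  rw [Ideal.quotientMap_mk, eq_comm, ← sub_eq_zero, ← map_sub, Ideal.Quotient.eq_zero_iff_mem]
  apply mem_map_of_forall (hS_of_hP (PI I) (hPI I))
  intro t
  exact ha t

omit [CompactSpace (TI I)] [T2Space (TI I)] [TotallyDisconnectedSpace (TI I)] in
theorem comap_ev_eq_mpt (t : TI I) (𝔭 : PrimeSpectrum (Localization (Sp (PI I) t)))
    (h : PrimeSpectrum.comap (algebraMap A (Localization (Sp (PI I) t))) 𝔭 = PI I t) :
    PrimeSpectrum.comap (ev (Sp (PI I)) t).toRingHom 𝔭 = mpt (PI I) t := by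
  have h𝔭max : 𝔭 = IsLocalRing.closedPoint (Localization (Sp (PI I) t)) := by
    apply PrimeSpectrum.localization_comap_injective (Localization (Sp (PI I) t))
      (Sp (PI I) t)
    rw [h]
    apply PrimeSpectrum.ext
    exact (Localization.AtPrime.under_maximalIdeal (I := (PI I t).asIdeal)).symm
  rw [h𝔭max]
  rfl

/-- the closed points of `Spec (Sec (Sp (PI I)))` are `V(IB)` -/
theorem closedPoints_eq_zeroLocus_map :
    ProEtW.closedPoints (PrimeSpectrum (Sec (Sp (PI I)))) =
      PrimeSpectrum.zeroLocus (I.map (algebraMap A (Sec (Sp (PI I))))) := by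
  rw [closedPoints_eq_range (PI I) (hPI I)]
  ext 𝔮
  constructor
  · rintro ⟨t, rfl⟩
    have : I.map (algebraMap A (Sec (Sp (PI I)))) ≤ (mpt (PI I) t).asIdeal := by
      rw [Ideal.map_le_iff_le_comap]
      intro a ha
      have h1 := comap_mpt (PI I) t
      have h2 : a ∈ (PrimeSpectrum.comap (algebraMap A (Sec (Sp (PI I))))
          (mpt (PI I) t)).asIdeal := by
        rw [h1]
        exact le_of_mem I t ha
      exact h2
    exact this
  · intro h𝔮
    have hle : I.map (algebraMap A (Sec (Sp (PI I)))) ≤ 𝔮.asIdeal := h𝔮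
    have hS := hS_of_hP (PI I) (hPI I)
    obtain ⟨𝔭, h𝔭⟩ := exists_comap_ev hS 𝔮
    have hIp : I ≤ (PrimeSpectrum.comap (algebraMap A (Sec (Sp (PI I)))) 𝔮).asIdeal :=
      fun a ha => hle (Ideal.mem_map_of_mem _ ha)
    -- `p ≤ PI (pt 𝔮)`
    have hple : PrimeSpectrum.comap (algebraMap A (Sec (Sp (PI I)))) 𝔮 ≤ PI I (pt 𝔮) := by
      have h1 : 𝔮 ≤ mpt (PI I) (pt 𝔮) := le_mpt (PI I) (hPI I) 𝔮
      have h2 : PrimeSpectrum.comap (algebraMap A (Sec (Sp (PI I)))) 𝔮 ≤
          PrimeSpectrum.comap (algebraMap A (Sec (Sp (PI I)))) (mpt (PI I) (pt 𝔮)) :=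
        fun a ha => h1 ha
      rw [comap_mpt] at h2
      exact h2
    let t' : TI I := ⟨PrimeSpectrum.comap (algebraMap A (Sec (Sp (PI I)))) 𝔮,
      fun x hx => hIp hx⟩
    have hspec : t' ⤳ pt 𝔮 := by
      rw [subtype_specializes_iff]
      exact (PrimeSpectrum.le_iff_specializes _ _).mp hple
    have hteq : t' = pt 𝔮 := hspec.eq
    have hpeq : PrimeSpectrum.comap (algebraMap A (Sec (Sp (PI I)))) 𝔮 = PI I (pt 𝔮) :=
      congrArg (PI I) hteq
    have h3 : PrimeSpectrum.comap (algebraMap A (Sec (Sp (PI I))))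
        (PrimeSpectrum.comap (ev (Sp (PI I)) (pt 𝔮)).toRingHom 𝔭) =
        PrimeSpectrum.comap (algebraMap A (Sec (Sp (PI I)))) 𝔮 := congrArg _ h𝔭
    rw [comap_algebraMap_comap_ev, hpeq] at h3
    have h4 := comap_ev_eq_mpt I (pt 𝔮) 𝔭 h3
    exact ⟨pt 𝔮, h4.symm.trans h𝔭⟩

end Groth.Agent.Lib.Helper4.LocSec
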