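import Mathlib
import Groth.Prelude.Def_PBC
import Groth.Prelude.Def_ProEtW
import Groth.Prelude.Def_EtBase
import Groth.Agent.Lib.Helper4.Sq1
import Groth.Agent.Lib.Helper4.Sq2
import Groth.Agent.Lib.Helper4.Sq3
import Groth.Agent.Lib.Helper4.WLocMisc
import Groth.Agent.Lib.Helper4.WLocRetr1
import Groth.Agent.Lib.Helper4.IdLoc2
import Groth.Agent.S0694
import Groth.Agent.S0693
import Groth.Agent.S0705
import Groth.Agent.S0675
import Groth.Agent.S0734
import Groth.Agent.S0733

/-!
# The w-local ind-étale square: the two stages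
-/

set_option autoImplicit false
set_option linter.style.haveILetI false
set_option linter.unusedSectionVars false
universe u

namespace Groth.Agent.Lib.Helper4.Sq

open TensorProduct

set_option synthInstance.maxHeartbeats 400000 in
set_option maxHeartbeats 2000000 in
/-- Stage 1: a faithfully flat ind-étale w-local cover with strictly henselian local rings at
closed points, whose closed points surject onto `Spec A`. -/
theorem stage1 (A : Type u) [CommRing A] :
    ∃ (C : Type u) (_ : CommRing C) (_ : Algebra A C),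
      Module.FaithfullyFlat A C ∧ EtPBC.IsIndEtale A C ∧ ProEtW.IsWLocal (PrimeSpectrum C) ∧
      PrimeSpectrum.comap (algebraMap A C) '' ProEtW.closedPoints (PrimeSpectrum C) = Set.univ ∧
      ∀ (m : Ideal C) [m.IsMaximal],
        EtCoh.IsStrictlyHenselianLocalRing (Localization.AtPrime m) := by
  classical
  obtain ⟨A', instA', algA', hffA', hZA', hWA', hbijA'⟩ := Groth.Agent.S0694.result A
  obtain ⟨C', instC', algC', hffC', hEtC', hretr⟩ := Groth.Agent.S0693.result A'
  let I' : Ideal A' := PrimeSpectrum.vanishingIdeal (ProEtW.closedPoints (PrimeSpectrum A'))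
  have hI0 : PrimeSpectrum.zeroLocus (I' : Set A') = ProEtW.closedPoints (PrimeSpectrum A') := by
    rw [PrimeSpectrum.zeroLocus_vanishingIdeal_eq_closure]
    exact hWA'.2.1.closure_eq
  let I'' : Ideal C' := I'.map (algebraMap A' C')
  have hmaxC' : ∀ Q : PrimeSpectrum C', Q ∈ PrimeSpectrum.zeroLocus (I'' : Set C') →
      Q.asIdeal.IsMaximal := by
    intro Q hQ
    have hp : PrimeSpectrum.comap (algebraMap A' C') Q ∈
        PrimeSpectrum.zeroLocus (I' : Set A') := by
      intro a ha
      exact hQ (Ideal.mem_map_of_mem _ ha)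
    rw [hI0] at hp
    have hm : (Q.asIdeal.comap (algebraMap A' C')).IsMaximal :=
      (PrimeSpectrum.isClosed_singleton_iff_isMaximal _).mp hp
    exact isMaximal_of_isIndEtale A' C' hEtC' Q.asIdeal hm
  have hprof := WLocMisc.isProfinite_zeroLocus I'' hmaxC'
  obtain ⟨C, instC, algC'C, hZC, hWC, hclC, hbijC⟩ := Groth.Agent.S0705.result C' I'' hprof
  letI algA'C : Algebra A' C := ((algebraMap C' C).comp (algebraMap A' C')).toAlgebra
  haveI tower1 : IsScalarTower A' C' C := IsScalarTower.of_algebraMap_eq (fun _ => rfl)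
  letI algAC : Algebra A C := ((algebraMap A' C).comp (algebraMap A A')).toAlgebra
  haveI tower2 : IsScalarTower A A' C := IsScalarTower.of_algebraMap_eq (fun _ => rfl)
  have hEt1 : EtPBC.IsIndEtale A' C :=
    Groth.Agent.S0734.result A' C' C hEtC' (isIndEtale_of_isIndZariski C' C hZC)
  have hEt : EtPBC.IsIndEtale A C :=
    Groth.Agent.S0734.result A A' C (isIndEtale_of_isIndZariski A A' hZA') hEt1
  have hidl : EtPBC.IdentifiesLocalRings C' C := IdLoc.of_isIndZariski C' C hZC
  haveI hfl1 : Module.Flat C' C := IdLoc.flat C' C hidl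
  haveI hfl2 : Module.Flat A' C := Module.Flat.trans A' C' C
  haveI hfl3 : Module.Flat A C := Module.Flat.trans A A' C
  have hsurj : PrimeSpectrum.comap (algebraMap A C) '' ProEtW.closedPoints (PrimeSpectrum C) =
      Set.univ := by
    rw [Set.eq_univ_iff_forall]
    intro p
    obtain ⟨t, ht, htp⟩ := hbijA'.surjOn (Set.mem_univ p)
    obtain ⟨Q', hQ't⟩ := PrimeSpectrum.comap_surjective_of_faithfullyFlat (A := A') (B := C') t
    have hQ'I : I'' ≤ Q'.asIdeal := by
      rw [Ideal.map_le_iff_le_comap]
      have h1 : t ∈ PrimeSpectrum.zeroLocus (I' : Set A') := by rw [hI0]; exact ht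
      intro a ha
      have h2 : a ∈ t.asIdeal := h1 ha
      rw [← hQ't] at h2
      exact h2
    obtain ⟨Q, hQQ', hQI⟩ :=
      WLocRetr.exists_prime_over_of_bijective_quotientMap I'' hbijC Q' hQ'I
    refine ⟨Q, ?_, ?_⟩
    · rw [hclC]
      exact hQI
    · rw [← htp, ← hQ't, ← hQQ']
      rfl
  haveI hffC : Module.FaithfullyFlat A C := Module.FaithfullyFlat.of_comap_surjective (by
    intro p
    have h1 : p ∈ PrimeSpectrum.comap (algebraMap A C) '' ProEtW.closedPoints (PrimeSpectrum C) := by
      rw [hsurj]; trivial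
    obtain ⟨Q, -, hQ⟩ := h1
    exact ⟨Q, hQ⟩)
  have hSH : ∀ (m : Ideal C) [m.IsMaximal],
      EtCoh.IsStrictlyHenselianLocalRing (Localization.AtPrime m) := by
    intro m hm
    haveI : m.IsPrime := hm.isPrime
    have hmcl : (⟨m, hm.isPrime⟩ : PrimeSpectrum C) ∈ ProEtW.closedPoints (PrimeSpectrum C) :=
      (PrimeSpectrum.isClosed_singleton_iff_isMaximal _).mpr hm
    rw [hclC] at hmcl
    haveI hm' : (m.comap (algebraMap C' C)).IsMaximal := by
      apply hmaxC' ⟨m.comap (algebraMap C' C), inferInstance⟩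
      intro x hx
      exact hmcl (Ideal.mem_map_of_mem _ hx)
    have h1 := Groth.Agent.S0675.result C' hretr (m.comap (algebraMap C' C))
    exact isStrictlyHenselian_of_identifies hidl m h1
  exact ⟨C, instC, algAC, hffC, hEt, hWC, hsurj, hSH⟩

end Groth.Agent.Lib.Helper4.Sq
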