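import Mathlib
import Groth.Prelude.Def_PBC
import Groth.Agent.Lib.Helper4.IndZar1
import Groth.Agent.Lib.Lead.SpreadOut

/-!
# Localizations are ind-Zariski; idempotent localizations
-/

set_option autoImplicit false
set_option linter.style.haveILetI false
set_option linter.unusedSectionVars false
universe u

namespace Groth.Agent.Lib.Helper4.IndZar

open Groth.Agent.Lib.Lead.SpreadOut

variable {A B : Type u} [CommRing A] [CommRing B] [Algebra A B]

theorem isIndZariski_of_isLocalization (M : Submonoid A) [IsLocalization M B] :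
    EtPBC.IsIndZariski A B := by
  apply isIndZariski_of_factor
  intro Z _ _ _ g
  obtain ⟨t, ht, f', hf'⟩ := exists_lift_away (R := A) (T := A) (L := B) M g
  refine ⟨Localization.Away t, inferInstance, inferInstance, f',
    ι (R := A) (L := B) M t ht, ?_, inferInstance⟩
  ext z
  exact hf' z

/-- the submonoid of idempotents whose basic open contains a given set -/
def idemSubmonoid (Z : Set (PrimeSpectrum A)) : Submonoid A where
  carrier := {e | IsIdempotentElem e ∧ Z ⊆ (PrimeSpectrum.basicOpen e : Set (PrimeSpectrum A))}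
  one_mem' := ⟨IsIdempotentElem.one, fun p _ => by
    change (1 : A) ∉ p.asIdeal
    exact fun h => p.2.ne_top ((Ideal.eq_top_iff_one _).mpr h)⟩
  mul_mem' := by
    rintro e e' ⟨he, hZ⟩ ⟨he', hZ'⟩
    refine ⟨he.mul he', fun p hp => ?_⟩
    rw [PrimeSpectrum.basicOpen_mul]
    exact ⟨hZ hp, hZ' hp⟩

theorem surjective_of_idempotents (M : Submonoid A) (hM : ∀ e ∈ M, IsIdempotentElem e)
    [IsLocalization M B] : Function.Surjective (algebraMap A B) := by
  intro b
  obtain ⟨a, ⟨e, he⟩, rfl⟩ := IsLocalization.exists_mk'_eq M b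
  refine ⟨a * e, ?_⟩
  rw [IsLocalization.eq_mk'_iff_mul_eq, ← map_mul, IsLocalization.eq_iff_exists M]
  refine ⟨⟨e, he⟩, ?_⟩
  have h := hM e he
  change e * (a * e * e) = e * a
  have h' : e * e = e := h
  calc e * (a * e * e) = a * ((e * e) * e) := by ring
    _ = a * e := by rw [h', h']
    _ = e * a := by ring

end Groth.Agent.Lib.Helper4.IndZar
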