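import Mathlib
import Groth.Prelude.Def_ProEtW
import Groth.Agent.Lib.Helper4.WLocRetr1
import Groth.Agent.Lib.Helper4.IdLoc2
import Groth.Agent.S0698
import Groth.Agent.S0699
import Groth.Agent.S0737

/-!
# w-local rings with extremally disconnected `π₀` have ind-Zariski retractions
-/

set_option autoImplicit false
set_option linter.style.haveILetI false
set_option linter.unusedSectionVars false
universe u

namespace Groth.Agent.Lib.Helper4.WLocRetr

open Topology Groth.Agent.Lib.Helper20.SpecTop Groth.Agent.Lib.Helper4.LocSec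

set_option maxHeartbeats 2000000 in
set_option synthInstance.maxHeartbeats 400000 in
theorem exists_retraction (A : Type u) [CommRing A] (hA : ProEtW.IsWLocal (PrimeSpectrum A))
    (hED : ExtremallyDisconnected (_root_.ConnectedComponents (PrimeSpectrum A)))
    (B : Type u) [CommRing B] [Algebra A B] (hff : Module.FaithfullyFlat A B)
    (hZ : EtPBC.IsIndZariski A B) : Nonempty (B →ₐ[A] A) := by
  classical
  -- the ideal of closed points
  let I : Ideal A := PrimeSpectrum.vanishingIdeal (ProEtW.closedPoints (PrimeSpectrum A))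
  have hIrad : I.IsRadical := PrimeSpectrum.isRadical_vanishingIdeal _
  have hI0 : PrimeSpectrum.zeroLocus (R := A) I = ProEtW.closedPoints (PrimeSpectrum A) := by
    rw [PrimeSpectrum.zeroLocus_vanishingIdeal_eq_closure]
    exact hA.2.1.closure_eq
  have hidB : EtPBC.IdentifiesLocalRings A B := IdLoc.of_isIndZariski A B hZ
  have halg : ProEtW.AlgebraicResidueExtensions A B := IdLoc.algebraicResidueExtensions A B hidB
  obtain ⟨hsub, C, instC, algBC, algAC, tower, hZC, hbij, hWC, hWmap, hclC⟩ :=
    Groth.Agent.S0737.result A B hA I hIrad hI0 halg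
  have hidC : EtPBC.IdentifiesLocalRings A C :=
    IdLoc.comp A B C hidB (IdLoc.of_isIndZariski B C hZC)
  have hcomapC : ∀ r : PrimeSpectrum C, PrimeSpectrum.comap (algebraMap A C) r =
      PrimeSpectrum.comap (algebraMap A B) (PrimeSpectrum.comap (algebraMap B C) r) := by
    intro r
    apply PrimeSpectrum.ext
    ext a
    change algebraMap A C a ∈ r.asIdeal ↔ algebraMap B C (algebraMap A B a) ∈ r.asIdeal
    rw [← IsScalarTower.algebraMap_apply]
  -- surjectivity on closed points
  have hsurj : ∀ x : PrimeSpectrum A, x ∈ ProEtW.closedPoints (PrimeSpectrum A) →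
      ∃ y : PrimeSpectrum C, y ∈ ProEtW.closedPoints (PrimeSpectrum C) ∧
        PrimeSpectrum.comap (algebraMap A C) y = x := by
    intro x hx
    obtain ⟨q, hq⟩ := PrimeSpectrum.comap_surjective_of_faithfullyFlat (A := A) (B := B) x
    have hxI : I ≤ x.asIdeal := by
      have : x ∈ PrimeSpectrum.zeroLocus (R := A) I := by rw [hI0]; exact hx
      exact this
    have hqJ : I.map (algebraMap A B) ≤ q.asIdeal := by
      rw [Ideal.map_le_iff_le_comap]
      intro a ha
      have h1 : a ∈ (PrimeSpectrum.comap (algebraMap A B) q).asIdeal := by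
        rw [hq]
        exact hxI ha
      exact h1
    obtain ⟨r, hr, -⟩ := exists_prime_over_of_bijective_quotientMap
      (I.map (algebraMap A B)) hbij q hqJ
    have hrx : PrimeSpectrum.comap (algebraMap A C) r = x := by rw [hcomapC, hr, hq]
    refine ⟨r, ?_, hrx⟩
    rw [hclC]
    change PrimeSpectrum.comap (algebraMap A C) r ∈ ProEtW.closedPoints (PrimeSpectrum A)
    rw [hrx]
    exact hx
  -- profinite sets of closed points
  obtain ⟨a1, a2, a3⟩ := profinite_closedPoints hA
  obtain ⟨c1, c2, c3⟩ := profinite_closedPoints hWC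
  haveI := a1
  haveI := a2
  haveI := c1
  haveI := c2
  obtain ⟨eA, heA⟩ := exists_homeo_closedPoints hA
  obtain ⟨eC, heC⟩ := exists_homeo_closedPoints hWC
  haveI hEDA : ExtremallyDisconnected (TB A) := extremallyDisconnected_of_homeo eA.symm
  let gmap : TB C → TB A := fun t => ⟨PrimeSpectrum.comap (algebraMap A C) t.1, hWmap.2 _ t.2⟩
  have hgcont : Continuous gmap :=
    ((PrimeSpectrum.continuous_comap _).comp continuous_subtype_val).subtype_mk _
  have hgsurj : Function.Surjective gmap := by
    rintro ⟨x, hx⟩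
    obtain ⟨y, hy, hyx⟩ := hsurj x hx
    exact ⟨⟨y, hy⟩, Subtype.ext hyx⟩
  obtain ⟨σ, hσc, hσ⟩ := CompactT2.ExtremallyDisconnected.projective (A := TB A)
    (f := id) (g := gmap) continuous_id hgcont hgsurj
  have hσ' : ∀ x, gmap (σ x) = x := fun x => congrFun hσ x
  -- the closed subset of `π₀ (Spec C)`
  haveI : SpectralSpace (PrimeSpectrum C) := inferInstance
  haveI : T2Space (_root_.ConnectedComponents (PrimeSpectrum C)) := t2Space_connectedComponents
  let Tset : Set (_root_.ConnectedComponents (PrimeSpectrum C)) :=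
    Set.range (fun x : TB A => _root_.ConnectedComponents.mk (σ x).1)
  have hTcl : IsClosed Tset := by
    apply IsCompact.isClosed
    apply isCompact_range
    exact _root_.ConnectedComponents.continuous_coe.comp (continuous_subtype_val.comp hσc)
  obtain ⟨D, instD, algCD, hZD, hsurjD, hembD, hrangeD⟩ := Groth.Agent.S0698.result C Tset hTcl
  letI algAD : Algebra A D := ((algebraMap C D).comp (algebraMap A C)).toAlgebra
  haveI towerD : IsScalarTower A C D := IsScalarTower.of_algebraMap_eq (fun _ => rfl)
  have hidD : EtPBC.IdentifiesLocalRings A D :=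
    IdLoc.comp A C D hidC (IdLoc.of_isIndZariski C D hZD)
  have hcemb : IsClosedEmbedding (PrimeSpectrum.comap (algebraMap C D)) :=
    PrimeSpectrum.isClosedEmbedding_comap_of_surjective D (algebraMap C D) hsurjD
  have hWD : ProEtW.IsWLocal (PrimeSpectrum D) :=
    isWLocal_of_isClosedEmbedding _ hcemb hWC
  have hcomapD : ∀ y : PrimeSpectrum D, PrimeSpectrum.comap (algebraMap A D) y =
      PrimeSpectrum.comap (algebraMap A C) (PrimeSpectrum.comap (algebraMap C D) y) :=
    fun y => rfl
  have hclD := isClosed_singleton_iff_of_isClosedEmbedding hcemb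
  have hWmapD : ProEtW.IsWLocalMap (PrimeSpectrum.comap (algebraMap A D)) := by
    refine ⟨WLocMisc.isSpectralMap_comap _, ?_⟩
    intro y hy
    rw [hcomapD]
    exact hWmap.2 _ ((hclD y).mp hy)
  -- closed points of `D` are the `σ x`
  have hkey : ∀ y : PrimeSpectrum D, IsClosed ({y} : Set (PrimeSpectrum D)) →
      ∃ x : TB A, PrimeSpectrum.comap (algebraMap C D) y = (σ x).1 := by
    intro y hy
    have h1 : PrimeSpectrum.comap (algebraMap C D) y ∈
        Set.range (PrimeSpectrum.comap (algebraMap C D)) := ⟨y, rfl⟩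
    rw [hrangeD] at h1
    obtain ⟨x, hx⟩ := h1
    refine ⟨x, ?_⟩
    have hyc : IsClosed ({PrimeSpectrum.comap (algebraMap C D) y} : Set (PrimeSpectrum C)) :=
      (hclD y).mp hy
    let t1 : TB C := ⟨PrimeSpectrum.comap (algebraMap C D) y, hyc⟩
    have h2 : eC t1 = eC (σ x) := by
      rw [heC, heC]
      exact hx.symm
    have h3 := eC.injective h2
    exact congrArg Subtype.val h3
  have hAb := closedPoints_bijective_of_wLocal (X := PrimeSpectrum A) hA.2.1 hA.2.2
  have hDb := closedPoints_bijective_of_wLocal (X := PrimeSpectrum D) hWD.2.1 hWD.2.2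
  have hcontD : Continuous (PrimeSpectrum.comap (algebraMap A D)) :=
    PrimeSpectrum.continuous_comap _
  have hπ : Function.Bijective hcontD.connectedComponentsMap := by
    constructor
    · intro d d' hdd
      obtain ⟨⟨y, hy⟩, rfl⟩ := hDb.2 d
      obtain ⟨⟨y', hy'⟩, rfl⟩ := hDb.2 d'
      change hcontD.connectedComponentsMap (_root_.ConnectedComponents.mk y) =
        hcontD.connectedComponentsMap (_root_.ConnectedComponents.mk y') at hdd
      rw [Continuous.connectedComponentsMap_mk, Continuous.connectedComponentsMap_mk] at hdd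
      obtain ⟨x, hx⟩ := hkey y hy
      obtain ⟨x', hx'⟩ := hkey y' hy'
      have e1 : PrimeSpectrum.comap (algebraMap A D) y = x.1 := by
        rw [hcomapD, hx]
        exact congrArg Subtype.val (hσ' x)
      have e2 : PrimeSpectrum.comap (algebraMap A D) y' = x'.1 := by
        rw [hcomapD, hx']
        exact congrArg Subtype.val (hσ' x')
      rw [e1, e2] at hdd
      have hxx : x = x' := by
        have := @hAb.1 ⟨x.1, x.2⟩ ⟨x'.1, x'.2⟩ hdd
        exact Subtype.ext (congrArg Subtype.val this)
      have hyy : PrimeSpectrum.comap (algebraMap C D) y = PrimeSpectrum.comap (algebraMap C D) y' := by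
        rw [hx, hx', hxx]
      have := hcemb.injective hyy
      change _root_.ConnectedComponents.mk y = _root_.ConnectedComponents.mk y'
      rw [this]
    · intro c
      obtain ⟨⟨x, hx⟩, rfl⟩ := hAb.2 c
      have h1 : (σ ⟨x, hx⟩).1 ∈ Set.range (PrimeSpectrum.comap (algebraMap C D)) := by
        rw [hrangeD]
        exact ⟨⟨x, hx⟩, rfl⟩
      obtain ⟨y, hy⟩ := h1
      refine ⟨_root_.ConnectedComponents.mk y, ?_⟩
      rw [Continuous.connectedComponentsMap_mk, hcomapD, hy]
      exact congrArg (fun t : TB A => _root_.ConnectedComponents.mk t.1) (hσ' ⟨x, hx⟩)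
  have hbijD : Function.Bijective (algebraMap A D) :=
    Groth.Agent.S0699.result A D hidD hA hWD hWmapD hπ
  let e : A ≃+* D := RingEquiv.ofBijective (algebraMap A D) hbijD
  let ρ₀ : B →+* A := e.symm.toRingHom.comp ((algebraMap C D).comp (algebraMap B C))
  refine ⟨{ ρ₀ with commutes' := ?_ }⟩
  intro a
  change e.symm (algebraMap C D (algebraMap B C (algebraMap A B a))) = a
  rw [RingEquiv.symm_apply_eq, ← IsScalarTower.algebraMap_apply A B C]
  rfl

end Groth.Agent.Lib.Helper4.WLocRetr
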