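import Mathlib
import Groth.Agent.Lib.Helper12.WEtField

/-!
# Olivier's theorem, part 1: general lemmas
-/

set_option autoImplicit false
set_option linter.style.haveILetI false
set_option linter.unusedSectionVars false
universe u

namespace Groth.Agent.Lib.Helper4.Ol

open Polynomial TensorProduct

/-- In a connected algebra over an algebraically closed field, an element killed by a monic
separable polynomial is a scalar. -/
theorem exists_eq_algebraMap_of_aeval_eq_zero {k R : Type*} [Field k] [IsAlgClosed k]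
    [CommRing R] [Algebra k R] [Nontrivial R]
    (hid : ∀ e : R, IsIdempotentElem e → e = 0 ∨ e = 1) (y : R) :
    ∀ (n : ℕ) (g : k[X]), g.natDegree = n → g.Monic → g.Separable → aeval y g = 0 →
      ∃ α : k, y = algebraMap k R α := by
  intro n
  induction n with
  | zero =>
    intro g hn hm _ h0
    have : g = 1 := hm.natDegree_eq_zero.mp hn
    rw [this, map_one] at h0
    exact absurd h0 one_ne_zero
  | succ n ih =>
    intro g hn hm hsep h0
    have hdeg : g.degree ≠ 0 := by
      intro h
      have h' : g.natDegree = 0 := natDegree_eq_of_degree_eq_some h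
      omega
    obtain ⟨a, ha⟩ := IsAlgClosed.exists_root g hdeg
    obtain ⟨h, rfl⟩ := Polynomial.dvd_iff_isRoot.mpr ha
    have hmh : h.Monic := (monic_X_sub_C a).of_mul_monic_left hm
    have hnh : h.natDegree = n := by
      have := (monic_X_sub_C a).natDegree_mul hmh
      rw [hn, natDegree_X_sub_C] at this
      omega
    obtain ⟨c, d, hcd⟩ := hsep.isCoprime
    have h1 := congrArg (aeval y) hcd
    rw [map_add, map_mul, map_mul, map_one, map_sub, aeval_X, aeval_C] at h1
    rw [map_mul, map_sub, aeval_X, aeval_C] at h0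
    set u : R := y - algebraMap k R a with hu
    set v : R := aeval y h with hv
    set c' : R := aeval y c
    set d' : R := aeval y d
    have he : IsIdempotentElem (c' * u) := by
      change c' * u * (c' * u) = c' * u
      have : c' * u * (c' * u) = c' * u * (1 - d' * v) := by rw [← h1]; ring
      rw [this]
      linear_combination (-(c' * d')) * h0
    rcases hid _ he with h2 | h2
    · -- d' v = 1, so u = 0
      have h3 : d' * v = 1 := by rw [h2, zero_add] at h1; exact h1
      have h4 : u = 0 := by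
        have : u = u * (d' * v) := by rw [h3, mul_one]
        rw [this]
        linear_combination d' * h0
      exact ⟨a, sub_eq_zero.mp h4⟩
    · -- c' u = 1, so v = 0
      have h4 : v = 0 := by
        have : v = (c' * u) * v := by rw [h2, one_mul]
        rw [this]
        linear_combination c' * h0
      exact ih h hnh hmh hsep.of_mul_right h4

/-- A connected weakly étale algebra over an algebraically closed field is trivial. -/
theorem algebraMap_surjective_of_connected {K R : Type*} [Field K] [IsAlgClosed K]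
    [CommRing R] [Algebra K R] [Algebra.WeaklyEtale K R] [Nontrivial R]
    (hid : ∀ e : R, IsIdempotentElem e → e = 0 ∨ e = 1) :
    Function.Surjective (algebraMap K R) := by
  intro y
  have hint : IsIntegral K y := Groth.Agent.Lib.Helper12.WEtField.isIntegral_of_weaklyEtale y
  have hsep : IsSeparable K y := Groth.Agent.Lib.Helper12.WEtField.isSeparable_of_weaklyEtale y
  obtain ⟨α, hα⟩ := exists_eq_algebraMap_of_aeval_eq_zero hid y _ (minpoly K y) rfl
    (minpoly.monic hint) hsep (minpoly.aeval K y)
  exact ⟨α, hα.symm⟩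

/-- If the kernel of `B ⊗ B → B` lies in every prime and `B` is weakly étale, then
`c ⊗ 1 = 1 ⊗ c` for all `c`. -/
theorem tmul_one_eq_one_tmul_of_forall_prime (A B : Type*) [CommRing A] [CommRing B] [Algebra A B]
    [Algebra.WeaklyEtale A B]
    (h : ∀ (P : Ideal (B ⊗[A] B)) [P.IsPrime] (b : B), b ⊗ₜ[A] (1 : B) - (1 : B) ⊗ₜ[A] b ∈ P)
    (c : B) : c ⊗ₜ[A] (1 : B) = (1 : B) ⊗ₜ[A] c := by
  have hsurj : Function.Surjective (Algebra.TensorProduct.lmul' A (S := B)).toRingHom :=
    fun x => ⟨x ⊗ₜ 1, by simp⟩
  have hflat : (Algebra.TensorProduct.lmul' A (S := B)).toRingHom.Flat :=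
    Algebra.WeaklyEtale.flat_lmul' A B
  haveI hpure : (RingHom.ker (Algebra.TensorProduct.lmul' A (S := B)).toRingHom).Pure :=
    (Groth.Agent.Lib.Helper12.WEtField.flat_iff_pure_ker _ hsurj).mp hflat
  have hx : c ⊗ₜ[A] (1 : B) - (1 : B) ⊗ₜ[A] c ∈
      RingHom.ker (Algebra.TensorProduct.lmul' A (S := B)).toRingHom := by
    rw [RingHom.mem_ker]
    simp
  obtain ⟨σ, hσ, hxσ⟩ := Groth.Agent.Lib.Helper12.WEtField.kills_of_pure _ hx
  -- `1 - σ` lies in every prime, so it is nilpotent
  have hker : RingHom.ker (Algebra.TensorProduct.lmul' A (S := B)).toRingHom =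
      Ideal.span (Set.range fun s : B => (1 : B) ⊗ₜ[A] s - s ⊗ₜ[A] (1 : B)) := by
    rw [KaehlerDifferential.span_range_eq_ideal]
    rfl
  have hnil : IsNilpotent (1 - σ) := by
    rw [← mem_nilradical, nilradical_eq_sInf, Ideal.mem_sInf]
    intro P hP
    haveI : P.IsPrime := hP
    rw [hker] at hσ
    refine Ideal.span_le.mpr ?_ hσ
    rintro _ ⟨s, rfl⟩
    have := h P s
    have h2 : (1 : B) ⊗ₜ[A] s - s ⊗ₜ[A] (1 : B) = -(s ⊗ₜ[A] (1 : B) - (1 : B) ⊗ₜ[A] s) := by ring
    change (1 : B) ⊗ₜ[A] s - s ⊗ₜ[A] (1 : B) ∈ P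
    rw [h2]
    exact P.neg_mem this
  have hunit : IsUnit σ := by
    have h3 := hnil.neg.isUnit_one_add
    have h4 : 1 + -(1 - σ) = σ := by ring
    rwa [h4] at h3
  have h5 : c ⊗ₜ[A] (1 : B) - (1 : B) ⊗ₜ[A] c = 0 := hunit.mul_left_eq_zero.mp hxσ
  exact sub_eq_zero.mp h5

/-- If `c ⊗ 1 = 1 ⊗ c` for all `c` and `B` is faithfully flat, then `A → B` is bijective. -/
theorem bijective_of_tmul_one_eq_one_tmul (A B : Type*) [CommRing A] [CommRing B] [Algebra A B]
    [Module.FaithfullyFlat A B]
    (h : ∀ c : B, c ⊗ₜ[A] (1 : B) = (1 : B) ⊗ₜ[A] c) : Function.Bijective (algebraMap A B) := by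
  refine ⟨FaithfulSMul.algebraMap_injective A B, ?_⟩
  have h1 : Function.Surjective ((Algebra.linearMap A B).lTensor B) := by
    intro z
    induction z using TensorProduct.induction_on with
    | zero => exact ⟨0, map_zero _⟩
    | tmul b c =>
      refine ⟨(b * c) ⊗ₜ[A] (1 : A), ?_⟩
      rw [LinearMap.lTensor_tmul, Algebra.linearMap_apply, map_one]
      have : b ⊗ₜ[A] c = (b ⊗ₜ[A] (1 : B)) * ((1 : B) ⊗ₜ[A] c) := by
        rw [Algebra.TensorProduct.tmul_mul_tmul, mul_one, one_mul]
      rw [this, ← h c, Algebra.TensorProduct.tmul_mul_tmul, mul_one]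
    | add x y hx hy =>
      obtain ⟨x', rfl⟩ := hx
      obtain ⟨y', rfl⟩ := hy
      exact ⟨x' + y', map_add _ _ _⟩
  have h2 : Function.Surjective (Algebra.linearMap A B) :=
    (Module.FaithfullyFlat.lTensor_surjective_iff_surjective A B _).mp h1
  exact h2

end Groth.Agent.Lib.Helper4.Ol
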