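import Mathlib
import Groth.Agent.Lib.Helper4.Ol1
import Groth.Agent.S1967

/-!
# Olivier's theorem, part 2: locality of `A' ⊗[A] B` and triviality of the geometric fibre
-/

set_option autoImplicit false
set_option linter.style.haveILetI false
set_option linter.unusedSectionVars false
universe u

namespace Groth.Agent.Lib.Helper4.Ol

open Polynomial TensorProduct IsLocalRing

/-- `B → A' ⊗[A] B` is integral if `A → A'` is. -/
theorem isIntegral_includeRight (A A' B : Type*) [CommRing A] [CommRing A'] [CommRing B]
    [Algebra A A'] [Algebra A B] [Algebra.IsIntegral A A'] :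
    (Algebra.TensorProduct.includeRight : B →ₐ[A] A' ⊗[A] B).toRingHom.IsIntegral := by
  intro z
  induction z using TensorProduct.induction_on with
  | zero => exact RingHom.isIntegralElem_zero _
  | tmul a' b =>
    have h1 : a' ⊗ₜ[A] b = (a' ⊗ₜ[A] (1 : B)) * ((1 : A') ⊗ₜ[A] b) := by
      rw [Algebra.TensorProduct.tmul_mul_tmul, mul_one, one_mul]
    rw [h1]
    apply RingHom.IsIntegralElem.mul
    · obtain ⟨g, hg, hg0⟩ := Algebra.IsIntegral.isIntegral (R := A) a'
      refine ⟨g.map (algebraMap A B), hg.map _, ?_⟩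
      rw [Polynomial.eval₂_map]
      have h2 : ((Algebra.TensorProduct.includeRight : B →ₐ[A] A' ⊗[A] B).toRingHom).comp
          (algebraMap A B) =
          (Algebra.TensorProduct.includeLeftRingHom : A' →+* A' ⊗[A] B).comp (algebraMap A A') := by
        ext a
        change (1 : A') ⊗ₜ[A] (algebraMap A B a) = (algebraMap A A' a) ⊗ₜ[A] (1 : B)
        rw [Algebra.algebraMap_eq_smul_one, Algebra.algebraMap_eq_smul_one (A := A'),
          TensorProduct.smul_tmul]
      rw [h2]
      have h3 : a' ⊗ₜ[A] (1 : B) =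
          (Algebra.TensorProduct.includeLeftRingHom : A' →+* A' ⊗[A] B) a' := rfl
      rw [h3, ← Polynomial.hom_eval₂, hg0, map_zero]
    · exact RingHom.isIntegralElem_map _
  | add x y hx hy => exact RingHom.IsIntegralElem.add _ hx hy

/-- `A' ⊗[A] B` is local if `A'` is local and integral over `A`, and `B` is local over `A` with
trivial residue field extension. -/
theorem isLocalRing_tensor (A A' B : Type*) [CommRing A] [CommRing A'] [CommRing B]
    [IsLocalRing A] [IsLocalRing A'] [IsLocalRing B]
    [Algebra A A'] [Algebra A B] [IsLocalHom (algebraMap A A')] [IsLocalHom (algebraMap A B)]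
    [Algebra.IsIntegral A A'] [Nontrivial (A' ⊗[A] B)]
    (hres : ∀ b : B, ∃ a : A, b - algebraMap A B a ∈ maximalIdeal B) :
    IsLocalRing (A' ⊗[A] B) := by
  let iL : A' →+* A' ⊗[A] B := Algebra.TensorProduct.includeLeftRingHom
  let iR : B →+* A' ⊗[A] B := (Algebra.TensorProduct.includeRight : B →ₐ[A] A' ⊗[A] B).toRingHom
  let M₀ : Ideal (A' ⊗[A] B) := (maximalIdeal A').map iL ⊔ (maximalIdeal B).map iR
  have hcomm : iR.comp (algebraMap A B) = iL.comp (algebraMap A A') := by
    ext a
    change (1 : A') ⊗ₜ[A] (algebraMap A B a) = (algebraMap A A' a) ⊗ₜ[A] (1 : B)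
    rw [Algebra.algebraMap_eq_smul_one, Algebra.algebraMap_eq_smul_one (A := A'),
      TensorProduct.smul_tmul]
  have hM₀ : ∀ N : Ideal (A' ⊗[A] B), N.IsMaximal → M₀ ≤ N := by
    intro N hN
    haveI := hN
    have hNB : (N.comap iR).IsMaximal :=
      Ideal.isMaximal_comap_of_isIntegral_of_isMaximal' iR (isIntegral_includeRight A A' B) N
    have hNB' : N.comap iR = maximalIdeal B := IsLocalRing.eq_maximalIdeal hNB
    haveI : (N.comap iL).IsPrime := Ideal.comap_isPrime _ _
    have hNA : (N.comap iL).comap (algebraMap A A') = maximalIdeal A := by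
      rw [Ideal.comap_comap, ← hcomm, ← Ideal.comap_comap, hNB']
      exact IsLocalRing.maximalIdeal_comap (algebraMap A B)
    have hNA' : (N.comap iL).IsMaximal :=
      Ideal.isMaximal_of_isIntegral_of_isMaximal_comap (R := A) (N.comap iL) (by
        rw [hNA]; exact maximalIdeal.isMaximal A)
    have hNA'' : N.comap iL = maximalIdeal A' := IsLocalRing.eq_maximalIdeal hNA'
    apply sup_le
    · rw [Ideal.map_le_iff_le_comap, hNA'']
    · rw [Ideal.map_le_iff_le_comap, hNB']
  have hjac : M₀ ≤ Ideal.jacobson ⊥ := by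
    apply le_sInf
    rintro N ⟨-, hN⟩
    exact hM₀ N hN
  have hdec : ∀ x : A' ⊗[A] B, ∃ a' : A', x - iL a' ∈ M₀ := by
    intro x
    induction x using TensorProduct.induction_on with
    | zero => exact ⟨0, by simp⟩
    | tmul a' b =>
      obtain ⟨a, ha⟩ := hres b
      refine ⟨a' * algebraMap A A' a, ?_⟩
      have h1 : a' ⊗ₜ[A] b - iL (a' * algebraMap A A' a) = iL a' * iR (b - algebraMap A B a) := by
        have h2 : iL (algebraMap A A' a) = iR (algebraMap A B a) := by
          have := congrArg (fun φ => φ a) hcomm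
          exact this.symm
        rw [map_mul, h2, map_sub, mul_sub]
        congr 1
        change a' ⊗ₜ[A] b = (a' ⊗ₜ[A] (1 : B)) * ((1 : A') ⊗ₜ[A] b)
        rw [Algebra.TensorProduct.tmul_mul_tmul, mul_one, one_mul]
      rw [h1]
      exact Ideal.mul_mem_left _ _ (Ideal.mem_sup_right (Ideal.mem_map_of_mem _ ha))
    | add x y hx hy =>
      obtain ⟨a1, h1⟩ := hx
      obtain ⟨a2, h2⟩ := hy
      refine ⟨a1 + a2, ?_⟩
      have h3 : x + y - iL (a1 + a2) = (x - iL a1) + (y - iL a2) := by rw [map_add]; ring
      rw [h3]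
      exact Ideal.add_mem _ h1 h2
  apply IsLocalRing.of_isUnit_or_isUnit_one_sub_self
  intro x
  obtain ⟨a', ha'⟩ := hdec x
  by_cases hu : IsUnit a'
  · left
    have hj := hjac ha'
    rw [Ideal.mem_jacobson_bot] at hj
    obtain ⟨w, hw⟩ := hu.map iL
    have h1 := hj (↑w⁻¹)
    have hx : x = iL a' * ((x - iL a') * ↑w⁻¹ + 1) := by
      rw [← hw]
      have h2 : (w : A' ⊗[A] B) * ↑w⁻¹ = 1 := Units.mul_inv w
      linear_combination (-(x - ↑w)) * h2
    rw [hx]
    exact (hu.map iL).mul h1
  · right
    have ha'm : a' ∈ maximalIdeal A' := (IsLocalRing.mem_maximalIdeal a').mpr hu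
    have hxM : x ∈ M₀ := by
      have h1 : x = (x - iL a') + iL a' := by ring
      rw [h1]
      exact Ideal.add_mem _ ha' (Ideal.mem_sup_left (Ideal.mem_map_of_mem _ ha'm))
    have hj := hjac hxM
    rw [Ideal.mem_jacobson_bot] at hj
    have h1 := hj (-1)
    have h2 : x * (-1) + 1 = 1 - x := by ring
    rwa [h2] at h1

/-- Idempotents of the generic fibre of a local weakly étale algebra over a normal domain are
trivial. -/
theorem idempotent_trivial_of_isLocalRing (A' K B' : Type u) [CommRing A'] [IsDomain A']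
    [IsIntegrallyClosed A'] [Field K] [Algebra A' K] [IsFractionRing A' K] [CommRing B']
    [Algebra A' B'] [Algebra.WeaklyEtale A' B'] [IsLocalRing B'] :
    ∀ e : K ⊗[A'] B', IsIdempotentElem e → e = 0 ∨ e = 1 := by
  have hic : IsIntegrallyClosedIn B' (B' ⊗[A'] K) := Groth.Agent.S1967.result A' K B'
  have key : ∀ e : B' ⊗[A'] K, IsIdempotentElem e → e = 0 ∨ e = 1 := by
    intro e he
    have hint : IsIntegral B' e := by
      refine ⟨X ^ 2 - X, monic_X_pow_sub (by simp), ?_⟩
      simp only [eval₂_sub, eval₂_pow, eval₂_X]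
      rw [pow_two, he.eq, sub_self]
    obtain ⟨e', rfl⟩ := (IsIntegrallyClosedIn.isIntegral_iff (R := B') (A := B' ⊗[A'] K)).mp hint
    have hinj := IsIntegralClosure.algebraMap_injective B' B' (B' ⊗[A'] K)
    have he' : IsIdempotentElem e' := by
      apply hinj
      rw [map_mul]
      exact he
    rcases IsLocalRing.isUnit_or_isUnit_one_sub_self e' with h | h
    · right
      have : e' = 1 := by
        have h1 : e' * (e' - 1) = 0 := by rw [mul_sub, he'.eq, mul_one, sub_self]
        have h2 := h.mul_right_eq_zero.mp h1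
        exact sub_eq_zero.mp h2
      rw [this, map_one]
    · left
      have : e' = 0 := by
        have h1 : (1 - e') * e' = 0 := by rw [sub_mul, he'.eq, one_mul, sub_self]
        exact h.mul_right_eq_zero.mp h1
      rw [this, map_zero]
  intro e he
  let c : K ⊗[A'] B' ≃ₐ[A'] B' ⊗[A'] K := Algebra.TensorProduct.comm A' K B'
  have h1 : IsIdempotentElem (c e) := by
    change c e * c e = c e
    rw [← map_mul, he.eq]
  rcases key (c e) h1 with h | h
  · left
    exact (map_eq_zero_iff c c.injective).mp h
  · right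
    exact (map_eq_one_iff c c.injective).mp h

/-- The geometric generic fibre of a local weakly étale algebra over a normal domain with
algebraically closed fraction field is trivial. -/
theorem algebraMap_surjective_fibre (A' K B' : Type u) [CommRing A'] [IsDomain A']
    [IsIntegrallyClosed A'] [Field K] [IsAlgClosed K] [Algebra A' K] [IsFractionRing A' K]
    [CommRing B'] [Algebra A' B'] [Algebra.WeaklyEtale A' B'] [IsLocalRing B'] :
    Function.Surjective (algebraMap K (K ⊗[A'] B')) := by
  haveI : Nontrivial (K ⊗[A'] B') := by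
    have hic : IsIntegrallyClosedIn B' (B' ⊗[A'] K) := Groth.Agent.S1967.result A' K B'
    have hinj := IsIntegralClosure.algebraMap_injective B' B' (B' ⊗[A'] K)
    haveI : Nontrivial (B' ⊗[A'] K) := hinj.nontrivial
    exact (Algebra.TensorProduct.comm A' K B').symm.injective.nontrivial
  exact algebraMap_surjective_of_connected (idempotent_trivial_of_isLocalRing A' K B')

end Groth.Agent.Lib.Helper4.Ol
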