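import Mathlib
import Groth.Agent.Lib.Helper4.Ol2
import Groth.Agent.S1964

/-!
# Olivier's theorem, part 3: the strictly henselian setting
-/

set_option autoImplicit false
set_option linter.style.haveILetI false
set_option linter.unusedSectionVars false
universe u

namespace Groth.Agent.Lib.Helper4.Ol

open Polynomial TensorProduct IsLocalRing

section

variable {A B : Type u} [CommRing A] [CommRing B] [HenselianLocalRing A] [IsLocalRing B]
  [IsSepClosed (ResidueField A)] [Algebra A B] [IsLocalHom (algebraMap A B)]
  [Algebra.WeaklyEtale A B]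

/-- The residue field extension is trivial. -/
theorem exists_sub_mem_maximalIdeal (b : B) :
    ∃ a : A, b - algebraMap A B a ∈ maximalIdeal B := by
  let χ : (ResidueField A) ⊗[A] B →ₐ[ResidueField A] ResidueField B :=
    Algebra.TensorProduct.lift (Algebra.ofId (ResidueField A) (ResidueField B))
      (IsScalarTower.toAlgHom A B (ResidueField B)) (fun _ _ => Commute.all _ _)
  let z : (ResidueField A) ⊗[A] B := (1 : ResidueField A) ⊗ₜ[A] b
  have hχz : χ z = residue B b := by
    change χ ((1 : ResidueField A) ⊗ₜ[A] b) = _
    rw [Algebra.TensorProduct.lift_tmul, map_one, one_mul]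
    rfl
  have hzint : IsIntegral (ResidueField A) z :=
    Groth.Agent.Lib.Helper12.WEtField.isIntegral_of_weaklyEtale z
  have hzsep : IsSeparable (ResidueField A) z :=
    Groth.Agent.Lib.Helper12.WEtField.isSeparable_of_weaklyEtale z
  have hyint : IsIntegral (ResidueField A) (residue B b) := by
    rw [← hχz]
    exact hzint.map χ
  have hdvd : minpoly (ResidueField A) (residue B b) ∣ minpoly (ResidueField A) z := by
    apply minpoly.dvd
    rw [← hχz, Polynomial.aeval_algHom_apply, minpoly.aeval, map_zero]
  have hysep : (minpoly (ResidueField A) (residue B b)).Separable :=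
    Polynomial.Separable.of_dvd hzsep hdvd
  have hdeg : (minpoly (ResidueField A) (residue B b)).degree = 1 :=
    IsSepClosed.degree_eq_one_of_irreducible (ResidueField A) (minpoly.irreducible hyint) hysep
  obtain ⟨c, hc⟩ := minpoly.mem_range_of_degree_eq_one (ResidueField A) (residue B b) hdeg
  obtain ⟨a, rfl⟩ := IsLocalRing.residue_surjective c
  refine ⟨a, ?_⟩
  rw [← IsLocalRing.residue_eq_zero_iff, map_sub, sub_eq_zero]
  exact hc.symm

variable (B) in
/-- The key fibre statement at a prime `p` of `A`. -/
theorem algebraMap_surjective_fibre_at (p : Ideal A) [p.IsPrime] :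
    Function.Surjective
      (algebraMap (AlgebraicClosure p.ResidueField)
        ((AlgebraicClosure p.ResidueField) ⊗[integralClosure (A ⧸ p) (AlgebraicClosure p.ResidueField)]
          ((integralClosure (A ⧸ p) (AlgebraicClosure p.ResidueField)) ⊗[A] B))) := by
  haveI halg : Algebra.IsAlgebraic (A ⧸ p) (AlgebraicClosure p.ResidueField) :=
    (IsFractionRing.comap_isAlgebraic_iff (A := A ⧸ p) (K := p.ResidueField)).mpr inferInstance
  haveI hfrac : IsFractionRing (integralClosure (A ⧸ p) (AlgebraicClosure p.ResidueField))
      (AlgebraicClosure p.ResidueField) :=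
    integralClosure.isFractionRing_of_algebraic (A := A ⧸ p)
      (L := AlgebraicClosure p.ResidueField) (by
        intro x hx
        have h1 : algebraMap (A ⧸ p) (AlgebraicClosure p.ResidueField) x =
            algebraMap p.ResidueField (AlgebraicClosure p.ResidueField)
              (algebraMap (A ⧸ p) p.ResidueField x) :=
          IsScalarTower.algebraMap_apply _ _ _ x
        rw [h1, map_eq_zero] at hx
        exact (map_eq_zero_iff _ (Ideal.injective_algebraMap_quotient_residueField p)).mp hx)
  haveI hicl : IsIntegrallyClosed (integralClosure (A ⧸ p) (AlgebraicClosure p.ResidueField)) :=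
    (IsIntegrallyClosed.integralClosure_eq_bot_iff (AlgebraicClosure p.ResidueField)).mp
      integralClosure_idem
  haveI hint1 : Algebra.IsIntegral A (A ⧸ p) :=
    Algebra.isIntegral_of_surjective Ideal.Quotient.mk_surjective
  haveI hint : Algebra.IsIntegral A (integralClosure (A ⧸ p) (AlgebraicClosure p.ResidueField)) :=
    Algebra.IsIntegral.trans (A ⧸ p)
  obtain ⟨hH, hloc, -⟩ :=
    Groth.Agent.S1964.result A (integralClosure (A ⧸ p) (AlgebraicClosure p.ResidueField))
  haveI := hH
  haveI := hloc
  haveI hff : Module.FaithfullyFlat A B := Module.FaithfullyFlat.of_flat_of_isLocalHom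
  haveI hnt : Nontrivial ((integralClosure (A ⧸ p) (AlgebraicClosure p.ResidueField)) ⊗[A] B) :=
    (FaithfulSMul.algebraMap_injective
      (integralClosure (A ⧸ p) (AlgebraicClosure p.ResidueField))
      ((integralClosure (A ⧸ p) (AlgebraicClosure p.ResidueField)) ⊗[A] B)).nontrivial
  haveI hlocB : IsLocalRing ((integralClosure (A ⧸ p) (AlgebraicClosure p.ResidueField)) ⊗[A] B) :=
    isLocalRing_tensor A (integralClosure (A ⧸ p) (AlgebraicClosure p.ResidueField)) B
      exists_sub_mem_maximalIdeal
  exact algebraMap_surjective_fibre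
    (integralClosure (A ⧸ p) (AlgebraicClosure p.ResidueField))
    (AlgebraicClosure p.ResidueField)
    ((integralClosure (A ⧸ p) (AlgebraicClosure p.ResidueField)) ⊗[A] B)

end

end Groth.Agent.Lib.Helper4.Ol
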