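import Mathlib
import Groth.Agent.Lib.Helper4.Ol3

/-!
# Olivier's theorem, part 4: conclusion
-/

set_option autoImplicit false
set_option linter.style.haveILetI false
set_option linter.unusedSectionVars false
universe u

namespace Groth.Agent.Lib.Helper4.Ol

open Polynomial TensorProduct IsLocalRing

section

variable {A B : Type u} [CommRing A] [CommRing B] [HenselianLocalRing A] [IsLocalRing B]
  [IsSepClosed (ResidueField A)] [Algebra A B] [IsLocalHom (algebraMap A B)]
  [Algebra.WeaklyEtale A B]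

set_option maxHeartbeats 1000000 in
set_option synthInstance.maxHeartbeats 200000 in
/-- Two ring maps from `B` to an algebraically closed field which agree on `A` are equal. -/
theorem ringHom_ext_of_comp_eq {Ω : Type u} [Field Ω] [IsAlgClosed Ω] (φ₁ φ₂ : B →+* Ω)
    (h : φ₁.comp (algebraMap A B) = φ₂.comp (algebraMap A B)) : φ₁ = φ₂ := by
  let θ : A →+* Ω := φ₁.comp (algebraMap A B)
  let p : Ideal A := RingHom.ker θ
  haveI : p.IsPrime := RingHom.ker_isPrime θ
  have hf₂ : p.primeCompl ≤ (IsUnit.submonoid Ω).comap θ := by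
    intro a ha
    change IsUnit (θ a)
    rw [isUnit_iff_ne_zero]
    exact fun h0 => ha h0
  let ι₀ : p.ResidueField →+* Ω := Ideal.ResidueField.lift p θ le_rfl hf₂
  letI algκΩ : Algebra p.ResidueField Ω := ι₀.toAlgebra
  let ι : AlgebraicClosure p.ResidueField →ₐ[p.ResidueField] Ω := IsAlgClosed.lift
  letI algKΩ : Algebra (AlgebraicClosure p.ResidueField) Ω := ι.toRingHom.toAlgebra
  letI algA'Ω : Algebra (integralClosure (A ⧸ p) (AlgebraicClosure p.ResidueField)) Ω :=
    (ι.toRingHom.comp (algebraMap (integralClosure (A ⧸ p) (AlgebraicClosure p.ResidueField))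
      (AlgebraicClosure p.ResidueField))).toAlgebra
  letI algAΩ : Algebra A Ω := θ.toAlgebra
  haveI t1 := IsScalarTower.of_algebraMap_eq
    (R := integralClosure (A ⧸ p) (AlgebraicClosure p.ResidueField))
    (S := AlgebraicClosure p.ResidueField) (A := Ω) (fun _ => rfl)
  haveI t2 := IsScalarTower.of_algebraMap_eq (R := A)
    (S := integralClosure (A ⧸ p) (AlgebraicClosure p.ResidueField)) (A := Ω) (fun a => by
      change θ a = ι (algebraMap (integralClosure (A ⧸ p) (AlgebraicClosure p.ResidueField))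
        (AlgebraicClosure p.ResidueField)
        (algebraMap A (integralClosure (A ⧸ p) (AlgebraicClosure p.ResidueField)) a))
      rw [← IsScalarTower.algebraMap_apply A
        (integralClosure (A ⧸ p) (AlgebraicClosure p.ResidueField))
        (AlgebraicClosure p.ResidueField),
        IsScalarTower.algebraMap_apply A p.ResidueField (AlgebraicClosure p.ResidueField),
        ι.commutes]
      exact (Ideal.ResidueField.lift_algebraMap p θ le_rfl hf₂ a).symm)
  let g₁ : B →ₐ[A] Ω := { toRingHom := φ₁, commutes' := fun a => rfl }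
  let g₂ : B →ₐ[A] Ω :=
    { toRingHom := φ₂
      commutes' := fun a => by
        have := congrArg (fun f => f a) h
        exact this.symm }
  let ψ' : (B →ₐ[A] Ω) → ((integralClosure (A ⧸ p) (AlgebraicClosure p.ResidueField)) ⊗[A] B
      →ₐ[integralClosure (A ⧸ p) (AlgebraicClosure p.ResidueField)] Ω) := fun g =>
    Algebra.TensorProduct.lift
      (Algebra.ofId (integralClosure (A ⧸ p) (AlgebraicClosure p.ResidueField)) Ω) g
      (fun _ _ => Commute.all _ _)
  let ψ : (B →ₐ[A] Ω) → ((AlgebraicClosure p.ResidueField)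
      ⊗[integralClosure (A ⧸ p) (AlgebraicClosure p.ResidueField)]
        ((integralClosure (A ⧸ p) (AlgebraicClosure p.ResidueField)) ⊗[A] B)
      →ₐ[AlgebraicClosure p.ResidueField] Ω) := fun g =>
    Algebra.TensorProduct.lift (Algebra.ofId (AlgebraicClosure p.ResidueField) Ω) (ψ' g)
      (fun _ _ => Commute.all _ _)
  have hψ : ∀ (g : B →ₐ[A] Ω) (b : B), ψ g ((1 : AlgebraicClosure p.ResidueField)
      ⊗ₜ[integralClosure (A ⧸ p) (AlgebraicClosure p.ResidueField)]
        ((1 : integralClosure (A ⧸ p) (AlgebraicClosure p.ResidueField)) ⊗ₜ[A] b)) = g b := by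
    intro g b
    change Algebra.TensorProduct.lift _ _ _ _ = _
    rw [Algebra.TensorProduct.lift_tmul, map_one, one_mul]
    change Algebra.TensorProduct.lift _ _ _ _ = _
    rw [Algebra.TensorProduct.lift_tmul, map_one, one_mul]
  have hsurj := algebraMap_surjective_fibre_at B p
  have heq : ∀ z, ψ g₁ z = ψ g₂ z := by
    intro z
    obtain ⟨c, rfl⟩ := hsurj z
    rw [AlgHom.commutes, AlgHom.commutes]
  ext b
  have h1 := heq ((1 : AlgebraicClosure p.ResidueField)
      ⊗ₜ[integralClosure (A ⧸ p) (AlgebraicClosure p.ResidueField)]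
        ((1 : integralClosure (A ⧸ p) (AlgebraicClosure p.ResidueField)) ⊗ₜ[A] b))
  rw [hψ, hψ] at h1
  exact h1

/-- **Olivier's theorem**: a weakly étale local homomorphism from a strictly henselian local ring
to a local ring is an isomorphism. -/
theorem olivier : Function.Bijective (algebraMap A B) := by
  haveI hff : Module.FaithfullyFlat A B := Module.FaithfullyFlat.of_flat_of_isLocalHom
  apply bijective_of_tmul_one_eq_one_tmul
  apply tmul_one_eq_one_tmul_of_forall_prime
  intro P hP b
  haveI : IsDomain ((B ⊗[A] B) ⧸ P) := Ideal.Quotient.isDomain P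
  let j : B ⊗[A] B →+* AlgebraicClosure (FractionRing ((B ⊗[A] B) ⧸ P)) :=
    (algebraMap ((B ⊗[A] B) ⧸ P) (AlgebraicClosure (FractionRing ((B ⊗[A] B) ⧸ P)))).comp
      (Ideal.Quotient.mk P)
  let φ₁ : B →+* AlgebraicClosure (FractionRing ((B ⊗[A] B) ⧸ P)) :=
    j.comp (Algebra.TensorProduct.includeLeftRingHom)
  let φ₂ : B →+* AlgebraicClosure (FractionRing ((B ⊗[A] B) ⧸ P)) :=
    j.comp (Algebra.TensorProduct.includeRight : B →ₐ[A] B ⊗[A] B).toRingHom
  have h : φ₁.comp (algebraMap A B) = φ₂.comp (algebraMap A B) := by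
    ext a
    change j ((algebraMap A B a) ⊗ₜ[A] (1 : B)) = j ((1 : B) ⊗ₜ[A] (algebraMap A B a))
    congr 1
    rw [Algebra.algebraMap_eq_smul_one, TensorProduct.smul_tmul]
  have h12 := ringHom_ext_of_comp_eq φ₁ φ₂ h
  have h3 : j (b ⊗ₜ[A] (1 : B)) = j ((1 : B) ⊗ₜ[A] b) := congrArg (fun f => f b) h12
  have hinj : Function.Injective
      (algebraMap ((B ⊗[A] B) ⧸ P) (AlgebraicClosure (FractionRing ((B ⊗[A] B) ⧸ P)))) := by
    rw [IsScalarTower.algebraMap_eq ((B ⊗[A] B) ⧸ P) (FractionRing ((B ⊗[A] B) ⧸ P))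
      (AlgebraicClosure (FractionRing ((B ⊗[A] B) ⧸ P)))]
    exact (algebraMap (FractionRing ((B ⊗[A] B) ⧸ P))
      (AlgebraicClosure (FractionRing ((B ⊗[A] B) ⧸ P)))).injective.comp
      (IsFractionRing.injective _ _)
  have h4 : Ideal.Quotient.mk P (b ⊗ₜ[A] (1 : B)) = Ideal.Quotient.mk P ((1 : B) ⊗ₜ[A] b) :=
    hinj h3
  rw [← sub_eq_zero, ← map_sub, Ideal.Quotient.eq_zero_iff_mem] at h4
  exact h4

end

end Groth.Agent.Lib.Helper4.Ol
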