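import Mathlib
import Groth.Prelude.Def_PBC
import Groth.Prelude.Def_ProEtW
import Groth.Prelude.Def_EtBase
import Groth.Agent.Lib.Helper4.Ol4
import Groth.Agent.Lib.Helper4.WLocMisc
import Groth.Agent.Lib.Helper4.WEtBasic
import Groth.Agent.Lib.Helper4.IdLoc
import Groth.Agent.S0705
import Groth.Agent.S7127

/-!
# w-contractible rings: the weakly étale step
-/

set_option autoImplicit false
set_option linter.style.haveILetI false
set_option linter.unusedSectionVars false
universe u

namespace Groth.Agent.Lib.Helper4.Wc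

open TensorProduct Function

set_option synthInstance.maxHeartbeats 400000 in
set_option maxHeartbeats 2000000 in
/-- The ind-Zariski w-localization along an ideal, under the hypothesis that all primes of
`V(IB)` are maximal. -/
theorem core (A B : Type u) [CommRing A] [CommRing B] [Algebra A B] (I : Ideal A)
    (hI0 : PrimeSpectrum.zeroLocus (R := A) I = ProEtW.closedPoints (PrimeSpectrum A))
    (hmaxB : ∀ q : PrimeSpectrum B,
      q ∈ PrimeSpectrum.zeroLocus ((I.map (algebraMap A B) : Ideal B) : Set B) →
      q.asIdeal.IsMaximal) :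
    ∃ (C : Type u) (_ : CommRing C) (_ : Algebra B C) (_ : Algebra A C) (_ : IsScalarTower A B C),
      EtPBC.IsIndZariski B C ∧
      Function.Bijective (Ideal.quotientMap ((I.map (algebraMap A B)).map (algebraMap B C))
        (algebraMap B C) Ideal.le_comap_map) ∧
      ProEtW.IsWLocal (PrimeSpectrum C) ∧
      ProEtW.IsWLocalMap (PrimeSpectrum.comap (algebraMap A C)) ∧
      ProEtW.closedPoints (PrimeSpectrum C) =
        PrimeSpectrum.comap (algebraMap A C) ⁻¹' ProEtW.closedPoints (PrimeSpectrum A) ∧
      ProEtW.closedPoints (PrimeSpectrum C) =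
        PrimeSpectrum.zeroLocus ((I.map (algebraMap A B)).map (algebraMap B C)) := by
  classical
  have hprof := WLocMisc.isProfinite_zeroLocus (I.map (algebraMap A B)) hmaxB
  obtain ⟨C, instC, algBC, hZ, hW, hcl, hbij⟩ :=
    Groth.Agent.S0705.result B (I.map (algebraMap A B)) hprof
  letI algAC : Algebra A C := ((algebraMap B C).comp (algebraMap A B)).toAlgebra
  have tower : IsScalarTower A B C := IsScalarTower.of_algebraMap_eq (fun _ => rfl)
  have hmapmap : (I.map (algebraMap A B)).map (algebraMap B C) = I.map (algebraMap A C) := by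
    rw [Ideal.map_map]
    rfl
  have hclA : ProEtW.closedPoints (PrimeSpectrum C) =
      PrimeSpectrum.comap (algebraMap A C) ⁻¹' ProEtW.closedPoints (PrimeSpectrum A) := by
    rw [hcl, hmapmap, ← hI0]
    ext 𝔮
    constructor
    · intro h𝔮 a ha
      exact h𝔮 (Ideal.mem_map_of_mem _ ha)
    · intro h𝔮
      have : I.map (algebraMap A C) ≤ 𝔮.asIdeal := by
        rw [Ideal.map_le_iff_le_comap]
        exact h𝔮
      exact this
  refine ⟨C, instC, algBC, algAC, tower, hZ, hbij, hW, ⟨?_, ?_⟩, hclA, hcl⟩
  · exact WLocMisc.isSpectralMap_comap (algebraMap A C)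
  · intro x hx
    have h1 : x ∈ ProEtW.closedPoints (PrimeSpectrum C) := hx
    rw [hclA] at h1
    exact h1

/-- In a weakly étale algebra, primes over maximal ideals are maximal. -/
theorem isMaximal_of_weaklyEtale (A B : Type u) [CommRing A] [CommRing B] [Algebra A B]
    [Algebra.WeaklyEtale A B] (q : Ideal B) [hq : q.IsPrime]
    (hm : (q.comap (algebraMap A B)).IsMaximal) : q.IsMaximal := by
  haveI := hm
  letI : Field (A ⧸ q.comap (algebraMap A B)) := Ideal.Quotient.field _
  let χ : (A ⧸ q.comap (algebraMap A B)) ⊗[A] B →ₐ[A ⧸ q.comap (algebraMap A B)] B ⧸ q :=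
    Algebra.TensorProduct.lift (Algebra.ofId _ _) (IsScalarTower.toAlgHom A B (B ⧸ q))
      (fun _ _ => Commute.all _ _)
  have hχ : Function.Surjective χ := by
    intro y
    obtain ⟨b, rfl⟩ := Ideal.Quotient.mk_surjective y
    refine ⟨(1 : A ⧸ q.comap (algebraMap A B)) ⊗ₜ[A] b, ?_⟩
    change Algebra.TensorProduct.lift _ _ _ _ = _
    rw [Algebra.TensorProduct.lift_tmul, map_one, one_mul]
    rfl
  haveI hint1 : Algebra.IsIntegral (A ⧸ q.comap (algebraMap A B))
      ((A ⧸ q.comap (algebraMap A B)) ⊗[A] B) :=
    ⟨fun z => Groth.Agent.Lib.Helper12.WEtField.isIntegral_of_weaklyEtale z⟩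
  haveI hint : Algebra.IsIntegral (A ⧸ q.comap (algebraMap A B)) (B ⧸ q) :=
    Algebra.IsIntegral.of_surjective χ hχ
  haveI : IsDomain (B ⧸ q) := Ideal.Quotient.isDomain q
  have hf : IsField (B ⧸ q) :=
    isField_of_isIntegral_of_isField' (R := A ⧸ q.comap (algebraMap A B)) (Field.toIsField _)
  exact Ideal.Quotient.maximal_of_isField _ hf

/-- A bijective algebra map identifies local rings. -/
theorem identifies_of_bijective (R S : Type u) [CommRing R] [CommRing S] [Algebra R S]
    (h : Function.Bijective (algebraMap R S)) : EtPBC.IdentifiesLocalRings R S := by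
  haveI h1 : IsLocalization (⊥ : Submonoid R) R := IsLocalization.self (by
    intro x hx
    rw [Submonoid.mem_bot] at hx
    rw [hx]
    exact isUnit_one)
  haveI : IsLocalization (⊥ : Submonoid R) S :=
    IsLocalization.isLocalization_of_algEquiv (⊥ : Submonoid R)
      (AlgEquiv.ofBijective (Algebra.ofId R S) h)
  exact IdLoc.of_isLocalization (⊥ : Submonoid R)

end Groth.Agent.Lib.Helper4.Wc
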