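import Mathlib
import Groth.Prelude.Def_PBC
import Groth.Prelude.Def_ProEtW
import Groth.Prelude.Def_EtBase
import Groth.Agent.Lib.Helper4.Wc1

/-!
# w-contractible rings: weakly étale algebras over rings with strictly henselian local rings
identify local rings
-/

set_option autoImplicit false
set_option linter.style.haveILetI false
set_option linter.unusedSectionVars false
universe u

namespace Groth.Agent.Lib.Helper4.Wc

open TensorProduct Function

theorem bij_congr_ideal {A C : Type u} [CommRing A] [CommRing C] [Algebra A C]
    (Q₁ Q₂ : Ideal C) [Q₁.IsPrime] [Q₂.IsPrime] (h : Q₁ = Q₂)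
    (hb : Bijective (Localization.localRingHom (Q₁.comap (algebraMap A C)) Q₁
      (algebraMap A C) rfl)) :
    Bijective (Localization.localRingHom (Q₂.comap (algebraMap A C)) Q₂
      (algebraMap A C) rfl) := by
  subst h
  exact hb

set_option synthInstance.maxHeartbeats 400000 in
set_option maxHeartbeats 2000000 in
/-- If all local rings of `A` at maximal ideals are strictly henselian, then a weakly étale
`A`-algebra whose maximal ideals lie over maximal ideals identifies local rings. -/
theorem identifies_of_strictlyHenselian (A C : Type u) [CommRing A] [CommRing C] [Algebra A C]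
    [Algebra.WeaklyEtale A C]
    (hSH : ∀ (m : Ideal A) [m.IsMaximal],
      EtCoh.IsStrictlyHenselianLocalRing (Localization.AtPrime m))
    (hmax : ∀ n : Ideal C, n.IsMaximal → (n.comap (algebraMap A C)).IsMaximal) :
    EtPBC.IdentifiesLocalRings A C := by
  intro Q
  obtain ⟨n, hn, hQn⟩ := Ideal.exists_le_maximal Q.asIdeal Q.2.ne_top
  haveI := hn
  haveI hnp : n.IsPrime := hn.isPrime
  haveI hm : (n.comap (algebraMap A C)).IsMaximal := hmax n hn
  haveI hmp : (n.comap (algebraMap A C)).IsPrime := hm.isPrime
  obtain ⟨hH, hS⟩ := hSH (n.comap (algebraMap A C))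
  haveI := hH
  haveI := hS
  let f : Localization.AtPrime (n.comap (algebraMap A C)) →+* Localization.AtPrime n :=
    Localization.localRingHom (n.comap (algebraMap A C)) n (algebraMap A C) rfl
  letI algf : Algebra (Localization.AtPrime (n.comap (algebraMap A C))) (Localization.AtPrime n) :=
    f.toAlgebra
  haveI hloc : IsLocalHom (algebraMap (Localization.AtPrime (n.comap (algebraMap A C)))
      (Localization.AtPrime n)) :=
    Localization.isLocalHom_localRingHom (n.comap (algebraMap A C)) n (algebraMap A C) rfl
  haveI tow := IsScalarTower.of_algebraMap_eq (R := A)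
    (S := Localization.AtPrime (n.comap (algebraMap A C))) (A := Localization.AtPrime n)
    (fun a => by
      change algebraMap A (Localization.AtPrime n) a = f (algebraMap A _ a)
      rw [Localization.localRingHom_to_map]
      exact IsScalarTower.algebraMap_apply A C (Localization.AtPrime n) a)
  haveI we1 : Algebra.WeaklyEtale A (Localization.AtPrime (n.comap (algebraMap A C))) :=
    WEtBasic.weaklyEtale_of_isLocalization (n.comap (algebraMap A C)).primeCompl
  haveI we2 : Algebra.WeaklyEtale C (Localization.AtPrime n) :=
    WEtBasic.weaklyEtale_of_isLocalization n.primeCompl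
  haveI we3 : Algebra.WeaklyEtale A (Localization.AtPrime n) :=
    Algebra.WeaklyEtale.trans A C _
  haveI we4 : Algebra.WeaklyEtale (Localization.AtPrime (n.comap (algebraMap A C)))
      (Localization.AtPrime n) := Groth.Agent.S7127.result A _ _
  have hbij : Function.Bijective (algebraMap (Localization.AtPrime (n.comap (algebraMap A C)))
      (Localization.AtPrime n)) := Ol.olivier
  have id1 : EtPBC.IdentifiesLocalRings A (Localization.AtPrime (n.comap (algebraMap A C))) :=
    IdLoc.of_isLocalization (n.comap (algebraMap A C)).primeCompl
  have id2 : EtPBC.IdentifiesLocalRings (Localization.AtPrime (n.comap (algebraMap A C)))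
      (Localization.AtPrime n) := identifies_of_bijective _ _ hbij
  have id3 : EtPBC.IdentifiesLocalRings A (Localization.AtPrime n) :=
    IdLoc.comp A (Localization.AtPrime (n.comap (algebraMap A C))) (Localization.AtPrime n) id1 id2
  have id4 : EtPBC.IdentifiesLocalRings C (Localization.AtPrime n) :=
    IdLoc.of_isLocalization n.primeCompl
  have hdisj : Disjoint (n.primeCompl : Set C) (Q.asIdeal : Set C) := by
    rw [Set.disjoint_left]
    intro x hx hxQ
    exact hx (hQn hxQ)
  let r : PrimeSpectrum (Localization.AtPrime n) :=
    ⟨Q.asIdeal.map (algebraMap C (Localization.AtPrime n)),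
      IsLocalization.isPrime_of_isPrime_disjoint n.primeCompl _ _ Q.2 hdisj⟩
  have hrQ : r.asIdeal.comap (algebraMap C (Localization.AtPrime n)) = Q.asIdeal :=
    IsLocalization.under_map_of_isPrime_disjoint n.primeCompl _ Q.2 hdisj
  have h5 := IdLoc.cancel_at A C (Localization.AtPrime n) r (id3 r) (id4 r)
  haveI hr : r.asIdeal.IsPrime := r.2
  haveI hr' : (Ideal.comap (algebraMap C (Localization.AtPrime n)) r.asIdeal).IsPrime :=
    Ideal.comap_isPrime _ _
  exact bij_congr_ideal _ _ hrQ h5

end Groth.Agent.Lib.Helper4.Wc
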