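import Mathlib
import Groth.Agent.Lib.Helper4.LocSec3

/-!
# `Spec (Sec S)` as a subspace of `Spec A × T`, and its connected components
-/

set_option autoImplicit false
set_option linter.style.haveILetI false
set_option linter.unusedSectionVars false
universe u

namespace Groth.Agent.Lib.Helper4.LocSec

open Topology

variable {A : Type u} [CommRing A] {T : Type u} [TopologicalSpace T]
variable [CompactSpace T] [T2Space T] [TotallyDisconnectedSpace T]
variable {S : T → Submonoid A}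

/-- the map `Spec (Sec S) → Spec A × T` -/
noncomputable def Phi (𝔮 : PrimeSpectrum (Sec S)) : PrimeSpectrum A × T :=
  (PrimeSpectrum.comap (algebraMap A (Sec S)) 𝔮, pt 𝔮)

theorem continuous_Phi : Continuous (Phi (S := S)) :=
  (PrimeSpectrum.continuous_comap _).prodMk continuous_pt

variable (hS : ∀ a : A, IsOpen {t | a ∈ S t})
include hS

theorem exists_prime_of_pt_eq (𝔮 : PrimeSpectrum (Sec S)) (t : T) (h : pt 𝔮 = t) :
    ∃ 𝔭 : PrimeSpectrum (Localization (S t)),
      PrimeSpectrum.comap (ev S t).toRingHom 𝔭 = 𝔮 := by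
  subst h
  exact exists_comap_ev hS 𝔮

theorem Phi_injective : Function.Injective (Phi (S := S)) := by
  intro 𝔮 𝔮' h
  have h1 : PrimeSpectrum.comap (algebraMap A (Sec S)) 𝔮 =
      PrimeSpectrum.comap (algebraMap A (Sec S)) 𝔮' := congrArg Prod.fst h
  have h2 : pt 𝔮 = pt 𝔮' := congrArg Prod.snd h
  obtain ⟨𝔭, h𝔭⟩ := exists_prime_of_pt_eq hS 𝔮 (pt 𝔮') h2
  obtain ⟨𝔭', h𝔭'⟩ := exists_prime_of_pt_eq hS 𝔮' (pt 𝔮') rfl
  have h3 : PrimeSpectrum.comap (algebraMap A (Localization (S (pt 𝔮')))) 𝔭 =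
      PrimeSpectrum.comap (algebraMap A (Localization (S (pt 𝔮')))) 𝔭' := by
    rw [← comap_algebraMap_comap_ev, ← comap_algebraMap_comap_ev, h𝔭, h𝔭', h1]
  have h4 : 𝔭 = 𝔭' :=
    PrimeSpectrum.localization_comap_injective (Localization (S (pt 𝔮'))) (S (pt 𝔮')) h3
  exact h𝔭.symm.trans ((congrArg _ h4).trans h𝔭')

theorem range_Phi : Set.range (Phi (S := S)) =
    {p | Disjoint (S p.2 : Set A) (p.1.asIdeal : Set A)} := by
  ext ⟨x, t⟩
  constructor
  · rintro ⟨𝔮, h𝔮⟩
    have h1 : PrimeSpectrum.comap (algebraMap A (Sec S)) 𝔮 = x := congrArg Prod.fst h𝔮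
    have h2 : pt 𝔮 = t := congrArg Prod.snd h𝔮
    obtain ⟨𝔭, h𝔭⟩ := exists_prime_of_pt_eq hS 𝔮 t h2
    have h3 : PrimeSpectrum.comap (algebraMap A (Localization (S t))) 𝔭 = x := by
      rw [← comap_algebraMap_comap_ev, h𝔭, h1]
    have h4 : x ∈ Set.range (PrimeSpectrum.comap (algebraMap A (Localization (S t)))) := ⟨𝔭, h3⟩
    rw [PrimeSpectrum.localization_comap_range (Localization (S t)) (S t)] at h4
    exact h4
  · intro h
    have h4 : x ∈ Set.range (PrimeSpectrum.comap (algebraMap A (Localization (S t)))) := by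
      rw [PrimeSpectrum.localization_comap_range (Localization (S t)) (S t)]
      exact h
    obtain ⟨𝔭, h𝔭⟩ := h4
    refine ⟨PrimeSpectrum.comap (ev S t).toRingHom 𝔭, ?_⟩
    change (PrimeSpectrum.comap (algebraMap A (Sec S)) (PrimeSpectrum.comap (ev S t).toRingHom 𝔭),
      pt (PrimeSpectrum.comap (ev S t).toRingHom 𝔭)) = (x, t)
    rw [comap_algebraMap_comap_ev, h𝔭, pt_comap_ev]

theorem algebraMap_notMem (𝔮 : PrimeSpectrum (Sec S)) (f : A) (hf : f ∈ S (pt 𝔮)) :
    algebraMap A (Sec S) f ∉ 𝔮.asIdeal := by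
  obtain ⟨𝔭, h𝔭⟩ := exists_comap_ev hS 𝔮
  intro hmem
  rw [← h𝔭] at hmem
  have h1 : ev S (pt 𝔮) (algebraMap A (Sec S) f) ∈ 𝔭.asIdeal := hmem
  rw [AlgHom.commutes] at h1
  exact 𝔭.2.ne_top (Ideal.eq_top_of_isUnit_mem _ h1 (isUnit_of_mem (S := S) hf))

theorem mem_iff_of_frac (𝔮 : PrimeSpectrum (Sec S)) (s : Sec S) (N : Set T) (hN : IsClopen N)
    (a f : A)
    (h : ∀ t ∈ N, f ∈ S t ∧ algebraMap A (Localization (S t)) f * s.1 t =
      algebraMap A (Localization (S t)) a)
    (hq : pt 𝔮 ∈ N) : s ∈ 𝔮.asIdeal ↔ algebraMap A (Sec S) a ∈ 𝔮.asIdeal := by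
  have hid : algebraMap A (Sec S) f * s * ind N hN = algebraMap A (Sec S) a * ind N hN := by
    apply Sec.ext
    intro t
    rw [mul_apply, mul_apply, mul_apply, algebraMap_apply, algebraMap_apply]
    by_cases ht : t ∈ N
    · rw [(h t ht).2]
    · rw [ind_apply_notMem hN ht, mul_zero, mul_zero]
  have hind : ind (S := S) N hN ∉ 𝔮.asIdeal := pt_spec 𝔮 N hN hq
  have hf : algebraMap A (Sec S) f ∉ 𝔮.asIdeal := algebraMap_notMem hS 𝔮 f (h _ hq).1
  constructor
  · intro hs
    have h1 : algebraMap A (Sec S) a * ind N hN ∈ 𝔮.asIdeal := by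
      rw [← hid]
      exact Ideal.mul_mem_right _ _ (Ideal.mul_mem_left _ _ hs)
    exact (𝔮.2.mem_or_mem h1).resolve_right hind
  · intro ha
    have h1 : algebraMap A (Sec S) f * s * ind N hN ∈ 𝔮.asIdeal := by
      rw [hid]
      exact Ideal.mul_mem_right _ _ ha
    have h2 := (𝔮.2.mem_or_mem h1).resolve_right hind
    exact (𝔮.2.mem_or_mem h2).resolve_left hf

theorem isInducing_Phi : Topology.IsInducing (Phi (S := S)) := by
  rw [Topology.isInducing_iff_nhds]
  intro 𝔮
  apply le_antisymm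
  · exact continuous_Phi.continuousAt.tendsto.le_comap
  · intro U hU
    rw [Filter.mem_comap]
    obtain ⟨_, ⟨s, rfl⟩, h𝔮s, hsU⟩ :=
      PrimeSpectrum.isTopologicalBasis_basic_opens.mem_nhds_iff.mp hU
    obtain ⟨N, hN, htN, a, f, h⟩ := s.2 (pt 𝔮)
    refine ⟨(PrimeSpectrum.basicOpen a : Set (PrimeSpectrum A)) ×ˢ N, ?_, ?_⟩
    · apply prod_mem_nhds
      · apply (PrimeSpectrum.basicOpen a).isOpen.mem_nhds
        intro ha
        exact h𝔮s ((mem_iff_of_frac hS 𝔮 s N hN a f h htN).mpr ha)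
      · exact hN.isOpen.mem_nhds htN
    · rintro 𝔮' ⟨h1, h2⟩
      apply hsU
      intro hs
      exact h1 ((mem_iff_of_frac hS 𝔮' s N hN a f h h2).mp hs)

theorem isEmbedding_Phi : Topology.IsEmbedding (Phi (S := S)) :=
  ⟨isInducing_Phi hS, Phi_injective hS⟩

/-- `π₀ (Spec (Sec S)) ≃ₜ T` when all fibres are connected -/
theorem exists_connHomeo'
    (hconn : ∀ t, ConnectedSpace (PrimeSpectrum (Localization (S t)))) :
    ∃ e : _root_.ConnectedComponents (PrimeSpectrum (Sec S)) ≃ₜ T,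
      ∀ 𝔮 : PrimeSpectrum (Sec S), e (_root_.ConnectedComponents.mk 𝔮) = pt 𝔮 := by
  have hcont : Continuous (pt : PrimeSpectrum (Sec S) → T) := continuous_pt
  let e0 : _root_.ConnectedComponents (PrimeSpectrum (Sec S)) → T :=
    hcont.connectedComponentsLift
  have he0 : Continuous e0 := hcont.connectedComponentsLift_continuous
  have he0app : ∀ 𝔮, e0 (_root_.ConnectedComponents.mk 𝔮) = pt 𝔮 :=
    fun 𝔮 => hcont.connectedComponentsLift_apply_coe 𝔮
  have hbij : Function.Bijective e0 := by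
    constructor
    · intro c c' hcc
      obtain ⟨y, rfl⟩ := _root_.ConnectedComponents.surjective_coe c
      obtain ⟨y', rfl⟩ := _root_.ConnectedComponents.surjective_coe c'
      change e0 (_root_.ConnectedComponents.mk y) = e0 (_root_.ConnectedComponents.mk y') at hcc
      rw [he0app, he0app] at hcc
      obtain ⟨𝔭, h𝔭⟩ := exists_prime_of_pt_eq hS y (pt y') hcc
      obtain ⟨𝔭', h𝔭'⟩ := exists_prime_of_pt_eq hS y' (pt y') rfl
      haveI := hconn (pt y')
      have hpre : IsPreconnected (Set.range (PrimeSpectrum.comap (ev S (pt y')).toRingHom)) :=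
        isPreconnected_range (PrimeSpectrum.continuous_comap _)
      have hsub := hpre.subset_connectedComponent (x := y) ⟨𝔭, h𝔭⟩
      have hy' : y' ∈ connectedComponent y := hsub ⟨𝔭', h𝔭'⟩
      exact (_root_.ConnectedComponents.coe_eq_coe'.mpr hy').symm
    · intro t
      haveI := hconn t
      obtain ⟨𝔭⟩ := (inferInstance : Nonempty (PrimeSpectrum (Localization (S t))))
      exact ⟨_root_.ConnectedComponents.mk (PrimeSpectrum.comap (ev S t).toRingHom 𝔭),
        by rw [he0app, pt_comap_ev]⟩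
  let eq : _root_.ConnectedComponents (PrimeSpectrum (Sec S)) ≃ T := Equiv.ofBijective e0 hbij
  have heq : Continuous eq := he0
  exact ⟨heq.homeoOfEquivCompactToT2, he0app⟩

end Groth.Agent.Lib.Helper4.LocSec
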