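import Mathlib
import Groth.Prelude.Def_ProEtW
import Groth.Agent.Lib.Helper4.LocSec2
import Groth.Agent.Lib.Helper4.LocSec10
import Groth.Agent.Lib.Helper20.SpecTop

/-!
# Realizing a profinite space over `π₀ (Spec A)` by an ind-Zariski algebra
-/

set_option autoImplicit false
set_option linter.style.haveILetI false
set_option linter.unusedSectionVars false
universe u

namespace Groth.Agent.Lib.Helper4.LocSec

open Topology Groth.Agent.Lib.Helper20.SpecTop

variable {A : Type u} [CommRing A] {T : Type u} [TopologicalSpace T]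
variable (g : C(T, _root_.ConnectedComponents (PrimeSpectrum A)))

/-- the component of `Spec A` attached to `t` -/
def Zg (t : T) : Set (PrimeSpectrum A) := {x | _root_.ConnectedComponents.mk x = g t}

/-- elements invertible along the component attached to `t` -/
def Sg (t : T) : Submonoid A where
  carrier := {f | Zg g t ⊆ (PrimeSpectrum.basicOpen f : Set (PrimeSpectrum A))}
  one_mem' := by
    intro x _
    rw [PrimeSpectrum.basicOpen_one]
    trivial
  mul_mem' := by
    intro a b ha hb x hx
    rw [PrimeSpectrum.basicOpen_mul]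
    exact ⟨ha hx, hb hx⟩

theorem mem_Sg_iff (t : T) (f : A) :
    f ∈ Sg g t ↔ Zg g t ⊆ (PrimeSpectrum.basicOpen f : Set (PrimeSpectrum A)) := Iff.rfl

theorem Zg_eq (t : T) (x₀ : PrimeSpectrum A) (h : _root_.ConnectedComponents.mk x₀ = g t) :
    Zg g t = connectedComponent x₀ := by
  ext x
  change _root_.ConnectedComponents.mk x = g t ↔ _
  rw [← h, _root_.ConnectedComponents.coe_eq_coe']

theorem hSg : ∀ a : A, IsOpen {t | a ∈ Sg g t} := by
  intro a
  rw [isOpen_iff_mem_nhds]
  intro t₀ ht₀
  obtain ⟨x₀, hx₀⟩ := _root_.ConnectedComponents.surjective_coe (g t₀)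
  have hZ : Zg g t₀ = quasiComp x₀ := by
    rw [Zg_eq g t₀ x₀ hx₀, connectedComponent_eq_quasiComp]
  have hsub : Zg g t₀ ⊆ (PrimeSpectrum.basicOpen a : Set (PrimeSpectrum A)) := ht₀
  have hK : IsCompact ((PrimeSpectrum.basicOpen a : Set (PrimeSpectrum A))ᶜ) :=
    (PrimeSpectrum.basicOpen a).isOpen.isClosed_compl.isCompact
  have hKx : (PrimeSpectrum.basicOpen a : Set (PrimeSpectrum A))ᶜ ∩ quasiComp x₀ = ∅ := by
    rw [← hZ]
    ext x
    simp only [Set.mem_inter_iff, Set.mem_compl_iff, Set.mem_empty_iff_false, iff_false, not_and]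
    intro h1 h2
    exact h1 (hsub h2)
  obtain ⟨Z, hZc, hx₀Z, hZe⟩ := exists_isClopen_disjoint_of_isCompact hK hKx
  have hZa : Z ⊆ (PrimeSpectrum.basicOpen a : Set (PrimeSpectrum A)) := by
    intro x hx
    by_contra hxa
    have : x ∈ (PrimeSpectrum.basicOpen a : Set (PrimeSpectrum A))ᶜ ∩ Z := ⟨hxa, hx⟩
    rw [hZe] at this
    exact this
  have hpre : ((↑) : PrimeSpectrum A → _root_.ConnectedComponents (PrimeSpectrum A)) ⁻¹'
      ((↑) '' Z) = Z :=
    (connectedComponents_preimage_image Z).symm ▸ hZc.biUnion_connectedComponent_eq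
  have hV : IsClopen (((↑) : PrimeSpectrum A → _root_.ConnectedComponents (PrimeSpectrum A)) '' Z) := by
    rw [← _root_.ConnectedComponents.isQuotientMap_coe.isClopen_preimage, hpre]
    exact hZc
  have hopen : IsOpen (g ⁻¹'
      (((↑) : PrimeSpectrum A → _root_.ConnectedComponents (PrimeSpectrum A)) '' Z)) :=
    hV.isOpen.preimage g.continuous
  have hmem : t₀ ∈ g ⁻¹'
      (((↑) : PrimeSpectrum A → _root_.ConnectedComponents (PrimeSpectrum A)) '' Z) :=
    ⟨x₀, hx₀Z, hx₀⟩
  apply Filter.mem_of_superset (hopen.mem_nhds hmem)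
  intro t ht x hx
  apply hZa
  have hx' : _root_.ConnectedComponents.mk x = g t := hx
  have : x ∈ ((↑) : PrimeSpectrum A → _root_.ConnectedComponents (PrimeSpectrum A)) ⁻¹'
      ((↑) '' Z) := by
    change _root_.ConnectedComponents.mk x ∈
      (((↑) : PrimeSpectrum A → _root_.ConnectedComponents (PrimeSpectrum A)) '' Z)
    rw [hx']
    exact ht
  rw [hpre] at this
  exact this

theorem disjoint_Sg_iff (t : T) (p : PrimeSpectrum A) :
    Disjoint (Sg g t : Set A) (p.asIdeal : Set A) ↔ _root_.ConnectedComponents.mk p = g t := by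
  constructor
  · intro hdis
    by_contra hne
    obtain ⟨x₀, hx₀⟩ := _root_.ConnectedComponents.surjective_coe (g t)
    have hZ : Zg g t = quasiComp x₀ := by
      rw [Zg_eq g t x₀ hx₀, connectedComponent_eq_quasiComp]
    have hp : p ∉ quasiComp x₀ := by
      rw [← hZ]
      exact hne
    rw [quasiComp, Set.mem_iInter] at hp
    push Not at hp
    obtain ⟨⟨Z, hZc, hx₀Z⟩, hpZ⟩ := hp
    obtain ⟨e, he, hZe⟩ := PrimeSpectrum.isClopen_iff.mp hZc
    have heS : e ∈ Sg g t := by
      rw [mem_Sg_iff, hZ, ← hZe]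
      exact quasiComp_subset hZc hx₀Z
    have hep : e ∈ p.asIdeal := by
      by_contra hep
      apply hpZ
      change p ∈ Z
      rw [hZe]
      exact hep
    exact Set.disjoint_left.mp hdis heS hep
  · intro h
    rw [Set.disjoint_left]
    intro f hf hfp
    have : p ∈ (PrimeSpectrum.basicOpen f : Set (PrimeSpectrum A)) := hf h
    exact this hfp

theorem connectedSpace_loc (t : T) :
    ConnectedSpace (PrimeSpectrum (Localization (Sg g t))) := by
  obtain ⟨x₀, hx₀⟩ := _root_.ConnectedComponents.surjective_coe (g t)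
  have hemb := PrimeSpectrum.localization_comap_isEmbedding (Localization (Sg g t)) (Sg g t)
  have hrange : Set.range (PrimeSpectrum.comap (algebraMap A (Localization (Sg g t)))) =
      connectedComponent x₀ := by
    rw [PrimeSpectrum.localization_comap_range (Localization (Sg g t)) (Sg g t), ← Zg_eq g t x₀ hx₀]
    ext p
    exact disjoint_Sg_iff g t p
  have hpre : IsPreconnected (Set.univ : Set (PrimeSpectrum (Localization (Sg g t)))) := by
    rw [← hemb.isInducing.isPreconnected_image, Set.image_univ, hrange]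
    exact isPreconnected_connectedComponent
  have hne : Nonempty (PrimeSpectrum (Localization (Sg g t))) := by
    have : x₀ ∈ Set.range (PrimeSpectrum.comap (algebraMap A (Localization (Sg g t)))) := by
      rw [hrange]
      exact mem_connectedComponent
    obtain ⟨𝔭, _⟩ := this
    exact ⟨𝔭⟩
  haveI : PreconnectedSpace (PrimeSpectrum (Localization (Sg g t))) := ⟨hpre⟩
  exact ⟨hne⟩

variable [CompactSpace T] [T2Space T] [TotallyDisconnectedSpace T]

/-- the main realization theorem -/
theorem exists_realization :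
    ∃ e : _root_.ConnectedComponents (PrimeSpectrum (Sec (Sg g))) ≃ₜ T,
      EtPBC.IsIndZariski A (Sec (Sg g)) ∧
      (∀ y : PrimeSpectrum (Sec (Sg g)),
        g (e (_root_.ConnectedComponents.mk y)) =
          _root_.ConnectedComponents.mk (PrimeSpectrum.comap (algebraMap A (Sec (Sg g))) y)) ∧
      Topology.IsEmbedding (fun y : PrimeSpectrum (Sec (Sg g)) =>
        (PrimeSpectrum.comap (algebraMap A (Sec (Sg g))) y,
          e (_root_.ConnectedComponents.mk y))) ∧
      Set.range (fun y : PrimeSpectrum (Sec (Sg g)) =>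
        (PrimeSpectrum.comap (algebraMap A (Sec (Sg g))) y,
          e (_root_.ConnectedComponents.mk y))) =
        {p : PrimeSpectrum A × T | _root_.ConnectedComponents.mk p.1 = g p.2} := by
  have hS := hSg g
  obtain ⟨e, he⟩ := exists_connHomeo' hS (connectedSpace_loc g)
  have hfun : (fun y : PrimeSpectrum (Sec (Sg g)) =>
      (PrimeSpectrum.comap (algebraMap A (Sec (Sg g))) y,
        e (_root_.ConnectedComponents.mk y))) = Phi (S := Sg g) := by
    funext y
    rw [he]
    rfl
  have hrange : Set.range (Phi (S := Sg g)) =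
      {p : PrimeSpectrum A × T | _root_.ConnectedComponents.mk p.1 = g p.2} := by
    rw [range_Phi hS]
    ext p
    exact disjoint_Sg_iff g p.2 p.1
  refine ⟨e, isIndZariski_sec hS, ?_, ?_, ?_⟩
  · intro y
    rw [he]
    have : Phi y ∈ Set.range (Phi (S := Sg g)) := ⟨y, rfl⟩
    rw [hrange] at this
    exact this.symm
  · rw [hfun]
    exact isEmbedding_Phi hS
  · rw [hfun]
    exact hrange

end Groth.Agent.Lib.Helper4.LocSec
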