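import Mathlib
import Groth.Prelude.Def_ProEtW
import Groth.Agent.Lib.Helper4.WLocRetr1
import Groth.Agent.Lib.Helper4.IdLoc2
import Groth.Agent.Lib.Helper4.ConsTop
import Groth.Agent.S0697

/-!
# Rings with ind-Zariski retractions are w-local with extremally disconnected `π₀`
-/

set_option autoImplicit false
set_option linter.style.haveILetI false
set_option linter.unusedSectionVars false
universe u

namespace Groth.Agent.Lib.Helper4.WLocRetr

open Topology Groth.Agent.Lib.Helper20.SpecTop Groth.Agent.Lib.Helper4.LocSec

theorem isWLocal_of_retractions (A : Type u) [CommRing A]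
    (h : ProEtW.HasIndZariskiRetractions A) : ProEtW.IsWLocal (PrimeSpectrum A) := by
  let P : ConsTop.Cons A → PrimeSpectrum A := ConsTop.toSpec
  have hP : ∀ a : A, IsClopen {t | a ∈ (P t).asIdeal} := ConsTop.isClopen_zeroLocus
  obtain ⟨ρ⟩ := h (Sec (Sp P)) (faithfullyFlat_sec P hP ConsTop.toSpec_bijective.2)
    (isIndZariski_sec_sp P hP)
  have hsurj : Function.Surjective ρ.toRingHom := fun a => ⟨algebraMap A _ a, ρ.commutes a⟩
  have hcemb := PrimeSpectrum.isClosedEmbedding_comap_of_surjective A ρ.toRingHom hsurj
  exact isWLocal_of_isClosedEmbedding _ hcemb (isWLocal_sec P hP)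

set_option maxHeartbeats 1000000 in
theorem extremallyDisconnected_of_retractions (A : Type u) [CommRing A]
    (h : ProEtW.HasIndZariskiRetractions A) :
    ExtremallyDisconnected (_root_.ConnectedComponents (PrimeSpectrum A)) := by
  haveI : T2Space (_root_.ConnectedComponents (PrimeSpectrum A)) := t2Space_connectedComponents
  let XC : CompHaus.{u} := CompHaus.of (_root_.ConnectedComponents (PrimeSpectrum A))
  let T' : Stonean.{u} := XC.presentation
  let π := CompHaus.presentation.π XC
  have hπ : Function.Surjective π := (CompHaus.epi_iff_surjective _).mp inferInstance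
  have hc : Continuous π := π.hom.hom.continuous
  let g : C(T', _root_.ConnectedComponents (PrimeSpectrum A)) := ⟨π, hc⟩
  obtain ⟨B, instB, algB, e, hZB, hge, hemb, hrange⟩ := Groth.Agent.S0697.result A T' g
  have hidB := IdLoc.of_isIndZariski A B hZB
  haveI : Module.Flat A B := IdLoc.flat A B hidB
  have hff : Module.FaithfullyFlat A B := by
    apply Module.FaithfullyFlat.of_comap_surjective
    intro x
    obtain ⟨t, ht⟩ := hπ (_root_.ConnectedComponents.mk x)
    have hmem : (x, t) ∈ {p : PrimeSpectrum A × T' |
        _root_.ConnectedComponents.mk p.1 = g p.2} := ht.symm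
    rw [← hrange] at hmem
    obtain ⟨y, hy⟩ := hmem
    exact ⟨y, congrArg Prod.fst hy⟩
  obtain ⟨ρ⟩ := h B hff hZB
  have hρc : Continuous (PrimeSpectrum.comap ρ.toRingHom) := PrimeSpectrum.continuous_comap _
  let σ : _root_.ConnectedComponents (PrimeSpectrum A) → T' :=
    fun c => e (hρc.connectedComponentsMap c)
  have hσc : Continuous σ := e.continuous.comp hρc.connectedComponentsMap_continuous
  have hgσ : ∀ c, π (σ c) = c := by
    intro c
    obtain ⟨x, rfl⟩ := _root_.ConnectedComponents.surjective_coe c
    change g (e (hρc.connectedComponentsMap (_root_.ConnectedComponents.mk x))) =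
      _root_.ConnectedComponents.mk x
    rw [Continuous.connectedComponentsMap_mk, hge]
    congr 1
    apply PrimeSpectrum.ext
    ext a
    change ρ (algebraMap A B a) ∈ x.asIdeal ↔ a ∈ x.asIdeal
    rw [ρ.commutes]
    rfl
  have hproj : CompactT2.Projective T' := CompactT2.ExtremallyDisconnected.projective
  apply CompactT2.Projective.extremallyDisconnected
  intro Y Z _ _ _ _ _ _ f k hf hk hksurj
  obtain ⟨l, hl, hkl⟩ := hproj (hf.comp hc) hk hksurj
  refine ⟨l ∘ σ, hl.comp hσc, ?_⟩
  funext c
  have h1 := congrFun hkl (σ c)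
  simp only [Function.comp] at h1 ⊢
  rw [h1, hgσ]

end Groth.Agent.Lib.Helper4.WLocRetr
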