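import Mathlib
import Groth.Prelude.Def_PBC
import Groth.Agent.Lib.Helper4.IndZar1
import Groth.Agent.Lib.Lead.SpreadOut

/-!
# Identifying local rings + clopen refinement ⟹ ind-Zariski
-/

set_option autoImplicit false
set_option linter.style.haveILetI false
set_option linter.unusedSectionVars false
universe u

namespace Groth.Agent.Lib.Helper4.IndZar

open Groth.Agent.Lib.Lead.SpreadOut

variable {A B : Type u} [CommRing A] [CommRing B] [Algebra A B]

set_option maxHeartbeats 1000000 in
/-- Local factorization at a prime `q` of `B`. -/
theorem exists_local_factor (h1 : EtPBC.IdentifiesLocalRings A B)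
    (Z : Type u) [CommRing Z] [Algebra A Z] [Algebra.FinitePresentation A Z] (g : Z →ₐ[A] B)
    (q : PrimeSpectrum B) :
    ∃ (t : A) (γ : B) (f' : Z →ₐ[A] Localization.Away t), γ ∉ q.asIdeal ∧
      ∀ (Q : Type u) [CommRing Q] (π : B →+* Q), IsUnit (π γ) →
        ∃ v : Localization.Away t →+* Q,
          (∀ a, v (algebraMap A _ a) = π (algebraMap A B a)) ∧ ∀ z, v (f' z) = π (g z) := by
  classical
  set f : A →+* B := algebraMap A B with hf
  set p : Ideal A := q.asIdeal.comap f with hp
  let e : Localization.AtPrime p ≃+* Localization.AtPrime q.asIdeal :=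
    RingEquiv.ofBijective (Localization.localRingHom p q.asIdeal f rfl) (h1 q)
  have he : ∀ x, e x = Localization.localRingHom p q.asIdeal f rfl x := fun x => rfl
  let h : Z →ₐ[A] Localization.AtPrime p :=
    { toRingHom := (e.symm : Localization.AtPrime q.asIdeal →+* Localization.AtPrime p).comp
        ((algebraMap B (Localization.AtPrime q.asIdeal)).comp g.toRingHom)
      commutes' := fun a => by
        change e.symm (algebraMap B (Localization.AtPrime q.asIdeal) (g (algebraMap A Z a))) = _
        rw [g.commutes, RingEquiv.symm_apply_eq, he, Localization.localRingHom_to_map] }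
  have hh : ∀ z, e (h z) = algebraMap B (Localization.AtPrime q.asIdeal) (g z) := by
    intro z
    change e (e.symm _) = _
    rw [RingEquiv.apply_symm_apply]
    rfl
  obtain ⟨t, ht, f', hf'⟩ := exists_lift_away (R := A) (T := A) (L := Localization.AtPrime p)
    p.primeCompl h
  have hft : f t ∈ q.asIdeal.primeCompl := ht
  -- the map `A_t → B_{f t}`
  have hunit : IsUnit ((Algebra.ofId A (Localization.Away (f t))) t) := by
    change IsUnit (algebraMap A (Localization.Away (f t)) t)
    rw [IsScalarTower.algebraMap_apply A B (Localization.Away (f t))]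
    exact IsLocalization.Away.algebraMap_isUnit (f t)
  let j : Localization.Away t →ₐ[A] Localization.Away (f t) :=
    IsLocalization.Away.liftAlgHom (A := A) t (f := Algebra.ofId A (Localization.Away (f t))) hunit
  have hj : ∀ a : A, j (algebraMap A _ a) = algebraMap B (Localization.Away (f t)) (f a) := by
    intro a
    rw [AlgHom.commutes, IsScalarTower.algebraMap_apply A B (Localization.Away (f t))]
  let f₁ : Z →ₐ[A] Localization.Away (f t) :=
    (IsScalarTower.toAlgHom A B (Localization.Away (f t))).comp g
  let f₂ : Z →ₐ[A] Localization.Away (f t) := j.comp f'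
  have hcomp : ∀ x : Localization.Away t,
      ι (R := A) (L := Localization.AtPrime q.asIdeal) q.asIdeal.primeCompl (f t) hft (j x) =
        e (ι (R := A) (L := Localization.AtPrime p) p.primeCompl t ht x) := by
    intro x
    have := away_hom_ext t
      ((ι (R := A) (L := Localization.AtPrime q.asIdeal) q.asIdeal.primeCompl (f t)
        hft).toRingHom.comp j.toRingHom)
      ((e : Localization.AtPrime p →+* Localization.AtPrime q.asIdeal).comp
        (ι (R := A) (L := Localization.AtPrime p) p.primeCompl t ht).toRingHom) (by
        intro a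
        change ι (R := A) (L := Localization.AtPrime q.asIdeal) q.asIdeal.primeCompl (f t) hft
          (j (algebraMap A _ a)) = e (ι (R := A) (L := Localization.AtPrime p) p.primeCompl t ht
            (algebraMap A _ a))
        rw [hj, ι_algebraMap, ι_algebraMap, he, Localization.localRingHom_to_map])
    exact RingHom.congr_fun this x
  have hagree : ∀ z, ι (R := A) (L := Localization.AtPrime q.asIdeal) q.asIdeal.primeCompl
      (f t) hft (f₁ z) = ι (R := A) (L := Localization.AtPrime q.asIdeal) q.asIdeal.primeCompl
      (f t) hft (f₂ z) := by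
    intro z
    change ι (R := A) (L := Localization.AtPrime q.asIdeal) q.asIdeal.primeCompl (f t) hft
      (algebraMap B _ (g z)) = ι (R := A) (L := Localization.AtPrime q.asIdeal)
      q.asIdeal.primeCompl (f t) hft (j (f' z))
    rw [ι_algebraMap, hcomp, hf', hh]
  obtain ⟨u, hu, huz⟩ := exists_eq_after_loc (R := A) (T := B)
    (L := Localization.AtPrime q.asIdeal) q.asIdeal.primeCompl (f t) hft f₁ f₂ hagree
  refine ⟨t, f t * u, f', ?_, ?_⟩
  · exact q.asIdeal.primeCompl.mul_mem hft hu
  · intro Q _ π hπ
    let w : Localization.Away (f t * u) →+* Q := IsLocalization.Away.lift (f t * u) hπ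
    have hw : ∀ b : B, w (algebraMap B _ b) = π b := IsLocalization.Away.lift_eq _ hπ
    refine ⟨w.comp ((ρ (R := A) (f t) (f t * u) (Dvd.intro u rfl)).toRingHom.comp j.toRingHom),
      ?_, ?_⟩
    · intro a
      change w (ρ (R := A) (f t) (f t * u) (Dvd.intro u rfl) (j (algebraMap A _ a))) = _
      rw [hj, ρ_algebraMap, hw]
    · intro z
      change w (ρ (R := A) (f t) (f t * u) (Dvd.intro u rfl) (f₂ z)) = _
      rw [← huz z]
      change w (ρ (R := A) (f t) (f t * u) (Dvd.intro u rfl) (algebraMap B _ (g z))) = _
      rw [ρ_algebraMap, hw]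

end Groth.Agent.Lib.Helper4.IndZar
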