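import Mathlib
import Groth.Prelude.Def_PBC
import Groth.Agent.Lib.Helper4.IndZar2

/-!
# Identifying local rings + clopen refinement ⟹ ind-Zariski (main theorem)
-/

set_option autoImplicit false
set_option linter.style.haveILetI false
set_option linter.unusedSectionVars false
universe u

namespace Groth.Agent.Lib.Helper4.IndZar

variable {A B : Type u} [CommRing A] [CommRing B] [Algebra A B]

/-- complete orthogonal idempotents from a finite disjoint clopen cover of `Spec B` -/
theorem exists_coi_of_clopen_cover {n : ℕ} (V : Fin n → Set (PrimeSpectrum B))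
    (hVc : ∀ k, IsClopen (V k)) (hVd : Pairwise (fun k l => Disjoint (V k) (V l)))
    (hVu : (⋃ k, V k) = Set.univ) :
    ∃ e : Fin n → B, CompleteOrthogonalIdempotents e ∧
      ∀ k, V k = (PrimeSpectrum.basicOpen (e k) : Set (PrimeSpectrum B)) := by
  classical
  choose e he heV using fun k => PrimeSpectrum.isClopen_iff.mp (hVc k)
  have hortho : ∀ k l, k ≠ l → e k * e l = 0 := by
    intro k l hkl
    have hidem : IsIdempotentElem (e k * e l) := (he k).mul (he l)
    apply hidem.eq_zero_of_isNilpotent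
    rw [← PrimeSpectrum.basicOpen_eq_bot_iff, PrimeSpectrum.basicOpen_mul]
    apply TopologicalSpace.Opens.ext
    rw [TopologicalSpace.Opens.coe_inf, ← heV k, ← heV l]
    exact (hVd hkl).inter_eq
  have hOI : OrthogonalIdempotents e := ⟨he, fun k l hkl => hortho k l hkl⟩
  refine ⟨e, ⟨hOI, ?_⟩, heV⟩
  have hs : IsIdempotentElem (∑ k, e k) := hOI.isIdempotentElem_sum (s := Finset.univ)
  have h1s : IsIdempotentElem (1 - ∑ k, e k) := hs.one_sub
  have hnil : IsNilpotent (1 - ∑ k, e k) := by
    rw [← PrimeSpectrum.basicOpen_eq_bot_iff]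
    apply TopologicalSpace.Opens.ext
    rw [TopologicalSpace.Opens.coe_bot, Set.eq_empty_iff_forall_notMem]
    intro P hP
    have hPu : P ∈ ⋃ k, V k := by rw [hVu]; trivial
    obtain ⟨k, hk⟩ := Set.mem_iUnion.mp hPu
    rw [heV k] at hk
    have hk' : e k ∉ P.asIdeal := hk
    have h0 : (1 - ∑ l, e l) * e k = 0 := by
      rw [sub_mul, one_mul, mul_comm, hOI.mul_sum_of_mem (Finset.mem_univ k), sub_self]
    have h1 : (1 - ∑ l, e l) * e k ∈ P.asIdeal := by rw [h0]; exact P.asIdeal.zero_mem
    exact hP ((P.2.mem_or_mem h1).resolve_right hk')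
  have := h1s.eq_zero_of_isNilpotent hnil
  exact (sub_eq_zero.mp this).symm

set_option maxHeartbeats 1000000 in
/-- **Main theorem**: a ring map identifying local rings whose target spectrum has the clopen
refinement property is ind-Zariski. -/
theorem isIndZariski_of_identifiesLocalRings (h1 : EtPBC.IdentifiesLocalRings A B)
    (href : ∀ (U : PrimeSpectrum B → Set (PrimeSpectrum B)), (∀ q, IsOpen (U q)) →
      (⋃ q, U q) = Set.univ →
      ∃ (n : ℕ) (V : Fin n → Set (PrimeSpectrum B)), (∀ k, IsClopen (V k)) ∧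
        Pairwise (fun k l => Disjoint (V k) (V l)) ∧ (⋃ k, V k) = Set.univ ∧
        ∀ k, ∃ q, V k ⊆ U q) :
    EtPBC.IsIndZariski A B := by
  classical
  apply isIndZariski_of_factor
  intro Z _ _ _ g
  choose t γ f' hγ hv using fun q => exists_local_factor h1 Z g q
  obtain ⟨n, V, hVc, hVd, hVu, hVq⟩ := href
    (fun q => (PrimeSpectrum.basicOpen (γ q) : Set (PrimeSpectrum B)))
    (fun q => (PrimeSpectrum.basicOpen (γ q)).2) (by
      rw [Set.eq_univ_iff_forall]
      intro q
      exact Set.mem_iUnion.mpr ⟨q, hγ q⟩)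
  choose q hq using hVq
  obtain ⟨e, hcoi, heV⟩ := exists_coi_of_clopen_cover V hVc hVd hVu
  have hunit : ∀ k, IsUnit (Ideal.Quotient.mk (Ideal.span {1 - e k}) (γ (q k))) := by
    intro k
    rw [← Ideal.span_singleton_eq_top]
    by_contra hne
    obtain ⟨m, hm, hle⟩ := Ideal.exists_le_maximal _ hne
    have hmp : m.IsPrime := hm.isPrime
    let P : PrimeSpectrum B := ⟨m.comap (Ideal.Quotient.mk (Ideal.span {1 - e k})),
      Ideal.IsPrime.comap _⟩
    have h1 : (1 - e k) ∈ P.asIdeal := by
      change Ideal.Quotient.mk _ (1 - e k) ∈ m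
      rw [Ideal.Quotient.eq_zero_iff_mem.mpr (Ideal.mem_span_singleton_self _)]
      exact m.zero_mem
    have h2 : γ (q k) ∈ P.asIdeal := hle (Ideal.mem_span_singleton_self _)
    have h3 : e k ∉ P.asIdeal := by
      intro h
      apply P.2.ne_top
      rw [Ideal.eq_top_iff_one]
      have := P.asIdeal.add_mem h1 h
      simpa using this
    have h4 : P ∈ V k := by
      rw [heV k]
      exact h3
    exact hq k h4 h2
  choose v hvA hvz using fun k => hv (q k) (B ⧸ Ideal.span {1 - e k})
    (Ideal.Quotient.mk (Ideal.span {1 - e k})) (hunit k)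
  let E : B ≃+* (∀ k, B ⧸ Ideal.span {1 - e k}) :=
    RingEquiv.ofBijective (RingHom.pi fun k => Ideal.Quotient.mk (Ideal.span {1 - e k}))
      hcoi.bijective_pi
  have hE : ∀ b k, E b k = Ideal.Quotient.mk (Ideal.span {1 - e k}) b := fun b k => rfl
  let v₀ : (∀ k : Fin n, Localization.Away (t (q k))) →+* (∀ k, B ⧸ Ideal.span {1 - e k}) :=
    RingHom.pi fun k => (v k).comp (Pi.evalRingHom (fun k => Localization.Away (t (q k))) k)
  have hv₀ : ∀ w k, v₀ w k = v k (w k) := fun w k => rfl
  let vv : (∀ k : Fin n, Localization.Away (t (q k))) →ₐ[A] B :=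
    { toRingHom := (E.symm : (∀ k, B ⧸ Ideal.span {1 - e k}) →+* B).comp v₀
      commutes' := fun a => by
        change E.symm (v₀ (algebraMap A _ a)) = algebraMap A B a
        rw [RingEquiv.symm_apply_eq]
        funext k
        rw [hv₀, hE]
        exact hvA k a }
  let u : Z →ₐ[A] (∀ k : Fin n, Localization.Away (t (q k))) :=
    Pi.algHom A _ (fun k => f' (q k))
  refine ⟨(∀ k : Fin n, Localization.Away (t (q k))), inferInstance, inferInstance, u, vv, ?_,
    Algebra.IsLocalIso.pi_of_finite A (fun k : Fin n => Localization.Away (t (q k)))⟩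
  ext z
  change E.symm (v₀ (u z)) = g z
  rw [RingEquiv.symm_apply_eq]
  funext k
  rw [hv₀, hE]
  exact hvz k z

end Groth.Agent.Lib.Helper4.IndZar
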