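import Mathlib
import Groth.Prelude.Def_PBC
import Groth.Prelude.Def_ProEtW
import Groth.Prelude.Def_EtBase
import Groth.Agent.Lib.Helper4.Wc2
import Groth.Agent.Lib.Helper4.Sq1
import Groth.Agent.Lib.Helper4.WLocRetr2
import Groth.Agent.S0700
import Groth.Agent.S0736
import Groth.Agent.S0678
import Groth.Agent.S0675

/-!
# Characterization of w-contractible rings
-/

set_option autoImplicit false
set_option linter.style.haveILetI false
set_option linter.unusedSectionVars false
universe u

namespace Groth.Agent.Lib.Helper4.Wc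

open TensorProduct Function

set_option synthInstance.maxHeartbeats 400000 in
set_option maxHeartbeats 2000000 in
theorem isWContractible_of (A : Type u) [CommRing A]
    (hW : ProEtW.IsWLocal (PrimeSpectrum A))
    (hED : ExtremallyDisconnected (_root_.ConnectedComponents (PrimeSpectrum A)))
    (hSH : ∀ (m : Ideal A) [m.IsMaximal],
      EtCoh.IsStrictlyHenselianLocalRing (Localization.AtPrime m)) :
    EtPBC.IsWContractible A := by
  classical
  intro B _ _ hff hwe
  haveI := hwe
  haveI := hff
  let I : Ideal A := PrimeSpectrum.vanishingIdeal (ProEtW.closedPoints (PrimeSpectrum A))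
  have hI0 : PrimeSpectrum.zeroLocus (R := A) I = ProEtW.closedPoints (PrimeSpectrum A) := by
    rw [PrimeSpectrum.zeroLocus_vanishingIdeal_eq_closure]
    exact hW.2.1.closure_eq
  have hmaxB : ∀ q : PrimeSpectrum B,
      q ∈ PrimeSpectrum.zeroLocus ((I.map (algebraMap A B) : Ideal B) : Set B) →
      q.asIdeal.IsMaximal := by
    intro q hq
    have hp : PrimeSpectrum.comap (algebraMap A B) q ∈ PrimeSpectrum.zeroLocus (I : Set A) := by
      intro a ha
      exact hq (Ideal.mem_map_of_mem _ ha)
    rw [hI0] at hp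
    have hm : (q.asIdeal.comap (algebraMap A B)).IsMaximal :=
      (PrimeSpectrum.isClosed_singleton_iff_isMaximal _).mp hp
    exact isMaximal_of_weaklyEtale A B q.asIdeal hm
  obtain ⟨C, instC, algBC, algAC, tower, hZ, hbij, hWC, hWmap, hclA, hcl⟩ :=
    core A B I hI0 hmaxB
  haveI we1 : Algebra.WeaklyEtale B C :=
    Groth.Agent.S0736.result B C (Sq.isIndEtale_of_isIndZariski B C hZ)
  haveI we2 : Algebra.WeaklyEtale A C := Algebra.WeaklyEtale.trans A B C
  have hmax : ∀ n : Ideal C, n.IsMaximal → (n.comap (algebraMap A C)).IsMaximal := by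
    intro n hn
    have h1 : (⟨n, hn.isPrime⟩ : PrimeSpectrum C) ∈ ProEtW.closedPoints (PrimeSpectrum C) :=
      (PrimeSpectrum.isClosed_singleton_iff_isMaximal _).mpr hn
    rw [hclA] at h1
    exact (PrimeSpectrum.isClosed_singleton_iff_isMaximal _).mp h1
  have hid : EtPBC.IdentifiesLocalRings A C := identifies_of_strictlyHenselian A C hSH hmax
  have hZAC : EtPBC.IsIndZariski A C := Groth.Agent.S0700.result A C hid hW hWC hWmap
  have hffC : Module.FaithfullyFlat A C := by
    refine ⟨fun m hm => ?_⟩
    obtain ⟨q, hq⟩ := PrimeSpectrum.comap_surjective_of_faithfullyFlat (A := A) (B := B)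
      ⟨m, hm.isPrime⟩
    have hqm : q.asIdeal.comap (algebraMap A B) = m := congrArg PrimeSpectrum.asIdeal hq
    have hqI : I.map (algebraMap A B) ≤ q.asIdeal := by
      rw [Ideal.map_le_iff_le_comap]
      have h1 : (⟨m, hm.isPrime⟩ : PrimeSpectrum A) ∈ PrimeSpectrum.zeroLocus (I : Set A) := by
        rw [hI0]
        exact (PrimeSpectrum.isClosed_singleton_iff_isMaximal _).mpr hm
      intro a ha
      have h2 : a ∈ m := h1 ha
      rw [← hqm] at h2
      exact h2
    obtain ⟨Q, hQq, -⟩ := WLocRetr.exists_prime_over_of_bijective_quotientMap _ hbij q hqI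
    have hQq' : Q.asIdeal.comap (algebraMap B C) = q.asIdeal := congrArg PrimeSpectrum.asIdeal hQq
    have hmQ : m = Q.asIdeal.comap (algebraMap A C) := by
      rw [← hqm, ← hQq', Ideal.comap_comap, ← IsScalarTower.algebraMap_eq A B C]
    rw [Ideal.smul_top_eq_map, hmQ]
    exact (Submodule.restrictScalars_eq_top_iff _ _ _).ne.mpr
      fun top ↦ Q.isPrime.ne_top <| top_le_iff.mp <| top ▸ Ideal.map_comap_le
  obtain ⟨ρ⟩ := WLocRetr.exists_retraction A hW hED C hffC hZAC
  exact ⟨ρ.comp (IsScalarTower.toAlgHom A B C)⟩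

theorem of_isWContractible (A : Type u) [CommRing A] (h : EtPBC.IsWContractible A) :
    ProEtW.IsWLocal (PrimeSpectrum A) ∧
      ExtremallyDisconnected (_root_.ConnectedComponents (PrimeSpectrum A)) ∧
      ∀ (m : Ideal A) [m.IsMaximal],
        EtCoh.IsStrictlyHenselianLocalRing (Localization.AtPrime m) := by
  have h1 : ProEtW.HasIndZariskiRetractions A := by
    intro B _ _ hff hZ
    exact h B hff (Groth.Agent.S0736.result A B (Sq.isIndEtale_of_isIndZariski A B hZ))
  have h2 : ProEtW.HasEtaleRetractions A := by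
    intro B _ _ hff hEt
    haveI := hEt
    exact h B hff inferInstance
  obtain ⟨hW, hED⟩ := (Groth.Agent.S0678.result A).mp h1
  exact ⟨hW, hED, fun m _ => Groth.Agent.S0675.result A h2 m⟩

end Groth.Agent.Lib.Helper4.Wc
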