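import Mathlib
import Groth.Prelude.Def_PBC
import Groth.Prelude.Def_ProEtW
import Groth.Prelude.Def_EtBase
import Groth.Agent.Lib.Helper4.Sq4
import Groth.Agent.Lib.Helper4.Wc3
import Groth.Agent.S0697
import Groth.Agent.S0704

/-!
# Every ring has a faithfully flat ind-étale w-contractible cover
-/

set_option autoImplicit false
set_option linter.style.haveILetI false
set_option linter.unusedSectionVars false
universe u

namespace Groth.Agent.Lib.Helper4.WcCover

open Topology Groth.Agent.Lib.Helper20.SpecTop

theorem isWLocal_of_homeomorph {X Y : Type u} [TopologicalSpace X] [TopologicalSpace Y]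
    [SpectralSpace X] (h : X ≃ₜ Y) (hY : ProEtW.IsWLocal Y) : ProEtW.IsWLocal X := by
  obtain ⟨-, hcl, huniq⟩ := hY
  have hsing : ∀ x : X, IsClosed ({h x} : Set Y) ↔ IsClosed ({x} : Set X) := by
    intro x
    rw [← Set.image_singleton]
    exact h.isClosed_image
  refine ⟨inferInstance, ?_, ?_⟩
  · have : {x : X | IsClosed ({x} : Set X)} = h ⁻¹' {y : Y | IsClosed ({y} : Set Y)} := by
      ext x
      simp only [Set.mem_setOf_eq, Set.mem_preimage]
      exact (hsing x).symm
    rw [this]
    exact hcl.preimage h.continuous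
  · intro x
    obtain ⟨y, ⟨hy1, hy2⟩, hy3⟩ := huniq (h x)
    refine ⟨h.symm y, ⟨?_, ?_⟩, ?_⟩
    · rw [← hsing, h.apply_symm_apply]
      exact hy1
    · rw [← h.isInducing.specializes_iff, h.apply_symm_apply]
      exact hy2
    · rintro z ⟨hz1, hz2⟩
      have := hy3 (h z) ⟨(hsing z).mpr hz1, h.isInducing.specializes_iff.mpr hz2⟩
      rw [← this, h.symm_apply_apply]

theorem extremallyDisconnected_of_homeomorph {X Y : Type*} [TopologicalSpace X]
    [TopologicalSpace Y] (e : X ≃ₜ Y) [ExtremallyDisconnected Y] : ExtremallyDisconnected X := by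
  refine ⟨fun U hU => ?_⟩
  have h1 : IsOpen (e '' U) := e.isOpenMap U hU
  have h2 := ExtremallyDisconnected.open_closure (e '' U) h1
  rw [← e.image_closure] at h2
  have h3 := h2.preimage e.continuous
  rwa [e.preimage_image] at h3

set_option synthInstance.maxHeartbeats 400000 in
set_option maxHeartbeats 2000000 in
/-- Every w-local ring with strictly henselian local rings at closed points has a faithfully flat
ind-Zariski cover which is moreover w-contractible. -/
theorem exists_cover_of_wStrictlyLocal (C : Type u) [CommRing C]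
    (hWC : ProEtW.IsWLocal (PrimeSpectrum C))
    (hSHC : ∀ (m : Ideal C) [m.IsMaximal],
      EtCoh.IsStrictlyHenselianLocalRing (Localization.AtPrime m)) :
    ∃ (D : Type u) (_ : CommRing D) (_ : Algebra C D),
      Module.FaithfullyFlat C D ∧ EtPBC.IsIndZariski C D ∧ EtPBC.IsWContractible D := by
  classical
  haveI : T2Space (_root_.ConnectedComponents (PrimeSpectrum C)) := t2Space_connectedComponents
  let X : CompHaus.{u} := CompHaus.of (_root_.ConnectedComponents (PrimeSpectrum C))
  let T' : Stonean.{u} := X.presentation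
  let π := CompHaus.presentation.π X
  have hπ : Function.Surjective π := (CompHaus.epi_iff_surjective _).mp inferInstance
  have hc : Continuous π := π.hom.hom.continuous
  let g : C(T', _root_.ConnectedComponents (PrimeSpectrum C)) := ⟨π, hc⟩
  obtain ⟨D, instD, algCD, e, hZ, hcompat, hemb, hrange⟩ := Groth.Agent.S0697.result C T' g
  obtain ⟨hWY, hWmapY, hclY⟩ := Groth.Agent.S0704.result (PrimeSpectrum C) T' hWC g
  -- the homeomorphism with the fibre product
  let Φ0 : PrimeSpectrum D ≃ₜ Set.range (fun y : PrimeSpectrum D =>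
      (PrimeSpectrum.comap (algebraMap C D) y, e (_root_.ConnectedComponents.mk y))) :=
    hemb.toHomeomorph
  let Φ : PrimeSpectrum D ≃ₜ
      {p : PrimeSpectrum C × T' // _root_.ConnectedComponents.mk p.1 = g p.2} :=
    Φ0.trans (Homeomorph.setCongr hrange)
  have hΦ : ∀ y : PrimeSpectrum D, (Φ y).1.1 = PrimeSpectrum.comap (algebraMap C D) y :=
    fun y => rfl
  have hWD : ProEtW.IsWLocal (PrimeSpectrum D) := isWLocal_of_homeomorph Φ hWY
  have hclosed : ∀ y : PrimeSpectrum D, IsClosed ({y} : Set (PrimeSpectrum D)) →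
      IsClosed ({PrimeSpectrum.comap (algebraMap C D) y} : Set (PrimeSpectrum C)) := by
    intro y hy
    have h1 : IsClosed ({Φ y} : Set _) := by
      rw [← Set.image_singleton]
      exact Φ.isClosed_image.mpr hy
    have h2 := hWmapY.2 (Φ y) h1
    exact h2
  have hidl : EtPBC.IdentifiesLocalRings C D := IdLoc.of_isIndZariski C D hZ
  haveI hfl : Module.Flat C D := IdLoc.flat C D hidl
  haveI hff : Module.FaithfullyFlat C D := Module.FaithfullyFlat.of_comap_surjective (by
    intro x
    obtain ⟨t, ht⟩ := hπ (_root_.ConnectedComponents.mk x)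
    have hmem : (x, t) ∈ {p : PrimeSpectrum C × T' | _root_.ConnectedComponents.mk p.1 = g p.2} :=
      ht.symm
    rw [← hrange] at hmem
    obtain ⟨y, hy⟩ := hmem
    exact ⟨y, congrArg Prod.fst hy⟩)
  haveI hEDT : ExtremallyDisconnected T' := inferInstance
  have hED : ExtremallyDisconnected (_root_.ConnectedComponents (PrimeSpectrum D)) :=
    extremallyDisconnected_of_homeomorph e
  refine ⟨D, instD, algCD, hff, hZ, Wc.isWContractible_of D hWD hED ?_⟩
  intro m hm
  have hmc : IsClosed ({(⟨m, hm.isPrime⟩ : PrimeSpectrum D)} : Set (PrimeSpectrum D)) :=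
    (PrimeSpectrum.isClosed_singleton_iff_isMaximal _).mpr hm
  have hnc := hclosed _ hmc
  haveI hn : (m.comap (algebraMap C D)).IsMaximal :=
    (PrimeSpectrum.isClosed_singleton_iff_isMaximal _).mp hnc
  haveI : m.IsPrime := hm.isPrime
  exact Sq.isStrictlyHenselian_of_identifies hidl m (hSHC (m.comap (algebraMap C D)))

/-- Every ring has a faithfully flat ind-étale w-contractible cover. -/
theorem exists_wContractible_cover (A : Type u) [CommRing A] :
    ∃ (D : Type u) (_ : CommRing D) (_ : Algebra A D),
      Module.FaithfullyFlat A D ∧ EtPBC.IsIndEtale A D ∧ EtPBC.IsWContractible D := by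
  obtain ⟨C, instC, algC, hffC, hEtC, hWC, -, hSHC⟩ := Sq.stage1 A
  obtain ⟨D, instD, algCD, hffD, hZD, hWcD⟩ := exists_cover_of_wStrictlyLocal C hWC hSHC
  letI algAD : Algebra A D := ((algebraMap C D).comp (algebraMap A C)).toAlgebra
  haveI tower : IsScalarTower A C D := IsScalarTower.of_algebraMap_eq (fun _ => rfl)
  refine ⟨D, instD, algAD, Module.FaithfullyFlat.trans A C D, ?_, hWcD⟩
  exact Groth.Agent.S0734.result A C D hEtC (Sq.isIndEtale_of_isIndZariski C D hZD)

end Groth.Agent.Lib.Helper4.WcCover
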