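import Mathlib
import Groth.Prelude.Def_ProEtS
import Groth.Prelude.Def_PBC
import Groth.Agent.Lib.Helper4.PE6
import Groth.Agent.Lib.Helper4.WEtBasic
import Groth.Agent.Lib.Helper4.WcCover

/-!
# Covers of objects of the small pro-étale site by w-contractible affines
-/

set_option autoImplicit false
set_option linter.style.haveILetI false
set_option linter.unusedSectionVars false
universe u

namespace Groth.Agent.Lib.Helper4.PE

open CategoryTheory CategoryTheory.Limits AlgebraicGeometry Opposite

/-- w-contractibility is invariant under ring isomorphisms. -/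
theorem isWContractible_of_ringEquiv {D D' : Type u} [CommRing D] [CommRing D'] (e : D ≃+* D')
    (h : EtPBC.IsWContractible D) : EtPBC.IsWContractible D' := by
  intro B' _ _ hff hwe
  haveI := hff
  haveI := hwe
  letI algDD' : Algebra D D' := e.toRingHom.toAlgebra
  letI algDB' : Algebra D B' := ((algebraMap D' B').comp e.toRingHom).toAlgebra
  haveI tower := IsScalarTower.of_algebraMap_eq (R := D) (S := D') (A := B') (fun _ => rfl)
  have hbij : Function.Bijective (algebraMap D D') := e.bijective
  haveI h1 : IsLocalization (⊥ : Submonoid D) D := IsLocalization.self (by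
    intro x hx
    rw [Submonoid.mem_bot] at hx
    rw [hx]
    exact isUnit_one)
  haveI : IsLocalization (⊥ : Submonoid D) D' :=
    IsLocalization.isLocalization_of_algEquiv (⊥ : Submonoid D)
      (AlgEquiv.ofBijective (Algebra.ofId D D') hbij)
  haveI w1 : Algebra.WeaklyEtale D D' := WEtBasic.weaklyEtale_of_isLocalization (⊥ : Submonoid D)
  haveI w2 : Algebra.WeaklyEtale D B' := Algebra.WeaklyEtale.trans D D' B'
  haveI f1 : Module.FaithfullyFlat D D' :=
    Module.FaithfullyFlat.of_linearEquiv D D
      (AlgEquiv.ofBijective (Algebra.ofId D D') hbij).toLinearEquiv.symm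
  haveI f2 : Module.FaithfullyFlat D B' := Module.FaithfullyFlat.trans D D' B'
  obtain ⟨σ⟩ := h B' f2 w2
  refine ⟨{ (e.toRingHom.comp σ.toRingHom) with commutes' := fun d' => ?_ }⟩
  change e (σ (algebraMap D' B' d')) = d'
  have h3 : algebraMap D' B' d' = algebraMap D B' (e.symm d') := by
    change _ = algebraMap D' B' (e (e.symm d'))
    rw [e.apply_symm_apply]
  rw [h3, σ.commutes]
  exact e.apply_symm_apply d'

end Groth.Agent.Lib.Helper4.PE

namespace Groth.Agent.Lib.Helper4.PE

open CategoryTheory CategoryTheory.Limits AlgebraicGeometry Opposite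

variable {X : Scheme.{u}}

/-- Composite coverings: an open cover followed by single-morphism coverings of the pieces. -/
theorem ofArrows_comp_mem {U : X.ProEt} {ι : Type*} (O : ι → U.left.Opens)
    (hO : (⋃ k, (O k : Set U.left)) = Set.univ) (V : ι → X.ProEt)
    (g' : ∀ i, V i ⟶ opn U (O i))
    (hg' : ∀ i, Sieve.generate (Presieve.singleton (g' i)) ∈
      Scheme.ProEt.topology X (opn U (O i))) :
    Sieve.generate (Presieve.ofArrows V (fun i => g' i ≫ opnι U (O i))) ∈
      Scheme.ProEt.topology X U := by
  let J := Scheme.ProEt.topology X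
  refine J.transitive (ofArrows_opn_mem O hO) _ ?_
  intro Y f hf
  obtain ⟨i, h, hfb⟩ := (Sieve.mem_ofArrows_iff _ _ _).mp hf
  have h1 : (Sieve.generate (Presieve.singleton (g' i))).pullback h ∈
      Scheme.ProEt.topology X Y :=
    J.pullback_stable h (hg' i)
  refine J.superset_covering ?_ h1
  intro T k hk
  obtain ⟨Z', m, b', hb', hmb⟩ := hk
  obtain ⟨⟩ := hb'
  refine ⟨V i, m, g' i ≫ opnι U (O i), ⟨i⟩, ?_⟩
  rw [hfb, reassoc_of% hmb]

set_option maxHeartbeats 1000000 in
/-- Over an affine open of an object there is an affine object with w-contractible ring of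
functions mapping surjectively (and quasi-compactly) onto it. -/
theorem exists_wc_over (U : X.ProEt) (O : U.left.Opens) (hO : IsAffineOpen O) :
    ∃ (V : X.ProEt) (g' : V ⟶ opn U O), IsAffine V.left ∧
      EtPBC.IsWContractible Γ(V.left, ⊤) ∧ Surjective g'.left ∧ QuasiCompact g'.left := by
  obtain ⟨D, instD, algD, hff, hEt, hWc⟩ :=
    WcCover.exists_wContractible_cover Γ(U.left, O)
  haveI := hff
  haveI hwe : Algebra.WeaklyEtale Γ(U.left, O) D := IndEt.weaklyEtale_of_isIndEtale _ _ hEt
  let φ : Γ(U.left, O) ⟶ CommRingCat.of D := CommRingCat.ofHom (algebraMap Γ(U.left, O) D)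
  haveI h1 : WeaklyEtale (Spec.map φ) :=
    Groth.Agent.Lib.Helper4.IndEt.weaklyEtale_SpecMap_of_weaklyEtale Γ(U.left, O) D
  haveI h2 : Surjective (Spec.map φ) := by
    have h3 : φ.hom.FaithfullyFlat := by
      rw [RingHom.FaithfullyFlat]
      have : RingHom.toAlgebra (algebraMap Γ(U.left, O) D) =
          (inferInstance : Algebra Γ(U.left, O) D) := Algebra.algebra_ext _ _ (fun _ => rfl)
      change @Module.FaithfullyFlat Γ(U.left, O) D _ _
        (RingHom.toAlgebra (algebraMap Γ(U.left, O) D)).toModule
      rw [this]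
      exact hff
    exact ((flat_and_surjective_SpecMap_iff φ).mpr h3).2
  haveI : IsAffine (O : Scheme) := hO
  let q : Spec (CommRingCat.of D) ⟶ (O : Scheme) := Spec.map φ ≫ hO.isoSpec.inv
  haveI : WeaklyEtale q := inferInstance
  haveI : Surjective q := inferInstance
  haveI : QuasiCompact q := inferInstance
  haveI : WeaklyEtale (q ≫ O.ι ≫ U.hom) := inferInstance
  let V : X.ProEt := Scheme.ProEt.mk (q ≫ O.ι ≫ U.hom)
  let g' : V ⟶ opn U O := MorphismProperty.Over.homMk q rfl
  refine ⟨V, g', (inferInstance : IsAffine (Spec (CommRingCat.of D))), ?_,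
    (inferInstance : Surjective q), (inferInstance : QuasiCompact q)⟩
  exact isWContractible_of_ringEquiv
    (Scheme.ΓSpecIso (CommRingCat.of D)).commRingCatIsoToRingEquiv.symm hWc

/-- Every object of the small pro-étale site has a covering family by affine objects with
w-contractible rings of functions. -/
theorem exists_wc_cover (U : X.ProEt) :
    ∃ (ι : Type u) (V : ι → X.ProEt) (g : ∀ i, V i ⟶ U),
      Sieve.generate (Presieve.ofArrows V g) ∈ Scheme.ProEt.topology X U ∧
        ∀ i, IsAffine (V i).left ∧ EtPBC.IsWContractible Γ((V i).left, ⊤) := by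
  let ι : Type u := U.left.affineOpens
  let O : ι → U.left.Opens := fun i => i.1
  have hO : (⋃ k, (O k : Set U.left)) = Set.univ := by
    have := iSup_affineOpens_eq_top U.left
    rw [Set.eq_univ_iff_forall]
    intro x
    have hx : x ∈ (⨆ i : U.left.affineOpens, (i : U.left.Opens)) := by rw [this]; trivial
    rw [TopologicalSpace.Opens.mem_iSup] at hx
    obtain ⟨i, hi⟩ := hx
    exact Set.mem_iUnion.mpr ⟨i, hi⟩
  choose V g' haff hwc hsurj hqc using fun i : ι => exists_wc_over U (O i) i.2
  refine ⟨ι, V, fun i => g' i ≫ opnι U (O i), ?_, fun i => ⟨haff i, hwc i⟩⟩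
  refine ofArrows_comp_mem O hO V g' (fun i => ?_)
  haveI := hsurj i
  haveI := hqc i
  exact singleton_mem (g' i)

end Groth.Agent.Lib.Helper4.PE
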