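import Mathlib
import Groth.Prelude.Def_ProEtS
import Groth.Agent.Lib.Helper4.PE7

/-!
# Base change of a cofiltered system of pro-étale objects along a morphism

For `D : I ⥤ X.ProEt`, a cone `c` whose image in schemes is a limit cone, an index `i`, and a
morphism `g : Z ⟶ D.obj i`, the system `k ↦ Z ×_{D i} D k` (for `k ∈ Over i`) has limit
`Z ×_{D i} c.pt` at the level of schemes.
-/

set_option autoImplicit false
set_option linter.style.haveILetI false
set_option linter.unusedSectionVars false
universe u

namespace Groth.Agent.Lib.Helper4.PELim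

open CategoryTheory CategoryTheory.Limits AlgebraicGeometry Opposite Groth.Agent.Lib.Helper4.PE

variable {X : Scheme.{u}}

/-- the underlying scheme functor -/
noncomputable abbrev US (X : Scheme.{u}) : X.ProEt ⥤ Scheme.{u} :=
  Scheme.ProEt.forget X ⋙ Over.forget X

variable {I : Type u} [SmallCategory I] (D : I ⥤ X.ProEt) (c : Cone D) {i : I} {Z : X.ProEt}
  (g : Z ⟶ D.obj i)

/-- the transition maps of the base-changed system -/
noncomputable abbrev bcMap {k k' : Over i} (f : k ⟶ k') :
    pullback g (D.map k.hom) ⟶ pullback g (D.map k'.hom) :=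
  pullback.lift (pullback.fst g (D.map k.hom)) (pullback.snd g (D.map k.hom) ≫ D.map f.left)
    (by rw [Category.assoc, ← D.map_comp, Over.w f, pullback.condition])

/-- the base-changed system -/
noncomputable abbrev bcFunctor : Over i ⥤ X.ProEt where
  obj k := pullback g (D.map k.hom)
  map {k k'} f := bcMap D g f
  map_id k := by
    apply pullback.hom_ext
    · rw [pullback.lift_fst, Category.id_comp]
    · rw [pullback.lift_snd, Category.id_comp]
      change pullback.snd g (D.map k.hom) ≫ D.map (𝟙 k.left) = _
      rw [D.map_id, Category.comp_id]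
  map_comp f f' := by
    apply pullback.hom_ext
    · rw [pullback.lift_fst, Category.assoc, pullback.lift_fst, pullback.lift_fst]
    · rw [pullback.lift_snd, Category.assoc, pullback.lift_snd, pullback.lift_snd_assoc]
      change _ ≫ D.map (f.left ≫ f'.left) = _
      rw [D.map_comp, Category.assoc]

/-- the legs of the cone over the base-changed system -/
noncomputable abbrev bcLeg (k : Over i) : pullback g (c.π.app i) ⟶ pullback g (D.map k.hom) :=
  pullback.lift (pullback.fst g (c.π.app i)) (pullback.snd g (c.π.app i) ≫ c.π.app k.left)
    (by rw [Category.assoc, c.w, pullback.condition])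

/-- the cone over the base-changed system -/
noncomputable abbrev bcCone : Cone (bcFunctor D g) where
  pt := pullback g (c.π.app i)
  π :=
    { app := fun k => bcLeg D c g k
      naturality := fun k k' f => by
        apply pullback.hom_ext
        · change (𝟙 _ ≫ bcLeg D c g k') ≫ _ = (bcLeg D c g k ≫ bcMap D g f) ≫ _
          rw [Category.id_comp, pullback.lift_fst, Category.assoc, pullback.lift_fst,
            pullback.lift_fst]
        · change (𝟙 _ ≫ bcLeg D c g k') ≫ _ = (bcLeg D c g k ≫ bcMap D g f) ≫ _
          rw [Category.id_comp, pullback.lift_snd, Category.assoc, pullback.lift_snd,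
            pullback.lift_snd_assoc, Category.assoc, c.w] }

theorem bcCone_π_fst (k : Over i) :
    (bcCone D c g).π.app k ≫ pullback.fst g (D.map k.hom) = pullback.fst g (c.π.app i) :=
  pullback.lift_fst _ _ _

theorem bcCone_π_snd (k : Over i) :
    (bcCone D c g).π.app k ≫ pullback.snd g (D.map k.hom) =
      pullback.snd g (c.π.app i) ≫ c.π.app k.left :=
  pullback.lift_snd _ _ _

theorem bcFunctor_map_fst {k k' : Over i} (f : k ⟶ k') :
    (bcFunctor D g).map f ≫ pullback.fst g (D.map k'.hom) = pullback.fst g (D.map k.hom) :=
  pullback.lift_fst _ _ _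

theorem bcFunctor_map_snd {k k' : Over i} (f : k ⟶ k') :
    (bcFunctor D g).map f ≫ pullback.snd g (D.map k'.hom) =
      pullback.snd g (D.map k.hom) ≫ D.map f.left :=
  pullback.lift_snd _ _ _

theorem isPullback_bcCone (k : Over i) :
    IsPullback ((bcCone D c g).π.app k) (pullback.snd g (c.π.app i))
      (pullback.snd g (D.map k.hom)) (c.π.app k.left) := by
  have hR : IsPullback (pullback.fst g (D.map k.hom)) (pullback.snd g (D.map k.hom)) g
      (D.map k.hom) := IsPullback.of_hasPullback _ _
  have hO : IsPullback ((bcCone D c g).π.app k ≫ pullback.fst g (D.map k.hom))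
      (pullback.snd g (c.π.app i)) g (c.π.app k.left ≫ D.map k.hom) := by
    rw [bcCone_π_fst, c.w]
    exact IsPullback.of_hasPullback _ _
  exact IsPullback.of_right hO (bcCone_π_snd D c g k) hR

attribute [local instance] CategoryTheory.isConnected_of_hasTerminal

/-- the base-changed cone is a limit cone at the level of schemes -/
noncomputable def bcIsLimit [IsCofiltered I] (hc : IsLimit ((US X).mapCone c)) :
    IsLimit ((US X).mapCone (bcCone D c g)) := by
  let α : bcFunctor D g ⋙ US X ⟶ (Over.forget i ⋙ D) ⋙ US X :=
    { app := fun k => (US X).map (pullback.snd g (D.map k.hom))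
      naturality := fun k k' f => by
        change (US X).map ((bcFunctor D g).map f) ≫ (US X).map (pullback.snd g (D.map k'.hom)) =
          (US X).map (pullback.snd g (D.map k.hom)) ≫ (US X).map (D.map f.left)
        rw [← Functor.map_comp, ← Functor.map_comp, bcFunctor_map_snd] }
  let cG : Cone ((Over.forget i ⋙ D) ⋙ US X) := ((US X).mapCone c).whisker (Over.forget i)
  have hcG : IsLimit cG := (Functor.Initial.isLimitWhiskerEquiv (Over.forget i) _).symm hc
  refine isLimitOfIsPullbackOfIsConnected α _ cG
    { hom := (US X).map (pullback.snd g (c.π.app i))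
      w := fun k => ?_ } (fun k => ?_) hcG
  · change (US X).map (pullback.snd g (c.π.app i)) ≫ (US X).map (c.π.app k.left) =
      (US X).map ((bcCone D c g).π.app k) ≫ (US X).map (pullback.snd g (D.map k.hom))
    rw [← Functor.map_comp, ← Functor.map_comp, bcCone_π_snd]
  · exact (isPullback_bcCone D c g k).map (US X)

end Groth.Agent.Lib.Helper4.PELim
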