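import Mathlib
import Groth.Prelude.Def_ProEtS
import Groth.Agent.Lib.Helper4.PELim1
import Groth.Agent.Lib.Helper4.PEC1

/-!
# The members of the Čech nerve in `Over V`, `V : X.ProEt`, as wide fibre products of schemes,
and their compatibility with cofiltered limits
-/

set_option autoImplicit false
set_option linter.style.haveILetI false
set_option linter.unusedSectionVars false
universe u

namespace Groth.Agent.Lib.Helper4.PEC

open CategoryTheory CategoryTheory.Limits AlgebraicGeometry Opposite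
  Groth.Agent.Lib.Helper4.PELim Groth.Agent.Lib.Helper22.CechU

variable {X : Scheme.{u}} {V : X.ProEt}

/-- the underlying scheme functor on `Over V` -/
noncomputable abbrev Θ (V : X.ProEt) : Over V ⥤ Scheme.{u} := Over.forget V ⋙ US X

section nerve

variable {m : ℕ} (Z : Fin m → Over V)

/-- the wide pullback cone of schemes underlying the product in `Over V` -/
noncomputable def nerveCone :
    Cone (Over.ConstructProducts.widePullbackDiagramOfDiagramOver V (Discrete.functor Z) ⋙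
      US X) :=
  (US X).mapCone ((Over.ConstructProducts.conesEquiv V (Discrete.functor Z)).inverse.obj
    (limit.cone (Discrete.functor Z)))

/-- it is a limit cone -/
noncomputable def nerveIsLimit : IsLimit (nerveCone Z) :=
  isLimitOfPreserves (US X)
    ((IsLimit.ofConeEquiv (Over.ConstructProducts.conesEquiv V (Discrete.functor Z)).symm).symm
      (limit.isLimit _))

lemma nerve_hom_ext {T : Scheme.{u}} (a b : T ⟶ (Θ V).obj (∏ᶜ Z))
    (h0 : a ≫ (∏ᶜ Z).hom.left = b ≫ (∏ᶜ Z).hom.left)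
    (h : ∀ j, a ≫ (Θ V).map (Pi.π Z j) = b ≫ (Θ V).map (Pi.π Z j)) : a = b := by
  refine (nerveIsLimit Z).hom_ext (fun o => ?_)
  cases o with
  | none => exact h0
  | some j => exact h j

lemma nerve_lift {T : Scheme.{u}} (t : T ⟶ V.left) (f : ∀ j, T ⟶ (Θ V).obj (Z j))
    (hf : ∀ j, f j ≫ (Z j).hom.left = t) :
    ∃ a : T ⟶ (Θ V).obj (∏ᶜ Z), a ≫ (∏ᶜ Z).hom.left = t ∧
      ∀ j, a ≫ (Θ V).map (Pi.π Z j) = f j := by
  let s : Cone (Over.ConstructProducts.widePullbackDiagramOfDiagramOver V (Discrete.functor Z) ⋙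
      US X) := WidePullbackShape.mkCone (F := Over.ConstructProducts.widePullbackDiagramOfDiagramOver V
        (Discrete.functor Z) ⋙ US X) t f hf
  refine ⟨(nerveIsLimit Z).lift s, (nerveIsLimit Z).fac s none, fun j => ?_⟩
  exact (nerveIsLimit Z).fac s (some j)

end nerve

lemma nerve_hom_ext' {n : ℕ} (Z : Fin (n + 1) → Over V) {T : Scheme.{u}}
    (a b : T ⟶ (Θ V).obj (∏ᶜ Z))
    (h : ∀ j, a ≫ (Θ V).map (Pi.π Z j) = b ≫ (Θ V).map (Pi.π Z j)) : a = b := by
  refine nerve_hom_ext Z a b ?_ h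
  have hw : (Θ V).map (Pi.π Z 0) ≫ (Z 0).hom.left = (∏ᶜ Z).hom.left :=
    congrArg (fun m => m.left) (Over.w (Pi.π Z 0))
  rw [← hw, ← Category.assoc, h 0, Category.assoc]

lemma nm_id {C : Type*} [Category C] [HasFiniteProducts C] {ι : Type*} (U : ι → C) {n : ℕ}
    (σ : Fin (n + 1) → ι) : nm (fun i => 𝟙 (U i)) σ = 𝟙 (Uσ U σ) := by
  refine Pi.hom_ext (f := U ∘ σ) _ _ (fun j => ?_)
  rw [nm_π]
  exact (Category.comp_id _).trans (Category.id_comp _).symm

/-- an abstract "limit of limits" statement -/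
theorem isLimit_of_components {𝒮 : Type*} [Category 𝒮] {K : Type*} [Category K] [IsCofiltered K]
    {n : ℕ} (A : K ⥤ 𝒮) (cA : Cone A) (Bf : Fin (n + 1) → (K ⥤ 𝒮)) (cB : ∀ j, Cone (Bf j))
    (hB : ∀ j, IsLimit (cB j)) (p : ∀ j, A ⟶ Bf j) (pinf : ∀ j, cA.pt ⟶ (cB j).pt)
    (hp : ∀ j b, cA.π.app b ≫ (p j).app b = pinf j ≫ (cB j).π.app b)
    (S : 𝒮) (h : ∀ j b, (Bf j).obj b ⟶ S) (hinf : ∀ j, (cB j).pt ⟶ S)
    (hh : ∀ j b, (cB j).π.app b ≫ h j b = hinf j)
    (hA : ∀ j b, (p j).app b ≫ h j b = (p 0).app b ≫ h 0 b)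
    (hext : ∀ b (T : 𝒮) (a a' : T ⟶ A.obj b),
      (∀ j, a ≫ (p j).app b = a' ≫ (p j).app b) → a = a')
    (hextinf : ∀ (T : 𝒮) (a a' : T ⟶ cA.pt), (∀ j, a ≫ pinf j = a' ≫ pinf j) → a = a')
    (hliftinf : ∀ (T : 𝒮) (f : ∀ j, T ⟶ (cB j).pt), (∀ j, f j ≫ hinf j = f 0 ≫ hinf 0) →
      ∃ a : T ⟶ cA.pt, ∀ j, a ≫ pinf j = f j) :
    Nonempty (IsLimit cA) := by
  refine ⟨IsLimit.ofExistsUnique (fun s => ?_)⟩
  obtain ⟨b₀⟩ := IsCofiltered.nonempty (C := K)
  let f : ∀ j, s.pt ⟶ (cB j).pt := fun j => (hB j).lift ((Cones.postcompose (p j)).obj s)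
  have hfac : ∀ j b, f j ≫ (cB j).π.app b = s.π.app b ≫ (p j).app b := fun j b =>
    (hB j).fac ((Cones.postcompose (p j)).obj s) b
  have hf : ∀ j, f j ≫ hinf j = f 0 ≫ hinf 0 := by
    have h1 : ∀ j, f j ≫ hinf j = s.π.app b₀ ≫ (p 0).app b₀ ≫ h 0 b₀ := by
      intro j
      rw [← hh j b₀, ← Category.assoc, hfac j b₀, Category.assoc, hA j b₀]
    intro j
    rw [h1 j, h1 0]
  obtain ⟨a, ha⟩ := hliftinf s.pt f hf
  refine ⟨a, fun b => ?_, fun a' ha' => ?_⟩
  · apply hext b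
    intro j
    rw [Category.assoc, hp j b, ← Category.assoc, ha j, hfac j b]
  · apply hextinf
    intro j
    rw [ha j]
    refine (hB j).uniq ((Cones.postcompose (p j)).obj s) _ (fun b => ?_)
    change (a' ≫ pinf j) ≫ (cB j).π.app b = s.π.app b ≫ (p j).app b
    rw [Category.assoc, ← hp j b, ← Category.assoc, ha' b]

section limit

variable {ι : Type (u + 1)} {K : Type u} [SmallCategory K] [IsCofiltered K]
  (E : ι → (K ⥤ Over V)) (cE : ∀ i, Cone (E i))
  {n : ℕ} (σ : Fin (n + 1) → ι)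

/-- the system of nerve members -/
noncomputable def nerveD : K ⥤ X.ProEt where
  obj b := (Uσ (fun i => (E i).obj b) σ).left
  map f := (nm (fun i => (E i).map f) σ).left
  map_id b := by
    have : (fun i => (E i).map (𝟙 b)) = fun i => 𝟙 ((E i).obj b) := by
      funext i
      exact (E i).map_id b
    rw [this, nm_id]
    rfl
  map_comp f g := by
    have : (fun i => (E i).map (f ≫ g)) = fun i => (E i).map f ≫ (E i).map g := by
      funext i
      exact (E i).map_comp f g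
    rw [this, ← nm_comp]
    rfl

/-- the cone over the system of nerve members -/
noncomputable def nerveC : Cone (nerveD E σ) where
  pt := (Uσ (fun i => (cE i).pt) σ).left
  π :=
    { app := fun b => (nm (fun i => (cE i).π.app b) σ).left
      naturality := fun b b' f => by
        change 𝟙 _ ≫ (nm (fun i => (cE i).π.app b') σ).left =
          (nm (fun i => (cE i).π.app b) σ).left ≫ (nm (fun i => (E i).map f) σ).left
        rw [Category.id_comp, ← Over.comp_left, nm_comp]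
        congr 2
        funext i
        exact ((cE i).w f).symm }

lemma Θ_nm_π {Y Y' : ι → Over V} (φ : ∀ i, Y i ⟶ Y' i) (j : Fin (n + 1)) :
    (Θ V).map (nm φ σ) ≫ (Θ V).map (Pi.π (Y' ∘ σ) j) =
      (Θ V).map (Pi.π (Y ∘ σ) j) ≫ (Θ V).map (φ (σ j)) := by
  rw [← (Θ V).map_comp, nm_π, (Θ V).map_comp]

set_option maxHeartbeats 1000000 in
/-- the nerve of a limit is the limit of the nerves -/
theorem nerveC_isLimit (hE : ∀ i, IsLimit ((Θ V).mapCone (cE i))) :
    Nonempty (IsLimit ((US X).mapCone (nerveC E cE σ))) := by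
  let p : ∀ j : Fin (n + 1), (nerveD E σ ⋙ US X) ⟶ (E (σ j) ⋙ Θ V) := fun j =>
    { app := fun b => (Θ V).map (Pi.π ((fun i => (E i).obj b) ∘ σ) j)
      naturality := fun b b' f => Θ_nm_π σ (fun i => (E i).map f) j }
  refine isLimit_of_components (nerveD E σ ⋙ US X) ((US X).mapCone (nerveC E cE σ))
    (fun j => E (σ j) ⋙ Θ V) (fun j => (Θ V).mapCone (cE (σ j))) (fun j => hE (σ j)) p
    (fun j => (Θ V).map (Pi.π ((fun i => (cE i).pt) ∘ σ) j))
    (fun j b => Θ_nm_π σ (fun i => (cE i).π.app b) j)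
    V.left (fun j b => ((E (σ j)).obj b).hom.left) (fun j => ((cE (σ j)).pt).hom.left)
    (fun j b => congrArg (fun m => m.left) (Over.w ((cE (σ j)).π.app b)))
    (fun j b => ?_) (fun b T a a' h => nerve_hom_ext' ((fun i => (E i).obj b) ∘ σ) a a' h)
    (fun T a a' h => nerve_hom_ext' ((fun i => (cE i).pt) ∘ σ) a a' h)
    (fun T f hf => ?_)
  · have h1 : ∀ j, (Θ V).map (Pi.π ((fun i => (E i).obj b) ∘ σ) j) ≫
        ((E (σ j)).obj b).hom.left = (Uσ (fun i => (E i).obj b) σ).hom.left := fun j =>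
      congrArg (fun m => m.left) (Over.w (Pi.π ((fun i => (E i).obj b) ∘ σ) j))
    exact (h1 j).trans (h1 0).symm
  · obtain ⟨a, -, ha⟩ := nerve_lift ((fun i => (cE i).pt) ∘ σ) (f 0 ≫ ((cE (σ 0)).pt).hom.left) f hf
    exact ⟨a, ha⟩

end limit

end Groth.Agent.Lib.Helper4.PEC
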