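import Mathlib
import Groth.Prelude.Def_ProEtS
import Groth.Prelude.Def_PBC
import Groth.Agent.Lib.Helper4.PE7

/-!
# Covering an object of the small pro-étale site by a single weakly contractible object
-/

set_option autoImplicit false
set_option linter.style.haveILetI false
set_option linter.unusedSectionVars false
universe u

namespace Groth.Agent.Lib.Helper4.PE

open CategoryTheory CategoryTheory.Limits AlgebraicGeometry Opposite

variable {X : Scheme.{u}}

/-- An object covered by pairwise disjoint opens which are weakly contractible is weakly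
contractible. -/
theorem isWC_of_disjoint_cover (U : X.ProEt) {ι : Type*} (W : ι → U.left.Opens)
    (hdisj : ∀ k l, k ≠ l → Disjoint (W k : Set U.left) (W l))
    (hcov : (⋃ k, (W k : Set U.left)) = Set.univ)
    (hWC : ∀ k, ProEtS.IsWC (opn U (W k))) : ProEtS.IsWC U := by
  intro F G φ hφ
  intro s
  choose t ht using fun k => hWC k F G φ hφ (G.obj.map (opnι U (W k)).op s)
  obtain ⟨t0, ht0, -⟩ := exists_glue F W hdisj hcov t
  refine ⟨t0, ?_⟩
  obtain ⟨s', hs', hs'uniq⟩ := exists_glue G W hdisj hcov
    (fun k => G.obj.map (opnι U (W k)).op s)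
  have e1 : φ.hom.app (op U) t0 = s' := by
    apply hs'uniq
    intro k
    have := FunctorToTypes.naturality φ.hom (opnι U (W k)).op t0
    rw [← this, ht0 k]
    exact ht k
  have e2 : s = s' := hs'uniq s (fun k => rfl)
  rw [e1, e2]

/-- Affine objects with w-contractible rings of functions are weakly contractible. -/
theorem isWC_of_isWContractible (U : X.ProEt) [IsAffine U.left]
    (h : EtPBC.IsWContractible Γ(U.left, ⊤)) : ProEtS.IsWC U :=
  isWC_of_partitionProp U (partitionProp_of_isWContractible U h)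

set_option maxHeartbeats 1000000 in
/-- Main construction: a single weakly contractible object covering `U`, built from a family of
affine opens covering `U`. -/
theorem exists_single_wc_cover (U : X.ProEt) {ι : Type u} (O : ι → U.left.Opens)
    (hOaff : ∀ i, IsAffineOpen (O i)) (hO : (⋃ k, (O k : Set U.left)) = Set.univ) :
    ∃ (V : X.ProEt) (g : V ⟶ U),
      Sieve.generate (Presieve.singleton g) ∈ Scheme.ProEt.topology X U ∧ ProEtS.IsWC V ∧
      (Finite ι → IsAffine V.left) := by
  classical
  choose Vi g' haff hwc hsurj hqc using fun i : ι => exists_wc_over U (O i) (hOaff i)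
  haveI := haff
  let F : ι → Scheme.{u} := fun i => (Vi i).left
  let gi : ∀ i, Vi i ⟶ U := fun i => g' i ≫ opnι U (O i)
  let p : (∐ F) ⟶ U.left := Sigma.desc (fun i => (gi i).left)
  haveI hpwe : WeaklyEtale p := by
    rw [IsZariskiLocalAtSource.iff_of_openCover (P := @WeaklyEtale) (sigmaOpenCover F)]
    intro k
    change WeaklyEtale (Sigma.ι F k ≫ p)
    rw [Sigma.ι_desc]
    exact weaklyEtale_left (gi k)
  haveI : WeaklyEtale (p ≫ U.hom) := inferInstance
  let V : X.ProEt := Scheme.ProEt.mk (p ≫ U.hom)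
  let g : V ⟶ U := MorphismProperty.Over.homMk p rfl
  -- the inclusions of the pieces
  have hιw : ∀ i, Sigma.ι F i ≫ p ≫ U.hom = (Vi i).hom := by
    intro i
    rw [← Category.assoc, Sigma.ι_desc]
    exact MorphismProperty.Over.w (gi i)
  let ji : ∀ i, Vi i ⟶ V := fun i => MorphismProperty.Over.homMk (Sigma.ι F i) (hιw i)
  have hji : ∀ i, ji i ≫ g = gi i := by
    intro i
    apply MorphismProperty.Over.Hom.ext
    exact Sigma.ι_desc _ _
  refine ⟨V, g, ?_, ?_, ?_⟩
  · -- covering
    have h1 : Sieve.generate (Presieve.ofArrows Vi gi) ∈ Scheme.ProEt.topology X U := by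
      refine ofArrows_comp_mem O hO Vi g' (fun i => ?_)
      haveI := hsurj i
      haveI := hqc i
      exact singleton_mem (g' i)
    refine (Scheme.ProEt.topology X).superset_covering ?_ h1
    rw [Sieve.generate_le_iff]
    rintro T f ⟨i⟩
    exact ⟨V, ji i, g, ⟨⟩, hji i⟩
  · -- weakly contractible
    let W : ι → V.left.Opens := fun i => (Sigma.ι F i).opensRange
    have hdisj : ∀ k l, k ≠ l → Disjoint (W k : Set V.left) (W l) := by
      intro k l hkl
      have h1 := disjoint_opensRange_sigmaι F k l hkl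
      rw [Set.disjoint_iff]
      intro x ⟨hx1, hx2⟩
      have h2 : x ∈ ((Sigma.ι F k).opensRange ⊓ (Sigma.ι F l).opensRange : (∐ F).Opens) :=
        ⟨hx1, hx2⟩
      rw [disjoint_iff.mp h1] at h2
      exact h2
    have hcov : (⋃ k, (W k : Set V.left)) = Set.univ := by
      rw [Set.eq_univ_iff_forall]
      intro x
      obtain ⟨y, hy⟩ := (sigmaOpenCover F).covers x
      exact Set.mem_iUnion.mpr ⟨(sigmaOpenCover F).idx x, ⟨y, hy⟩⟩
    refine isWC_of_disjoint_cover V W hdisj hcov (fun i => ?_)
    haveI hWaff : IsAffine (opn V (W i)).left :=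
      (isAffineOpen_opensRange (Sigma.ι F i) : IsAffineOpen (W i))
    refine isWC_of_isWContractible (opn V (W i)) ?_
    let e : F i ≅ ((W i : V.left.Opens) : Scheme) := (Sigma.ι F i).isoOpensRange
    exact isWContractible_of_ringEquiv
      (Scheme.Γ.mapIso e.op).commRingCatIsoToRingEquiv.symm (hwc i)
  · intro hfin
    exact (inferInstance : IsAffine (∐ F))

end Groth.Agent.Lib.Helper4.PE

namespace Groth.Agent.Lib.Helper4.PE

open CategoryTheory CategoryTheory.Limits AlgebraicGeometry Opposite

variable {X : Scheme.{u}}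

theorem iUnion_affineOpens (Y : Scheme.{u}) :
    (⋃ k : Y.affineOpens, ((k : Y.Opens) : Set Y)) = Set.univ := by
  have := iSup_affineOpens_eq_top Y
  rw [Set.eq_univ_iff_forall]
  intro x
  have hx : x ∈ (⨆ i : Y.affineOpens, (i : Y.Opens)) := by rw [this]; trivial
  rw [TopologicalSpace.Opens.mem_iSup] at hx
  obtain ⟨i, hi⟩ := hx
  exact Set.mem_iUnion.mpr ⟨i, hi⟩

theorem exists_wc_single (U : X.ProEt) :
    ∃ (V : X.ProEt) (g : V ⟶ U),
      Sieve.generate (Presieve.singleton g) ∈ Scheme.ProEt.topology X U ∧ ProEtS.IsWC V := by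
  obtain ⟨V, g, h1, h2, -⟩ := exists_single_wc_cover U (ι := U.left.affineOpens)
    (fun i => i.1) (fun i => i.2) (iUnion_affineOpens U.left)
  exact ⟨V, g, h1, h2⟩

theorem exists_wc_single_affine (U : X.ProEt) [CompactSpace ↥U.left] :
    ∃ (V : X.ProEt) (g : V ⟶ U),
      Sieve.generate (Presieve.singleton g) ∈ Scheme.ProEt.topology X U ∧ IsAffine V.left ∧
        ProEtS.IsWC V := by
  obtain ⟨t, ht⟩ := isCompact_univ.elim_finite_subcover
    (fun k : U.left.affineOpens => ((k : U.left.Opens) : Set U.left))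
    (fun k => (k : U.left.Opens).2) (by rw [iUnion_affineOpens])
  obtain ⟨V, g, h1, h2, h3⟩ := exists_single_wc_cover U (ι := ↥t)
    (fun i => i.1.1) (fun i => i.1.2) (by
      rw [Set.eq_univ_iff_forall]
      intro x
      obtain ⟨k, hk⟩ := Set.mem_iUnion.mp (ht (Set.mem_univ x))
      obtain ⟨hkt, hxk⟩ := Set.mem_iUnion.mp hk
      exact Set.mem_iUnion.mpr ⟨⟨k, hkt⟩, hxk⟩)
  exact ⟨V, g, h1, h3 inferInstance, h2⟩

end Groth.Agent.Lib.Helper4.PE
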