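import Mathlib
import Groth.Prelude.Def_ProEtS
import Groth.Prelude.Def_PBC
import Groth.Agent.Lib.Helper4.PE8

/-!
# Disjoint open covers are coproducts in the small pro-étale site
-/

set_option autoImplicit false
set_option linter.style.haveILetI false
set_option linter.unusedSectionVars false
universe u

namespace Groth.Agent.Lib.Helper4.PE

open CategoryTheory CategoryTheory.Limits AlgebraicGeometry Opposite

variable {X : Scheme.{u}}

/-- Gluing morphisms out of a pairwise disjoint open cover of an object. -/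
theorem existsUnique_desc {U : X.ProEt} {ι : Type*} (W : ι → U.left.Opens)
    (hdisj : ∀ k l, k ≠ l → Disjoint (W k : Set U.left) (W l))
    (hcov : (⋃ k, (W k : Set U.left)) = Set.univ) (T : X.ProEt)
    (m : ∀ k, opn U (W k) ⟶ T) :
    ∃! f : U ⟶ T, ∀ k, opnι U (W k) ≫ f = m k := by
  classical
  have hcov' : TopologicalSpace.IsOpenCover W := by
    apply TopologicalSpace.Opens.ext
    rw [TopologicalSpace.Opens.coe_iSup, hcov]
    rfl
  let 𝒰 : U.left.OpenCover := U.left.openCoverOfIsOpenCover W hcov'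
  have hf : ∀ k l, pullback.fst (𝒰.f k) (𝒰.f l) ≫ (m k).left =
      pullback.snd (𝒰.f k) (𝒰.f l) ≫ (m l).left := by
    intro k l
    by_cases hkl : k = l
    · subst hkl
      have h1 : pullback.fst (𝒰.f k) (𝒰.f k) = pullback.snd (𝒰.f k) (𝒰.f k) := by
        rw [← cancel_mono (𝒰.f k)]
        exact pullback.condition
      rw [h1]
    · haveI : IsEmpty ↑(pullback (𝒰.f k) (𝒰.f l)) := by
        refine ⟨fun z => ?_⟩
        have h3 : pullback.fst (𝒰.f k) (𝒰.f l) ≫ (W k).ι =
            pullback.snd (𝒰.f k) (𝒰.f l) ≫ (W l).ι := pullback.condition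
        have h4 : ((pullback.fst (𝒰.f k) (𝒰.f l) ≫ (W k).ι).base z) ∈ (W k : Set U.left) := by
          rw [Scheme.Hom.comp_apply]
          exact ((pullback.fst (𝒰.f k) (𝒰.f l)).base z).2
        have h5 : ((pullback.fst (𝒰.f k) (𝒰.f l) ≫ (W k).ι).base z) ∈ (W l : Set U.left) := by
          rw [h3, Scheme.Hom.comp_apply]
          exact ((pullback.snd (𝒰.f k) (𝒰.f l)).base z).2
        exact (Set.disjoint_iff.mp (hdisj k l hkl)) ⟨h4, h5⟩
      exact isInitialOfIsEmpty.hom_ext _ _
  let f₀ : U.left ⟶ T.left := 𝒰.glueMorphisms (fun k => (m k).left) hf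
  have hf₀ : ∀ k, (W k).ι ≫ f₀ = (m k).left := fun k => 𝒰.ι_glueMorphisms _ hf k
  have hw : f₀ ≫ T.hom = U.hom := by
    refine 𝒰.hom_ext _ _ (fun k => ?_)
    change (W k).ι ≫ f₀ ≫ T.hom = (W k).ι ≫ U.hom
    rw [reassoc_of% (hf₀ k)]
    exact MorphismProperty.Over.w (m k)
  refine ⟨MorphismProperty.Over.homMk f₀ hw, fun k => ?_, fun f' hf' => ?_⟩
  · apply MorphismProperty.Over.Hom.ext
    exact hf₀ k
  · apply MorphismProperty.Over.Hom.ext
    change f'.left = f₀
    refine 𝒰.hom_ext _ _ (fun k => ?_)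
    change (W k).ι ≫ f'.left = (W k).ι ≫ f₀
    rw [hf₀ k]
    have := congrArg (fun g => g.left) (hf' k)
    exact this

/-- A presheaf of types preserving finite products turns finite disjoint open covers into
products. -/
theorem existsUnique_section_of_preservesFiniteProducts (F : X.ProEtᵒᵖ ⥤ Type (u + 1))
    [PreservesFiniteProducts F] {U : X.ProEt} {n : ℕ} (W : Fin n → U.left.Opens)
    (hdisj : ∀ k l, k ≠ l → Disjoint (W k : Set U.left) (W l))
    (hcov : (⋃ k, (W k : Set U.left)) = Set.univ)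
    (t : ∀ k, F.obj (op (opn U (W k)))) :
    ∃! s : F.obj (op U), ∀ k, F.map (opnι U (W k)).op s = t k := by
  let fan : Fan (fun k : Fin n => op (opn U (W k))) :=
    Fan.mk (op U) (fun k => (opnι U (W k)).op)
  have hlim : IsLimit fan := by
    refine Fan.IsLimit.mk fan
      (fun s => ((existsUnique_desc W hdisj hcov s.pt.unop (fun k => (s.proj k).unop)).choose).op)
      (fun s k => ?_) (fun s m' hm' => ?_)
    · have h1 := (existsUnique_desc W hdisj hcov s.pt.unop
        (fun k => (s.proj k).unop)).choose_spec.1 k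
      apply Quiver.Hom.unop_inj
      exact h1
    · have h2 := (existsUnique_desc W hdisj hcov s.pt.unop
        (fun k => (s.proj k).unop)).choose_spec.2 m'.unop (fun k => by
          have := congrArg Quiver.Hom.unop (hm' k)
          exact this)
      apply Quiver.Hom.unop_inj
      exact h2
  haveI : PreservesLimitsOfShape (Discrete (Fin n)) F := PreservesFiniteProducts.preserves n
  have hlim' : IsLimit (F.mapCone fan) := isLimitOfPreserves F hlim
  have h3 := (Types.isLimit_iff (F.mapCone fan)).mp ⟨hlim'⟩ (fun j => t j.as) (by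
    rintro ⟨j⟩ ⟨j'⟩ f
    obtain ⟨⟨h⟩⟩ := f
    dsimp at h
    subst h
    simp)
  obtain ⟨s, hs, hsu⟩ := h3
  refine ⟨s, fun k => hs ⟨k⟩, fun s' hs' => hsu s' (fun j => hs' j.as)⟩

end Groth.Agent.Lib.Helper4.PE
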