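import Mathlib
import Groth.Prelude.Def_ProEtS
import Groth.Agent.Lib.Helper4.PE9
import Groth.Agent.Lib.Helper4.PE8

/-!
# Sheafification does not change sections over weakly contractible affines, for presheaves
satisfying gluing over finite clopen partitions
-/

set_option autoImplicit false
set_option linter.style.haveILetI false
set_option linter.unusedSectionVars false
universe u

namespace Groth.Agent.Lib.Helper4.PEGlue

open CategoryTheory CategoryTheory.Limits AlgebraicGeometry Opposite Groth.Agent.Lib.Helper4.PE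

variable {X : Scheme.{u}}

/-- unique gluing of sections of a presheaf of types over finite clopen partitions of `W` -/
def GlueT (F : X.ProEtᵒᵖ ⥤ Type (u + 1)) (W : X.ProEt) : Prop :=
  ∀ (n : ℕ) (V : Fin n → W.left.Opens), (∀ k, IsClopen (V k : Set W.left)) →
    (∀ k l, k ≠ l → Disjoint (V k : Set W.left) (V l)) →
    (⋃ k, (V k : Set W.left)) = Set.univ →
    ∀ t : ∀ k, F.obj (op (opn W (V k))), ∃! s : F.obj (op W), ∀ k, F.map (opnι W (V k)).op s = t k

theorem toSheafify_bijective_of_glueT (F : X.ProEtᵒᵖ ⥤ Type (u + 1)) (W : X.ProEt)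
    [IsAffine W.left] (hW : ProEtS.IsWC W) (hglue : GlueT F W) :
    Function.Bijective ((toSheafify (Scheme.ProEt.topology X) F).app (op W)) := by
  have hpart : PartitionProp W :=
    partitionProp_of_isWContractible W (isWContractible_of_isWC W hW)
  let J := Scheme.ProEt.topology X
  let η := toSheafify J F
  have hsheaf : Presieve.IsSheaf J (sheafify J F) :=
    (isSheaf_iff_isSheaf_of_type _ _).1 ((presheafToSheaf J _).obj F).cond
  constructor
  · intro a b hab
    have h1 : Presheaf.equalizerSieve (F := F) (X := op W) a b ∈ J W :=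
      Presheaf.equalizerSieve_mem J η a b hab
    obtain ⟨n, V, hcl, hdisj, hcov, hmem⟩ := hpart _ h1
    have hdisj' : ∀ k l, k ≠ l → Disjoint (V k : Set W.left) (V l) := fun k l hkl => hdisj hkl
    obtain ⟨s, -, hsu⟩ := hglue n V hcl hdisj' hcov (fun k => F.map (opnι W (V k)).op a)
    rw [hsu a (fun k => rfl), hsu b (fun k => (hmem k).symm)]
  · intro s
    have h1 : Presheaf.imageSieve η s ∈ J W :=
      Presheaf.imageSieve_mem J η (U := op W) s
    obtain ⟨n, V, hcl, hdisj, hcov, hmem⟩ := hpart _ h1
    have hdisj' : ∀ k l, k ≠ l → Disjoint (V k : Set W.left) (V l) := fun k l hkl => hdisj hkl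
    choose t ht using hmem
    obtain ⟨t0, ht0, -⟩ := hglue n V hcl hdisj' hcov t
    refine ⟨t0, ?_⟩
    have h2 := (hsheaf.isSheafFor _ (ofArrows_opn_mem V hcov)).isSeparatedFor
    refine h2.ext ?_
    rintro Y f ⟨k⟩
    have h3 := NatTrans.naturality_apply η (opnι W (V k)).op t0
    rw [← h3, ht0 k]
    exact ht k

end Groth.Agent.Lib.Helper4.PEGlue
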