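import Mathlib
import Groth.Prelude.Def_ProEtS
import Groth.Agent.Lib.Helper4.PEGlue1

/-!
# Sheafification does not change sections over weakly contractible affines: abelian presheaves
-/

set_option autoImplicit false
set_option linter.style.haveILetI false
set_option linter.unusedSectionVars false
universe u

namespace Groth.Agent.Lib.Helper4.PEAb

open CategoryTheory CategoryTheory.Limits AlgebraicGeometry Opposite Groth.Agent.Lib.Helper4.PE

variable {X : Scheme.{u}}

/-- unique gluing of sections of an abelian presheaf over finite clopen partitions of `W` -/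
def GlueA (F : X.ProEtᵒᵖ ⥤ AddCommGrpCat.{u + 1}) (W : X.ProEt) : Prop :=
  ∀ (n : ℕ) (V : Fin n → W.left.Opens), (∀ k, IsClopen (V k : Set W.left)) →
    (∀ k l, k ≠ l → Disjoint (V k : Set W.left) (V l)) →
    (⋃ k, (V k : Set W.left)) = Set.univ →
    ∀ t : ∀ k, F.obj (op (opn W (V k))), ∃! s : F.obj (op W), ∀ k, F.map (opnι W (V k)).op s = t k

theorem toSheafify_bijective_of_glueA (F : X.ProEtᵒᵖ ⥤ AddCommGrpCat.{u + 1}) (W : X.ProEt)
    [IsAffine W.left] (hW : ProEtS.IsWC W) (hglue : GlueA F W) :
    Function.Bijective ((toSheafify (Scheme.ProEt.topology X) F).app (op W)) := by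
  have hpart : PartitionProp W :=
    partitionProp_of_isWContractible W (isWContractible_of_isWC W hW)
  let J := Scheme.ProEt.topology X
  let η := toSheafify J F
  have hsheaf : Presieve.IsSheaf J (sheafify J F ⋙ forget AddCommGrpCat.{u + 1}) :=
    (isSheaf_iff_isSheaf_of_type _ _).1
      ((Presheaf.isSheaf_iff_isSheaf_forget J (sheafify J F) (forget _)).1
        ((presheafToSheaf J _).obj F).cond)
  constructor
  · intro a b hab
    have h1 : Presheaf.equalizerSieve (F := F) (X := op W) a b ∈ J W :=
      Presheaf.equalizerSieve_mem J η a b hab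
    obtain ⟨n, V, hcl, hdisj, hcov, hmem⟩ := hpart _ h1
    have hdisj' : ∀ k l, k ≠ l → Disjoint (V k : Set W.left) (V l) := fun k l hkl => hdisj hkl
    obtain ⟨s, -, hsu⟩ := hglue n V hcl hdisj' hcov (fun k => F.map (opnι W (V k)).op a)
    rw [hsu a (fun k => rfl), hsu b (fun k => (hmem k).symm)]
  · intro s
    have h1 : Presheaf.imageSieve η s ∈ J W :=
      Presheaf.imageSieve_mem J η (U := op W) s
    obtain ⟨n, V, hcl, hdisj, hcov, hmem⟩ := hpart _ h1
    have hdisj' : ∀ k l, k ≠ l → Disjoint (V k : Set W.left) (V l) := fun k l hkl => hdisj hkl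
    choose t ht using hmem
    obtain ⟨t0, ht0, -⟩ := hglue n V hcl hdisj' hcov t
    refine ⟨t0, ?_⟩
    have h2 := (hsheaf.isSheafFor _ (ofArrows_opn_mem V hcov)).isSeparatedFor
    refine h2.ext ?_
    rintro Y f ⟨k⟩
    have h3 := NatTrans.naturality_apply η (opnι W (V k)).op t0
    change (sheafify J F).map (opnι W (V k)).op (η.app (op W) t0) =
      (sheafify J F).map (opnι W (V k)).op s
    rw [← h3, ht0 k]
    exact ht k

end Groth.Agent.Lib.Helper4.PEAb
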