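import Mathlib
import Groth.Prelude.Def_ProEtS

/-!
# Continuity of the site functors of the small pro-étale site
-/

set_option autoImplicit false
set_option linter.style.haveILetI false
set_option linter.unusedSectionVars false
universe u

namespace Groth.Agent.Lib.Helper4.PECont

open CategoryTheory CategoryTheory.Limits AlgebraicGeometry Opposite

variable {X Y : Scheme.{u}} (f : X ⟶ Y)

instance stab (Y : Scheme.{u}) : (Scheme.ProEt.precoverage Y).IsStableUnderBaseChange :=
  inferInstanceAs (Scheme.proetalePrecoverage.comap
    (Scheme.ProEt.forget Y ⋙ Over.forget Y)).IsStableUnderBaseChange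

set_option backward.isDefEq.respectTransparency.types false in
noncomputable instance preservesFiniteLimits_bcP : PreservesFiniteLimits (ProEtS.bcP f) := by
  have h : PreservesFiniteLimits (ProEtS.bcP f ⋙ Scheme.ProEt.forget X) := by
    let e : ProEtS.bcP f ⋙ Scheme.ProEt.forget X ≅ Scheme.ProEt.forget Y ⋙ Over.pullback f :=
      MorphismProperty.Over.pullbackCompForgetIso (P := @WeaklyEtale) (Q := ⊤) f
    exact preservesFiniteLimits_of_natIso e.symm
  exact preservesFiniteLimits_of_reflects_of_preserves (ProEtS.bcP f) (Scheme.ProEt.forget X)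

set_option backward.isDefEq.respectTransparency.types false in
/-- For `g : V ⟶ U` in `Y.ProEt`, the square with corners `V ×_Y X, U ×_Y X, V, U` is cartesian. -/
theorem isPullback_bcP_map {U V : Y.ProEt} (g : V ⟶ U) :
    IsPullback ((ProEtS.bcP f).map g).left
      (pullback.fst V.hom f : ((ProEtS.bcP f).obj V).left ⟶ V.left)
      (pullback.fst U.hom f : ((ProEtS.bcP f).obj U).left ⟶ U.left) g.left := by
  have e1 : ((ProEtS.bcP f).map g).left ≫ pullback.snd U.hom f = pullback.snd V.hom f := by
    dsimp [ProEtS.bcP]
    exact pullback.lift_snd _ _ _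
  have e2 : g.left ≫ U.hom = V.hom := Over.w g.hom
  refine IsPullback.of_right (h₁₂ := pullback.snd U.hom f) (v₁₃ := f) (h₂₂ := U.hom) ?_ ?_
    (IsPullback.of_hasPullback U.hom f).flip
  · exact (congrArg₂ (fun a d => IsPullback a (pullback.fst V.hom f) f d) e1 e2).mpr
      (IsPullback.of_hasPullback V.hom f).flip
  · dsimp [ProEtS.bcP]
    exact pullback.lift_fst _ _ _

set_option backward.isDefEq.respectTransparency.types false in
theorem precoverage_le_comap_bcP :
    Scheme.ProEt.precoverage Y ≤ (Scheme.ProEt.precoverage X).comap (ProEtS.bcP f) := by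
  intro U R hR
  obtain ⟨ι, V, g, rfl⟩ := R.exists_eq_ofArrows
  change (Presieve.ofArrows V g).map (Scheme.ProEt.forget Y ⋙ Over.forget Y) ∈
    Scheme.proetalePrecoverage U.left at hR
  rw [Presieve.map_ofArrows] at hR
  change ((Presieve.ofArrows V g).map (ProEtS.bcP f)).map
    (Scheme.ProEt.forget X ⋙ Over.forget X) ∈
    Scheme.proetalePrecoverage ((ProEtS.bcP f).obj U).left
  rw [Presieve.map_ofArrows, Presieve.map_ofArrows]
  exact Precoverage.mem_coverings_of_isPullback (fun i => (g i).left) hR
    (pullback.fst U.hom f) (fun i => ((ProEtS.bcP f).map (g i)).left)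
    (fun i => pullback.fst (V i).hom f) (fun i => isPullback_bcP_map f (g i))

set_option backward.isDefEq.respectTransparency.types false in
theorem pCont : ProEtS.PCont f :=
  Functor.isContinuous_toGrothendieck_of_pullbacksPreservedBy (ProEtS.bcP f)
    (Scheme.ProEt.precoverage Y) (Scheme.ProEt.precoverage X) (precoverage_le_comap_bcP f)

end Groth.Agent.Lib.Helper4.PECont

namespace Groth.Agent.Lib.Helper4.PECont

open CategoryTheory CategoryTheory.Limits AlgebraicGeometry Opposite

variable (X : Scheme.{u})

set_option backward.isDefEq.respectTransparency.types false in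
noncomputable instance preservesFiniteLimits_eps : PreservesFiniteLimits (ProEtS.eps X) := by
  have h : PreservesFiniteLimits (ProEtS.eps X ⋙ Scheme.ProEt.forget X) := by
    change PreservesFiniteLimits (Scheme.Etale.forget X)
    infer_instance
  exact preservesFiniteLimits_of_reflects_of_preserves (ProEtS.eps X) (Scheme.ProEt.forget X)

noncomputable instance representablyFlat_eps : RepresentablyFlat (ProEtS.eps X) :=
  flat_of_preservesFiniteLimits _

set_option backward.isDefEq.respectTransparency.types false in
theorem coverPreserving_eps :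
    CoverPreserving X.smallEtaleTopology (Scheme.ProEt.topology X) (ProEtS.eps X) := by
  constructor
  intro U S hS
  have eX : X.smallEtaleTopology =
      (X.smallPretopology (P := EtCoh.etaleMP) (Q := EtCoh.etaleMP)).toGrothendieck :=
    Scheme.smallGrothendieckTopology_eq_toGrothendieck_smallPretopology X le_rfl
  rw [eX] at hS
  replace hS := (Scheme.mem_toGrothendieck_smallPretopology U S).1 hS
  choose V g v hg hEt hv using hS
  have hmem : Presieve.ofArrows (fun x => (ProEtS.eps X).obj (V x))
      (fun x => (ProEtS.eps X).map (g x)) ∈ Scheme.ProEt.precoverage X ((ProEtS.eps X).obj U) := by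
    change (Presieve.ofArrows (fun x => (ProEtS.eps X).obj (V x))
      (fun x => (ProEtS.eps X).map (g x))).map (Scheme.ProEt.forget X ⋙ Over.forget X) ∈
      Scheme.proetalePrecoverage U.left
    rw [Presieve.map_ofArrows]
    apply Scheme.etalePrecoverage_le_proetalePrecoverage
    change Presieve.ofArrows (fun x => (V x).left) (fun x => (g x).left) ∈
      Scheme.precoverage @Etale U.left
    rw [Scheme.ofArrows_mem_precoverage_iff]
    exact ⟨fun x => ⟨x, v x, hv x⟩, fun x => hEt x⟩
  refine (Scheme.ProEt.topology X).superset_covering ?_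
    (Precoverage.generate_mem_toGrothendieck hmem)
  rw [Sieve.generate_le_iff]
  rintro _ _ ⟨x⟩
  exact Sieve.image_mem_functorPushforward _ _ (hg x)

theorem epsCont : ProEtS.EpsCont X :=
  Functor.isContinuous_of_coverPreserving (compatiblePreservingOfFlat _ _) (coverPreserving_eps X)

end Groth.Agent.Lib.Helper4.PECont
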