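import Mathlib
import Groth.Prelude.Def_ProEtS
import Groth.Agent.Lib.Helper4.PEps1
import Groth.Agent.Lib.Helper4.PEAb1
import Groth.Agent.Lib.Helper4.PE5
import Groth.Agent.Lib.Lead.EtaleCoprod

/-!
# Finite coproducts in the small étale site and gluing for the Kan extension
-/

set_option autoImplicit false
set_option linter.style.haveILetI false
set_option linter.unusedSectionVars false
universe u

namespace Groth.Agent.Lib.Helper4.PEps

open CategoryTheory CategoryTheory.Limits AlgebraicGeometry Opposite Groth.Agent.Lib.Helper4.PE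

variable {X : Scheme.{u}}

set_option backward.isDefEq.respectTransparency.types false in
set_option maxHeartbeats 1000000 in
/-- coproducts in the small étale site, in the form needed below -/
theorem exists_coprodE {n : ℕ} (T : Fin n → X.Etale) :
    ∃ (S : X.Etale) (i : ∀ k, T k ⟶ S),
      (∀ (S' : X.Etale) (p : ∀ k, T k ⟶ S'), ∃ q : S ⟶ S', ∀ k, i k ≫ q = p k) ∧
      (∀ (F : EtCoh.Ab X) (s : ∀ k, F.obj.obj (op (T k))),
        ∃ t : F.obj.obj (op S), ∀ k, F.obj.map (i k).op t = s k) ∧
      (∀ (F : EtCoh.Ab X) (t t' : F.obj.obj (op S)),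
        (∀ k, F.obj.map (i k).op t = F.obj.map (i k).op t') → t = t') := by
  classical
  let g : Fin n → Scheme.{u} := fun k => (T k).left
  let h : (∐ g) ⟶ X := Sigma.desc (fun k => (T k).hom)
  haveI hh : Etale h :=
    IsZariskiLocalAtSource.sigmaDesc (P := @Etale) (fun k => (T k).prop)
  let S : X.Etale := Scheme.Etale.mk h
  have hι : ∀ k, Sigma.ι g k ≫ h = (T k).hom := fun k => Sigma.ι_desc _ _
  let i : ∀ k, T k ⟶ S := fun k => MorphismProperty.Over.homMk (Sigma.ι g k) (hι k)
  have hcov : Sieve.ofArrows _ i ∈ X.smallEtaleTopology S := by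
    rw [Scheme.ofArrows_mem_smallEtaleTopology_iff]
    ext w
    simp only [Set.mem_iUnion, Set.mem_range, Set.mem_univ, iff_true]
    obtain ⟨k, y, hy⟩ := (sigmaOpenCover g).exists_eq w
    exact ⟨k, y, hy⟩
  have hbij : ∀ F : EtCoh.Ab X,
      Function.Bijective (fun s : F.obj.obj (op S) => fun k : Fin n => F.obj.map (i k).op s) := by
    intro F
    have hP : Presieve.IsSheaf X.smallEtaleTopology (F.obj ⋙ forget AddCommGrpCat.{u + 1}) :=
      (isSheaf_iff_isSheaf_of_type _ _).1
        ((Presheaf.isSheaf_iff_isSheaf_forget _ F.obj (forget _)).1 F.cond)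
    have hsh := hP _ hcov
    rw [Sieve.ofArrows, ← Presieve.isSheafFor_iff_generate, Presieve.isSheafFor_arrows_iff] at hsh
    have hcompat : ∀ x : (k : Fin n) → F.obj.obj (op (T k)),
        Presieve.Arrows.Compatible (F.obj ⋙ forget AddCommGrpCat.{u + 1}) i x := by
      intro x k k' Z a b hab
      have hab' : a.left ≫ Sigma.ι g k = b.left ≫ Sigma.ι g k' :=
        congrArg (fun m => m.left) hab
      by_cases hk : k = k'
      · subst hk
        rw [cancel_mono] at hab'
        have : a = b := MorphismProperty.Over.Hom.ext hab'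
        rw [this]
      · have : IsEmpty Z.left := isEmpty_of_commSq_sigmaι_of_ne ⟨hab'⟩ hk
        have := Groth.Agent.Lib.Lead.EtaleCoprod.subsingleton_of_isEmpty _ hP Z
        exact Subsingleton.elim _ _
    constructor
    · intro s s' hss
      obtain ⟨t, _, ht⟩ := hsh _ (hcompat (fun k => F.obj.map (i k).op s))
      rw [ht s (fun _ => rfl), ht s' (fun k => (congrFun hss k).symm)]
    · intro x
      obtain ⟨t, ht, _⟩ := hsh x (hcompat x)
      exact ⟨t, funext ht⟩
  refine ⟨S, i, ?_, ?_, ?_⟩
  · intro S' p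
    refine ⟨MorphismProperty.Over.homMk (Sigma.desc (fun k => (p k).left)) ?_, fun k => ?_⟩
    · apply Sigma.hom_ext
      intro k
      have h1 : Sigma.ι g k ≫ Sigma.desc (fun k => (p k).left) = (p k).left := Sigma.ι_desc _ _
      calc Sigma.ι g k ≫ Sigma.desc (fun k => (p k).left) ≫ S'.hom
          = (Sigma.ι g k ≫ Sigma.desc (fun k => (p k).left)) ≫ S'.hom :=
            (Category.assoc _ _ _).symm
        _ = (p k).left ≫ S'.hom := congrArg (fun m => m ≫ S'.hom) h1
        _ = (T k).hom := MorphismProperty.Over.w (p k)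
        _ = Sigma.ι g k ≫ h := (hι k).symm
    · apply MorphismProperty.Over.Hom.ext
      change Sigma.ι g k ≫ Sigma.desc (fun k => (p k).left) = (p k).left
      exact Sigma.ι_desc _ _
  · intro F s
    obtain ⟨t, ht⟩ := (hbij F).2 s
    exact ⟨t, fun k => congrFun ht k⟩
  · intro F t t' htt
    exact (hbij F).1 (funext htt)

end Groth.Agent.Lib.Helper4.PEps
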