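import Mathlib
import Groth.Prelude.Def_ProEtS
import Groth.Agent.Lib.Helper4.PEps2
import Groth.Agent.Lib.Helper4.PE9

/-!
# The Kan extension of an étale sheaf to the pro-étale site glues over finite clopen partitions
-/

set_option autoImplicit false
set_option linter.style.haveILetI false
set_option linter.unusedSectionVars false
universe u

namespace Groth.Agent.Lib.Helper4.PEps

open CategoryTheory CategoryTheory.Limits AlgebraicGeometry Opposite Groth.Agent.Lib.Helper4.PE

variable {X : Scheme.{u}}

set_option maxHeartbeats 1000000 in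
theorem glueA_lanE (F : EtCoh.Ab X) (V : X.ProEt) : PEAb.GlueA (P F.obj) V := by
  intro n O hcl hdisj hcov x
  choose T a s hx using fun k => exists_rep F.obj (x k)
  obtain ⟨S, i, hdesc, hglue, hsep⟩ := exists_coprodE T
  obtain ⟨b, hb, -⟩ := existsUnique_desc O hdisj hcov ((ProEtS.eps X).obj S)
    (fun k => a k ≫ (ProEtS.eps X).map (i k))
  obtain ⟨t, ht⟩ := hglue F s
  have ht' : ∀ k, F.obj.map (i k).op t = s k := ht
  refine ⟨rep F.obj S b t, fun k => ?_, ?_⟩
  · rw [rep_map, hb k, rep_comp, ht' k, hx k]
  · intro y hy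
    obtain ⟨T', a', s', rfl⟩ := exists_rep F.obj y
    -- the restrictions agree
    have h1 : ∀ k, rep F.obj T' (opnι V (O k) ≫ a') s' =
        rep F.obj S (opnι V (O k) ≫ b) t := by
      intro k
      rw [← rep_map, hy k, ← rep_map]
      rw [rep_map, hb k, rep_comp, ht' k, hx k]
    choose T'' c p p' hp hp' hs using fun k => (rep_eq_iff F.obj _ _ _ _ _ _).mp (h1 k)
    obtain ⟨S'', i'', hdesc'', hglue'', hsep''⟩ := exists_coprodE T''
    obtain ⟨q, hq⟩ := hdesc'' T' p
    obtain ⟨q', hq'⟩ := hdesc'' S p'
    obtain ⟨d, hd, hdu⟩ := existsUnique_desc O hdisj hcov ((ProEtS.eps X).obj S'')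
      (fun k => c k ≫ (ProEtS.eps X).map (i'' k))
    -- uniqueness of descent to identify the two maps
    have e1 : d ≫ (ProEtS.eps X).map q = a' := by
      obtain ⟨m, -, hmu⟩ := existsUnique_desc O hdisj hcov ((ProEtS.eps X).obj T')
        (fun k => opnι V (O k) ≫ a')
      rw [hmu a' (fun k => rfl)]
      apply hmu
      intro k
      rw [← Category.assoc, hd k, Category.assoc, ← Functor.map_comp, hq k, hp k]
    have e2 : d ≫ (ProEtS.eps X).map q' = b := by
      obtain ⟨m, -, hmu⟩ := existsUnique_desc O hdisj hcov ((ProEtS.eps X).obj S)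
        (fun k => opnι V (O k) ≫ b)
      rw [hmu b (fun k => rfl)]
      apply hmu
      intro k
      rw [← Category.assoc, hd k, Category.assoc, ← Functor.map_comp, hq' k, hp' k]
    have e3 : F.obj.map q.op s' = F.obj.map q'.op t := by
      apply hsep'' F
      intro k
      change (F.obj.map q.op ≫ F.obj.map (i'' k).op) s' = (F.obj.map q'.op ≫ F.obj.map (i'' k).op) t
      rw [← Functor.map_comp, ← Functor.map_comp, ← op_comp, ← op_comp, hq k, hq' k]
      exact hs k
    rw [← e1, ← e2, rep_comp, rep_comp, e3]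


/-- sections of `ε⁻¹F` (as `sheafify (Lan F)`) over a weakly contractible affine `V` are the
sections of the presheaf pullback -/
theorem toSheafify_lanE_bijective (F : EtCoh.Ab X) (V : X.ProEt) [IsAffine V.left]
    (hV : ProEtS.IsWC V) :
    Function.Bijective ((toSheafify (Scheme.ProEt.topology X) (P F.obj)).app (op V)) :=
  PEAb.toSheafify_bijective_of_glueA _ V hV (glueA_lanE F V)

end Groth.Agent.Lib.Helper4.PEps
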