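import Mathlib
import Groth.Prelude.Def_ProEtS
import Groth.Agent.Lib.Helper4.PEps3

/-!
# The unit `F → ε_* ε⁻¹ F` via the constructed adjunction; injectivity
-/

set_option autoImplicit false
set_option linter.style.haveILetI false
set_option linter.unusedSectionVars false
universe u

namespace Groth.Agent.Lib.Helper4.PEps

open CategoryTheory CategoryTheory.Limits AlgebraicGeometry Opposite Groth.Agent.Lib.Helper4.PE

variable (X : Scheme.{u})

/-- the constructed adjunction -/
noncomputable abbrev adjE' [ProEtS.EpsCont X] :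
    Functor.sheafPullbackConstruction.sheafPullback (ProEtS.eps X) AddCommGrpCat.{u + 1}
      X.smallEtaleTopology (Scheme.ProEt.topology X) ⊣ ProEtS.epsPush X :=
  Functor.sheafPullbackConstruction.sheafAdjunctionContinuous (ProEtS.eps X) AddCommGrpCat.{u + 1}
    X.smallEtaleTopology (Scheme.ProEt.topology X)

variable {X}

theorem unitE'_hom [ProEtS.EpsCont X] (F : EtCoh.Ab X) : ((adjE' X).unit.app F).hom =
    (ProEtS.eps X).op.lanUnit.app F.obj ≫
      Functor.whiskerLeft (ProEtS.eps X).op
        (toSheafify (Scheme.ProEt.topology X) ((ProEtS.eps X).op.lan.obj F.obj)) := by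
  have h := Adjunction.map_restrictFullyFaithful_unit_app
    (L := Functor.sheafPullbackConstruction.sheafPullback (ProEtS.eps X) AddCommGrpCat.{u + 1}
    X.smallEtaleTopology (Scheme.ProEt.topology X)) (R := ProEtS.epsPush X)
    (adj := ((ProEtS.eps X).op.lanAdjunction AddCommGrpCat.{u + 1}).comp
      (sheafificationAdjunction (Scheme.ProEt.topology X) AddCommGrpCat.{u + 1}))
    (hiC := fullyFaithfulSheafToPresheaf X.smallEtaleTopology AddCommGrpCat.{u + 1})
    (hiD := Functor.FullyFaithful.id _) (comm1 := Iso.refl _) (comm2 := Iso.refl _) F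
  simp at h
  exact h

/-- the unit of the constructed adjunction evaluated on a section -/
theorem unitE'_apply [ProEtS.EpsCont X] (F : EtCoh.Ab X) (U : X.Etale)
    (s : F.obj.obj (op U)) :
    ((adjE' X).unit.app F).hom.app (op U) s =
      (toSheafify (Scheme.ProEt.topology X) (P F.obj)).app (op ((ProEtS.eps X).obj U))
        (rep F.obj U (𝟙 _) s) := by
  rw [unitE'_hom]
  unfold rep
  rw [op_id, (P F.obj).map_id]
  rfl

end Groth.Agent.Lib.Helper4.PEps
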