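import Mathlib
import Groth.Prelude.Def_ProEtS
import Groth.Agent.Lib.Helper4.PEps4
import Groth.Agent.Lib.Helper4.PE7

/-!
# Injectivity of the unit `F → ε_* ε⁻¹ F`
-/

set_option autoImplicit false
set_option linter.style.haveILetI false
set_option linter.unusedSectionVars false
universe u

namespace Groth.Agent.Lib.Helper4.PEps

open CategoryTheory CategoryTheory.Limits AlgebraicGeometry Opposite Groth.Agent.Lib.Helper4.PE

variable {X : Scheme.{u}}

/-- covering sieves of the pro-étale topology are jointly surjective -/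
theorem exists_mem_range_of_mem {U : X.ProEt} (R : Sieve U)
    (hR : R ∈ Scheme.ProEt.topology X U) (x : U.left) :
    ∃ (T : X.ProEt) (h : T ⟶ U), R.arrows h ∧ x ∈ Set.range h.left.base := by
  obtain ⟨_, ⟨O₀, hO, rfl⟩, hxO, -⟩ := U.left.isBasis_affineOpens.exists_subset_of_mem_open
    (Set.mem_univ x) isOpen_univ
  let O : U.left.Opens := O₀
  haveI : IsAffine (opn U O).left := hO
  obtain ⟨ι, hι, W', g, haff, hmem, hsurj⟩ := refines_of_mem R hR (opn U O) (opnι U O)
  have hx' : x ∈ Set.range O.ι.base := by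
    rw [Scheme.Opens.range_ι]
    exact hxO
  obtain ⟨y, hy⟩ := hx'
  obtain ⟨k, z, hz⟩ := hsurj y
  refine ⟨W' k, g k ≫ opnι U O, hmem k, z, ?_⟩
  change (g k ≫ opnι U O).left.base z = x
  have h1 : (g k ≫ opnι U O).left = (g k).left ≫ O.ι := rfl
  rw [h1, Scheme.Hom.comp_apply]
  erw [hz, hy]

/-- the sieve of morphisms killing a section -/
def killSieve (F : EtCoh.Ab X) {U : X.Etale} (s : F.obj.obj (op U)) : Sieve U where
  arrows _ q := F.obj.map q.op s = 0
  downward_closed {Y Z} f hf g := by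
    rw [op_comp, Functor.map_comp]
    change F.obj.map g.op (F.obj.map f.op s) = 0
    rw [hf, map_zero]

theorem eq_zero_of_killSieve_mem (F : EtCoh.Ab X) {U : X.Etale} (s : F.obj.obj (op U))
    (h : killSieve F s ∈ X.smallEtaleTopology U) : s = 0 := by
  have hP : Presieve.IsSheaf X.smallEtaleTopology (F.obj ⋙ forget AddCommGrpCat.{u + 1}) :=
    (isSheaf_iff_isSheaf_of_type _ _).1
      ((Presheaf.isSheaf_iff_isSheaf_forget _ F.obj (forget _)).1 F.property)
  refine (hP _ h).isSeparatedFor.ext ?_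
  intro Y f hf
  change F.obj.map f.op s = F.obj.map f.op 0
  rw [map_zero]
  exact hf

set_option maxHeartbeats 1000000 in
theorem unitE'_injective [ProEtS.EpsCont X] (F : EtCoh.Ab X) (U : X.Etale) :
    Function.Injective (((adjE' X).unit.app F).hom.app (op U)) := by
  rw [injective_iff_map_eq_zero]
  intro s hs
  rw [unitE'_apply] at hs
  let J := Scheme.ProEt.topology X
  have h0 : (toSheafify J (P F.obj)).app (op ((ProEtS.eps X).obj U)) (rep F.obj U (𝟙 _) s) =
      (toSheafify J (P F.obj)).app (op ((ProEtS.eps X).obj U)) 0 :=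
    hs.trans (map_zero _).symm
  have h1 : Presheaf.equalizerSieve (F := P F.obj) (X := op ((ProEtS.eps X).obj U))
      (rep F.obj U (𝟙 _) s) 0 ∈ J ((ProEtS.eps X).obj U) :=
    Presheaf.equalizerSieve_mem J (toSheafify J (P F.obj)) _ _ h0
  apply eq_zero_of_killSieve_mem F s
  have key : ∀ x : U.left, ∃ (T : X.Etale) (p : T ⟶ U), F.obj.map p.op s = 0 ∧
      x ∈ Set.range p.left.base := by
    intro x
    obtain ⟨T, h, hmem, hx⟩ := exists_mem_range_of_mem _ h1 x
    have h2 : (P F.obj).map h.op (rep F.obj U (𝟙 _) s) = (P F.obj).map h.op 0 := hmem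
    rw [rep_map, map_zero, rep_eq_zero_iff] at h2
    obtain ⟨T'', b, p, hbp, hp⟩ := h2
    refine ⟨T'', p, hp, ?_⟩
    obtain ⟨y, hy⟩ := hx
    refine ⟨b.left.base y, ?_⟩
    have h3 : b.left ≫ p.left = h.left := by
      have h4 : (b ≫ (ProEtS.eps X).map p).left = (h ≫ 𝟙 _).left := congrArg (fun m => m.left) hbp
      rw [Category.comp_id] at h4
      exact h4
    rw [← hy, ← h3]
    rfl
  choose T p hp hx using key
  have hcov : Sieve.ofArrows T p ∈ X.smallEtaleTopology U := by
    rw [Scheme.ofArrows_mem_smallEtaleTopology_iff]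
    ext x
    simp only [Set.mem_iUnion, Set.mem_univ, iff_true]
    exact ⟨x, hx x⟩
  refine X.smallEtaleTopology.superset_covering ?_ hcov
  rintro Y _ ⟨Z, a, _, ⟨x⟩, rfl⟩
  exact (killSieve F s).downward_closed (hp x) a

end Groth.Agent.Lib.Helper4.PEps
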