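import Mathlib
import Groth.Prelude.Def_ProEtS
import Groth.Agent.Lib.Helper4.PEps5

/-!
# A section of an étale sheaf dying on a pro-étale object dies on an open neighbourhood of its image
-/

set_option autoImplicit false
set_option linter.style.haveILetI false
set_option linter.unusedSectionVars false
universe u

namespace Groth.Agent.Lib.Helper4.PEps

open CategoryTheory CategoryTheory.Limits AlgebraicGeometry Opposite Groth.Agent.Lib.Helper4.PE

variable {X : Scheme.{u}}

/-- an open subscheme of an étale object, as an étale object -/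
noncomputable abbrev opnE (T : X.Etale) (O : T.left.Opens) : X.Etale :=
  haveI : Etale T.hom := T.prop
  Scheme.Etale.mk (O.ι ≫ T.hom)

/-- the inclusion -/
noncomputable abbrev opnEι (T : X.Etale) (O : T.left.Opens) : opnE T O ⟶ T :=
  MorphismProperty.Over.homMk O.ι

set_option maxHeartbeats 1000000 in
theorem exists_open_kill (F : EtCoh.Ab X) {V : X.ProEt} [IsAffine V.left]
    {T : X.Etale} (π : V ⟶ (ProEtS.eps X).obj T) (s : F.obj.obj (op T))
    (hs : (toSheafify (Scheme.ProEt.topology X) (P F.obj)).app (op V) (rep F.obj T π s) = 0) :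
    ∃ O : T.left.Opens, (∀ v : V.left, π.left.base v ∈ O) ∧
      F.obj.map (opnEι T O).op s = 0 := by
  let J := Scheme.ProEt.topology X
  obtain ⟨V₂, g', haff, hwc, hsurj, hqc⟩ := exists_wc_over V ⊤ (isAffineOpen_top V.left)
  haveI := haff
  let c : V₂ ⟶ V := g' ≫ opnι V ⊤
  have hV₂ : ProEtS.IsWC V₂ := isWC_of_isWContractible V₂ hwc
  have h1 : (toSheafify J (P F.obj)).app (op V₂) ((P F.obj).map c.op (rep F.obj T π s)) = 0 := by
    have := NatTrans.naturality_apply (toSheafify J (P F.obj)) c.op (rep F.obj T π s)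
    rw [this, hs, map_zero]
  have h2 : (P F.obj).map c.op (rep F.obj T π s) = 0 :=
    (toSheafify_lanE_bijective F V₂ hV₂).1 (h1.trans (map_zero _).symm)
  rw [rep_map, rep_eq_zero_iff] at h2
  obtain ⟨T'', b, p, hbp, hp⟩ := h2
  have hbp' : b.left ≫ p.left = c.left ≫ π.left := congrArg (fun m => m.left) hbp
  let O : T.left.Opens := ⟨Set.range p.left.base, p.left.isOpenMap.isOpen_range⟩
  have hcsurj : ∀ v : V.left, ∃ z : V₂.left, c.left.base z = v := by
    intro v
    have hv : v ∈ Set.range (⊤ : V.left.Opens).ι.base := by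
      rw [Scheme.Opens.range_ι]
      trivial
    obtain ⟨y, hy⟩ := hv
    obtain ⟨z, hz⟩ := hsurj.surj y
    refine ⟨z, ?_⟩
    change (g'.left ≫ (⊤ : V.left.Opens).ι).base z = v
    rw [Scheme.Hom.comp_apply]
    erw [hz, hy]
  refine ⟨O, ?_, ?_⟩
  · intro v
    obtain ⟨z, rfl⟩ := hcsurj v
    refine ⟨b.left.base z, ?_⟩
    have h4 : (b.left ≫ p.left).base z = (c.left ≫ π.left).base z :=
      congrArg (fun m => m.base z) hbp'
    exact h4
  · have hrange : Set.range p.left.base ⊆ Set.range O.ι.base := by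
      rw [Scheme.Opens.range_ι]
      exact le_rfl
    let p₀ : T''.left ⟶ (O : Scheme) := IsOpenImmersion.lift O.ι p.left hrange
    have hp₀ : p₀ ≫ O.ι = p.left := IsOpenImmersion.lift_fac _ _ _
    let p' : T'' ⟶ opnE T O := MorphismProperty.Over.homMk p₀ (by
      change p₀ ≫ O.ι ≫ T.hom = T''.hom
      rw [← Category.assoc, hp₀]
      exact MorphismProperty.Over.w p)
    have hp' : p' ≫ opnEι T O = p := MorphismProperty.Over.Hom.ext hp₀
    apply eq_zero_of_killSieve_mem F
    have hcov : Sieve.ofArrows (fun _ : Unit => T'') (fun _ => p') ∈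
        X.smallEtaleTopology (opnE T O) := by
      rw [Scheme.ofArrows_mem_smallEtaleTopology_iff]
      ext w
      simp only [Set.mem_iUnion, Set.mem_univ, iff_true]
      refine ⟨(), ?_⟩
      have hw : O.ι.base w ∈ (O : Set T.left) := by
        rw [← Scheme.Opens.range_ι]
        exact ⟨w, rfl⟩
      obtain ⟨y, hy⟩ := hw
      refine ⟨y, ?_⟩
      apply O.ι.isOpenEmbedding.injective
      change O.ι.base (p₀.base y) = O.ι.base w
      rw [← Scheme.Hom.comp_apply, hp₀]
      exact hy
    refine X.smallEtaleTopology.superset_covering ?_ hcov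
    rintro Y _ ⟨Z, a, _, ⟨_⟩, rfl⟩
    apply (killSieve F _).downward_closed _ a
    change F.obj.map p'.op (F.obj.map (opnEι T O).op s) = 0
    have h3 : F.obj.map p'.op (F.obj.map (opnEι T O).op s) =
        F.obj.map (p' ≫ opnEι T O).op s := by
      rw [op_comp, Functor.map_comp]
      rfl
    rw [h3, hp']
    exact hp

end Groth.Agent.Lib.Helper4.PEps
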