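import Mathlib
import Groth.Prelude.Def_ProEtS
import Groth.Agent.Lib.Helper4.PELim1
import Groth.Agent.Lib.Helper4.PEps6

/-!
# Sections of `ε⁻¹F` over a cofiltered limit of affine objects: injectivity
-/

set_option autoImplicit false
set_option linter.style.haveILetI false
set_option linter.unusedSectionVars false
universe u

namespace Groth.Agent.Lib.Helper4.PELim

open CategoryTheory CategoryTheory.Limits AlgebraicGeometry Opposite Groth.Agent.Lib.Helper4.PE
  Groth.Agent.Lib.Helper4.PEps

variable {X : Scheme.{u}}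

/-- the underlying scheme of a pullback in `X.ProEt` -/
noncomputable def pullbackLeftIso {A B C : X.ProEt} (f : A ⟶ C) (g : B ⟶ C) :
    (pullback f g).left ≅ pullback f.left g.left :=
  PreservesPullback.iso (US X) f g

theorem pullbackLeftIso_hom_fst {A B C : X.ProEt} (f : A ⟶ C) (g : B ⟶ C) :
    (pullbackLeftIso f g).hom ≫ pullback.fst f.left g.left = (pullback.fst f g).left :=
  PreservesPullback.iso_hom_fst (US X) f g

theorem pullbackLeftIso_hom_snd {A B C : X.ProEt} (f : A ⟶ C) (g : B ⟶ C) :
    (pullbackLeftIso f g).hom ≫ pullback.snd f.left g.left = (pullback.snd f g).left :=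
  PreservesPullback.iso_hom_snd (US X) f g

theorem isAffine_pullback_left {A B C : X.ProEt} (f : A ⟶ C) (g : B ⟶ C) [IsAffine A.left]
    [IsAffine B.left] [IsAffine C.left] : IsAffine (pullback f g).left :=
  IsAffine.of_isIso (pullbackLeftIso f g).hom

theorem surjective_snd_left {A B C : X.ProEt} (f : A ⟶ C) (g : B ⟶ C) [Surjective f.left] :
    Surjective (pullback.snd f g).left := by
  rw [← pullbackLeftIso_hom_snd]
  infer_instance

theorem quasiCompact_snd_left {A B C : X.ProEt} (f : A ⟶ C) (g : B ⟶ C) [QuasiCompact f.left] :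
    QuasiCompact (pullback.snd f g).left := by
  rw [← pullbackLeftIso_hom_snd]
  infer_instance

theorem surjective_fst_left {A B C : X.ProEt} (f : A ⟶ C) (g : B ⟶ C) [Surjective g.left] :
    Surjective (pullback.fst f g).left := by
  rw [← pullbackLeftIso_hom_fst]
  infer_instance

theorem quasiCompact_fst_left {A B C : X.ProEt} (f : A ⟶ C) (g : B ⟶ C) [QuasiCompact g.left] :
    QuasiCompact (pullback.fst f g).left := by
  rw [← pullbackLeftIso_hom_fst]
  infer_instance

/-- a weakly contractible affine cover of an affine object -/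
theorem exists_wc_cover_affine (V : X.ProEt) [IsAffine V.left] :
    ∃ (W : X.ProEt) (g : W ⟶ V), IsAffine W.left ∧ ProEtS.IsWC W ∧ Surjective g.left ∧
      QuasiCompact g.left := by
  obtain ⟨V₂, g', haff, hwc, hsurj, hqc⟩ := exists_wc_over V ⊤ (isAffineOpen_top V.left)
  haveI := haff
  haveI := hsurj
  haveI := hqc
  haveI : IsIso (⊤ : V.left.Opens).ι := by
    rw [← Scheme.topIso_hom]
    infer_instance
  refine ⟨V₂, g' ≫ opnι V ⊤, haff, isWC_of_isWContractible V₂ hwc, ?_, ?_⟩
  · have h1 : Surjective (⊤ : V.left.Opens).ι := inferInstance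
    exact MorphismProperty.comp_mem @Surjective g'.left (⊤ : V.left.Opens).ι hsurj h1
  · have h1 : QuasiCompact (⊤ : V.left.Opens).ι := inferInstance
    exact MorphismProperty.comp_mem @QuasiCompact g'.left (⊤ : V.left.Opens).ι hqc h1

/-- the sheaf `ε⁻¹F` as a presheaf -/
noncomputable abbrev Q (F : EtCoh.Ab X) : X.ProEtᵒᵖ ⥤ AddCommGrpCat.{u + 1} :=
  sheafify (Scheme.ProEt.topology X) (P F.obj)

/-- the canonical map from the presheaf pullback -/
noncomputable abbrev τ (F : EtCoh.Ab X) : P F.obj ⟶ Q F :=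
  toSheafify (Scheme.ProEt.topology X) (P F.obj)

theorem τ_naturality (F : EtCoh.Ab X) {A B : X.ProEt} (f : A ⟶ B) (y : (P F.obj).obj (op B)) :
    (τ F).app (op A) ((P F.obj).map f.op y) = (Q F).map f.op ((τ F).app (op B) y) :=
  NatTrans.naturality_apply (τ F) f.op y

theorem isSheaf_Q (F : EtCoh.Ab X) :
    Presieve.IsSheaf (Scheme.ProEt.topology X) (Q F ⋙ forget AddCommGrpCat.{u + 1}) :=
  (isSheaf_iff_isSheaf_of_type _ _).1
    ((Presheaf.isSheaf_iff_isSheaf_forget _ (Q F) (forget _)).1
      ((presheafToSheaf (Scheme.ProEt.topology X) _).obj (P F.obj)).property)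

/-- sections of `ε⁻¹F` are determined on a cover given by a single morphism -/
theorem Q_ext_of_cover (F : EtCoh.Ab X) {A B : X.ProEt} (f : A ⟶ B) [Surjective f.left]
    [QuasiCompact f.left] (s t : (Q F).obj (op B)) (h : (Q F).map f.op s = (Q F).map f.op t) :
    s = t := by
  refine ((isSheaf_Q F).isSheafFor _ (singleton_mem f)).isSeparatedFor.ext ?_
  rintro Y f' ⟨⟩
  exact h

theorem Q_map_comp (F : EtCoh.Ab X) {A B C : X.ProEt} (f : A ⟶ B) (g : B ⟶ C)
    (s : (Q F).obj (op C)) : (Q F).map (f ≫ g).op s = (Q F).map f.op ((Q F).map g.op s) := by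
  rw [op_comp, Functor.map_comp]
  rfl

end Groth.Agent.Lib.Helper4.PELim
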