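import Mathlib
import Groth.Prelude.Def_ProEtS
import Groth.Agent.S0733
import Groth.Agent.S0734
import Groth.Agent.Lib.Lead.IndEtTrans
import Groth.Agent.Lib.Helper4.IndEtGen
import Groth.Agent.Lib.Helper4.PELim2
import Groth.Agent.Lib.Helper22.CechU.Bridge

/-!
# Ind-étale morphisms of affine schemes and affine objects of the pro-étale site
-/

set_option autoImplicit false
set_option linter.style.haveILetI false
set_option linter.unusedSectionVars false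
universe u

namespace Groth.Agent.Lib.Helper4.PEC

open CategoryTheory CategoryTheory.Limits AlgebraicGeometry Opposite
  Groth.Agent.Lib.Helper4.PELim Groth.Agent.Lib.Helper22.CechU
open scoped TensorProduct

/-- a morphism of schemes which is ind-étale on global sections -/
def IE {W V : Scheme.{u}} (f : W ⟶ V) : Prop :=
  @EtPBC.IsIndEtale Γ(V, ⊤) Γ(W, ⊤) _ _ f.appTop.hom.toAlgebra

theorem isIndEtale_of_etale (A B : Type u) [CommRing A] [CommRing B] [Algebra A B]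
    [Algebra.Etale A B] : EtPBC.IsIndEtale A B :=
  Groth.Agent.Lib.Helper4.IndEt.isIndEtale_of_ind A B
    (ObjectProperty.le_ind _ _ (Groth.Agent.Lib.Helper4.IndEt.pet_mkU A B))

theorem IE_of_etale {W V : Scheme.{u}} [IsAffine W] [IsAffine V] (f : W ⟶ V) [Etale f] : IE f := by
  have h1 : f.appTop.hom.Etale := (HasRingHomProperty.iff_of_isAffine (P := @Etale)).mp ‹_›
  letI := f.appTop.hom.toAlgebra
  haveI : Algebra.Etale Γ(V, ⊤) Γ(W, ⊤) := h1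
  exact isIndEtale_of_etale _ _

theorem IE_comp {W V U : Scheme.{u}} (f : W ⟶ V) (g : V ⟶ U) (hf : IE f) (hg : IE g) :
    IE (f ≫ g) := by
  letI a1 : Algebra Γ(U, ⊤) Γ(V, ⊤) := g.appTop.hom.toAlgebra
  letI a2 : Algebra Γ(V, ⊤) Γ(W, ⊤) := f.appTop.hom.toAlgebra
  letI a3 : Algebra Γ(U, ⊤) Γ(W, ⊤) := (f ≫ g).appTop.hom.toAlgebra
  haveI : IsScalarTower Γ(U, ⊤) Γ(V, ⊤) Γ(W, ⊤) := IsScalarTower.of_algebraMap_eq (fun a => by
    change (f ≫ g).appTop.hom a = f.appTop.hom (g.appTop.hom a)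
    rw [Scheme.Hom.comp_appTop]
    rfl)
  exact Groth.Agent.S0734.result Γ(U, ⊤) Γ(V, ⊤) Γ(W, ⊤) hg hf

theorem IE_of_isIso {W V : Scheme.{u}} (f : W ⟶ V) [IsIso f] : IE f := by
  letI := f.appTop.hom.toAlgebra
  haveI : IsIso f.appTop := inferInstanceAs (IsIso (f.app ⊤))
  haveI : Algebra.Etale Γ(V, ⊤) Γ(W, ⊤) := by
    have hb : Function.Bijective (algebraMap Γ(V, ⊤) Γ(W, ⊤)) :=
      (asIso f.appTop).commRingCatIsoToRingEquiv.bijective
    exact Algebra.Etale.of_equiv (AlgEquiv.ofBijective (Algebra.ofId Γ(V, ⊤) Γ(W, ⊤)) hb)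
  exact isIndEtale_of_etale _ _

set_option maxHeartbeats 1000000 in
theorem IE_of_isPullback {P W V' V : Scheme.{u}} [IsAffine W] [IsAffine V'] [IsAffine V]
    (fst : P ⟶ W) (snd : P ⟶ V') (f : W ⟶ V) (g : V' ⟶ V) (h : IsPullback fst snd f g)
    (hf : IE f) : IE snd := by
  have hpo : IsPushout g.appTop f.appTop snd.appTop fst.appTop :=
    (isPushout_appTop_of_isPullback h).flip
  letI a1 : Algebra Γ(V, ⊤) Γ(W, ⊤) := f.appTop.hom.toAlgebra
  letI a2 : Algebra Γ(V, ⊤) Γ(V', ⊤) := g.appTop.hom.toAlgebra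
  have hbc : EtPBC.IsIndEtale Γ(V', ⊤) (Γ(V', ⊤) ⊗[Γ(V, ⊤)] Γ(W, ⊤)) :=
    Groth.Agent.S0733.result Γ(V, ⊤) Γ(W, ⊤) Γ(V', ⊤) hf
  have hpo' : IsPushout g.appTop f.appTop
      (CommRingCat.ofHom (S := Γ(V', ⊤) ⊗[Γ(V, ⊤)] Γ(W, ⊤))
        Algebra.TensorProduct.includeLeftRingHom)
      (CommRingCat.ofHom (S := Γ(V', ⊤) ⊗[Γ(V, ⊤)] Γ(W, ⊤))
        Algebra.TensorProduct.includeRight.toRingHom) :=
    CommRingCat.isPushout_tensorProduct Γ(V, ⊤) Γ(V', ⊤) Γ(W, ⊤)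
  let e := hpo'.isoIsPushout _ _ hpo
  have he : CommRingCat.ofHom (S := Γ(V', ⊤) ⊗[Γ(V, ⊤)] Γ(W, ⊤))
      Algebra.TensorProduct.includeLeftRingHom ≫ e.hom = snd.appTop :=
    hpo'.inl_isoIsPushout_hom _ _ hpo
  letI a3 : Algebra Γ(V', ⊤) Γ(P, ⊤) := snd.appTop.hom.toAlgebra
  let e' : (Γ(V', ⊤) ⊗[Γ(V, ⊤)] Γ(W, ⊤)) ≃ₐ[Γ(V', ⊤)] Γ(P, ⊤) :=
    { e.commRingCatIsoToRingEquiv with
      commutes' := fun a => by
        have := congrArg (fun m => m.hom a) he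
        exact this }
  exact Groth.Agent.Lib.Lead.IndEtTrans.isIndEtale_of_algEquiv e' hbc

end Groth.Agent.Lib.Helper4.PEC
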