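import Mathlib
import Groth.Prelude.Def_ProEtS
import Groth.Agent.Lib.Helper4.PEC3
import Groth.Agent.Lib.Helper4.PEC4

/-!
# The class of affine objects of the pro-étale site which are ind-étale over an étale affine object
-/

set_option autoImplicit false
set_option linter.style.haveILetI false
set_option linter.unusedSectionVars false
universe u

namespace Groth.Agent.Lib.Helper4.PEC

open CategoryTheory CategoryTheory.Limits AlgebraicGeometry Opposite
  Groth.Agent.Lib.Helper4.PELim Groth.Agent.Lib.Helper22.CechU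

variable {X : Scheme.{u}}

/-- affine objects over `V` which are ind-étale over `V` -/
def PV (V : X.ProEt) : ObjectProperty (Over V) := fun Z => IsAffine Z.left.left ∧ IE Z.hom.left

instance (V : X.ProEt) : (PV V).IsClosedUnderIsomorphisms where
  of_iso {Z Z'} e h := by
    obtain ⟨h1, h2⟩ := h
    let i : Z'.left.left ≅ Z.left.left := (Θ V).mapIso e.symm
    haveI := h1
    refine ⟨IsAffine.of_isIso i.hom, ?_⟩
    have h3 : Z'.hom.left = i.hom ≫ Z.hom.left :=
      (congrArg (fun m => m.left) (Over.w e.inv)).symm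
    rw [h3]
    exact IE_comp _ _ (IE_of_isIso _) h2

lemma PV_terminal (V : X.ProEt) [IsAffine V.left] :
    (PV V).IsClosedUnderLimitsOfShape (Discrete.{0} PEmpty) where
  limitsOfShape_le := by
    rintro Z ⟨pres⟩
    have hZ : IsTerminal Z :=
      (isLimitEmptyConeEquiv _ (Cone.mk Z pres.π) (asEmptyCone Z) (Iso.refl _)) pres.isLimit
    have e : Over.mk (𝟙 V) ≅ Z := (IsTerminal.uniqueUpToIso hZ Over.mkIdTerminal).symm
    refine (PV V).prop_of_iso e ⟨‹IsAffine V.left›, ?_⟩
    exact IE_of_isIso (𝟙 V.left)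

lemma PV_prod_two (V : X.ProEt) [IsAffine V.left] (A B : Over V) (hA : PV V A) (hB : PV V B) :
    PV V (A ⨯ B) := by
  obtain ⟨a1, a2⟩ := hA
  obtain ⟨b1, b2⟩ := hB
  haveI := a1
  haveI := b1
  let i : (A ⨯ B).left ≅ pullback A.hom B.hom := Over.prodLeftIsoPullback A B
  haveI : IsAffine (pullback A.hom B.hom).left := isAffine_pullback_left A.hom B.hom
  have hpb : IsPullback (prod.fst (X := A) (Y := B)).left (prod.snd (X := A) (Y := B)).left
      A.hom B.hom :=
    IsPullback.of_iso (IsPullback.of_hasPullback A.hom B.hom) i.symm (Iso.refl _) (Iso.refl _)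
      (Iso.refl _) (by simp [i]) (by simp [i]) (by simp) (by simp)
  have hpb' : IsPullback (prod.fst (X := A) (Y := B)).left.left
      (prod.snd (X := A) (Y := B)).left.left A.hom.left B.hom.left := hpb.map (US X)
  haveI : IsAffine ((US X).obj (pullback A.hom B.hom)) := isAffine_pullback_left A.hom B.hom
  refine ⟨IsAffine.of_isIso ((US X).mapIso i).hom, ?_⟩
  have h3 : (A ⨯ B).hom.left = (prod.fst (X := A) (Y := B)).left.left ≫ A.hom.left :=
    (congrArg (fun m => m.left) (Over.w (prod.fst (X := A) (Y := B)))).symm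
  rw [h3]
  exact IE_comp _ _ (IE_of_isPullback _ _ _ _ hpb'.flip b2) a2

lemma PV_binary (V : X.ProEt) [IsAffine V.left] :
    (PV V).IsClosedUnderLimitsOfShape (Discrete WalkingPair) where
  limitsOfShape_le := by
    rintro Z ⟨pres⟩
    let A := pres.diag.obj ⟨WalkingPair.left⟩
    let B := pres.diag.obj ⟨WalkingPair.right⟩
    have hA : PV V A := pres.prop_diag_obj _
    have hB : PV V B := pres.prop_diag_obj _
    let e : Z ≅ A ⨯ B :=
      IsLimit.conePointsIsoOfNatIso pres.isLimit (limit.isLimit (pair A B))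
        (diagramIsoPair pres.diag)
    exact (PV V).prop_of_iso e.symm (PV_prod_two V A B hA hB)

lemma PV_finiteProducts (V : X.ProEt) [IsAffine V.left] :
    (PV V).IsClosedUnderFiniteProducts := by
  have := PV_terminal V
  have := PV_binary V
  exact ObjectProperty.IsClosedUnderFiniteProducts.mk'

lemma PV_nerve (V : X.ProEt) [IsAffine V.left] {ι : Type (u + 1)} (Y : ι → Over V)
    (hY : ∀ i, PV V (Y i)) {p : ℕ} (a : Fin (p + 1) → ι) : PV V (Uσ Y a) := by
  have := PV_finiteProducts V
  exact (PV V).prop_product (f := Y ∘ a) (fun j => hY (a j))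

/-- affine objects which are ind-étale over an affine object étale over `X` -/
def Bset (X : Scheme.{u}) : Set X.ProEt :=
  {V | IsAffine V.left ∧ ∃ (V₀ : X.ProEt) (g : V ⟶ V₀), IsAffine V₀.left ∧ Etale V₀.hom ∧
    IE g.left}

lemma mem_Bset_of_PV {V : X.ProEt} (hV : V ∈ Bset X) (Z : Over V) (hZ : PV V Z) :
    Z.left ∈ Bset X := by
  obtain ⟨h1, V₀, g, h2, h3, h4⟩ := hV
  refine ⟨hZ.1, V₀, Z.hom ≫ g, h2, h3, ?_⟩
  exact IE_comp _ _ hZ.2 h4

lemma mem_Bset_of_etale (V : X.ProEt) [IsAffine V.left] [Etale V.hom] : V ∈ Bset X :=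
  ⟨‹_›, V, 𝟙 V, ‹_›, ‹_›, IE_of_isIso (𝟙 V.left)⟩

end Groth.Agent.Lib.Helper4.PEC
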