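import Mathlib
import Groth.Prelude.Def_ProEtS
import Groth.Agent.Lib.Helper4.PELim2

/-!
# Sections of `ε⁻¹F` over a cofiltered limit of affine objects: injectivity
-/

set_option autoImplicit false
set_option linter.style.haveILetI false
set_option linter.unusedSectionVars false
universe u

namespace Groth.Agent.Lib.Helper4.PELim

open CategoryTheory CategoryTheory.Limits AlgebraicGeometry Opposite Groth.Agent.Lib.Helper4.PE
  Groth.Agent.Lib.Helper4.PEps

variable {X : Scheme.{u}}

set_option backward.isDefEq.respectTransparency.types false in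
/-- a morphism to an étale object landing in an open factors through the open -/
theorem exists_lift_opnE {A : X.ProEt} {T : X.Etale} (b : A ⟶ (ProEtS.eps X).obj T)
    (O : T.left.Opens) (h : ∀ w : A.left, b.left.base w ∈ O) :
    ∃ l : A ⟶ (ProEtS.eps X).obj (opnE T O), l ≫ (ProEtS.eps X).map (opnEι T O) = b := by
  have hrange : Set.range b.left.base ⊆ Set.range O.ι.base := by
    rintro _ ⟨w, rfl⟩
    have h1 : b.left.base w ∈ (O : Set T.left) := h w
    have h2 : Set.range O.ι.base = (O : Set T.left) := Scheme.Opens.range_ι O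
    exact h2.symm ▸ h1
  let l₀ : A.left ⟶ (O : Scheme) := IsOpenImmersion.lift O.ι b.left hrange
  have hl₀ : l₀ ≫ O.ι = b.left := IsOpenImmersion.lift_fac _ _ _
  let l : A ⟶ (ProEtS.eps X).obj (opnE T O) := MorphismProperty.Over.homMk l₀ (by
    change l₀ ≫ O.ι ≫ T.hom = A.hom
    rw [← Category.assoc, hl₀]
    exact MorphismProperty.Over.w b)
  exact ⟨l, MorphismProperty.Over.Hom.ext hl₀⟩

/-- a represented class whose section vanishes on an open containing the image is zero -/
theorem rep_eq_zero_of_mem (F : EtCoh.Ab X) {A : X.ProEt} {T : X.Etale}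
    (b : A ⟶ (ProEtS.eps X).obj T) (σ : F.obj.obj (op T)) (O : T.left.Opens)
    (h : ∀ w : A.left, b.left.base w ∈ O) (hσ : F.obj.map (opnEι T O).op σ = 0) :
    rep F.obj T b σ = 0 := by
  obtain ⟨l, hl⟩ := exists_lift_opnE b O h
  rw [← hl, rep_comp, hσ, rep_zero]

set_option maxHeartbeats 1000000 in
/-- injectivity part of the limit formula, affine case -/
theorem inj_aff (F : EtCoh.Ab X) {I : Type u} [SmallCategory I] [IsCofiltered I]
    (D : I ⥤ X.ProEt) (hD : ∀ i, IsAffine (D.obj i).left) (c : Cone D)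
    (hc : IsLimit ((US X).mapCone c)) (i : I) (s : (Q F).obj (op (D.obj i)))
    (hs : (Q F).map (c.π.app i).op s = 0) :
    ∃ (j : I) (f : j ⟶ i), (Q F).map (D.map f).op s = 0 := by
  haveI := hD
  haveI : ∀ j, IsAffine ((D ⋙ US X).obj j) := fun j => hD j
  haveI hcaff : IsAffine c.pt.left := Scheme.isAffine_of_isLimit ((US X).mapCone c) hc
  haveI : IsAffine (((Functor.const I).obj c.pt).obj i).left := hcaff
  obtain ⟨W, g, hWaff, hWwc, hgs, hgq⟩ := exists_wc_cover_affine (D.obj i)
  haveI := hWaff
  haveI := hgs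
  haveI := hgq
  obtain ⟨x, hx⟩ := (toSheafify_lanE_bijective F W hWwc).2 ((Q F).map g.op s)
  obtain ⟨T, a, σ, rfl⟩ := exists_rep F.obj x
  have hx' : (τ F).app (op W) (rep F.obj T a σ) = (Q F).map g.op s := hx
  -- the base-changed system
  have hcE := bcIsLimit D c g hc
  haveI hEaff : ∀ k : Over i, IsAffine ((bcFunctor D g).obj k).left := fun k =>
    isAffine_pullback_left g (D.map k.hom)
  haveI : IsAffine (bcCone D c g).pt.left := isAffine_pullback_left g (c.π.app i)
  -- the section vanishes on the limit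
  have h0 : (τ F).app (op (bcCone D c g).pt)
      (rep F.obj T (pullback.fst g (c.π.app i) ≫ a) σ) = 0 := by
    rw [← rep_map, τ_naturality, hx', ← Q_map_comp, pullback.condition, Q_map_comp, hs, map_zero]
  obtain ⟨O, hO1, hO2⟩ := exists_open_kill F (pullback.fst g (c.π.app i) ≫ a) σ h0
  -- a finite stage
  let k₀ : Over i := Over.mk (𝟙 i)
  let b₀ : (bcFunctor D g).obj k₀ ⟶ (ProEtS.eps X).obj T := pullback.fst g (D.map k₀.hom) ≫ a
  let U : ((bcFunctor D g ⋙ US X).obj k₀).Opens := b₀.left ⁻¹ᵁ O
  have hb₀ : (bcCone D c g).π.app k₀ ≫ b₀ = pullback.fst g (c.π.app i) ≫ a := by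
    change (bcCone D c g).π.app k₀ ≫ pullback.fst g (D.map k₀.hom) ≫ a = _
    rw [← Category.assoc, bcCone_π_fst]
  have hU : ((US X).mapCone (bcCone D c g)).π.app k₀ ⁻¹ᵁ U = ⊤ := by
    ext v
    simp only [TopologicalSpace.Opens.coe_top, Set.mem_univ, iff_true]
    change b₀.left.base (((bcCone D c g).π.app k₀).left.base v) ∈ O
    have h1 : (((bcCone D c g).π.app k₀).left ≫ b₀.left).base v =
        (pullback.fst g (c.π.app i) ≫ a).left.base v :=
      congrArg (fun m => m.left.base v) hb₀
    rw [Scheme.Hom.comp_apply] at h1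
    rw [h1]
    exact hO1 v
  haveI : ∀ {k k' : Over i} (f : k ⟶ k'), IsAffineHom ((bcFunctor D g ⋙ US X).map f) := by
    intro k k' f
    haveI : IsAffine ((bcFunctor D g ⋙ US X).obj k) := hEaff k
    haveI : IsAffine ((bcFunctor D g ⋙ US X).obj k') := hEaff k'
    exact isAffineHom_of_isAffine _
  haveI : ∀ k : Over i, CompactSpace ((bcFunctor D g ⋙ US X).obj k) := by
    intro k
    haveI : IsAffine ((bcFunctor D g ⋙ US X).obj k) := hEaff k
    infer_instance
  obtain ⟨k, f, hf⟩ := exists_map_eq_top (bcFunctor D g ⋙ US X) ((US X).mapCone (bcCone D c g))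
    hcE U hU
  refine ⟨k.left, k.hom, ?_⟩
  -- the section vanishes on the cover `W ×_{D i} D k`
  have hland : ∀ w : ((bcFunctor D g).obj k).left,
      (pullback.fst g (D.map k.hom) ≫ a).left.base w ∈ O := by
    intro w
    have hw : (w : ((bcFunctor D g ⋙ US X).obj k)) ∈ ((bcFunctor D g ⋙ US X).map f) ⁻¹ᵁ U := by
      rw [hf]
      trivial
    have h2 : (bcFunctor D g).map f ≫ b₀ = pullback.fst g (D.map k.hom) ≫ a := by
      change (bcFunctor D g).map f ≫ pullback.fst g (D.map k₀.hom) ≫ a = _
      rw [← Category.assoc, bcFunctor_map_fst]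
    have h3 : (((bcFunctor D g).map f).left ≫ b₀.left).base w =
        (pullback.fst g (D.map k.hom) ≫ a).left.base w :=
      congrArg (fun m => m.left.base w) h2
    rw [Scheme.Hom.comp_apply] at h3
    rw [← h3]
    exact hw
  have hz : rep F.obj T (pullback.fst g (D.map k.hom) ≫ a) σ = 0 :=
    rep_eq_zero_of_mem F _ σ O hland hO2
  haveI : Surjective (pullback.snd g (D.map k.hom)).left := surjective_snd_left g (D.map k.hom)
  haveI : QuasiCompact (pullback.snd g (D.map k.hom)).left :=
    quasiCompact_snd_left g (D.map k.hom)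
  apply Q_ext_of_cover F (pullback.snd g (D.map k.hom))
  rw [map_zero, ← Q_map_comp, ← pullback.condition, Q_map_comp]
  rw [← hx', ← τ_naturality, rep_map, hz, map_zero]

end Groth.Agent.Lib.Helper4.PELim
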