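import Mathlib
import Groth.Prelude.Def_ProEtS
import Groth.Agent.Lib.Helper4.PELim3

/-!
# Tools for the surjectivity part of the limit formula
-/

set_option autoImplicit false
set_option linter.style.haveILetI false
set_option linter.unusedSectionVars false
universe u

namespace Groth.Agent.Lib.Helper4.PELim

open CategoryTheory CategoryTheory.Limits AlgebraicGeometry Opposite Groth.Agent.Lib.Helper4.PE
  Groth.Agent.Lib.Helper4.PEps

variable {X : Scheme.{u}}

section Trans

variable {I : Type u} [SmallCategory I] (D : I ⥤ X.ProEt) (c : Cone D) {i : I} {Z Z' : X.ProEt}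
  (g : Z ⟶ D.obj i) (p : Z' ⟶ Z) (g' : Z' ⟶ D.obj i) (hp : p ≫ g = g')

/-- the map of base-changed systems induced by a morphism -/
noncomputable abbrev bcTrans (k : Over i) :
    pullback g' (D.map k.hom) ⟶ pullback g (D.map k.hom) :=
  pullback.lift (pullback.fst g' (D.map k.hom) ≫ p) (pullback.snd g' (D.map k.hom))
    (by rw [Category.assoc, hp, pullback.condition])

/-- the map of limits of base-changed systems induced by a morphism -/
noncomputable abbrev bcTransInf :
    pullback g' (c.π.app i) ⟶ pullback g (c.π.app i) :=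
  pullback.lift (pullback.fst g' (c.π.app i) ≫ p) (pullback.snd g' (c.π.app i))
    (by rw [Category.assoc, hp, pullback.condition])

theorem bcTrans_fst (k : Over i) :
    bcTrans D g p g' hp k ≫ pullback.fst g (D.map k.hom) = pullback.fst g' (D.map k.hom) ≫ p :=
  pullback.lift_fst _ _ _

theorem bcTrans_snd (k : Over i) :
    bcTrans D g p g' hp k ≫ pullback.snd g (D.map k.hom) = pullback.snd g' (D.map k.hom) :=
  pullback.lift_snd _ _ _

theorem bcTransInf_fst :
    bcTransInf D c g p g' hp ≫ pullback.fst g (c.π.app i) = pullback.fst g' (c.π.app i) ≫ p :=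
  pullback.lift_fst _ _ _

theorem bcTransInf_snd :
    bcTransInf D c g p g' hp ≫ pullback.snd g (c.π.app i) = pullback.snd g' (c.π.app i) :=
  pullback.lift_snd _ _ _

theorem bcTrans_naturality {k k' : Over i} (f : k ⟶ k') :
    (bcFunctor D g').map f ≫ bcTrans D g p g' hp k' =
      bcTrans D g p g' hp k ≫ (bcFunctor D g).map f := by
  apply pullback.hom_ext
  · rw [Category.assoc, bcTrans_fst, ← Category.assoc, bcFunctor_map_fst, Category.assoc,
      bcFunctor_map_fst, bcTrans_fst]
  · rw [Category.assoc, bcTrans_snd, bcFunctor_map_snd, Category.assoc, bcFunctor_map_snd,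
      ← Category.assoc, bcTrans_snd]

theorem bcTrans_leg (k : Over i) :
    (bcCone D c g').π.app k ≫ bcTrans D g p g' hp k =
      bcTransInf D c g p g' hp ≫ (bcCone D c g).π.app k := by
  apply pullback.hom_ext
  · rw [Category.assoc, bcTrans_fst, ← Category.assoc, bcCone_π_fst, Category.assoc,
      bcCone_π_fst, bcTransInf_fst]
  · rw [Category.assoc, bcTrans_snd, bcCone_π_snd, Category.assoc, bcCone_π_snd,
      ← Category.assoc, bcTransInf_snd]

end Trans

/-- morphisms from an affine limit to an étale object factor through a finite stage -/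
theorem exists_factor {I : Type u} [SmallCategory I] [IsCofiltered I]
    (D : I ⥤ X.ProEt) (hD : ∀ i, IsAffine (D.obj i).left) (c : Cone D)
    (hc : IsLimit ((US X).mapCone c)) (T : X.Etale) (a : c.pt ⟶ (ProEtS.eps X).obj T) :
    ∃ (i : I) (a' : D.obj i ⟶ (ProEtS.eps X).obj T), c.π.app i ≫ a' = a := by
  let tX : D ⋙ US X ⟶ (Functor.const I).obj X :=
    { app := fun i => (D.obj i).hom
      naturality := by
        intro i j f
        change (D.map f).left ≫ (D.obj j).hom = (D.obj i).hom ≫ 𝟙 X
        exact (MorphismProperty.Over.w (D.map f)).trans (Category.comp_id _).symm }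
  haveI : Etale T.hom := T.prop
  haveI : LocallyOfFinitePresentation T.hom := inferInstance
  haveI : ∀ {i j : I} (f : i ⟶ j), IsAffineHom ((D ⋙ US X).map f) := by
    intro i j f
    haveI : IsAffine ((D ⋙ US X).obj i) := hD i
    haveI : IsAffine ((D ⋙ US X).obj j) := hD j
    exact isAffineHom_of_isAffine _
  haveI : ∀ i : I, CompactSpace ((D ⋙ US X).obj i) := by
    intro i
    haveI : IsAffine ((D ⋙ US X).obj i) := hD i
    infer_instance
  haveI : ∀ i : I, QuasiSeparatedSpace ((D ⋙ US X).obj i) := by
    intro i
    haveI : IsAffine ((D ⋙ US X).obj i) := hD i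
    infer_instance
  have ha : ((US X).mapCone c).π ≫ tX = (Functor.const I).map (a.left ≫ T.hom) := by
    ext i : 2
    change (c.π.app i).left ≫ (D.obj i).hom = a.left ≫ T.hom
    rw [MorphismProperty.Over.w (c.π.app i)]
    exact (MorphismProperty.Over.w a).symm
  obtain ⟨i, gi, hgi, hgi'⟩ := Scheme.exists_π_app_comp_eq_of_locallyOfFinitePresentation
    (D ⋙ US X) tX T.hom ((US X).mapCone c) hc a.left ha
  exact ⟨i, MorphismProperty.Over.homMk gi hgi', MorphismProperty.Over.Hom.ext hgi⟩

/-- gluing sections of `ε⁻¹F` along a cover given by a single morphism -/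
theorem Q_glue (F : EtCoh.Ab X) {A B : X.ProEt} (f : A ⟶ B) [Surjective f.left]
    [QuasiCompact f.left] (u : (Q F).obj (op A))
    (hu : (Q F).map (pullback.fst f f).op u = (Q F).map (pullback.snd f f).op u) :
    ∃ s : (Q F).obj (op B), (Q F).map f.op s = u := by
  have hcov : Sieve.ofArrows (fun _ : Unit => A) (fun _ => f) ∈ Scheme.ProEt.topology X B := by
    have h1 : Presieve.ofArrows (fun _ : Unit => A) (fun _ => f) = Presieve.singleton f :=
      Presieve.ofArrows_pUnit f
    rw [Sieve.ofArrows, h1]
    exact singleton_mem f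
  have hsh := isSheaf_Q F _ hcov
  rw [Sieve.ofArrows, ← Presieve.isSheafFor_iff_generate, Presieve.isSheafFor_arrows_iff] at hsh
  have hcompat : Presieve.Arrows.Compatible (Q F ⋙ forget AddCommGrpCat.{u + 1})
      (fun _ : Unit => f) (fun _ => u) := by
    intro _ _ Z' a b hab
    change (Q F).map a.op u = (Q F).map b.op u
    have hab' : a ≫ f = b ≫ f := hab
    have h1 : pullback.lift a b hab' ≫ pullback.fst f f = a := pullback.lift_fst _ _ _
    have h2 : pullback.lift a b hab' ≫ pullback.snd f f = b := pullback.lift_snd _ _ _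
    have e1 : (Q F).map a.op u = (Q F).map (pullback.lift a b hab').op
        ((Q F).map (pullback.fst f f).op u) := by rw [← Q_map_comp, h1]
    have e2 : (Q F).map b.op u = (Q F).map (pullback.lift a b hab').op
        ((Q F).map (pullback.snd f f).op u) := by rw [← Q_map_comp, h2]
    rw [e1, e2, hu]
  obtain ⟨s, hs, -⟩ := hsh _ hcompat
  exact ⟨s, hs ()⟩

/-- pulling back sections of `ε⁻¹F` along an isomorphism is injective -/
theorem Q_map_injective_of_isIso (F : EtCoh.Ab X) {A B : X.ProEt} (m : A ⟶ B) [IsIso m]
    (s t : (Q F).obj (op B)) (h : (Q F).map m.op s = (Q F).map m.op t) : s = t := by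
  have h1 : (Q F).map (inv m ≫ m).op s = (Q F).map (inv m ≫ m).op t := by
    rw [Q_map_comp, Q_map_comp, h]
  rw [IsIso.inv_hom_id] at h1
  simpa using h1

end Groth.Agent.Lib.Helper4.PELim
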