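import Mathlib
import Groth.Prelude.Def_ProEtS
import Groth.Agent.Lib.Helper4.PEps6

/-!
# Fibre squares in the small étale and pro-étale sites
-/

set_option autoImplicit false
set_option linter.style.haveILetI false
set_option linter.unusedSectionVars false
universe u

namespace Groth.Agent.Lib.Helper4.PEps

open CategoryTheory CategoryTheory.Limits AlgebraicGeometry Opposite Groth.Agent.Lib.Helper4.PE

variable {X : Scheme.{u}}

section etale

variable {S U : X.Etale} (h : S ⟶ U)

/-- the fibre square `S ×_U S` as an étale object -/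
noncomputable abbrev sqE : X.Etale :=
  haveI : Etale S.hom := S.prop
  Scheme.Etale.mk (pullback.fst h.left h.left ≫ S.hom)

/-- first projection -/
noncomputable abbrev sqE₁ : sqE h ⟶ S := MorphismProperty.Over.homMk (pullback.fst h.left h.left)

theorem sqE_snd_w : pullback.snd h.left h.left ≫ S.hom = pullback.fst h.left h.left ≫ S.hom := by
  have hw : h.left ≫ U.hom = S.hom := MorphismProperty.Over.w h
  rw [← hw, ← Category.assoc, ← Category.assoc, pullback.condition]

/-- second projection -/
noncomputable abbrev sqE₂ : sqE h ⟶ S :=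
  MorphismProperty.Over.homMk (pullback.snd h.left h.left) (sqE_snd_w h)

theorem sqE_condition : sqE₁ h ≫ h = sqE₂ h ≫ h :=
  MorphismProperty.Over.Hom.ext pullback.condition

/-- the universal property -/
theorem sqE_exists_lift {Z : X.Etale} (a b : Z ⟶ S) (hab : a ≫ h = b ≫ h) :
    ∃ m : Z ⟶ sqE h, m ≫ sqE₁ h = a ∧ m ≫ sqE₂ h = b := by
  have hab' : a.left ≫ h.left = b.left ≫ h.left := congrArg (fun m => m.left) hab
  refine ⟨MorphismProperty.Over.homMk (pullback.lift a.left b.left hab') ?_, ?_, ?_⟩
  · change pullback.lift a.left b.left hab' ≫ pullback.fst h.left h.left ≫ S.hom = Z.hom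
    rw [← Category.assoc, pullback.lift_fst]
    exact MorphismProperty.Over.w a
  · exact MorphismProperty.Over.Hom.ext (pullback.lift_fst _ _ _)
  · exact MorphismProperty.Over.Hom.ext (pullback.lift_snd _ _ _)

variable {S' : X.Etale} (h' : S' ⟶ U) (tr : S' ⟶ S) (htr : tr ≫ h = h')

include htr in
theorem sqMapE_comm : h'.left ≫ 𝟙 U.left = tr.left ≫ h.left :=
  (Category.comp_id h'.left).trans (congrArg (fun m => m.left) htr).symm

/-- the map between fibre squares induced by a refinement -/
noncomputable def sqMapE : sqE h' ⟶ sqE h :=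
  MorphismProperty.Over.homMk
    (pullback.map h'.left h'.left h.left h.left tr.left tr.left (𝟙 _)
      (sqMapE_comm h h' tr htr) (sqMapE_comm h h' tr htr)) (by
    change pullback.map _ _ _ _ _ _ _ _ _ ≫ pullback.fst h.left h.left ≫ S.hom =
      pullback.fst h'.left h'.left ≫ S'.hom
    rw [← Category.assoc, pullback.lift_fst, Category.assoc]
    congr 1
    exact MorphismProperty.Over.w tr)

theorem sqMapE_fst : sqMapE h h' tr htr ≫ sqE₁ h = sqE₁ h' ≫ tr :=
  MorphismProperty.Over.Hom.ext (pullback.lift_fst _ _ _)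

theorem sqMapE_snd : sqMapE h h' tr htr ≫ sqE₂ h = sqE₂ h' ≫ tr :=
  MorphismProperty.Over.Hom.ext (pullback.lift_snd _ _ _)

end etale

section proet

variable {V U : X.ProEt} (g : V ⟶ U)

/-- the fibre square `V ×_U V` as a pro-étale object -/
noncomputable abbrev sqP : X.ProEt :=
  haveI : WeaklyEtale V.hom := V.prop
  haveI : WeaklyEtale g.left := weaklyEtale_left g
  Scheme.ProEt.mk (pullback.fst g.left g.left ≫ V.hom)

/-- first projection -/
noncomputable abbrev sqP₁ : sqP g ⟶ V := MorphismProperty.Over.homMk (pullback.fst g.left g.left)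

theorem sqP_snd_w : pullback.snd g.left g.left ≫ V.hom = pullback.fst g.left g.left ≫ V.hom := by
  have hw : g.left ≫ U.hom = V.hom := MorphismProperty.Over.w g
  rw [← hw, ← Category.assoc, ← Category.assoc, pullback.condition]

/-- second projection -/
noncomputable abbrev sqP₂ : sqP g ⟶ V :=
  MorphismProperty.Over.homMk (pullback.snd g.left g.left) (sqP_snd_w g)

theorem sqP_condition : sqP₁ g ≫ g = sqP₂ g ≫ g :=
  MorphismProperty.Over.Hom.ext pullback.condition

end proet

section mixed

variable {V : X.ProEt} {U S : X.Etale} (g : V ⟶ (ProEtS.eps X).obj U) (h : S ⟶ U)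
  (π : V ⟶ (ProEtS.eps X).obj S) (hπ : π ≫ (ProEtS.eps X).map h = g)

include hπ in
theorem sqMapP_comm : g.left ≫ 𝟙 U.left = π.left ≫ h.left :=
  (Category.comp_id g.left).trans (congrArg (fun m => m.left) hπ).symm

/-- the map from the pro-étale fibre square to the étale one -/
noncomputable def sqMapP : sqP g ⟶ (ProEtS.eps X).obj (sqE h) :=
  MorphismProperty.Over.homMk
    (pullback.map g.left g.left h.left h.left π.left π.left (𝟙 _)
      (sqMapP_comm g h π hπ) (sqMapP_comm g h π hπ)) (by
    change pullback.map _ _ _ _ _ _ _ _ _ ≫ pullback.fst h.left h.left ≫ S.hom =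
      pullback.fst g.left g.left ≫ V.hom
    rw [← Category.assoc, pullback.lift_fst, Category.assoc]
    congr 1
    exact MorphismProperty.Over.w π)

theorem sqMapP_fst :
    sqMapP g h π hπ ≫ (ProEtS.eps X).map (sqE₁ h) = sqP₁ g ≫ π :=
  MorphismProperty.Over.Hom.ext (pullback.lift_fst _ _ _)

theorem sqMapP_snd :
    sqMapP g h π hπ ≫ (ProEtS.eps X).map (sqE₂ h) = sqP₂ g ≫ π :=
  MorphismProperty.Over.Hom.ext (pullback.lift_snd _ _ _)

end mixed

end Groth.Agent.Lib.Helper4.PEps
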