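import Mathlib
import Groth.Prelude.Def_ProEtS
import Groth.Agent.Lib.Helper4.PEps7

/-!
# Descent of sections of `ε⁻¹F` along a tower of étale covers with weakly contractible limit
-/

set_option autoImplicit false
set_option linter.style.haveILetI false
set_option linter.unusedSectionVars false
universe u

namespace Groth.Agent.Lib.Helper4.PEps

open CategoryTheory CategoryTheory.Limits AlgebraicGeometry Opposite Groth.Agent.Lib.Helper4.PE

variable {X : Scheme.{u}}

set_option maxHeartbeats 4000000 in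
theorem exists_preimage_of_tower (F : EtCoh.Ab X) (U : X.Etale) (V : X.ProEt) [IsAffine V.left]
    (hV : ProEtS.IsWC V) (g : V ⟶ (ProEtS.eps X).obj U) [Surjective g.left] [QuasiCompact g.left]
    [IsAffine (sqP g).left]
    {I : Type*} (S : I → X.Etale) (h : ∀ j, S j ⟶ U) (π : ∀ j, V ⟶ (ProEtS.eps X).obj (S j))
    (hπ : ∀ j, π j ≫ (ProEtS.eps X).map (h j) = g)
    (hfactor : ∀ (T : X.Etale) (a : V ⟶ (ProEtS.eps X).obj T),
      ∃ (j : I) (a' : S j ⟶ T), π j ≫ (ProEtS.eps X).map a' = a)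
    (hshrink : ∀ (j : I) (O : (sqE (h j)).left.Opens),
      (∀ v : (sqP g).left, (sqMapP g (h j) (π j) (hπ j)).left.base v ∈ O) →
      ∃ (k : I) (tr : S k ⟶ S j) (htr : tr ≫ h j = h k),
        π k ≫ (ProEtS.eps X).map tr = π j ∧
        ∀ w : (sqE (h k)).left, (sqMapE (h j) (h k) tr htr).left.base w ∈ O)
    (t : (sheafify (Scheme.ProEt.topology X) (P F.obj)).obj (op ((ProEtS.eps X).obj U))) :
    ∃ s₀ : F.obj.obj (op U),
      (toSheafify (Scheme.ProEt.topology X) (P F.obj)).app (op ((ProEtS.eps X).obj U))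
        (rep F.obj U (𝟙 _) s₀) = t := by
  let J := Scheme.ProEt.topology X
  let τ := toSheafify J (P F.obj)
  let Q := sheafify J (P F.obj)
  have hτ : ∀ {A B : X.ProEt} (f : A ⟶ B) (y : (P F.obj).obj (op B)),
      τ.app (op A) ((P F.obj).map f.op y) = Q.map f.op (τ.app (op B) y) := fun f y =>
    NatTrans.naturality_apply τ f.op y
  -- step 4
  obtain ⟨x, hx⟩ := (toSheafify_lanE_bijective F V hV).2 (Q.map g.op t)
  obtain ⟨T, a, s, rfl⟩ := exists_rep F.obj x
  obtain ⟨j, a', ha'⟩ := hfactor T a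
  let sj : F.obj.obj (op (S j)) := F.obj.map a'.op s
  have hx' : rep F.obj T a s = rep F.obj (S j) (π j) sj := by rw [← ha', rep_comp]
  rw [hx'] at hx
  -- step 6, 7
  let δ : F.obj.obj (op (sqE (h j))) :=
    F.obj.map (sqE₁ (h j)).op sj - F.obj.map (sqE₂ (h j)).op sj
  let π2 := sqMapP g (h j) (π j) (hπ j)
  have hrep1 : rep F.obj (sqE (h j)) π2 (F.obj.map (sqE₁ (h j)).op sj) =
      (P F.obj).map (sqP₁ g).op (rep F.obj (S j) (π j) sj) := by
    rw [← rep_comp, sqMapP_fst, rep_map]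
  have hrep2 : rep F.obj (sqE (h j)) π2 (F.obj.map (sqE₂ (h j)).op sj) =
      (P F.obj).map (sqP₂ g).op (rep F.obj (S j) (π j) sj) := by
    rw [← rep_comp, sqMapP_snd, rep_map]
  have hQ12 : Q.map (sqP₁ g).op (Q.map g.op t) = Q.map (sqP₂ g).op (Q.map g.op t) := by
    change (Q.map g.op ≫ Q.map (sqP₁ g).op) t = (Q.map g.op ≫ Q.map (sqP₂ g).op) t
    rw [← Functor.map_comp, ← Functor.map_comp, ← op_comp, ← op_comp, sqP_condition]
  have hδ : τ.app (op (sqP g)) (rep F.obj (sqE (h j)) π2 δ) = 0 := by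
    rw [rep_sub, hrep1, hrep2, map_sub, hτ, hτ, hx, hQ12, sub_self]
  obtain ⟨O, hO1, hO2⟩ := exists_open_kill F π2 δ hδ
  obtain ⟨k, tr, htr, hπk, hw⟩ := hshrink j O hO1
  let sk : F.obj.obj (op (S k)) := F.obj.map tr.op sj
  -- step 10
  have hk : F.obj.map (sqE₁ (h k)).op sk = F.obj.map (sqE₂ (h k)).op sk := by
    let tr2 := sqMapE (h j) (h k) tr htr
    have e1 : F.obj.map (sqE₁ (h k)).op sk = F.obj.map tr2.op (F.obj.map (sqE₁ (h j)).op sj) := by
      change (F.obj.map tr.op ≫ F.obj.map (sqE₁ (h k)).op) sj =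
        (F.obj.map (sqE₁ (h j)).op ≫ F.obj.map tr2.op) sj
      rw [← Functor.map_comp, ← Functor.map_comp, ← op_comp, ← op_comp, sqMapE_fst]
    have e2 : F.obj.map (sqE₂ (h k)).op sk = F.obj.map tr2.op (F.obj.map (sqE₂ (h j)).op sj) := by
      change (F.obj.map tr.op ≫ F.obj.map (sqE₂ (h k)).op) sj =
        (F.obj.map (sqE₂ (h j)).op ≫ F.obj.map tr2.op) sj
      rw [← Functor.map_comp, ← Functor.map_comp, ← op_comp, ← op_comp, sqMapE_snd]
    have e3 : F.obj.map tr2.op δ = 0 := by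
      have hrange : Set.range tr2.left.base ⊆ Set.range O.ι.base := by
        rw [Scheme.Opens.range_ι]
        rintro _ ⟨w, rfl⟩
        exact hw w
      let l₀ : (sqE (h k)).left ⟶ (O : Scheme) := IsOpenImmersion.lift O.ι tr2.left hrange
      have hl₀ : l₀ ≫ O.ι = tr2.left := IsOpenImmersion.lift_fac _ _ _
      let l : sqE (h k) ⟶ opnE (sqE (h j)) O := MorphismProperty.Over.homMk l₀ (by
        change l₀ ≫ O.ι ≫ (sqE (h j)).hom = (sqE (h k)).hom
        rw [← Category.assoc, hl₀]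
        exact MorphismProperty.Over.w tr2)
      have hl : l ≫ opnEι (sqE (h j)) O = tr2 := MorphismProperty.Over.Hom.ext hl₀
      rw [← hl, op_comp, Functor.map_comp]
      change F.obj.map l.op (F.obj.map (opnEι (sqE (h j)) O).op δ) = 0
      rw [hO2, map_zero]
    have e4 : F.obj.map tr2.op δ =
        F.obj.map tr2.op (F.obj.map (sqE₁ (h j)).op sj) -
          F.obj.map tr2.op (F.obj.map (sqE₂ (h j)).op sj) := map_sub _ _ _
    rw [e1, e2, ← sub_eq_zero, ← e4, e3]
  -- step 11: descent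
  have hgk : (π k).left ≫ (h k).left = g.left := congrArg (fun m => m.left) (hπ k)
  have hcov : Sieve.ofArrows (fun _ : Unit => S k) (fun _ => h k) ∈
      X.smallEtaleTopology U := by
    rw [Scheme.ofArrows_mem_smallEtaleTopology_iff]
    ext y
    simp only [Set.mem_iUnion, Set.mem_univ, iff_true]
    obtain ⟨v, hv⟩ := ‹Surjective g.left›.surj y
    refine ⟨(), (π k).left.base v, ?_⟩
    have h5 : ((π k).left ≫ (h k).left).base v = g.left.base v :=
      congrArg (fun m => m.base v) hgk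
    exact h5.trans hv
  have hP : Presieve.IsSheaf X.smallEtaleTopology (F.obj ⋙ forget AddCommGrpCat.{u + 1}) :=
    (isSheaf_iff_isSheaf_of_type _ _).1
      ((Presheaf.isSheaf_iff_isSheaf_forget _ F.obj (forget _)).1 F.property)
  have hsh := hP _ hcov
  rw [Sieve.ofArrows, ← Presieve.isSheafFor_iff_generate, Presieve.isSheafFor_arrows_iff] at hsh
  have hcompat : Presieve.Arrows.Compatible (F.obj ⋙ forget AddCommGrpCat.{u + 1})
      (fun _ : Unit => h k) (fun _ => sk) := by
    intro _ _ Z a b hab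
    obtain ⟨m, hm1, hm2⟩ := sqE_exists_lift (h k) a b hab
    change F.obj.map a.op sk = F.obj.map b.op sk
    rw [← hm1, ← hm2, op_comp, op_comp, Functor.map_comp, Functor.map_comp]
    change F.obj.map m.op (F.obj.map (sqE₁ (h k)).op sk) =
      F.obj.map m.op (F.obj.map (sqE₂ (h k)).op sk)
    rw [hk]
  obtain ⟨s₀, hs₀, -⟩ := hsh _ hcompat
  have hs₀' : F.obj.map (h k).op s₀ = sk := hs₀ ()
  refine ⟨s₀, ?_⟩
  -- step 12
  have hsheafQ : Presieve.IsSheaf J (Q ⋙ forget AddCommGrpCat.{u + 1}) :=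
    (isSheaf_iff_isSheaf_of_type _ _).1
      ((Presheaf.isSheaf_iff_isSheaf_forget J Q (forget _)).1
        ((presheafToSheaf J _).obj (P F.obj)).property)
  have hmain : Q.map g.op (τ.app (op ((ProEtS.eps X).obj U)) (rep F.obj U (𝟙 _) s₀)) =
      Q.map g.op t := by
    rw [← hτ, rep_map, Category.comp_id, ← hx]
    congr 1
    rw [← hπ k, rep_comp, hs₀']
    change rep F.obj (S k) (π k) (F.obj.map tr.op sj) = _
    rw [← rep_comp, hπk]
  refine (hsheafQ.isSheafFor _ (singleton_mem g)).isSeparatedFor.ext ?_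
  rintro Y f ⟨⟩
  exact hmain

end Groth.Agent.Lib.Helper4.PEps
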