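import Mathlib

/-!
# The fibre squares of a limit cone over a base form a limit cone
-/

set_option autoImplicit false
set_option linter.style.haveILetI false
set_option linter.unusedSectionVars false

namespace Groth.Agent.Lib.Helper4.SqLimit

open CategoryTheory CategoryTheory.Limits

universe v u w w'

variable {C : Type u} [Category.{v} C] [HasPullbacks C]

theorem map_fst {W X Y Z S T : C} (f₁ : W ⟶ S) (f₂ : X ⟶ S) (g₁ : Y ⟶ T) (g₂ : Z ⟶ T)
    (i₁ : W ⟶ Y) (i₂ : X ⟶ Z) (i₃ : S ⟶ T) (e₁ : f₁ ≫ i₃ = i₁ ≫ g₁) (e₂ : f₂ ≫ i₃ = i₂ ≫ g₂) :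
    pullback.map f₁ f₂ g₁ g₂ i₁ i₂ i₃ e₁ e₂ ≫ pullback.fst g₁ g₂ = pullback.fst f₁ f₂ ≫ i₁ :=
  pullback.lift_fst _ _ _

theorem map_snd {W X Y Z S T : C} (f₁ : W ⟶ S) (f₂ : X ⟶ S) (g₁ : Y ⟶ T) (g₂ : Z ⟶ T)
    (i₁ : W ⟶ Y) (i₂ : X ⟶ Z) (i₃ : S ⟶ T) (e₁ : f₁ ≫ i₃ = i₁ ≫ g₁) (e₂ : f₂ ≫ i₃ = i₂ ≫ g₂) :
    pullback.map f₁ f₂ g₁ g₂ i₁ i₂ i₃ e₁ e₂ ≫ pullback.snd g₁ g₂ = pullback.snd f₁ f₂ ≫ i₂ :=
  pullback.lift_snd _ _ _

variable {I : Type w} [Category.{w'} I] (D : I ⥤ C) {B : C} (q : ∀ i, D.obj i ⟶ B)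
  (hqn : ∀ {i j : I} (f : i ⟶ j), D.map f ≫ q j = q i)

include hqn in
theorem sqMap_comm {i j : I} (f : i ⟶ j) : q i ≫ 𝟙 B = D.map f ≫ q j :=
  (Category.comp_id _).trans (hqn f).symm

/-- the functor of fibre squares -/
noncomputable abbrev sqFunctor : I ⥤ C where
  obj i := pullback (q i) (q i)
  map {i j} f := pullback.map (q i) (q i) (q j) (q j) (D.map f) (D.map f) (𝟙 B)
    (sqMap_comm D q hqn f) (sqMap_comm D q hqn f)
  map_id i := by
    apply pullback.hom_ext
    · rw [map_fst, D.map_id, Category.comp_id, Category.id_comp]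
    · rw [map_snd, D.map_id, Category.comp_id, Category.id_comp]
  map_comp f g := by
    apply pullback.hom_ext
    · rw [map_fst, Category.assoc, map_fst, ← Category.assoc, map_fst, Category.assoc, D.map_comp]
    · rw [map_snd, Category.assoc, map_snd, ← Category.assoc, map_snd, Category.assoc, D.map_comp]

theorem sqFunctor_map_fst {i j : I} (f : i ⟶ j) :
    (sqFunctor D q hqn).map f ≫ pullback.fst (q j) (q j) = pullback.fst (q i) (q i) ≫ D.map f :=
  map_fst (q i) (q i) (q j) (q j) (D.map f) (D.map f) (𝟙 B)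
    (sqMap_comm D q hqn f) (sqMap_comm D q hqn f)

theorem sqFunctor_map_snd {i j : I} (f : i ⟶ j) :
    (sqFunctor D q hqn).map f ≫ pullback.snd (q j) (q j) = pullback.snd (q i) (q i) ≫ D.map f :=
  map_snd (q i) (q i) (q j) (q j) (D.map f) (D.map f) (𝟙 B)
    (sqMap_comm D q hqn f) (sqMap_comm D q hqn f)

variable (c : Cone D) (qinf : c.pt ⟶ B) (hq : ∀ i, c.π.app i ≫ q i = qinf)

include hq in
theorem sqCone_comm (i : I) : qinf ≫ 𝟙 B = c.π.app i ≫ q i :=
  (Category.comp_id _).trans (hq i).symm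

/-- the legs of the cone of fibre squares -/
noncomputable def sqLeg (i : I) : pullback qinf qinf ⟶ pullback (q i) (q i) :=
  pullback.map qinf qinf (q i) (q i) (c.π.app i) (c.π.app i) (𝟙 B)
    (sqCone_comm D q c qinf hq i) (sqCone_comm D q c qinf hq i)

theorem sqLeg_fst (i : I) : sqLeg D q c qinf hq i ≫ pullback.fst (q i) (q i) =
    pullback.fst qinf qinf ≫ c.π.app i :=
  map_fst qinf qinf (q i) (q i) (c.π.app i) (c.π.app i) (𝟙 B)
    (sqCone_comm D q c qinf hq i) (sqCone_comm D q c qinf hq i)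

theorem sqLeg_snd (i : I) : sqLeg D q c qinf hq i ≫ pullback.snd (q i) (q i) =
    pullback.snd qinf qinf ≫ c.π.app i :=
  map_snd qinf qinf (q i) (q i) (c.π.app i) (c.π.app i) (𝟙 B)
    (sqCone_comm D q c qinf hq i) (sqCone_comm D q c qinf hq i)

theorem sqLeg_naturality {i j : I} (f : i ⟶ j) :
    sqLeg D q c qinf hq i ≫ (sqFunctor D q hqn).map f = sqLeg D q c qinf hq j := by
  have hw : c.π.app i ≫ D.map f = c.π.app j := c.w f
  apply pullback.hom_ext
  · rw [Category.assoc, sqFunctor_map_fst, ← Category.assoc, sqLeg_fst, Category.assoc, hw,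
      sqLeg_fst]
  · rw [Category.assoc, sqFunctor_map_snd, ← Category.assoc, sqLeg_snd, Category.assoc, hw,
      sqLeg_snd]

/-- the cone of fibre squares -/
noncomputable abbrev sqCone : Cone (sqFunctor D q hqn) where
  pt := pullback qinf qinf
  π :=
    { app := fun i => sqLeg D q c qinf hq i
      naturality := fun i j f =>
        (Category.id_comp _).trans (sqLeg_naturality D q hqn c qinf hq f).symm }

theorem sqCone_π_fst (i : I) : (sqCone D q hqn c qinf hq).π.app i ≫ pullback.fst (q i) (q i) =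
    pullback.fst qinf qinf ≫ c.π.app i := sqLeg_fst D q c qinf hq i

theorem sqCone_π_snd (i : I) : (sqCone D q hqn c qinf hq).π.app i ≫ pullback.snd (q i) (q i) =
    pullback.snd qinf qinf ≫ c.π.app i := sqLeg_snd D q c qinf hq i

theorem aux₁_naturality (s : Cone (sqFunctor D q hqn)) {i j : I} (f : i ⟶ j) :
    (s.π.app i ≫ pullback.fst (q i) (q i)) ≫ D.map f = s.π.app j ≫ pullback.fst (q j) (q j) := by
  have h1 : s.π.app i ≫ (sqFunctor D q hqn).map f = s.π.app j := s.w f
  rw [← h1, Category.assoc, Category.assoc, sqFunctor_map_fst]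

theorem aux₂_naturality (s : Cone (sqFunctor D q hqn)) {i j : I} (f : i ⟶ j) :
    (s.π.app i ≫ pullback.snd (q i) (q i)) ≫ D.map f = s.π.app j ≫ pullback.snd (q j) (q j) := by
  have h1 : s.π.app i ≫ (sqFunctor D q hqn).map f = s.π.app j := s.w f
  rw [← h1, Category.assoc, Category.assoc, sqFunctor_map_snd]

/-- auxiliary cone -/
noncomputable abbrev auxCone₁ (s : Cone (sqFunctor D q hqn)) : Cone D where
  pt := s.pt
  π :=
    { app := fun i => s.π.app i ≫ pullback.fst (q i) (q i)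
      naturality := fun i j f =>
        (Category.id_comp _).trans (aux₁_naturality D q hqn s f).symm }

/-- auxiliary cone -/
noncomputable abbrev auxCone₂ (s : Cone (sqFunctor D q hqn)) : Cone D where
  pt := s.pt
  π :=
    { app := fun i => s.π.app i ≫ pullback.snd (q i) (q i)
      naturality := fun i j f =>
        (Category.id_comp _).trans (aux₂_naturality D q hqn s f).symm }

variable [Nonempty I]

include hq in
theorem lift_comm (hc : IsLimit c) (s : Cone (sqFunctor D q hqn)) :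
    hc.lift (auxCone₁ D q hqn s) ≫ qinf = hc.lift (auxCone₂ D q hqn s) ≫ qinf := by
  obtain ⟨i₀⟩ := ‹Nonempty I›
  rw [← hq i₀, ← Category.assoc, ← Category.assoc, hc.fac, hc.fac]
  change (s.π.app i₀ ≫ pullback.fst _ _) ≫ _ = (s.π.app i₀ ≫ pullback.snd _ _) ≫ _
  rw [Category.assoc, Category.assoc, pullback.condition]

/-- the cone of fibre squares of a limit cone is a limit cone -/
noncomputable def sqIsLimit (hc : IsLimit c) : IsLimit (sqCone D q hqn c qinf hq) where
  lift s := pullback.lift (hc.lift (auxCone₁ D q hqn s)) (hc.lift (auxCone₂ D q hqn s))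
    (lift_comm D q hqn c qinf hq hc s)
  fac s i := by
    apply pullback.hom_ext
    · rw [Category.assoc, sqCone_π_fst, ← Category.assoc, pullback.lift_fst, hc.fac]
    · rw [Category.assoc, sqCone_π_snd, ← Category.assoc, pullback.lift_snd, hc.fac]
  uniq s m hm := by
    apply pullback.hom_ext
    · rw [pullback.lift_fst]
      apply hc.hom_ext
      intro i
      rw [hc.fac, Category.assoc, ← sqCone_π_fst D q hqn c qinf hq i, ← Category.assoc, hm i]
    · rw [pullback.lift_snd]
      apply hc.hom_ext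
      intro i
      rw [hc.fac, Category.assoc, ← sqCone_π_snd D q hqn c qinf hq i, ← Category.assoc, hm i]

end Groth.Agent.Lib.Helper4.SqLimit
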