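import Mathlib
import Groth.Prelude.Def_ProEtS
import Groth.Agent.Lib.Helper4.PEps8
import Groth.Agent.Lib.Helper4.SqLimit

/-!
# Surjectivity of the unit `F → ε_* ε⁻¹ F` on an étale object covered by a limit of étale objects
-/

set_option autoImplicit false
set_option linter.style.haveILetI false
set_option linter.unusedSectionVars false
universe u

namespace Groth.Agent.Lib.Helper4.PEps

open CategoryTheory CategoryTheory.Limits AlgebraicGeometry Opposite Groth.Agent.Lib.Helper4.PE

variable {X : Scheme.{u}}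

set_option backward.isDefEq.respectTransparency.types false in
set_option maxHeartbeats 4000000 in
theorem exists_preimage_of_limit (F : EtCoh.Ab X) (U : X.Etale) [IsAffine U.left]
    {I : Type u} [SmallCategory I] [IsCofiltered I] (𝒟 : I ⥤ Scheme.{u})
    [∀ i, IsAffine (𝒟.obj i)]
    (q : ∀ i, 𝒟.obj i ⟶ U.left) (hqn : ∀ {i j : I} (f : i ⟶ j), 𝒟.map f ≫ q j = q i)
    [∀ i, Etale (q i)]
    (c : Cone 𝒟) (hc : IsLimit c) [IsAffine c.pt] (qinf : c.pt ⟶ U.left)
    (hq : ∀ i, c.π.app i ≫ q i = qinf)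
    [WeaklyEtale qinf] [Surjective qinf] (hwc : EtPBC.IsWContractible Γ(c.pt, ⊤))
    (t : (sheafify (Scheme.ProEt.topology X) (P F.obj)).obj (op ((ProEtS.eps X).obj U))) :
    ∃ s₀ : F.obj.obj (op U),
      (toSheafify (Scheme.ProEt.topology X) (P F.obj)).app (op ((ProEtS.eps X).obj U))
        (rep F.obj U (𝟙 _) s₀) = t := by
  haveI : Etale U.hom := U.prop
  haveI : WeaklyEtale U.hom := inferInstance
  let V : X.ProEt := Scheme.ProEt.mk (qinf ≫ U.hom)
  let g : V ⟶ (ProEtS.eps X).obj U := MorphismProperty.Over.homMk qinf rfl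
  let S : I → X.Etale := fun i => Scheme.Etale.mk (q i ≫ U.hom)
  let h : ∀ i, S i ⟶ U := fun i => MorphismProperty.Over.homMk (q i) rfl
  let π : ∀ i, V ⟶ (ProEtS.eps X).obj (S i) := fun i =>
    MorphismProperty.Over.homMk (c.π.app i) (by
      change c.π.app i ≫ q i ≫ U.hom = qinf ≫ U.hom
      rw [← Category.assoc, hq i])
  have hπ : ∀ i, π i ≫ (ProEtS.eps X).map (h i) = g := fun i =>
    MorphismProperty.Over.Hom.ext (hq i)
  haveI : IsAffine V.left := inferInstanceAs (IsAffine c.pt)
  have hV : ProEtS.IsWC V := isWC_of_isWContractible V hwc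
  haveI : Surjective g.left := inferInstanceAs (Surjective qinf)
  haveI : QuasiCompact g.left := inferInstanceAs (QuasiCompact qinf)
  haveI : IsAffine (sqP g).left := inferInstanceAs (IsAffine (pullback qinf qinf))
  refine exists_preimage_of_tower F U V hV g S h π hπ ?_ ?_ t
  · -- factorization
    intro T a
    let tX : 𝒟 ⟶ (Functor.const I).obj X :=
      { app := fun i => q i ≫ U.hom
        naturality := by
          intro i j f
          change 𝒟.map f ≫ q j ≫ U.hom = (q i ≫ U.hom) ≫ 𝟙 X
          exact ((Category.assoc _ _ _).symm.trans (congrArg (fun m => m ≫ U.hom) (hqn f))).trans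
            (Category.comp_id _).symm }
    haveI : Etale T.hom := T.prop
    haveI : LocallyOfFinitePresentation T.hom := inferInstance
    have ha : c.π ≫ tX = (Functor.const I).map (a.left ≫ T.hom) := by
      ext i : 2
      change c.π.app i ≫ q i ≫ U.hom = a.left ≫ T.hom
      rw [← Category.assoc, hq i]
      exact (MorphismProperty.Over.w a).symm
    obtain ⟨i, gi, hgi, hgi'⟩ := Scheme.exists_π_app_comp_eq_of_locallyOfFinitePresentation
      𝒟 tX T.hom c hc a.left ha
    exact ⟨i, MorphismProperty.Over.homMk gi hgi', MorphismProperty.Over.Hom.ext hgi⟩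
  · -- shrinking
    intro j O hO
    let 𝒟2 := SqLimit.sqFunctor 𝒟 q hqn
    let c2 := SqLimit.sqCone 𝒟 q hqn c qinf hq
    haveI : Nonempty I := IsCofiltered.nonempty
    have hc2 : IsLimit c2 := SqLimit.sqIsLimit 𝒟 q hqn c qinf hq hc
    haveI : ∀ i, IsAffine (𝒟2.obj i) := fun i =>
      inferInstanceAs (IsAffine (pullback (q i) (q i)))
    have hO' : c2.π.app j ⁻¹ᵁ O = ⊤ := by
      ext v
      simp only [TopologicalSpace.Opens.coe_top, Set.mem_univ, iff_true]
      exact hO v
    obtain ⟨k, f, hf⟩ := exists_map_eq_top 𝒟2 c2 hc2 O hO'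
    refine ⟨k, MorphismProperty.Over.homMk (𝒟.map f) (by
      change 𝒟.map f ≫ q j ≫ U.hom = q k ≫ U.hom
      rw [← Category.assoc, hqn f]), MorphismProperty.Over.Hom.ext (hqn f),
      MorphismProperty.Over.Hom.ext (c.w f), ?_⟩
    intro w
    have hw : w ∈ (𝒟2.map f ⁻¹ᵁ O : Set (𝒟2.obj k)) := by
      rw [hf]
      trivial
    exact hw

end Groth.Agent.Lib.Helper4.PEps
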