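import Mathlib
import Groth.Prelude.Def_ProEtS
import Groth.Agent.Lib.Helper4.PEps9
import Groth.Agent.Lib.Helper4.WcCover

/-!
# Surjectivity of the unit `F → ε_* ε⁻¹ F` on affine étale objects
-/

set_option autoImplicit false
set_option linter.style.haveILetI false
set_option linter.unusedSectionVars false
universe u

namespace Groth.Agent.Lib.Helper4.PEps

open CategoryTheory CategoryTheory.Limits AlgebraicGeometry Opposite Groth.Agent.Lib.Helper4.PE

variable {X : Scheme.{u}}

set_option backward.isDefEq.respectTransparency.types false in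
set_option maxHeartbeats 4000000 in
theorem exists_preimage_of_isAffine (F : EtCoh.Ab X) (U : X.Etale) [IsAffine U.left]
    (t : (sheafify (Scheme.ProEt.topology X) (P F.obj)).obj (op ((ProEtS.eps X).obj U))) :
    ∃ s₀ : F.obj.obj (op U),
      (toSheafify (Scheme.ProEt.topology X) (P F.obj)).app (op ((ProEtS.eps X).obj U))
        (rep F.obj U (𝟙 _) s₀) = t := by
  obtain ⟨D, instD, algD, hff, hEt, hWc⟩ :=
    WcCover.exists_wContractible_cover Γ(U.left, ⊤)
  obtain ⟨J₀, instJ, hJ, Dg, c₀, hc₀, hst, ⟨e⟩⟩ := hEt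
  haveI := hff
  haveI hwe : Algebra.WeaklyEtale Γ(U.left, ⊤) D := IndEt.weaklyEtale_of_isIndEtale _ _ ⟨J₀, instJ, hJ, Dg, c₀, hc₀, hst, ⟨e⟩⟩
  haveI : IsConnected J₀ := IsFiltered.isConnected J₀
  let Dg' : J₀ ⥤ CommRingCat.{u} := Dg ⋙ Under.forget _
  let c' : Cocone Dg' := (Under.forget _).mapCocone c₀
  have hc' : IsColimit c' := isColimitOfPreserves (Under.forget _) hc₀
  let 𝒟 : J₀ᵒᵖ ⥤ Scheme.{u} := Dg'.op ⋙ Scheme.Spec
  let c : Cone 𝒟 := Scheme.Spec.mapCone c'.op
  have hc : IsLimit c := isLimitOfPreserves Scheme.Spec hc'.op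
  haveI : ∀ i, IsAffine (𝒟.obj i) := fun i =>
    inferInstanceAs (IsAffine (Spec (Dg.obj i.unop).right))
  haveI : IsAffine c.pt := inferInstanceAs (IsAffine (Spec c₀.pt.right))
  let q : ∀ i, 𝒟.obj i ⟶ U.left := fun i => Spec.map (Dg.obj i.unop).hom ≫ U.left.isoSpec.inv
  have hqn : ∀ {i j : J₀ᵒᵖ} (f : i ⟶ j), 𝒟.map f ≫ q j = q i := by
    intro i j f
    change Spec.map (Dg.map f.unop).right ≫ Spec.map (Dg.obj j.unop).hom ≫ U.left.isoSpec.inv =
      Spec.map (Dg.obj i.unop).hom ≫ U.left.isoSpec.inv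
    rw [← Category.assoc, ← Spec.map_comp, Under.w]
  haveI : ∀ i, Etale (q i) := by
    intro i
    have h1 : Etale (Spec.map (Dg.obj i.unop).hom) := by
      letI := (Dg.obj i.unop).hom.hom.toAlgebra
      exact HasRingHomProperty.Spec_iff.mpr (RingHom.etale_algebraMap.mpr (hst i.unop))
    exact inferInstanceAs (Etale (Spec.map (Dg.obj i.unop).hom ≫ U.left.isoSpec.inv))
  let qinf : c.pt ⟶ U.left := Spec.map c₀.pt.hom ≫ U.left.isoSpec.inv
  have hq : ∀ i, c.π.app i ≫ q i = qinf := by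
    intro i
    change Spec.map (c₀.ι.app i.unop).right ≫ Spec.map (Dg.obj i.unop).hom ≫ U.left.isoSpec.inv =
      Spec.map c₀.pt.hom ≫ U.left.isoSpec.inv
    rw [← Category.assoc, ← Spec.map_comp, Under.w]
    rfl
  -- the limit is the chosen w-contractible cover
  let φ : Γ(U.left, ⊤) ⟶ CommRingCat.of D := CommRingCat.ofHom (algebraMap Γ(U.left, ⊤) D)
  let ψ : CommRingCat.of D ⟶ c₀.pt.right := e.inv.right
  haveI : IsIso ψ := inferInstanceAs (IsIso e.inv.right)
  have hφ : c₀.pt.hom = φ ≫ ψ := (Under.w e.inv).symm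
  haveI h1 : WeaklyEtale (Spec.map φ) :=
    Groth.Agent.Lib.Helper4.IndEt.weaklyEtale_SpecMap_of_weaklyEtale Γ(U.left, ⊤) D
  haveI h2 : Surjective (Spec.map φ) := by
    have h3 : φ.hom.FaithfullyFlat := by
      rw [RingHom.FaithfullyFlat]
      have : RingHom.toAlgebra (algebraMap Γ(U.left, ⊤) D) =
          (inferInstance : Algebra Γ(U.left, ⊤) D) := Algebra.algebra_ext _ _ (fun _ => rfl)
      change @Module.FaithfullyFlat Γ(U.left, ⊤) D _ _
        (RingHom.toAlgebra (algebraMap Γ(U.left, ⊤) D)).toModule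
      rw [this]
      exact hff
    exact ((flat_and_surjective_SpecMap_iff φ).mpr h3).2
  haveI : IsIso (Spec.map ψ) := inferInstance
  haveI : IsOpenImmersion (Spec.map ψ) := inferInstance
  haveI : Etale (Spec.map ψ) := inferInstance
  haveI : WeaklyEtale (Spec.map ψ) := inferInstance
  haveI : Surjective (Spec.map ψ) := inferInstance
  haveI : WeaklyEtale (Spec.map φ ≫ U.left.isoSpec.inv) := inferInstance
  haveI : Surjective (Spec.map φ ≫ U.left.isoSpec.inv) := inferInstance
  have hqinf : qinf = Spec.map ψ ≫ Spec.map φ ≫ U.left.isoSpec.inv := by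
    change Spec.map c₀.pt.hom ≫ U.left.isoSpec.inv = _
    rw [hφ, Spec.map_comp, Category.assoc]
  haveI : WeaklyEtale qinf := by
    rw [hqinf]
    exact MorphismProperty.comp_mem @WeaklyEtale (Spec.map ψ) (Spec.map φ ≫ U.left.isoSpec.inv)
      inferInstance inferInstance
  haveI : Surjective qinf := by
    rw [hqinf]
    exact MorphismProperty.comp_mem @Surjective (Spec.map ψ) (Spec.map φ ≫ U.left.isoSpec.inv)
      inferInstance inferInstance
  have hwc : EtPBC.IsWContractible Γ(c.pt, ⊤) := by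
    have e1 : D ≃+* c₀.pt.right := (asIso ψ).commRingCatIsoToRingEquiv
    have e2 : c₀.pt.right ≃+* Γ(Spec c₀.pt.right, ⊤) :=
      (Scheme.ΓSpecIso c₀.pt.right).symm.commRingCatIsoToRingEquiv
    exact isWContractible_of_ringEquiv (e1.trans e2) hWc
  exact exists_preimage_of_limit F U 𝒟 q hqn c hc qinf hq hwc t

end Groth.Agent.Lib.Helper4.PEps
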