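import Mathlib
import Groth.Prelude.Def_ProEtS
import Groth.Agent.Lib.Helper4.PELim4
import Groth.Agent.Lib.Helper4.PEps10

/-!
# A weakly contractible cover of an affine object as a limit of étale affine objects over it
-/

set_option autoImplicit false
set_option linter.style.haveILetI false
set_option linter.unusedSectionVars false
universe u

namespace Groth.Agent.Lib.Helper4.PELim

open CategoryTheory CategoryTheory.Limits AlgebraicGeometry Opposite Groth.Agent.Lib.Helper4.PE
  Groth.Agent.Lib.Helper4.PEps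

variable {X : Scheme.{u}}

/-- a cofiltered system of affine objects étale over `V`, with weakly contractible limit covering
`V` -/
structure WcSystem (V : X.ProEt) where
  /-- index category -/
  K : Type u
  /-- category structure -/
  [cat : SmallCategory K]
  /-- cofilteredness -/
  [cof : IsCofiltered K]
  /-- the system -/
  E : K ⥤ X.ProEt
  /-- the cone -/
  cE : Cone E
  /-- the cone is a limit cone at the level of schemes -/
  hcE : IsLimit ((US X).mapCone cE)
  /-- the structure maps to `V` -/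
  q : ∀ k, E.obj k ⟶ V
  /-- the map from the limit -/
  g : cE.pt ⟶ V
  hqn : ∀ {k k' : K} (f : k ⟶ k'), E.map f ≫ q k' = q k
  hq : ∀ k, cE.π.app k ≫ q k = g
  aff : ∀ k, IsAffine (E.obj k).left
  et : ∀ k, Etale (q k).left
  wc : ProEtS.IsWC cE.pt
  surj : Surjective g.left
  qc : QuasiCompact g.left

attribute [instance] WcSystem.cat WcSystem.cof

set_option backward.isDefEq.respectTransparency.types false in
set_option maxHeartbeats 4000000 in
theorem nonempty_wcSystem (V : X.ProEt) [IsAffine V.left] : Nonempty (WcSystem V) := by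
  obtain ⟨D, instD, algD, hff, hEt, hWc⟩ :=
    WcCover.exists_wContractible_cover Γ(V.left, ⊤)
  obtain ⟨J₀, instJ, hJ, Dg, c₀, hc₀, hst, ⟨e⟩⟩ := hEt
  haveI := hff
  haveI hwe : Algebra.WeaklyEtale Γ(V.left, ⊤) D :=
    IndEt.weaklyEtale_of_isIndEtale _ _ ⟨J₀, instJ, hJ, Dg, c₀, hc₀, hst, ⟨e⟩⟩
  haveI : IsConnected J₀ := IsFiltered.isConnected J₀
  let Dg' : J₀ ⥤ CommRingCat.{u} := Dg ⋙ Under.forget _
  let c' : Cocone Dg' := (Under.forget _).mapCocone c₀
  have hc' : IsColimit c' := isColimitOfPreserves (Under.forget _) hc₀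
  let 𝒟 : J₀ᵒᵖ ⥤ Scheme.{u} := Dg'.op ⋙ Scheme.Spec
  let c : Cone 𝒟 := Scheme.Spec.mapCone c'.op
  have hc : IsLimit c := isLimitOfPreserves Scheme.Spec hc'.op
  haveI : ∀ i, IsAffine (𝒟.obj i) := fun i =>
    inferInstanceAs (IsAffine (Spec (Dg.obj i.unop).right))
  haveI : IsAffine c.pt := inferInstanceAs (IsAffine (Spec c₀.pt.right))
  let q : ∀ i, 𝒟.obj i ⟶ V.left := fun i => Spec.map (Dg.obj i.unop).hom ≫ V.left.isoSpec.inv
  have hqn : ∀ {i j : J₀ᵒᵖ} (f : i ⟶ j), 𝒟.map f ≫ q j = q i := by
    intro i j f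
    change Spec.map (Dg.map f.unop).right ≫ Spec.map (Dg.obj j.unop).hom ≫ V.left.isoSpec.inv =
      Spec.map (Dg.obj i.unop).hom ≫ V.left.isoSpec.inv
    rw [← Category.assoc, ← Spec.map_comp, Under.w]
  haveI hqet : ∀ i, Etale (q i) := by
    intro i
    have h1 : Etale (Spec.map (Dg.obj i.unop).hom) := by
      letI := (Dg.obj i.unop).hom.hom.toAlgebra
      exact HasRingHomProperty.Spec_iff.mpr (RingHom.etale_algebraMap.mpr (hst i.unop))
    exact inferInstanceAs (Etale (Spec.map (Dg.obj i.unop).hom ≫ V.left.isoSpec.inv))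
  let qinf : c.pt ⟶ V.left := Spec.map c₀.pt.hom ≫ V.left.isoSpec.inv
  have hq : ∀ i, c.π.app i ≫ q i = qinf := by
    intro i
    change Spec.map (c₀.ι.app i.unop).right ≫ Spec.map (Dg.obj i.unop).hom ≫ V.left.isoSpec.inv =
      Spec.map c₀.pt.hom ≫ V.left.isoSpec.inv
    rw [← Category.assoc, ← Spec.map_comp, Under.w]
    rfl
  -- the limit is the chosen w-contractible cover
  let φ : Γ(V.left, ⊤) ⟶ CommRingCat.of D := CommRingCat.ofHom (algebraMap Γ(V.left, ⊤) D)
  let ψ : CommRingCat.of D ⟶ c₀.pt.right := e.inv.right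
  haveI : IsIso ψ := inferInstanceAs (IsIso e.inv.right)
  have hφ : c₀.pt.hom = φ ≫ ψ := (Under.w e.inv).symm
  haveI h1 : WeaklyEtale (Spec.map φ) :=
    Groth.Agent.Lib.Helper4.IndEt.weaklyEtale_SpecMap_of_weaklyEtale Γ(V.left, ⊤) D
  haveI h2 : Surjective (Spec.map φ) := by
    have h3 : φ.hom.FaithfullyFlat := by
      rw [RingHom.FaithfullyFlat]
      have : RingHom.toAlgebra (algebraMap Γ(V.left, ⊤) D) =
          (inferInstance : Algebra Γ(V.left, ⊤) D) := Algebra.algebra_ext _ _ (fun _ => rfl)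
      change @Module.FaithfullyFlat Γ(V.left, ⊤) D _ _
        (RingHom.toAlgebra (algebraMap Γ(V.left, ⊤) D)).toModule
      rw [this]
      exact hff
    exact ((flat_and_surjective_SpecMap_iff φ).mpr h3).2
  haveI : IsIso (Spec.map ψ) := inferInstance
  haveI : IsOpenImmersion (Spec.map ψ) := inferInstance
  haveI : Etale (Spec.map ψ) := inferInstance
  haveI : WeaklyEtale (Spec.map ψ) := inferInstance
  haveI : Surjective (Spec.map ψ) := inferInstance
  haveI : WeaklyEtale (Spec.map φ ≫ V.left.isoSpec.inv) := inferInstance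
  haveI : Surjective (Spec.map φ ≫ V.left.isoSpec.inv) := inferInstance
  have hqinf : qinf = Spec.map ψ ≫ Spec.map φ ≫ V.left.isoSpec.inv := by
    change Spec.map c₀.pt.hom ≫ V.left.isoSpec.inv = _
    rw [hφ, Spec.map_comp, Category.assoc]
  haveI hqinfwe : WeaklyEtale qinf := by
    rw [hqinf]
    exact MorphismProperty.comp_mem @WeaklyEtale (Spec.map ψ) (Spec.map φ ≫ V.left.isoSpec.inv)
      inferInstance inferInstance
  haveI hqinfs : Surjective qinf := by
    rw [hqinf]
    exact MorphismProperty.comp_mem @Surjective (Spec.map ψ) (Spec.map φ ≫ V.left.isoSpec.inv)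
      inferInstance inferInstance
  have hwc : EtPBC.IsWContractible Γ(c.pt, ⊤) := by
    have e1 : D ≃+* c₀.pt.right := (asIso ψ).commRingCatIsoToRingEquiv
    have e2 : c₀.pt.right ≃+* Γ(Spec c₀.pt.right, ⊤) :=
      (Scheme.ΓSpecIso c₀.pt.right).symm.commRingCatIsoToRingEquiv
    exact isWContractible_of_ringEquiv (e1.trans e2) hWc
  -- package as objects of the pro-étale site
  haveI : ∀ i, WeaklyEtale (q i) := fun i => inferInstance
  haveI hqV : ∀ i, WeaklyEtale (q i ≫ V.hom) := fun i =>
    MorphismProperty.comp_mem @WeaklyEtale (q i) V.hom inferInstance inferInstance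
  haveI hqinfV : WeaklyEtale (qinf ≫ V.hom) :=
    MorphismProperty.comp_mem @WeaklyEtale qinf V.hom inferInstance inferInstance
  let E : J₀ᵒᵖ ⥤ X.ProEt :=
    { obj := fun i => Scheme.ProEt.mk (q i ≫ V.hom)
      map := fun {i j} f => MorphismProperty.Over.homMk (𝒟.map f) (by
        change 𝒟.map f ≫ q j ≫ V.hom = q i ≫ V.hom
        rw [← Category.assoc, hqn f])
      map_id := fun i => MorphismProperty.Over.Hom.ext (𝒟.map_id i)
      map_comp := fun f f' => MorphismProperty.Over.Hom.ext (𝒟.map_comp f f') }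
  let cE : Cone E :=
    { pt := Scheme.ProEt.mk (qinf ≫ V.hom)
      π :=
        { app := fun i => MorphismProperty.Over.homMk (c.π.app i) (by
            change c.π.app i ≫ q i ≫ V.hom = qinf ≫ V.hom
            rw [← Category.assoc, hq i])
          naturality := fun i j f => MorphismProperty.Over.Hom.ext (c.π.naturality f) } }
  have hcE : IsLimit ((US X).mapCone cE) := hc
  haveI : IsAffine cE.pt.left := inferInstanceAs (IsAffine c.pt)
  have hqinfqc : QuasiCompact qinf := inferInstance
  exact ⟨{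
    K := J₀ᵒᵖ
    E := E
    cE := cE
    hcE := hcE
    q := fun i => MorphismProperty.Over.homMk (q i) rfl
    g := MorphismProperty.Over.homMk qinf rfl
    hqn := fun f => MorphismProperty.Over.Hom.ext (hqn f)
    hq := fun i => MorphismProperty.Over.Hom.ext (hq i)
    aff := fun i => inferInstanceAs (IsAffine (𝒟.obj i))
    et := fun i => hqet i
    wc := isWC_of_isWContractible cE.pt hwc
    surj := hqinfs
    qc := hqinfqc }⟩

end Groth.Agent.Lib.Helper4.PELim
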