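import Mathlib
import Groth.Prelude.Def_ProEtS
import Groth.Agent.Lib.Helper4.PEC5
import Groth.Agent.Lib.Helper4.PELim5

/-!
# Geometric presentation of an ind-étale morphism of affine objects of the pro-étale site
-/

set_option autoImplicit false
set_option linter.style.haveILetI false
set_option linter.unusedSectionVars false
universe u

namespace Groth.Agent.Lib.Helper4.PEC

open CategoryTheory CategoryTheory.Limits AlgebraicGeometry Opposite Groth.Agent.Lib.Helper4.PE
  Groth.Agent.Lib.Helper4.PELim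

variable {X : Scheme.{u}}

/-- the cone with given vertex and legs -/
@[simps]
def coneOf {K : Type u} [SmallCategory K] (D : K ⥤ X.ProEt) (W : X.ProEt)
    (π : ∀ k, W ⟶ D.obj k) (hπ : ∀ {k k' : K} (f : k ⟶ k'), π k ≫ D.map f = π k') : Cone D where
  pt := W
  π :=
    { app := π
      naturality := fun k k' f => by
        change 𝟙 W ≫ π k' = π k ≫ D.map f
        rw [Category.id_comp, hπ f] }

/-- a presentation of `g : W ⟶ V` as a cofiltered limit of affine objects étale over `V` -/
structure IndSys {W V : X.ProEt} (g : W ⟶ V) where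
  /-- index category -/
  K : Type u
  /-- category structure -/
  [cat : SmallCategory K]
  /-- cofilteredness -/
  [cof : IsCofiltered K]
  /-- the system -/
  D : K ⥤ X.ProEt
  /-- the legs of the cone -/
  π : ∀ k, W ⟶ D.obj k
  hπ : ∀ {k k' : K} (f : k ⟶ k'), π k ≫ D.map f = π k'
  /-- the structure maps to `V` -/
  q : ∀ k, D.obj k ⟶ V
  hq : ∀ {k k' : K} (f : k ⟶ k'), D.map f ≫ q k' = q k
  hπq : ∀ k, π k ≫ q k = g
  aff : ∀ k, IsAffine (D.obj k).left
  et : ∀ k, Etale (q k).left
  /-- the cone is a limit cone at the level of schemes -/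
  lim : IsLimit ((US X).mapCone (coneOf D W π hπ))

attribute [instance] IndSys.cat IndSys.cof

set_option backward.isDefEq.respectTransparency.types false in
set_option maxHeartbeats 4000000 in
theorem nonempty_indSys {W V : X.ProEt} (g : W ⟶ V) [IsAffine W.left] [IsAffine V.left]
    (h : IE g.left) : Nonempty (IndSys g) := by
  letI alg : Algebra Γ(V.left, ⊤) Γ(W.left, ⊤) := g.left.appTop.hom.toAlgebra
  obtain ⟨J₀, instJ, hJ, Dg, c₀, hc₀, hst, ⟨e⟩⟩ := h
  haveI : IsConnected J₀ := IsFiltered.isConnected J₀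
  let Dg' : J₀ ⥤ CommRingCat.{u} := Dg ⋙ Under.forget _
  let c' : Cocone Dg' := (Under.forget _).mapCocone c₀
  have hc' : IsColimit c' := isColimitOfPreserves (Under.forget _) hc₀
  let 𝒟 : J₀ᵒᵖ ⥤ Scheme.{u} := Dg'.op ⋙ Scheme.Spec
  let c : Cone 𝒟 := Scheme.Spec.mapCone c'.op
  have hc : IsLimit c := isLimitOfPreserves Scheme.Spec hc'.op
  haveI : ∀ i, IsAffine (𝒟.obj i) := fun i =>
    inferInstanceAs (IsAffine (Spec (Dg.obj i.unop).right))
  let q : ∀ i, 𝒟.obj i ⟶ V.left := fun i => Spec.map (Dg.obj i.unop).hom ≫ V.left.isoSpec.inv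
  have hqn : ∀ {i j : J₀ᵒᵖ} (f : i ⟶ j), 𝒟.map f ≫ q j = q i := by
    intro i j f
    change Spec.map (Dg.map f.unop).right ≫ Spec.map (Dg.obj j.unop).hom ≫ V.left.isoSpec.inv =
      Spec.map (Dg.obj i.unop).hom ≫ V.left.isoSpec.inv
    rw [← Category.assoc, ← Spec.map_comp, Under.w]
  haveI hqet : ∀ i, Etale (q i) := by
    intro i
    have h1 : Etale (Spec.map (Dg.obj i.unop).hom) := by
      letI := (Dg.obj i.unop).hom.hom.toAlgebra
      exact HasRingHomProperty.Spec_iff.mpr (RingHom.etale_algebraMap.mpr (hst i.unop))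
    exact inferInstanceAs (Etale (Spec.map (Dg.obj i.unop).hom ≫ V.left.isoSpec.inv))
  -- the maps from `W`
  let θ : ∀ i : J₀ᵒᵖ, (Dg.obj i.unop).right ⟶ Γ(W.left, ⊤) := fun i =>
    (c₀.ι.app i.unop).right ≫ e.hom.right
  have hθ : ∀ i : J₀ᵒᵖ, (Dg.obj i.unop).hom ≫ θ i = g.left.appTop := by
    intro i
    change (Dg.obj i.unop).hom ≫ (c₀.ι.app i.unop).right ≫ e.hom.right = g.left.appTop
    rw [← Category.assoc, Under.w (c₀.ι.app i.unop)]
    exact Under.w e.hom
  let πs : ∀ i : J₀ᵒᵖ, W.left ⟶ 𝒟.obj i := fun i => W.left.isoSpec.hom ≫ Spec.map (θ i)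
  have hπs : ∀ i, πs i ≫ q i = g.left := by
    intro i
    change (W.left.isoSpec.hom ≫ Spec.map (θ i)) ≫ Spec.map (Dg.obj i.unop).hom ≫
      V.left.isoSpec.inv = g.left
    rw [Category.assoc, ← Category.assoc (Spec.map (θ i)), ← Spec.map_comp, hθ i,
      ← Category.assoc, Scheme.isoSpec_hom_naturality, Category.assoc, Iso.hom_inv_id,
      Category.comp_id]
  have hπn : ∀ {i j : J₀ᵒᵖ} (f : i ⟶ j), πs i ≫ 𝒟.map f = πs j := by
    intro i j f
    change (W.left.isoSpec.hom ≫ Spec.map (θ i)) ≫ Spec.map (Dg.map f.unop).right =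
      W.left.isoSpec.hom ≫ Spec.map (θ j)
    rw [Category.assoc, ← Spec.map_comp]
    congr 2
    change (Dg.map f.unop).right ≫ (c₀.ι.app i.unop).right ≫ e.hom.right =
      (c₀.ι.app j.unop).right ≫ e.hom.right
    rw [← Category.assoc]
    congr 1
    exact congrArg (fun m => m.right) (c₀.w f.unop)
  -- package as objects of the pro-étale site
  haveI : ∀ i, WeaklyEtale (q i) := fun i => inferInstance
  haveI hqV : ∀ i, WeaklyEtale (q i ≫ V.hom) := fun i =>
    MorphismProperty.comp_mem @WeaklyEtale (q i) V.hom inferInstance inferInstance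
  let E : J₀ᵒᵖ ⥤ X.ProEt :=
    { obj := fun i => Scheme.ProEt.mk (q i ≫ V.hom)
      map := fun {i j} f => MorphismProperty.Over.homMk (𝒟.map f) (by
        change 𝒟.map f ≫ q j ≫ V.hom = q i ≫ V.hom
        rw [← Category.assoc, hqn f])
      map_id := fun i => MorphismProperty.Over.Hom.ext (𝒟.map_id i)
      map_comp := fun f f' => MorphismProperty.Over.Hom.ext (𝒟.map_comp f f') }
  let π : ∀ i, W ⟶ E.obj i := fun i => MorphismProperty.Over.homMk (πs i) (by
    change πs i ≫ q i ≫ V.hom = W.hom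
    rw [← Category.assoc, hπs i]
    exact MorphismProperty.Over.w g)
  have hπ : ∀ {i j : J₀ᵒᵖ} (f : i ⟶ j), π i ≫ E.map f = π j := fun f =>
    MorphismProperty.Over.Hom.ext (hπn f)
  -- the limit property
  haveI : IsIso e.hom.right := inferInstanceAs (IsIso ((Under.forget _).map e.hom))
  let ζ : W.left ⟶ c.pt := W.left.isoSpec.hom ≫ Spec.map e.hom.right
  haveI : IsIso ζ := inferInstanceAs (IsIso (W.left.isoSpec.hom ≫ Spec.map e.hom.right))
  have hζ : ∀ i, ζ ≫ c.π.app i = πs i := by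
    intro i
    change (W.left.isoSpec.hom ≫ Spec.map e.hom.right) ≫ Spec.map (c₀.ι.app i.unop).right =
      W.left.isoSpec.hom ≫ Spec.map (θ i)
    rw [Category.assoc, ← Spec.map_comp]
  have hlim : IsLimit ((US X).mapCone (coneOf E W π hπ)) := by
    refine IsLimit.ofIsoLimit hc (Cones.ext (asIso ζ).symm (fun i => ?_))
    change c.π.app i = inv ζ ≫ πs i
    rw [← hζ i, IsIso.inv_hom_id_assoc]
  exact ⟨{
    K := J₀ᵒᵖ
    D := E
    π := π
    hπ := hπ
    q := fun i => MorphismProperty.Over.homMk (q i) rfl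
    hq := fun f => MorphismProperty.Over.Hom.ext (hqn f)
    hπq := fun i => MorphismProperty.Over.Hom.ext (hπs i)
    aff := fun i => inferInstanceAs (IsAffine (𝒟.obj i))
    et := fun i => hqet i
    lim := hlim }⟩

end Groth.Agent.Lib.Helper4.PEC
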