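import Mathlib
import Groth.Agent.Lib.Helper22.ColimCohU.ExtInd

/-!
# Cartan's criterion, with lifting along the chosen covers supplied as a hypothesis
-/

set_option autoImplicit false
set_option linter.style.haveILetI false
set_option linter.unusedSectionVars false
universe w v u' u

namespace Groth.Agent.Lib.Helper4.PEC

open CategoryTheory CategoryTheory.Limits Opposite Abelian Groth.Agent.Lib.Helper22.CechU
  Groth.Agent.Lib.Helper22.CechU.Site Groth.Agent.Lib.Helper22.ColimCohU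
  Groth.Agent.Lib.Helper22.DimShift

variable {C : Type u'} [Category.{v} C] {J : GrothendieckTopology C}
  [∀ U : C, HasFiniteProducts (Over U)] [LocallySmall.{u} C]
  [HasSheafify J AddCommGrpCat.{u}]
  [J.WEqualsLocallyBijective AddCommGrpCat.{u}]
  [J.HasSheafCompose (forget AddCommGrpCat.{u})]
  {Cov : ∀ (U : C) (ι : Type u), (ι → Over U) → Prop} {B : Set C}
  (hsh : ∀ Q : Sheaf J AddCommGrpCat.{u}, Presieve.IsSheaf J (Q.obj ⋙ forget AddCommGrpCat.{u}))
  (h1 : ∀ (U : C) (ι : Type u) (Y : ι → Over U), Cov U ι Y → U ∈ B ∧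
      Sieve.ofArrows (fun i => (Y i).left) (fun i => (Y i).hom) ∈ J U ∧
      ∀ (p : ℕ) (a : Fin (p + 1) → ι), (Uσ Y a).left ∈ B)
  (h2 : ∀ U ∈ B, ∃ (ι : Type u) (Y : ι → Over U), Cov U ι Y ∧
      ∀ (S : ShortComplex (Sheaf J AddCommGrpCat.{u})), S.ShortExact → ∀ i,
        Function.Surjective (S.g.hom.app (op (Y i).left)))

include hsh h1 h2 in
lemma surjective_of_covAcyclic' (S : ShortComplex (Sheaf J AddCommGrpCat.{u}))
    (hS : S.ShortExact) (hF : CovAcyclic Cov S.X₁) (V : C) (hV : V ∈ B) :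
    Function.Surjective (S.g.hom.app (op V)) := by
  intro t
  obtain ⟨ι, Y, hCov, hsurj⟩ := h2 V hV
  exact exists_lift_of_acyc_zero Y S hS hsh (h1 V ι Y hCov).2.1 (hF V ι Y hCov 0) t
    (fun i => hsurj S hS i _)

include hsh h1 h2 in
lemma covAcyclic_quot' (S : ShortComplex (Sheaf J AddCommGrpCat.{u})) (hS : S.ShortExact)
    (hX1 : CovAcyclic Cov S.X₁) (hX2 : CovAcyclic Cov S.X₂) : CovAcyclic Cov S.X₃ := by
  intro U ι Yf hY p
  have hse : SecExact Yf (rMap (U := U) S.f.hom) (rMap S.g.hom) :=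
    secExact_of_shortExact Yf S hS fun n σ =>
      surjective_of_covAcyclic' hsh h1 h2 S hS hX1 _ ((h1 U ι Yf hY).2.2 n σ)
  exact hse.acyc_quot p (hX2 U ι Yf hY p) (hX1 U ι Yf hY (p + 1))

variable [EnoughInjectives (Sheaf J AddCommGrpCat.{u})] [HasExt.{w} (Sheaf J AddCommGrpCat.{u})]
  (Z : Sheaf J AddCommGrpCat.{u}) (U₀ : C) (hU₀ : U₀ ∈ B)
  (sec : ∀ G : Sheaf J AddCommGrpCat.{u}, Ext Z G 0 ≃+ G.obj.obj (op U₀))
  (sec_push : ∀ {G G' : Sheaf J AddCommGrpCat.{u}} (φ : G ⟶ G') (x : Ext Z G 0),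
    sec G' (push Z 0 φ x) = φ.hom.app (op U₀) (sec G x))

include hsh h1 h2 hU₀ sec_push in
/-- A `Cov`-Čech-acyclic sheaf is `Ext^•(Z, -)`-acyclic. -/
lemma ext_eq_zero_of_covAcyclic' (G : Sheaf J AddCommGrpCat.{u}) (hG : CovAcyclic Cov G)
    (n : ℕ) (x : Ext Z G (n + 1)) : x = 0 := by
  refine ext_succ_eq_zero_of_class Z (CovAcyclic Cov) ?_
    (fun F hF => covAcyclic_quot' hsh h1 h2 (injSC F) (injSC_shortExact F) hF
      (fun U ι Y _ p => acyc_of_injective_sheaf (injSC F).X₂ Y p)) n G hG x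
  intro G hG x₃
  obtain ⟨s, hs⟩ := surjective_of_covAcyclic' hsh h1 h2 (injSC G) (injSC_shortExact G) hG U₀ hU₀
    (sec _ x₃)
  refine ⟨(sec _).symm s, ?_⟩
  apply (sec _).injective
  have := sec_push (injSC G).g ((sec _).symm s)
  rw [push_apply] at this
  rw [this, AddEquiv.apply_symm_apply]
  exact hs

end Groth.Agent.Lib.Helper4.PEC
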