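import Mathlib
import Groth.Prelude.Def_ProEtS
import Groth.Agent.Lib.Helper4.PEps10

/-!
# The unit `F → ε_* ε⁻¹ F` is an isomorphism
-/

set_option autoImplicit false
set_option linter.style.haveILetI false
set_option linter.unusedSectionVars false
universe u

namespace Groth.Agent.Lib.Helper4.PEps

open CategoryTheory CategoryTheory.Limits AlgebraicGeometry Opposite Groth.Agent.Lib.Helper4.PE

variable {X : Scheme.{u}}

set_option maxHeartbeats 1000000 in
theorem isIso_unitE' [ProEtS.EpsCont X] (F : EtCoh.Ab X) : IsIso ((adjE' X).unit.app F) := by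
  rw [← Sheaf.isLocallyBijective_iff_isIso (A := AddCommGrpCat.{u + 1})]
  constructor
  · constructor
    intro U x y hxy
    have : x = y := unitE'_injective F U.unop hxy
    rw [this]
    simp
  · constructor
    intro U t
    let κ := U.left.affineOpens
    let W : κ → X.Etale := fun O => opnE U O.1
    let ι : ∀ O : κ, W O ⟶ U := fun O => opnEι U O.1
    have hcov : Sieve.ofArrows W ι ∈ X.smallEtaleTopology U := by
      rw [Scheme.ofArrows_mem_smallEtaleTopology_iff]
      ext x
      simp only [Set.mem_iUnion, Set.mem_univ, iff_true]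
      obtain ⟨_, ⟨O, hO, rfl⟩, hxO, -⟩ := U.left.isBasis_affineOpens.exists_subset_of_mem_open
        (Set.mem_univ x) isOpen_univ
      refine ⟨⟨O, hO⟩, ?_⟩
      change x ∈ Set.range (Scheme.Opens.ι O).base
      rw [Scheme.Opens.range_ι]
      exact hxO
    refine X.smallEtaleTopology.superset_covering ?_ hcov
    rintro Y _ ⟨Z, a, _, ⟨O⟩, rfl⟩
    apply Sieve.downward_closed
    haveI : IsAffine (W O).left := O.2
    obtain ⟨s₀, hs₀⟩ := exists_preimage_of_isAffine F (W O)
      (((ProEtS.epsPush X).obj
        ((Functor.sheafPullbackConstruction.sheafPullback (ProEtS.eps X) AddCommGrpCat.{u + 1}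
          X.smallEtaleTopology (Scheme.ProEt.topology X)).obj F)).obj.map (ι O).op t)
    refine ⟨s₀, ?_⟩
    exact (unitE'_apply F (W O) s₀).trans hs₀

theorem isIso_unit [ProEtS.EpsCont X] (F : EtCoh.Ab X) :
    IsIso ((ProEtS.epsAdj X).unit.app F) := by
  have h4 := Adjunction.unit_leftAdjointUniq_hom_app (ProEtS.epsAdj X) (adjE' X) F
  haveI := isIso_unitE' F
  haveI h5 : IsIso ((ProEtS.epsAdj X).unit.app F ≫
      (ProEtS.epsPush X).map (((ProEtS.epsAdj X).leftAdjointUniq (adjE' X)).hom.app F)) := by
    rw [h4]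
    infer_instance
  exact IsIso.of_isIso_comp_right _
    ((ProEtS.epsPush X).map (((ProEtS.epsAdj X).leftAdjointUniq (adjE' X)).hom.app F))

end Groth.Agent.Lib.Helper4.PEps
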