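import Mathlib
import Groth.Prelude.Def_ProEtS
import Groth.Agent.Lib.Helper4.PEC2
import Groth.Agent.Lib.Helper4.PEC1
import Groth.Agent.Lib.Helper4.PEps11
import Groth.Agent.Lib.Helper4.PECont

/-!
# Čech acyclicity of `ε⁻¹ I`, `I` injective, for étale coverings of étale objects
-/

set_option autoImplicit false
set_option linter.style.haveILetI false
set_option linter.unusedSectionVars false
universe u

namespace Groth.Agent.Lib.Helper4.PEC

open CategoryTheory CategoryTheory.Limits AlgebraicGeometry Opposite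
  Groth.Agent.Lib.Helper22.CechU Groth.Agent.Lib.Helper22.CechU.Site
  Groth.Agent.Lib.Helper22.ColimCohU

variable {X : Scheme.{u}}

set_option maxHeartbeats 1000000 in
theorem acyc_etale [ProEtS.EpsCont X] (I : EtCoh.Ab X) [Injective I] (V' : X.Etale)
    {ι : Type (u + 1)} (Y' : ι → Over V') (n : ℕ) :
    Acyc (fun i => (Over.post (ProEtS.eps X)).obj (Y' i))
      (rP (U := (ProEtS.eps X).obj V') ((ProEtS.epsPull X).obj I).obj) n := by
  let G := (ProEtS.epsPull X).obj I
  haveI := Groth.Agent.Lib.Helper4.PEps.isIso_unit I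
  haveI : PreservesFiniteLimits (ProEtS.eps X) := Groth.Agent.Lib.Helper4.PECont.preservesFiniteLimits_eps X
  let φ : I.obj ≅ ((ProEtS.epsPush X).obj G).obj :=
    (sheafToPresheaf _ _).mapIso (asIso ((ProEtS.epsAdj X).unit.app I))
  let e2 : rP (U := V') I.obj ≅
      (Over.post (ProEtS.eps X)).op ⋙ rP (U := (ProEtS.eps X).obj V') G.obj :=
    NatIso.ofComponents (fun Z => φ.app (op Z.unop.left)) (fun {Z Z'} f =>
      φ.hom.naturality f.unop.left.op)
  have e1 := transferIso (Over.post (ProEtS.eps X)) Y'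
    (rP (U := (ProEtS.eps X).obj V') G.obj)
  exact acyc_of_iso _ _ _ _ (e1 ≪≫ ((cechComplexFunctor Y').mapIso e2.symm)) n
    (acyc_of_injective_sheaf I Y' n)

end Groth.Agent.Lib.Helper4.PEC
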