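import Mathlib
import Groth.Prelude.Def_ProEtS
import Groth.Agent.Lib.Helper4.PELim5

/-!
# Sections of `ε⁻¹F` over an affine object are represented on an étale affine cover
-/

set_option autoImplicit false
set_option linter.style.haveILetI false
set_option linter.unusedSectionVars false
universe u

namespace Groth.Agent.Lib.Helper4.PELim

open CategoryTheory CategoryTheory.Limits AlgebraicGeometry Opposite Groth.Agent.Lib.Helper4.PE
  Groth.Agent.Lib.Helper4.PEps

variable {X : Scheme.{u}}

set_option maxHeartbeats 1000000 in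
theorem exists_etale_cover_rep (F : EtCoh.Ab X) (V : X.ProEt) [IsAffine V.left]
    (t : (Q F).obj (op V)) :
    ∃ (W' : X.ProEt) (h : W' ⟶ V) (T : X.Etale) (a' : W' ⟶ (ProEtS.eps X).obj T)
      (σ : F.obj.obj (op T)), IsAffine W'.left ∧ Etale h.left ∧ Surjective h.left ∧
        (Q F).map h.op t = (τ F).app (op W') (rep F.obj T a' σ) := by
  obtain ⟨S⟩ := nonempty_wcSystem V
  haveI := S.aff
  haveI : ∀ k, IsAffine ((S.E ⋙ US X).obj k) := fun k => S.aff k
  haveI : IsAffine S.cE.pt.left := Scheme.isAffine_of_isLimit ((US X).mapCone S.cE) S.hcE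
  obtain ⟨x, hx⟩ := (toSheafify_lanE_bijective F S.cE.pt S.wc).2 ((Q F).map S.g.op t)
  obtain ⟨T, a, σ, rfl⟩ := exists_rep F.obj x
  have hx' : (τ F).app (op S.cE.pt) (rep F.obj T a σ) = (Q F).map S.g.op t := hx
  obtain ⟨k, a_k, hk⟩ := exists_factor S.E S.aff S.cE S.hcE T a
  let d : (Q F).obj (op (S.E.obj k)) :=
    (Q F).map (S.q k).op t - (τ F).app (op (S.E.obj k)) (rep F.obj T a_k σ)
  have hd : (Q F).map (S.cE.π.app k).op d = 0 := by
    change (Q F).map (S.cE.π.app k).op
      ((Q F).map (S.q k).op t - (τ F).app (op (S.E.obj k)) (rep F.obj T a_k σ)) = 0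
    rw [map_sub, ← Q_map_comp, S.hq k, ← τ_naturality, rep_map, hk]
    exact sub_eq_zero.2 hx'.symm
  obtain ⟨k', f, hf⟩ := inj_aff F S.E S.aff S.cE S.hcE k d hd
  refine ⟨S.E.obj k', S.q k', T, S.E.map f ≫ a_k, σ, S.aff k', S.et k', ?_, ?_⟩
  · haveI : Surjective ((S.cE.π.app k').left ≫ (S.q k').left) := by
      have h1 : (S.cE.π.app k').left ≫ (S.q k').left = S.g.left :=
        congrArg (fun m => m.left) (S.hq k')
      rw [h1]
      exact S.surj
    exact Surjective.of_comp (S.cE.π.app k').left (S.q k').left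
  · change (Q F).map (S.E.map f).op
      ((Q F).map (S.q k).op t - (τ F).app (op (S.E.obj k)) (rep F.obj T a_k σ)) = 0 at hf
    rw [map_sub, ← Q_map_comp, S.hqn f, ← τ_naturality, rep_map, sub_eq_zero] at hf
    exact hf

end Groth.Agent.Lib.Helper4.PELim
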