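import Mathlib
import Groth.Prelude.Def_ProEtS
import Groth.Agent.Lib.Helper4.PELim6
import Groth.Agent.Lib.Helper14.LimRLP4

/-!
# Sections of `ε⁻¹F` over a cofiltered limit of affine objects: surjectivity
-/

set_option autoImplicit false
set_option linter.style.haveILetI false
set_option linter.unusedSectionVars false
universe u

namespace Groth.Agent.Lib.Helper4.PELim

open CategoryTheory CategoryTheory.Limits AlgebraicGeometry Opposite Groth.Agent.Lib.Helper4.PE
  Groth.Agent.Lib.Helper4.PEps

variable {X : Scheme.{u}}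

/-- a morphism in `X.ProEt` whose underlying morphism of schemes comes from a pullback square is
an isomorphism onto the pullback -/
theorem isIso_lift_of_isPullback {A B C P : X.ProEt} (f : A ⟶ C) (g : B ⟶ C) (a : P ⟶ A)
    (b : P ⟶ B) (w : a ≫ f = b ≫ g) (h : IsPullback a.left b.left f.left g.left) :
    IsIso (pullback.lift a b w) := by
  have h1 : (pullback.lift a b w).left ≫ (pullbackLeftIso f g).hom = h.isoPullback.hom := by
    apply pullback.hom_ext
    · rw [Category.assoc, pullbackLeftIso_hom_fst, IsPullback.isoPullback_hom_fst]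
      exact congrArg (fun m => m.left) (pullback.lift_fst a b w)
    · rw [Category.assoc, pullbackLeftIso_hom_snd, IsPullback.isoPullback_hom_snd]
      exact congrArg (fun m => m.left) (pullback.lift_snd a b w)
  have h2 : (pullback.lift a b w).left = h.isoPullback.hom ≫ (pullbackLeftIso f g).inv := by
    rw [← h1, Category.assoc, Iso.hom_inv_id, Category.comp_id]
  haveI : IsIso ((US X).map (pullback.lift a b w)) := by
    change IsIso (pullback.lift a b w).left
    rw [h2]
    infer_instance
  exact isIso_of_reflects_iso _ (US X)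

set_option backward.isDefEq.respectTransparency.types false in
set_option maxHeartbeats 4000000 in
/-- surjectivity part of the limit formula, affine case -/
theorem surj_aff (F : EtCoh.Ab X) {I : Type u} [SmallCategory I] [IsCofiltered I]
    (D : I ⥤ X.ProEt) (hD : ∀ i, IsAffine (D.obj i).left) (c : Cone D)
    (hc : IsLimit ((US X).mapCone c)) (t : (Q F).obj (op c.pt)) :
    ∃ (i : I) (s : (Q F).obj (op (D.obj i))), (Q F).map (c.π.app i).op s = t := by
  haveI := hD
  haveI : ∀ j, IsAffine ((D ⋙ US X).obj j) := fun j => hD j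
  haveI hcaff : IsAffine c.pt.left := Scheme.isAffine_of_isLimit ((US X).mapCone c) hc
  obtain ⟨W', h, T, a', σ, hW'aff, hhet, hhs, hrep⟩ := exists_etale_cover_rep F c.pt t
  haveI := hW'aff
  haveI := hhet
  haveI := hhs
  -- descend the cover to a finite stage
  have hhet' : Etale (Y := ((US X).mapCone c).pt) h.left := hhet
  have hhs' : Surjective (Y := ((US X).mapCone c).pt) h.left := hhs
  obtain ⟨j, Ej, ε₀, y', hEj, hε₀e, hε₀s, sq⟩ :=
    Groth.Agent.Lib.Helper14.AS.exists_etale_cover_stage_scheme (D ⋙ US X) ((US X).mapCone c) hc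
      (fun i => hD i) (T'' := W'.left) h.left
  haveI := hEj
  haveI := hε₀e
  haveI := hε₀s
  have sq' : IsPullback h.left y' (c.π.app j).left ε₀ := sq
  haveI : IsAffine (((Functor.const I).obj c.pt).obj j).left := hcaff
  haveI : WeaklyEtale ε₀ := inferInstance
  have hDj : WeaklyEtale (D.obj j).hom := (D.obj j).prop
  haveI : WeaklyEtale (ε₀ ≫ (D.obj j).hom) :=
    MorphismProperty.comp_mem @WeaklyEtale ε₀ (D.obj j).hom inferInstance hDj
  let E : X.ProEt := Scheme.ProEt.mk (ε₀ ≫ (D.obj j).hom)
  let e : E ⟶ D.obj j := MorphismProperty.Over.homMk ε₀ rfl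
  let y : W' ⟶ E := MorphismProperty.Over.homMk y' (by
    change y' ≫ ε₀ ≫ (D.obj j).hom = W'.hom
    calc y' ≫ ε₀ ≫ (D.obj j).hom = (y' ≫ ε₀) ≫ (D.obj j).hom := (Category.assoc _ _ _).symm
      _ = (h.left ≫ (c.π.app j).left) ≫ (D.obj j).hom :=
        congrArg (fun m => m ≫ (D.obj j).hom) sq'.w.symm
      _ = h.left ≫ (c.π.app j).left ≫ (D.obj j).hom := Category.assoc _ _ _
      _ = h.left ≫ c.pt.hom :=
        congrArg (fun m => h.left ≫ m) (MorphismProperty.Over.w (c.π.app j))
      _ = W'.hom := MorphismProperty.Over.w h)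
  have hy : y ≫ e = h ≫ c.π.app j := MorphismProperty.Over.Hom.ext sq'.w.symm
  haveI hEaff : IsAffine E.left := hEj
  haveI hes : Surjective e.left := hε₀s
  haveI heq : QuasiCompact e.left := by
    haveI : IsAffineHom ε₀ := isAffineHom_of_isAffine _
    exact inferInstanceAs (QuasiCompact ε₀)
  haveI : IsIso (pullback.lift y h hy) :=
    isIso_lift_of_isPullback e (c.π.app j) y h hy sq'.flip
  let m : W' ⟶ pullback e (c.π.app j) := pullback.lift y h hy
  let a'' : pullback e (c.π.app j) ⟶ (ProEtS.eps X).obj T := inv m ≫ a'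
  have hma : m ≫ a'' = a' := by
    change m ≫ inv m ≫ a' = a'
    rw [← Category.assoc, IsIso.hom_inv_id, Category.id_comp]
  have hrep'' : (Q F).map (pullback.snd e (c.π.app j)).op t =
      (τ F).app (op (pullback e (c.π.app j))) (rep F.obj T a'' σ) := by
    apply Q_map_injective_of_isIso F m
    rw [← Q_map_comp, ← τ_naturality, rep_map, hma]
    have h1 : m ≫ pullback.snd e (c.π.app j) = h := pullback.lift_snd _ _ _
    rw [h1]
    exact hrep
  -- the base-changed system along `e`
  have hbcaff : ∀ k : Over j, IsAffine ((bcFunctor D e).obj k).left := fun k =>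
    isAffine_pullback_left e (D.map k.hom)
  obtain ⟨k, a_k, hk⟩ := exists_factor (bcFunctor D e) hbcaff (bcCone D c e)
    (bcIsLimit D c e hc) T a''
  let u : (Q F).obj (op ((bcFunctor D e).obj k)) :=
    (τ F).app (op ((bcFunctor D e).obj k)) (rep F.obj T a_k σ)
  have hu : (Q F).map ((bcCone D c e).π.app k).op u =
      (Q F).map (pullback.snd e (c.π.app j)).op t := by
    rw [hrep'']
    change (Q F).map ((bcCone D c e).π.app k).op
      ((τ F).app (op ((bcFunctor D e).obj k)) (rep F.obj T a_k σ)) = _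
    rw [← τ_naturality, rep_map, hk]
    rfl
  -- the fibre square of `e`
  let p₁ : pullback e e ⟶ E := pullback.fst e e
  let p₂ : pullback e e ⟶ E := pullback.snd e e
  let z : pullback e e ⟶ D.obj j := p₁ ≫ e
  have hz₂ : p₂ ≫ e = z := pullback.condition.symm
  haveI : IsAffine (pullback e e).left := isAffine_pullback_left e e
  let d₂ : (Q F).obj (op ((bcFunctor D z).obj k)) :=
    (Q F).map (bcTrans D e p₁ z rfl k).op u - (Q F).map (bcTrans D e p₂ z hz₂ k).op u
  have hd₂ : (Q F).map ((bcCone D c z).π.app k).op d₂ = 0 := by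
    change (Q F).map ((bcCone D c z).π.app k).op
      ((Q F).map (bcTrans D e p₁ z rfl k).op u - (Q F).map (bcTrans D e p₂ z hz₂ k).op u) = 0
    rw [map_sub, ← Q_map_comp, ← Q_map_comp, bcTrans_leg, bcTrans_leg, Q_map_comp, Q_map_comp,
      hu, ← Q_map_comp, ← Q_map_comp, bcTransInf_snd, bcTransInf_snd, sub_self]
  obtain ⟨k', f, hf⟩ := inj_aff F (bcFunctor D z)
    (fun k => isAffine_pullback_left z (D.map k.hom)) (bcCone D c z) (bcIsLimit D c z hc) k d₂ hd₂
  let u' : (Q F).obj (op ((bcFunctor D e).obj k')) := (Q F).map ((bcFunctor D e).map f).op u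
  -- gluing along the cover `E ×_{D j} D k' ⟶ D k'`
  let sn : (bcFunctor D e).obj k' ⟶ D.obj k'.left := pullback.snd e (D.map k'.hom)
  haveI : Surjective sn.left := surjective_snd_left e (D.map k'.hom)
  haveI : QuasiCompact sn.left := quasiCompact_snd_left e (D.map k'.hom)
  have e1 : (Q F).map (bcTrans D e p₁ z rfl k').op u' =
      (Q F).map ((bcFunctor D z).map f).op ((Q F).map (bcTrans D e p₁ z rfl k).op u) := by
    change (Q F).map (bcTrans D e p₁ z rfl k').op ((Q F).map ((bcFunctor D e).map f).op u) = _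
    rw [← Q_map_comp, ← Q_map_comp, bcTrans_naturality]
  have e2 : (Q F).map (bcTrans D e p₂ z hz₂ k').op u' =
      (Q F).map ((bcFunctor D z).map f).op ((Q F).map (bcTrans D e p₂ z hz₂ k).op u) := by
    change (Q F).map (bcTrans D e p₂ z hz₂ k').op ((Q F).map ((bcFunctor D e).map f).op u) = _
    rw [← Q_map_comp, ← Q_map_comp, bcTrans_naturality]
  have e3 : (Q F).map (bcTrans D e p₁ z rfl k').op u' =
      (Q F).map (bcTrans D e p₂ z hz₂ k').op u' := by
    rw [e1, e2, ← sub_eq_zero, ← map_sub]
    exact hf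
  have hglue : (Q F).map (pullback.fst sn sn).op u' = (Q F).map (pullback.snd sn sn).op u' := by
    have hc1 : (pullback.fst sn sn ≫ pullback.fst e (D.map k'.hom)) ≫ e =
        (pullback.snd sn sn ≫ pullback.fst e (D.map k'.hom)) ≫ e := by
      rw [Category.assoc, Category.assoc, pullback.condition, ← Category.assoc, ← Category.assoc,
        pullback.condition (f := sn) (g := sn)]
    let θ₀ : pullback sn sn ⟶ pullback e e :=
      pullback.lift (pullback.fst sn sn ≫ pullback.fst e (D.map k'.hom))
        (pullback.snd sn sn ≫ pullback.fst e (D.map k'.hom)) hc1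
    have hθ₀₁ : θ₀ ≫ p₁ = pullback.fst sn sn ≫ pullback.fst e (D.map k'.hom) :=
      pullback.lift_fst _ _ _
    have hθ₀₂ : θ₀ ≫ p₂ = pullback.snd sn sn ≫ pullback.fst e (D.map k'.hom) :=
      pullback.lift_snd _ _ _
    have hc2 : θ₀ ≫ z = (pullback.fst sn sn ≫ sn) ≫ D.map k'.hom := by
      change θ₀ ≫ p₁ ≫ e = _
      rw [← Category.assoc, hθ₀₁, Category.assoc, Category.assoc, pullback.condition]
    let θ : pullback sn sn ⟶ pullback z (D.map k'.hom) :=
      pullback.lift θ₀ (pullback.fst sn sn ≫ sn) hc2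
    have hθf : θ ≫ pullback.fst z (D.map k'.hom) = θ₀ := pullback.lift_fst _ _ _
    have hθs : θ ≫ pullback.snd z (D.map k'.hom) = pullback.fst sn sn ≫ sn :=
      pullback.lift_snd _ _ _
    have hθ₁ : θ ≫ bcTrans D e p₁ z rfl k' = pullback.fst sn sn := by
      apply pullback.hom_ext
      · rw [Category.assoc, bcTrans_fst, ← Category.assoc, hθf, hθ₀₁]
      · rw [Category.assoc, bcTrans_snd, hθs]
    have hθ₂ : θ ≫ bcTrans D e p₂ z hz₂ k' = pullback.snd sn sn := by
      apply pullback.hom_ext
      · rw [Category.assoc, bcTrans_fst, ← Category.assoc, hθf, hθ₀₂]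
      · rw [Category.assoc, bcTrans_snd, hθs, pullback.condition]
    rw [← hθ₁, ← hθ₂, Q_map_comp, Q_map_comp, e3]
  obtain ⟨s, hs⟩ := Q_glue F sn u' hglue
  refine ⟨k'.left, s, ?_⟩
  haveI : Surjective (pullback.snd e (c.π.app j)).left := surjective_snd_left e (c.π.app j)
  haveI : QuasiCompact (pullback.snd e (c.π.app j)).left := quasiCompact_snd_left e (c.π.app j)
  apply Q_ext_of_cover F (pullback.snd e (c.π.app j))
  rw [← Q_map_comp, ← bcCone_π_snd D c e k', Q_map_comp]
  change (Q F).map ((bcCone D c e).π.app k').op ((Q F).map sn.op s) = _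
  rw [hs]
  change (Q F).map ((bcCone D c e).π.app k').op ((Q F).map ((bcFunctor D e).map f).op u) = _
  rw [← Q_map_comp, (bcCone D c e).w f, hu]

end Groth.Agent.Lib.Helper4.PELim
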