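import Mathlib
import Groth.Prelude.Def_ProEtS
import Groth.Agent.Lib.Helper4.PELim7
import Groth.Agent.Lib.Helper4.PE8

/-!
# The limit formula for `ε⁻¹F` on quasi-compact quasi-separated objects
-/

set_option autoImplicit false
set_option linter.style.haveILetI false
set_option linter.unusedSectionVars false
universe u

namespace Groth.Agent.Lib.Helper4.PELim

open CategoryTheory CategoryTheory.Limits AlgebraicGeometry Opposite Groth.Agent.Lib.Helper4.PE
  Groth.Agent.Lib.Helper4.PEps

variable {X : Scheme.{u}}

/-- sections of `ε⁻¹F` are determined on a cover given by a single morphism -/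
theorem Q_ext_of_mem (F : EtCoh.Ab X) {A B : X.ProEt} (f : A ⟶ B)
    (hf : Sieve.generate (Presieve.singleton f) ∈ Scheme.ProEt.topology X B)
    (s t : (Q F).obj (op B)) (h : (Q F).map f.op s = (Q F).map f.op t) :
    s = t := by
  refine ((isSheaf_Q F).isSheafFor _ hf).isSeparatedFor.ext ?_
  rintro Y f' ⟨⟩
  exact h

/-- gluing sections of `ε⁻¹F` along a cover given by a single morphism -/
theorem Q_glue_of_mem (F : EtCoh.Ab X) {A B : X.ProEt} (f : A ⟶ B)
    (hf : Sieve.generate (Presieve.singleton f) ∈ Scheme.ProEt.topology X B)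
    (u : (Q F).obj (op A))
    (hu : (Q F).map (pullback.fst f f).op u = (Q F).map (pullback.snd f f).op u) :
    ∃ s : (Q F).obj (op B), (Q F).map f.op s = u := by
  have hcov : Sieve.ofArrows (fun _ : Unit => A) (fun _ => f) ∈ Scheme.ProEt.topology X B := by
    have h1 : Presieve.ofArrows (fun _ : Unit => A) (fun _ => f) = Presieve.singleton f :=
      Presieve.ofArrows_pUnit f
    rw [Sieve.ofArrows, h1]
    exact hf
  have hsh := isSheaf_Q F _ hcov
  rw [Sieve.ofArrows, ← Presieve.isSheafFor_iff_generate, Presieve.isSheafFor_arrows_iff] at hsh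
  have hcompat : Presieve.Arrows.Compatible (Q F ⋙ forget AddCommGrpCat.{u + 1})
      (fun _ : Unit => f) (fun _ => u) := by
    intro _ _ Z' a b hab
    change (Q F).map a.op u = (Q F).map b.op u
    have hab' : a ≫ f = b ≫ f := hab
    have h1 : pullback.lift a b hab' ≫ pullback.fst f f = a := pullback.lift_fst _ _ _
    have h2 : pullback.lift a b hab' ≫ pullback.snd f f = b := pullback.lift_snd _ _ _
    have e1 : (Q F).map a.op u = (Q F).map (pullback.lift a b hab').op
        ((Q F).map (pullback.fst f f).op u) := by rw [← Q_map_comp, h1]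
    have e2 : (Q F).map b.op u = (Q F).map (pullback.lift a b hab').op
        ((Q F).map (pullback.snd f f).op u) := by rw [← Q_map_comp, h2]
    rw [e1, e2, hu]
  obtain ⟨s, hs, -⟩ := hsh _ hcompat
  exact ⟨s, hs ()⟩

/-- base change of a covering morphism is covering -/
theorem generate_singleton_snd_mem {A B C : X.ProEt} (g : A ⟶ C) (h : B ⟶ C)
    (hg : Sieve.generate (Presieve.singleton g) ∈ Scheme.ProEt.topology X C) :
    Sieve.generate (Presieve.singleton (pullback.snd g h)) ∈ Scheme.ProEt.topology X B := by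
  refine (Scheme.ProEt.topology X).superset_covering ?_
    ((Scheme.ProEt.topology X).pullback_stable h hg)
  rintro Y y ⟨Z, w, _, ⟨⟩, hw⟩
  exact ⟨_, pullback.lift w y hw, pullback.snd g h, ⟨⟩, pullback.lift_snd _ _ _⟩

/-- a weakly contractible affine cover of a quasi-compact object -/
theorem exists_wc_cover_qc (V : X.ProEt) [CompactSpace V.left] :
    ∃ (W : X.ProEt) (g : W ⟶ V), IsAffine W.left ∧ ProEtS.IsWC W ∧
      Sieve.generate (Presieve.singleton g) ∈ Scheme.ProEt.topology X V := by
  classical
  have hcov : (Set.univ : Set V.left) ⊆ ⋃ i : V.left.affineOpens, ((i : V.left.Opens) : Set V.left) := by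
    intro x _
    have hx : x ∈ (⨆ i : V.left.affineOpens, (i : V.left.Opens)) := by
      rw [iSup_affineOpens_eq_top]
      trivial
    rw [TopologicalSpace.Opens.mem_iSup] at hx
    obtain ⟨i, hi⟩ := hx
    exact Set.mem_iUnion.2 ⟨i, hi⟩
  obtain ⟨t, ht⟩ := isCompact_univ.elim_finite_subcover
    (fun i : V.left.affineOpens => ((i : V.left.Opens) : Set V.left))
    (fun i => (i : V.left.Opens).2) hcov
  let ι : Type u := {i : V.left.affineOpens // i ∈ t}
  let O : ι → V.left.Opens := fun i => i.1.1
  have hO : (⋃ k, (O k : Set V.left)) = Set.univ := by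
    rw [Set.eq_univ_iff_forall]
    intro x
    have := ht (Set.mem_univ x)
    simp only [Set.mem_iUnion] at this
    obtain ⟨i, hi, hx⟩ := this
    exact Set.mem_iUnion.2 ⟨⟨i, hi⟩, hx⟩
  obtain ⟨W, g, hg, hwc, haff⟩ := exists_single_wc_cover V O (fun i => i.1.2) hO
  exact ⟨W, g, haff inferInstance, hwc, hg⟩

theorem isAffine_pullback_left_of_isAffineHom {A B C : X.ProEt} (f : A ⟶ C) (g : B ⟶ C)
    [IsAffine A.left] [IsAffineHom g.left] : IsAffine (pullback f g).left := by
  haveI : IsAffineHom (pullback.fst f.left g.left) :=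
    MorphismProperty.pullback_fst (P := @IsAffineHom) _ _ inferInstance
  haveI : IsAffine (pullback f.left g.left) := isAffine_of_isAffineHom (pullback.fst f.left g.left)
  exact IsAffine.of_isIso (pullbackLeftIso f g).hom

end Groth.Agent.Lib.Helper4.PELim
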