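import Mathlib
import Groth.Prelude.Def_ProEtS
import Groth.Agent.Lib.Helper4.PELim8

/-!
# The limit formula for `ε⁻¹F` on quasi-compact quasi-separated objects
-/

set_option autoImplicit false
set_option linter.style.haveILetI false
set_option linter.unusedSectionVars false
universe u

namespace Groth.Agent.Lib.Helper4.PELim

open CategoryTheory CategoryTheory.Limits AlgebraicGeometry Opposite Groth.Agent.Lib.Helper4.PE
  Groth.Agent.Lib.Helper4.PEps

variable {X : Scheme.{u}}

section

variable {I : Type u} [SmallCategory I] (D : I ⥤ X.ProEt) (c : Cone D) {i : I} {Z : X.ProEt}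
  (g : Z ⟶ D.obj i)

theorem isPullback_bcMap {k k' : Over i} (f : k ⟶ k') :
    IsPullback ((bcFunctor D g).map f) (pullback.snd g (D.map k.hom))
      (pullback.snd g (D.map k'.hom)) (D.map f.left) := by
  have hR : IsPullback (pullback.fst g (D.map k'.hom)) (pullback.snd g (D.map k'.hom)) g
      (D.map k'.hom) := IsPullback.of_hasPullback _ _
  have hO : IsPullback ((bcFunctor D g).map f ≫ pullback.fst g (D.map k'.hom))
      (pullback.snd g (D.map k.hom)) g (D.map f.left ≫ D.map k'.hom) := by
    rw [bcFunctor_map_fst, ← D.map_comp, Over.w f]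
    exact IsPullback.of_hasPullback _ _
  exact IsPullback.of_right hO (bcFunctor_map_snd D g f) hR

theorem isAffineHom_bcMap_left {k k' : Over i} (f : k ⟶ k') [IsAffineHom (D.map f.left).left] :
    IsAffineHom ((bcFunctor D g).map f).left :=
  MorphismProperty.of_isPullback (P := @IsAffineHom) ((isPullback_bcMap D g f).map (US X)).flip
    (inferInstanceAs (IsAffineHom (D.map f.left).left))

/-- gluing condition along a base-changed cover, from the fibre square of the cover -/
theorem glue_bc (F : EtCoh.Ab X) (k' : Over i)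
    (u' : (Q F).obj (op ((bcFunctor D g).obj k')))
    (e3 : (Q F).map (bcTrans D g (pullback.fst g g) (pullback.fst g g ≫ g) rfl k').op u' =
      (Q F).map (bcTrans D g (pullback.snd g g) (pullback.fst g g ≫ g)
        pullback.condition.symm k').op u') :
    (Q F).map (pullback.fst (pullback.snd g (D.map k'.hom)) (pullback.snd g (D.map k'.hom))).op u' =
      (Q F).map (pullback.snd (pullback.snd g (D.map k'.hom))
        (pullback.snd g (D.map k'.hom))).op u' := by
  let p₁ : pullback g g ⟶ Z := pullback.fst g g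
  let p₂ : pullback g g ⟶ Z := pullback.snd g g
  let z : pullback g g ⟶ D.obj i := p₁ ≫ g
  have hz₂ : p₂ ≫ g = z := pullback.condition.symm
  let sn : (bcFunctor D g).obj k' ⟶ D.obj k'.left := pullback.snd g (D.map k'.hom)
  have hc1 : (pullback.fst sn sn ≫ pullback.fst g (D.map k'.hom)) ≫ g =
      (pullback.snd sn sn ≫ pullback.fst g (D.map k'.hom)) ≫ g := by
    rw [Category.assoc, Category.assoc, pullback.condition, ← Category.assoc, ← Category.assoc,
      pullback.condition (f := sn) (g := sn)]
  let θ₀ : pullback sn sn ⟶ pullback g g :=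
    pullback.lift (pullback.fst sn sn ≫ pullback.fst g (D.map k'.hom))
      (pullback.snd sn sn ≫ pullback.fst g (D.map k'.hom)) hc1
  have hθ₀₁ : θ₀ ≫ p₁ = pullback.fst sn sn ≫ pullback.fst g (D.map k'.hom) :=
    pullback.lift_fst _ _ _
  have hθ₀₂ : θ₀ ≫ p₂ = pullback.snd sn sn ≫ pullback.fst g (D.map k'.hom) :=
    pullback.lift_snd _ _ _
  have hc2 : θ₀ ≫ z = (pullback.fst sn sn ≫ sn) ≫ D.map k'.hom := by
    change θ₀ ≫ p₁ ≫ g = _
    rw [← Category.assoc, hθ₀₁, Category.assoc, Category.assoc, pullback.condition]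
  let θ : pullback sn sn ⟶ pullback z (D.map k'.hom) :=
    pullback.lift θ₀ (pullback.fst sn sn ≫ sn) hc2
  have hθf : θ ≫ pullback.fst z (D.map k'.hom) = θ₀ := pullback.lift_fst _ _ _
  have hθs : θ ≫ pullback.snd z (D.map k'.hom) = pullback.fst sn sn ≫ sn :=
    pullback.lift_snd _ _ _
  have hθ₁ : θ ≫ bcTrans D g p₁ z rfl k' = pullback.fst sn sn := by
    apply pullback.hom_ext
    · rw [Category.assoc, bcTrans_fst, ← Category.assoc, hθf, hθ₀₁]
    · rw [Category.assoc, bcTrans_snd, hθs]
  have hθ₂ : θ ≫ bcTrans D g p₂ z hz₂ k' = pullback.snd sn sn := by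
    apply pullback.hom_ext
    · rw [Category.assoc, bcTrans_fst, ← Category.assoc, hθf, hθ₀₂]
    · rw [Category.assoc, bcTrans_snd, hθs, pullback.condition]
  change (Q F).map (pullback.fst sn sn).op u' = (Q F).map (pullback.snd sn sn).op u'
  rw [← hθ₁, ← hθ₂, Q_map_comp, Q_map_comp]
  exact congrArg _ e3

end

set_option backward.isDefEq.respectTransparency.types false in
set_option maxHeartbeats 1000000 in
/-- injectivity part of the limit formula, quasi-compact case -/
theorem inj_qc (F : EtCoh.Ab X) {I : Type u} [SmallCategory I] [IsCofiltered I]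
    (D : I ⥤ X.ProEt) (hDa : ∀ {i j : I} (f : i ⟶ j), IsAffineHom (D.map f).left)
    (hDc : ∀ i, CompactSpace (D.obj i).left) (c : Cone D)
    (hc : IsLimit ((US X).mapCone c)) (i : I) (s : (Q F).obj (op (D.obj i)))
    (hs : (Q F).map (c.π.app i).op s = 0) :
    ∃ (j : I) (f : j ⟶ i), (Q F).map (D.map f).op s = 0 := by
  haveI := hDc i
  obtain ⟨W, g, hWaff, hWwc, hg⟩ := exists_wc_cover_qc (D.obj i)
  haveI := hWaff
  have hbcaff : ∀ k : Over i, IsAffine ((bcFunctor D g).obj k).left := fun k => by
    haveI := hDa k.hom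
    exact isAffine_pullback_left_of_isAffineHom g (D.map k.hom)
  let k₀ : Over i := Over.mk (𝟙 i)
  let s₀ : (Q F).obj (op ((bcFunctor D g).obj k₀)) :=
    (Q F).map (pullback.snd g (D.map k₀.hom)).op s
  have hs₀ : (Q F).map ((bcCone D c g).π.app k₀).op s₀ = 0 := by
    change (Q F).map ((bcCone D c g).π.app k₀).op
      ((Q F).map (pullback.snd g (D.map k₀.hom)).op s) = 0
    rw [← Q_map_comp, bcCone_π_snd, Q_map_comp]
    change (Q F).map (pullback.snd g (c.π.app i)).op ((Q F).map (c.π.app i).op s) = 0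
    rw [hs, map_zero]
  obtain ⟨k, f, hf⟩ := inj_aff F (bcFunctor D g) hbcaff (bcCone D c g) (bcIsLimit D c g hc)
    k₀ s₀ hs₀
  have hfl : f.left = k.hom := by
    have h1 : f.left ≫ 𝟙 i = k.hom := Over.w f
    exact (Category.comp_id _).symm.trans h1
  refine ⟨k.left, k.hom, ?_⟩
  apply Q_ext_of_mem F (pullback.snd g (D.map k.hom))
    (generate_singleton_snd_mem g (D.map k.hom) hg)
  rw [map_zero, ← Q_map_comp]
  change (Q F).map ((bcFunctor D g).map f).op
    ((Q F).map (pullback.snd g (D.map k₀.hom)).op s) = 0 at hf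
  rw [← Q_map_comp, bcFunctor_map_snd, hfl] at hf
  exact hf

end Groth.Agent.Lib.Helper4.PELim
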