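import Mathlib
import Groth.Prelude.Def_ProEtS
import Groth.Agent.Lib.Helper4.PELim9

/-!
# The limit formula for `ε⁻¹F` on quasi-compact quasi-separated objects: surjectivity
-/

set_option autoImplicit false
set_option linter.style.haveILetI false
set_option linter.unusedSectionVars false
universe u

namespace Groth.Agent.Lib.Helper4.PELim

open CategoryTheory CategoryTheory.Limits AlgebraicGeometry Opposite Groth.Agent.Lib.Helper4.PE
  Groth.Agent.Lib.Helper4.PEps

variable {X : Scheme.{u}}

theorem compactSpace_pullback_left {A B C : X.ProEt} (f : A ⟶ C) (g : B ⟶ C)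
    [CompactSpace A.left] [CompactSpace B.left] [QuasiSeparatedSpace C.left] :
    CompactSpace (pullback f g).left := by
  haveI : CompactSpace ↥(pullback f.left g.left) := inferInstance
  exact QuasiCompact.compactSpace_of_compactSpace (pullbackLeftIso f g).hom

theorem compactSpace_pullback_left_of_isAffineHom {A B C : X.ProEt} (f : A ⟶ C) (g : B ⟶ C)
    [CompactSpace A.left] [IsAffineHom g.left] : CompactSpace (pullback f g).left := by
  haveI : IsAffineHom (pullback.fst f.left g.left) :=
    MorphismProperty.pullback_fst (P := @IsAffineHom) _ _ inferInstance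
  haveI : CompactSpace ↥(pullback f.left g.left) :=
    QuasiCompact.compactSpace_of_compactSpace (pullback.fst f.left g.left)
  exact QuasiCompact.compactSpace_of_compactSpace (pullbackLeftIso f g).hom

set_option backward.isDefEq.respectTransparency.types false in
set_option maxHeartbeats 4000000 in
/-- surjectivity part of the limit formula, quasi-compact quasi-separated case -/
theorem surj_qcqs (F : EtCoh.Ab X) {I : Type u} [SmallCategory I] [IsCofiltered I]
    (D : I ⥤ X.ProEt) (hDa : ∀ {i j : I} (f : i ⟶ j), IsAffineHom (D.map f).left)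
    (hDc : ∀ i, CompactSpace (D.obj i).left) (hDq : ∀ i, QuasiSeparatedSpace (D.obj i).left)
    (c : Cone D) (hc : IsLimit ((US X).mapCone c)) (t : (Q F).obj (op c.pt)) :
    ∃ (i : I) (s : (Q F).obj (op (D.obj i))), (Q F).map (c.π.app i).op s = t := by
  obtain ⟨i₀⟩ := IsCofiltered.nonempty (C := I)
  haveI := hDc i₀
  haveI := hDq i₀
  obtain ⟨W, g, hWaff, hWwc, hg⟩ := exists_wc_cover_qc (D.obj i₀)
  haveI := hWaff
  have hbcaff : ∀ k : Over i₀, IsAffine ((bcFunctor D g).obj k).left := fun k => by
    haveI := hDa k.hom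
    exact isAffine_pullback_left_of_isAffineHom g (D.map k.hom)
  obtain ⟨k, u, hu⟩ := surj_aff F (bcFunctor D g) hbcaff (bcCone D c g) (bcIsLimit D c g hc)
    ((Q F).map (pullback.snd g (c.π.app i₀)).op t)
  -- the fibre square of the cover
  let p₁ : pullback g g ⟶ W := pullback.fst g g
  let p₂ : pullback g g ⟶ W := pullback.snd g g
  let z : pullback g g ⟶ D.obj i₀ := p₁ ≫ g
  have hz₂ : p₂ ≫ g = z := pullback.condition.symm
  haveI : CompactSpace (pullback g g).left := compactSpace_pullback_left g g
  have hza : ∀ {k k' : Over i₀} (f : k ⟶ k'), IsAffineHom ((bcFunctor D z).map f).left := by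
    intro k k' f
    haveI := hDa f.left
    exact isAffineHom_bcMap_left D z f
  have hzc : ∀ k : Over i₀, CompactSpace ((bcFunctor D z).obj k).left := fun k => by
    haveI := hDa k.hom
    exact compactSpace_pullback_left_of_isAffineHom z (D.map k.hom)
  let d : (Q F).obj (op ((bcFunctor D z).obj k)) :=
    (Q F).map (bcTrans D g p₁ z rfl k).op u - (Q F).map (bcTrans D g p₂ z hz₂ k).op u
  have hd : (Q F).map ((bcCone D c z).π.app k).op d = 0 := by
    change (Q F).map ((bcCone D c z).π.app k).op
      ((Q F).map (bcTrans D g p₁ z rfl k).op u - (Q F).map (bcTrans D g p₂ z hz₂ k).op u) = 0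
    rw [map_sub, ← Q_map_comp, ← Q_map_comp, bcTrans_leg, bcTrans_leg, Q_map_comp, Q_map_comp]
    change (Q F).map (bcTransInf D c g p₁ z rfl).op ((Q F).map ((bcCone D c g).π.app k).op u) -
      (Q F).map (bcTransInf D c g p₂ z hz₂).op ((Q F).map ((bcCone D c g).π.app k).op u) = 0
    rw [hu, ← Q_map_comp, ← Q_map_comp, bcTransInf_snd, bcTransInf_snd, sub_self]
  obtain ⟨k', f, hf⟩ := inj_qc F (bcFunctor D z) hza hzc (bcCone D c z) (bcIsLimit D c z hc)
    k d hd
  let u' : (Q F).obj (op ((bcFunctor D g).obj k')) := (Q F).map ((bcFunctor D g).map f).op u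
  have e1 : (Q F).map (bcTrans D g p₁ z rfl k').op u' =
      (Q F).map ((bcFunctor D z).map f).op ((Q F).map (bcTrans D g p₁ z rfl k).op u) := by
    change (Q F).map (bcTrans D g p₁ z rfl k').op ((Q F).map ((bcFunctor D g).map f).op u) = _
    rw [← Q_map_comp, ← Q_map_comp, bcTrans_naturality]
  have e2 : (Q F).map (bcTrans D g p₂ z hz₂ k').op u' =
      (Q F).map ((bcFunctor D z).map f).op ((Q F).map (bcTrans D g p₂ z hz₂ k).op u) := by
    change (Q F).map (bcTrans D g p₂ z hz₂ k').op ((Q F).map ((bcFunctor D g).map f).op u) = _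
    rw [← Q_map_comp, ← Q_map_comp, bcTrans_naturality]
  have e3 : (Q F).map (bcTrans D g p₁ z rfl k').op u' =
      (Q F).map (bcTrans D g p₂ z hz₂ k').op u' := by
    rw [e1, e2, ← sub_eq_zero, ← map_sub]
    exact hf
  have hglue := glue_bc D g F k' u' e3
  obtain ⟨s, hs⟩ := Q_glue_of_mem F (pullback.snd g (D.map k'.hom))
    (generate_singleton_snd_mem g (D.map k'.hom) hg) u' hglue
  refine ⟨k'.left, s, ?_⟩
  apply Q_ext_of_mem F (pullback.snd g (c.π.app i₀))
    (generate_singleton_snd_mem g (c.π.app i₀) hg)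
  rw [← Q_map_comp, ← bcCone_π_snd D c g k', Q_map_comp]
  change (Q F).map ((bcCone D c g).π.app k').op
    ((Q F).map (pullback.snd g (D.map k'.hom)).op s) = _
  rw [hs]
  change (Q F).map ((bcCone D c g).π.app k').op ((Q F).map ((bcFunctor D g).map f).op u) = _
  rw [← Q_map_comp, (bcCone D c g).w f]
  exact hu

end Groth.Agent.Lib.Helper4.PELim
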