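import Mathlib
import Groth.Prelude.Def_ProEtS
import Groth.Agent.Lib.Helper4.PELim10
import Groth.Agent.Lib.Helper4.PEps11

/-!
# The limit formula for `ε⁻¹F`: sections over a cofiltered limit are the colimit of sections
-/

set_option autoImplicit false
set_option linter.style.haveILetI false
set_option linter.unusedSectionVars false
universe u

namespace Groth.Agent.Lib.Helper4.PELim

open CategoryTheory CategoryTheory.Limits AlgebraicGeometry Opposite Groth.Agent.Lib.Helper4.PE
  Groth.Agent.Lib.Helper4.PEps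

variable {X : Scheme.{u}}

instance preservesColimitsOfShape_forget_small' (J : Type u) [SmallCategory J] [IsFiltered J] :
    PreservesColimitsOfShape J (forget AddCommGrpCat.{u + 1}) := by
  have : PreservesFilteredColimitsOfSize.{u, u} (forget AddCommGrpCat.{u + 1}) :=
    preservesFilteredColimitsOfSize_shrink.{u, u + 1, u, u + 1} _
  infer_instance

set_option maxHeartbeats 1000000 in
theorem nonempty_isColimit_Q (F : EtCoh.Ab X) {I : Type u} [SmallCategory I] [IsCofiltered I]
    (D : I ⥤ X.ProEt) (hDa : ∀ {i j : I} (f : i ⟶ j), IsAffineHom (D.map f).left)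
    (hDc : ∀ i, CompactSpace (D.obj i).left) (hDq : ∀ i, QuasiSeparatedSpace (D.obj i).left)
    (c : Cone D) (hc : IsLimit ((US X).mapCone c)) :
    Nonempty (IsColimit ((Q F).mapCocone c.op)) := by
  have : ReflectsColimit (D.op ⋙ Q F) (forget AddCommGrpCat.{u + 1}) :=
    reflectsColimit_of_reflectsIsomorphisms _ _
  refine ⟨isColimitOfReflects (forget AddCommGrpCat.{u + 1}) ?_⟩
  apply Types.FilteredColimit.isColimitOf'
  · intro x
    obtain ⟨i, s, hs⟩ := surj_qcqs F D hDa hDc hDq c hc x
    exact ⟨op i, s, hs.symm⟩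
  · intro i x y hxy
    let x' : (Q F).obj (op (D.obj i.unop)) := x
    let y' : (Q F).obj (op (D.obj i.unop)) := y
    have h0 : (Q F).map (c.π.app i.unop).op (x' - y') = 0 := by
      rw [map_sub, sub_eq_zero]
      exact hxy
    obtain ⟨j, f, hf⟩ := inj_qc F D hDa hDc c hc i.unop (x' - y') h0
    refine ⟨op j, f.op, ?_⟩
    rw [map_sub, sub_eq_zero] at hf
    exact hf

/-- the comparison between the official pullback and the explicit construction -/
noncomputable def epsPullObjIso [ProEtS.EpsCont X] (F : EtCoh.Ab X) :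
    ((ProEtS.epsPull X).obj F).obj ≅ Q F :=
  (sheafToPresheaf _ _).mapIso (((ProEtS.epsAdj X).leftAdjointUniq (adjE' X)).app F)

theorem nonempty_isColimit_epsPull [ProEtS.EpsCont X] (F : EtCoh.Ab X) {I : Type u}
    [SmallCategory I] [IsCofiltered I]
    (D : I ⥤ X.ProEt) (hDa : ∀ {i j : I} (f : i ⟶ j), IsAffineHom (D.map f).left)
    (hDc : ∀ i, CompactSpace (D.obj i).left) (hDq : ∀ i, QuasiSeparatedSpace (D.obj i).left)
    (c : Cone D) (hc : IsLimit ((US X).mapCone c)) :
    Nonempty (IsColimit (((ProEtS.epsPull X).obj F).obj.mapCocone c.op)) := by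
  obtain ⟨h⟩ := nonempty_isColimit_Q F D hDa hDc hDq c hc
  exact ⟨(IsColimit.mapCoconeEquiv (epsPullObjIso F).symm) h⟩

end Groth.Agent.Lib.Helper4.PELim
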