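import Mathlib
import Groth.Prelude.Def_ProEtS
import Groth.Agent.Lib.Helper4.PEC7
import Groth.Agent.Lib.Helper4.PELim11

/-!
# Sections of `ε⁻¹F` over limits of affine objects (official pullback); étale acyclicity for objects
of the pro-étale site which are étale over the base
-/

set_option autoImplicit false
set_option linter.style.haveILetI false
set_option linter.unusedSectionVars false
universe u

namespace Groth.Agent.Lib.Helper4.PEC

open CategoryTheory CategoryTheory.Limits AlgebraicGeometry Opposite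
  Groth.Agent.Lib.Helper22.CechU Groth.Agent.Lib.Helper22.CechU.Site
  Groth.Agent.Lib.Helper22.ColimCohU Groth.Agent.Lib.Helper4.PELim

variable {X : Scheme.{u}} [ProEtS.EpsCont X]

theorem surj_G (F : EtCoh.Ab X) {I : Type u} [SmallCategory I] [IsCofiltered I]
    (D : I ⥤ X.ProEt) (hD : ∀ i, IsAffine (D.obj i).left) (c : Cone D)
    (hc : IsLimit ((US X).mapCone c)) (t : ((ProEtS.epsPull X).obj F).obj.obj (op c.pt)) :
    ∃ (i : I) (s : ((ProEtS.epsPull X).obj F).obj.obj (op (D.obj i))),
      ((ProEtS.epsPull X).obj F).obj.map (c.π.app i).op s = t := by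
  let e := epsPullObjIso F
  obtain ⟨i, s, hs⟩ := surj_aff F D hD c hc (e.hom.app _ t)
  refine ⟨i, e.inv.app _ s, ?_⟩
  have h1 := NatTrans.naturality_apply e.inv (c.π.app i).op s
  rw [← h1, hs]
  exact congrArg (fun m => (ConcreteCategory.hom (m.app (op c.pt))) t) e.hom_inv_id

theorem inj_G (F : EtCoh.Ab X) {I : Type u} [SmallCategory I] [IsCofiltered I]
    (D : I ⥤ X.ProEt) (hD : ∀ i, IsAffine (D.obj i).left) (c : Cone D)
    (hc : IsLimit ((US X).mapCone c)) (i : I)
    (s : ((ProEtS.epsPull X).obj F).obj.obj (op (D.obj i)))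
    (hs : ((ProEtS.epsPull X).obj F).obj.map (c.π.app i).op s = 0) :
    ∃ (j : I) (f : j ⟶ i), ((ProEtS.epsPull X).obj F).obj.map (D.map f).op s = 0 := by
  let e := epsPullObjIso F
  have h1 : (Q F).map (c.π.app i).op (e.hom.app _ s) = 0 := by
    rw [← NatTrans.naturality_apply e.hom (c.π.app i).op s, hs, map_zero]
  obtain ⟨j, f, hf⟩ := inj_aff F D hD c hc i (e.hom.app _ s) h1
  refine ⟨j, f, ?_⟩
  rw [← NatTrans.naturality_apply e.hom (D.map f).op s] at hf
  have h2 := congrArg (e.inv.app _) hf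
  rw [map_zero] at h2
  rw [← h2]
  exact (congrArg (fun m => (ConcreteCategory.hom (m.app (op (D.obj j))))
    (((ProEtS.epsPull X).obj F).obj.map (D.map f).op s)) e.hom_inv_id).symm

set_option maxHeartbeats 1000000 in
theorem acyc_etale' (I : EtCoh.Ab X) [Injective I] (A : X.ProEt) [Etale A.hom]
    {ι : Type (u + 1)} (Y : ι → Over A) (hY : ∀ i, Etale (Y i).left.hom) (n : ℕ) :
    Acyc Y (rP (U := A) ((ProEtS.epsPull X).obj I).obj) n := by
  haveI := hY
  let Y' : ι → Over (Scheme.Etale.mk A.hom) := fun i =>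
    Over.mk (MorphismProperty.Over.homMk (Y i).hom.left (MorphismProperty.Over.w (Y i).hom) :
      Scheme.Etale.mk (Y i).left.hom ⟶ Scheme.Etale.mk A.hom)
  exact acyc_etale I (Scheme.Etale.mk A.hom) Y' n

end Groth.Agent.Lib.Helper4.PEC
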