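import Mathlib
import Groth.Prelude.Def_ProEtS
import Groth.Agent.Lib.Helper4.PEC6
import Groth.Agent.Lib.Helper4.PEC8
import Groth.Agent.Lib.Helper4.PELim7

/-!
# Čech acyclicity of `ε⁻¹ I` for an étale affine covering of an object of the class `Bset`
-/

set_option autoImplicit false
set_option linter.style.haveILetI false
set_option linter.unusedSectionVars false
universe u

namespace Groth.Agent.Lib.Helper4.PEC

open CategoryTheory CategoryTheory.Limits AlgebraicGeometry Opposite
  Groth.Agent.Lib.Helper22.CechU Groth.Agent.Lib.Helper22.CechU.Site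
  Groth.Agent.Lib.Helper22.ColimCohU Groth.Agent.Lib.Helper4.PELim Groth.Agent.Lib.Helper4.PE

variable {X : Scheme.{u}} [ProEtS.EpsCont X]

section sys

variable {K : Type u} [SmallCategory K] (D : K ⥤ X.ProEt) (c : Cone D) (j : K)

/-- base change to the limit, as a functor to the pro-étale site -/
noncomputable abbrev Φinf : Over (D.obj j) ⥤ X.ProEt :=
  Over.pullback (c.π.app j) ⋙ Over.forget c.pt

/-- base change to a stage, as a functor to the pro-étale site -/
noncomputable abbrev Φst (k : Over j) : Over (D.obj j) ⥤ X.ProEt :=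
  Over.pullback (D.map k.hom) ⋙ Over.forget (D.obj k.left)

/-- the comparison from the limit to a stage -/
noncomputable def lamN (k : Over j) : Φinf D c j ⟶ Φst D j k where
  app Z := (bcCone D c Z.hom).π.app k
  naturality Z Z' f := (bcTrans_leg D c Z'.hom f.left Z.hom (Over.w f) k).symm

/-- the transition between stages -/
noncomputable def tauN {k k' : Over j} (f : k ⟶ k') : Φst D j k ⟶ Φst D j k' where
  app Z := (bcFunctor D Z.hom).map f
  naturality Z Z' g := (bcTrans_naturality D Z'.hom g.left Z.hom (Over.w g) f).symm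

lemma lamN_tauN {k k' : Over j} (f : k ⟶ k') : lamN D c j k ≫ tauN D j f = lamN D c j k' := by
  ext Z
  exact (bcCone D c Z.hom).w f

lemma tauN_comp {k k' k'' : Over j} (f : k ⟶ k') (g : k' ⟶ k'') :
    tauN D j f ≫ tauN D j g = tauN D j (f ≫ g) := by
  ext Z
  exact ((bcFunctor D Z.hom).map_comp f g).symm

end sys

set_option backward.isDefEq.respectTransparency.types false in
set_option maxHeartbeats 4000000 in
theorem acyc_etale_cover (I : EtCoh.Ab X) [Injective I] (V : X.ProEt) (hV : V ∈ Bset X)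
    (W' : Over V) [IsAffine W'.left.left] [Etale W'.hom.left] [Surjective W'.hom.left]
    {ι : Type (u + 1)} [Finite ι] (n : ℕ) :
    Acyc (fun _ : ι => W') (rP (U := V) ((ProEtS.epsPull X).obj I).obj) n := by
  let G := (ProEtS.epsPull X).obj I
  obtain ⟨hVaff, V₀, g, hV₀aff, hV₀et, hg⟩ := hV
  haveI := hVaff
  haveI := hV₀aff
  haveI := hV₀et
  obtain ⟨S⟩ := nonempty_indSys g hg
  let D := S.D
  let c : Cone D := coneOf S.D V S.π S.hπ
  have hc : IsLimit ((US X).mapCone c) := S.lim
  haveI hDaff : ∀ k, IsAffine (D.obj k).left := S.aff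
  have hDet : ∀ k, Etale (D.obj k).hom := fun k => by
    have h1 : (D.obj k).hom = (S.q k).left ≫ V₀.hom := (MorphismProperty.Over.w (S.q k)).symm
    rw [h1]
    haveI := S.et k
    infer_instance
  -- descent of the cover to a stage
  have h1 : Etale (Y := ((US X).mapCone c).pt) W'.hom.left := ‹_›
  have h2 : Surjective (Y := ((US X).mapCone c).pt) W'.hom.left := ‹_›
  obtain ⟨j, Ej, ε₀, y', hEj, hε₀e, hε₀s, sq⟩ :=
    Groth.Agent.Lib.Helper14.AS.exists_etale_cover_stage_scheme (D ⋙ US X) ((US X).mapCone c) hc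
      (fun i => S.aff i) (T'' := W'.left.left) W'.hom.left
  haveI := hEj
  haveI := hε₀e
  haveI := hε₀s
  haveI := hDet j
  haveI : WeaklyEtale ε₀ := inferInstance
  haveI : WeaklyEtale (ε₀ ≫ (D.obj j).hom) :=
    MorphismProperty.comp_mem @WeaklyEtale ε₀ (D.obj j).hom inferInstance (D.obj j).prop
  let W₀ : X.ProEt := Scheme.ProEt.mk (ε₀ ≫ (D.obj j).hom)
  let e₀ : W₀ ⟶ D.obj j := MorphismProperty.Over.homMk ε₀ rfl
  let Z₀ : Over (D.obj j) := Over.mk e₀
  let ρ : V ⟶ D.obj j := c.π.app j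
  have sq' : IsPullback W'.hom.left y' ρ.left ε₀ := sq
  have h5 : y' ≫ ε₀ = W'.hom.left ≫ ρ.left := sq'.w.symm
  have h6 : y' ≫ ε₀ ≫ (D.obj j).hom = W'.left.hom :=
    ((Category.assoc _ _ _).symm.trans (congrArg (fun m => m ≫ (D.obj j).hom) h5)).trans
      ((Category.assoc _ _ _).trans
        ((congrArg (fun m => W'.hom.left ≫ m) (MorphismProperty.Over.w ρ)).trans
          (MorphismProperty.Over.w W'.hom)))
  let y'' : W'.left ⟶ W₀ := MorphismProperty.Over.homMk y' h6
  have w : y'' ≫ e₀ = W'.hom ≫ ρ := MorphismProperty.Over.Hom.ext sq'.w.symm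
  have hiso : IsIso (pullback.lift y'' W'.hom w) :=
    isIso_lift_of_isPullback e₀ ρ y'' W'.hom w sq'.flip
  let iso : W' ≅ (Over.pullback ρ).obj Z₀ :=
    Over.isoMk (@asIso _ _ _ _ (pullback.lift y'' W'.hom w) hiso) (pullback.lift_snd _ _ _)
  apply acyc_of_family_iso _ (fun _ : ι => W') (fun _ => (Over.pullback ρ).obj Z₀)
    (fun _ => iso) n
  refine acyc_of_iso _ _ _ _
    (transferIso (Over.pullback ρ) (fun _ : ι => Z₀) (rP (U := V) G.obj)) n ?_
  -- the presheaf system
  haveI : IsAffine Z₀.left.left := hEj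
  haveI : IsAffine ((D ⋙ US X).obj j) := S.aff j
  have hPV : PV (D.obj j) Z₀ := ⟨hEj, IE_of_etale ε₀⟩
  have hNaff : ∀ {m : ℕ} (σ : Fin (m + 1) → ι), IsAffine (Uσ (fun _ : ι => Z₀) σ).left.left :=
    fun σ => (PV_nerve (D.obj j) (fun _ : ι => Z₀) (fun _ => hPV) σ).1
  refine acyc_of_presheaf_system (I := (Over j)ᵒᵖ) ((Φinf D c j).op ⋙ G.obj)
    (fun _ : ι => Z₀) (fun k => (Φst D j k.unop).op ⋙ G.obj)
    (fun k => Functor.whiskerRight (NatTrans.op (lamN D c j k.unop)) G.obj)
    (fun {k k'} f => Functor.whiskerRight (NatTrans.op (tauN D j f.unop)) G.obj)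
    (fun {k k'} f => ?_) (fun {k k' k''} f f' => ?_) n (fun σ t => ?_) (fun σ k s hs => ?_)
    (fun k => ?_)
  · rw [← Functor.whiskerRight_comp, ← NatTrans.op_comp, lamN_tauN]
  · rw [← Functor.whiskerRight_comp, ← NatTrans.op_comp, tauN_comp]
    rfl
  · haveI := hNaff σ
    obtain ⟨k, s, hs⟩ := surj_G I (bcFunctor D (Uσ (fun _ : ι => Z₀) σ).hom)
      (fun k => isAffine_pullback_left _ _) (bcCone D c (Uσ (fun _ : ι => Z₀) σ).hom)
      (bcIsLimit D c _ hc) t
    exact ⟨op k, s, hs⟩
  · haveI := hNaff σ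
    obtain ⟨k', f, hf⟩ := inj_G I (bcFunctor D (Uσ (fun _ : ι => Z₀) σ).hom)
      (fun k => isAffine_pullback_left _ _) (bcCone D c (Uσ (fun _ : ι => Z₀) σ).hom)
      (bcIsLimit D c _ hc) k.unop s hs
    exact ⟨op k', f.op, hf⟩
  · -- acyclicity at a stage
    refine acyc_of_iso _ _ _ _
      (transferIso (Over.pullback (D.map k.unop.hom)) (fun _ : ι => Z₀)
        (rP (U := D.obj k.unop.left) G.obj)).symm n ?_
    haveI := hDet k.unop.left
    refine acyc_etale' I (D.obj k.unop.left) _ (fun i => ?_) n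
    change Etale (pullback e₀ (D.map k.unop.hom)).hom
    have h3 : (pullback e₀ (D.map k.unop.hom)).hom =
        (pullback.snd e₀ (D.map k.unop.hom)).left ≫ (D.obj k.unop.left).hom :=
      (MorphismProperty.Over.w (pullback.snd e₀ (D.map k.unop.hom))).symm
    rw [h3]
    haveI : Etale (pullback.snd e₀ (D.map k.unop.hom)).left := by
      rw [← pullbackLeftIso_hom_snd]
      haveI : Etale e₀.left := hε₀e
      infer_instance
    infer_instance

end Groth.Agent.Lib.Helper4.PEC
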