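import Mathlib
import Groth.Prelude.Def_ProEtS
import Groth.Prelude.Def_PBC
import Groth.Agent.Lib.Helper4.PE8

/-!
# Exactness of pushforward of abelian pro-étale sheaves via weakly contractible objects
-/

set_option autoImplicit false
set_option linter.style.haveILetI false
set_option linter.unusedSectionVars false
universe u

namespace Groth.Agent.Lib.Helper4.PEPush

open CategoryTheory CategoryTheory.Limits AlgebraicGeometry Opposite Groth.Agent.Lib.Helper4.PE

/-- An additive left exact functor between abelian categories preserving epimorphisms is exact. -/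
theorem preservesFiniteColimits_of_epi {C D : Type*} [Category C] [Abelian C] [Category D]
    [Abelian D] (F : C ⥤ D) [F.Additive] [PreservesFiniteLimits F]
    (h : ∀ {X Y : C} (g : X ⟶ Y), Epi g → Epi (F.map g)) : PreservesFiniteColimits F :=
  (Functor.preservesFiniteColimits_iff_forall_exact_map_and_epi F).mpr fun S hS =>
    ⟨((Functor.preservesFiniteLimits_iff_forall_exact_map_and_mono F).mp inferInstance S hS).1,
      h S.g hS.epi_g⟩

variable {X : Scheme.{u}}

/-- An epimorphism of abelian sheaves is surjective on sections over weakly contractible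
objects. -/
theorem surjective_app_of_epi_of_isWC {F G : ProEtS.AbP X} (φ : F ⟶ G) [Epi φ] (W : X.ProEt)
    (hW : ProEtS.IsWC W) : Function.Surjective (φ.hom.app (op W)) := by
  haveI hls : Sheaf.IsLocallySurjective φ :=
    (Sheaf.isLocallySurjective_iff_epi' (A := AddCommGrpCat.{u + 1}) φ).mpr inferInstance
  haveI : Sheaf.IsLocallySurjective
      ((sheafCompose (Scheme.ProEt.topology X) (forget AddCommGrpCat.{u + 1})).map φ) :=
    inferInstance
  have hepi : Epi ((sheafCompose (Scheme.ProEt.topology X)
      (forget AddCommGrpCat.{u + 1})).map φ) := inferInstance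
  exact hW _ _ _ hepi

theorem epi_pushP_map {Z : Scheme.{u}} (f : Z ⟶ X) [ProEtS.PCont f]
    (hf : ∀ (W : X.ProEt), IsAffine W.left → EtPBC.IsWContractible Γ(W.left, ⊤) →
      ProEtS.IsWC ((ProEtS.bcP f).obj W))
    {F G : ProEtS.AbP Z} (φ : F ⟶ G) (hφ : Epi φ) : Epi ((ProEtS.pushP f).map φ) := by
  haveI := hφ
  rw [← Sheaf.isLocallySurjective_iff_epi' (A := AddCommGrpCat.{u + 1})]
  constructor
  intro U s
  obtain ⟨ι, V, g, hcov, hV⟩ := exists_wc_cover U
  refine (Scheme.ProEt.topology X).superset_covering ?_ hcov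
  rintro Y _ ⟨W, a, b, ⟨i⟩, rfl⟩
  apply Sieve.downward_closed
  have hwc : ProEtS.IsWC ((ProEtS.bcP f).obj (V i)) := hf (V i) (hV i).1 (hV i).2
  obtain ⟨t, ht⟩ := surjective_app_of_epi_of_isWC φ _ hwc
    (G.obj.map ((ProEtS.bcP f).map (g i)).op s)
  exact ⟨t, ht⟩

theorem exact_pushP {Z : Scheme.{u}} (f : Z ⟶ X) [ProEtS.PCont f]
    (hf : ∀ (W : X.ProEt), IsAffine W.left → EtPBC.IsWContractible Γ(W.left, ⊤) →
      ProEtS.IsWC ((ProEtS.bcP f).obj W)) :
    PreservesFiniteLimits (ProEtS.pushP f) ∧ PreservesFiniteColimits (ProEtS.pushP f) := by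
  haveI h1 : PreservesFiniteLimits (ProEtS.pushP f) := by
    haveI := (ProEtS.pullPushAdjP f).rightAdjoint_preservesLimits
    infer_instance
  exact ⟨h1, preservesFiniteColimits_of_epi _ (fun g hg => epi_pushP_map f hf g hg)⟩

end Groth.Agent.Lib.Helper4.PEPush
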