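import Mathlib
import Groth.Prelude.Def_PBC
import Groth.Agent.Lib.Helper4.IndEtGen
import Groth.Agent.Lib.Helper4.IndEtColim

/-!
# The index category of étale algebras mapping to a fixed algebra

For an `A`-algebra `Cb` we define a small category whose objects are étale `A`-algebras in standard
form `A[X₁..Xₙ]/K` together with an `A`-algebra map to `Cb`, and show it is filtered.
-/

set_option autoImplicit false
set_option linter.style.haveILetI false
set_option linter.unusedSectionVars false
universe u

open CategoryTheory CategoryTheory.Limits TensorProduct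

namespace Groth.Agent.Lib.Helper4.IndEtLift

open Groth.Agent.Lib.Helper4.IndEt

variable (A : Type u) [CommRing A] (Cb : Type u) [CommRing Cb] [Algebra A Cb]

/-- étale `A`-algebras in standard form with a map to `Cb`. -/
structure Obj where
  n : ℕ
  K : Ideal (MvPolynomial (Fin n) A)
  et : Algebra.Etale A (MvPolynomial (Fin n) A ⧸ K)
  φ : (MvPolynomial (Fin n) A ⧸ K) →ₐ[A] Cb

variable {A Cb}

/-- the underlying ring -/
abbrev Obj.R (X : Obj A Cb) : Type u := MvPolynomial (Fin X.n) A ⧸ X.K

instance (X : Obj A Cb) : Algebra.Etale A X.R := X.et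

/-- morphisms -/
@[ext] structure Hom (X Y : Obj A Cb) where
  f : X.R →ₐ[A] Y.R
  w : ∀ x, Y.φ (f x) = X.φ x

noncomputable instance : Category (Obj A Cb) where
  Hom := Hom
  id X := ⟨AlgHom.id A _, fun _ => rfl⟩
  comp f g := ⟨g.f.comp f.f, fun x => by
    rw [AlgHom.comp_apply, g.w, f.w]⟩

theorem exists_model (D : Type u) [CommRing D] [Algebra A D] [Algebra.Etale A D]
    (φ : D →ₐ[A] Cb) :
    ∃ (X : Obj A Cb) (e : D ≃ₐ[A] X.R), ∀ x, X.φ (e x) = φ x := by
  obtain ⟨n, f, hf, -⟩ := (inferInstance : Algebra.FinitePresentation A D).out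
  let e := Ideal.quotientKerAlgEquivOfSurjective hf
  refine ⟨⟨n, RingHom.ker f, Algebra.Etale.of_equiv e.symm, φ.comp e.toAlgHom⟩, e.symm,
    fun x => ?_⟩
  change φ (e (e.symm x)) = φ x
  rw [AlgEquiv.apply_symm_apply]

instance : Nonempty (Obj A Cb) := by
  obtain ⟨X, -, -⟩ := exists_model (A := A) (Cb := Cb) A (Algebra.ofId A Cb)
  exact ⟨X⟩

theorem cocone_objs (X Y : Obj A Cb) : ∃ (Z : Obj A Cb) (_ : X ⟶ Z) (_ : Y ⟶ Z), True := by
  let T := X.R ⊗[A] Y.R
  haveI : Algebra.Etale A T := Algebra.Etale.comp A X.R T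
  obtain ⟨Z, e, he⟩ := exists_model T (Algebra.TensorProduct.productMap X.φ Y.φ)
  refine ⟨Z, ⟨e.toAlgHom.comp Algebra.TensorProduct.includeLeft, fun x => ?_⟩,
    ⟨e.toAlgHom.comp Algebra.TensorProduct.includeRight, fun x => ?_⟩, trivial⟩
  · change Z.φ (e (x ⊗ₜ 1)) = _
    rw [he, Algebra.TensorProduct.productMap_apply_tmul, map_one, mul_one]
  · change Z.φ (e (1 ⊗ₜ x)) = _
    rw [he, Algebra.TensorProduct.productMap_apply_tmul, map_one, one_mul]

theorem cocone_maps (X Y : Obj A Cb) (f g : X ⟶ Y) :
    ∃ (Z : Obj A Cb) (h : Y ⟶ Z), f ≫ h = g ≫ h := by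
  let ε : Y.R := Algebra.TensorProduct.productMap f.f g.f (Algebra.FormallyUnramified.elem A X.R)
  let E := Localization.Away ε
  haveI : Algebra.Etale A E := inferInstance
  have hε : Y.φ ε = 1 := by
    have h1 : (Y.φ.comp (Algebra.TensorProduct.productMap f.f g.f)) =
        X.φ.comp (Algebra.TensorProduct.lmul' A) := by
      apply Algebra.TensorProduct.ext'
      intro a b
      simp [f.w, g.w]
    have h2 := congrArg (fun m => m (Algebra.FormallyUnramified.elem A X.R)) h1
    simp only [AlgHom.comp_apply] at h2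
    rw [Algebra.FormallyUnramified.lmul_elem, map_one] at h2
    exact h2
  have hu : ∀ y : Submonoid.powers ε, IsUnit (Y.φ y) := by
    rintro ⟨_, n, rfl⟩
    simp [hε]
  let ψ : E →ₐ[A] Cb := IsLocalization.liftAlgHom (M := Submonoid.powers ε) (f := Y.φ) hu
  obtain ⟨Z, e, he⟩ := exists_model E ψ
  have hfg : ∀ x : X.R, algebraMap Y.R E (f.f x) = algebraMap Y.R E (g.f x) := by
    intro x
    have h1 := Algebra.FormallyUnramified.one_tmul_sub_tmul_one_mul_elem (R := A) (S := X.R) x
    have h2 := congrArg (Algebra.TensorProduct.productMap f.f g.f) h1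
    rw [map_mul, map_sub, map_zero] at h2
    simp only [Algebra.TensorProduct.productMap_apply_tmul, map_one, one_mul, mul_one] at h2
    have h3 : (g.f x - f.f x) * ε = 0 := h2
    have h4 := congrArg (algebraMap Y.R E) h3
    rw [map_mul, map_zero, map_sub] at h4
    have hunit : IsUnit (algebraMap Y.R E ε) := IsLocalization.Away.algebraMap_isUnit ε
    have h5 := (hunit.mul_left_eq_zero).mp h4
    exact (sub_eq_zero.mp h5).symm
  refine ⟨Z, ⟨e.toAlgHom.comp (IsScalarTower.toAlgHom A Y.R E), fun y => ?_⟩, ?_⟩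
  · change Z.φ (e (algebraMap Y.R E y)) = _
    rw [he]
    change IsLocalization.lift hu (algebraMap Y.R E y) = _
    rw [IsLocalization.lift_eq]
    rfl
  · apply Hom.ext
    apply AlgHom.ext
    intro x
    change e (algebraMap Y.R E (f.f x)) = e (algebraMap Y.R E (g.f x))
    rw [hfg]

instance : IsFiltered (Obj A Cb) where
  cocone_objs := cocone_objs
  cocone_maps := fun X Y f g => cocone_maps X Y f g

/-- the diagram of underlying algebras -/
noncomputable def diag : Obj A Cb ⥤ Under (CommRingCat.of A) where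
  obj X := mkU A X.R
  map f := Under.homMk (CommRingCat.ofHom f.f.toRingHom) (by
    ext a
    exact f.f.commutes a)
  map_id X := by
    ext x
    rfl
  map_comp f g := by
    ext x
    rfl

/-- the cocone with point `Cb` -/
noncomputable def cocone : Cocone (diag (A := A) (Cb := Cb)) where
  pt := mkU A Cb
  ι :=
    { app := fun X => Under.homMk (CommRingCat.ofHom X.φ.toRingHom) (by
        ext a
        exact X.φ.commutes a)
      naturality := fun X Y f => by
        ext x
        exact f.w x }

theorem pet_diag (X : Obj A Cb) : Pet A (diag.obj X) := pet_mkU A X.R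

end Groth.Agent.Lib.Helper4.IndEtLift
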