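import Mathlib
import Groth.Prelude.Def_PBC
import Groth.Agent.Lib.Helper4.IndEtLift1
import Groth.Agent.Lib.Helper10.IndEtale
import Groth.Agent.S9436

/-!
# Lifting ind-étale algebras along a quotient map
-/

set_option autoImplicit false
set_option linter.style.haveILetI false
set_option linter.unusedSectionVars false
universe u

open CategoryTheory CategoryTheory.Limits TensorProduct

namespace Groth.Agent.Lib.Helper4.IndEtLift

open Groth.Agent.Lib.Helper4.IndEt Groth.Agent.Lib.Helper10.IndEtale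

variable {A : Type u} [CommRing A] (I : Ideal A) {Cb : Type u} [CommRing Cb] [Algebra A Cb]
  [Algebra (A ⧸ I) Cb] [IsScalarTower A (A ⧸ I) Cb]

include I in
/-- (a) every element of an ind-étale `A/I`-algebra comes from an object of the index category. -/
theorem exists_obj_rep (h : EtPBC.IsIndEtale (A ⧸ I) Cb) (y : Cb) :
    ∃ (X : Obj A Cb) (d : X.R), X.φ d = y := by
  obtain ⟨J, hJ1, hJ2, D, c, hc, hD, ⟨e⟩⟩ := h
  obtain ⟨j, z, hz⟩ := under_exists_rep D c hc (e.inv.right y)
  letI algD : Algebra (A ⧸ I) (D.obj j).right := (D.obj j).hom.hom.toAlgebra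
  haveI : Algebra.Etale (A ⧸ I) (D.obj j).right := hD j
  obtain ⟨S, _, _, hS, ⟨eS⟩⟩ := Groth.Agent.S9436.result A I (D.obj j).right
  -- the ring map `S → Cb`
  let ψ0 : S →+* Cb := (e.hom.right.hom.comp (c.ι.app j).right.hom).comp
    (eS.toAlgHom.toRingHom.comp
      (Algebra.TensorProduct.includeRight (R := A) (A := A ⧸ I) (B := S)).toRingHom)
  have hψ0 : ∀ s : S, ψ0 s = e.hom.right ((c.ι.app j).right (eS (1 ⊗ₜ s))) := fun s => rfl
  let ψ : S →ₐ[A] Cb :=
    { ψ0 with
      commutes' := fun a => by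
        change ψ0 (algebraMap A S a) = _
        rw [hψ0]
        have h1 : (1 : A ⧸ I) ⊗ₜ[A] (algebraMap A S a) =
            algebraMap (A ⧸ I) ((A ⧸ I) ⊗[A] S) (algebraMap A (A ⧸ I) a) := by
          rw [Algebra.TensorProduct.algebraMap_apply, Algebra.algebraMap_eq_smul_one a,
            ← TensorProduct.smul_tmul]
          simp [Algebra.smul_def]
        rw [h1, eS.commutes]
        have h2 := under_w_apply (c.ι.app j) (algebraMap A (A ⧸ I) a)
        have h3 := under_w_apply e.hom (algebraMap A (A ⧸ I) a)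
        change e.hom.right ((c.ι.app j).right ((D.obj j).hom (algebraMap A (A ⧸ I) a))) = _
        rw [h2]
        erw [h3]
        exact (IsScalarTower.algebraMap_apply A (A ⧸ I) Cb a).symm }
  obtain ⟨X, eX, heX⟩ := exists_model S ψ
  obtain ⟨s, hs⟩ := Algebra.TensorProduct.includeRight_surjective (R := A) (S := A ⧸ I) S
    Ideal.Quotient.mk_surjective (eS.symm z)
  refine ⟨X, eX s, ?_⟩
  rw [heX]
  change ψ0 s = y
  rw [hψ0]
  have h4 : (1 : A ⧸ I) ⊗ₜ[A] s = eS.symm z := hs
  rw [h4, AlgEquiv.apply_symm_apply, hz]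
  exact congrArg (fun m => m.right y) e.inv_hom_id

include I in
/-- (b), ring form. -/
theorem lift_step (h : EtPBC.IsIndEtale (A ⧸ I) Cb) (R : Type u) [CommRing R] [Algebra A R]
    [Algebra.Etale A R] (φ : R →ₐ[A] Cb) (d : R) (hd : φ d = 0) :
    ∃ (E : Type u) (_ : CommRing E) (_ : Algebra A E) (_ : Algebra.Etale A E)
      (f : R →ₐ[A] E) (ψ : E →ₐ[A] Cb), (∀ x, ψ (f x) = φ x) ∧
        f d ∈ I.map (algebraMap A E) := by
  obtain ⟨J, _, _, pres, hpres⟩ := ind_of_isIndEtale (A ⧸ I) Cb h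
  haveI : Algebra.Etale (A ⧸ I) (R ⧸ I.map (algebraMap A R)) :=
    Algebra.Etale.of_equiv (Algebra.TensorProduct.quotIdealMapEquivQuotTensor R I).symm
  have hker : ∀ x ∈ I.map (algebraMap A R), φ.toRingHom x = 0 := by
    have : I.map (algebraMap A R) ≤ RingHom.ker φ.toRingHom := by
      rw [Ideal.map_le_iff_le_comap]
      intro a ha
      rw [Ideal.mem_comap, RingHom.mem_ker]
      change φ (algebraMap A R a) = 0
      rw [φ.commutes, IsScalarTower.algebraMap_apply A (A ⧸ I) Cb, Ideal.Quotient.algebraMap_eq,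
        Ideal.Quotient.eq_zero_iff_mem.mpr ha, map_zero]
    exact fun x hx => this hx
  let φb : (R ⧸ I.map (algebraMap A R)) →+* Cb := Ideal.Quotient.lift _ φ.toRingHom hker
  have hφb : ∀ x : R, φb (Ideal.Quotient.mk _ x) = φ x := fun x => rfl
  let g : mkU (A ⧸ I) (R ⧸ I.map (algebraMap A R)) ⟶ mkU (A ⧸ I) Cb :=
    Under.homMk (CommRingCat.ofHom φb) (by
      ext a
      change φb (algebraMap (A ⧸ I) (R ⧸ I.map (algebraMap A R)) (Ideal.Quotient.mk I a)) =
        algebraMap (A ⧸ I) Cb (Ideal.Quotient.mk I a)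
      rw [Ideal.Quotient.algebraMap_quotient_map_quotient, hφb, φ.commutes,
        IsScalarTower.algebraMap_apply A (A ⧸ I) Cb]
      rfl)
  have hfp : IsFinitelyPresentable.{u} (mkU (A ⧸ I) (R ⧸ I.map (algebraMap A R))) :=
    pet_le_isFinitelyPresentable _ _ (pet_mkU _ _)
  obtain ⟨j, u, hu⟩ := IsFinitelyPresentable.exists_hom_of_isColimit pres.isColimit g
  have hur : ∀ x, (pres.ι.app j).right (u.right x) = φb x := fun x =>
    congrArg (fun m => m.right x) hu
  have h0 : (pres.cocone.ι.app j).right (u.right (Ideal.Quotient.mk _ d)) =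
      (pres.cocone.ι.app j).right 0 := by
    rw [map_zero]
    exact (hur _).trans ((hφb d).trans hd)
  obtain ⟨k, v, hv⟩ := under_exists_eq pres.diag pres.cocone pres.isColimit j _ _ h0
  rw [map_zero] at hv
  let u' := u ≫ pres.diag.map v
  have hu' : ∀ x, (pres.ι.app k).right (u'.right x) = φb x := by
    intro x
    have h1 : u' ≫ pres.ι.app k = g := by
      rw [Category.assoc, pres.ι.naturality]
      simpa using hu
    exact congrArg (fun m => m.right x) h1
  have hu'd : u'.right (Ideal.Quotient.mk _ d) = 0 := hv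
  letI algDk : Algebra (A ⧸ I) (pres.diag.obj k).right := (pres.diag.obj k).hom.hom.toAlgebra
  haveI : Algebra.Etale (A ⧸ I) (pres.diag.obj k).right := hpres k
  letI algDbDk : Algebra (R ⧸ I.map (algebraMap A R)) (pres.diag.obj k).right :=
    u'.right.hom.toAlgebra
  haveI : IsScalarTower (A ⧸ I) (R ⧸ I.map (algebraMap A R)) (pres.diag.obj k).right :=
    .of_algebraMap_eq (fun a => (under_w_apply u' a).symm)
  haveI : Algebra.Etale (R ⧸ I.map (algebraMap A R)) (pres.diag.obj k).right :=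
    Algebra.Etale.of_restrictScalars (A ⧸ I) _ _
  obtain ⟨E, _, _, hE, ⟨eE⟩⟩ :=
    Groth.Agent.S9436.result R (I.map (algebraMap A R)) (pres.diag.obj k).right
  letI algAE : Algebra A E := ((algebraMap R E).comp (algebraMap A R)).toAlgebra
  haveI : IsScalarTower A R E := .of_algebraMap_eq (fun _ => rfl)
  haveI : Algebra.Etale A E := Algebra.Etale.comp A R E
  -- key computation: `eE (1 ⊗ algebraMap x) = u' (mk x)`
  have hkey : ∀ x : R, eE ((1 : R ⧸ I.map (algebraMap A R)) ⊗ₜ[R] (algebraMap R E x)) =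
      u'.right (Ideal.Quotient.mk _ x) := by
    intro x
    have h1 : (1 : R ⧸ I.map (algebraMap A R)) ⊗ₜ[R] (algebraMap R E x) =
        algebraMap (R ⧸ I.map (algebraMap A R)) ((R ⧸ I.map (algebraMap A R)) ⊗[R] E)
          (Ideal.Quotient.mk _ x) := by
      rw [Algebra.TensorProduct.algebraMap_apply, Algebra.algebraMap_eq_smul_one x,
        ← TensorProduct.smul_tmul]
      simp [Algebra.smul_def]
    rw [h1, eE.commutes]
    rfl
  let ψ0 : E →+* Cb := (pres.ι.app k).right.hom.comp (eE.toAlgHom.toRingHom.comp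
      (Algebra.TensorProduct.includeRight (R := R) (A := R ⧸ I.map (algebraMap A R))
        (B := E)).toRingHom)
  have hψ0 : ∀ s : E, ψ0 s = (pres.ι.app k).right (eE (1 ⊗ₜ s)) := fun s => rfl
  have hψ0R : ∀ x : R, ψ0 (algebraMap R E x) = φ x := by
    intro x
    rw [hψ0, hkey, hu', hφb]
  let ψ : E →ₐ[A] Cb :=
    { ψ0 with
      commutes' := fun a => by
        change ψ0 (algebraMap R E (algebraMap A R a)) = _
        rw [hψ0R, φ.commutes] }
  refine ⟨E, inferInstance, algAE, inferInstance, IsScalarTower.toAlgHom A R E, ψ, hψ0R, ?_⟩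
  change algebraMap R E d ∈ _
  have h2 : Algebra.TensorProduct.quotIdealMapEquivQuotTensor E (I.map (algebraMap A R))
      (Ideal.Quotient.mk _ (algebraMap R E d)) = 0 := by
    rw [Algebra.TensorProduct.quotIdealMapEquivQuotTensor_mk]
    apply eE.injective
    rw [hkey, hu'd, map_zero]
  have h3 := (map_eq_zero_iff _ (AlgEquiv.injective _)).mp h2
  rw [Ideal.Quotient.eq_zero_iff_mem, Ideal.map_map] at h3
  exact h3

include I in
/-- (b) -/
theorem exists_hom_mem (h : EtPBC.IsIndEtale (A ⧸ I) Cb) (X : Obj A Cb) (d : X.R)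
    (hd : X.φ d = 0) :
    ∃ (Y : Obj A Cb) (f : X ⟶ Y), f.f d ∈ I.map (algebraMap A Y.R) := by
  obtain ⟨E, _, _, _, f, ψ, hψ, hmem⟩ := lift_step I h X.R X.φ d hd
  obtain ⟨Y, e, he⟩ := exists_model E ψ
  refine ⟨Y, ⟨e.toAlgHom.comp f, fun x => ?_⟩, ?_⟩
  · change Y.φ (e (f x)) = _
    rw [he, hψ]
  · change e (f d) ∈ _
    have h1 : Ideal.map e.toAlgHom.toRingHom (I.map (algebraMap A E)) =
        I.map (algebraMap A Y.R) := by
      rw [Ideal.map_map]
      congr 1
      ext a
      exact e.commutes a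
    rw [← h1]
    exact Ideal.mem_map_of_mem _ hmem

end Groth.Agent.Lib.Helper4.IndEtLift
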