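import Mathlib
import Groth.Prelude.Def_PBC
import Groth.Agent.Lib.Helper4.IndEtLift2

/-!
# Lifting ind-étale algebras along a quotient map: the main statement
-/

set_option autoImplicit false
set_option linter.style.haveILetI false
set_option linter.unusedSectionVars false
universe u

open CategoryTheory CategoryTheory.Limits TensorProduct

namespace Groth.Agent.Lib.Helper4.IndEtLift

open Groth.Agent.Lib.Helper4.IndEt Groth.Agent.Lib.Helper10.IndEtale

/-- an `A`-algebra surjection `C → Cb` onto an `A/I`-algebra with kernel `IC` induces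
`C/IC ≃ Cb`. -/
theorem nonempty_algEquiv_of_ker {A : Type u} [CommRing A] (I : Ideal A) {Cb : Type u}
    [CommRing Cb] [Algebra A Cb] [Algebra (A ⧸ I) Cb] [IsScalarTower A (A ⧸ I) Cb]
    (C : Type u) [CommRing C] [Algebra A C] (Φ : C →ₐ[A] Cb) (hs : Function.Surjective Φ)
    (hk : RingHom.ker Φ.toRingHom = I.map (algebraMap A C)) :
    Nonempty ((C ⧸ I.map (algebraMap A C)) ≃ₐ[A ⧸ I] Cb) := by
  let e1 : (C ⧸ I.map (algebraMap A C)) ≃+* (C ⧸ RingHom.ker Φ.toRingHom) :=
    Ideal.quotEquivOfEq hk.symm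
  let e2 : (C ⧸ RingHom.ker Φ.toRingHom) ≃+* Cb :=
    RingHom.quotientKerEquivOfSurjective (f := Φ.toRingHom) hs
  refine ⟨AlgEquiv.ofRingEquiv (f := e1.trans e2) ?_⟩
  intro x
  obtain ⟨a, rfl⟩ := Ideal.Quotient.mk_surjective x
  rw [Ideal.Quotient.algebraMap_quotient_map_quotient]
  change Φ (algebraMap A C a) = _
  rw [Φ.commutes, IsScalarTower.algebraMap_apply A (A ⧸ I) Cb]
  rfl

theorem exists_lift (A : Type u) [CommRing A] (I : Ideal A) (Cb : Type u)
    [CommRing Cb] [Algebra (A ⧸ I) Cb] (h : EtPBC.IsIndEtale (A ⧸ I) Cb) :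
    ∃ (C : Type u) (_ : CommRing C) (_ : Algebra A C),
      EtPBC.IsIndEtale A C ∧ Nonempty ((C ⧸ I.map (algebraMap A C)) ≃ₐ[A ⧸ I] Cb) := by
  letI algACb : Algebra A Cb := ((algebraMap (A ⧸ I) Cb).comp (algebraMap A (A ⧸ I))).toAlgebra
  haveI : IsScalarTower A (A ⧸ I) Cb := .of_algebraMap_eq (fun _ => rfl)
  let D := diag (A := A) (Cb := Cb)
  let c := colimit.cocone D
  have hc : IsColimit c := colimit.isColimit D
  letI algC : Algebra A c.pt.right := c.pt.hom.hom.toAlgebra
  have hind : EtPBC.IsIndEtale A c.pt.right :=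
    ⟨Obj A Cb, inferInstance, inferInstance, D, c, hc, fun X => pet_diag X, ⟨Iso.refl _⟩⟩
  refine ⟨c.pt.right, inferInstance, algC, hind, ?_⟩
  let Φ0 : c.pt ⟶ mkU A Cb := hc.desc cocone
  have hΦ0 : ∀ (X : Obj A Cb) (d : X.R), Φ0.right ((c.ι.app X).right d) = X.φ d := by
    intro X d
    exact congrArg (fun m => m.right d) (hc.fac cocone X)
  let Φ : c.pt.right →ₐ[A] Cb :=
    { Φ0.right.hom with
      commutes' := fun a => under_w_apply Φ0 a }
  have hΦ : ∀ x, Φ x = Φ0.right x := fun x => rfl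
  have hιalg : ∀ (X : Obj A Cb) (a : A), (c.ι.app X).right (algebraMap A X.R a) =
      algebraMap A c.pt.right a := fun X a => under_w_apply (c.ι.app X) a
  apply nonempty_algEquiv_of_ker I c.pt.right Φ
  · intro y
    obtain ⟨X, d, hd⟩ := exists_obj_rep I h y
    exact ⟨(c.ι.app X).right d, (hΦ _).trans ((hΦ0 X d).trans hd)⟩
  · apply le_antisymm
    · intro x hx
      rw [RingHom.mem_ker] at hx
      obtain ⟨X, d, rfl⟩ := under_exists_rep D c hc x
      have hd : X.φ d = 0 := (hΦ0 X d).symm.trans hx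
      obtain ⟨Y, f, hf⟩ := exists_hom_mem I h X d hd
      have h1 : (c.ι.app X).right d = (c.ι.app Y).right (f.f d) := by
        have := c.ι.naturality f
        exact (congrArg (fun m => m.right d) (c.w f)).symm
      rw [h1]
      let ιY : Y.R →+* c.pt.right := (c.ι.app Y).right.hom
      have h2 : Ideal.map ιY (I.map (algebraMap A Y.R)) =
          I.map (algebraMap A c.pt.right) := by
        rw [Ideal.map_map]
        congr 1
        ext a
        exact hιalg Y a
      rw [← h2]
      exact Ideal.mem_map_of_mem ιY hf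
    · rw [Ideal.map_le_iff_le_comap]
      intro a ha
      rw [Ideal.mem_comap, RingHom.mem_ker]
      change Φ (algebraMap A c.pt.right a) = 0
      rw [Φ.commutes, IsScalarTower.algebraMap_apply A (A ⧸ I) Cb, Ideal.Quotient.algebraMap_eq,
        Ideal.Quotient.eq_zero_iff_mem.mpr ha, map_zero]

end Groth.Agent.Lib.Helper4.IndEtLift
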