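import Mathlib
import Groth.Prelude.Def_PBC
import Groth.Agent.Lib.Helper4.IndEtLift3

/-!
# The canonical ind-étale lift: named pieces
-/

set_option autoImplicit false
set_option linter.style.haveILetI false
set_option linter.unusedSectionVars false
universe u

open CategoryTheory CategoryTheory.Limits TensorProduct

namespace Groth.Agent.Lib.Helper4.IndEtLift

open Groth.Agent.Lib.Helper4.IndEt Groth.Agent.Lib.Helper10.IndEtale

variable (A : Type u) [CommRing A] (Cb : Type u) [CommRing Cb] [Algebra A Cb]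

/-- the colimit cocone -/
noncomputable def cc : Cocone (diag (A := A) (Cb := Cb)) := colimit.cocone diag

/-- it is a colimit -/
noncomputable def hcc : IsColimit (cc A Cb) := colimit.isColimit _

/-- the canonical lift -/
abbrev CC : Type u := (cc A Cb).pt.right

noncomputable instance algCC : Algebra A (CC A Cb) := (cc A Cb).pt.hom.hom.toAlgebra

theorem isIndEtale_CC : EtPBC.IsIndEtale A (CC A Cb) :=
  ⟨Obj A Cb, inferInstance, inferInstance, diag, cc A Cb, hcc A Cb, fun X => pet_diag X,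
    ⟨Iso.refl _⟩⟩

variable {A Cb}

/-- the structure maps -/
noncomputable def ι (X : Obj A Cb) : X.R →ₐ[A] CC A Cb :=
  { ((cc A Cb).ι.app X).right.hom with
    commutes' := fun a => under_w_apply ((cc A Cb).ι.app X) a }

theorem ι_hom {X Y : Obj A Cb} (f : X ⟶ Y) (d : X.R) : ι Y (f.f d) = ι X d :=
  congrArg (fun m => m.right d) ((cc A Cb).w f)

theorem exists_rep (x : CC A Cb) : ∃ (X : Obj A Cb) (d : X.R), ι X d = x :=
  under_exists_rep diag (cc A Cb) (hcc A Cb) x

variable (A Cb)

/-- the map to `Cb` -/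
noncomputable def Φ : CC A Cb →ₐ[A] Cb :=
  { ((hcc A Cb).desc cocone).right.hom with
    commutes' := fun a => under_w_apply ((hcc A Cb).desc cocone) a }

variable {A Cb}

theorem Φ_ι (X : Obj A Cb) (d : X.R) : Φ A Cb (ι X d) = X.φ d :=
  congrArg (fun m => m.right d) ((hcc A Cb).fac cocone X)

/-- finitely many elements come from a common stage -/
theorem exists_stage_fin (n : ℕ) (c : Fin n → CC A Cb) :
    ∃ (X : Obj A Cb) (d : Fin n → X.R), ∀ k, ι X (d k) = c k := by
  induction n with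
  | zero =>
    obtain ⟨X⟩ := (inferInstance : Nonempty (Obj A Cb))
    exact ⟨X, fun k => k.elim0, fun k => k.elim0⟩
  | succ n ih =>
    obtain ⟨X, d, hd⟩ := ih (fun k => c k.succ)
    obtain ⟨X', d', hd'⟩ := exists_rep (c 0)
    obtain ⟨Y, f, g, -⟩ := cocone_objs X X'
    refine ⟨Y, Fin.cons (g.f d') (fun k => f.f (d k)), ?_⟩
    intro k
    refine Fin.cases ?_ (fun k => ?_) k
    · rw [Fin.cons_zero, ι_hom, hd']
    · rw [Fin.cons_succ, ι_hom, hd k]

variable (I : Ideal A) [Algebra (A ⧸ I) Cb] [IsScalarTower A (A ⧸ I) Cb]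

theorem Φ_surjective (h : EtPBC.IsIndEtale (A ⧸ I) Cb) : Function.Surjective (Φ A Cb) := by
  intro y
  obtain ⟨X, d, hd⟩ := exists_obj_rep I h y
  exact ⟨ι X d, (Φ_ι X d).trans hd⟩

theorem map_le_ker_Φ : I.map (algebraMap A (CC A Cb)) ≤ RingHom.ker (Φ A Cb).toRingHom := by
  rw [Ideal.map_le_iff_le_comap]
  intro a ha
  rw [Ideal.mem_comap, RingHom.mem_ker]
  change Φ A Cb (algebraMap A (CC A Cb) a) = 0
  rw [(Φ A Cb).commutes, IsScalarTower.algebraMap_apply A (A ⧸ I) Cb, Ideal.Quotient.algebraMap_eq,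
    Ideal.Quotient.eq_zero_iff_mem.mpr ha, map_zero]

theorem ker_Φ (h : EtPBC.IsIndEtale (A ⧸ I) Cb) :
    RingHom.ker (Φ A Cb).toRingHom = I.map (algebraMap A (CC A Cb)) := by
  apply le_antisymm
  · intro x hx
    rw [RingHom.mem_ker] at hx
    obtain ⟨X, d, rfl⟩ := exists_rep x
    have hd : X.φ d = 0 := (Φ_ι X d).symm.trans hx
    obtain ⟨Y, f, hf⟩ := exists_hom_mem I h X d hd
    rw [← ι_hom f]
    have h2 : Ideal.map (ι Y).toRingHom (I.map (algebraMap A Y.R)) =
        I.map (algebraMap A (CC A Cb)) := by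
      rw [Ideal.map_map]
      congr 1
      ext a
      exact (ι Y).commutes a
    rw [← h2]
    exact Ideal.mem_map_of_mem (ι Y).toRingHom hf
  · exact map_le_ker_Φ I

end Groth.Agent.Lib.Helper4.IndEtLift
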