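import Mathlib
import Groth.Prelude.Def_PBC
import Groth.Agent.Lib.Helper4.IndEtLift4

/-!
# The canonical ind-étale lift is henselian along the extended ideal
-/

set_option autoImplicit false
set_option linter.style.haveILetI false
set_option linter.unusedSectionVars false
universe u

open CategoryTheory CategoryTheory.Limits TensorProduct Polynomial

namespace Groth.Agent.Lib.Helper4.IndEtLift

open Groth.Agent.Lib.Helper4.IndEt Groth.Agent.Lib.Helper10.IndEtale

variable {A : Type u} [CommRing A] {Cb : Type u} [CommRing Cb] [Algebra A Cb]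
  (I : Ideal A) [Algebra (A ⧸ I) Cb] [IsScalarTower A (A ⧸ I) Cb]

theorem map_le_jacobson : I.map (algebraMap A (CC A Cb)) ≤ Ideal.jacobson ⊥ := by
  intro x hx
  rw [Ideal.mem_jacobson_bot]
  intro y
  have hx0 : Φ A Cb x = 0 := map_le_ker_Φ I hx
  have hz : Φ A Cb (x * y + 1) = 1 := by
    rw [map_add, map_mul, hx0, zero_mul, zero_add, map_one]
  obtain ⟨X, d, hd⟩ := exists_rep (x * y + 1)
  have hXd : X.φ d = 1 := by
    rw [← Φ_ι X d, hd, hz]
  let E := Localization.Away d
  have hu : ∀ t : Submonoid.powers d, IsUnit (X.φ t) := by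
    rintro ⟨_, n, rfl⟩
    simp [hXd]
  let ψ : E →ₐ[A] Cb := IsLocalization.liftAlgHom (M := Submonoid.powers d) (f := X.φ) hu
  obtain ⟨Y, e, he⟩ := exists_model E ψ
  let f : X ⟶ Y := ⟨e.toAlgHom.comp (IsScalarTower.toAlgHom A X.R E), fun t => by
    change Y.φ (e (algebraMap X.R E t)) = _
    rw [he]
    change IsLocalization.lift hu (algebraMap X.R E t) = _
    rw [IsLocalization.lift_eq]
    rfl⟩
  have hfd : IsUnit (f.f d) := (IsLocalization.Away.algebraMap_isUnit d).map e
  rw [← hd, ← ι_hom f]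
  exact hfd.map (ι Y)

/-- the standard étale step -/
theorem hensel_step (R : Type u) [CommRing R] [Algebra A R] [Algebra.Etale A R] (φ : R →ₐ[A] Cb)
    (fR : R[X]) (hmon : fR.Monic) (aR : R)
    (hroot : eval₂ φ.toRingHom (φ aR) fR = 0)
    (hunit : IsUnit (eval₂ φ.toRingHom (φ aR) (derivative fR))) :
    ∃ (E : Type u) (_ : CommRing E) (_ : Algebra A E) (_ : Algebra.Etale A E)
      (m : R →ₐ[A] E) (ψ : E →ₐ[A] Cb) (x : E), (∀ t, ψ (m t) = φ t) ∧
        eval₂ m.toRingHom x fR = 0 ∧ ψ x = φ aR := by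
  letI algRCb : Algebra R Cb := φ.toRingHom.toAlgebra
  haveI : IsScalarTower A R Cb := .of_algebraMap_eq (fun a => (φ.commutes a).symm)
  let P : StandardEtalePair R :=
    { f := fR
      monic_f := hmon
      g := derivative fR
      cond := ⟨1, 0, 1, by simp⟩ }
  have hmap : P.HasMap (algebraMap R Cb aR) := ⟨hroot, hunit⟩
  let φ₀ : P.Ring →ₐ[R] Cb := P.lift _ hmap
  letI algAP : Algebra A P.Ring := ((algebraMap R P.Ring).comp (algebraMap A R)).toAlgebra
  haveI : IsScalarTower A R P.Ring := .of_algebraMap_eq (fun _ => rfl)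
  haveI : Algebra.Etale A P.Ring := Algebra.Etale.comp A R P.Ring
  refine ⟨P.Ring, inferInstance, algAP, inferInstance, IsScalarTower.toAlgHom A R P.Ring,
    φ₀.restrictScalars A, P.X, ?_, ?_, ?_⟩
  · intro t
    change φ₀ (algebraMap R P.Ring t) = _
    rw [φ₀.commutes]
    rfl
  · have := (P.hasMap_X).1
    rwa [aeval_def] at this
  · change φ₀ P.X = _
    rw [P.lift_X]
    rfl

set_option maxHeartbeats 1000000 in
theorem henselianRing_CC (h : EtPBC.IsIndEtale (A ⧸ I) Cb) :
    HenselianRing (CC A Cb) (I.map (algebraMap A (CC A Cb))) where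
  jac := map_le_jacobson I
  is_henselian f hf a₀ h₁ h₂ := by
    classical
    -- descend the data to a stage
    obtain ⟨X, d, hd⟩ := exists_stage_fin (f.natDegree + 1)
      (Fin.cons a₀ (fun k : Fin f.natDegree => f.coeff k))
    let aX : X.R := d 0
    have haX : ι X aX = a₀ := by
      have := hd 0
      rwa [Fin.cons_zero] at this
    have hdk : ∀ k : Fin f.natDegree, ι X (d k.succ) = f.coeff k := by
      intro k
      have := hd k.succ
      rwa [Fin.cons_succ] at this
    let g : X.R[X] := ∑ k : Fin f.natDegree, C (d k.succ) * Polynomial.X ^ (k : ℕ)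
    let fX : X.R[X] := Polynomial.X ^ f.natDegree + g
    have hfXmonic : fX.Monic := monic_X_pow_add (degree_sum_fin_lt _)
    have hfXmap : fX.map (ι X).toRingHom = f := by
      conv_rhs => rw [hf.as_sum]
      simp only [fX, g, Polynomial.map_add, Polynomial.map_pow, Polynomial.map_X,
        Polynomial.map_sum, Polynomial.map_mul, Polynomial.map_C]
      congr 1
      rw [← Fin.sum_univ_eq_sum_range (fun i => C (f.coeff i) * Polynomial.X ^ i)]
      apply Finset.sum_congr rfl
      intro k _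
      congr 2
      exact hdk k
    have hevalmap : ∀ (p : X.R[X]), Φ A Cb ((p.map (ι X).toRingHom).eval a₀) =
        eval₂ X.φ.toRingHom (X.φ aX) p := by
      intro p
      rw [← haX, Polynomial.eval_map, ← AlgHom.coe_toRingHom (Φ A Cb), Polynomial.hom_eval₂]
      congr 1
      · exact RingHom.ext (fun t => Φ_ι X t)
      · exact Φ_ι X aX
    have hroot : eval₂ X.φ.toRingHom (X.φ aX) fX = 0 := by
      rw [← hevalmap, hfXmap]
      exact map_le_ker_Φ I h₁
    have hunit : IsUnit (eval₂ X.φ.toRingHom (X.φ aX) (derivative fX)) := by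
      rw [← hevalmap, ← Polynomial.derivative_map, hfXmap]
      obtain ⟨u, hu⟩ := h₂.exists_right_inv
      obtain ⟨u, rfl⟩ := Ideal.Quotient.mk_surjective u
      rw [← map_mul, ← map_one (Ideal.Quotient.mk _), Ideal.Quotient.eq] at hu
      have h3 : Φ A Cb (f.derivative.eval a₀ * u - 1) = 0 := map_le_ker_Φ I hu
      rw [map_sub, map_mul, map_one, sub_eq_zero] at h3
      exact IsUnit.of_mul_eq_one _ h3
    obtain ⟨E, _, _, _, m₀, ψ, x, hψ, hx, hψx⟩ :=
      hensel_step X.R X.φ fX hfXmonic aX hroot hunit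
    obtain ⟨Y, e, he⟩ := exists_model E ψ
    let m : X ⟶ Y := ⟨e.toAlgHom.comp m₀, fun t => by
      change Y.φ (e (m₀ t)) = _
      rw [he, hψ]⟩
    have hιm : ∀ t : X.R, ι Y (e (m₀ t)) = ι X t := fun t => ι_hom m t
    refine ⟨ι Y (e x), ?_, ?_⟩
    · -- root
      rw [IsRoot.def, ← hfXmap]
      have h4 : (ι X).toRingHom =
          ((ι Y).toRingHom.comp e.toAlgHom.toRingHom).comp m₀.toRingHom :=
        RingHom.ext (fun t => (hιm t).symm)
      rw [h4, Polynomial.eval_map]
      have h5 : eval₂ (((ι Y).toRingHom.comp e.toAlgHom.toRingHom).comp m₀.toRingHom)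
          (ι Y (e x)) fX =
          ((ι Y).toRingHom.comp e.toAlgHom.toRingHom) (eval₂ m₀.toRingHom x fX) := by
        rw [Polynomial.hom_eval₂]
        rfl
      rw [h5, hx, map_zero]
    · -- congruence
      have h7 : Φ A Cb (ι Y (e x) - a₀) = 0 := by
        rw [map_sub, Φ_ι, he, ← haX, Φ_ι, hψx]
        exact sub_self _
      have h8 : ι Y (e x) - a₀ ∈ RingHom.ker (Φ A Cb).toRingHom := h7
      rwa [ker_Φ I h] at h8

end Groth.Agent.Lib.Helper4.IndEtLift
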