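import Mathlib
import Groth.Prelude.Def_ProEtW
import Groth.Agent.Lib.Helper12.WEtField

/-!
# Weakly étale maps induce algebraic residue field extensions
-/

set_option autoImplicit false
set_option linter.style.haveILetI false
set_option linter.unusedSectionVars false
universe u

namespace Groth.Agent.Lib.Helper4.WEtAlgRes

open TensorProduct

set_option synthInstance.maxHeartbeats 400000 in
set_option maxHeartbeats 1000000 in
theorem algebraicResidueExtensions_of_weaklyEtale (A B : Type u) [CommRing A] [CommRing B]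
    [Algebra A B] [Algebra.WeaklyEtale A B] : ProEtW.AlgebraicResidueExtensions A B := by
  intro q hq
  haveI hp : (q.comap (algebraMap A B)).IsPrime := Ideal.comap_isPrime _ _
  haveI : IsDomain (A ⧸ q.comap (algebraMap A B)) := Ideal.Quotient.isDomain _
  haveI : IsDomain (B ⧸ q) := Ideal.Quotient.isDomain _
  have hinj0 : Function.Injective (algebraMap (A ⧸ q.comap (algebraMap A B)) (B ⧸ q)) :=
    Ideal.algebraMap_quotient_injective
  haveI tower1 : IsScalarTower (A ⧸ q.comap (algebraMap A B)) (B ⧸ q) (FractionRing (B ⧸ q)) :=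
    inferInstance
  haveI hfaith : FaithfulSMul (A ⧸ q.comap (algebraMap A B)) (FractionRing (B ⧸ q)) := by
    rw [faithfulSMul_iff_algebraMap_injective]
    rw [IsScalarTower.algebraMap_eq (A ⧸ q.comap (algebraMap A B)) (B ⧸ q)
      (FractionRing (B ⧸ q))]
    exact (IsFractionRing.injective (B ⧸ q) (FractionRing (B ⧸ q))).comp hinj0
  letI algKL : Algebra (FractionRing (A ⧸ q.comap (algebraMap A B))) (FractionRing (B ⧸ q)) :=
    FractionRing.liftAlgebra (A ⧸ q.comap (algebraMap A B)) (FractionRing (B ⧸ q))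
  haveI tower2 : IsScalarTower (A ⧸ q.comap (algebraMap A B))
      (FractionRing (A ⧸ q.comap (algebraMap A B))) (FractionRing (B ⧸ q)) :=
    FractionRing.isScalarTower_liftAlgebra (A ⧸ q.comap (algebraMap A B)) (FractionRing (B ⧸ q))
  haveI tower3 : IsScalarTower A B (FractionRing (B ⧸ q)) := inferInstance
  haveI tower4 : IsScalarTower A (A ⧸ q.comap (algebraMap A B)) (FractionRing (B ⧸ q)) :=
    inferInstance
  haveI tower4' : IsScalarTower A (A ⧸ q.comap (algebraMap A B))
    (FractionRing (A ⧸ q.comap (algebraMap A B))) := inferInstance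
  haveI tower5 : IsScalarTower A (FractionRing (A ⧸ q.comap (algebraMap A B)))
      (FractionRing (B ⧸ q)) := IsScalarTower.of_algebraMap_eq (fun a => by
    rw [IsScalarTower.algebraMap_apply A (A ⧸ q.comap (algebraMap A B))
        (FractionRing (A ⧸ q.comap (algebraMap A B))),
      ← IsScalarTower.algebraMap_apply (A ⧸ q.comap (algebraMap A B))
        (FractionRing (A ⧸ q.comap (algebraMap A B))) (FractionRing (B ⧸ q)),
      ← IsScalarTower.algebraMap_apply A (A ⧸ q.comap (algebraMap A B)) (FractionRing (B ⧸ q))])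
  let g : B →ₐ[A] (FractionRing (B ⧸ q)) := IsScalarTower.toAlgHom A B (FractionRing (B ⧸ q))
  let χ : (FractionRing (A ⧸ q.comap (algebraMap A B))) ⊗[A] B
      →ₐ[FractionRing (A ⧸ q.comap (algebraMap A B))] (FractionRing (B ⧸ q)) :=
    Algebra.TensorProduct.lift (Algebra.ofId _ _) g (fun _ _ => Commute.all _ _)
  refine ⟨fun b => ?_⟩
  obtain ⟨b', rfl⟩ := Ideal.Quotient.mk_surjective b
  have hz : IsIntegral (FractionRing (A ⧸ q.comap (algebraMap A B)))
      ((1 : FractionRing (A ⧸ q.comap (algebraMap A B))) ⊗ₜ[A] b') :=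
    Groth.Agent.Lib.Helper12.WEtField.isIntegral_of_weaklyEtale _
  have hχ : χ ((1 : FractionRing (A ⧸ q.comap (algebraMap A B))) ⊗ₜ[A] b') =
      algebraMap (B ⧸ q) (FractionRing (B ⧸ q)) (Ideal.Quotient.mk q b') := by
    change Algebra.TensorProduct.lift _ _ _ _ = _
    rw [Algebra.TensorProduct.lift_tmul, map_one, one_mul]
    change algebraMap B (FractionRing (B ⧸ q)) b' = _
    rw [IsScalarTower.algebraMap_apply B (B ⧸ q) (FractionRing (B ⧸ q))]
    rfl
  have h1 : IsIntegral (FractionRing (A ⧸ q.comap (algebraMap A B)))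
      (algebraMap (B ⧸ q) (FractionRing (B ⧸ q)) (Ideal.Quotient.mk q b')) := by
    rw [← hχ]
    exact hz.map χ
  have h2 : IsAlgebraic (A ⧸ q.comap (algebraMap A B))
      (algebraMap (B ⧸ q) (FractionRing (B ⧸ q)) (Ideal.Quotient.mk q b')) :=
    (IsFractionRing.isAlgebraic_iff (A ⧸ q.comap (algebraMap A B))
      (FractionRing (A ⧸ q.comap (algebraMap A B))) (FractionRing (B ⧸ q))).mpr h1.isAlgebraic
  exact (isAlgebraic_algebraMap_iff (IsFractionRing.injective (B ⧸ q)
    (FractionRing (B ⧸ q)))).mp h2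

end Groth.Agent.Lib.Helper4.WEtAlgRes
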