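import Mathlib
import Groth.Prelude.Def_PBC
import Groth.Prelude.Def_ProEtW
import Groth.Prelude.Def_EtBase
import Groth.Agent.Lib.Helper4.Sq4

/-!
# The w-local ind-étale square: stage 2 (the `B`-side)
-/

set_option autoImplicit false
set_option linter.style.haveILetI false
set_option linter.unusedSectionVars false
universe u

namespace Groth.Agent.Lib.Helper4.Sq

open TensorProduct

set_option synthInstance.maxHeartbeats 400000 in
set_option maxHeartbeats 2000000 in
/-- Stage 2: given `A → B` with algebraic residue extensions and a flat ind-étale w-local `A → C`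
whose closed points surject onto `Spec A`, construct the `B`-side `D`. -/
theorem stage2 (A B C : Type u) [CommRing A] [CommRing B] [CommRing C] [Algebra A B]
    [Algebra A C] (h : ProEtW.AlgebraicResidueExtensions A B) [Module.Flat A C]
    (hEt : EtPBC.IsIndEtale A C) (hW : ProEtW.IsWLocal (PrimeSpectrum C))
    (hsurj : PrimeSpectrum.comap (algebraMap A C) '' ProEtW.closedPoints (PrimeSpectrum C) =
      Set.univ) :
    ∃ (D : Type u) (_ : CommRing D) (_ : Algebra B D) (_ : Algebra C D) (_ : Algebra A D)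
      (_ : IsScalarTower A C D) (_ : IsScalarTower A B D),
      Module.FaithfullyFlat B D ∧ EtPBC.IsIndEtale B D ∧ ProEtW.IsWLocal (PrimeSpectrum D) ∧
      ProEtW.IsWLocalMap (PrimeSpectrum.comap (algebraMap C D)) ∧
      ProEtW.closedPoints (PrimeSpectrum D) =
        PrimeSpectrum.comap (algebraMap C D) ⁻¹' ProEtW.closedPoints (PrimeSpectrum C) ∧
      PrimeSpectrum.comap (algebraMap B D) '' ProEtW.closedPoints (PrimeSpectrum D) =
        Set.univ := by
  classical
  let iR : C →+* B ⊗[A] C := (Algebra.TensorProduct.includeRight : C →ₐ[A] B ⊗[A] C).toRingHom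
  let J : Ideal C := PrimeSpectrum.vanishingIdeal (ProEtW.closedPoints (PrimeSpectrum C))
  have hJ0 : PrimeSpectrum.zeroLocus (J : Set C) = ProEtW.closedPoints (PrimeSpectrum C) := by
    rw [PrimeSpectrum.zeroLocus_vanishingIdeal_eq_closure]
    exact hW.2.1.closure_eq
  let J' : Ideal (B ⊗[A] C) := J.map iR
  have hmaxD' : ∀ P : PrimeSpectrum (B ⊗[A] C),
      P ∈ PrimeSpectrum.zeroLocus (J' : Set (B ⊗[A] C)) → P.asIdeal.IsMaximal := by
    intro P hP
    have hr : PrimeSpectrum.comap iR P ∈ PrimeSpectrum.zeroLocus (J : Set C) := by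
      intro c hc
      exact hP (Ideal.mem_map_of_mem _ hc)
    rw [hJ0] at hr
    have hm : (P.asIdeal.comap iR).IsMaximal :=
      (PrimeSpectrum.isClosed_singleton_iff_isMaximal _).mp hr
    exact isMaximal_tensor h P.asIdeal hm
  have hprof := WLocMisc.isProfinite_zeroLocus J' hmaxD'
  obtain ⟨D, instD, algD'D, hZD, hWD, hclD, hbijD⟩ :=
    Groth.Agent.S0705.result (B ⊗[A] C) J' hprof
  letI algBD : Algebra B D :=
    ((algebraMap (B ⊗[A] C) D).comp (algebraMap B (B ⊗[A] C))).toAlgebra
  haveI towerB : IsScalarTower B (B ⊗[A] C) D := IsScalarTower.of_algebraMap_eq (fun _ => rfl)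
  letI algCD : Algebra C D := ((algebraMap (B ⊗[A] C) D).comp iR).toAlgebra
  letI algAD : Algebra A D := ((algebraMap C D).comp (algebraMap A C)).toAlgebra
  haveI towerAC : IsScalarTower A C D := IsScalarTower.of_algebraMap_eq (fun _ => rfl)
  have hAD : ∀ a : A, algebraMap B (B ⊗[A] C) (algebraMap A B a) = iR (algebraMap A C a) := by
    intro a
    change (algebraMap A B a) ⊗ₜ[A] (1 : C) = (1 : B) ⊗ₜ[A] (algebraMap A C a)
    rw [Algebra.algebraMap_eq_smul_one, Algebra.algebraMap_eq_smul_one (A := C),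
      TensorProduct.smul_tmul]
  haveI towerAB : IsScalarTower A B D := IsScalarTower.of_algebraMap_eq (fun a => by
    change algebraMap (B ⊗[A] C) D (iR (algebraMap A C a)) =
      algebraMap (B ⊗[A] C) D (algebraMap B (B ⊗[A] C) (algebraMap A B a))
    rw [hAD])
  have hEt1 : EtPBC.IsIndEtale B (B ⊗[A] C) := Groth.Agent.S0733.result A C B hEt
  have hEtD : EtPBC.IsIndEtale B D :=
    Groth.Agent.S0734.result B (B ⊗[A] C) D hEt1 (isIndEtale_of_isIndZariski (B ⊗[A] C) D hZD)
  have hidl : EtPBC.IdentifiesLocalRings (B ⊗[A] C) D := IdLoc.of_isIndZariski (B ⊗[A] C) D hZD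
  haveI hfl1 : Module.Flat (B ⊗[A] C) D := IdLoc.flat (B ⊗[A] C) D hidl
  haveI hfl2 : Module.Flat B (B ⊗[A] C) := inferInstance
  haveI hfl3 : Module.Flat B D := Module.Flat.trans B (B ⊗[A] C) D
  have hclD' : ProEtW.closedPoints (PrimeSpectrum D) =
      PrimeSpectrum.comap (algebraMap C D) ⁻¹' ProEtW.closedPoints (PrimeSpectrum C) := by
    rw [hclD, ← hJ0]
    ext 𝔮
    constructor
    · intro h𝔮 c hc
      exact h𝔮 (Ideal.mem_map_of_mem _ (Ideal.mem_map_of_mem _ hc))
    · intro h𝔮
      have h1 : J'.map (algebraMap (B ⊗[A] C) D) ≤ 𝔮.asIdeal := by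
        rw [Ideal.map_le_iff_le_comap, Ideal.map_le_iff_le_comap]
        intro c hc
        exact h𝔮 hc
      exact h1
  have hsurjD : PrimeSpectrum.comap (algebraMap B D) '' ProEtW.closedPoints (PrimeSpectrum D) =
      Set.univ := by
    rw [Set.eq_univ_iff_forall]
    intro q
    have h1 : PrimeSpectrum.comap (algebraMap A B) q ∈
        PrimeSpectrum.comap (algebraMap A C) '' ProEtW.closedPoints (PrimeSpectrum C) := by
      rw [hsurj]; trivial
    obtain ⟨r, hr, hrp⟩ := h1
    obtain ⟨P, hPprime, hPq, hPr⟩ := exists_prime_tensor (A := A) q.asIdeal r.asIdeal (by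
      have := congrArg PrimeSpectrum.asIdeal hrp
      exact this.symm)
    have hPJ : J' ≤ P := by
      rw [Ideal.map_le_iff_le_comap]
      have h2 : r ∈ PrimeSpectrum.zeroLocus (J : Set C) := by rw [hJ0]; exact hr
      intro c hc
      have h3 : c ∈ r.asIdeal := h2 hc
      rw [← hPr] at h3
      exact h3
    obtain ⟨Q, hQP, hQJ⟩ :=
      WLocRetr.exists_prime_over_of_bijective_quotientMap J' hbijD ⟨P, hPprime⟩ hPJ
    refine ⟨Q, ?_, ?_⟩
    · rw [hclD]
      exact hQJ
    · apply PrimeSpectrum.ext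
      have h4 : (PrimeSpectrum.comap (algebraMap (B ⊗[A] C) D) Q).asIdeal = P :=
        congrArg PrimeSpectrum.asIdeal hQP
      change (Q.asIdeal.comap (algebraMap (B ⊗[A] C) D)).comap (algebraMap B (B ⊗[A] C)) = q.asIdeal
      have h5 : Q.asIdeal.comap (algebraMap (B ⊗[A] C) D) = P := h4
      rw [h5, hPq]
  haveI hffD : Module.FaithfullyFlat B D := Module.FaithfullyFlat.of_comap_surjective (by
    intro q
    have h1 : q ∈ PrimeSpectrum.comap (algebraMap B D) '' ProEtW.closedPoints (PrimeSpectrum D) := by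
      rw [hsurjD]; trivial
    obtain ⟨Q, -, hQ⟩ := h1
    exact ⟨Q, hQ⟩)
  refine ⟨D, instD, algBD, algCD, algAD, towerAC, towerAB, hffD, hEtD, hWD, ⟨?_, ?_⟩, hclD', hsurjD⟩
  · exact WLocMisc.isSpectralMap_comap (algebraMap C D)
  · intro x hx
    have h1 : x ∈ ProEtW.closedPoints (PrimeSpectrum D) := hx
    rw [hclD'] at h1
    exact h1

end Groth.Agent.Lib.Helper4.Sq
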