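import Mathlib
import Groth.Prelude.Def_PBC
import Groth.Agent.Lib.Helper4.IndEtGen
import Groth.Agent.Lib.Helper4.IndEtColim
import Groth.Agent.Lib.Helper4.IndEtLift5
import Groth.Agent.S0176

/-!
# Weakly étale algebras which are w-contractible are ind-étale; henselian ind-étale lifts
-/

set_option autoImplicit false
set_option linter.style.haveILetI false
set_option linter.unusedSectionVars false
universe u

open CategoryTheory CategoryTheory.Limits TensorProduct

namespace Groth.Agent.Lib.Helper4.IndEtLift

open Groth.Agent.Lib.Helper4.IndEt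

theorem exists_lift_henselian (A : Type u) [CommRing A] (I : Ideal A) (Cb : Type u)
    [CommRing Cb] [Algebra (A ⧸ I) Cb] (h : EtPBC.IsIndEtale (A ⧸ I) Cb) :
    ∃ (C : Type u) (_ : CommRing C) (_ : Algebra A C),
      EtPBC.IsIndEtale A C ∧ HenselianRing C (I.map (algebraMap A C)) ∧
        Nonempty ((C ⧸ I.map (algebraMap A C)) ≃ₐ[A ⧸ I] Cb) := by
  letI algACb : Algebra A Cb := ((algebraMap (A ⧸ I) Cb).comp (algebraMap A (A ⧸ I))).toAlgebra
  haveI : IsScalarTower A (A ⧸ I) Cb := .of_algebraMap_eq (fun _ => rfl)
  exact ⟨CC A Cb, inferInstance, inferInstance, isIndEtale_CC A Cb, henselianRing_CC I h,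
    nonempty_algEquiv_of_ker I (CC A Cb) (Φ A Cb) (Φ_surjective I h) (ker_Φ I h)⟩

set_option maxHeartbeats 1000000 in
/-- a weakly étale algebra which is w-contractible is ind-étale -/
theorem isIndEtale_of_weaklyEtale_of_isWContractible (A B : Type u) [CommRing A] [CommRing B]
    [Algebra A B] [Algebra.WeaklyEtale A B] (hB : EtPBC.IsWContractible B) :
    EtPBC.IsIndEtale A B := by
  obtain ⟨D, _, algBD, algAD, tower, hff, hBD, hAD⟩ := Groth.Agent.S0176.result A B
  haveI : Algebra.WeaklyEtale B D := weaklyEtale_of_isIndEtale B D hBD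
  obtain ⟨r⟩ := hB D hff inferInstance
  let s : B →ₐ[A] D := IsScalarTower.toAlgHom A B D
  let rA : D →ₐ[A] B := r.restrictScalars A
  have hrs : ∀ b, rA (s b) = b := fun b => r.commutes b
  let e : D →ₐ[A] D := s.comp rA
  have hee : ∀ x, e (e x) = e x := by
    intro x
    change s (rA (s (rA x))) = s (rA x)
    rw [hrs]
  have hre : ∀ x, rA (e x) = rA x := fun x => hrs (rA x)
  let f : ∀ i j : ULift.{u} ℕ, i ≤ j → D →ₐ[A] D := fun i j _ =>
    if i = j then AlgHom.id A D else e
  apply isIndEtale_of_ind
  rw [← ind_ind_pet]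
  refine ind_of_system (R := A) (ι := ULift.{u} ℕ) (fun _ => D) f ?_ ?_ B (fun _ => rA) ?_ ?_ ?_ _
    (fun _ => ind_of_isIndEtale A D hAD)
  · intro i x
    simp [f]
  · intro i j k hij hjk x
    by_cases h1 : i = j
    · subst h1
      simp [f]
    · by_cases h2 : j = k
      · subst h2
        simp [f]
      · have h3 : i ≠ k := by
          intro h3
          subst h3
          exact h1 (le_antisymm hij hjk)
        simp only [f, h1, h2, h3, if_false]
        exact hee x
  · intro i j hij x
    by_cases h1 : i = j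
    · subst h1
      simp [f]
    · simp only [f, h1, if_false]
      exact hre x
  · intro b
    exact ⟨⟨0⟩, s b, hrs b⟩
  · intro i x hx
    refine ⟨⟨i.down + 1⟩, ?_, ?_⟩
    · change i.down ≤ i.down + 1
      omega
    · have h1 : i ≠ ⟨i.down + 1⟩ := by
        intro h1
        have := congrArg ULift.down h1
        simp at this
      simp only [f, h1, if_false]
      change s (rA x) = 0
      rw [hx, map_zero]

end Groth.Agent.Lib.Helper4.IndEtLift
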