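import Mathlib
import Groth.Prelude.Def_ProEtS
import Groth.Agent.Lib.Helper4.PEC9
import Groth.Agent.Lib.Helper4.WEtIndEt
import Groth.Agent.Lib.Helper4.PEPush1

/-!
# Čech acyclicity of `ε⁻¹ I` for weakly contractible coverings of objects of the class `Bset`
-/

set_option autoImplicit false
set_option linter.style.haveILetI false
set_option linter.unusedSectionVars false
universe u

namespace Groth.Agent.Lib.Helper4.PEC

open CategoryTheory CategoryTheory.Limits AlgebraicGeometry Opposite
  Groth.Agent.Lib.Helper22.CechU Groth.Agent.Lib.Helper22.CechU.Site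
  Groth.Agent.Lib.Helper22.ColimCohU Groth.Agent.Lib.Helper4.PELim Groth.Agent.Lib.Helper4.PE

variable {X : Scheme.{u}}

theorem IE_of_isWC {W V : X.ProEt} (g : W ⟶ V) [IsAffine W.left] [IsAffine V.left]
    (hW : ProEtS.IsWC W) : IE g.left := by
  letI := g.left.appTop.hom.toAlgebra
  haveI : WeaklyEtale g.left := weaklyEtale_left g
  have h1 : WeaklyEtale (Spec.map g.left.appTop) :=
    (MorphismProperty.arrow_mk_iso_iff @WeaklyEtale (arrowIsoSpecΓOfIsAffine g.left)).mp
      inferInstance
  have h3 := (Groth.Agent.Lib.Helper3.WeaklyEtaleStalk.weaklyEtale_SpecMap_iff g.left.appTop).mp h1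
  haveI : Algebra.WeaklyEtale Γ(V.left, ⊤) Γ(W.left, ⊤) := ⟨h3.1, h3.2⟩
  exact Groth.Agent.Lib.Helper4.IndEtLift.isIndEtale_of_weaklyEtale_of_isWContractible _ _
    (isWContractible_of_isWC W hW)

variable [ProEtS.EpsCont X]

set_option backward.isDefEq.respectTransparency.types false in
set_option maxHeartbeats 4000000 in
theorem acyc_indEtale_cover (I : EtCoh.Ab X) [Injective I] (V : X.ProEt) (hV : V ∈ Bset X)
    (W₀ : Over V) [IsAffine W₀.left.left] (hIE : IE W₀.hom.left) [Surjective W₀.hom.left]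
    {ι : Type (u + 1)} [Finite ι] (n : ℕ) :
    Acyc (fun _ : ι => W₀) (rP (U := V) ((ProEtS.epsPull X).obj I).obj) n := by
  let G := (ProEtS.epsPull X).obj I
  haveI hVaff : IsAffine V.left := hV.1
  obtain ⟨S⟩ := nonempty_indSys W₀.hom hIE
  let E : S.K ⥤ Over V :=
    { obj := fun k => Over.mk (S.q k)
      map := fun {k k'} f => Over.homMk (S.D.map f) (S.hq f)
      map_id := fun k => by
        apply Over.OverMorphism.ext
        exact S.D.map_id k
      map_comp := fun f f' => by
        apply Over.OverMorphism.ext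
        exact S.D.map_comp f f' }
  let cE : Cone E :=
    { pt := W₀
      π :=
        { app := fun k => Over.homMk (S.π k) (S.hπq k)
          naturality := fun k k' f => by
            apply Over.OverMorphism.ext
            change (𝟙 W₀.left) ≫ S.π k' = S.π k ≫ S.D.map f
            rw [Category.id_comp, S.hπ f] } }
  have hE : IsLimit ((Θ V).mapCone cE) := S.lim
  have hPVE : ∀ k, PV V (E.obj k) := fun k => by
    haveI := S.aff k
    haveI := S.et k
    exact ⟨S.aff k, IE_of_etale (S.q k).left⟩
  have hNaff : ∀ (k : S.K) {m : ℕ} (σ : Fin (m + 1) → ι),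
      IsAffine (Uσ (fun _ : ι => E.obj k) σ).left.left :=
    fun k _ σ => (PV_nerve V (fun _ : ι => E.obj k) (fun _ => hPVE k) σ).1
  refine acyc_of_system (I := S.Kᵒᵖ) (rP (U := V) G.obj) (fun _ : ι => W₀)
    (fun b _ => E.obj b.unop) (fun b _ => cE.π.app b.unop) (fun {b b'} f _ => E.map f.unop)
    (fun {b b'} f _ => cE.w f.unop) (fun {b b' b''} f f' _ => (E.map_comp f'.unop f.unop).symm)
    n (fun σ t => ?_) (fun σ b s hs => ?_) (fun b => ?_)
  · obtain ⟨hl⟩ := nerveC_isLimit (fun _ : ι => E) (fun _ => cE) σ (fun _ => hE)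
    obtain ⟨k, s, hs⟩ := surj_G I (nerveD (fun _ : ι => E) σ) (fun k => hNaff k σ)
      (nerveC (fun _ : ι => E) (fun _ => cE) σ) hl t
    exact ⟨op k, s, hs⟩
  · obtain ⟨hl⟩ := nerveC_isLimit (fun _ : ι => E) (fun _ => cE) σ (fun _ => hE)
    obtain ⟨k', f, hf⟩ := inj_G I (nerveD (fun _ : ι => E) σ) (fun k => hNaff k σ)
      (nerveC (fun _ : ι => E) (fun _ => cE) σ) hl b.unop s hs
    exact ⟨op k', f.op, hf⟩
  · haveI : IsAffine (E.obj b.unop).left.left := S.aff b.unop
    haveI : Etale (E.obj b.unop).hom.left := S.et b.unop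
    haveI : Surjective (E.obj b.unop).hom.left := by
      have h1 : (S.π b.unop).left ≫ (S.q b.unop).left = W₀.hom.left :=
        congrArg (fun m => m.left) (S.hπq b.unop)
      haveI : Surjective ((S.π b.unop).left ≫ (S.q b.unop).left) := by
        rw [h1]
        infer_instance
      exact Surjective.of_comp (S.π b.unop).left (S.q b.unop).left
    exact acyc_etale_cover I V hV (E.obj b.unop) n

/-- single coverings of objects of `Bset` by weakly contractible affine objects -/
def Covp (X : Scheme.{u}) (V : X.ProEt) (ι : Type (u + 1)) (Y : ι → Over V) : Prop :=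
  Nonempty (Unique ι) ∧ V ∈ Bset X ∧
    ∀ i, IsAffine (Y i).left.left ∧ ProEtS.IsWC (Y i).left ∧ Surjective (Y i).hom.left

theorem covAcyclic_epsPull (I : EtCoh.Ab X) [Injective I] :
    CovAcyclic (Covp X) ((ProEtS.epsPull X).obj I) := by
  intro V ι Y hCov p
  obtain ⟨⟨hι⟩, hV, hY⟩ := hCov
  haveI := hι
  have hYc : Y = fun _ => Y default := funext (fun i => congrArg Y (Unique.eq_default i))
  rw [hYc]
  obtain ⟨h1, h2, h3⟩ := hY default
  haveI := h1
  haveI := h3
  haveI : IsAffine V.left := hV.1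
  exact acyc_indEtale_cover I V hV (Y default) (IE_of_isWC (Y default).hom h2) p

end Groth.Agent.Lib.Helper4.PEC
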