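import Mathlib
import Groth.Prelude.Def_ProEtS
import Groth.Agent.Lib.Helper4.PEC10
import Groth.Agent.Lib.Helper4.PE6

/-!
# Vanishing of the higher pro-étale cohomology of `ε⁻¹ I` over objects of the class `Bset`
-/

set_option autoImplicit false
set_option linter.style.haveILetI false
set_option linter.unusedSectionVars false
universe u

namespace Groth.Agent.Lib.Helper4.PEC

open CategoryTheory CategoryTheory.Limits AlgebraicGeometry Opposite Abelian
  Groth.Agent.Lib.Helper22.CechU Groth.Agent.Lib.Helper22.CechU.Site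
  Groth.Agent.Lib.Helper22.ColimCohU Groth.Agent.Lib.Helper4.PELim Groth.Agent.Lib.Helper4.PE

variable {X : Scheme.{u}}

lemma isSheaf_forgetP (Q : ProEtS.AbP X) :
    Presieve.IsSheaf (Scheme.ProEt.topology X) (Q.obj ⋙ forget AddCommGrpCat.{u + 1}) := by
  rw [← isSheaf_iff_isSheaf_of_type]
  exact (Presheaf.isSheaf_iff_isSheaf_forget (Scheme.ProEt.topology X) Q.obj
    (forget AddCommGrpCat.{u + 1})).1 Q.property

lemma h1p (V : X.ProEt) (ι : Type (u + 1)) (Y : ι → Over V) (h : Covp X V ι Y) :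
    V ∈ Bset X ∧ Sieve.ofArrows (fun i => (Y i).left) (fun i => (Y i).hom) ∈
      Scheme.ProEt.topology X V ∧
      ∀ (p : ℕ) (a : Fin (p + 1) → ι), (Uσ Y a).left ∈ Bset X := by
  obtain ⟨⟨hι⟩, hV, hY⟩ := h
  haveI := hι
  haveI : IsAffine V.left := hV.1
  refine ⟨hV, ?_, fun p a => ?_⟩
  · obtain ⟨h1, h2, h3⟩ := hY default
    haveI := h1
    haveI := h3
    haveI : QuasiCompact (Y default).hom.left := by
      haveI : IsAffineHom (Y default).hom.left := isAffineHom_of_isAffine _
      infer_instance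
    refine (Scheme.ProEt.topology X).superset_covering ?_ (singleton_mem (Y default).hom)
    rw [Sieve.generate_le_iff]
    rintro Z f ⟨⟩
    exact Sieve.ofArrows_mk _ _ default
  · refine mem_Bset_of_PV hV _ (PV_nerve V Y (fun i => ?_) a)
    obtain ⟨h1, h2, h3⟩ := hY i
    haveI := h1
    exact ⟨h1, IE_of_isWC (Y i).hom h2⟩

lemma h2p (V : X.ProEt) (hV : V ∈ Bset X) :
    ∃ (ι : Type (u + 1)) (Y : ι → Over V), Covp X V ι Y ∧
      ∀ (S : ShortComplex (ProEtS.AbP X)), S.ShortExact → ∀ i,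
        Function.Surjective (S.g.hom.app (op (Y i).left)) := by
  haveI : IsAffine V.left := hV.1
  obtain ⟨W, g, hWaff, hWwc, hgs, hgq⟩ := exists_wc_cover_affine V
  refine ⟨PUnit.{u + 2}, fun _ => Over.mk g, ⟨⟨inferInstance⟩, hV, fun _ => ⟨hWaff, hWwc, hgs⟩⟩,
    fun S hS _ => ?_⟩
  haveI := hS.epi_g
  exact Groth.Agent.Lib.Helper4.PEPush.surjective_app_of_epi_of_isWC S.g W hWwc

/-- the terminal object of the pro-étale site -/
noncomputable abbrev topP (X : Scheme.{u}) : X.ProEt := Scheme.ProEt.mk (𝟙 X)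

/-- it is terminal -/
noncomputable def topPIsTerminal (X : Scheme.{u}) : IsTerminal (topP X) :=
  IsTerminal.isTerminalOfObj (Scheme.ProEt.forget X) (topP X) Over.mkIdTerminal

variable [ProEtS.EpsCont X]

/-- the vanishing theorem over a base in the class `Bset` -/
theorem HP_epsPull_injective_eq_zero (hX : topP X ∈ Bset X) (I : EtCoh.Ab X) [Injective I] (n : ℕ)
    (x : ProEtS.HP X ((ProEtS.epsPull X).obj I) (n + 1)) : x = 0 :=
  ext_eq_zero_of_covAcyclic' (J := Scheme.ProEt.topology X) (B := Bset X) (Cov := Covp X)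
    (fun Q => isSheaf_forgetP Q) h1p h2p _ (topP X) hX
    (fun G => Sheaf.H.equiv₀ G (topPIsTerminal X))
    (fun {G G'} φ x => (Sheaf.H.equiv₀_naturality (hT := topPIsTerminal X) φ x).symm)
    ((ProEtS.epsPull X).obj I) (covAcyclic_epsPull I) n x

end Groth.Agent.Lib.Helper4.PEC
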