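import Groth.Agent.Lib.Helper4.DC8
import Groth.Agent.Lib.Helper4.PEC11

/-!
# The completed constant sheaf is derived complete (helper4)
-/

set_option linter.style.haveILetI false
set_option linter.unusedSectionVars false
set_option autoImplicit false
open CategoryTheory CategoryTheory.Limits AlgebraicGeometry Opposite Polynomial
universe u w v v' u' u''

namespace Groth.Agent.Lib.Helper4.DC

section abstract

variable {R : Type w} [Semiring R] {C : Type u'} [Category.{v} C] [Preadditive C] [Linear R C]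
  {D : Type u''} [Category.{v'} D] [Preadditive D] [Linear R D]

/-- A left adjoint of a linear functor is linear. -/
theorem map_smul_of_adjunction {L : C ⥤ D} {G : D ⥤ C} (adj : L ⊣ G)
    (hG : ∀ (a : R) {X Y : D} (ψ : X ⟶ Y), G.map (a • ψ) = a • G.map ψ)
    (a : R) {M N : C} (φ : M ⟶ N) : L.map (a • φ) = a • L.map φ := by
  apply (adj.homEquiv _ _).injective
  rw [Adjunction.homEquiv_unit, Adjunction.homEquiv_unit, hG, Linear.comp_smul]
  have h1 : (a • φ) ≫ adj.unit.app N = adj.unit.app M ≫ G.map (L.map (a • φ)) :=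
    adj.unit.naturality (a • φ)
  have h2 : φ ≫ adj.unit.app N = adj.unit.app M ≫ G.map (L.map φ) :=
    adj.unit.naturality φ
  rw [← h1, ← h2, Linear.smul_comp]

end abstract

variable (Λ : Type (u + 1)) [CommRing Λ] {Z : Scheme.{u}}

/-- Multiplication by `X` on `Λ[X]`. -/
noncomputable def XMap : NN Λ ⟶ NN Λ := ModuleCat.ofHom (LinearMap.mulLeft Λ (Polynomial.X : Λ[X]))

theorem mMap_eq (f : Λ) : mMap Λ f = f • XMap Λ - 𝟙 (NN Λ) := by
  apply ModuleCat.hom_ext
  apply LinearMap.ext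
  intro p
  change (C f * Polynomial.X - 1) * p = f • (Polynomial.X * p) - p
  rw [sub_mul, one_mul, mul_assoc, ← Polynomial.smul_eq_C_mul]

theorem bijective_precomp_of_pow_smul_eq_zero (f : Λ) (N : ModuleCat.{u + 1} Λ) (n : ℕ)
    (h : f ^ n • 𝟙 N = 0) : Function.Bijective (fun φ : NN Λ ⟶ N => mMap Λ f ≫ φ) := by
  let Xpre : Module.End Λ (NN Λ ⟶ N) := Linear.leftComp Λ N (XMap Λ)
  let S : Module.End Λ (NN Λ ⟶ N) := f • Xpre
  have hS : S ^ n = 0 := by
    rw [_root_.smul_pow]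
    apply LinearMap.ext
    intro ψ
    change f ^ n • ((Xpre ^ n) ψ) = 0
    have : f ^ n • ((Xpre ^ n) ψ) = ((Xpre ^ n) ψ) ≫ (f ^ n • 𝟙 N) := by
      rw [Linear.comp_smul, Category.comp_id]
    rw [this, h, Limits.comp_zero]
  have hu : IsUnit (1 - S) := IsNilpotent.isUnit_one_sub ⟨n, hS⟩
  have hb : Function.Bijective (⇑(1 - S)) := (Module.End.isUnit_iff _).1 hu
  have hfun : (fun φ : NN Λ ⟶ N => mMap Λ f ≫ φ) = fun φ => -((1 - S) φ) := by
    funext φ
    rw [mMap_eq]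
    change (f • XMap Λ - 𝟙 (NN Λ)) ≫ φ = -(φ - f • (XMap Λ ≫ φ))
    rw [Preadditive.sub_comp, Category.id_comp, Linear.smul_comp, neg_sub]
  rw [hfun]
  exact (Equiv.neg _).bijective.comp hb

variable {Λ}

theorem DCsec_of_pow_smul_eq_zero (f : Λ) (G : EtModW.ModP Λ Z) (n : ℕ)
    (h : f ^ n • 𝟙 G = 0) (V : Z.ProEt) : DCsec Λ f V G := by
  apply bijective_precomp_of_pow_smul_eq_zero Λ f _ n
  have : f ^ n • 𝟙 ((GammaV Λ V).obj G) = (GammaV Λ V).map (f ^ n • 𝟙 G) := by
    rw [GammaV_map_smul, CategoryTheory.Functor.map_id]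
  rw [this, h, Functor.map_zero]

variable (Λ)

theorem constantSheaf_map_smul (a : Λ) {M N : ModuleCat.{u + 1} Λ} (φ : M ⟶ N) :
    (constantSheaf (Scheme.ProEt.topology Z) (ModuleCat.{u + 1} Λ)).map (a • φ) =
      a • (constantSheaf (Scheme.ProEt.topology Z) (ModuleCat.{u + 1} Λ)).map φ :=
  map_smul_of_adjunction
    (constantSheafAdj (Scheme.ProEt.topology Z) (ModuleCat.{u + 1} Λ)
      (Groth.Agent.Lib.Helper4.PEC.topPIsTerminal Z))
    (fun _ _ _ _ => rfl) a φ

theorem isDCSheaf_const_quot (I : Ideal Λ) (n : ℕ) :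
    ProEtDC.IsDCSheaf Λ I ((constantSheaf (Scheme.ProEt.topology Z) (ModuleCat.{u + 1} Λ)).obj
      ((ProEtDC.quotTower Λ I).obj (op n))) := by
  rw [isDCSheaf_iff]
  intro f hf V _
  apply DCsec_of_pow_smul_eq_zero f _ n
  have h0 : f ^ n • 𝟙 ((ProEtDC.quotTower Λ I).obj (op n)) = 0 := by
    apply ModuleCat.hom_ext
    apply LinearMap.ext
    intro x
    obtain ⟨y, rfl⟩ := Submodule.Quotient.mk_surjective (I ^ n • ⊤ : Submodule Λ Λ) x
    change f ^ n • (Submodule.Quotient.mk y : Λ ⧸ (I ^ n • ⊤ : Submodule Λ Λ)) = 0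
    rw [← Submodule.Quotient.mk_smul, Submodule.Quotient.mk_eq_zero]
    exact Submodule.smul_mem_smul (Ideal.pow_mem_pow hf n) trivial
  have : f ^ n • 𝟙 ((constantSheaf (Scheme.ProEt.topology Z) (ModuleCat.{u + 1} Λ)).obj
      ((ProEtDC.quotTower Λ I).obj (op n))) =
      (constantSheaf (Scheme.ProEt.topology Z) (ModuleCat.{u + 1} Λ)).map
        (f ^ n • 𝟙 ((ProEtDC.quotTower Λ I).obj (op n))) := by
    rw [constantSheaf_map_smul, CategoryTheory.Functor.map_id]
  rw [this, h0, Functor.map_zero]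

theorem isDCSheaf_lambdaHat (I : Ideal Λ) : ProEtDC.IsDCSheaf Λ I (ProEtDC.lambdaHat Λ Z I) := by
  apply isDCSheaf_limit
  intro j
  exact isDCSheaf_const_quot Λ I j.unop

end Groth.Agent.Lib.Helper4.DC
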