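import Mathlib

/-!
# Transfer between sheaves of modules and sheaves of abelian groups (helper4)

Abstract part: compatibility of sheaf pullback along a continuous functor with post-composition by
a functor `U : A ⥤ B` of value categories which has a right adjoint.
-/

set_option linter.style.haveILetI false
set_option linter.unusedSectionVars false
set_option autoImplicit false
open CategoryTheory CategoryTheory.Limits Opposite
universe w v₁ v₂ v₃ v₄ u₁ u₂ u₃ u₄

namespace Groth.Agent.Lib.Helper4.MT

section sites

variable {C : Type u₁} [Category.{v₁} C] (J : GrothendieckTopology C)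
  {D : Type u₂} [Category.{v₂} D] (K : GrothendieckTopology D)
  {A : Type u₃} [Category.{v₃} A] {B : Type u₄} [Category.{v₄} B]
  {U : A ⥤ B} {H : B ⥤ A} (adj : U ⊣ H)

/-- The adjunction between sheaf categories induced by an adjunction of value categories both of
whose functors preserve sheaves. -/
noncomputable def adjΦ [J.HasSheafCompose U] [J.HasSheafCompose H] :
    sheafCompose J U ⊣ sheafCompose J H :=
  (adj.whiskerRight Cᵒᵖ).restrictFullyFaithful (fullyFaithfulSheafToPresheaf J A)
    (fullyFaithfulSheafToPresheaf J B) (Iso.refl _) (Iso.refl _)

variable (G : C ⥤ D) [G.IsContinuous J K]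

/-- Pushforward commutes with post-composition. -/
noncomputable def pushCompIso [J.HasSheafCompose H] [K.HasSheafCompose H] :
    sheafCompose K H ⋙ G.sheafPushforwardContinuous A J K ≅
      G.sheafPushforwardContinuous B J K ⋙ sheafCompose J H :=
  NatIso.ofComponents (fun F => Iso.refl _) (by
    intro F F' f
    simp only [Iso.refl_hom]
    erw [Category.comp_id, Category.id_comp]
    rfl)

variable [(G.sheafPushforwardContinuous A J K).IsRightAdjoint]
  [(G.sheafPushforwardContinuous B J K).IsRightAdjoint]
  [J.HasSheafCompose U] [J.HasSheafCompose H] [K.HasSheafCompose U] [K.HasSheafCompose H]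

/-- Pullback commutes with post-composition by a left adjoint (preserving sheaves). -/
noncomputable def pullCompIso :
    G.sheafPullback A J K ⋙ sheafCompose K U ≅ sheafCompose J U ⋙ G.sheafPullback B J K :=
  Adjunction.leftAdjointUniq
    ((G.sheafAdjunctionContinuous A J K).comp (adjΦ K adj))
    (((adjΦ J adj).comp (G.sheafAdjunctionContinuous B J K)).ofNatIsoRight
      (pushCompIso J K G (H := H)).symm)

end sites

end Groth.Agent.Lib.Helper4.MT
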