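import Mathlib
import Groth.Agent.Lib.Helper4.MT1

/-!
# Transfer between sheaves of modules and sheaves of abelian groups (helper4)

Module-specific part: the forgetful functor `ModuleCat Λ ⥤ Ab` has a right adjoint; lifting of
morphisms of underlying abelian sheaves commuting with scalars.
-/

set_option linter.style.haveILetI false
set_option linter.unusedSectionVars false
set_option autoImplicit false
open CategoryTheory CategoryTheory.Limits Opposite
universe w v₁ v₂ u₁ u₂

namespace Groth.Agent.Lib.Helper4.MT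

section ring

variable (Λ : Type w) [CommRing Λ]

/-- The forgetful functor from modules to abelian groups. -/
abbrev UU : ModuleCat.{w} Λ ⥤ AddCommGrpCat.{w} := forget₂ (ModuleCat.{w} Λ) AddCommGrpCat.{w}

/-- The forgetful functor factors through restriction of scalars to `ℤ`. -/
noncomputable def forgetIso : UU Λ ≅ ModuleCat.restrictScalars.{w} (Int.castRingHom Λ) ⋙
    forget₂ (ModuleCat.{w} ℤ) AddCommGrpCat.{w} :=
  NatIso.ofComponents (fun M => Iso.refl _) (by intros; rfl)

instance isLeftAdjoint_UU : (UU Λ).IsLeftAdjoint := by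
  haveI : (ModuleCat.restrictScalars.{w} (Int.castRingHom Λ)).IsLeftAdjoint :=
    (ModuleCat.restrictCoextendScalarsAdj.{w} (Int.castRingHom Λ)).isLeftAdjoint
  exact Functor.isLeftAdjoint_of_iso (forgetIso Λ).symm

instance isRightAdjoint_UU : (UU Λ).IsRightAdjoint := by
  haveI : (ModuleCat.restrictScalars.{w} (Int.castRingHom Λ)).IsRightAdjoint :=
    (ModuleCat.extendRestrictScalarsAdj.{w} (Int.castRingHom Λ)).isRightAdjoint
  exact Functor.isRightAdjoint_of_iso (forgetIso Λ).symm

/-- The right adjoint of the forgetful functor. -/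
noncomputable abbrev HH : AddCommGrpCat.{w} ⥤ ModuleCat.{w} Λ := (UU Λ).rightAdjoint

/-- The adjunction. -/
noncomputable abbrev adjUH : UU Λ ⊣ HH Λ := Adjunction.ofIsLeftAdjoint (UU Λ)

end ring

section sheaves

variable {Λ : Type w} [CommRing Λ] {C : Type u₁} [Category.{v₁} C] (J : GrothendieckTopology C)

/-- The underlying sheaf of abelian groups. -/
noncomputable abbrev Φ : Sheaf J (ModuleCat.{w} Λ) ⥤ Sheaf J AddCommGrpCat.{w} :=
  sheafCompose J (UU Λ)

/-- A section of the underlying abelian sheaf, viewed as a section of the sheaf of modules. -/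
abbrev toMod (N : Sheaf J (ModuleCat.{w} Λ)) (V : Cᵒᵖ) (y : ((Φ J).obj N).obj.obj V) :
    N.obj.obj V := y

theorem Φ_map_smul_apply {M N : Sheaf J (ModuleCat.{w} Λ)} (a : Λ) (φ : M ⟶ N) (V : Cᵒᵖ)
    (x : M.obj.obj V) :
    toMod J N V ((((Φ J).map (a • φ)).hom.app V).hom x) =
      a • toMod J N V ((((Φ J).map φ).hom.app V).hom x) := rfl

theorem Φ_map_apply {M N : Sheaf J (ModuleCat.{w} Λ)} (φ : M ⟶ N) (V : Cᵒᵖ)
    (x : M.obj.obj V) :
    (((Φ J).map φ).hom.app V).hom x = (φ.hom.app V).hom x := rfl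

/-- A morphism of underlying abelian sheaves which commutes with scalars is linear. -/
theorem exists_lift {M N : Sheaf J (ModuleCat.{w} Λ)} (χ : (Φ J).obj M ⟶ (Φ J).obj N)
    (h : ∀ a : Λ, (Φ J).map (a • 𝟙 M) ≫ χ = χ ≫ (Φ J).map (a • 𝟙 N)) :
    ∃ χ' : M ⟶ N, (Φ J).map χ' = χ := by
  have hsm : ∀ (V : Cᵒᵖ) (a : Λ) (x : M.obj.obj V),
      toMod J N V ((χ.hom.app V).hom (a • x : M.obj.obj V)) =
        a • toMod J N V ((χ.hom.app V).hom x) := by
    intro V a x
    have := congrArg (fun t => (t.hom.app V).hom x) (h a)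
    exact this
  let app : ∀ V : Cᵒᵖ, M.obj.obj V ⟶ N.obj.obj V := fun V =>
    ModuleCat.ofHom
      { toFun := fun x => (χ.hom.app V).hom x
        map_add' := fun x y => map_add _ x y
        map_smul' := fun a x => hsm V a x }
  have hnat : ∀ (V W : Cᵒᵖ) (f : V ⟶ W), M.obj.map f ≫ app W = app V ≫ N.obj.map f := by
    intro V W f
    apply ModuleCat.hom_ext
    apply LinearMap.ext
    intro x
    have := congrArg (fun t => t.hom x) (χ.hom.naturality f)
    exact this
  refine ⟨⟨{ app := app, naturality := hnat }⟩, ?_⟩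
  apply Sheaf.hom_ext
  apply NatTrans.ext
  funext V
  apply AddCommGrpCat.hom_ext
  apply AddMonoidHom.ext
  intro x
  rfl

end sheaves

end Groth.Agent.Lib.Helper4.MT
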