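import Mathlib
import Groth.Agent.Lib.Helper4.MT2

/-!
# Transfer between sheaves of modules and sheaves of abelian groups (helper4)

Abstract transfer of full faithfulness and exactness along a square of functors commuting up to
isomorphism, and the application to sheaf pullbacks.
-/

set_option linter.style.haveILetI false
set_option linter.unusedSectionVars false
set_option autoImplicit false
open CategoryTheory CategoryTheory.Limits Opposite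
universe w v₁ v₂ v₃ v₄ u₁ u₂ u₃ u₄

namespace Groth.Agent.Lib.Helper4.MT

section abstractFF

variable {Λ : Type w} [CommRing Λ]
  {𝒜₁ : Type u₁} [Category.{v₁} 𝒜₁] [Preadditive 𝒜₁] [Linear Λ 𝒜₁]
  {𝒜₂ : Type u₂} [Category.{v₂} 𝒜₂] [Preadditive 𝒜₂] [Linear Λ 𝒜₂]
  {ℬ₁ : Type u₃} [Category.{v₃} ℬ₁] {ℬ₂ : Type u₄} [Category.{v₄} ℬ₂]
  (LA : 𝒜₁ ⥤ 𝒜₂) (LB : ℬ₁ ⥤ ℬ₂) (Φ₁ : 𝒜₁ ⥤ ℬ₁) (Φ₂ : 𝒜₂ ⥤ ℬ₂)
  (θ : LA ⋙ Φ₂ ≅ Φ₁ ⋙ LB)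

include θ in
theorem faithful_of_transfer [Φ₁.Faithful] [LB.Faithful] : LA.Faithful :=
  Functor.Faithful.of_comp_iso θ

include θ in
theorem full_of_transfer [Φ₁.Faithful] [Φ₂.Faithful] [LB.Full] [LB.Faithful]
    (hLA : ∀ (a : Λ) (M : 𝒜₁), LA.map (a • 𝟙 M) = a • 𝟙 (LA.obj M))
    (hlift : ∀ {M N : 𝒜₁} (χ : Φ₁.obj M ⟶ Φ₁.obj N),
      (∀ a : Λ, Φ₁.map (a • 𝟙 M) ≫ χ = χ ≫ Φ₁.map (a • 𝟙 N)) → ∃ χ' : M ⟶ N, Φ₁.map χ' = χ) :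
    LA.Full := by
  constructor
  intro M N ψ
  let χ₀ : LB.obj (Φ₁.obj M) ⟶ LB.obj (Φ₁.obj N) :=
    θ.inv.app M ≫ Φ₂.map ψ ≫ θ.hom.app N
  obtain ⟨χ, hχ⟩ := LB.map_surjective χ₀
  have hcomm : ∀ a : Λ, Φ₁.map (a • 𝟙 M) ≫ χ = χ ≫ Φ₁.map (a • 𝟙 N) := by
    intro a
    apply LB.map_injective
    rw [Functor.map_comp, Functor.map_comp, hχ]
    have h1 : LB.map (Φ₁.map (a • 𝟙 M)) ≫ θ.inv.app M =
        θ.inv.app M ≫ Φ₂.map (LA.map (a • 𝟙 M)) := θ.inv.naturality (a • 𝟙 M)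
    have h2 : Φ₂.map (LA.map (a • 𝟙 N)) ≫ θ.hom.app N =
        θ.hom.app N ≫ LB.map (Φ₁.map (a • 𝟙 N)) := θ.hom.naturality (a • 𝟙 N)
    have h3 : LA.map (a • 𝟙 M) ≫ ψ = ψ ≫ LA.map (a • 𝟙 N) := by
      rw [hLA, hLA, Linear.smul_comp, Linear.comp_smul, Category.id_comp, Category.comp_id]
    show LB.map (Φ₁.map (a • 𝟙 M)) ≫ (θ.inv.app M ≫ Φ₂.map ψ ≫ θ.hom.app N) =
      (θ.inv.app M ≫ Φ₂.map ψ ≫ θ.hom.app N) ≫ LB.map (Φ₁.map (a • 𝟙 N))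
    rw [reassoc_of% h1, ← Functor.map_comp_assoc, h3, Functor.map_comp_assoc, h2]
    simp only [Category.assoc]
  obtain ⟨χ', hχ'⟩ := hlift χ hcomm
  refine ⟨χ', ?_⟩
  apply Φ₂.map_injective
  have h4 : Φ₂.map (LA.map χ') ≫ θ.hom.app N = θ.hom.app M ≫ LB.map (Φ₁.map χ') :=
    θ.hom.naturality χ'
  rw [← cancel_mono (θ.hom.app N), h4, hχ', hχ]
  show θ.hom.app M ≫ θ.inv.app M ≫ Φ₂.map ψ ≫ θ.hom.app N = _
  rw [Iso.hom_inv_id_app_assoc]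

end abstractFF

section abstractExact

variable {𝒜₁ : Type u₁} [Category.{v₁} 𝒜₁] {𝒜₂ : Type u₂} [Category.{v₂} 𝒜₂]
  {ℬ₁ : Type u₃} [Category.{v₃} ℬ₁] {ℬ₂ : Type u₄} [Category.{v₄} ℬ₂]
  (LA : 𝒜₁ ⥤ 𝒜₂) (LB : ℬ₁ ⥤ ℬ₂) (Φ₁ : 𝒜₁ ⥤ ℬ₁) (Φ₂ : 𝒜₂ ⥤ ℬ₂)
  (θ : LA ⋙ Φ₂ ≅ Φ₁ ⋙ LB)

include θ in
theorem preservesFiniteLimits_of_transfer [HasFiniteLimits 𝒜₂]
    [PreservesFiniteLimits Φ₁] [PreservesFiniteLimits LB] [PreservesFiniteLimits Φ₂]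
    [Φ₂.ReflectsIsomorphisms] : PreservesFiniteLimits LA := by
  constructor
  intro T _ _
  haveI : PreservesLimitsOfShape T (Φ₁ ⋙ LB) := inferInstance
  haveI : PreservesLimitsOfShape T (LA ⋙ Φ₂) := preservesLimitsOfShape_of_natIso θ.symm
  haveI : ReflectsLimitsOfShape T Φ₂ := reflectsLimitsOfShape_of_reflectsIsomorphisms
  exact preservesLimitsOfShape_of_reflects_of_preserves LA Φ₂

end abstractExact

end Groth.Agent.Lib.Helper4.MT
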