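import Mathlib
import Groth.Prelude.Def_ProEtS
import Groth.Agent.Lib.Helper4.PEps4
import Groth.Agent.Lib.Helper22.CechU.Site

/-!
# `ε⁻¹` preserves monomorphisms (hence is exact)
-/

set_option autoImplicit false
set_option linter.style.haveILetI false
set_option linter.unusedSectionVars false
universe u

namespace Groth.Agent.Lib.Helper4.PEM

open CategoryTheory CategoryTheory.Limits AlgebraicGeometry Opposite Groth.Agent.Lib.Helper4.PEps

variable {X : Scheme.{u}}

theorem lan_map_rep {G G' : X.Etaleᵒᵖ ⥤ AddCommGrpCat.{u + 1}} (φ : G ⟶ G') {V : X.ProEt}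
    (T : X.Etale) (a : V ⟶ (ProEtS.eps X).obj T) (s : G.obj (op T)) :
    ((ProEtS.eps X).op.lan.map φ).app (op V) (rep G T a s) = rep G' T a (φ.app (op T) s) := by
  unfold rep
  have h1 := NatTrans.naturality_apply ((ProEtS.eps X).op.lan.map φ) a.op ((η G).app (op T) s)
  rw [h1]
  congr 1
  have h2 := congrArg (fun m => (ConcreteCategory.hom (m.app (op T))) s)
    ((ProEtS.eps X).op.lanUnit.naturality φ)
  exact h2.symm

theorem mono_lan_map {F F' : EtCoh.Ab X} (φ : F ⟶ F') [Mono φ] :
    Mono ((ProEtS.eps X).op.lan.map φ.hom) := by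
  have hinj : ∀ T : X.Etale, Function.Injective (φ.hom.app (op T)) := fun T =>
    Groth.Agent.Lib.Helper22.CechU.Site.injective_app_of_mono φ T
  haveI : ∀ V, Mono (((ProEtS.eps X).op.lan.map φ.hom).app V) := by
    intro V
    rw [AddCommGrpCat.mono_iff_injective, injective_iff_map_eq_zero]
    intro x hx
    obtain ⟨T, a, s, rfl⟩ := exists_rep F.obj x
    have hx' : ((ProEtS.eps X).op.lan.map φ.hom).app (op V.unop) (rep F.obj T a s) = 0 := hx
    rw [lan_map_rep, rep_eq_zero_iff] at hx'
    obtain ⟨T'', b, p, hb, hs⟩ := hx'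
    rw [rep_eq_zero_iff]
    refine ⟨T'', b, p, hb, ?_⟩
    apply hinj T''
    rw [map_zero, ← hs]
    exact NatTrans.naturality_apply φ.hom p.op s
  exact NatTrans.mono_of_mono_app _

variable [ProEtS.EpsCont X]

instance preservesMonomorphisms_sheafPullback' :
    (Functor.sheafPullbackConstruction.sheafPullback (ProEtS.eps X) AddCommGrpCat.{u + 1}
      X.smallEtaleTopology (Scheme.ProEt.topology X)).PreservesMonomorphisms where
  preserves {F F'} φ hφ := by
    haveI := mono_lan_map φ
    change Mono ((presheafToSheaf (Scheme.ProEt.topology X) AddCommGrpCat.{u + 1}).map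
      ((ProEtS.eps X).op.lan.map φ.hom))
    infer_instance

instance preservesMonomorphisms_epsPull : (ProEtS.epsPull X).PreservesMonomorphisms :=
  Functor.preservesMonomorphisms.of_iso ((ProEtS.epsAdj X).leftAdjointUniq (adjE' X)).symm

end Groth.Agent.Lib.Helper4.PEM
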