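import Mathlib
import Groth.Prelude.Def_ProEtS
import Groth.Agent.Lib.Helper4.PEC11
import Groth.Agent.Lib.Helper4.PEM1
import Groth.Agent.Lib.Helper22.CechU.EtaleCov
import Groth.Agent.Lib.Helper22.AdaptedAcyclic
import Groth.Agent.Lib.Helper22.DimShiftIso

/-!
# Higher direct images along `ε` of `Covp`-Čech-acyclic sheaves vanish; `R^q ε_* ε⁻¹ F = 0`
-/

set_option autoImplicit false
set_option linter.style.haveILetI false
set_option linter.unusedSectionVars false
universe u

namespace Groth.Agent.Lib.Helper4.PEM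

open CategoryTheory CategoryTheory.Limits AlgebraicGeometry Opposite
  Groth.Agent.Lib.Helper22.CechU Groth.Agent.Lib.Helper22.CechU.Site
  Groth.Agent.Lib.Helper22.ColimCohU Groth.Agent.Lib.Helper4.PEC
  Groth.Agent.Lib.Helper22.CechU.Etale Groth.Agent.Lib.Helper22.DimShift

variable {X : Scheme.{u}}

/-- Affine open neighbourhoods in the small étale site. -/
lemma exists_affine_nbhd (V : X.Etale) (y : ↥(V.left)) :
    ∃ (V' : X.Etale) (f : V' ⟶ V) (y' : ↥(V'.left)), IsAffine V'.left ∧ f.left.base y' = y := by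
  have hE : Etale (V.hom : V.left ⟶ X) := V.prop
  obtain ⟨W, hW, hyW, -⟩ := exists_isAffineOpen_mem_and_subset (x := y) (U := ⊤) trivial
  let V' : X.Etale := Scheme.Etale.mk (W.ι ≫ V.hom)
  let f : V' ⟶ V := MorphismProperty.Over.homMk W.ι rfl trivial
  exact ⟨V', f, ⟨y, hyW⟩, hW, rfl⟩

variable [ProEtS.EpsCont X]

/-- `ε_*` of an epimorphism with `Covp`-Čech-acyclic kernel is an epimorphism -/
theorem epi_epsPush_map_of_covAcyclic (S : ShortComplex (ProEtS.AbP X)) (hS : S.ShortExact)
    (h1 : CovAcyclic (Covp X) S.X₁) : Epi ((ProEtS.epsPush X).map S.g) := by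
  have : Sheaf.IsLocallySurjective ((ProEtS.epsPush X).map S.g) := by
    constructor
    intro V t
    rw [mem_smallEtaleTopology_iff]
    intro y
    obtain ⟨V', f, y', hV', hy'⟩ := exists_affine_nbhd V y
    refine ⟨V', f, y', ?_, hy'⟩
    haveI : IsAffine ((ProEtS.eps X).obj V').left := hV'
    haveI : Etale ((ProEtS.eps X).obj V').hom := V'.prop
    have hB : (ProEtS.eps X).obj V' ∈ Bset X := mem_Bset_of_etale _
    obtain ⟨s, hs⟩ := surjective_of_covAcyclic' (fun Q => isSheaf_forgetP Q) h1p h2p S hS h1 _ hB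
      (((ProEtS.epsPush X).obj S.X₃).obj.map f.op t)
    exact ⟨s, hs⟩
  exact Sheaf.epi_of_isLocallySurjective _

/-- Higher direct images along `ε` of `Covp`-Čech-acyclic sheaves vanish. -/
theorem isZero_RepsPush_succ_of_covAcyclic (G : ProEtS.AbP X) (hG : CovAcyclic (Covp X) G)
    (n : ℕ) : IsZero ((ProEtS.RepsPush X (n + 1)).obj G) := by
  have : PreservesLimits (ProEtS.epsPush X) := (ProEtS.epsAdj X).rightAdjoint_preservesLimits
  refine Groth.Agent.Lib.Helper22.AdaptedAcyclic.isZero_rightDerived_succ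
    (F := ProEtS.epsPush X) (I := fun F : ProEtS.AbP X => CovAcyclic (Covp X) F) ?_ ?_ n G hG
  · intro F
    exact ⟨Injective.under F, Injective.ι F,
      fun U ι Yf _ p => acyc_of_injective_sheaf (Injective.under F) Yf p, inferInstance⟩
  · intro S hS h1 h2
    exact ⟨covAcyclic_quot' (fun Q => isSheaf_forgetP Q) h1p h2p S hS h1 h2,
      shortExact_map_of_epi' (ProEtS.epsPush X) hS (epi_epsPush_map_of_covAcyclic S hS h1)⟩

end Groth.Agent.Lib.Helper4.PEM
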