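import Mathlib
import Groth.Prelude.Def_ProEtS
import Groth.Agent.Lib.Helper4.PEM2
import Groth.Agent.Lib.Helper4.PEps11

/-!
# `R^q ε_* ε⁻¹ F = 0` for `q > 0`
-/

set_option autoImplicit false
set_option linter.style.haveILetI false
set_option linter.unusedSectionVars false
universe u

namespace Groth.Agent.Lib.Helper4.PEM

open CategoryTheory CategoryTheory.Limits AlgebraicGeometry Opposite
  Groth.Agent.Lib.Helper22.CechU Groth.Agent.Lib.Helper22.CechU.Site
  Groth.Agent.Lib.Helper22.ColimCohU Groth.Agent.Lib.Helper4.PEC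
  Groth.Agent.Lib.Helper22.DimShift Groth.Agent.Lib.Helper22.Horseshoe

variable {X : Scheme.{u}} [ProEtS.EpsCont X]

instance additive_epsPull : (ProEtS.epsPull X).Additive := (ProEtS.epsAdj X).left_adjoint_additive

/-- `ε⁻¹` maps short exact sequences to short exact sequences -/
theorem shortExact_map_epsPull {S : ShortComplex (EtCoh.Ab X)} (hS : S.ShortExact) :
    (S.map (ProEtS.epsPull X)).ShortExact := by
  haveI : PreservesColimits (ProEtS.epsPull X) := (ProEtS.epsAdj X).leftAdjoint_preservesColimits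
  have hm : Mono S.f := hS.mono_f
  have he : Epi S.g := hS.epi_g
  have h1 : (S.map (ProEtS.epsPull X)).Exact :=
    hS.exact.map_of_epi_of_preservesCokernel (ProEtS.epsPull X) he inferInstance
  have h2 : Mono (S.map (ProEtS.epsPull X)).f :=
    inferInstanceAs (Mono ((ProEtS.epsPull X).map S.f))
  have h3 : Epi (S.map (ProEtS.epsPull X)).g :=
    inferInstanceAs (Epi ((ProEtS.epsPull X).map S.g))
  exact ShortComplex.ShortExact.mk' h1 h2 h3

/-- `ε_* ε⁻¹` preserves epimorphisms -/
theorem epi_epsPush_epsPull_map {F F' : EtCoh.Ab X} (q : F ⟶ F') [Epi q] :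
    Epi ((ProEtS.epsPush X).map ((ProEtS.epsPull X).map q)) := by
  haveI := Groth.Agent.Lib.Helper4.PEps.isIso_unit F
  haveI := Groth.Agent.Lib.Helper4.PEps.isIso_unit F'
  have h1 : q ≫ (ProEtS.epsAdj X).unit.app F' =
      (ProEtS.epsAdj X).unit.app F ≫ (ProEtS.epsPush X).map ((ProEtS.epsPull X).map q) :=
    (ProEtS.epsAdj X).unit.naturality q
  have h2 : (ProEtS.epsPush X).map ((ProEtS.epsPull X).map q) =
      inv ((ProEtS.epsAdj X).unit.app F) ≫ q ≫ (ProEtS.epsAdj X).unit.app F' := by
    rw [h1, IsIso.inv_hom_id_assoc]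
  rw [h2]
  infer_instance

theorem covAcyclic_epsPull_injSC (F : EtCoh.Ab X) :
    CovAcyclic (Covp X) ((ProEtS.epsPull X).obj (injSC F).X₂) :=
  covAcyclic_epsPull (injSC F).X₂

set_option maxHeartbeats 1000000 in
theorem isZero_RepsPush_epsPull (n : ℕ) :
    ∀ F : EtCoh.Ab X, IsZero ((ProEtS.RepsPush X (n + 1)).obj ((ProEtS.epsPull X).obj F)) := by
  have : PreservesLimits (ProEtS.epsPush X) := (ProEtS.epsAdj X).rightAdjoint_preservesLimits
  let Δ := derivedLES (ProEtS.epsPush X)
  induction n with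
  | zero =>
    intro F
    let S := (injSC F).map (ProEtS.epsPull X)
    have hS : S.ShortExact := shortExact_map_epsPull (injSC_shortExact F)
    have hz : IsZero (((ProEtS.epsPush X).rightDerived 1).obj S.X₂) :=
      isZero_RepsPush_succ_of_covAcyclic _ (covAcyclic_epsPull_injSC F) 0
    have hepi : Epi (Δ.δ S hS 0 1 rfl) :=
      (Δ.exact₁ S hS 0 1 rfl).epi_f (hz.eq_of_tgt _ _)
    -- `R⁰ε_*` of the epimorphism is an epimorphism
    have hg : Epi (((ProEtS.epsPush X).rightDerived 0).map S.g) := by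
      let e := (ProEtS.epsPush X).rightDerivedZeroIsoSelf
      have hnat := e.hom.naturality S.g
      haveI : Epi (injSC F).g := (injSC_shortExact F).epi_g
      haveI : Epi ((ProEtS.epsPush X).map S.g) := epi_epsPush_epsPull_map (injSC F).g
      have h3 : Epi (((ProEtS.epsPush X).rightDerived 0).map S.g ≫ e.hom.app S.X₃) := by
        rw [hnat]
        infer_instance
      have h4 : ((ProEtS.epsPush X).rightDerived 0).map S.g =
          (((ProEtS.epsPush X).rightDerived 0).map S.g ≫ e.hom.app S.X₃) ≫ e.inv.app S.X₃ := by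
        rw [Category.assoc, Iso.hom_inv_id_app, Category.comp_id]
      rw [h4]
      infer_instance
    have hδ0 : Δ.δ S hS 0 1 rfl = 0 := by
      rw [← cancel_epi (((ProEtS.epsPush X).rightDerived 0).map S.g), Δ.comp_δ S hS 0 1 rfl,
        comp_zero]
    exact @IsZero.of_epi_eq_zero _ _ _ _ _ (Δ.δ S hS 0 1 rfl) hepi hδ0
  | succ n ih =>
    intro F
    let S := (injSC F).map (ProEtS.epsPull X)
    have hS : S.ShortExact := shortExact_map_epsPull (injSC_shortExact F)
    have hz : IsZero (((ProEtS.epsPush X).rightDerived (n + 2)).obj S.X₂) :=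
      isZero_RepsPush_succ_of_covAcyclic _ (covAcyclic_epsPull_injSC F) (n + 1)
    have hepi : Epi (Δ.δ S hS (n + 1) (n + 2) rfl) :=
      (Δ.exact₁ S hS (n + 1) (n + 2) rfl).epi_f (hz.eq_of_tgt _ _)
    exact @IsZero.of_epi _ _ _ _ _ (Δ.δ S hS (n + 1) (n + 2) rfl) hepi (ih (injSC F).X₃)

end Groth.Agent.Lib.Helper4.PEM
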