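import Mathlib
import Groth.Prelude.Def_ProEtS
import Groth.Prelude.Def_WeakSerre
import Groth.Agent.Lib.Helper4.PEM3
import Groth.Agent.Lib.Helper4.PEps11

/-!
# The essential image under `ε⁻¹` of a weak Serre subcategory is a weak Serre subcategory
-/

set_option autoImplicit false
set_option linter.style.haveILetI false
set_option linter.unusedSectionVars false
universe u v v' u₁ u₂

namespace Groth.Agent.Lib.Helper4.PEW

open CategoryTheory CategoryTheory.Limits AlgebraicGeometry Opposite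
  Groth.Agent.Lib.Helper22.Horseshoe Groth.Agent.Lib.Helper4.PEM

section abstract

variable {C : Type u₁} [Category.{v} C] [Abelian C] [EnoughInjectives C]
  {D : Type u₂} [Category.{v'} D] [Abelian D] (G : C ⥤ D) [G.Additive]

lemma epi_map_g_of_isZero_rightDerived_one [PreservesFiniteLimits G] (S : ShortComplex C)
    (hS : S.ShortExact) (h : IsZero ((G.rightDerived 1).obj S.X₁)) : Epi (G.map S.g) := by
  have hex := (derivedLES G).exact₃ S hS 0 1 rfl
  haveI hepi : Epi ((G.rightDerived 0).map S.g) := hex.epi_f (h.eq_of_tgt _ _)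
  let e := G.rightDerivedZeroIsoSelf
  have hnat := e.hom.naturality S.g
  have h4 : G.map S.g = e.inv.app S.X₂ ≫ (G.rightDerived 0).map S.g ≫ e.hom.app S.X₃ := by
    rw [hnat, Iso.inv_hom_id_app_assoc]
  rw [h4]
  infer_instance

end abstract

variable {X : Scheme.{u}} [ProEtS.EpsCont X]

instance isIso_unit_nat : IsIso (ProEtS.epsAdj X).unit := by
  haveI : ∀ F, IsIso ((ProEtS.epsAdj X).unit.app F) := fun F =>
    Groth.Agent.Lib.Helper4.PEps.isIso_unit F
  exact NatIso.isIso_of_isIso_app _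

/-- `ε⁻¹` is fully faithful -/
noncomputable def fullyFaithfulEpsPull : (ProEtS.epsPull X).FullyFaithful :=
  (ProEtS.epsAdj X).fullyFaithfulLOfIsIsoUnit

instance full_epsPull : (ProEtS.epsPull X).Full := fullyFaithfulEpsPull.full

instance faithful_epsPull : (ProEtS.epsPull X).Faithful := fullyFaithfulEpsPull.faithful

instance preservesFiniteLimits_epsPull : PreservesFiniteLimits (ProEtS.epsPull X) := by
  have h := ((Functor.preservesFiniteLimits_tfae (ProEtS.epsPull X)).out 0 3 rfl rfl).1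
    (fun S hS => ⟨(shortExact_map_epsPull hS).exact, (shortExact_map_epsPull hS).mono_f⟩)
  exact h

instance isIso_counit_epsPull (G : EtCoh.Ab X) :
    IsIso ((ProEtS.epsAdj X).counit.app ((ProEtS.epsPull X).obj G)) := by
  haveI := Groth.Agent.Lib.Helper4.PEps.isIso_unit G
  have h := (ProEtS.epsAdj X).left_triangle_components G
  haveI : IsIso ((ProEtS.epsPull X).map ((ProEtS.epsAdj X).unit.app G)) := inferInstance
  have h' : (ProEtS.epsAdj X).counit.app ((ProEtS.epsPull X).obj G) =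
      inv ((ProEtS.epsPull X).map ((ProEtS.epsAdj X).unit.app G)) := by
    rw [← cancel_epi ((ProEtS.epsPull X).map ((ProEtS.epsAdj X).unit.app G)), h,
      IsIso.hom_inv_id]
    rfl
  rw [h']
  infer_instance

lemma isIso_counit_of_iso {F : ProEtS.AbP X} (G : EtCoh.Ab X) (e : (ProEtS.epsPull X).obj G ≅ F) :
    IsIso ((ProEtS.epsAdj X).counit.app F) := by
  have hnat := (ProEtS.epsAdj X).counit.naturality e.hom
  simp only [Functor.id_map, Functor.comp_map] at hnat
  have h : (ProEtS.epsAdj X).counit.app F =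
      (ProEtS.epsPull X).map ((ProEtS.epsPush X).map e.inv) ≫
        (ProEtS.epsAdj X).counit.app ((ProEtS.epsPull X).obj G) ≫ e.hom := by
    rw [← hnat, ← Functor.map_comp_assoc, ← Functor.map_comp, e.inv_hom_id,
      CategoryTheory.Functor.map_id, CategoryTheory.Functor.map_id, Category.id_comp]
  rw [h]
  infer_instance

/-- an iso `ε_* ε⁻¹ G ≅ G` -/
noncomputable def pushPullIso (G : EtCoh.Ab X) :
    (ProEtS.epsPush X).obj ((ProEtS.epsPull X).obj G) ≅ G :=
  haveI := Groth.Agent.Lib.Helper4.PEps.isIso_unit G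
  (asIso ((ProEtS.epsAdj X).unit.app G)).symm

variable (S : ObjectProperty (EtCoh.Ab X)) [WSerre.IsWeakSerre S]

/-- the essential image of `S` -/
def essS : ObjectProperty (ProEtS.AbP X) :=
  fun F => ∃ G : EtCoh.Ab X, S G ∧ Nonempty ((ProEtS.epsPull X).obj G ≅ F)

lemma essS_containsZero : (essS S).ContainsZero := by
  obtain ⟨Z, hZ, hSZ⟩ := S.exists_prop_of_containsZero
  exact ⟨(ProEtS.epsPull X).obj Z, (ProEtS.epsPull X).map_isZero hZ, Z, hSZ, ⟨Iso.refl _⟩⟩

set_option maxHeartbeats 1000000 in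
lemma essS_kernels : (essS S).IsClosedUnderKernels where
  kernels_le := by
    rintro _ ⟨f, k, hk, ⟨G₁, h₁, ⟨e₁⟩⟩, ⟨G₂, h₂, ⟨e₂⟩⟩⟩
    obtain ⟨ψ, hψ⟩ := (ProEtS.epsPull X).map_surjective (e₁.hom ≫ f ≫ e₂.inv)
    refine ⟨kernel ψ, S.prop_kernel ψ h₁ h₂, ⟨?_⟩⟩
    let i1 : (ProEtS.epsPull X).obj (kernel ψ) ≅ kernel ((ProEtS.epsPull X).map ψ) :=
      PreservesKernel.iso (ProEtS.epsPull X) ψ
    let i2 : kernel ((ProEtS.epsPull X).map ψ) ≅ kernel f :=
      kernel.mapIso _ _ e₁ e₂ (by rw [hψ, Category.assoc, Category.assoc, Iso.inv_hom_id,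
        Category.comp_id])
    let i3 : kernel f ≅ k.pt := IsLimit.conePointUniqueUpToIso (limit.isLimit (parallelPair f 0)) hk
    exact i1 ≪≫ i2 ≪≫ i3

set_option maxHeartbeats 1000000 in
lemma essS_cokernels : (essS S).IsClosedUnderCokernels where
  cokernels_le := by
    rintro _ ⟨f, k, hk, ⟨G₁, h₁, ⟨e₁⟩⟩, ⟨G₂, h₂, ⟨e₂⟩⟩⟩
    haveI : PreservesColimits (ProEtS.epsPull X) :=
      (ProEtS.epsAdj X).leftAdjoint_preservesColimits
    obtain ⟨ψ, hψ⟩ := (ProEtS.epsPull X).map_surjective (e₁.hom ≫ f ≫ e₂.inv)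
    refine ⟨cokernel ψ, S.prop_cokernel ψ h₁ h₂, ⟨?_⟩⟩
    let i1 : (ProEtS.epsPull X).obj (cokernel ψ) ≅ cokernel ((ProEtS.epsPull X).map ψ) :=
      PreservesCokernel.iso (ProEtS.epsPull X) ψ
    let i2 : cokernel ((ProEtS.epsPull X).map ψ) ≅ cokernel f :=
      cokernel.mapIso _ _ e₁ e₂ (by rw [hψ, Category.assoc, Category.assoc, Iso.inv_hom_id,
        Category.comp_id])
    let i3 : cokernel f ≅ k.pt := IsColimit.coconePointUniqueUpToIso (colimit.isColimit (parallelPair f 0)) hk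
    exact i1 ≪≫ i2 ≪≫ i3

end Groth.Agent.Lib.Helper4.PEW
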