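import Mathlib
import Groth.Prelude.Def_ProEtS
import Groth.Prelude.Def_WeakSerre
import Groth.Agent.Lib.Helper4.PEW1

/-!
# The essential image under `ε⁻¹` of a weak Serre subcategory: extensions
-/

set_option autoImplicit false
set_option linter.style.haveILetI false
set_option linter.unusedSectionVars false
universe u

namespace Groth.Agent.Lib.Helper4.PEW

open CategoryTheory CategoryTheory.Limits AlgebraicGeometry Opposite
  Groth.Agent.Lib.Helper22.Horseshoe Groth.Agent.Lib.Helper4.PEM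
  Groth.Agent.Lib.Helper22.DimShift

variable {X : Scheme.{u}} [ProEtS.EpsCont X]
  (S : ObjectProperty (EtCoh.Ab X)) [WSerre.IsWeakSerre S]

set_option maxHeartbeats 1000000 in
lemma essS_extensions : (essS S).IsClosedUnderExtensions where
  prop_X₂_of_shortExact {T} hT h₁ h₃ := by
    obtain ⟨G₁, hS₁, ⟨e₁⟩⟩ := h₁
    obtain ⟨G₃, hS₃, ⟨e₃⟩⟩ := h₃
    haveI : PreservesLimits (ProEtS.epsPush X) := (ProEtS.epsAdj X).rightAdjoint_preservesLimits
    have hz : IsZero (((ProEtS.epsPush X).rightDerived 1).obj T.X₁) :=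
      IsZero.of_iso (isZero_RepsPush_epsPull 0 G₁)
        (((ProEtS.epsPush X).rightDerived 1).mapIso e₁.symm)
    have hepi : Epi ((ProEtS.epsPush X).map T.g) :=
      epi_map_g_of_isZero_rightDerived_one (ProEtS.epsPush X) T hT hz
    have hRT : (T.map (ProEtS.epsPush X)).ShortExact :=
      shortExact_map_of_epi' (ProEtS.epsPush X) hT hepi
    have hR1 : S ((ProEtS.epsPush X).obj T.X₁) :=
      S.prop_of_iso ((pushPullIso G₁).symm ≪≫ (ProEtS.epsPush X).mapIso e₁) hS₁
    have hR3 : S ((ProEtS.epsPush X).obj T.X₃) :=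
      S.prop_of_iso ((pushPullIso G₃).symm ≪≫ (ProEtS.epsPush X).mapIso e₃) hS₃
    have hR2 : S ((ProEtS.epsPush X).obj T.X₂) := S.prop_X₂_of_shortExact hRT hR1 hR3
    have hLRT : ((T.map (ProEtS.epsPush X)).map (ProEtS.epsPull X)).ShortExact :=
      shortExact_map_epsPull hRT
    let φ : (T.map (ProEtS.epsPush X)).map (ProEtS.epsPull X) ⟶ T :=
      { τ₁ := (ProEtS.epsAdj X).counit.app T.X₁
        τ₂ := (ProEtS.epsAdj X).counit.app T.X₂
        τ₃ := (ProEtS.epsAdj X).counit.app T.X₃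
        comm₁₂ := ((ProEtS.epsAdj X).counit.naturality T.f).symm
        comm₂₃ := ((ProEtS.epsAdj X).counit.naturality T.g).symm }
    haveI : IsIso φ.τ₁ := isIso_counit_of_iso G₁ e₁
    haveI : IsIso φ.τ₃ := isIso_counit_of_iso G₃ e₃
    have h2 : IsIso φ.τ₂ := ShortComplex.isIso₂_of_shortExact_of_isIso₁₃ φ hLRT hT
    exact ⟨(ProEtS.epsPush X).obj T.X₂, hR2, ⟨@asIso _ _ _ _ φ.τ₂ h2⟩⟩

theorem isWeakSerre_essS : WSerre.IsWeakSerre (essS S) :=
  { toContainsZero := essS_containsZero S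
    toIsClosedUnderKernels := essS_kernels S
    toIsClosedUnderCokernels := essS_cokernels S
    toIsClosedUnderExtensions := essS_extensions S }

end Groth.Agent.Lib.Helper4.PEW
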