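import Mathlib
import Groth.Prelude.Def_EtModW
import Groth.Agent.Lib.Helper4.MT3
import Groth.Agent.Lib.Helper4.PEW2
import Groth.Agent.Lib.Helper4.DC9

/-!
# `ε⁻¹` on sheaves of modules: fully faithful and exact (helper4)
-/

set_option linter.style.haveILetI false
set_option linter.unusedSectionVars false
set_option autoImplicit false
open CategoryTheory CategoryTheory.Limits AlgebraicGeometry Opposite
universe u

namespace Groth.Agent.Lib.Helper4.MT

variable {Λ : Type (u + 1)} [CommRing Λ] {X : Scheme.{u}} [ProEtS.EpsCont X]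

variable (Λ X) in
/-- Underlying abelian sheaf, étale site. -/
noncomputable abbrev ΦE : EtModW.Mod Λ X ⥤ EtCoh.Ab X := Φ X.smallEtaleTopology

variable (Λ X) in
/-- Underlying abelian sheaf, pro-étale site. -/
noncomputable abbrev ΦP : EtModW.ModP Λ X ⥤ ProEtS.AbP X := Φ (Scheme.ProEt.topology X)

variable (Λ X) in
/-- `ε⁻¹` commutes with passing to underlying abelian sheaves. -/
noncomputable def θε : EtModW.epsPullMod Λ X ⋙ ΦP Λ X ≅ ΦE Λ X ⋙ ProEtS.epsPull X :=
  pullCompIso X.smallEtaleTopology (Scheme.ProEt.topology X) (adjUH Λ) (ProEtS.eps X)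

variable (Λ X) in
/-- The adjunction `ε⁻¹ ⊣ ε_*` for sheaves of modules. -/
noncomputable abbrev epsAdjMod :=
  (ProEtS.eps X).sheafAdjunctionContinuous (ModuleCat.{u + 1} Λ)
    X.smallEtaleTopology (Scheme.ProEt.topology X)

variable (Λ X) in
/-- `ε_*` for sheaves of modules. -/
noncomputable abbrev epsPushMod : EtModW.ModP Λ X ⥤ EtModW.Mod Λ X :=
  (ProEtS.eps X).sheafPushforwardContinuous (ModuleCat.{u + 1} Λ)
    X.smallEtaleTopology (Scheme.ProEt.topology X)

theorem epsPushMod_map_smul (a : Λ) {A B : EtModW.ModP Λ X} (ψ : A ⟶ B) :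
    (epsPushMod Λ X).map (a • ψ) = a • (epsPushMod Λ X).map ψ := rfl

theorem epsPullMod_map_smul (a : Λ) {A B : EtModW.Mod Λ X} (ψ : A ⟶ B) :
    (EtModW.epsPullMod Λ X).map (a • ψ) = a • (EtModW.epsPullMod Λ X).map ψ :=
  Groth.Agent.Lib.Helper4.DC.map_smul_of_adjunction (epsAdjMod Λ X)
    (fun a _ _ ψ => epsPushMod_map_smul a ψ) a ψ

instance faithful_epsPullMod : (EtModW.epsPullMod Λ X).Faithful :=
  faithful_of_transfer (EtModW.epsPullMod Λ X) (ProEtS.epsPull X) (ΦE Λ X) (ΦP Λ X) (θε Λ X)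

instance full_epsPullMod : (EtModW.epsPullMod Λ X).Full :=
  full_of_transfer (Λ := Λ) (EtModW.epsPullMod Λ X) (ProEtS.epsPull X) (ΦE Λ X) (ΦP Λ X) (θε Λ X)
    (fun a M => by rw [epsPullMod_map_smul, CategoryTheory.Functor.map_id])
    (fun χ h => exists_lift X.smallEtaleTopology χ h)

instance additive_Φ {C : Type*} [Category C] (J : GrothendieckTopology C) :
    (Φ (Λ := Λ) J).Additive where
  map_add := rfl

instance preservesFiniteLimits_epsPullMod : PreservesFiniteLimits (EtModW.epsPullMod Λ X) :=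
  preservesFiniteLimits_of_transfer (EtModW.epsPullMod Λ X) (ProEtS.epsPull X) (ΦE Λ X) (ΦP Λ X)
    (θε Λ X)

end Groth.Agent.Lib.Helper4.MT
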