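import Mathlib

/-!
# Essential image of a fully faithful exact left adjoint: kernels, cokernels, extensions (helper4)
-/

set_option linter.style.haveILetI false
set_option linter.unusedSectionVars false
set_option autoImplicit false
open CategoryTheory CategoryTheory.Limits Opposite
universe v₁ v₂ u₁ u₂

namespace Groth.Agent.Lib.Helper4.MT

section abstractWS

variable {𝒜₁ : Type u₁} [Category.{v₁} 𝒜₁] [Abelian 𝒜₁]
  {𝒜₂ : Type u₂} [Category.{v₂} 𝒜₂] [Abelian 𝒜₂]
  {L : 𝒜₁ ⥤ 𝒜₂} {R : 𝒜₂ ⥤ 𝒜₁} (adj : L ⊣ R) [L.Full] [L.Faithful]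

include adj in
theorem isIso_counit_of_essImage {F : 𝒜₂} (hF : L.essImage F) : IsIso (adj.counit.app F) := by
  obtain ⟨M, ⟨e⟩⟩ := hF
  haveI : IsIso (adj.counit.app (L.obj M)) := inferInstance
  have hnat := adj.counit.naturality e.hom
  simp only [Functor.id_map, Functor.comp_map] at hnat
  have h : adj.counit.app F =
      L.map (R.map e.inv) ≫ adj.counit.app (L.obj M) ≫ e.hom := by
    rw [← hnat, ← Functor.map_comp_assoc, ← Functor.map_comp, e.inv_hom_id,
      CategoryTheory.Functor.map_id, CategoryTheory.Functor.map_id, Category.id_comp]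
  rw [h]
  infer_instance

theorem essImage_kernel [PreservesFiniteLimits L] {F G : 𝒜₂} (φ : F ⟶ G)
    (hF : L.essImage F) (hG : L.essImage G) : L.essImage (kernel φ) := by
  obtain ⟨M, ⟨e₁⟩⟩ := hF
  obtain ⟨N, ⟨e₂⟩⟩ := hG
  obtain ⟨ψ, hψ⟩ := L.map_surjective (e₁.hom ≫ φ ≫ e₂.inv)
  refine ⟨kernel ψ, ⟨?_⟩⟩
  let i1 : L.obj (kernel ψ) ≅ kernel (L.map ψ) := PreservesKernel.iso L ψ
  let i2 : kernel (L.map ψ) ≅ kernel φ :=
    kernel.mapIso _ _ e₁ e₂ (by rw [hψ, Category.assoc, Category.assoc, Iso.inv_hom_id,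
      Category.comp_id])
  exact i1 ≪≫ i2

include adj in
theorem essImage_cokernel {F G : 𝒜₂} (φ : F ⟶ G)
    (hF : L.essImage F) (hG : L.essImage G) : L.essImage (cokernel φ) := by
  obtain ⟨M, ⟨e₁⟩⟩ := hF
  obtain ⟨N, ⟨e₂⟩⟩ := hG
  haveI : PreservesColimitsOfSize.{0, 0} L := adj.leftAdjoint_preservesColimits
  obtain ⟨ψ, hψ⟩ := L.map_surjective (e₁.hom ≫ φ ≫ e₂.inv)
  refine ⟨cokernel ψ, ⟨?_⟩⟩
  let i1 : L.obj (cokernel ψ) ≅ cokernel (L.map ψ) := PreservesCokernel.iso L ψ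
  let i2 : cokernel (L.map ψ) ≅ cokernel φ :=
    cokernel.mapIso _ _ e₁ e₂ (by rw [hψ, Category.assoc, Category.assoc, Iso.inv_hom_id,
      Category.comp_id])
  exact i1 ≪≫ i2

include adj in
theorem essImage_extension [PreservesFiniteLimits L] [L.Additive] [R.Additive]
    (T : ShortComplex 𝒜₂) (hT : T.ShortExact)
    (h₁ : L.essImage T.X₁) (h₃ : L.essImage T.X₃) (hepi : Epi (R.map T.g)) :
    L.essImage T.X₂ := by
  haveI : PreservesLimitsOfSize.{0, 0} R := adj.rightAdjoint_preservesLimits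
  haveI : PreservesFiniteLimits R := PreservesLimitsOfSize.preservesFiniteLimits R
  haveI : PreservesColimitsOfSize.{0, 0} L := adj.leftAdjoint_preservesColimits
  haveI : PreservesFiniteColimits L := PreservesColimitsOfSize.preservesFiniteColimits L
  have hRT : (T.map R).ShortExact := by
    have hm : Mono T.f := hT.mono_f
    have h1 : (T.map R).Exact := hT.exact.map_of_mono_of_preservesKernel R hm inferInstance
    have h2 : Mono (T.map R).f := inferInstanceAs (Mono (R.map T.f))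
    exact ShortComplex.ShortExact.mk' h1 h2 hepi
  have hLRT : ((T.map R).map L).ShortExact := hRT.map_of_exact L
  let φ : (T.map R).map L ⟶ T :=
    { τ₁ := adj.counit.app T.X₁
      τ₂ := adj.counit.app T.X₂
      τ₃ := adj.counit.app T.X₃
      comm₁₂ := (adj.counit.naturality T.f).symm
      comm₂₃ := (adj.counit.naturality T.g).symm }
  haveI : IsIso φ.τ₁ := isIso_counit_of_essImage adj h₁
  haveI : IsIso φ.τ₃ := isIso_counit_of_essImage adj h₃
  have h2 : IsIso φ.τ₂ := ShortComplex.isIso₂_of_shortExact_of_isIso₁₃ φ hLRT hT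
  exact ⟨R.obj T.X₂, ⟨@asIso _ _ _ _ φ.τ₂ h2⟩⟩

end abstractWS

end Groth.Agent.Lib.Helper4.MT
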