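import Mathlib
import Groth.Agent.Lib.Helper4.MT4
import Groth.Agent.Lib.Helper4.MT5

/-!
# The essential image of `ε⁻¹` on sheaves of modules is a weak Serre subcategory (helper4)
-/

set_option linter.style.haveILetI false
set_option linter.unusedSectionVars false
set_option autoImplicit false
open CategoryTheory CategoryTheory.Limits AlgebraicGeometry Opposite
universe u

namespace Groth.Agent.Lib.Helper4.MT

open Groth.Agent.Lib.Helper4.PEW Groth.Agent.Lib.Helper4.PEM

variable {Λ : Type (u + 1)} [CommRing Λ] {X : Scheme.{u}} [ProEtS.EpsCont X]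

instance preservesFiniteLimits_ΦP : PreservesFiniteLimits (ΦP Λ X) := by
  haveI : PreservesLimitsOfSize.{0, 0} (ΦP Λ X) := inferInstance
  exact PreservesLimitsOfSize.preservesFiniteLimits _

instance preservesFiniteColimits_ΦP : PreservesFiniteColimits (ΦP Λ X) := by
  haveI : PreservesColimitsOfSize.{0, 0} (ΦP Λ X) :=
    (adjΦ (Scheme.ProEt.topology X) (adjUH Λ)).leftAdjoint_preservesColimits
  exact PreservesColimitsOfSize.preservesFiniteColimits _

instance preservesFiniteLimits_ΦE : PreservesFiniteLimits (ΦE Λ X) := by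
  haveI : PreservesLimitsOfSize.{0, 0} (ΦE Λ X) := inferInstance
  exact PreservesLimitsOfSize.preservesFiniteLimits _

instance preservesFiniteColimits_ΦE : PreservesFiniteColimits (ΦE Λ X) := by
  haveI : PreservesColimitsOfSize.{0, 0} (ΦE Λ X) :=
    (adjΦ X.smallEtaleTopology (adjUH Λ)).leftAdjoint_preservesColimits
  exact PreservesColimitsOfSize.preservesFiniteColimits _

instance additive_epsPushMod : (epsPushMod Λ X).Additive where
  map_add := rfl

instance additive_epsPullMod : (EtModW.epsPullMod Λ X).Additive :=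
  (epsAdjMod Λ X).left_adjoint_additive

variable (Λ X) in
/-- `ε_*` commutes with passing to underlying abelian sheaves. -/
noncomputable def pushΦIso : ΦP Λ X ⋙ ProEtS.epsPush X ≅ epsPushMod Λ X ⋙ ΦE Λ X :=
  pushCompIso X.smallEtaleTopology (Scheme.ProEt.topology X) (ProEtS.eps X) (H := UU Λ)

/-- `ε_*` (modules) maps to an epimorphism the epimorphism of a short exact sequence whose kernel
is in the essential image of `ε⁻¹`. -/
theorem epi_epsPushMod_map_g (T : ShortComplex (EtModW.ModP Λ X)) (hT : T.ShortExact)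
    (h₁ : (EtModW.epsPullMod Λ X).essImage T.X₁) : Epi ((epsPushMod Λ X).map T.g) := by
  obtain ⟨M₁, ⟨e₁⟩⟩ := h₁
  have hT' : (T.map (ΦP Λ X)).ShortExact := hT.map_of_exact (ΦP Λ X)
  let i : (ProEtS.epsPull X).obj ((ΦE Λ X).obj M₁) ≅ (T.map (ΦP Λ X)).X₁ :=
    ((θε Λ X).app M₁).symm ≪≫ (ΦP Λ X).mapIso e₁
  have hz : IsZero (((ProEtS.epsPush X).rightDerived 1).obj (T.map (ΦP Λ X)).X₁) :=
    IsZero.of_iso (isZero_RepsPush_epsPull 0 ((ΦE Λ X).obj M₁))
      (((ProEtS.epsPush X).rightDerived 1).mapIso i.symm)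
  haveI : PreservesLimits (ProEtS.epsPush X) := (ProEtS.epsAdj X).rightAdjoint_preservesLimits
  have hepi : Epi ((ProEtS.epsPush X).map (T.map (ΦP Λ X)).g) :=
    epi_map_g_of_isZero_rightDerived_one (ProEtS.epsPush X) (T.map (ΦP Λ X)) hT' hz
  have hepi' : Epi ((ΦP Λ X ⋙ ProEtS.epsPush X).map T.g) := hepi
  have hnat := (pushΦIso Λ X).hom.naturality T.g
  have h2 : (epsPushMod Λ X ⋙ ΦE Λ X).map T.g =
      (pushΦIso Λ X).inv.app T.X₂ ≫ (ΦP Λ X ⋙ ProEtS.epsPush X).map T.g ≫
        (pushΦIso Λ X).hom.app T.X₃ := by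
    rw [hnat, Iso.inv_hom_id_app_assoc]
  haveI : Epi ((ΦE Λ X).map ((epsPushMod Λ X).map T.g)) := by
    show Epi ((epsPushMod Λ X ⋙ ΦE Λ X).map T.g)
    rw [h2]
    infer_instance
  exact (ΦE Λ X).epi_of_epi_map this

/-- The essential image of `ε⁻¹` on sheaves of modules is a weak Serre subcategory. -/
theorem epsPullMod_essImage_weakSerre :
    (∀ (F G : EtModW.ModP Λ X) (φ : F ⟶ G), (EtModW.epsPullMod Λ X).essImage F →
      (EtModW.epsPullMod Λ X).essImage G →
        (EtModW.epsPullMod Λ X).essImage (kernel φ) ∧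
          (EtModW.epsPullMod Λ X).essImage (cokernel φ)) ∧
    ∀ (T : ShortComplex (EtModW.ModP Λ X)), T.ShortExact →
      (EtModW.epsPullMod Λ X).essImage T.X₁ → (EtModW.epsPullMod Λ X).essImage T.X₃ →
        (EtModW.epsPullMod Λ X).essImage T.X₂ := by
  refine ⟨fun F G φ hF hG => ⟨essImage_kernel φ hF hG,
    essImage_cokernel (epsAdjMod Λ X) φ hF hG⟩, fun T hT h₁ h₃ => ?_⟩
  exact essImage_extension (epsAdjMod Λ X) T hT h₁ h₃ (epi_epsPushMod_map_g T hT h₁)

end Groth.Agent.Lib.Helper4.MT
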