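import Mathlib
import Groth.Agent.Lib.Helper4.CM2
import Groth.Agent.Lib.Helper4.MT6

/-!
# Constructible sheaves of modules: weak Serre on the étale and pro-étale sites (helper4)
-/

set_option linter.style.haveILetI false
set_option linter.unusedSectionVars false
set_option autoImplicit false
open CategoryTheory CategoryTheory.Limits AlgebraicGeometry Opposite ZeroObject
universe v₁ v₂ u₁ u₂ u

namespace Groth.Agent.Lib.Helper4.CM

open Groth.Agent.Lib.Helper22.Strata Set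

section abstractEss

variable {𝒜₁ : Type u₁} [Category.{v₁} 𝒜₁] [Abelian 𝒜₁]
  {𝒜₂ : Type u₂} [Category.{v₂} 𝒜₂] [Abelian 𝒜₂]
  (L : 𝒜₁ ⥤ 𝒜₂) {R : 𝒜₂ ⥤ 𝒜₁} (adj : L ⊣ R) [L.Full] [L.Faithful]
  (S : ObjectProperty 𝒜₁) [WSerre.IsWeakSerre S]

/-- The essential image under `L` of the objects satisfying `S`. -/
def essP : ObjectProperty 𝒜₂ := fun F => ∃ E : 𝒜₁, S E ∧ Nonempty (L.obj E ≅ F)

lemma essP_le_essImage {F : 𝒜₂} (h : essP L S F) : L.essImage F := by
  obtain ⟨E, -, ⟨e⟩⟩ := h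
  exact ⟨E, ⟨e⟩⟩

include adj in
theorem isWeakSerre_essP [PreservesFiniteLimits L] [L.Additive] [R.Additive]
    (hepi : ∀ (T : ShortComplex 𝒜₂), T.ShortExact → L.essImage T.X₁ → Epi (R.map T.g)) :
    WSerre.IsWeakSerre (essP L S) := by
  haveI : PreservesColimitsOfSize.{0, 0} L := adj.leftAdjoint_preservesColimits
  haveI : PreservesFiniteColimits L := PreservesColimitsOfSize.preservesFiniteColimits L
  haveI : PreservesLimitsOfSize.{0, 0} R := adj.rightAdjoint_preservesLimits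
  haveI : PreservesFiniteLimits R := PreservesLimitsOfSize.preservesFiniteLimits R
  haveI : IsIso adj.unit := inferInstance
  refine
    { exists_zero := ?_
      kernels_le := ?_
      cokernels_le := ?_
      prop_X₂_of_shortExact := ?_ }
  · obtain ⟨Z, hZ, hSZ⟩ := S.exists_prop_of_containsZero
    exact ⟨L.obj Z, L.map_isZero hZ, Z, hSZ, ⟨Iso.refl _⟩⟩
  · rintro _ ⟨f, k, hk, ⟨G₁, h₁, ⟨e₁⟩⟩, ⟨G₂, h₂, ⟨e₂⟩⟩⟩
    obtain ⟨ψ, hψ⟩ := L.map_surjective (e₁.hom ≫ f ≫ e₂.inv)
    refine ⟨kernel ψ, S.prop_kernel ψ h₁ h₂, ⟨?_⟩⟩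
    let i1 : L.obj (kernel ψ) ≅ kernel (L.map ψ) := PreservesKernel.iso L ψ
    let i2 : kernel (L.map ψ) ≅ kernel f :=
      kernel.mapIso _ _ e₁ e₂ (by rw [hψ, Category.assoc, Category.assoc, Iso.inv_hom_id,
        Category.comp_id])
    let i3 : kernel f ≅ k.pt :=
      IsLimit.conePointUniqueUpToIso (limit.isLimit (parallelPair f 0)) hk
    exact i1 ≪≫ i2 ≪≫ i3
  · rintro _ ⟨f, k, hk, ⟨G₁, h₁, ⟨e₁⟩⟩, ⟨G₂, h₂, ⟨e₂⟩⟩⟩
    obtain ⟨ψ, hψ⟩ := L.map_surjective (e₁.hom ≫ f ≫ e₂.inv)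
    refine ⟨cokernel ψ, S.prop_cokernel ψ h₁ h₂, ⟨?_⟩⟩
    let i1 : L.obj (cokernel ψ) ≅ cokernel (L.map ψ) := PreservesCokernel.iso L ψ
    let i2 : cokernel (L.map ψ) ≅ cokernel f :=
      cokernel.mapIso _ _ e₁ e₂ (by rw [hψ, Category.assoc, Category.assoc, Iso.inv_hom_id,
        Category.comp_id])
    let i3 : cokernel f ≅ k.pt :=
      IsColimit.coconePointUniqueUpToIso (colimit.isColimit (parallelPair f 0)) hk
    exact i1 ≪≫ i2 ≪≫ i3
  · intro T hT h₁ h₃
    have hi₁ := essP_le_essImage L S h₁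
    have hi₃ := essP_le_essImage L S h₃
    obtain ⟨G₁, hS₁, ⟨e₁⟩⟩ := h₁
    obtain ⟨G₃, hS₃, ⟨e₃⟩⟩ := h₃
    have hepi' := hepi T hT hi₁
    have hRT : (T.map R).ShortExact := by
      have hm : Mono T.f := hT.mono_f
      have h1 : (T.map R).Exact := hT.exact.map_of_mono_of_preservesKernel R hm inferInstance
      have h2 : Mono (T.map R).f := inferInstanceAs (Mono (R.map T.f))
      exact ShortComplex.ShortExact.mk' h1 h2 hepi'
    have hR1 : S (R.obj T.X₁) :=
      S.prop_of_iso (asIso (adj.unit.app G₁) ≪≫ R.mapIso e₁) hS₁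
    have hR3 : S (R.obj T.X₃) :=
      S.prop_of_iso (asIso (adj.unit.app G₃) ≪≫ R.mapIso e₃) hS₃
    have hR2 : S (R.obj T.X₂) := S.prop_X₂_of_shortExact hRT hR1 hR3
    obtain ⟨E, ⟨e⟩⟩ := Groth.Agent.Lib.Helper4.MT.essImage_extension adj T hT hi₁ hi₃ hepi'
    have hcounit : IsIso (adj.counit.app T.X₂) :=
      Groth.Agent.Lib.Helper4.MT.isIso_counit_of_essImage adj ⟨E, ⟨e⟩⟩
    exact ⟨R.obj T.X₂, hR2, ⟨@asIso _ _ _ _ _ hcounit⟩⟩

end abstractEss

section constructible

variable (Λ : Type (u + 1)) [CommRing Λ] {X : Scheme.{u}}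

lemma isZero_constantSheaf_obj {C : Type*} [Category C] (J : GrothendieckTopology C)
    {T : C} (hT : IsTerminal T) (A : Type*) [Category A] [Abelian A]
    [HasWeakSheafify J A] [Abelian (Sheaf J A)] (Z : A) (hZ : IsZero Z) :
    IsZero ((constantSheaf J A).obj Z) := by
  rw [IsZero.iff_id_eq_zero]
  exact ((constantSheafAdj J A hT).homEquiv _ _).injective (hZ.eq_of_src _ _)

lemma isFTLocConst_of_isZero {F : EtModW.Mod Λ X} (hF : IsZero F) : EtModW.IsFTLocConst Λ F := by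
  refine ⟨PUnit, fun _ => EtCoh.top X, fun x => ⟨PUnit.unit, x, rfl⟩, fun _ => ?_⟩
  refine ⟨PUnit, inferInstance, inferInstance, inferInstance, ⟨?_⟩⟩
  have h1 : IsZero (EtModW.restr Λ F (EtCoh.top X)) :=
    (X.smallEtaleTopology.overPullback (ModuleCat.{u + 1} Λ) (EtCoh.top X)).map_isZero hF
  have h2 : IsZero ((constantSheaf (X.smallEtaleTopology.over (EtCoh.top X))
      (ModuleCat.{u + 1} Λ)).obj (ModuleCat.of Λ PUnit)) :=
    isZero_constantSheaf_obj _ Over.mkIdTerminal _ _ (ModuleCat.isZero_of_subsingleton _)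
  exact h1.iso h2

lemma isConstructible_of_isZero {F : EtModW.Mod Λ X} (hF : IsZero F) :
    EtModW.IsConstructible Λ F := by
  intro U hU
  refine ⟨1, fun _ => U.toScheme, fun _ => U.ι, fun _ => inferInstance, fun _ => ?_, ?_, ?_,
    fun _ => ?_⟩
  · have : (Subtype.val : ↥(U : Set X) → X) ⁻¹' Set.range U.ι = Set.univ := by
      ext ⟨x, hx⟩
      simp only [Set.mem_preimage, Set.mem_univ, iff_true]
      rw [Scheme.Opens.range_ι]
      exact hx
    rw [this]
    exact Topology.IsConstructible.univ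
  · intro i j hij
    exact absurd (Subsingleton.elim i j) hij
  · rw [Set.iUnion_const]
    exact Scheme.Opens.range_ι U
  · exact isFTLocConst_of_isZero Λ ((EtModW.pull Λ U.ι).map_isZero hF)

lemma isConstructible_of_iso {F G : EtModW.Mod Λ X} (e : F ≅ G)
    (h : EtModW.IsConstructible Λ F) : EtModW.IsConstructible Λ G := by
  intro U hU
  rw [adaptedStrata_iff_M]
  refine StIn.mono_prop ?_ ((adaptedStrata_iff_M Λ F _).1 (h U hU))
  intro T g hg
  exact isFTLocConst_of_iso Λ ((EtModW.pull Λ g).mapIso e) hg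

variable [IsNoetherianRing Λ]

/-- Constructible sheaves of modules on the small étale site form a weak Serre subcategory. -/
instance isWeakSerre_isConstructible :
    WSerre.IsWeakSerre (fun E : EtModW.Mod Λ X => EtModW.IsConstructible Λ E) := by
  refine
    { exists_zero := ?_
      kernels_le := ?_
      cokernels_le := ?_
      prop_X₂_of_shortExact := ?_ }
  · obtain ⟨Z, hZ⟩ : ∃ Z : EtModW.Mod Λ X, IsZero Z := ⟨_, isZero_zero _⟩
    exact ⟨Z, hZ, isConstructible_of_isZero Λ hZ⟩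
  · rintro _ ⟨f, k, hk, hA, hB⟩
    exact isConstructible_of_iso Λ
      (IsLimit.conePointUniqueUpToIso (limit.isLimit (parallelPair f 0)) hk)
      (constructible_kernel_cokernel Λ f hA hB).1
  · rintro _ ⟨f, k, hk, hA, hB⟩
    exact isConstructible_of_iso Λ
      (IsColimit.coconePointUniqueUpToIso (colimit.isColimit (parallelPair f 0)) hk)
      (constructible_kernel_cokernel Λ f hA hB).2
  · intro T hT h₁ h₃
    exact constructible_extension Λ T hT h₁ h₃

/-- Constructible sheaves of modules on the small pro-étale site form a weak Serre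
subcategory. -/
theorem isWeakSerre_isConstructibleP [ProEtS.EpsCont X] :
    WSerre.IsWeakSerre (fun F : EtModW.ModP Λ X =>
      ∃ E : EtModW.Mod Λ X, EtModW.IsConstructible Λ E ∧
        Nonempty ((EtModW.epsPullMod Λ X).obj E ≅ F)) :=
  isWeakSerre_essP (EtModW.epsPullMod Λ X) (Groth.Agent.Lib.Helper4.MT.epsAdjMod Λ X)
    (fun E : EtModW.Mod Λ X => EtModW.IsConstructible Λ E)
    (fun T hT h₁ => Groth.Agent.Lib.Helper4.MT.epi_epsPushMod_map_g T hT h₁)

end constructible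

end Groth.Agent.Lib.Helper4.CM
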