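import Mathlib
import Groth.Agent.Lib.Helper4.CM3
import Groth.Agent.Lib.Helper22.Strata.Main
import Groth.Prelude.Def_ARSys

/-!
# Pullback of constructible sheaves of modules; exact functors and isomorphisms up to translation
(helper4)
-/

set_option linter.style.haveILetI false
set_option linter.unusedSectionVars false
set_option autoImplicit false
open CategoryTheory CategoryTheory.Limits AlgebraicGeometry Opposite TopologicalSpace
universe v₁ v₂ u₁ u₂ u

namespace Groth.Agent.Lib.Helper4.CM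

open Groth.Agent.Lib.Helper22.Strata Set

section pull

variable (Λ : Type (u + 1)) [CommRing Λ] {X : Scheme.{u}}

lemma PFM_comp {Y : Scheme.{u}} (f : Y ⟶ X) (F : EtModW.Mod Λ X) {T : Scheme.{u}} (g : T ⟶ Y) :
    PFM Λ ((EtModW.pull Λ f).obj F) g ↔ PFM Λ F (g ≫ f) := by
  constructor
  · intro h
    exact isFTLocConst_of_iso Λ ((pullCompM Λ g f).app F).symm h
  · intro h
    exact isFTLocConst_of_iso Λ ((pullCompM Λ g f).app F) h

/-- Pullback of a stratification of an affine open along a morphism, over an affine open of the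
source mapping into it. -/
lemma StIn.pullM {Y : Scheme.{u}} (f : X ⟶ Y) (F : EtModW.Mod Λ Y) (W : X.Opens) (V' : Y.Opens)
    (hW : IsAffineOpen W) (hV' : IsAffineOpen V') (hWV : W ≤ f ⁻¹ᵁ V')
    (h : StIn (PFM Λ F) (V' : Set Y) (V' : Set Y)) :
    StIn (PFM Λ ((EtModW.pull Λ f).obj F)) (W : Set X) (W : Set X) := by
  obtain ⟨ι, fin, T, g, him, hc, hdis, hun, hP⟩ := h
  have := him
  have := quasiSeparatedSpace_of_isAffineOpen hW
  have := compactSpace_of_isAffineOpen hV'
  have hmaps : MapsTo f (W : Set X) (V' : Set Y) := fun x hx => hWV hx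
  have hr : ∀ i, Set.range (pullback.snd (g i) (W.ι ≫ f) ≫ W.ι) =
      (W : Set X) ∩ f ⁻¹' Set.range (g i) := by
    intro i
    rw [range_comp_eq, Scheme.Pullback.range_snd]
    have : (W.ι ≫ f) ⁻¹' Set.range (g i) = W.ι ⁻¹' (f ⁻¹' Set.range (g i)) := by
      ext x
      simp only [mem_preimage]
      rw [Scheme.Hom.comp_apply]
    rw [this, Set.image_preimage_eq_inter_range, Scheme.Opens.range_ι, inter_comm]
  refine ⟨ι, fin, fun i => pullback (g i) (W.ι ≫ f),
    fun i => pullback.snd (g i) (W.ι ≫ f) ≫ W.ι, fun i => inferInstance, fun i => ?_, ?_, ?_,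
    fun i => ?_⟩
  · rw [hr]
    have h1 : CIn (W : Set X) (f ⁻¹' Set.range (g i)) :=
      CIn.preimage f.continuous hmaps
        (fun O hO hOc => isCompact_inter_preimage f W V' hW hV' hWV O hO hOc) (hc i)
    refine h1.congr ?_
    rw [inter_comm (W : Set X), inter_assoc, inter_self]
  · intro i k hik
    rw [hr, hr]
    refine Disjoint.mono inter_subset_right inter_subset_right ?_
    exact (hdis hik).preimage f
  · have : (⋃ i, Set.range (pullback.snd (g i) (W.ι ≫ f) ≫ W.ι)) =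
        (W : Set X) ∩ f ⁻¹' (⋃ i, Set.range (g i)) := by
      rw [preimage_iUnion, inter_iUnion]
      exact iUnion_congr hr
    rw [this, hun]
    exact inter_eq_left.2 hmaps
  · rw [PFM_comp]
    have hcond : (pullback.snd (g i) (W.ι ≫ f) ≫ W.ι) ≫ f =
        pullback.fst (g i) (W.ι ≫ f) ≫ g i := by
      rw [Category.assoc]
      exact pullback.condition.symm
    have h2 : PFM Λ F (pullback.fst (g i) (W.ι ≫ f) ≫ g i) := PFM_stable Λ F _ _ (hP i)
    change EtModW.IsFTLocConst Λ _ at h2 ⊢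
    rw [hcond]
    exact h2

/-- The pullback of a constructible sheaf of modules is constructible. -/
theorem isConstructible_pullM {Y : Scheme.{u}} (f : X ⟶ Y) (F : EtModW.Mod Λ Y)
    (hF : EtModW.IsConstructible Λ F) : EtModW.IsConstructible Λ ((EtModW.pull Λ f).obj F) := by
  intro V hV
  rw [adaptedStrata_iff_M]
  have hqs := quasiSeparatedSpace_of_isAffineOpen hV
  obtain ⟨n, W, hWa, hWQ, hVW⟩ := exists_finite_affine_cover V hV.isCompact
    (fun W => ∃ V' : Y.Opens, IsAffineOpen V' ∧ W ≤ f ⁻¹ᵁ V') (by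
      intro x hx
      obtain ⟨V', hV', hxV', -⟩ := Opens.isBasis_iff_nbhd.1 Y.isBasis_affineOpens
        (show f x ∈ (⊤ : Y.Opens) from trivial)
      obtain ⟨W, hW, hxW, hWle⟩ := Opens.isBasis_iff_nbhd.1 X.isBasis_affineOpens
        (show x ∈ V ⊓ f ⁻¹ᵁ V' from ⟨hx, hxV'⟩)
      exact ⟨W, hW, hxW, hWle.trans inf_le_left, V', hV', hWle.trans inf_le_right⟩)
  refine StIn.of_finite_open_cover (PFM_stable Λ _) (fun k => (W k : Set X)) hVW
    (fun k => (W k).isOpen) (fun k => (hWa k).isCompact) (fun k => ?_)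
  obtain ⟨V', hV', hle⟩ := hWQ k
  exact StIn.pullM Λ f F (W k) V' (hWa k) hV' hle ((adaptedStrata_iff_M Λ _ _).1 (hF V' hV'))

theorem pullM_map_smul {Y : Scheme.{u}} (f : X ⟶ Y) (a : Λ) {A B : EtModW.Mod Λ Y} (ψ : A ⟶ B) :
    (EtModW.pull Λ f).map (a • ψ) = a • (EtModW.pull Λ f).map ψ :=
  Groth.Agent.Lib.Helper4.DC.map_smul_of_adjunction (pullPushAdjM Λ f)
    (fun _ _ _ _ => rfl) a ψ

end pull

section linear

variable {Λ : Type*} [CommRing Λ] {𝒞 : Type u₁} [Category.{v₁} 𝒞] [Preadditive 𝒞] [Linear Λ 𝒞]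
  {𝒟 : Type u₂} [Category.{v₂} 𝒟] [Preadditive 𝒟] [Linear Λ 𝒟]

theorem killedBy_map_of_linear (L : 𝒞 ⥤ 𝒟)
    (hL : ∀ (a : Λ) {X Y : 𝒞} (ψ : X ⟶ Y), L.map (a • ψ) = a • L.map ψ) (I : Ideal Λ) {Q : 𝒞}
    (h : ARSys.KilledBy I Q) : ARSys.KilledBy I (L.obj Q) := by
  intro a ha
  have h0 : L.map (0 : Q ⟶ Q) = 0 := by
    have := hL 0 (0 : Q ⟶ Q)
    rwa [zero_smul, zero_smul] at this
  have : a • 𝟙 (L.obj Q) = L.map (a • 𝟙 Q) := by rw [hL, CategoryTheory.Functor.map_id]
  rw [this, h a ha, h0]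

end linear

section arIso

variable {𝒜 : Type u₁} [Category.{v₁} 𝒜] [Abelian 𝒜] {ℬ : Type u₂} [Category.{v₂} ℬ] [Abelian ℬ]
  (L : 𝒜 ⥤ ℬ) [L.Additive] [PreservesFiniteLimits L] [PreservesFiniteColimits L]

lemma isARNull_of_iso {Z Z' : ARSys.PS ℬ} (e : Z ≅ Z') (h : ARSys.IsARNull Z) :
    ARSys.IsARNull Z' := by
  obtain ⟨r, hr⟩ := h
  refine ⟨r, fun n => ?_⟩
  have hnat := e.inv.naturality (homOfLE (Nat.le_add_right n r)).op
  have h0 : Z.map (homOfLE (Nat.le_add_right n r)).op = 0 := hr n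
  have : Z'.map (homOfLE (Nat.le_add_right n r)).op =
      e.inv.app _ ≫ Z.map (homOfLE (Nat.le_add_right n r)).op ≫ e.hom.app _ := by
    rw [← reassoc_of% hnat, Iso.inv_hom_id_app, Category.comp_id]
  show Z'.map (homOfLE (Nat.le_add_right n r)).op = 0
  rw [this, h0, zero_comp, comp_zero]

lemma isARNull_comp {Z : ARSys.PS 𝒜} (h : ARSys.IsARNull Z) : ARSys.IsARNull (Z ⋙ L) := by
  obtain ⟨r, hr⟩ := h
  refine ⟨r, fun n => ?_⟩
  have h0 : Z.map (homOfLE (Nat.le_add_right n r)).op = 0 := hr n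
  show L.map (Z.map (homOfLE (Nat.le_add_right n r)).op) = 0
  rw [h0, Functor.map_zero]

/-- An exact functor preserves isomorphisms up to translation. -/
theorem isARIso_whiskerRight {Y F : ARSys.PS 𝒜} (v : Y ⟶ F) (hv : ARSys.IsARIso v) :
    ARSys.IsARIso (Functor.whiskerRight v L) := by
  let W := (Functor.whiskeringRight ℕᵒᵖ 𝒜 ℬ).obj L
  haveI : PreservesFiniteLimits W := ⟨fun J _ _ => inferInstance⟩
  haveI : PreservesFiniteColimits W := ⟨fun J _ _ => inferInstance⟩
  constructor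
  · have e : W.obj (kernel v) ≅ kernel (W.map v) := PreservesKernel.iso W v
    exact isARNull_of_iso e (isARNull_comp L hv.1)
  · have e : W.obj (cokernel v) ≅ cokernel (W.map v) := PreservesCokernel.iso W v
    exact isARNull_of_iso e (isARNull_comp L hv.2)

end arIso

end Groth.Agent.Lib.Helper4.CM
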