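import Mathlib
import Groth.Prelude.Def_ARSys

/-!
# Abstract lemmas on quotient maps modulo an ideal (helper4)
-/

set_option linter.style.haveILetI false
set_option linter.unusedSectionVars false
set_option autoImplicit false
open CategoryTheory CategoryTheory.Limits Opposite
universe w v v' u u'

namespace Groth.Agent.Lib.Helper4.DC

section

variable {Λ : Type w} [CommRing Λ] {𝒞 : Type u} [Category.{v} 𝒞] [Abelian 𝒞] [Linear Λ 𝒞]
  [HasFiniteBiproducts 𝒞]

/-- The map `X^r → X`, `(s_k) ↦ Σ a_k s_k`. -/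
noncomputable abbrev gensA {r : ℕ} (a : Fin r → Λ) (X : 𝒞) : (⨁ fun _ : Fin r => X) ⟶ X :=
  biproduct.desc fun k : Fin r => a k • 𝟙 X

theorem gensA_comp_of_killedBy {r : ℕ} (a : Fin r → Λ) {X Q : 𝒞} (p : X ⟶ Q)
    (hQ : ARSys.KilledBy (Ideal.span (Set.range a)) Q) : gensA a X ≫ p = 0 := by
  apply biproduct.hom_ext'
  intro k
  rw [biproduct.ι_desc_assoc, comp_zero, Linear.smul_comp, Category.id_comp]
  have h1 := hQ (a k) (Ideal.subset_span ⟨k, rfl⟩)
  have : a k • p = p ≫ (a k • 𝟙 Q) := by rw [Linear.comp_smul, Category.comp_id]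
  rw [this, h1, comp_zero]

theorem homKilledBy_of_gensA_comp {r : ℕ} (a : Fin r → Λ) {X Y : 𝒞} (φ : X ⟶ Y)
    (h : gensA a X ≫ φ = 0) : ARSys.HomKilledBy (Ideal.span (Set.range a)) φ := by
  intro b hb
  obtain ⟨β, rfl⟩ := Ideal.mem_span_range_iff_exists_fun.1 hb
  rw [Finset.sum_smul]
  apply Finset.sum_eq_zero
  intro k _
  have : (β k * a k) • φ = (β k • biproduct.ι (fun _ : Fin r => X) k) ≫ gensA a X ≫ φ := by
    rw [Linear.smul_comp, biproduct.ι_desc_assoc, Linear.smul_comp, Category.id_comp, smul_smul]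
  rw [this, h, comp_zero]

theorem gensA_comp_of_homKilledBy {r : ℕ} (a : Fin r → Λ) {X Y : 𝒞} (φ : X ⟶ Y)
    (h : ARSys.HomKilledBy (Ideal.span (Set.range a)) φ) : gensA a X ≫ φ = 0 := by
  apply biproduct.hom_ext'
  intro k
  rw [biproduct.ι_desc_assoc, comp_zero, Linear.smul_comp, Category.id_comp]
  exact h (a k) (Ideal.subset_span ⟨k, rfl⟩)

/-- A cokernel of `X^r → X` is a quotient map modulo `(a_1, …, a_r)`. -/
theorem isQuot_of_isColimit {r : ℕ} (a : Fin r → Λ) {X Q : 𝒞} (p : X ⟶ Q)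
    (w : gensA a X ≫ p = 0) (hc : IsColimit (CokernelCofork.ofπ p w)) :
    ARSys.IsQuot (Ideal.span (Set.range a)) p := by
  haveI : Epi p := epi_of_isColimit_cofork hc
  constructor
  · intro b hb
    have h1 := homKilledBy_of_gensA_comp a p w b hb
    rw [← cancel_epi p, comp_zero, Linear.comp_smul, Category.comp_id]
    exact h1
  · intro Y φ hφ
    have h0 := gensA_comp_of_homKilledBy a φ hφ
    refine ⟨hc.desc (CokernelCofork.ofπ φ h0), hc.fac _ WalkingParallelPair.one, ?_⟩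
    intro ψ hψ
    rw [← cancel_epi p, hψ]
    exact (hc.fac (CokernelCofork.ofπ φ h0) WalkingParallelPair.one).symm

/-- A quotient map modulo `(a_1, …, a_r)` is a cokernel of `X^r → X`. -/
theorem isIso_cokernel_desc_of_isQuot {r : ℕ} (a : Fin r → Λ) {X Q : 𝒞} (p : X ⟶ Q)
    (hp : ARSys.IsQuot (Ideal.span (Set.range a)) p) :
    IsIso (cokernel.desc (gensA a X) p (gensA_comp_of_killedBy a p hp.1)) := by
  obtain ⟨ψ, hψ, _⟩ := hp.2 _ (cokernel.π (gensA a X))
    (homKilledBy_of_gensA_comp a _ (cokernel.condition _))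
  have hpk : ARSys.HomKilledBy (Ideal.span (Set.range a)) p := by
    intro b hb
    have : b • p = p ≫ (b • 𝟙 Q) := by rw [Linear.comp_smul, Category.comp_id]
    rw [this, hp.1 b hb, comp_zero]
  refine ⟨ψ, ?_, ?_⟩
  · rw [← cancel_epi (cokernel.π (gensA a X)), cokernel.π_desc_assoc, hψ, Category.comp_id]
  · have h1 : p ≫ (ψ ≫ cokernel.desc (gensA a X) p (gensA_comp_of_killedBy a p hp.1)) = p := by
      rw [← Category.assoc, hψ, cokernel.π_desc]
    have h2 : p ≫ 𝟙 Q = p := Category.comp_id _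
    exact (hp.2 _ p hpk).unique h1 h2

theorem isQuot_comp_iso (I : Ideal Λ) {X Q Q' : 𝒞} (p : X ⟶ Q) (e : Q ≅ Q')
    (hp : ARSys.IsQuot I p) : ARSys.IsQuot I (p ≫ e.hom) := by
  constructor
  · intro b hb
    have h1 := hp.1 b hb
    have : b • 𝟙 Q' = e.inv ≫ (b • 𝟙 Q) ≫ e.hom := by
      rw [Linear.smul_comp, Linear.comp_smul, Category.id_comp, Iso.inv_hom_id]
    rw [this, h1, zero_comp, comp_zero]
  · intro Y φ hφ
    obtain ⟨ψ, hψ, huniq⟩ := hp.2 Y φ hφ
    refine ⟨e.inv ≫ ψ, ?_, ?_⟩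
    · show (p ≫ e.hom) ≫ (e.inv ≫ ψ) = φ
      rw [Category.assoc, Iso.hom_inv_id_assoc, hψ]
    · intro ψ' hψ'
      have hψ'' : (p ≫ e.hom) ≫ ψ' = φ := hψ'
      have := huniq (e.hom ≫ ψ') (by
        show p ≫ (e.hom ≫ ψ') = φ
        rw [← Category.assoc, hψ''])
      rw [← this, Iso.inv_hom_id_assoc]

end

section adj

variable {Λ : Type w} [CommRing Λ] {𝒞 : Type u} [Category.{v} 𝒞] [Preadditive 𝒞] [Linear Λ 𝒞]
  {𝒟 : Type u'} [Category.{v'} 𝒟] [Preadditive 𝒟] [Linear Λ 𝒟]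

/-- A linear left adjoint preserves quotient maps modulo an ideal. -/
theorem isQuot_map_of_adjunction {L : 𝒞 ⥤ 𝒟} {R : 𝒟 ⥤ 𝒞} (adj : L ⊣ R)
    (hL : ∀ (a : Λ) {X Y : 𝒞} (ψ : X ⟶ Y), L.map (a • ψ) = a • L.map ψ)
    (hR : ∀ (a : Λ) {X Y : 𝒟} (ψ : X ⟶ Y), R.map (a • ψ) = a • R.map ψ)
    (I : Ideal Λ) {X Q : 𝒞} (p : X ⟶ Q) (hp : ARSys.IsQuot I p) :
    ARSys.IsQuot I (L.map p) := by
  constructor
  · intro b hb
    have h1 := hp.1 b hb
    have : b • 𝟙 (L.obj Q) = L.map (b • 𝟙 Q) := by rw [hL, L.map_id]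
    have L0 : L.map (0 : Q ⟶ Q) = 0 := by
      have := hL 0 (0 : Q ⟶ Q)
      rwa [zero_smul, zero_smul] at this
    rw [this, h1, L0]
  · intro Y φ hφ
    have hφ' : ARSys.HomKilledBy I (adj.homEquiv X Y φ) := by
      intro b hb
      have : b • adj.homEquiv X Y φ = adj.homEquiv X Y (b • φ) := by
        rw [Adjunction.homEquiv_unit, Adjunction.homEquiv_unit, hR, Linear.comp_smul]
      have R0 : R.map (0 : L.obj X ⟶ Y) = 0 := by
        have := hR 0 (0 : L.obj X ⟶ Y)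
        rwa [zero_smul, zero_smul] at this
      rw [this, hφ b hb, Adjunction.homEquiv_unit, R0, comp_zero]
    obtain ⟨ψ, hψ, huniq⟩ := hp.2 (R.obj Y) (adj.homEquiv X Y φ) hφ'
    refine ⟨(adj.homEquiv Q Y).symm ψ, ?_, ?_⟩
    · show L.map p ≫ (adj.homEquiv Q Y).symm ψ = φ
      rw [← Adjunction.homEquiv_naturality_left_symm, hψ, Equiv.symm_apply_apply]
    · intro ψ' hψ'
      have hψ'' : L.map p ≫ ψ' = φ := hψ'
      have := huniq (adj.homEquiv Q Y ψ') (by
        show p ≫ adj.homEquiv Q Y ψ' = adj.homEquiv X Y φ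
        rw [← Adjunction.homEquiv_naturality_left, hψ''])
      rw [← this, Equiv.symm_apply_apply]

end adj

end Groth.Agent.Lib.Helper4.DC
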