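import Mathlib
import Groth.Prelude.Def_ARSys

/-!
# Full faithfulness of `lim ∘ L` on adic systems (abstract part) (helper4)
-/

set_option linter.style.haveILetI false
set_option linter.unusedSectionVars false
set_option autoImplicit false
open CategoryTheory CategoryTheory.Limits Opposite
universe w v v' u u'

namespace Groth.Agent.Lib.Helper4.DC

section

variable {Λ : Type w} [CommRing Λ] {𝒞 : Type u} [Category.{v} 𝒞] [Preadditive 𝒞] [Linear Λ 𝒞]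
  {𝒟 : Type u'} [Category.{v'} 𝒟] [Preadditive 𝒟] [Linear Λ 𝒟]

theorem homKilledBy_of_killedBy_tgt (I : Ideal Λ) {X Q : 𝒞} (φ : X ⟶ Q)
    (hQ : ARSys.KilledBy I Q) : ARSys.HomKilledBy I φ := by
  intro a ha
  have : a • φ = φ ≫ (a • 𝟙 Q) := by rw [Linear.comp_smul, Category.comp_id]
  rw [this, hQ a ha, comp_zero]

theorem homKilledBy_of_killedBy_src (I : Ideal Λ) {Q Y : 𝒞} (φ : Q ⟶ Y)
    (hQ : ARSys.KilledBy I Q) : ARSys.HomKilledBy I φ := by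
  intro a ha
  have : a • φ = (a • 𝟙 Q) ≫ φ := by rw [Linear.smul_comp, Category.id_comp]
  rw [this, hQ a ha, zero_comp]

theorem homKilledBy_comp (I : Ideal Λ) {X Y Z : 𝒞} (φ : X ⟶ Y) (ψ : Y ⟶ Z)
    (h : ARSys.HomKilledBy I ψ) : ARSys.HomKilledBy I (φ ≫ ψ) := by
  intro a ha
  rw [← Linear.comp_smul, h a ha, comp_zero]

/-- A quotient map modulo an ideal is an epimorphism. -/
theorem cancel_of_isQuot (I : Ideal Λ) {X Q Y : 𝒞} (p : X ⟶ Q) (hp : ARSys.IsQuot I p)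
    (ψ₁ ψ₂ : Q ⟶ Y) (h : p ≫ ψ₁ = p ≫ ψ₂) : ψ₁ = ψ₂ := by
  have hk : ARSys.HomKilledBy I (p ≫ ψ₁) :=
    homKilledBy_comp I p ψ₁ (homKilledBy_of_killedBy_src I ψ₁ hp.1)
  obtain ⟨ψ, -, huniq⟩ := hp.2 Y (p ≫ ψ₁) hk
  rw [huniq ψ₁ rfl, huniq ψ₂ h.symm]

variable (L : 𝒞 ⥤ 𝒟) [L.Full] [L.Faithful] [HasLimitsOfShape ℕᵒᵖ 𝒟] (I : Ideal Λ)
  (G G' : ℕᵒᵖ ⥤ 𝒞)
  (hπ : ∀ n : ℕ, ARSys.IsQuot (I ^ (n + 1)) (limit.π (G ⋙ L) (op n)))
  (hk' : ∀ n : ℕ, ARSys.KilledBy (I ^ (n + 1)) ((G' ⋙ L).obj (op n)))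

include hπ in
theorem limMap_whiskerRight_injective (α β : G ⟶ G')
    (h : limMap (Functor.whiskerRight α L) = limMap (Functor.whiskerRight β L)) : α = β := by
  apply NatTrans.ext
  funext k
  obtain ⟨n⟩ := k
  apply L.map_injective
  apply cancel_of_isQuot (I ^ (n + 1)) _ (hπ n)
  have h1 : limMap (Functor.whiskerRight α L) ≫ limit.π (G' ⋙ L) (op n) =
      limit.π (G ⋙ L) (op n) ≫ L.map (α.app (op n)) := limMap_π _ _
  have h2 : limMap (Functor.whiskerRight β L) ≫ limit.π (G' ⋙ L) (op n) =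
      limit.π (G ⋙ L) (op n) ≫ L.map (β.app (op n)) := limMap_π _ _
  rw [← h1, ← h2, h]

include hπ hk' in
theorem limMap_whiskerRight_surjective (ψ : limit (G ⋙ L) ⟶ limit (G' ⋙ L)) :
    ∃ α : G ⟶ G', limMap (Functor.whiskerRight α L) = ψ := by
  have hex : ∀ n : ℕ, ∃ ψn : L.obj (G.obj (op n)) ⟶ L.obj (G'.obj (op n)),
      limit.π (G ⋙ L) (op n) ≫ ψn = ψ ≫ limit.π (G' ⋙ L) (op n) := by
    intro n
    obtain ⟨ψn, h, -⟩ := (hπ n).2 _ (ψ ≫ limit.π (G' ⋙ L) (op n))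
      (homKilledBy_of_killedBy_tgt _ _ (hk' n))
    exact ⟨ψn, h⟩
  choose ψn hψn using hex
  have hnat : ∀ (k m : ℕᵒᵖ) (f : k ⟶ m),
      G.map f ≫ L.preimage (ψn m.unop) = L.preimage (ψn k.unop) ≫ G'.map f := by
    intro k m f
    apply L.map_injective
    rw [Functor.map_comp, Functor.map_comp, L.map_preimage, L.map_preimage]
    apply cancel_of_isQuot (I ^ (k.unop + 1)) _ (hπ k.unop)
    have w1 : limit.π (G ⋙ L) (op k.unop) ≫ L.map (G.map f) = limit.π (G ⋙ L) m :=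
      limit.w (G ⋙ L) f
    have w2 : limit.π (G' ⋙ L) (op k.unop) ≫ L.map (G'.map f) = limit.π (G' ⋙ L) m :=
      limit.w (G' ⋙ L) f
    rw [reassoc_of% w1, reassoc_of% (hψn k.unop), w2]
    exact hψn m.unop
  refine ⟨{ app := fun k => L.preimage (ψn k.unop), naturality := hnat }, ?_⟩
  apply limit.hom_ext
  intro k
  rw [limMap_π]
  show limit.π (G ⋙ L) k ≫ L.map (L.preimage (ψn k.unop)) = _
  rw [L.map_preimage]
  exact hψn k.unop

end

end Groth.Agent.Lib.Helper4.DC
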