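import Mathlib
import Groth.Prelude.Def_ARSys
import Groth.Agent.Lib.Helper4.DC16

/-!
# More abstract lemmas on quotient maps modulo an ideal (helper4)
-/

set_option linter.style.haveILetI false
set_option linter.unusedSectionVars false
set_option autoImplicit false
open CategoryTheory CategoryTheory.Limits Opposite
universe w v v' u u'

namespace Groth.Agent.Lib.Helper4.DC

section

variable {Λ : Type w} [CommRing Λ] {𝒞 : Type u} [Category.{v} 𝒞] [Preadditive 𝒞] [Linear Λ 𝒞]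
  {𝒟 : Type u'} [Category.{v'} 𝒟] [Preadditive 𝒟] [Linear Λ 𝒟]

theorem killedBy_of_iso (I : Ideal Λ) {X Y : 𝒞} (e : X ≅ Y) (h : ARSys.KilledBy I X) :
    ARSys.KilledBy I Y := by
  intro a ha
  have : a • 𝟙 Y = e.inv ≫ (a • 𝟙 X) ≫ e.hom := by
    rw [Linear.smul_comp, Linear.comp_smul, Category.id_comp, e.inv_hom_id]
  rw [this, h a ha, zero_comp, comp_zero]

theorem isQuot_iso_comp' (I : Ideal Λ) {X' X Q : 𝒞} (e : X' ≅ X) (p : X ⟶ Q)
    (hp : ARSys.IsQuot I p) : ARSys.IsQuot I (e.hom ≫ p) := by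
  refine ⟨hp.1, fun Y φ hφ => ?_⟩
  obtain ⟨ψ, hψ, huniq⟩ := hp.2 Y (e.inv ≫ φ) (homKilledBy_comp I e.inv φ hφ)
  refine ⟨ψ, ?_, ?_⟩
  · show (e.hom ≫ p) ≫ ψ = φ
    rw [Category.assoc, hψ, e.hom_inv_id_assoc]
  · intro ψ' hψ'
    apply huniq
    show p ≫ ψ' = e.inv ≫ φ
    have : (e.hom ≫ p) ≫ ψ' = φ := hψ'
    rw [← this, Category.assoc, e.inv_hom_id_assoc]

theorem isQuot_comp_iso' (I : Ideal Λ) {X Q Q' : 𝒞} (p : X ⟶ Q) (e : Q ≅ Q')
    (hp : ARSys.IsQuot I p) : ARSys.IsQuot I (p ≫ e.hom) := by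
  refine ⟨killedBy_of_iso I e hp.1, fun Y φ hφ => ?_⟩
  obtain ⟨ψ, hψ, huniq⟩ := hp.2 Y φ hφ
  refine ⟨e.inv ≫ ψ, ?_, ?_⟩
  · show (p ≫ e.hom) ≫ e.inv ≫ ψ = φ
    rw [Category.assoc, e.hom_inv_id_assoc, hψ]
  · intro ψ' hψ'
    have h1 : (p ≫ e.hom) ≫ ψ' = φ := hψ'
    have := huniq (e.hom ≫ ψ') (by
      show p ≫ (e.hom ≫ ψ') = φ
      rw [← Category.assoc, h1])
    rw [← this, e.inv_hom_id_assoc]

/-- If `p` and `p ≫ t` are quotient maps (modulo `J` and `I`) then `t` is a quotient map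
modulo `I`. -/
theorem isQuot_of_comp (I J : Ideal Λ) {X Q Q' : 𝒞} (p : X ⟶ Q) (t : Q ⟶ Q')
    (hp : ARSys.IsQuot J p) (hpt : ARSys.IsQuot I (p ≫ t)) : ARSys.IsQuot I t := by
  refine ⟨hpt.1, fun Y φ hφ => ?_⟩
  obtain ⟨ψ, hψ, huniq⟩ := hpt.2 Y (p ≫ φ) (homKilledBy_comp I p φ hφ)
  refine ⟨ψ, ?_, ?_⟩
  · show t ≫ ψ = φ
    apply cancel_of_isQuot J p hp
    have : (p ≫ t) ≫ ψ = p ≫ φ := hψ
    rw [← this, Category.assoc]
  · intro ψ' hψ'
    apply huniq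
    show (p ≫ t) ≫ ψ' = p ≫ φ
    have : t ≫ ψ' = φ := hψ'
    rw [Category.assoc, this]

variable (L : 𝒞 ⥤ 𝒟) [L.Full] [L.Faithful]
  (hL : ∀ (a : Λ) {X Y : 𝒞} (ψ : X ⟶ Y), L.map (a • ψ) = a • L.map ψ)

include hL in
theorem map_zero_of_linear {X Y : 𝒞} : L.map (0 : X ⟶ Y) = 0 := by
  have := hL 0 (0 : X ⟶ Y)
  rwa [zero_smul, zero_smul] at this

include hL in
theorem killedBy_of_map (I : Ideal Λ) {Q : 𝒞} (h : ARSys.KilledBy I (L.obj Q)) :
    ARSys.KilledBy I Q := by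
  intro a ha
  apply L.map_injective
  rw [hL, CategoryTheory.Functor.map_id, h a ha, map_zero_of_linear L hL]

include hL in
theorem killedBy_map (I : Ideal Λ) {Q : 𝒞} (h : ARSys.KilledBy I Q) :
    ARSys.KilledBy I (L.obj Q) := by
  intro a ha
  have : a • 𝟙 (L.obj Q) = L.map (a • 𝟙 Q) := by rw [hL, CategoryTheory.Functor.map_id]
  rw [this, h a ha, map_zero_of_linear L hL]

include hL in
/-- A fully faithful linear functor reflects quotient maps modulo an ideal. -/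
theorem isQuot_of_map (I : Ideal Λ) {X Q : 𝒞} (p : X ⟶ Q) (hp : ARSys.IsQuot I (L.map p)) :
    ARSys.IsQuot I p := by
  refine ⟨killedBy_of_map L hL I hp.1, fun Y φ hφ => ?_⟩
  have hφ' : ARSys.HomKilledBy I (L.map φ) := by
    intro a ha
    rw [← hL, hφ a ha, map_zero_of_linear L hL]
  obtain ⟨ψ', hψ', huniq⟩ := hp.2 (L.obj Y) (L.map φ) hφ'
  refine ⟨L.preimage ψ', ?_, ?_⟩
  · show p ≫ L.preimage ψ' = φ
    apply L.map_injective
    rw [Functor.map_comp, L.map_preimage]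
    exact hψ'
  · intro ψ₂ hψ₂
    apply L.map_injective
    rw [L.map_preimage]
    apply huniq
    show L.map p ≫ L.map ψ₂ = L.map φ
    have : p ≫ ψ₂ = φ := hψ₂
    rw [← Functor.map_comp, this]

end

end Groth.Agent.Lib.Helper4.DC
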