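import Mathlib
import Groth.Agent.Lib27.ARNoethCat
import Groth.Agent.Lib27.ARExt
import Groth.Agent.Lib.Helper4.CM4
import Groth.Agent.Lib.Helper4.DC17
import Groth.Agent.Lib.Helper4.DC13

/-!
# Descent of the AR-adic property along a finite jointly conservative family of exact functors
(helper4)
-/

set_option linter.style.haveILetI false
set_option linter.unusedSectionVars false
set_option autoImplicit false
open CategoryTheory CategoryTheory.Limits Opposite
universe w v v' u u'

namespace Groth.Agent.Lib.Helper4.AR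

open ARSys Groth.Agent.Lib27.ARSys

section basic

variable {C : Type u} [Category.{v} C] [Abelian C]

lemma imageSubobject_le_iff_cokernel {A B X : C} (f : A ⟶ X) (g : B ⟶ X) :
    imageSubobject f ≤ imageSubobject g ↔ f ≫ cokernel.π g = 0 := by
  rw [imageSubobject_le_iff]
  constructor
  · rintro ⟨T, π, hπ, b, h⟩
    rw [← cancel_epi π, Limits.comp_zero, ← Category.assoc, h, Category.assoc,
      cokernel.condition, Limits.comp_zero]
  · intro h
    have hS : (ShortComplex.mk g (cokernel.π g) (cokernel.condition g)).Exact :=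
      ShortComplex.exact_of_g_is_cokernel _ (cokernelIsCokernel g)
    obtain ⟨T, π, hπ, y, hy⟩ := hS.exact_up_to_refinements f h
    exact ⟨T, π, hπ, y, hy⟩

lemma isIso_kernel_ι_of_eq_zero {A B : C} (g : A ⟶ B) (h : g = 0) : IsIso (kernel.ι g) := by
  subst h
  infer_instance

end basic

section family

variable {C : Type u} [Category.{v} C] [Abelian C]
  {ι : Type} {D : ι → Type u'} [∀ i, Category.{v'} (D i)] [∀ i, Abelian (D i)]
  (L : ∀ i, C ⥤ D i) [∀ i, (L i).Additive] [∀ i, PreservesFiniteLimits (L i)]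
  [∀ i, PreservesFiniteColimits (L i)]
  (hz : ∀ M : C, (∀ i, IsZero ((L i).obj M)) → IsZero M)

include hz

/-- A family of exact functors which jointly reflects zero objects is jointly faithful. -/
lemma eq_zero_of_forall_map_eq_zero {X Y : C} (f : X ⟶ Y) (h : ∀ i, (L i).map f = 0) : f = 0 := by
  have hZ : IsZero (cokernel (kernel.ι f)) := by
    apply hz
    intro i
    have e : (L i).obj (cokernel (kernel.ι f)) ≅ cokernel ((L i).map (kernel.ι f)) :=
      PreservesCokernel.iso (L i) _
    refine IsZero.of_iso ?_ e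
    have : Epi ((L i).map (kernel.ι f)) := by
      have h1 : kernelComparison f (L i) ≫ kernel.ι ((L i).map f) = (L i).map (kernel.ι f) :=
        kernelComparison_comp_ι f (L i)
      rw [← h1]
      have := isIso_kernel_ι_of_eq_zero _ (h i)
      infer_instance
    exact isZero_cokernel_of_epi _
  have : Epi (kernel.ι f) := Preadditive.epi_of_isZero_cokernel _ hZ
  rw [← cancel_epi (kernel.ι f), kernel.condition, Limits.comp_zero]

/-- The uniform Mittag-Leffler condition descends along a finite jointly conservative family of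
exact functors. -/
theorem isMLAR_of_forall_comp [Finite ι] (X : PS C) (h : ∀ i, IsMLAR (X ⋙ L i)) : IsMLAR X := by
  classical
  cases nonempty_fintype ι
  choose r hr using fun i => (isMLAR_iff _).1 (h i)
  refine (isMLAR_iff X).2 ⟨Finset.univ.sup r, fun s hs n => ?_⟩
  apply le_antisymm
  · rw [← tr_comp X (Nat.le_add_right n (Finset.univ.sup r)) (Nat.add_le_add_left hs n)]
    exact imageSubobject_comp_le _ _
  · rw [imageSubobject_le_iff_cokernel]
    apply eq_zero_of_forall_map_eq_zero L hz
    intro i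
    have hi : r i ≤ Finset.univ.sup r := Finset.le_sup (Finset.mem_univ i)
    have h1 := mlar_general (X ⋙ L i) (r i) (hr i) (n := n) (m := n + Finset.univ.sup r)
      (m' := n + s) (by omega) (by omega)
    have h2 : (L i).map (tr X (Nat.le_add_right n (Finset.univ.sup r))) ≫
        cokernel.π ((L i).map (tr X (Nat.le_add_right n s))) = 0 :=
      (imageSubobject_le_iff_cokernel _ _).1 h1.le
    rw [Functor.map_comp, ← π_comp_cokernelComparison, ← Category.assoc, h2, Limits.zero_comp]

end family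


section linear

variable {C : Type u} [Category.{v} C] [Abelian C] {A : Type w} [CommRing A] [Linear A C]

lemma subLEIdeal_iff_of_isQuot (I : Ideal A) {B Q : C} (p : B ⟶ Q) (hp : IsQuot I p)
    (S : Subobject B) : SubLEIdeal I S ↔ S.arrow ≫ p = 0 := by
  constructor
  · intro h
    exact h Q p (GenFam.homKilledBy_of_killedBy_tgt p hp.1)
  · intro h W φ hφ
    obtain ⟨ψ, hψ, -⟩ := hp.2 W φ hφ
    have hψ' : p ≫ ψ = φ := hψ
    rw [← hψ', ← Category.assoc, h, Limits.zero_comp]

lemma exists_isQuot (J : Ideal A) (hJ : J.FG) (p : ℕ) (B : C) :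
    ∃ (Q : C) (q : B ⟶ Q), IsQuot (J ^ p) q := by
  obtain ⟨G⟩ := nonempty_genFam (C := C) J (Or.inl hJ) p
  exact ⟨_, cokernel.π (G.σ B), G.isQuot_of_exact _ (cokernel.condition _)
    (ShortComplex.exact_of_g_is_cokernel _ (cokernelIsCokernel _))⟩

lemma isQuot_of_epi_comp (I : Ideal A) {X Q Q' : C} (e : X ⟶ Q) [Epi e] (q : Q ⟶ Q')
    (h : IsQuot I (e ≫ q)) : IsQuot I q := by
  refine ⟨h.1, fun W φ hφ => ?_⟩
  obtain ⟨ψ, hψ, huniq⟩ := h.2 W (e ≫ φ) (homKilledBy_comp_left e hφ)
  have hψ' : (e ≫ q) ≫ ψ = e ≫ φ := hψ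
  refine ⟨ψ, ?_, fun ψ' hψ' => ?_⟩
  · show q ≫ ψ = φ
    rw [← cancel_epi e, ← Category.assoc, hψ']
  · apply huniq
    show (e ≫ q) ≫ ψ' = e ≫ φ
    have : q ≫ ψ' = φ := hψ'
    rw [Category.assoc, this]

variable {ι : Type} {D : ι → Type u'} [∀ i, Category.{v'} (D i)] [∀ i, Abelian (D i)]
  [∀ i, Linear A (D i)]
  (L : ∀ i, C ⥤ D i) [∀ i, (L i).Additive] [∀ i, PreservesFiniteLimits (L i)]
  [∀ i, PreservesFiniteColimits (L i)]
  (hz : ∀ M : C, (∀ i, IsZero ((L i).obj M)) → IsZero M)
  (hL : ∀ i (a : A) {X Y : C} (ψ : X ⟶ Y), (L i).map (a • ψ) = a • (L i).map ψ)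
  (hQ : ∀ i (I : Ideal A) {B Q : C} (p : B ⟶ Q), IsQuot I p → IsQuot I ((L i).map p))

include hz hQ in
theorem subLEIdeal_Fker_of_forall_comp (J : Ideal A) (hJ : J.FG) (p : ℕ) (Y : PS C) (n : ℕ)
    (h : ∀ i, SubLEIdeal (J ^ p) (Fker (Y ⋙ L i) n)) : SubLEIdeal (J ^ p) (Fker Y n) := by
  obtain ⟨Q, q, hq⟩ := exists_isQuot J hJ p (Y.obj (op n))
  rw [subLEIdeal_iff_of_isQuot _ q hq]
  apply eq_zero_of_forall_map_eq_zero L hz
  intro i
  have hqi := hQ i _ q hq
  have hk : HomKilledBy (J ^ p) ((L i).map q) := GenFam.homKilledBy_of_killedBy_tgt _ hqi.1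
  have h1 := h i _ ((L i).map q) hk
  cases n with
  | zero =>
    have h2 : (L i).map q = 0 := by
      have h3 : (⊤ : Subobject ((Y ⋙ L i).obj (op 0))).arrow ≫ (L i).map q = 0 := h1
      have : IsIso (⊤ : Subobject ((Y ⋙ L i).obj (op 0))).arrow := inferInstance
      exact (cancel_epi (⊤ : Subobject ((Y ⋙ L i).obj (op 0))).arrow).1
        (h3.trans Limits.comp_zero.symm)
    rw [Functor.map_comp, h2, Limits.comp_zero]
  | succ k =>
    have h0 : (L i).map (kernelSubobject (tr Y (Nat.le_succ k))).arrow ≫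
        tr (Y ⋙ L i) (Nat.le_succ k) = 0 := by
      show (L i).map (kernelSubobject (tr Y (Nat.le_succ k))).arrow ≫
        (L i).map (tr Y (Nat.le_succ k)) = 0
      rw [← Functor.map_comp, kernelSubobject_arrow_comp, Functor.map_zero]
    have hf : (kernelSubobject (tr (Y ⋙ L i) (Nat.le_succ k))).Factors
        ((L i).map (kernelSubobject (tr Y (Nat.le_succ k))).arrow) :=
      kernelSubobject_factors _ _ h0
    have h1' : (kernelSubobject (tr (Y ⋙ L i) (Nat.le_succ k))).arrow ≫ (L i).map q = 0 := h1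
    show (L i).map ((kernelSubobject (tr Y (Nat.le_succ k))).arrow ≫ q) = 0
    rw [Functor.map_comp, ← Subobject.factorThru_arrow _ _ hf, Category.assoc, h1',
      Limits.comp_zero]

include hz hL hQ in
/-- Being adic up to translation descends along a finite jointly conservative family of exact
linear functors preserving quotient maps. -/
theorem isARAdic_of_forall_comp [Finite ι] (J : Ideal A) (hJ : J.FG) (X : PS C)
    (kX : TermKilled J X) (h : ∀ i, IsARAdic J (X ⋙ L i)) : IsARAdic J X := by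
  classical
  cases nonempty_fintype ι
  have hML : IsMLAR X := isMLAR_of_forall_comp L hz X
    (fun i => isMLAR_of_isARAdic J (Or.inl hJ) _ (h i))
  obtain ⟨r, hr⟩ := (isMLAR_iff X).1 hML
  obtain ⟨Y, u, ⟨hmono, -⟩, hYs, hu⟩ := mlar_forward' X r hr
  haveI := hmono
  have kY : TermKilled J Y := termKilled_of_mono J u kX
  have hYi : ∀ i, IsARAdic J (Y ⋙ L i) := fun i =>
    isARAdic_of_isARIso_src J (Or.inl hJ) (Functor.whiskerRight u (L i))
      (CM.isARIso_whiskerRight (L i) u hu)
      (fun n => CM.killedBy_map_of_linear (L i) (hL i) _ (kY n)) (h i)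
  have hYis : ∀ i, IsStrict (Y ⋙ L i) := fun i n m hnm => by
    haveI := hYs n m hnm
    show Epi ((L i).map (tr Y hnm))
    infer_instance
  have hF : ∀ i, ∃ r : ℕ, 0 < r ∧ ∀ n : ℕ, SubLEIdeal (J ^ (n - r)) (Fker (Y ⋙ L i) n) :=
    fun i => (isARAdic_iff_fker J (Or.inl hJ) _ (hYis i) (hYi i).1).1 (hYi i)
  choose ρ hρ0 hρ using hF
  have hYad : IsARAdic J Y := by
    refine (isARAdic_iff_fker J (Or.inl hJ) Y hYs kY).2
      ⟨Finset.univ.sup ρ + 1, Nat.succ_pos _, fun n => ?_⟩
    apply subLEIdeal_Fker_of_forall_comp L hz hQ J hJ _ Y n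
    intro i W φ hφ
    have hi : ρ i ≤ Finset.univ.sup ρ := Finset.le_sup (Finset.mem_univ i)
    exact hρ i n W φ (homKilledBy_mono (Ideal.pow_le_pow_right (by omega)) hφ)
  exact isARAdic_of_isARIso_tgt J u hu kX hYad

end linear

section PP

variable {C : Type u} [Category.{v} C] [Abelian C] {A : Type w} [CommRing A] [Linear A C]
  (P : ObjectProperty C) [WSerre.IsWeakSerre P]

lemma prop_imageSubobject {X Y : C} (f : X ⟶ Y) (hX : P X) (hY : P Y) :
    P (imageSubobject f : C) := by
  have h1 : P (Abelian.image f) := P.prop_kernel (cokernel.π f) hY (P.prop_cokernel f hX hY)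
  exact P.prop_of_iso ((Abelian.imageIsoImage f) ≪≫ (imageSubobjectIso f).symm) h1

lemma prop_of_isQuot (I : Ideal A) (hI : I.FG) {B Q : C} (p : B ⟶ Q) (hp : IsQuot I p)
    (hB : P B) : P Q := by
  haveI : HasFiniteBiproducts C := Abelian.hasFiniteBiproducts
  obtain ⟨r, a, ha⟩ := Submodule.fg_iff_exists_fin_generating_family.1 hI
  have ha' : Ideal.span (Set.range a) = I := ha
  subst ha'
  have := DC.isIso_cokernel_desc_of_isQuot a p hp
  have hS : P (⨁ fun _ : Fin r => B) :=
    P.prop_of_iso (biproduct.isoProduct _).symm (P.prop_product (fun _ => hB))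
  exact P.prop_of_iso (asIso (cokernel.desc (DC.gensA a B) p
    (DC.gensA_comp_of_killedBy a p hp.1))) (P.prop_cokernel _ hS hB)

/-- If an adic system maps by an isomorphism up to translation to a system with terms in a weak
Serre subcategory, its terms lie in the subcategory. -/
theorem prop_of_isAdic_of_isARIso (J : Ideal A) (hJ : J.FG) {X Y : PS C}
    (hX : ∀ n, P (X.obj (op n))) (hY : IsAdic J Y) (u : Y ⟶ X) (hu : IsARIso u) (n : ℕ) :
    P (Y.obj (op n)) := by
  obtain ⟨r₁, hr₁⟩ := (isARNull_iff _).1 hu.1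
  obtain ⟨r₂, hr₂⟩ := (isARNull_iff _).1 hu.2
  have hYs : IsStrict Y := isStrict_of_isAdic J (Or.inl hJ) Y hY
  have himg : ∀ m, P (imageSubobject (u.app (op m)) : C) := by
    intro m
    rw [← image_tr_eq_of_strict X Y u hYs r₂ hr₂ r₂ le_rfl m]
    exact prop_imageSubobject P _ (hX _) (hX _)
  have hq : IsQuot (J ^ (n + 1)) (tr Y (Nat.le_add_right n r₁)) := hY.2 n (n + r₁) _
  have hker : kernel.ι (factorThruImageSubobject (u.app (op (n + r₁)))) ≫
      tr Y (Nat.le_add_right n r₁) = 0 := by
    have h1 : kernel.ι (factorThruImageSubobject (u.app (op (n + r₁)))) ≫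
        u.app (op (n + r₁)) = 0 := by
      calc kernel.ι (factorThruImageSubobject (u.app (op (n + r₁)))) ≫ u.app (op (n + r₁))
          = kernel.ι (factorThruImageSubobject (u.app (op (n + r₁)))) ≫
              (factorThruImageSubobject (u.app (op (n + r₁))) ≫
                (imageSubobject (u.app (op (n + r₁)))).arrow) := by
            rw [imageSubobject_arrow_comp]
        _ = 0 := by rw [← Category.assoc, kernel.condition, Limits.zero_comp]
    let S₁ := ShortComplex.mk (kernel.ι u) u (kernel.condition u)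
    have hS₁ : S₁.Exact := ShortComplex.exact_of_f_is_kernel _ (kernelIsKernel u)
    have hSN : (S₁.map ((evaluation ℕᵒᵖ C).obj (op (n + r₁)))).Exact := hS₁.map _
    obtain ⟨T', π, hπ, κ, hκ'⟩ : ∃ (T' : C)
        (π : T' ⟶ kernel (factorThruImageSubobject (u.app (op (n + r₁))))) (_ : Epi π)
        (κ : T' ⟶ (kernel u).obj (op (n + r₁))),
        π ≫ kernel.ι (factorThruImageSubobject (u.app (op (n + r₁)))) =
          κ ≫ (kernel.ι u).app (op (n + r₁)) := hSN.exact_up_to_refinements _ h1
    rw [← cancel_epi π, Limits.comp_zero, ← Category.assoc, hκ', Category.assoc,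
      ← tr_naturality (kernel.ι u) (Nat.le_add_right n r₁), hr₁ n, Limits.zero_comp,
      Limits.comp_zero]
  have hq' : IsQuot (J ^ (n + 1))
      (Abelian.epiDesc (factorThruImageSubobject (u.app (op (n + r₁)))) _ hker) := by
    apply isQuot_of_epi_comp _ (factorThruImageSubobject (u.app (op (n + r₁))))
    rw [Abelian.comp_epiDesc]
    exact hq
  exact prop_of_isQuot P _ (Ideal.FG.pow hJ) _ hq' (himg _)

end PP

end Groth.Agent.Lib.Helper4.AR
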