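import Mathlib
import Groth.Agent.Lib.Helper4.AR1
import Groth.Agent.Lib.Helper4.MT4
import Groth.Agent.Lib.Helper22.EtStalk.Pull
import Groth.Agent.Lib.Helper22.EtStalk.Conservative

/-!
# AR-adic systems of constructible sheaves: descent along finite families of morphisms through
which every geometric point factors (helper4)
-/

set_option linter.style.haveILetI false
set_option linter.unusedSectionVars false
set_option autoImplicit false
open CategoryTheory CategoryTheory.Limits AlgebraicGeometry Opposite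
universe u

namespace Groth.Agent.Lib.Helper4.AR

open Groth.Agent.Lib.Helper4.MT Groth.Agent.Lib.Helper22.EtStalk

variable (Λ : Type (u + 1)) [CommRing Λ]

/-- Pullback of sheaves of modules commutes with passing to underlying abelian sheaves. -/
noncomputable def pullΦIso {X Y : Scheme.{u}} (f : X ⟶ Y) :
    EtModW.pull Λ f ⋙ Φ X.smallEtaleTopology ≅
      Φ (Λ := Λ) Y.smallEtaleTopology ⋙ EtCoh.pull f :=
  pullCompIso Y.smallEtaleTopology X.smallEtaleTopology (adjUH Λ) (EtCoh.bc f)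

theorem isZero_of_isZero_Φ {X : Scheme.{u}} (M : EtModW.Mod Λ X)
    (h : IsZero ((Φ X.smallEtaleTopology).obj M)) : IsZero M := by
  rw [IsZero.iff_id_eq_zero] at h ⊢
  apply (Φ (Λ := Λ) X.smallEtaleTopology).map_injective
  rw [CategoryTheory.Functor.map_id, h, Functor.map_zero]

/-- A sheaf of modules whose pullbacks along a family of morphisms through which every geometric
point factors all vanish is zero. -/
theorem isZero_of_forall_pull {X : Scheme.{u}} {ι : Type} (T : ι → Scheme.{u})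
    (g : ∀ i, T i ⟶ X)
    (hg : ∀ (Ω : Type u) [Field Ω] [IsSepClosed Ω] (ξ : Spec (CommRingCat.of Ω) ⟶ X),
      ∃ (i : ι) (ζ : Spec (CommRingCat.of Ω) ⟶ T i), ζ ≫ g i = ξ)
    (M : EtModW.Mod Λ X) (h : ∀ i, IsZero ((EtModW.pull Λ (g i)).obj M)) : IsZero M := by
  apply isZero_of_isZero_Φ
  apply isZero_of_stalks
  intro Ω _ _ ξ
  obtain ⟨i, ζ, rfl⟩ := hg Ω ξ
  have e1 := (stalkPullIso (g i) ζ).app ((Φ X.smallEtaleTopology).obj M)
  have e2 := (EtCoh.stalk ζ).mapIso ((pullΦIso Λ (g i)).app M)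
  have hz : IsZero ((Φ (T i).smallEtaleTopology).obj ((EtModW.pull Λ (g i)).obj M)) :=
    Functor.map_isZero _ (h i)
  exact ((Functor.map_isZero (EtCoh.stalk ζ) hz).of_iso e2.symm).of_iso e1.symm

/-- Descent of the AR-adic property (with constructible adic model) along a finite family of
morphisms through which every geometric point factors. -/
theorem arc_iff_of_geomCover [IsNoetherianRing Λ] (I : Ideal Λ) {X : Scheme.{u}} {ι : Type}
    [Finite ι] (T : ι → Scheme.{u}) (g : ∀ i, T i ⟶ X)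
    (hg : ∀ (Ω : Type u) [Field Ω] [IsSepClosed Ω] (ξ : Spec (CommRingCat.of Ω) ⟶ X),
      ∃ (i : ι) (ζ : Spec (CommRingCat.of Ω) ⟶ T i), ζ ≫ g i = ξ)
    (F : ARSys.PS (EtModW.Mod Λ X)) (hc : ∀ n : ℕ, EtModW.IsConstructible Λ (F.obj (op n)))
    (hk : ARSys.TermKilled I F) :
    (ARSys.TermKilled I F ∧ ∃ (Y : ARSys.PS (EtModW.Mod Λ X)) (v : Y ⟶ F), ARSys.IsAdic I Y ∧
      (∀ n : ℕ, EtModW.IsConstructible Λ (Y.obj (op n))) ∧ ARSys.IsARIso v) ↔
    ∀ i : ι, (ARSys.TermKilled I (F ⋙ EtModW.pull Λ (g i)) ∧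
      ∃ (Y : ARSys.PS (EtModW.Mod Λ (T i))) (v : Y ⟶ (F ⋙ EtModW.pull Λ (g i))),
        ARSys.IsAdic I Y ∧ (∀ n : ℕ, EtModW.IsConstructible Λ (Y.obj (op n))) ∧
          ARSys.IsARIso v) := by
  have hLin : ∀ i (a : Λ) {A B : EtModW.Mod Λ X} (ψ : A ⟶ B),
      (EtModW.pull Λ (g i)).map (a • ψ) = a • (EtModW.pull Λ (g i)).map ψ :=
    fun i a _ _ ψ => CM.pullM_map_smul Λ (g i) a ψ
  have hR : ∀ i (a : Λ) {A B : EtModW.Mod Λ (T i)} (ψ : A ⟶ B),
      (EtModW.push Λ (g i)).map (a • ψ) = a • (EtModW.push Λ (g i)).map ψ :=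
    fun _ _ _ _ _ => rfl
  have hQ : ∀ i (I' : Ideal Λ) {B Q : EtModW.Mod Λ X} (p : B ⟶ Q),
      ARSys.IsQuot I' p → ARSys.IsQuot I' ((EtModW.pull Λ (g i)).map p) :=
    fun i I' _ _ p hp =>
      DC.isQuot_map_of_adjunction (CM.pullPushAdjM Λ (g i)) (hLin i) (hR i) I' p hp
  constructor
  · rintro ⟨-, Y, v, hY, hYc, hv⟩ i
    refine ⟨fun n => CM.killedBy_map_of_linear _ (hLin i) _ (hk n),
      Y ⋙ EtModW.pull Λ (g i), Functor.whiskerRight v _, ⟨fun n => ?_, fun n m h => ?_⟩,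
      fun n => ?_, ?_⟩
    · exact CM.killedBy_map_of_linear _ (hLin i) _ (hY.1 n)
    · exact hQ i _ _ (hY.2 n m h)
    · exact CM.isConstructible_pullM Λ (g i) _ (hYc n)
    · exact CM.isARIso_whiskerRight _ v hv
  · intro h
    have hJ : I.FG := IsNoetherian.noetherian I
    have hAR : ARSys.IsARAdic I F := by
      apply isARAdic_of_forall_comp (fun i => EtModW.pull Λ (g i))
        (isZero_of_forall_pull Λ T g hg) hLin hQ I hJ F hk
      intro i
      obtain ⟨hki, Y, v, hY, -, hv⟩ := h i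
      exact ⟨hki, Y, v, hY, hv⟩
    obtain ⟨-, Y, v, hY, hv⟩ := hAR
    exact ⟨hk, Y, v, hY, fun n => prop_of_isAdic_of_isARIso
      (fun E : EtModW.Mod Λ X => EtModW.IsConstructible Λ E) I hJ hc hY v hv n, hv⟩

end Groth.Agent.Lib.Helper4.AR
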