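import Mathlib
import Groth.Agent.Lib.Helper4.AR1

/-!
# Exact linear functors preserve quotient maps modulo finitely generated ideals (helper4)
-/

set_option linter.style.haveILetI false
set_option linter.unusedSectionVars false
set_option autoImplicit false
open CategoryTheory CategoryTheory.Limits Opposite
universe w v v' u u'

namespace Groth.Agent.Lib.Helper4.AR

open ARSys Groth.Agent.Lib27.ARSys Groth.Agent.Lib.Helper4

variable {C : Type u} [Category.{v} C] [Abelian C] {D : Type u'} [Category.{v'} D] [Abelian D]
  {A : Type w} [CommRing A] [Linear A C] [Linear A D]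
  (L : C ⥤ D) [L.Additive] [PreservesFiniteColimits L]
  (hL : ∀ (a : A) {X Y : C} (ψ : X ⟶ Y), L.map (a • ψ) = a • L.map ψ)

include hL in
/-- A right exact linear functor preserves quotient maps modulo a finitely generated ideal. -/
theorem isQuot_map_of_rightExact (I : Ideal A) (hI : I.FG) {B Q : C} (p : B ⟶ Q)
    (hp : IsQuot I p) : IsQuot I (L.map p) := by
  haveI : HasFiniteBiproducts C := Abelian.hasFiniteBiproducts
  obtain ⟨r, a, ha⟩ := Submodule.fg_iff_exists_fin_generating_family.1 hI
  have ha' : Ideal.span (Set.range a) = I := ha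
  subst ha'
  haveI := DC.isIso_cokernel_desc_of_isQuot a p hp
  have hc : IsColimit (CokernelCofork.ofπ p (DC.gensA_comp_of_killedBy a p hp.1)) :=
    IsColimit.ofIsoColimit (cokernelIsCokernel (DC.gensA a B))
      (Cofork.ext (asIso (cokernel.desc (DC.gensA a B) p (DC.gensA_comp_of_killedBy a p hp.1)))
        (by simp))
  have hc' := CokernelCofork.mapIsColimit _ hc L
  haveI : Epi (L.map p) := epi_of_isColimit_cofork hc'
  refine ⟨CM.killedBy_map_of_linear L hL _ hp.1, fun W φ hφ => ?_⟩
  have h0 : L.map (DC.gensA a B) ≫ φ = 0 := by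
    have htot : L.map (DC.gensA a B) =
        ∑ k, L.map (biproduct.π (fun _ : Fin r => B) k) ≫ (a k • 𝟙 (L.obj B)) := by
      conv_lhs => rw [← Category.id_comp (DC.gensA a B), ← biproduct.total,
        Preadditive.sum_comp, Functor.map_sum]
      refine Finset.sum_congr rfl fun k _ => ?_
      rw [Category.assoc, biproduct.ι_desc, Functor.map_comp, hL,
        CategoryTheory.Functor.map_id]
    rw [htot, Preadditive.sum_comp]
    refine Finset.sum_eq_zero fun k _ => ?_
    rw [Category.assoc, Linear.smul_comp, Category.id_comp,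
      hφ (a k) (Ideal.subset_span ⟨k, rfl⟩), Limits.comp_zero]
  refine ⟨hc'.desc (CokernelCofork.ofπ φ h0), hc'.fac _ WalkingParallelPair.one,
    fun ψ hψ => ?_⟩
  rw [← cancel_epi (L.map p)]
  exact hψ.trans (hc'.fac (CokernelCofork.ofπ φ h0) WalkingParallelPair.one).symm

end Groth.Agent.Lib.Helper4.AR
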