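import Mathlib
import Groth.Agent.Lib27.ARNoethCat
import Groth.Agent.Lib27.ARAbel

/-!
# Increasing sequences of Mittag-Leffler subsystems of an adic Noetherian system (helper4)
-/

set_option linter.style.haveILetI false
set_option linter.unusedSectionVars false
set_option autoImplicit false
open CategoryTheory CategoryTheory.Limits Opposite
universe w v u

namespace Groth.Agent.Lib.Helper4.AR

open _root_.ARSys Groth.Agent.Lib27.ARSys

variable {C : Type u} [Category.{v} C] [Abelian C] {A : Type w} [CommRing A] [Linear A C]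

lemma mk_le_mk_of_refine {A' B X : C} (a : A' ⟶ X) (b : B ⟶ X) [Mono a] [Mono b]
    (h : ∃ (T : C) (π : T ⟶ A') (_ : Epi π) (c : T ⟶ B), π ≫ a = c ≫ b) :
    Subobject.mk a ≤ Subobject.mk b := by
  obtain ⟨T, π, hπ, c, hc⟩ := h
  have h0 : a ≫ cokernel.π b = 0 := by
    rw [← cancel_epi π, ← Category.assoc, hc, Category.assoc, cokernel.condition, comp_zero,
      comp_zero]
  exact Subobject.mk_le_mk_of_comm (Abelian.monoLift b a h0) (Abelian.monoLift_comp b a h0)

lemma isARIso_of_isIso {X Y : PS C} (f : X ⟶ Y) [IsIso f] : IsARIso f :=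
  isARIso_of_mono f (isARNull_of_isZero _ (isZero_cokernel_of_epi f))

/-- An increasing sequence of Mittag-Leffler (up to translation) subsystems of an adic system
with Noetherian components is stationary up to translation. -/
theorem subobject_chain_isARIso [IsNoetherianRing A] (J : Ideal A) (X : PS C)
    (hX : IsAdicNoeth J X) (Z : ℕ →o Subobject X)
    (hZ : ∀ k : ℕ, IsMLAR (Subobject.underlying.obj (Z k) : PS C)) :
    ∃ k₀ : ℕ, ∀ k : ℕ, k₀ ≤ k →
      IsARIso (Subobject.ofLE (Z k) (Z (k + 1)) (Z.monotone (Nat.le_succ k))) := by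
  choose r hr using fun k => (isMLAR_iff _).1 (hZ k)
  choose Y u hu hstrict hAR using fun k =>
    mlar_forward' (Subobject.underlying.obj (Z k) : PS C) (r k) (hr k)
  haveI : ∀ k, Mono (u k) := fun k => (hu k).1
  have himg := fun k => (hu k).2
  let m : ∀ k, Y k ⟶ X := fun k => u k ≫ (Z k).arrow
  haveI : ∀ k, Mono (m k) := fun k => mono_comp _ _
  -- monotonicity
  have hmono : ∀ k, Subobject.mk (m k) ≤ Subobject.mk (m (k + 1)) := by
    intro k
    apply le_of_evS_le
    intro n
    let s := max (r k) (r (k + 1))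
    have hs1 : r k ≤ s := le_max_left _ _
    have hs2 : r (k + 1) ≤ s := le_max_right _ _
    let ι := Subobject.ofLE (Z k) (Z (k + 1)) (Z.monotone (Nat.le_succ k))
    have hι : ι ≫ (Z (k + 1)).arrow = (Z k).arrow := Subobject.ofLE_arrow _
    have e1 : imageSubobject ((u k).app (op n)) ≤
        imageSubobject (tr (Subobject.underlying.obj (Z k) : PS C) (Nat.le_add_right n s)) := by
      rw [himg k n, hr k s hs1 n]
    have e2 : imageSubobject (tr (Subobject.underlying.obj (Z (k + 1)) : PS C)
        (Nat.le_add_right n s)) ≤ imageSubobject ((u (k + 1)).app (op n)) := by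
      rw [himg (k + 1) n, hr (k + 1) s hs2 n]
    obtain ⟨T₁, π₁, hπ₁, b₁, hb₁⟩ := (imageSubobject_le_iff _ _).1 e1
    obtain ⟨T', π', hπ', b', hb'⟩ := lift_of_imageSubobject_le _ _ e2 (b₁ ≫ ι.app (op (n + s)))
    let ek := Subobject.underlyingIso (m k)
    let ek' := Subobject.underlyingIso (m (k + 1))
    have hek : (Subobject.mk (m k)).arrow = ek.hom ≫ m k :=
      (Subobject.underlyingIso_hom_comp_eq_mk (m k)).symm
    have hek' : (Subobject.mk (m (k + 1))).arrow = ek'.hom ≫ m (k + 1) :=
      (Subobject.underlyingIso_hom_comp_eq_mk (m (k + 1))).symm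
    haveI : Mono ((Subobject.mk (m k)).arrow.app (op n)) := inferInstance
    haveI : Mono ((Subobject.mk (m (k + 1))).arrow.app (op n)) := inferInstance
    apply mk_le_mk_of_refine
    refine ⟨T', π' ≫ π₁ ≫ ek.inv.app (op n), ?_, b' ≫ ek'.inv.app (op n), ?_⟩
    · haveI : Epi (ek.inv.app (op n)) := inferInstance
      haveI : Epi (π₁ ≫ ek.inv.app (op n)) := epi_comp _ _
      exact epi_comp _ _
    · have hk1 : ek.inv.app (op n) ≫ (Subobject.mk (m k)).arrow.app (op n) =
          (u k).app (op n) ≫ (Z k).arrow.app (op n) := by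
        rw [hek, NatTrans.comp_app, ← Category.assoc, ← NatTrans.comp_app, ek.inv_hom_id,
          NatTrans.id_app, Category.id_comp, NatTrans.comp_app]
      have hk2 : ek'.inv.app (op n) ≫ (Subobject.mk (m (k + 1))).arrow.app (op n) =
          (u (k + 1)).app (op n) ≫ (Z (k + 1)).arrow.app (op n) := by
        rw [hek', NatTrans.comp_app, ← Category.assoc, ← NatTrans.comp_app, ek'.inv_hom_id,
          NatTrans.id_app, Category.id_comp, NatTrans.comp_app]
      have hι' : ι.app (op (n + s)) ≫ (Z (k + 1)).arrow.app (op (n + s)) =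
          (Z k).arrow.app (op (n + s)) := by
        rw [← NatTrans.comp_app, hι]
      calc (π' ≫ π₁ ≫ ek.inv.app (op n)) ≫ (Subobject.mk (m k)).arrow.app (op n)
          = π' ≫ (π₁ ≫ (u k).app (op n)) ≫ (Z k).arrow.app (op n) := by
            simp only [Category.assoc, hk1]
        _ = π' ≫ b₁ ≫ tr (Subobject.underlying.obj (Z k) : PS C) (Nat.le_add_right n s) ≫
              (Z k).arrow.app (op n) := by
            rw [hb₁, Category.assoc]
        _ = π' ≫ b₁ ≫ (Z k).arrow.app (op (n + s)) ≫ tr X (Nat.le_add_right n s) := by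
            rw [tr_naturality]
        _ = π' ≫ b₁ ≫ ι.app (op (n + s)) ≫ (Z (k + 1)).arrow.app (op (n + s)) ≫
              tr X (Nat.le_add_right n s) := by
            rw [← hι', Category.assoc]
        _ = (π' ≫ (b₁ ≫ ι.app (op (n + s))) ≫
              tr (Subobject.underlying.obj (Z (k + 1)) : PS C) (Nat.le_add_right n s)) ≫
              (Z (k + 1)).arrow.app (op n) := by
            simp only [Category.assoc, tr_naturality]
        _ = (b' ≫ ek'.inv.app (op n)) ≫ (Subobject.mk (m (k + 1))).arrow.app (op n) := by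
            rw [hb']
            simp only [Category.assoc, hk2]
  let W : ℕ →o Subobject X := ⟨fun k => Subobject.mk (m k), monotone_nat_of_le_succ hmono⟩
  have hWs : ∀ k, IsStrict (Subobject.underlying.obj (W k) : PS C) := by
    intro k
    haveI : Epi (Subobject.underlyingIso (m k)).inv := inferInstance
    exact isStrict_of_epi (Subobject.underlyingIso (m k)).inv (hstrict k)
  obtain ⟨k₀, hk₀⟩ := strict_subobject_chain_stabilizes J X hX W hWs
  refine ⟨k₀, fun k hk => ?_⟩
  have hWeq : Subobject.mk (m k) = Subobject.mk (m (k + 1)) :=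
    (hk₀ k hk).trans (hk₀ (k + 1) (by omega)).symm
  let θ : Y k ⟶ Y (k + 1) := Subobject.ofMkLEMk (m k) (m (k + 1)) hWeq.le
  let θ' : Y (k + 1) ⟶ Y k := Subobject.ofMkLEMk (m (k + 1)) (m k) hWeq.ge
  have hθ : θ ≫ m (k + 1) = m k := Subobject.ofMkLEMk_comp hWeq.le
  have hθ' : θ' ≫ m k = m (k + 1) := Subobject.ofMkLEMk_comp hWeq.ge
  haveI : IsIso θ := by
    refine ⟨θ', ?_, ?_⟩
    · rw [← cancel_mono (m k), Category.assoc, hθ', hθ, Category.id_comp]
    · rw [← cancel_mono (m (k + 1)), Category.assoc, hθ, hθ', Category.id_comp]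
  have hcomm : u k ≫ Subobject.ofLE (Z k) (Z (k + 1)) (Z.monotone (Nat.le_succ k)) =
      θ ≫ u (k + 1) := by
    rw [← cancel_mono (Z (k + 1)).arrow, Category.assoc, Category.assoc, Subobject.ofLE_arrow]
    exact hθ.symm
  refine isARIso_of_precomp (u k) _ (hAR k) ?_
  rw [hcomm]
  exact isARIso_comp _ _ (isARIso_of_isIso θ) (hAR (k + 1))

end Groth.Agent.Lib.Helper4.AR
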