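import Groth.Statements.S7296
import Mathlib

set_option linter.style.haveILetI false
set_option linter.unusedSectionVars false
set_option autoImplicit false
open CategoryTheory CategoryTheory.Limits AlgebraicGeometry Opposite
universe u v v' u' u''

namespace Groth.Agent.Lib.Helper4.BigSmall

section abstract

variable {C : Type u'} [Category.{v} C] [Abelian C] [HasInjectiveResolutions C]
  {D : Type u''} [Category.{v'} D] [Abelian D]

/-- Higher right derived functors of an exact functor vanish. -/
theorem isZero_rightDerived_succ_of_preservesHomology (G : C ⥤ D) [G.Additive]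
    [G.PreservesHomology] (n : ℕ) (A : C) :
    IsZero ((G.rightDerived (n + 1)).obj A) := by
  let I : InjectiveResolution A := Classical.choice (HasInjectiveResolution.out)
  refine IsZero.of_iso ?_ (I.isoRightDerivedObj G (n + 1))
  have h : (I.cocomplex.sc (n + 1)).Exact := I.cocomplex_exactAt_succ n
  have h' := h.map G
  exact (ShortComplex.exact_iff_isZero_homology _).1 h'

end abstract

variable (S : Scheme.{u})

instance isCocontinuous_forget :
    (Scheme.ProEt.forget S).IsCocontinuous (Scheme.ProEt.topology S)
      (Scheme.proetaleTopology.over S) := by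
  have h : Scheme.ProEt.topology S =
      (Scheme.ProEt.forget S).restrictedTopology (Scheme.proetaleTopology.over S) :=
    MorphismProperty.toGrothendieck_comap_forget_eq_restrictedTopology _
      Scheme.proetalePrecoverage_le_precoverage_weaklyEtale
  rw [h]
  infer_instance

instance hasLimitsOfSize_ab : HasLimitsOfSize.{u, u + 1} AddCommGrpCat.{u + 1} :=
  hasLimitsOfSizeShrink.{u, u + 1, u + 1, u + 1} _

instance hasPointwiseRan (F : (S.ProEt)ᵒᵖ ⥤ AddCommGrpCat.{u + 1}) :
    (Scheme.ProEt.forget S).op.HasPointwiseRightKanExtension F := by
  intro Y
  dsimp [Functor.HasPointwiseRightKanExtensionAt]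
  infer_instance

end Groth.Agent.Lib.Helper4.BigSmall
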