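import Groth.Agent.Lib.Helper4.BigSmall1

set_option linter.style.haveILetI false
set_option linter.unusedSectionVars false
set_option autoImplicit false
open CategoryTheory CategoryTheory.Limits AlgebraicGeometry Opposite
universe u

namespace Groth.Agent.Lib.Helper4.BigSmall

variable (S : Scheme.{u})

instance isIso_counit_cocont :
    IsIso ((Scheme.ProEt.forget S).sheafAdjunctionCocontinuous AddCommGrpCat.{u + 1}
      (Scheme.ProEt.topology S) (Scheme.proetaleTopology.over S)).counit := by
  refine @NatIso.isIso_of_isIso_app _ _ _ _ _ _ _ (fun F => ?_)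
  haveI : IsIso ((sheafToPresheaf (Scheme.ProEt.topology S) AddCommGrpCat.{u + 1}).map
      (((Scheme.ProEt.forget S).sheafAdjunctionCocontinuous AddCommGrpCat.{u + 1}
      (Scheme.ProEt.topology S) (Scheme.proetaleTopology.over S)).counit.app F)) := by
    change IsIso (((Scheme.ProEt.forget S).sheafAdjunctionCocontinuous AddCommGrpCat.{u + 1}
      (Scheme.ProEt.topology S) (Scheme.proetaleTopology.over S)).counit.app F).hom
    rw [Functor.sheafAdjunctionCocontinuous_counit_app_hom]
    exact inferInstanceAs (IsIso (((Scheme.ProEt.forget S).op.ranAdjunction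
      AddCommGrpCat.{u + 1}).counit.app F.obj))
  exact isIso_of_reflects_iso _ (sheafToPresheaf (Scheme.ProEt.topology S) AddCommGrpCat.{u + 1})

instance isIso_unit_cont :
    IsIso ((Scheme.ProEt.forget S).sheafAdjunctionContinuous AddCommGrpCat.{u + 1}
      (Scheme.ProEt.topology S) (Scheme.proetaleTopology.over S)).unit := by
  let t : Adjunction.Triple _ _ _ :=
    ⟨(Scheme.ProEt.forget S).sheafAdjunctionContinuous AddCommGrpCat.{u + 1}
      (Scheme.ProEt.topology S) (Scheme.proetaleTopology.over S),
     (Scheme.ProEt.forget S).sheafAdjunctionCocontinuous AddCommGrpCat.{u + 1}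
      (Scheme.ProEt.topology S) (Scheme.proetaleTopology.over S)⟩
  exact t.isIso_unit_iff_isIso_counit.2 (isIso_counit_cocont S)

instance preservesLimits_restrict :
    PreservesLimits ((Scheme.ProEt.forget S).sheafPushforwardContinuous AddCommGrpCat.{u + 1}
      (Scheme.ProEt.topology S) (Scheme.proetaleTopology.over S)) :=
  ((Scheme.ProEt.forget S).sheafAdjunctionContinuous AddCommGrpCat.{u + 1}
      (Scheme.ProEt.topology S) (Scheme.proetaleTopology.over S)).rightAdjoint_preservesLimits

instance preservesColimits_restrict :
    PreservesColimits ((Scheme.ProEt.forget S).sheafPushforwardContinuous AddCommGrpCat.{u + 1}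
      (Scheme.ProEt.topology S) (Scheme.proetaleTopology.over S)) :=
  ((Scheme.ProEt.forget S).sheafAdjunctionCocontinuous AddCommGrpCat.{u + 1}
      (Scheme.ProEt.topology S) (Scheme.proetaleTopology.over S)).leftAdjoint_preservesColimits

end Groth.Agent.Lib.Helper4.BigSmall
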