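import Groth.Agent.Lib.Helper4.BigSmall2
import Groth.Agent.Lib.Helper2.OverMapLan
import Groth.Agent.Lib.Helper10.LanFlat

set_option linter.style.haveILetI false
set_option linter.unusedSectionVars false
set_option autoImplicit false
open CategoryTheory CategoryTheory.Limits AlgebraicGeometry Opposite
universe u

namespace Groth.Agent.Lib.Helper4.BigSmall

open Groth.Agent.Lib.Helper10.LanFlat

variable (S : Scheme.{u})

/-- `u_s` for the inclusion of the small pro-etale site into the big one is left exact. -/
theorem preservesFiniteLimits_sheafPullback_forget :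
    PreservesFiniteLimits ((Scheme.ProEt.forget S).sheafPullback AddCommGrpCat.{u + 1}
      (Scheme.ProEt.topology S) (Scheme.proetaleTopology.over S)) := by
  have h1 : ∀ V : (Over S)ᵒᵖ, HasColimitsOfShape (CostructuredArrow (Scheme.ProEt.forget S).op V)
      AddCommGrpCat.{u + 1} :=
    fun V => hasColimitsOfShape_costructuredArrow_addCommGrp.{u, u, u + 1, u + 1, u + 1}
      (Scheme.ProEt.forget S) V
  have h2 : PreservesFiniteLimits ((Scheme.ProEt.forget S).op.lan :
      ((S.ProEt)ᵒᵖ ⥤ AddCommGrpCat.{u + 1}) ⥤ ((Over S)ᵒᵖ ⥤ AddCommGrpCat.{u + 1})) :=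
    lan_preservesFiniteLimits_of_flat_addCommGrp.{u, u, u + 1, u + 1, u + 1}
      (Scheme.ProEt.forget S)
  exact Functor.sheafPullbackConstruction.preservesFiniteLimits (Scheme.ProEt.forget S)
    AddCommGrpCat.{u + 1} (Scheme.ProEt.topology S) (Scheme.proetaleTopology.over S)

/-- Restriction from the big to the small pro-etale site preserves injectives. -/
theorem injective_restrict (I : Sheaf (Scheme.proetaleTopology.over S) AddCommGrpCat.{u + 1})
    [Injective I] :
    Injective (((Scheme.ProEt.forget S).sheafPushforwardContinuous AddCommGrpCat.{u + 1}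
      (Scheme.ProEt.topology S) (Scheme.proetaleTopology.over S)).obj I) := by
  have := preservesFiniteLimits_sheafPullback_forget S
  exact Injective.injective_of_adjoint ((Scheme.ProEt.forget S).sheafAdjunctionContinuous
    AddCommGrpCat.{u + 1} (Scheme.ProEt.topology S) (Scheme.proetaleTopology.over S)) I

/-- Restriction along `Over.map f` between big pro-etale sites preserves injectives. -/
theorem injective_overMap {T S : Scheme.{u}} (f : T ⟶ S)
    (I : Sheaf (Scheme.proetaleTopology.over S) AddCommGrpCat.{u + 1}) [Injective I] :
    Injective (((Over.map f).sheafPushforwardContinuous AddCommGrpCat.{u + 1}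
      (Scheme.proetaleTopology.over T) (Scheme.proetaleTopology.over S)).obj I) := by
  have := Groth.Agent.Lib.Helper2.OverMapLan.sheafPullback_preservesMonomorphisms f
    (Scheme.proetaleTopology.over T) (Scheme.proetaleTopology.over S)
  exact Injective.injective_of_adjoint ((Over.map f).sheafAdjunctionContinuous
    AddCommGrpCat.{u + 1} (Scheme.proetaleTopology.over T) (Scheme.proetaleTopology.over S)) I

end Groth.Agent.Lib.Helper4.BigSmall
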