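import Mathlib
import Groth.Agent.Lib.Helper4.BrnchCompl

set_option autoImplicit false
set_option linter.unusedSectionVars false
universe u

namespace Groth.Agent.Lib.Helper4.BrnchCompl

open IsLocalRing

section Fiber

variable {S T : Type*} [CommRing S] [CommRing T] [Algebra S T] [Module.Flat S T]

theorem mem_minimalPrimes_map_iff {q : Ideal S} (hq : q ∈ minimalPrimes S) (P : Ideal T) :
    P ∈ (q.map (algebraMap S T)).minimalPrimes ↔
      P ∈ minimalPrimes T ∧ P.comap (algebraMap S T) = q := by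
  have hqp : q.IsPrime := hq.1.1
  constructor
  · intro hP
    have hPp : P.IsPrime := hP.1.1
    have hqP : q ≤ P.comap (algebraMap S T) := Ideal.map_le_iff_le_comap.mp hP.1.2
    have hlo : P.LiesOver (P.comap (algebraMap S T)) := ⟨rfl⟩
    obtain ⟨P', hP'P, hP'p, hP'l⟩ := Ideal.exists_ideal_le_liesOver_of_le (p := q)
      (q := P.comap (algebraMap S T)) P hqP
    have h1 : q.map (algebraMap S T) ≤ P' := by
      rw [Ideal.map_le_iff_le_comap, ← Ideal.under_def, ← hP'l.over]
    have h2 : P ≤ P' := hP.2 ⟨hP'p, h1⟩ hP'P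
    have h3 : P' = P := le_antisymm hP'P h2
    have hcomap : P.comap (algebraMap S T) = q := by
      rw [← h3]; exact hP'l.over.symm
    refine ⟨⟨⟨hPp, bot_le⟩, fun P'' hP'' hle => ?_⟩, hcomap⟩
    have hP''p : P''.IsPrime := hP''.1
    have h4 : P''.comap (algebraMap S T) ≤ q := by rw [← hcomap]; exact Ideal.comap_mono hle
    have h5 : q ≤ P''.comap (algebraMap S T) := hq.2 ⟨Ideal.comap_isPrime _ _, bot_le⟩ h4
    exact hP.2 ⟨hP''p, Ideal.map_le_iff_le_comap.mpr h5⟩ hle
  · rintro ⟨hP, hcomap⟩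
    have hPp : P.IsPrime := hP.1.1
    refine ⟨⟨hPp, ?_⟩, fun P' hP' hle => hP.2 ⟨hP'.1, bot_le⟩ hle⟩
    rw [Ideal.map_le_iff_le_comap, hcomap]

end Fiber

theorem card_eq_iff_radical_isPrime {S T : Type*} [CommRing S] [CommRing T] [Algebra S T]
    [Module.FaithfullyFlat S T] (hS : (minimalPrimes S).Finite) (hT : (minimalPrimes T).Finite) :
    ENat.card (minimalPrimes S) = ENat.card (minimalPrimes T) ↔
      ∀ q ∈ minimalPrimes S, (q.map (algebraMap S T)).radical.IsPrime := by
  classical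
  obtain ⟨h1, h2⟩ := Hzn.minimalPrimes_mapsTo_surjOn_of_faithfullyFlat S T
  let f : minimalPrimes T → minimalPrimes S := fun Q => ⟨Q.1.comap (algebraMap S T), h1 Q.2⟩
  have hf : Function.Surjective f := by
    rintro ⟨p, hp⟩
    obtain ⟨Q, hQ, hQp⟩ := h2 hp
    exact ⟨⟨Q, hQ⟩, Subtype.ext hQp⟩
  have hfinS : Finite (minimalPrimes S) := hS
  have hfinT : Finite (minimalPrimes T) := hT
  have hcard : ENat.card (minimalPrimes S) = ENat.card (minimalPrimes T) ↔
      Function.Injective f := by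
    have := Fintype.ofFinite (minimalPrimes S)
    have := Fintype.ofFinite (minimalPrimes T)
    rw [ENat.card_eq_coe_fintype_card, ENat.card_eq_coe_fintype_card, Nat.cast_inj]
    constructor
    · intro h
      exact ((Fintype.bijective_iff_surjective_and_card f).mpr ⟨hf, h.symm⟩).1
    · intro h
      exact (Fintype.card_of_bijective ⟨h, hf⟩).symm
  rw [hcard]
  constructor
  · intro hinj q hq
    obtain ⟨⟨P, hP⟩, hPq⟩ := hf ⟨q, hq⟩
    have hPq' : P.comap (algebraMap S T) = q := congrArg Subtype.val hPq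
    have hPp : P.IsPrime := hP.1.1
    have hmin : (q.map (algebraMap S T)).minimalPrimes = {P} := by
      ext P'
      rw [mem_minimalPrimes_map_iff hq, Set.mem_singleton_iff]
      constructor
      · rintro ⟨hP', hP'q⟩
        have := hinj (a₁ := ⟨P', hP'⟩) (a₂ := ⟨P, hP⟩) (Subtype.ext (hP'q.trans hPq'.symm))
        exact congrArg Subtype.val this
      · rintro rfl
        exact ⟨hP, hPq'⟩
    rw [← Ideal.sInf_minimalPrimes, hmin, sInf_singleton]
    exact hPp
  · intro hrad
    rintro ⟨P₁, hP₁⟩ ⟨P₂, hP₂⟩ h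
    have h' : P₁.comap (algebraMap S T) = P₂.comap (algebraMap S T) := congrArg Subtype.val h
    have hq : P₂.comap (algebraMap S T) ∈ minimalPrimes S := h1 hP₂
    have hp := hrad _ hq
    have m1 : P₁ ∈ ((P₂.comap (algebraMap S T)).map (algebraMap S T)).minimalPrimes :=
      (mem_minimalPrimes_map_iff hq P₁).mpr ⟨hP₁, h'⟩
    have m2 : P₂ ∈ ((P₂.comap (algebraMap S T)).map (algebraMap S T)).minimalPrimes :=
      (mem_minimalPrimes_map_iff hq P₂).mpr ⟨hP₂, rfl⟩
    rw [← Ideal.radical_minimalPrimes, Ideal.minimalPrimes_eq_subsingleton_self,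
      Set.mem_singleton_iff] at m1 m2
    exact Subtype.ext (m1.trans m2.symm)

end Groth.Agent.Lib.Helper4.BrnchCompl
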