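import Mathlib

/-!
# The group generated by two involutions
-/

set_option autoImplicit false

namespace Groth.Agent.Lib.Helper4.DihedralCard

variable {G : Type*} [Group G]

lemma inv_of_mul_self {a : G} (ha : a * a = 1) : a⁻¹ = a := by
  rw [inv_eq_iff_mul_eq_one]; exact ha

lemma conj_mul_eq_inv {a b : G} (ha : a * a = 1) (hb : b * b = 1) :
    a * (a * b) * a⁻¹ = (a * b)⁻¹ := by
  rw [inv_of_mul_self ha, mul_inv_rev, inv_of_mul_self ha, inv_of_mul_self hb, ← mul_assoc, ha,
    one_mul]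

lemma mul_zpow_eq {a b : G} (ha : a * a = 1) (hb : b * b = 1) (t : ℤ) :
    a * (a * b) ^ t = (a * b) ^ (-t) * a := by
  have h1 : a * (a * b) ^ t * a⁻¹ = ((a * b)⁻¹) ^ t := by
    rw [← conj_mul_eq_inv ha hb, conj_zpow]
  rw [zpow_neg, ← inv_zpow, ← h1]
  group

/-- every element of the group generated by two involutions `a`, `b` is `(ab)^t` or `(ab)^t a` -/
lemma mem_closure_pair {a b : G} (ha : a * a = 1) (hb : b * b = 1) {g : G}
    (hg : g ∈ Subgroup.closure ({a, b} : Set G)) :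
    (∃ t : ℤ, g = (a * b) ^ t) ∨ (∃ t : ℤ, g = (a * b) ^ t * a) := by
  have hA : ∀ y : G, ((∃ t : ℤ, y = (a * b) ^ t) ∨ (∃ t : ℤ, y = (a * b) ^ t * a)) →
      ((∃ t : ℤ, a * y = (a * b) ^ t) ∨ (∃ t : ℤ, a * y = (a * b) ^ t * a)) := by
    rintro y (⟨t, rfl⟩ | ⟨t, rfl⟩)
    · exact Or.inr ⟨-t, mul_zpow_eq ha hb t⟩
    · refine Or.inl ⟨-t, ?_⟩
      rw [← mul_assoc, mul_zpow_eq ha hb t, mul_assoc, ha, mul_one]
  have hR : ∀ y : G, ((∃ t : ℤ, y = (a * b) ^ t) ∨ (∃ t : ℤ, y = (a * b) ^ t * a)) →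
      ((∃ t : ℤ, (a * b) * y = (a * b) ^ t) ∨ (∃ t : ℤ, (a * b) * y = (a * b) ^ t * a)) := by
    rintro y (⟨t, rfl⟩ | ⟨t, rfl⟩)
    · exact Or.inl ⟨1 + t, (zpow_one_add _ _).symm⟩
    · refine Or.inr ⟨1 + t, ?_⟩
      rw [← mul_assoc, ← zpow_one_add]
  have hB : ∀ y : G, ((∃ t : ℤ, y = (a * b) ^ t) ∨ (∃ t : ℤ, y = (a * b) ^ t * a)) →
      ((∃ t : ℤ, b * y = (a * b) ^ t) ∨ (∃ t : ℤ, b * y = (a * b) ^ t * a)) := by
    intro y hy
    have : b * y = a * ((a * b) * y) := by
      rw [← mul_assoc, ← mul_assoc, ha, one_mul]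
    rw [this]
    exact hA _ (hR _ hy)
  induction hg using Subgroup.closure_induction_left with
  | one => exact Or.inl ⟨0, by simp⟩
  | mul_left x hx y _ ih =>
    rcases hx with rfl | rfl
    · exact hA y ih
    · exact hB y ih
  | inv_mul_cancel x hx y _ ih =>
    rcases hx with rfl | rfl
    · rw [inv_of_mul_self ha]; exact hA y ih
    · rw [inv_of_mul_self hb]; exact hB y ih

lemma not_mem_zpowers {a b : G} (ha : a * a = 1) (hb : b * b = 1) (ha1 : a ≠ 1) (hb1 : b ≠ 1) :
    a ∉ Subgroup.zpowers (a * b) := by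
  rintro ⟨t, ht⟩
  have ht' : (a * b) ^ t = a := ht
  have hcomm : a * (a * b) = (a * b) * a := by
    have := ((Commute.refl (a * b)).zpow_left t).eq
    rw [ht'] at this
    exact this
  have h2 : (a * b) * (a * b) = 1 := by
    calc (a * b) * (a * b) = ((a * b) * a) * b := by group
      _ = (a * (a * b)) * b := by rw [hcomm]
      _ = (a * a) * (b * b) := by group
      _ = 1 := by rw [ha, hb, one_mul]
  rcases Int.even_or_odd' t with ⟨s, rfl | rfl⟩
  · rw [zpow_mul, zpow_two, h2, one_zpow] at ht'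
    exact ha1 ht'.symm
  · rw [zpow_add, zpow_mul, zpow_two, h2, one_zpow, one_mul, zpow_one] at ht'
    exact hb1 (mul_left_cancel (ht'.trans (mul_one a).symm))

/-- the group generated by two involutions `a`, `b` has `2 · ord(ab)` elements -/
theorem card_closure_pair {a b : G} (ha : a * a = 1) (hb : b * b = 1) (ha1 : a ≠ 1) (hb1 : b ≠ 1)
    (hn : 0 < orderOf (a * b)) :
    Nat.card (Subgroup.closure ({a, b} : Set G)) = 2 * orderOf (a * b) := by
  have hset : (Subgroup.closure ({a, b} : Set G) : Set G) =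
      (Subgroup.zpowers (a * b) : Set G) ∪ (fun x => x * a) '' (Subgroup.zpowers (a * b) : Set G) := by
    ext g
    constructor
    · intro hg
      rcases mem_closure_pair ha hb hg with ⟨t, rfl⟩ | ⟨t, rfl⟩
      · exact Or.inl ⟨t, rfl⟩
      · exact Or.inr ⟨_, ⟨t, rfl⟩, rfl⟩
    · have ha' : a ∈ Subgroup.closure ({a, b} : Set G) := Subgroup.subset_closure (by simp)
      have hb' : b ∈ Subgroup.closure ({a, b} : Set G) := Subgroup.subset_closure (by simp)
      have hr : a * b ∈ Subgroup.closure ({a, b} : Set G) := mul_mem ha' hb'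
      rintro (⟨t, rfl⟩ | ⟨_, ⟨t, rfl⟩, rfl⟩)
      · exact zpow_mem hr t
      · exact mul_mem (zpow_mem hr t) ha'
  have hfin : (Subgroup.zpowers (a * b) : Set G).Finite := (orderOf_pos_iff.mp hn).finite_zpowers
  have hdisj : Disjoint (Subgroup.zpowers (a * b) : Set G)
      ((fun x => x * a) '' (Subgroup.zpowers (a * b) : Set G)) := by
    rw [Set.disjoint_left]
    rintro g hg ⟨c, hc, rfl⟩
    apply not_mem_zpowers ha hb ha1 hb1
    have key : c⁻¹ * (c * a) ∈ Subgroup.zpowers (a * b) := mul_mem (inv_mem hc) hg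
    rwa [inv_mul_cancel_left] at key
  have hcard : Nat.card (Subgroup.closure ({a, b} : Set G)) =
      (Subgroup.closure ({a, b} : Set G) : Set G).ncard := rfl
  rw [hcard, hset, Set.ncard_union_eq hdisj hfin (hfin.image _),
    Set.ncard_image_of_injective _ (mul_left_injective a)]
  have : (Subgroup.zpowers (a * b) : Set G).ncard = orderOf (a * b) := by
    rw [← Nat.card_zpowers]
    rfl
  rw [this]
  ring

end Groth.Agent.Lib.Helper4.DihedralCard
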