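import Mathlib
import Groth.Prelude.Def_W4sga3xxiRoot

/-!
# Positive systems and simple systems of a root datum (SGA3 XXI, §3)

Core theory for `Groth.Prelude.Def_W4sga3xxiRoot`: the indecomposable elements of a system of
positive roots form a system of simple roots.
-/

set_option autoImplicit false

open Module Set Submodule

namespace Groth.Agent.Lib.Helper4.RootDLib

open RootD

/-- Vectors which subtend obtuse angles with each other and generate a pointed cone are linearly
independent (variant of `LinearMap.BilinForm.linearIndependent_of_pairwise_le_zero`). -/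
lemma linearIndependent_of_pairwise_le_zero_of_pointed {ι R M : Type*}
    [CommRing R] [LinearOrder R] [IsStrictOrderedRing R] [AddCommGroup M] [Module R M]
    (B : LinearMap.BilinForm R M) (hB : B.toQuadraticMap.PosDef) (v : ι → M)
    (hpt : ∀ (s : Finset ι) (c : ι → R), ∑ i ∈ s with 0 < c i, c i • v i = 0 → ∀ i ∈ s, c i ≤ 0)
    (hn : Pairwise fun i j ↦ B (v i) (v j) ≤ 0) :
    LinearIndependent R v := by
  refine linearIndependent_iff'.mpr fun s c hc ↦ ?_
  set x := ∑ i ∈ s with 0 < c i, c i • v i with hx
  set y := ∑ i ∈ s with 0 < -c i, (-c i) • v i with hy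
  replace hc : x = y := by
    classical
    simp_rw [hx, hy, neg_smul, Finset.sum_neg_distrib, ← add_eq_zero_iff_eq_neg]
    rw [← hc, ← Finset.sum_union, Finset.sum_subset]
    · grind only [= Finset.subset_iff, = Finset.mem_union, = Finset.mem_filter]
    · simp +contextual [eq_comm (a := (0 : R))]
    · grind only [Finset.disjoint_filter]
  have hx₀ : x = 0 := by
    suffices B x y ≤ 0 by simpa [hc, ← hB.le_zero_iff, B.toQuadraticMap_apply]
    suffices 0 ≤ ∑ x ∈ s with c x < 0, ∑ i ∈ s with 0 < c i, c x * (c i * (B (v i)) (v x)) by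
      simpa [hx, hy, map_neg, Finset.mul_sum]
    refine Finset.sum_nonneg fun i hi ↦ Finset.sum_nonneg fun j hj ↦ ?_
    grind [Pairwise, mul_nonneg_iff, mul_nonpos_iff]
  have H := hpt s
  replace hx (i : ι) (hi : i ∈ s) : c i ≤ 0 := H _ (by grind) i hi
  replace hy (i : ι) (hi : i ∈ s) : -c i ≤ 0 := H (-c ·) (by grind) i hi
  grind

variable {ι M N : Type*} [AddCommGroup M] [AddCommGroup N] (P : RootPairing ι ℤ M N)

lemma root_reflectionPerm_self (i : ι) : P.root (P.reflectionPerm i i) = -P.root i := by
  rw [RootPairing.root_reflectionPerm, RootPairing.reflection_apply_self]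

lemma reflectionPerm_self_self (i : ι) :
    P.reflectionPerm (P.reflectionPerm i i) (P.reflectionPerm i i) = i := by
  apply P.root.injective
  rw [root_reflectionPerm_self, root_reflectionPerm_self, neg_neg]

lemma smul_root_ne_zero (i : ι) (c : ℤ) (hc : c ≠ 0) : c • P.root i ≠ 0 := by
  intro h
  have h1 := congrArg (fun x => P.toLinearMap x (P.coroot i)) h
  simp only [map_smul, LinearMap.smul_apply, RootPairing.root_coroot_two, map_zero,
    LinearMap.zero_apply, smul_eq_mul] at h1
  omega

lemma natSpan_mono {S T : Set ι} (h : S ⊆ T) : natSpan P S ≤ natSpan P T :=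
  AddSubmonoid.closure_mono (Set.image_mono h)

lemma root_mem_natSpan {S : Set ι} {i : ι} (hi : i ∈ S) : P.root i ∈ natSpan P S :=
  AddSubmonoid.subset_closure ⟨i, hi, rfl⟩

variable {P}

/-- the cone generated by a positive system is pointed -/
theorem pointed_of_isPosSys {S : Set ι} (hS : IsPosSys P S) :
    ∀ x ∈ natSpan P S, -x ∈ natSpan P S → x = 0 := by
  intro x hx
  induction hx using AddSubmonoid.closure_induction with
  | mem x hx =>
    obtain ⟨i, hi, rfl⟩ := hx
    intro hneg
    exfalso
    refine hS.disjoint hi (hS.sat 1 one_pos ?_)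
    rw [one_smul, root_reflectionPerm_self]
    exact hneg
  | zero => intro _; rfl
  | add a b ha hb iha ihb =>
    intro hneg
    have h1 : -a ∈ natSpan P S := by
      have : -a = -(a + b) + b := by abel
      rw [this]
      exact add_mem hneg hb
    have h2 : -b ∈ natSpan P S := by
      have : -b = -(a + b) + a := by abel
      rw [this]
      exact add_mem hneg ha
    rw [iha h1, ihb h2, add_zero]

/-- the indecomposable elements of a set of roots -/
def indec (P : RootPairing ι ℤ M N) (S : Set ι) : Set ι := {i | IsAddIndecomposable P.root S i}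

lemma indec_subset (S : Set ι) : indec P S ⊆ S := fun _ hi => hi.1

/-- every positive root is a non-negative combination of indecomposable positive roots -/
theorem root_mem_natSpan_indec [Finite ι] {S : Set ι} (hS : IsPosSys P S) :
    ∀ i ∈ S, P.root i ∈ natSpan P (indec P S) := by
  classical
  set r : ι → ι → Prop := fun j i => P.root i - P.root j ∈ natSpan P S ∧ P.root i ≠ P.root j
    with hr
  haveI : IsIrrefl ι r := ⟨fun i h => h.2 rfl⟩
  haveI : IsTrans ι r := ⟨by
    rintro k j i ⟨h1, h1'⟩ ⟨h2, h2'⟩
    refine ⟨?_, ?_⟩
    · have : P.root i - P.root k = (P.root i - P.root j) + (P.root j - P.root k) := by abel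
      rw [this]
      exact add_mem h2 h1
    · intro h
      apply h1'
      have h3 : P.root j - P.root k = 0 := by
        apply pointed_of_isPosSys hS _ h1
        have : -(P.root j - P.root k) = P.root i - P.root j := by rw [h]; abel
        rw [this]
        exact h2
      exact sub_eq_zero.mp h3⟩
  have hwf : WellFounded r := Finite.wellFounded_of_trans_of_irrefl r
  intro i
  refine hwf.induction (C := fun i => i ∈ S → P.root i ∈ natSpan P (indec P S)) i ?_
  intro i ih hi
  by_cases hind : IsAddIndecomposable P.root S i
  · exact root_mem_natSpan P hind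
  · simp only [IsAddIndecomposable, hi, true_and, not_forall, not_or] at hind
    obtain ⟨j, hj, k, hk, hijk, hj0, hk0⟩ := hind
    rw [hijk]
    refine add_mem (ih j ⟨?_, ?_⟩ hj) (ih k ⟨?_, ?_⟩ hk)
    · rw [hijk, add_sub_cancel_left]
      exact root_mem_natSpan P hk
    · rw [hijk]
      intro h
      exact hk0 (by simpa using h)
    · rw [hijk, add_sub_cancel_right]
      exact root_mem_natSpan P hj
    · rw [hijk]
      intro h
      exact hj0 (by simpa using h)

/-- distinct indecomposable positive roots subtend an obtuse angle -/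
theorem pairingIn_le_zero_of_indec [Finite ι] {S : Set ι} (hS : IsPosSys P S) {i j : ι}
    (hi : i ∈ indec P S) (hj : j ∈ indec P S) (hij : i ≠ j) : P.pairingIn ℤ i j ≤ 0 := by
  by_contra hpos
  push Not at hpos
  obtain ⟨k, hk⟩ := P.root_sub_root_mem_of_pairingIn_pos hpos hij
  rcases hS.cover k with hkS | hkS
  · have := hi.2 j hj.1 k hkS (by rw [hk]; abel)
    rcases this with h | h
    · exact P.ne_zero j h
    · exact P.ne_zero k h
  · have := hj.2 i hi.1 _ hkS (by rw [root_reflectionPerm_self, hk]; abel)
    rcases this with h | h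
    · exact P.ne_zero i h
    · exact P.ne_zero _ h

/-- the indecomposable positive roots are linearly independent -/
theorem linearIndepOn_indec [Finite ι] {S : Set ι} (hS : IsPosSys P S) :
    LinearIndepOn ℤ P.root (indec P S) := by
  classical
  have : Fintype ι := Fintype.ofFinite ι
  let M₀ := span ℤ (range P.root)
  let v (i : indec P S) : M₀ := P.rootSpanMem ℤ i
  change LinearIndependent ℤ (M₀.subtype ∘ v)
  suffices LinearIndependent ℤ v by
    rwa [LinearMap.linearIndependent_iff_of_disjoint M₀.subtype (by simp)]
  obtain ⟨B, hB⟩ : ∃ B : P.RootPositiveForm ℤ, B.posForm.toQuadraticMap.PosDef :=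
    ⟨P.posRootForm ℤ, by simpa using P.posRootForm_rootFormIn_posDef ℤ⟩
  have hn : Pairwise fun (i j : indec P S) ↦ B.posForm (v i) (v j) ≤ 0 := by
    rintro ⟨i, hi⟩ ⟨j, hj⟩ hij
    rw [B.posForm_apply_root_root_le_zero_iff, ← P.algebraMap_pairingIn' ℤ ℤ]
    simpa using pairingIn_le_zero_of_indec hS hi hj (by aesop : i ≠ j)
  refine linearIndependent_of_pairwise_le_zero_of_pointed B.posForm hB v ?_ hn
  intro s c hc i₀ hi₀
  by_contra hpos
  push Not at hpos
  have hc' : ∑ i ∈ s with 0 < c i, c i • P.root (i : ι) = 0 := by
    have := congrArg M₀.subtype hc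
    simpa [v] using this
  have hmem : ∀ i : indec P S, 0 < c i → c i • P.root (i : ι) ∈ natSpan P S := by
    intro i hi
    have h1 : c i • P.root (i : ι) = (c i).toNat • P.root (i : ι) := by
      rw [← natCast_zsmul, Int.toNat_of_nonneg hi.le]
    rw [h1]
    exact nsmul_mem (root_mem_natSpan P (indec_subset S i.2)) _
  have hi₀' : i₀ ∈ s.filter (fun i => 0 < c i) := by simp [hi₀, hpos]
  rw [← Finset.add_sum_erase _ _ hi₀'] at hc'
  have h2 := pointed_of_isPosSys hS _ (hmem i₀ hpos) (by
    rw [neg_eq_of_add_eq_zero_right hc']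
    refine sum_mem (fun i hi => hmem i ?_)
    simp only [Finset.mem_erase, Finset.mem_filter] at hi
    exact hi.2.2)
  exact smul_root_ne_zero P _ _ hpos.ne' h2

/-- **The indecomposable elements of a system of positive roots form a system of simple roots.** -/
theorem isSimpleSys_indec [Finite ι] {S : Set ι} (hS : IsPosSys P S) :
    IsSimpleSys P (indec P S) where
  linInd := linearIndepOn_indec hS
  mem_or_neg_mem i := by
    rcases hS.cover i with h | h
    · exact Or.inl (root_mem_natSpan_indec hS i h)
    · refine Or.inr ?_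
      rw [← root_reflectionPerm_self]
      exact root_mem_natSpan_indec hS _ h

/-- elements of `natSpan` as finitely supported non-negative combinations -/
theorem exists_finsupp_of_mem_natSpan {Δ : Set ι} {x : M} (hx : x ∈ natSpan P Δ) :
    ∃ l : ι →₀ ℕ, (l.support : Set ι) ⊆ Δ ∧ (l.sum fun i n => n • P.root i) = x := by
  classical
  induction hx using AddSubmonoid.closure_induction with
  | mem x hx =>
    obtain ⟨i, hi, rfl⟩ := hx
    refine ⟨Finsupp.single i 1, ?_, by simp⟩
    intro j hj
    rw [Finsupp.support_single_ne_zero _ one_ne_zero, Finset.coe_singleton,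
      Set.mem_singleton_iff] at hj
    rw [hj]
    exact hi
  | zero => exact ⟨0, by simp, by simp⟩
  | add a b _ _ iha ihb =>
    obtain ⟨l₁, h₁, rfl⟩ := iha
    obtain ⟨l₂, h₂, rfl⟩ := ihb
    refine ⟨l₁ + l₂, ?_, ?_⟩
    · intro j hj
      rcases Finset.mem_union.mp (Finsupp.support_add hj) with h | h
      · exact h₁ h
      · exact h₂ h
    · rw [Finsupp.sum_add_index' (by simp) (by intro i m n; rw [add_smul])]

/-- a positive root is a non-negative (rather than non-positive) combination of a simple system
contained in the positive system -/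
theorem root_mem_natSpan_of_mem_posSys {S Δ : Set ι} (hS : IsPosSys P S) (hΔ : IsSimpleSys P Δ)
    (hsub : Δ ⊆ S) {i : ι} (hi : i ∈ S) : P.root i ∈ natSpan P Δ := by
  rcases hΔ.mem_or_neg_mem i with h | h
  · exact h
  · exfalso
    refine hS.disjoint hi (hS.sat 1 one_pos ?_)
    rw [one_smul, root_reflectionPerm_self]
    exact natSpan_mono P hsub h

/-- a simple system contained in a positive system consists of indecomposable elements -/
theorem subset_indec_of_isSimpleSys {S Δ : Set ι} (hS : IsPosSys P S) (hΔ : IsSimpleSys P Δ)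
    (hsub : Δ ⊆ S) : Δ ⊆ indec P S := by
  classical
  intro a ha
  refine ⟨hsub ha, fun j hj k hk hajk => ?_⟩
  obtain ⟨b, hb, hbj⟩ := exists_finsupp_of_mem_natSpan
    (root_mem_natSpan_of_mem_posSys hS hΔ hsub hj)
  obtain ⟨c, hc, hck⟩ := exists_finsupp_of_mem_natSpan
    (root_mem_natSpan_of_mem_posSys hS hΔ hsub hk)
  -- the integer relation
  set l : ι →₀ ℤ := (b + c).mapRange (Nat.cast : ℕ → ℤ) Nat.cast_zero - Finsupp.single a 1 with hl
  have hlsupp : l ∈ Finsupp.supported ℤ ℤ Δ := by
    rw [Finsupp.mem_supported]
    intro i hi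
    by_contra hiΔ
    have hb0 : b i = 0 := by
      by_contra h
      exact hiΔ (hb (Finsupp.mem_support_iff.mpr h))
    have hc0 : c i = 0 := by
      by_contra h
      exact hiΔ (hc (Finsupp.mem_support_iff.mpr h))
    have hia : i ≠ a := fun h => hiΔ (h ▸ ha)
    have : l i = 0 := by
      simp [hl, hb0, hc0, Finsupp.single_apply, Ne.symm hia]
    exact (Finsupp.mem_support_iff.mp hi) this
  have hl0 : Finsupp.linearCombination ℤ P.root l = 0 := by
    rw [hl, map_sub, Finsupp.linearCombination_single, one_smul, Finsupp.linearCombination_apply,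
      Finsupp.sum_mapRange_index (by simp)]
    have : ((b + c).sum fun i n => (n : ℤ) • P.root i) = P.root j + P.root k := by
      rw [← hbj, ← hck, Finsupp.sum_add_index' (by simp) (by intro i m n; push_cast; rw [add_smul])]
      simp only [natCast_zsmul]
    rw [this, hajk, sub_self]
  have hl_zero := (linearIndepOn_iff.mp hΔ.linInd) l hlsupp hl0
  have hbc : ∀ i, (b i : ℤ) + (c i : ℤ) = if i = a then 1 else 0 := by
    intro i
    have := DFunLike.congr_fun hl_zero i
    simp only [hl, Finsupp.coe_sub, Pi.sub_apply, Finsupp.mapRange_apply, Finsupp.coe_add,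
      Pi.add_apply, Finsupp.single_apply, Finsupp.coe_zero, Pi.zero_apply] at this
    push_cast at this
    split_ifs with h
    · rw [if_pos h.symm] at this; omega
    · rw [if_neg (Ne.symm h)] at this; omega
  have ha1 := hbc a
  rw [if_pos rfl] at ha1
  have hb_or : b a = 0 ∨ c a = 0 := by omega
  rcases hb_or with h0 | h0
  · left
    have : b = 0 := by
      ext i
      by_cases hia : i = a
      · rw [hia, h0]; rfl
      · have := hbc i
        rw [if_neg hia] at this
        simp only [Finsupp.coe_zero, Pi.zero_apply]
        omega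
    rw [← hbj, this]
    simp
  · right
    have : c = 0 := by
      ext i
      by_cases hia : i = a
      · rw [hia, h0]; rfl
      · have := hbc i
        rw [if_neg hia] at this
        simp only [Finsupp.coe_zero, Pi.zero_apply]
        omega
    rw [← hck, this]
    simp

/-- uniqueness of the simple system inside a positive system -/
theorem eq_indec_of_isSimpleSys [Finite ι] {S Δ : Set ι} (hS : IsPosSys P S)
    (hΔ : IsSimpleSys P Δ) (hsub : Δ ⊆ S) : Δ = indec P S := by
  classical
  have h1 := subset_indec_of_isSimpleSys hS hΔ hsub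
  refine Set.eq_of_subset_of_ncard_le h1 ?_ (Set.toFinite _)
  have : Fintype ι := Fintype.ofFinite ι
  have hfin : Fintype (P.root '' Δ) := Fintype.ofFinite _
  have hspan : Set.range (fun i : indec P S => P.root (i : ι)) ≤
      span ℤ (P.root '' Δ) := by
    rintro _ ⟨i, rfl⟩
    have hle : (natSpan P Δ : Set M) ⊆ span ℤ (P.root '' Δ) := by
      intro x hx
      induction hx using AddSubmonoid.closure_induction with
      | mem x hx => exact subset_span hx
      | zero => exact zero_mem _
      | add a b _ _ iha ihb => exact add_mem iha ihb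
    rcases hΔ.mem_or_neg_mem i with h | h
    · exact hle h
    · have := hle h
      simpa using neg_mem this
  have h2 := linearIndependent_le_span' _ (linearIndepOn_indec hS) (P.root '' Δ) hspan
  have h5 : Nat.card (indec P S) ≤ Fintype.card (P.root '' Δ) := by
    have := Cardinal.toNat_le_toNat h2 (Cardinal.natCast_lt_aleph0)
    simpa using this
  have h3 : Fintype.card (P.root '' Δ) = Δ.ncard := by
    rw [← Nat.card_eq_fintype_card, _root_.Nat.card_coe_set_eq,
      Set.ncard_image_of_injective _ P.root.injective]
  rw [_root_.Nat.card_coe_set_eq] at h5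
  omega

end Groth.Agent.Lib.Helper4.RootDLib
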