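import Mathlib
import Groth.Prelude.Def_W4sga3xxiRoot
import Groth.Agent.Lib.Helper4.RootDPos

/-!
# Simple systems of a root datum (SGA3 XXI, §3): basic consequences
-/

set_option autoImplicit false

open Module Set Submodule

namespace Groth.Agent.Lib.Helper4.RootDLib

open RootD

variable {ι M N : Type*} [AddCommGroup M] [AddCommGroup N] {P : RootPairing ι ℤ M N}

/-- the weight lattice of a root datum over `ℤ` is torsion free -/
lemma isAddTorsionFree_weight (P : RootPairing ι ℤ M N) : IsAddTorsionFree M := by
  have hrefl : Module.IsReflexive ℤ M := Module.IsReflexive.of_isPerfPair P.toLinearMap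
  exact .of_isTorsionFree ℤ M

/-- uniqueness of non-negative combinations of linearly independent roots -/
theorem finsupp_eq_of_linearIndepOn {Δ : Set ι} (hli : LinearIndepOn ℤ P.root Δ)
    (b c : ι →₀ ℕ) (hb : (↑b.support : Set ι) ⊆ Δ) (hc : (↑c.support : Set ι) ⊆ Δ)
    (hbc : (b.sum fun i n => n • P.root i) = (c.sum fun i n => n • P.root i)) : b = c := by
  classical
  set l : ι →₀ ℤ := b.mapRange (Nat.cast : ℕ → ℤ) Nat.cast_zero -
    c.mapRange (Nat.cast : ℕ → ℤ) Nat.cast_zero with hl
  have hlsupp : l ∈ Finsupp.supported ℤ ℤ Δ := by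
    rw [Finsupp.mem_supported]
    intro i hi
    by_contra hiΔ
    have hb0 : b i = 0 := by
      by_contra h
      exact hiΔ (hb (Finsupp.mem_support_iff.mpr h))
    have hc0 : c i = 0 := by
      by_contra h
      exact hiΔ (hc (Finsupp.mem_support_iff.mpr h))
    have : l i = 0 := by
      simp [hl, hb0, hc0]
    exact (Finsupp.mem_support_iff.mp hi) this
  have hl0 : Finsupp.linearCombination ℤ P.root l = 0 := by
    rw [hl, map_sub, Finsupp.linearCombination_apply, Finsupp.linearCombination_apply,
      Finsupp.sum_mapRange_index (by simp), Finsupp.sum_mapRange_index (by simp)]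
    simp only [natCast_zsmul]
    rw [hbc, sub_self]
  have hl_zero := (linearIndepOn_iff.mp hli) l hlsupp hl0
  ext i
  have := DFunLike.congr_fun hl_zero i
  simp only [hl, Finsupp.coe_sub, Pi.sub_apply, Finsupp.mapRange_apply,
    Finsupp.coe_zero, Pi.zero_apply] at this
  omega

/-- the cone generated by linearly independent roots is pointed -/
theorem pointed_of_linearIndepOn {Δ : Set ι} (hli : LinearIndepOn ℤ P.root Δ) :
    ∀ x : M, x ∈ natSpan P Δ → -x ∈ natSpan P Δ → x = 0 := by
  classical
  intro x hx hx'
  obtain ⟨b, hb, hbx⟩ := exists_finsupp_of_mem_natSpan hx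
  obtain ⟨c, hc, hcx⟩ := exists_finsupp_of_mem_natSpan hx'
  have h1 : b + c = 0 := by
    apply finsupp_eq_of_linearIndepOn hli
    · intro j hj
      rcases Finset.mem_union.mp (Finsupp.support_add hj) with h | h
      · exact hb h
      · exact hc h
    · simp
    · rw [Finsupp.sum_add_index' (by simp) (by intro i m n; rw [add_smul]), hbx, hcx]
      simp
  have hb0 : b = 0 := by
    ext i
    have := DFunLike.congr_fun h1 i
    simp only [Finsupp.coe_add, Pi.add_apply, Finsupp.coe_zero, Pi.zero_apply] at this ⊢
    omega
  rw [← hbx, hb0]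
  simp

/-- a positive multiple of a non-zero root is non-zero -/
lemma nsmul_root_ne_zero (P : RootPairing ι ℤ M N) (i : ι) {n : ℕ} (hn : 0 < n) :
    n • P.root i ≠ 0 := by
  rw [← natCast_zsmul]
  exact smul_root_ne_zero P i _ (by exact_mod_cast hn.ne')

/-- the positive roots of a simple system form a positive system -/
theorem posOf_isPosSys {Δ : Set ι} (hΔ : IsSimpleSys P Δ) : IsPosSys P (posOf P Δ) := by
  have hle : natSpan P (posOf P Δ) ≤ natSpan P Δ := by
    apply AddSubmonoid.closure_le.mpr
    rintro _ ⟨i, hi, rfl⟩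
    exact hi
  refine ⟨?_, ?_, ?_⟩
  · intro i hi hi'
    have hi'' : P.root (P.reflectionPerm i i) ∈ natSpan P Δ := hi'
    rw [root_reflectionPerm_self] at hi''
    exact P.ne_zero i (pointed_of_linearIndepOn hΔ.linInd _ hi hi'')
  · intro i
    rcases hΔ.mem_or_neg_mem i with h | h
    · exact Or.inl h
    · refine Or.inr ?_
      change P.root (P.reflectionPerm i i) ∈ natSpan P Δ
      rw [root_reflectionPerm_self]
      exact h
  · intro k n hn hk
    rcases hΔ.mem_or_neg_mem k with h | h
    · exact h
    · exfalso
      have h1 : -(n • P.root k) ∈ natSpan P Δ := by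
        rw [← smul_neg]
        exact nsmul_mem h _
      exact nsmul_root_ne_zero P k hn (pointed_of_linearIndepOn hΔ.linInd _ (hle hk) h1)

lemma subset_posOf (P : RootPairing ι ℤ M N) (Δ : Set ι) : Δ ⊆ posOf P Δ :=
  fun _ hi => root_mem_natSpan P hi

/-- a positive system containing a simple system is the set of its positive roots -/
theorem eq_posOf_of_subset {S Δ : Set ι} (hS : IsPosSys P S) (hΔ : IsSimpleSys P Δ)
    (hsub : Δ ⊆ S) : S = posOf P Δ := by
  apply Set.Subset.antisymm
  · intro i hi
    exact root_mem_natSpan_of_mem_posSys hS hΔ hsub hi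
  · intro i hi
    refine hS.sat 1 one_pos ?_
    rw [one_smul]
    exact natSpan_mono P hsub hi

/-- a simple system is the set of indecomposable elements of its positive roots -/
theorem eq_indec_posOf [Finite ι] {Δ : Set ι} (hΔ : IsSimpleSys P Δ) :
    Δ = indec P (posOf P Δ) :=
  eq_indec_of_isSimpleSys (posOf_isPosSys hΔ) hΔ (subset_posOf P Δ)

/-- a positive system is the set of positive roots of its indecomposable elements -/
theorem eq_posOf_indec [Finite ι] {S : Set ι} (hS : IsPosSys P S) :
    S = posOf P (indec P S) :=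
  eq_posOf_of_subset hS (isSimpleSys_indec hS) (indec_subset S)

/-- simple roots are indivisible -/
theorem isIndiv_of_mem_simpleSys {Δ : Set ι} (hΔ : IsSimpleSys P Δ) {i : ι} (hi : i ∈ Δ) :
    IsIndiv P i := by
  classical
  intro j hj
  -- write root j or its negative as a non-negative combination
  have key : ∀ x : M, x ∈ natSpan P Δ → (2 : ℕ) • x = P.root i → False := by
    intro x hx h2
    obtain ⟨b, hb, hbx⟩ := exists_finsupp_of_mem_natSpan hx
    have h1 : (2 : ℕ) • b = Finsupp.single i 1 := by
      apply finsupp_eq_of_linearIndepOn hΔ.linInd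
      · intro k hk
        apply hb
        rw [Finset.mem_coe, Finsupp.mem_support_iff] at hk ⊢
        intro h0
        apply hk
        simp [h0]
      · intro k hk
        rw [Finsupp.support_single_ne_zero _ one_ne_zero, Finset.coe_singleton,
          Set.mem_singleton_iff] at hk
        rw [hk]
        exact hi
      · rw [Finsupp.sum_single_index (by simp), one_smul, ← h2, ← hbx,
          Finsupp.sum_smul_index' (by simp), Finsupp.smul_sum]
        simp only [smul_eq_mul, mul_smul]
    have := DFunLike.congr_fun h1 i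
    simp only [Finsupp.coe_smul, Pi.smul_apply, smul_eq_mul, Finsupp.single_eq_same] at this
    omega
  rcases hΔ.mem_or_neg_mem j with h | h
  · exact key _ h (by rw [← hj, ← natCast_zsmul]; rfl)
  · -- then `root i = 2 • root j` is also a non-positive combination
    have h3 : -P.root i ∈ natSpan P Δ := by
      rw [← hj]
      have : -((2 : ℤ) • P.root j) = (2 : ℕ) • (-P.root j) := by
        rw [smul_neg, ← natCast_zsmul]; rfl
      rw [this]
      exact nsmul_mem h _
    exact P.ne_zero i (pointed_of_linearIndepOn hΔ.linInd _ (root_mem_natSpan P hi) h3)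

/-- distinct simple roots have non-positive pairing -/
theorem pairing_le_zero_of_mem_simpleSys [Finite ι] {Δ : Set ι} (hΔ : IsSimpleSys P Δ) {i j : ι}
    (hi : i ∈ Δ) (hj : j ∈ Δ) (hij : i ≠ j) : P.pairing i j ≤ 0 := by
  have h := eq_indec_posOf hΔ
  have hi' : i ∈ indec P (posOf P Δ) := h ▸ hi
  have hj' : j ∈ indec P (posOf P Δ) := h ▸ hj
  have := pairingIn_le_zero_of_indec (posOf_isPosSys hΔ) hi' hj' hij
  have h2 := P.algebraMap_pairingIn ℤ i j
  simp only [algebraMap_int_eq, eq_intCast, Int.cast_id] at h2
  rw [← h2]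
  exact this

end Groth.Agent.Lib.Helper4.RootDLib
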