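import Mathlib
import Groth.Prelude.Def_W4sga3xxiRoot
import Groth.Agent.Lib.Helper4.RootDSimple

/-!
# Chains of roots (SGA3 XXI, 3.1.1/3.1.2)
-/

set_option autoImplicit false

open Module Set Submodule

namespace Groth.Agent.Lib.Helper4.RootDLib

open RootD

variable {ι M N : Type*} [AddCommGroup M] [AddCommGroup N] {P : RootPairing ι ℤ M N}

lemma pairing_eq_pairingIn (P : RootPairing ι ℤ M N) (i j : ι) :
    P.pairingIn ℤ i j = P.pairing i j := by
  have h2 := P.algebraMap_pairingIn ℤ i j
  simpa only [algebraMap_int_eq, eq_intCast, Int.cast_id] using h2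

/-- `2 B(αᵢ, αⱼ) = ⟨αᵢ, αⱼ^∨⟩ B(αⱼ, αⱼ)` for the canonical form -/
lemma two_mul_rootForm_root_root [Fintype ι] (P : RootPairing ι ℤ M N) (i j : ι) :
    2 * P.RootForm (P.root i) (P.root j) = P.pairing i j * P.RootForm (P.root j) (P.root j) :=
  (P.posRootForm ℤ).toInvariantForm.two_mul_apply_root_root i j

lemma rootForm_root_self_pos [Fintype ι] (P : RootPairing ι ℤ M N) (i : ι) :
    0 < P.RootForm (P.root i) (P.root i) :=
  P.rootForm_pos_of_ne_zero (Submodule.subset_span (Set.mem_range_self i)) (P.ne_zero i)

lemma rootForm_pos_iff_pairing_pos [Fintype ι] (P : RootPairing ι ℤ M N) (i j : ι) :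
    0 < P.RootForm (P.root i) (P.root j) ↔ 0 < P.pairing i j := by
  have h1 := two_mul_rootForm_root_root P i j
  have h2 := rootForm_root_self_pos P j
  constructor
  · intro h
    by_contra hneg
    push Not at hneg
    have : P.pairing i j * P.RootForm (P.root j) (P.root j) ≤ 0 :=
      mul_nonpos_of_nonpos_of_nonneg hneg h2.le
    linarith
  · intro h
    have : 0 < P.pairing i j * P.RootForm (P.root j) (P.root j) := mul_pos h h2
    linarith

lemma pairing_pos_comm [Finite ι] (P : RootPairing ι ℤ M N) (i j : ι) :
    0 < P.pairing i j ↔ 0 < P.pairing j i := by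
  have : Fintype ι := Fintype.ofFinite ι
  rw [← rootForm_pos_iff_pairing_pos, ← rootForm_pos_iff_pairing_pos,
    ← P.rootForm_symmetric.eq (P.root i) (P.root j)]
  rfl

/-- If a positive multiple of the root `k` is a non-negative combination of roots `a l`, one of the
`a l` occurring in it has positive pairing with `k`. -/
theorem exists_pairing_pos_of_nsmul_eq_sum [Finite ι] {κ : Type*} (s : Finset κ) (a : κ → ι)
    (m : κ → ℕ) (k : ι) (c : ℕ) (hc : 0 < c) (hk : c • P.root k = ∑ l ∈ s, m l • P.root (a l)) :
    ∃ l ∈ s, m l ≠ 0 ∧ 0 < P.pairing k (a l) ∧ 0 < P.pairing (a l) k := by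
  classical
  have : Fintype ι := Fintype.ofFinite ι
  have h1 : 0 < P.RootForm (P.root k) (c • P.root k) := by
    rw [map_nsmul, nsmul_eq_mul]
    exact mul_pos (by exact_mod_cast hc) (rootForm_root_self_pos P k)
  rw [hk, map_sum] at h1
  obtain ⟨l, hl, hlpos⟩ := Finset.exists_lt_of_sum_lt (f := fun _ => (0 : ℤ))
    (g := fun l => P.RootForm (P.root k) (m l • P.root (a l))) (s := s) (by simpa using h1)
  rw [map_nsmul, nsmul_eq_mul] at hlpos
  have hm : m l ≠ 0 := by
    intro h0
    rw [h0] at hlpos
    simp at hlpos
  have h2 : 0 < P.RootForm (P.root k) (P.root (a l)) := by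
    by_contra hneg
    push Not at hneg
    have : (m l : ℤ) * P.RootForm (P.root k) (P.root (a l)) ≤ 0 :=
      mul_nonpos_of_nonneg_of_nonpos (by positivity) hneg
    linarith
  have h3 := (rootForm_pos_iff_pairing_pos P k (a l)).mp h2
  exact ⟨l, hl, hm, h3, (pairing_pos_comm P _ _).mp h3⟩

/-- the difference of two distinct roots with positive pairing is a root -/
lemma exists_root_eq_sub [Finite ι] (P : RootPairing ι ℤ M N) {i j : ι} (h : 0 < P.pairing i j)
    (hij : i ≠ j) : ∃ k, P.root k = P.root i - P.root j := by
  have h' : 0 < P.pairingIn ℤ i j := by rw [pairing_eq_pairingIn]; exact h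
  exact P.root_sub_root_mem_of_pairingIn_pos h' hij

/-- **Chains of roots**: a root which is a non-negative combination of roots `a l` can be reached by
successively adding roots `a l`, all partial sums being roots. -/
theorem exists_chain [Finite ι] {n : ℕ} (a : Fin n → ι) :
    ∀ (t : ℕ) (m : Fin n → ℕ) (k : ι), ∑ i, m i = t → P.root k = ∑ i, m i • P.root (a i) →
    ∃ (l : ℕ) (b : Fin l → Fin n), 0 < l ∧
      (∀ p : Fin l, ∃ j : ι, P.root j =
        ∑ q ∈ Finset.univ.filter (fun q : Fin l => q.val ≤ p.val), P.root (a (b q))) ∧
      P.root k = ∑ q, P.root (a (b q)) := by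
  classical
  intro t
  induction t with
  | zero =>
    intro m k hm hk
    exfalso
    have : ∀ i, m i = 0 := by
      intro i
      have := (Finset.sum_eq_zero_iff.mp hm) i (Finset.mem_univ i)
      exact this
    apply P.ne_zero k
    rw [hk]
    simp [this]
  | succ t ih =>
    intro m k hm hk
    obtain ⟨i, -, hmi, hpos, -⟩ := exists_pairing_pos_of_nsmul_eq_sum (P := P) Finset.univ a m k 1
      one_pos (by rw [one_smul]; exact hk)
    by_cases hki : k = a i
    · refine ⟨1, fun _ => i, one_pos, ?_, ?_⟩
      · intro p
        refine ⟨k, ?_⟩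
        have : Finset.univ.filter (fun q : Fin 1 => q.val ≤ p.val) = Finset.univ := by
          ext q
          simp only [Finset.mem_filter, Finset.mem_univ, true_and, iff_true]
          omega
        rw [this, hki]
        simp
      · rw [hki]
        simp
    · obtain ⟨k', hk'⟩ := exists_root_eq_sub P hpos hki
      set m' : Fin n → ℕ := Function.update m i (m i - 1) with hm'
      have hsum' : ∑ j, m' j = t := by
        have h1 : ∑ j, m j = m i + ∑ j ∈ Finset.univ.erase i, m j := by
          rw [Finset.add_sum_erase _ _ (Finset.mem_univ i)]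
        have h2 : ∑ j, m' j = m' i + ∑ j ∈ Finset.univ.erase i, m' j := by
          rw [Finset.add_sum_erase _ _ (Finset.mem_univ i)]
        have h3 : ∑ j ∈ Finset.univ.erase i, m' j = ∑ j ∈ Finset.univ.erase i, m j := by
          apply Finset.sum_congr rfl
          intro j hj
          rw [hm', Function.update_of_ne (Finset.ne_of_mem_erase hj)]
        have h4 : m' i = m i - 1 := by rw [hm', Function.update_self]
        omega
      have hk'' : P.root k' = ∑ j, m' j • P.root (a j) := by
        rw [hk', hk]
        have h1 : ∑ j, m j • P.root (a j) =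
            m i • P.root (a i) + ∑ j ∈ Finset.univ.erase i, m j • P.root (a j) :=
          (Finset.add_sum_erase _ (fun j => m j • P.root (a j)) (Finset.mem_univ i)).symm
        have h2 : ∑ j, m' j • P.root (a j) =
            m' i • P.root (a i) + ∑ j ∈ Finset.univ.erase i, m' j • P.root (a j) :=
          (Finset.add_sum_erase _ (fun j => m' j • P.root (a j)) (Finset.mem_univ i)).symm
        have h3 : ∑ j ∈ Finset.univ.erase i, m' j • P.root (a j) =
            ∑ j ∈ Finset.univ.erase i, m j • P.root (a j) := by
          apply Finset.sum_congr rfl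
          intro j hj
          rw [hm', Function.update_of_ne (Finset.ne_of_mem_erase hj)]
        have h4 : m' i = m i - 1 := by rw [hm', Function.update_self]
        rw [h1, h2, h3, h4]
        have h5 : m i = (m i - 1) + 1 := by omega
        conv_lhs => rw [h5, add_smul, one_smul]
        abel
      obtain ⟨l, b, hl, hpart, htot⟩ := ih m' k' hsum' hk''
      refine ⟨l + 1, Fin.snoc b i, Nat.succ_pos l, ?_, ?_⟩
      · intro p
        induction p using Fin.lastCases with
        | last =>
          refine ⟨k, ?_⟩
          have : Finset.univ.filter (fun q : Fin (l + 1) => q.val ≤ (Fin.last l).val) =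
              Finset.univ := by
            ext q
            simp only [Finset.mem_filter, Finset.mem_univ, true_and, iff_true, Fin.val_last]
            omega
          rw [this, Fin.sum_univ_castSucc]
          simp only [Fin.snoc_castSucc, Fin.snoc_last]
          rw [← htot, hk']
          abel
        | cast p' =>
          obtain ⟨j, hj⟩ := hpart p'
          refine ⟨j, ?_⟩
          rw [hj, Finset.sum_filter, Finset.sum_filter, Fin.sum_univ_castSucc]
          simp only [Fin.snoc_castSucc, Fin.snoc_last, Fin.val_last, Fin.val_castSucc]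
          have : ¬ (l ≤ p'.val) := by omega
          rw [if_neg this, add_zero]
      · rw [Fin.sum_univ_castSucc]
        simp only [Fin.snoc_castSucc, Fin.snoc_last]
        rw [← htot, hk']
        abel

end Groth.Agent.Lib.Helper4.RootDLib

namespace Groth.Agent.Lib.Helper4.RootDLib

open RootD

variable {ι M N : Type*} [AddCommGroup M] [AddCommGroup N] {P : RootPairing ι ℤ M N}

/-- A closed set of roots contains every root lying in the additive monoid it generates. -/
theorem mem_of_isClosedSub_of_mem_natSpan [Finite ι] {S : Set ι} (hcl : IsClosedSub P S) {k : ι}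
    (hk : P.root k ∈ natSpan P S) : k ∈ S := by
  classical
  obtain ⟨c, hc, hck⟩ := exists_finsupp_of_mem_natSpan hk
  have key : ∀ (t : ℕ) (c : ι →₀ ℕ) (k : ι), (↑c.support : Set ι) ⊆ S →
      (c.sum fun _ n => n) = t → (c.sum fun i n => n • P.root i) = P.root k → k ∈ S := by
    intro t
    induction t with
    | zero =>
      intro c k _ hsum hck
      exfalso
      have hc0 : c = 0 := by
        ext i
        by_contra h
        have h1 : c i ≤ c.sum fun _ n => n :=
          Finset.single_le_sum (f := fun i => c i) (fun _ _ => Nat.zero_le _)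
            (Finsupp.mem_support_iff.mpr h)
        simp only [Finsupp.coe_zero, Pi.zero_apply] at h
        omega
      apply P.ne_zero k
      rw [← hck, hc0]
      simp
    | succ t ih =>
      intro c k hc hsum hck
      obtain ⟨e, he, -, hpos, -⟩ := exists_pairing_pos_of_nsmul_eq_sum (P := P) c.support id c k 1
        one_pos (by rw [one_smul, ← hck]; rfl)
      simp only [id] at hpos
      by_cases hke : k = e
      · rw [hke]
        exact hc he
      · obtain ⟨k', hk'⟩ := exists_root_eq_sub P hpos hke
        have hce : c e ≠ 0 := Finsupp.mem_support_iff.mp he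
        have hcc : c - Finsupp.single e 1 + Finsupp.single e 1 = c :=
          Finsupp.sub_add_single_one_cancel hce
        have h1 : ((c - Finsupp.single e 1).sum fun _ n => n) + 1 = t + 1 := by
          rw [← hsum]
          conv_rhs => rw [← hcc]
          rw [Finsupp.sum_add_index' (by simp) (by intro i m n; rfl),
            Finsupp.sum_single_index (by simp)]
        have h2 : ((c - Finsupp.single e 1).sum fun i n => n • P.root i) = P.root k' := by
          rw [hk', ← hck]
          conv_rhs => rw [← hcc]
          rw [Finsupp.sum_add_index' (by simp) (by intro i m n; rw [add_smul]),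
            Finsupp.sum_single_index (by simp), one_smul]
          abel
        have hk'S : k' ∈ S := ih (c - Finsupp.single e 1) k'
          (fun i hi => hc (Finsupp.support_tsub hi)) (by omega) h2
        exact hcl hk'S (hc he) (by rw [hk']; abel)
  exact key _ c k hc rfl hck

end Groth.Agent.Lib.Helper4.RootDLib
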