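import Mathlib
import Groth.Prelude.Def_W4sga3xxiRoot
import Groth.Agent.Lib.Helper4.RootDSimple

/-!
# Simple reflections and positive roots (SGA3 XXI, §3)
-/

set_option autoImplicit false

open Module Set Submodule

namespace Groth.Agent.Lib.Helper4.RootDLib

open RootD

variable {ι M N : Type*} [AddCommGroup M] [AddCommGroup N] {P : RootPairing ι ℤ M N}

/-- If `k` is positive and the reflection of `k` in the simple root `i` is negative, then the root `k`
is a non-negative multiple of the root `i`. -/
theorem exists_nsmul_of_reflectionPerm_neg {Δ : Set ι} (hΔ : IsSimpleSys P Δ) {k i : ι}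
    (hk : k ∈ posOf P Δ) (hi : i ∈ Δ) (hneg : -P.root (P.reflectionPerm i k) ∈ natSpan P Δ) :
    ∃ n : ℕ, P.root k = n • P.root i := by
  classical
  obtain ⟨c, hc, hck⟩ := exists_finsupp_of_mem_natSpan hk
  obtain ⟨d, hd, hdk⟩ := exists_finsupp_of_mem_natSpan hneg
  rw [RootPairing.root_reflectionPerm, RootPairing.reflection_apply_root] at hdk
  -- the relation `c + d = p • single i`
  set p : ℤ := P.pairing k i with hp
  set l : ι →₀ ℤ := c.mapRange (Nat.cast : ℕ → ℤ) Nat.cast_zero +
    d.mapRange (Nat.cast : ℕ → ℤ) Nat.cast_zero - Finsupp.single i p with hl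
  have hlsupp : l ∈ Finsupp.supported ℤ ℤ Δ := by
    rw [Finsupp.mem_supported]
    intro e he
    by_contra heΔ
    have hc0 : c e = 0 := by
      by_contra h
      exact heΔ (hc (Finsupp.mem_support_iff.mpr h))
    have hd0 : d e = 0 := by
      by_contra h
      exact heΔ (hd (Finsupp.mem_support_iff.mpr h))
    have hei : i ≠ e := fun h => heΔ (h ▸ hi)
    have : l e = 0 := by
      simp [hl, hc0, hd0, hei]
    exact (Finsupp.mem_support_iff.mp he) this
  have hl0 : Finsupp.linearCombination ℤ P.root l = 0 := by
    rw [hl, map_sub, map_add, Finsupp.linearCombination_single, Finsupp.linearCombination_apply,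
      Finsupp.linearCombination_apply,
      Finsupp.sum_mapRange_index (by simp), Finsupp.sum_mapRange_index (by simp)]
    simp only [natCast_zsmul]
    rw [hck, hdk]
    abel
  have hl_zero := (linearIndepOn_iff.mp hΔ.linInd) l hlsupp hl0
  have hce : ∀ e, e ≠ i → c e = 0 := by
    intro e hei
    have := DFunLike.congr_fun hl_zero e
    simp only [hl, Finsupp.coe_sub, Finsupp.coe_add, Pi.sub_apply, Pi.add_apply,
      Finsupp.mapRange_apply, Finsupp.coe_zero, Pi.zero_apply,
      Finsupp.single_eq_of_ne hei] at this
    omega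
  refine ⟨c i, ?_⟩
  rw [← hck]
  have hcs : c = Finsupp.single i (c i) := by
    ext e
    rw [Finsupp.single_apply]
    split_ifs with h
    · rw [h]
    · exact hce e (Ne.symm h)
  conv_lhs => rw [hcs]
  rw [Finsupp.sum_single_index (by simp)]

/-- **The reflection in a simple root maps a positive root not proportional to it to a positive root.** -/
theorem reflectionPerm_mem_posOf {Δ : Set ι} (hΔ : IsSimpleSys P Δ) {k i : ι}
    (hk : k ∈ posOf P Δ) (hi : i ∈ Δ) (hnp : ∀ n : ℕ, P.root k ≠ n • P.root i) :
    P.reflectionPerm i k ∈ posOf P Δ := by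
  rcases hΔ.mem_or_neg_mem (P.reflectionPerm i k) with h | h
  · exact h
  · obtain ⟨n, hn⟩ := exists_nsmul_of_reflectionPerm_neg hΔ hk hi h
    exact absurd hn (hnp n)

end Groth.Agent.Lib.Helper4.RootDLib
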