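import Mathlib
import Groth.Prelude.Def_W4sga3xxiRoot
import Groth.Agent.Lib.Helper4.RootDChain
import Groth.Agent.Lib.Helper4.RootDRefl

/-!
# Proportional roots (SGA3 XXI, 1.1.? / 2.?)
-/

set_option autoImplicit false

open Module Set Submodule

namespace Groth.Agent.Lib.Helper4.RootDLib

open RootD

variable {ι M N : Type*} [AddCommGroup M] [AddCommGroup N] {P : RootPairing ι ℤ M N}

/-- pairing a relation `b • αⱼ = a • αᵢ` with a coroot -/
lemma pairing_of_smul_eq_smul (P : RootPairing ι ℤ M N) {i j : ι} {a b : ℤ}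
    (h : b • P.root j = a • P.root i) (e : ι) : b * P.pairing j e = a * P.pairing i e := by
  have := congrArg (fun x => P.toLinearMap x (P.coroot e)) h
  simp only [map_smul, LinearMap.smul_apply, smul_eq_mul] at this
  exact this

/-- the Coxeter weight of proportional roots is `4` -/
lemma pairing_mul_pairing_eq_four_of_smul_eq_smul (P : RootPairing ι ℤ M N) {i j : ι} {a b : ℤ}
    (hb : b ≠ 0) (h : b • P.root j = a • P.root i) : P.pairing j i * P.pairing i j = 4 := by
  have h1 := pairing_of_smul_eq_smul P h i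
  have h2 := pairing_of_smul_eq_smul P h j
  rw [RootPairing.pairing_same] at h1 h2
  have h3 : b * (P.pairing j i * P.pairing i j) = b * 4 := by
    calc b * (P.pairing j i * P.pairing i j) = (b * P.pairing j i) * P.pairing i j := by ring
      _ = a * 2 * P.pairing i j := by rw [h1]
      _ = 2 * (a * P.pairing i j) := by ring
      _ = 2 * (b * 2) := by rw [h2]
      _ = b * 4 := by ring
  exact mul_left_cancel₀ hb h3

lemma int_mul_eq_four {p q : ℤ} (h : p * q = 4) :
    (p = 1 ∧ q = 4) ∨ (p = 2 ∧ q = 2) ∨ (p = 4 ∧ q = 1) ∨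
    (p = -1 ∧ q = -4) ∨ (p = -2 ∧ q = -2) ∨ (p = -4 ∧ q = -1) := by
  have hp : p ∣ 4 := ⟨q, h.symm⟩
  have h1 : p ≤ 4 := Int.le_of_dvd (by norm_num) hp
  have h2 : -p ≤ 4 := Int.le_of_dvd (by norm_num) ((Int.neg_dvd).mpr hp)
  have h3 : -4 ≤ p := by omega
  interval_cases p <;> omega

/-- If `α` is an indivisible root and `b • β = a • α` for a root `β` and `b ≠ 0` then `b ∣ a`. -/
theorem dvd_of_smul_eq_smul_indiv (P : RootPairing ι ℤ M N) {i j : ι} (hind : IsIndiv P i)
    {a b : ℤ} (hb : b ≠ 0) (h : b • P.root j = a • P.root i) : b ∣ a := by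
  have htf := isAddTorsionFree_weight P
  have h4 := pairing_mul_pairing_eq_four_of_smul_eq_smul P hb h
  have h1 := pairing_of_smul_eq_smul P h i
  rw [RootPairing.pairing_same] at h1
  have ha : a ≠ 0 := by
    rintro rfl
    rw [zero_smul] at h
    exact smul_root_ne_zero P j b hb h
  rcases int_mul_eq_four h4 with ⟨hp, -⟩ | ⟨hp, -⟩ | ⟨hp, -⟩ | ⟨hp, -⟩ | ⟨hp, -⟩ | ⟨hp, -⟩
  · exfalso
    rw [hp, mul_one] at h1
    rw [h1, mul_smul] at h
    have h5 : (2 : ℤ) • P.root j = P.root i := smul_right_injective M ha h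
    exact hind j h5
  · rw [hp] at h1
    exact ⟨1, by omega⟩
  · rw [hp] at h1
    exact ⟨2, by omega⟩
  · exfalso
    rw [hp] at h1
    have hb' : b = a * (-2) := by omega
    rw [hb', mul_smul] at h
    have h5 : (-2 : ℤ) • P.root j = P.root i := smul_right_injective M ha h
    apply hind (P.reflectionPerm j j)
    rw [root_reflectionPerm_self, ← h5]
    simp
  · rw [hp] at h1
    exact ⟨-1, by omega⟩
  · rw [hp] at h1
    exact ⟨-2, by omega⟩

/-- If the root `k` is a natural multiple `n • αᵢ` of a root then `n = 1` or `n = 2`. -/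
lemma eq_one_or_two_of_root_eq_nsmul (P : RootPairing ι ℤ M N) {k i : ι} {n : ℕ}
    (h : P.root k = n • P.root i) : n = 1 ∨ n = 2 := by
  have h1 : (1 : ℤ) • P.root k = (n : ℤ) • P.root i := by rw [one_smul, natCast_zsmul]; exact h
  have h2 := pairing_of_smul_eq_smul P h1 k
  rw [RootPairing.pairing_same] at h2
  have hn : (n : ℤ) ∣ 2 := ⟨P.pairing i k, by linarith⟩
  have hn' : n ∣ 2 := by exact_mod_cast hn
  have := Nat.le_of_dvd (by norm_num) hn'
  interval_cases n
  · simp at hn'
  · exact Or.inl rfl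
  · exact Or.inr rfl

/-- For an indivisible positive non-simple root `k` there is a simple root `i` with
`⟨k, i^∨⟩ > 0` whose reflection maps `k` to a positive root. -/
theorem exists_simple_pairing_pos_of_pos_not_simple [Finite ι] {Δ : Set ι} (hΔ : IsSimpleSys P Δ)
    {k : ι} (hk : k ∈ posOf P Δ) (hkΔ : k ∉ Δ) (hind : IsIndiv P k) :
    ∃ i ∈ Δ, 0 < P.pairing k i ∧ P.reflectionPerm i k ∈ posOf P Δ := by
  classical
  obtain ⟨c, hc, hck⟩ := exists_finsupp_of_mem_natSpan hk
  obtain ⟨e, he, -, hpos, -⟩ := exists_pairing_pos_of_nsmul_eq_sum (P := P) c.support id c k 1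
    one_pos (by rw [one_smul, ← hck]; rfl)
  simp only [id] at hpos
  refine ⟨e, hc he, hpos, ?_⟩
  apply reflectionPerm_mem_posOf hΔ hk (hc he)
  intro n hn
  rcases eq_one_or_two_of_root_eq_nsmul P hn with rfl | rfl
  · rw [one_smul] at hn
    exact hkΔ (P.root.injective hn ▸ hc he)
  · apply hind e
    rw [hn, ← natCast_zsmul]
    rfl

end Groth.Agent.Lib.Helper4.RootDLib
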