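import Mathlib
import Groth.Prelude.Def_W4sga3xxiRoot
import Groth.Agent.Lib.Helper4.RootDProp

/-!
# Automorphisms of a root datum acting on sets of roots
-/

set_option autoImplicit false

open Module Set Submodule RootPairing

namespace Groth.Agent.Lib.Helper4.RootDLib

open RootD

variable {ι M N : Type*} [AddCommGroup M] [AddCommGroup N] (P : RootPairing ι ℤ M N)

lemma toLinearMap_weightMap (g : P.Aut) (m : M) (n : N) :
    P.toLinearMap (g.weightMap m) n = P.toLinearMap m (g.coweightMap n) := by
  have := Hom.weight_coweight_transpose_apply P P n g.toHom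
  have h2 := LinearMap.congr_fun this m
  simpa using h2

lemma aut_smul_def (g : P.Aut) (m : M) : g • m = g.weightMap m := rfl

lemma aut_smul_idx_def (g : P.Aut) (i : ι) : g • i = g.indexEquiv i := rfl

lemma coweightMap_coroot (g : P.Aut) (i : ι) :
    g.coweightMap (P.coroot i) = P.coroot (g.indexEquiv.symm i) :=
  Hom.coroot_coweightMap_apply P P i g.toHom

lemma root_smul (g : P.Aut) (i : ι) : P.root (g • i) = g • P.root i :=
  Equiv.root_indexEquiv_eq_smul P i g

lemma reflection_smul_idx (i k : ι) : Equiv.reflection P i • k = P.reflectionPerm i k := rfl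

/-- `⟨g • m, (g • i)^∨⟩ = ⟨m, i^∨⟩` -/
lemma toLinearMap_smul_coroot_smul (g : P.Aut) (m : M) (i : ι) :
    P.toLinearMap (g • m) (P.coroot (g • i)) = P.toLinearMap m (P.coroot i) := by
  rw [aut_smul_def, toLinearMap_weightMap, aut_smul_idx_def, coweightMap_coroot,
    Equiv.symm_apply_apply]

lemma pairing_smul_smul (g : P.Aut) (i j : ι) : P.pairing (g • i) (g • j) = P.pairing i j := by
  have := toLinearMap_smul_coroot_smul P g (P.root i) j
  rw [← root_smul] at this
  exact this

/-- conjugating a reflection by an automorphism -/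
theorem aut_conj_reflection (u : P.Aut) (i : ι) :
    u * Equiv.reflection P i * u⁻¹ = Equiv.reflection P (u • i) := by
  apply Equiv.weightHom_injective
  ext m
  change (u * Equiv.reflection P i * u⁻¹) • m = Equiv.reflection P (u • i) • m
  rw [mul_smul, mul_smul, Equiv.reflection_smul, Equiv.reflection_smul,
    RootPairing.reflection_apply, RootPairing.reflection_apply, smul_sub, smul_inv_smul,
    smul_comm, root_smul]
  congr 2
  have := toLinearMap_smul_coroot_smul P u (u⁻¹ • m) i
  rw [smul_inv_smul] at this
  simp only [RootPairing.coroot', LinearMap.flip_apply]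
  exact this.symm

lemma smul_reflectionPerm (g : P.Aut) (i k : ι) :
    g • P.reflectionPerm i k = P.reflectionPerm (g • i) (g • k) := by
  have h := aut_conj_reflection P g i
  have h2 : g * Equiv.reflection P i = Equiv.reflection P (g • i) * g := by
    rw [← h]; group
  have h3 := congrArg (fun w : P.Aut => w • k) h2
  simp only [mul_smul, reflection_smul_idx] at h3
  exact h3

variable {P}

/-- the image of `natSpan P S` under an automorphism -/
lemma smul_mem_natSpan (g : P.Aut) {S : Set ι} {x : M} (hx : x ∈ natSpan P S) :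
    g • x ∈ natSpan P ((fun i : ι => g • i) '' S) := by
  induction hx using AddSubmonoid.closure_induction with
  | mem x hx =>
    obtain ⟨i, hi, rfl⟩ := hx
    rw [← root_smul]
    exact root_mem_natSpan P ⟨i, hi, rfl⟩
  | zero => rw [smul_zero]; exact zero_mem _
  | add a b _ _ iha ihb => rw [smul_add]; exact add_mem iha ihb

lemma image_inv_image (g : P.Aut) (S : Set ι) :
    (fun i : ι => g⁻¹ • i) '' ((fun i : ι => g • i) '' S) = S := by
  rw [Set.image_image]
  simp

lemma image_image_inv (g : P.Aut) (S : Set ι) :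
    (fun i : ι => g • i) '' ((fun i : ι => g⁻¹ • i) '' S) = S := by
  rw [Set.image_image]
  simp

lemma mem_image_smul_iff (g : P.Aut) (S : Set ι) (k : ι) :
    k ∈ (fun i : ι => g • i) '' S ↔ g⁻¹ • k ∈ S := by
  constructor
  · rintro ⟨i, hi, rfl⟩
    rw [inv_smul_smul]
    exact hi
  · intro h
    exact ⟨g⁻¹ • k, h, smul_inv_smul g k⟩

lemma smul_mem_natSpan_iff (g : P.Aut) {S : Set ι} {x : M} :
    g • x ∈ natSpan P ((fun i : ι => g • i) '' S) ↔ x ∈ natSpan P S := by
  constructor
  · intro h
    have := smul_mem_natSpan g⁻¹ h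
    rwa [inv_smul_smul, image_inv_image] at this
  · exact smul_mem_natSpan g

lemma smul_reflectionPerm_self (g : P.Aut) (i : ι) :
    g • P.reflectionPerm i i = P.reflectionPerm (g • i) (g • i) :=
  smul_reflectionPerm P g i i

/-- automorphisms preserve positive systems -/
theorem isPosSys_image (g : P.Aut) {S : Set ι} (hS : IsPosSys P S) :
    IsPosSys P ((fun i : ι => g • i) '' S) := by
  refine ⟨?_, ?_, ?_⟩
  · rintro _ ⟨i, hi, rfl⟩ h
    rw [← smul_reflectionPerm_self, mem_image_smul_iff, inv_smul_smul] at h
    exact hS.disjoint hi h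
  · intro i
    rcases hS.cover (g⁻¹ • i) with h | h
    · exact Or.inl ((mem_image_smul_iff g S i).mpr h)
    · refine Or.inr ((mem_image_smul_iff g S _).mpr ?_)
      rw [smul_reflectionPerm_self]
      exact h
  · intro k n hn hk
    rw [mem_image_smul_iff]
    refine hS.sat n hn ?_
    have := smul_mem_natSpan g⁻¹ hk
    rwa [image_inv_image, smul_comm, ← root_smul] at this

/-- automorphisms preserve simple systems -/
theorem isSimpleSys_image (g : P.Aut) {Δ : Set ι} (hΔ : IsSimpleSys P Δ) :
    IsSimpleSys P ((fun i : ι => g • i) '' Δ) := by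
  refine ⟨?_, ?_⟩
  · have h1 : LinearIndepOn ℤ (fun i => g⁻¹ • P.root i) ((fun i : ι => g • i) '' Δ) := by
      have h2 : LinearIndepOn ℤ ((fun i => g⁻¹ • P.root i) ∘ (fun i : ι => g • i)) Δ := by
        have : ((fun i => g⁻¹ • P.root i) ∘ (fun i : ι => g • i)) = P.root := by
          funext i
          simp only [Function.comp_apply]
          rw [root_smul, inv_smul_smul]
        rw [this]
        exact hΔ.linInd
      exact LinearIndepOn.image_of_comp (fun i : ι => g • i) (fun i => g⁻¹ • P.root i) h2
    have h3 : LinearIndepOn ℤ ((Equiv.weightHom P g⁻¹ : M →ₗ[ℤ] M) ∘ P.root)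
        ((fun i : ι => g • i) '' Δ) := h1
    exact LinearIndepOn.of_comp _ h3
  · intro i
    rcases hΔ.mem_or_neg_mem (g⁻¹ • i) with h | h
    · left
      have := smul_mem_natSpan g h
      rwa [← root_smul, smul_inv_smul] at this
    · right
      have := smul_mem_natSpan g h
      rwa [smul_neg, ← root_smul, smul_inv_smul] at this

lemma posOf_image (g : P.Aut) (Δ : Set ι) :
    posOf P ((fun i : ι => g • i) '' Δ) = (fun i : ι => g • i) '' posOf P Δ := by
  ext k
  rw [mem_image_smul_iff]
  change P.root k ∈ natSpan P ((fun i : ι => g • i) '' Δ) ↔ P.root (g⁻¹ • k) ∈ natSpan P Δ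
  rw [root_smul]
  conv_rhs => rw [← smul_mem_natSpan_iff g, smul_inv_smul]

end Groth.Agent.Lib.Helper4.RootDLib
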