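import Mathlib
import Groth.Prelude.Def_W4sga3xxiRoot
import Groth.Agent.Lib.Helper4.RootDAut

/-!
# The Weyl group acts transitively on positive systems and on simple systems (SGA3 XXI, 3.3)
-/

set_option autoImplicit false

open Module Set Submodule RootPairing

namespace Groth.Agent.Lib.Helper4.RootDLib

open RootD

variable {ι M N : Type*} [AddCommGroup M] [AddCommGroup N] {P : RootPairing ι ℤ M N}

/-- the roots which are positive for a regular ordered functional form a positive system -/
theorem isPosSys_of_orderedAddHom {G : Type*} [AddCommGroup G] [PartialOrder G]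
    [IsOrderedAddMonoid G] (φ : M →+ G) (hφ : ∀ i : ι, 0 < φ (P.root i) ∨ φ (P.root i) < 0) :
    IsPosSys P {i : ι | 0 < φ (P.root i)} := by
  refine ⟨?_, ?_, ?_⟩
  · intro i hi hi'
    have h1 : 0 < φ (P.root i) := hi
    have h2 : 0 < φ (P.root (P.reflectionPerm i i)) := hi'
    rw [root_reflectionPerm_self, map_neg, neg_pos] at h2
    exact lt_asymm h1 h2
  · intro i
    rcases hφ i with h | h
    · exact Or.inl h
    · refine Or.inr ?_
      change 0 < φ (P.root (P.reflectionPerm i i))
      rw [root_reflectionPerm_self, map_neg, neg_pos]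
      exact h
  · intro k n hn hk
    have hnonneg : ∀ x ∈ natSpan P {i : ι | 0 < φ (P.root i)}, 0 ≤ φ x := by
      intro x hx
      induction hx using AddSubmonoid.closure_induction with
      | mem x hx =>
        obtain ⟨i, hi, rfl⟩ := hx
        exact le_of_lt hi
      | zero => rw [map_zero]
      | add a b _ _ iha ihb =>
        rw [map_add]
        exact add_nonneg iha ihb
    have h1 := hnonneg _ hk
    rw [map_nsmul] at h1
    rcases hφ k with h | h
    · exact h
    · exfalso
      have h2 : n • φ (P.root k) < 0 := nsmul_neg h hn.ne'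
      exact not_le_of_gt h2 h1

/-- a regular additive functional to a linearly ordered group -/
theorem exists_regular_addHom (P : RootPairing ι ℤ M N) [Finite ι] :
    ∃ (n : ℕ) (φ : M →+ Lex (Fin n → ℤ)), ∀ i : ι, 0 < φ (P.root i) ∨ φ (P.root i) < 0 := by
  classical
  have : Fintype ι := Fintype.ofFinite ι
  let e : ι ≃ Fin (Fintype.card ι) := Fintype.equivFin ι
  let φ : M →+ Lex (Fin (Fintype.card ι) → ℤ) :=
    { toFun := fun m => toLex (fun j => P.toLinearMap m (P.coroot (e.symm j)))
      map_zero' := by
        apply ofLex_inj.mp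
        funext j
        simp
        rfl
      map_add' := by
        intro x y
        apply ofLex_inj.mp
        funext j
        simp
        rfl }
  refine ⟨_, φ, fun i => ?_⟩
  have hne : φ (P.root i) ≠ 0 := by
    intro h
    have h1 := congrArg (fun f => (ofLex f) (e i)) h
    simp [φ] at h1
    change (2 : ℤ) = 0 at h1
    omega
  rcases lt_trichotomy (φ (P.root i)) 0 with h | h | h
  · exact Or.inr h
  · exact absurd h hne
  · exact Or.inl h

/-- positive systems exist -/
theorem exists_isPosSys (P : RootPairing ι ℤ M N) [Finite ι] : ∃ S : Set ι, IsPosSys P S := by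
  obtain ⟨n, φ, hφ⟩ := exists_regular_addHom P
  exact ⟨_, isPosSys_of_orderedAddHom φ hφ⟩

/-- simple systems exist -/
theorem exists_isSimpleSys (P : RootPairing ι ℤ M N) [Finite ι] : ∃ Δ : Set ι, IsSimpleSys P Δ := by
  obtain ⟨S, hS⟩ := exists_isPosSys P
  exact ⟨_, isSimpleSys_indec hS⟩

/-- a positive system is closed -/
theorem isClosedSub_of_isPosSys {S : Set ι} (hS : IsPosSys P S) : IsClosedSub P S := by
  intro i j k hi hj hk
  refine hS.sat 1 one_pos ?_
  rw [one_smul, hk]
  exact add_mem (root_mem_natSpan P hi) (root_mem_natSpan P hj)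

/-- a positive system contained in a set satisfying (P 1) and (P 2) is equal to it -/
theorem eq_of_subset_of_disjoint {S S' : Set ι} (hS : IsPosSys P S) (hsub : S ⊆ S')
    (hdis : ∀ i ∈ S', P.reflectionPerm i i ∉ S') : S = S' := by
  apply Set.Subset.antisymm hsub
  intro i hi
  rcases hS.cover i with h | h
  · exact h
  · exact absurd (hsub h) (hdis i hi)

/-- the reflection in a simple root of a positive system `S` maps `S` minus the multiples of that
root into `S` -/
theorem reflectionPerm_mem_of_indec [Finite ι] {S : Set ι} (hS : IsPosSys P S) {i k : ι}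
    (hi : i ∈ indec P S) (hk : k ∈ S) (hnp : ∀ n : ℕ, P.root k ≠ n • P.root i) :
    P.reflectionPerm i k ∈ S := by
  have h1 := eq_posOf_indec hS
  rw [h1] at hk ⊢
  exact reflectionPerm_mem_posOf (isSimpleSys_indec hS) hk hi hnp

/-- **SGA3 XXI 3.3.? ** If `S` is a positive system and `P'` a closed set of roots containing each
root or its opposite, then `w(S) ⊆ P'` for some `w` in the Weyl group. -/
theorem exists_weylGroup_image_posSys_subset_closed [Finite ι] {S : Set ι} (hS : IsPosSys P S)
    {P' : Set ι} (hP2 : ∀ i : ι, i ∈ P' ∨ P.reflectionPerm i i ∈ P') (hcl : IsClosedSub P P') :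
    ∃ g : P.Aut, g ∈ P.weylGroup ∧ (fun i : ι => g • i) '' S ⊆ P' := by
  classical
  -- choose `g` maximising the number of elements of `g(S) ∩ P'`
  let f : P.Aut → ℕ := fun g => (((fun i : ι => g • i) '' S) ∩ P').ncard
  let V : Set ℕ := f '' (P.weylGroup : Set P.Aut)
  have hVne : V.Nonempty := ⟨f 1, 1, one_mem _, rfl⟩
  have hVbdd : BddAbove V := by
    refine ⟨Nat.card ι, ?_⟩
    rintro _ ⟨g, -, rfl⟩
    have := Set.ncard_le_ncard (Set.subset_univ (((fun i : ι => g • i) '' S) ∩ P'))
      Set.finite_univ
    rwa [Set.ncard_univ] at this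
  obtain ⟨g, hg, hgmax⟩ := Nat.sSup_mem hVne hVbdd
  have hmax : ∀ g' ∈ P.weylGroup, f g' ≤ f g := by
    intro g' hg'
    rw [hgmax]
    exact le_csSup hVbdd ⟨g', hg', rfl⟩
  refine ⟨g, hg, ?_⟩
  set S' : Set ι := (fun i : ι => g • i) '' S with hS'def
  have hS' : IsPosSys P S' := isPosSys_image g hS
  -- it suffices that the simple roots of `g(S)` lie in `P'`
  by_contra hnot
  have hex : ∃ α ∈ indec P S', α ∉ P' := by
    by_contra hall
    push Not at hall
    apply hnot
    intro k hk
    apply mem_of_isClosedSub_of_mem_natSpan hcl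
    have h1 := root_mem_natSpan_indec hS' k hk
    exact natSpan_mono P hall h1
  obtain ⟨α, hα, hαP'⟩ := hex
  have hαneg : P.reflectionPerm α α ∈ P' := (hP2 α).resolve_left hαP'
  -- no positive multiple of `α` lies in `P'`
  have hmult : ∀ k : ι, ∀ n : ℕ, P.root k = n • P.root α → k ∉ P' := by
    intro k n hkn hkP'
    rcases eq_one_or_two_of_root_eq_nsmul P hkn with rfl | rfl
    · rw [one_smul] at hkn
      exact hαP' (P.root.injective hkn ▸ hkP')
    · apply hαP'
      refine hcl hkP' hαneg ?_
      rw [hkn, root_reflectionPerm_self, two_smul]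
      abel
  -- compare with `s_α g`
  have hg' : Equiv.reflection P α * g ∈ P.weylGroup :=
    mul_mem (P.reflection_mem_weylGroup α) hg
  have hlt : f g < f (Equiv.reflection P α * g) := by
    apply Set.ncard_lt_ncard _ (Set.toFinite _)
    have himage : (fun i : ι => (Equiv.reflection P α * g) • i) '' S =
        (fun i : ι => Equiv.reflection P α • i) '' S' := by
      rw [hS'def, Set.image_image]
      simp only [mul_smul]
    rw [himage]
    constructor
    · rintro k ⟨hkS', hkP'⟩
      refine ⟨?_, hkP'⟩
      rw [mem_image_smul_iff, Equiv.reflection_inv, reflection_smul_idx]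
      apply reflectionPerm_mem_of_indec hS' hα hkS'
      intro n hn
      exact hmult k n hn hkP'
    · intro hsub
      have h1 : P.reflectionPerm α α ∈
          ((fun i : ι => Equiv.reflection P α • i) '' S') ∩ P' :=
        ⟨⟨α, indec_subset S' hα, rfl⟩, hαneg⟩
      have h2 := hsub h1
      exact hS'.disjoint (indec_subset S' hα) h2.1
  exact absurd (hmax _ hg') (not_le_of_gt hlt)

/-- **The Weyl group acts transitively on the positive systems.** -/
theorem weylGroup_transitive_posSys [Finite ι] {S S' : Set ι} (hS : IsPosSys P S)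
    (hS' : IsPosSys P S') :
    ∃ g : P.Aut, g ∈ P.weylGroup ∧ (fun i : ι => g • i) '' S = S' := by
  obtain ⟨g, hg, hsub⟩ := exists_weylGroup_image_posSys_subset_closed hS hS'.cover
    (isClosedSub_of_isPosSys hS')
  exact ⟨g, hg, eq_of_subset_of_disjoint (isPosSys_image g hS) hsub (fun i hi => hS'.disjoint hi)⟩

/-- **The Weyl group acts transitively on the simple systems.** -/
theorem weylGroup_transitive_simpleSys [Finite ι] {Δ Δ' : Set ι} (hΔ : IsSimpleSys P Δ)
    (hΔ' : IsSimpleSys P Δ') :
    ∃ g : P.Aut, g ∈ P.weylGroup ∧ (fun i : ι => g • i) '' Δ = Δ' := by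
  obtain ⟨g, hg, h⟩ := weylGroup_transitive_posSys (posOf_isPosSys hΔ) (posOf_isPosSys hΔ')
  refine ⟨g, hg, ?_⟩
  rw [← posOf_image] at h
  have h1 := eq_indec_posOf (isSimpleSys_image g hΔ)
  rw [h, ← eq_indec_posOf hΔ'] at h1
  exact h1

/-- A set of roots is a positive system iff it satisfies (P 1), (P 2) and is closed. -/
theorem isPosSys_iff_closed [Finite ι] (S : Set ι) :
    IsPosSys P S ↔ ((∀ i ∈ S, P.reflectionPerm i i ∉ S) ∧
      (∀ i : ι, i ∈ S ∨ P.reflectionPerm i i ∈ S) ∧ IsClosedSub P S) := by
  constructor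
  · intro hS
    exact ⟨fun i hi => hS.disjoint hi, hS.cover, isClosedSub_of_isPosSys hS⟩
  · rintro ⟨h1, h2, h3⟩
    obtain ⟨S₀, hS₀⟩ := exists_isPosSys P
    obtain ⟨g, -, hsub⟩ := exists_weylGroup_image_posSys_subset_closed hS₀ h2 h3
    have := eq_of_subset_of_disjoint (isPosSys_image g hS₀) hsub h1
    rw [← this]
    exact isPosSys_image g hS₀

end Groth.Agent.Lib.Helper4.RootDLib
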