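import Mathlib
import Groth.Prelude.Def_W4sga3xxiRoot
import Groth.Agent.Lib.Helper4.RootDWeyl

/-!
# Closed symmetric partitions of the roots, orthogonality (SGA3 XXI, 7.1)
-/

set_option autoImplicit false

open Module Set Submodule RootPairing

namespace Groth.Agent.Lib.Helper4.RootDLib

open RootD

variable {ι M N : Type*} [AddCommGroup M] [AddCommGroup N] {P : RootPairing ι ℤ M N}

lemma not_isOrthogonal_iff (P : RootPairing ι ℤ M N) (i j : ι) :
    ¬ P.IsOrthogonal i j ↔ P.pairing i j ≠ 0 := by
  constructor
  · intro h h0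
    exact h ⟨h0, P.pairing_eq_zero_iff'.mp h0⟩
  · intro h h0
    exact h h0.1

/-- for a partition into closed symmetric subsets, `α`, `β`, `α + β` lie in the same part -/
theorem closedSymm_partition_add_mem {R' : Set ι} (hc : IsClosedSub P R')
    (hs : IsSymmSub P R') (hc' : IsClosedSub P R'ᶜ) (hs' : IsSymmSub P R'ᶜ)
    {i j k : ι} (h : P.root k = P.root i + P.root j) :
    (i ∈ R' ∧ j ∈ R' ∧ k ∈ R') ∨ (i ∉ R' ∧ j ∉ R' ∧ k ∉ R') := by
  have key : ∀ (T : Set ι), IsClosedSub P T → IsSymmSub P T → IsClosedSub P Tᶜ → IsSymmSub P Tᶜ →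
      i ∈ T → (j ∈ T ∧ k ∈ T) := by
    intro T hT hTs hT' hTs' hi
    by_cases hj : j ∈ T
    · exact ⟨hj, hT hi hj h⟩
    · exfalso
      by_cases hk : k ∈ T
      · apply hj
        refine hT hk (hTs hi) ?_
        rw [root_reflectionPerm_self, h]
        abel
      · have : i ∈ Tᶜ := by
          refine hT' (show k ∈ Tᶜ from hk) (hTs' (show j ∈ Tᶜ from hj)) ?_
          rw [root_reflectionPerm_self, h]
          abel
        exact this hi
  by_cases hi : i ∈ R'
  · exact Or.inl ⟨hi, key R' hc hs hc' hs' hi⟩
  · have := key R'ᶜ hc' hs' (by rwa [compl_compl]) (by rwa [compl_compl]) hi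
    exact Or.inr ⟨hi, this.1, this.2⟩

/-- non-orthogonal roots are `±` each other or their sum or difference is a root -/
theorem exists_root_of_not_isOrthogonal [Finite ι] (P : RootPairing ι ℤ M N) {i j : ι}
    (hij : ¬ P.IsOrthogonal i j) :
    i = j ∨ P.reflectionPerm j j = i ∨ (∃ k, P.root k = P.root i - P.root j) ∨
      (∃ k, P.root k = P.root i + P.root j) := by
  rw [not_isOrthogonal_iff] at hij
  by_cases h1 : i = j
  · exact Or.inl h1
  by_cases h2 : P.reflectionPerm j j = i
  · exact Or.inr (Or.inl h2)
  rcases lt_or_gt_of_ne hij with h | h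
  · right; right; right
    have h' : P.pairingIn ℤ i j < 0 := by rw [pairing_eq_pairingIn]; exact h
    have hne : P.root i ≠ -P.root j := by
      intro h3
      apply h2
      apply P.root.injective
      rw [root_reflectionPerm_self, h3]
    obtain ⟨k, hk⟩ := P.root_add_root_mem_of_pairingIn_neg h' hne
    exact ⟨k, hk⟩
  · right; right; left
    exact exists_root_eq_sub P h h1

/-- a part of a closed symmetric partition contains every root not orthogonal to one of its roots -/
theorem mem_of_closedSymm_partition_of_not_orthogonal [Finite ι] {R' : Set ι}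
    (hc : IsClosedSub P R') (hs : IsSymmSub P R') (hc' : IsClosedSub P R'ᶜ)
    (hs' : IsSymmSub P R'ᶜ) {i j : ι} (hi : i ∈ R') (hij : ¬ P.IsOrthogonal i j) : j ∈ R' := by
  rcases exists_root_of_not_isOrthogonal P hij with h | h | ⟨k, hk⟩ | ⟨k, hk⟩
  · exact h ▸ hi
  · have := hs hi
    rw [← h, reflectionPerm_self_self] at this
    exact this
  · have h1 : P.root i = P.root k + P.root j := by rw [hk]; abel
    rcases closedSymm_partition_add_mem hc hs hc' hs' h1 with ⟨_, hj, _⟩ | ⟨_, _, hi'⟩
    · exact hj
    · exact absurd hi hi'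
  · rcases closedSymm_partition_add_mem hc hs hc' hs' hk with ⟨_, hj, _⟩ | ⟨hi', _, _⟩
    · exact hj
    · exact absurd hi hi'

lemma not_isOrthogonal_reflectionPerm_self (P : RootPairing ι ℤ M N) (i : ι) :
    ¬ P.IsOrthogonal i (P.reflectionPerm i i) := by
  rw [not_isOrthogonal_iff]
  have : P.pairing i (P.reflectionPerm i i) = -2 := by
    simp
  rw [this]
  norm_num

lemma not_isOrthogonal_of_add [Finite ι] (P : RootPairing ι ℤ M N) {i j k : ι}
    (h : P.root k = P.root i + P.root j) : ¬ P.IsOrthogonal i k ∨ ¬ P.IsOrthogonal j k := by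
  by_contra hcon
  push Not at hcon
  have h1 := congrArg (fun x => P.toLinearMap x (P.coroot k)) h
  simp only [map_add, LinearMap.add_apply] at h1
  have h2 : P.pairing i k = 0 := hcon.1.1
  have h3 : P.pairing j k = 0 := hcon.2.1
  have h4 : P.pairing k k = 2 := P.pairing_same k
  simp only [RootPairing.pairing, RootPairing.root'] at h2 h3 h4
  rw [h2, h3, h4] at h1
  norm_num at h1

/-- the class of a root for the relation generated by non-orthogonality is closed and symmetric, as is
its complement -/
theorem nonOrthogonal_component_closedSymm [Finite ι] (P : RootPairing ι ℤ M N) (i : ι) :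
    IsClosedSub P {j : ι | Relation.ReflTransGen (fun a b : ι => ¬ P.IsOrthogonal a b) i j} ∧
      IsSymmSub P {j : ι | Relation.ReflTransGen (fun a b : ι => ¬ P.IsOrthogonal a b) i j} ∧
      IsClosedSub P {j : ι | Relation.ReflTransGen (fun a b : ι => ¬ P.IsOrthogonal a b) i j}ᶜ ∧
      IsSymmSub P {j : ι | Relation.ReflTransGen (fun a b : ι => ¬ P.IsOrthogonal a b) i j}ᶜ := by
  refine ⟨?_, ?_, ?_, ?_⟩
  · intro a b k ha hb hk
    rcases not_isOrthogonal_of_add P hk with h | h
    · exact Relation.ReflTransGen.tail ha h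
    · exact Relation.ReflTransGen.tail hb h
  · intro a ha
    exact Relation.ReflTransGen.tail ha (not_isOrthogonal_reflectionPerm_self P a)
  · intro a b k ha hb hk hkC
    rcases not_isOrthogonal_of_add P hk with h | h
    · exact ha (Relation.ReflTransGen.tail hkC (fun h' => h h'.symm))
    · exact hb (Relation.ReflTransGen.tail hkC (fun h' => h h'.symm))
  · intro a ha ha'
    apply ha
    have := Relation.ReflTransGen.tail ha'
      (not_isOrthogonal_reflectionPerm_self P (P.reflectionPerm a a))
    rwa [reflectionPerm_self_self] at this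

/-- for orthogonal roots `α`, `β`: `α + β` is a root iff `α - β` is -/
theorem add_mem_range_iff_sub_mem_of_orthogonal (P : RootPairing ι ℤ M N) {i j : ι}
    (h : P.IsOrthogonal i j) :
    P.root i + P.root j ∈ Set.range P.root ↔ P.root i - P.root j ∈ Set.range P.root := by
  have h1 : P.reflection j (P.root i) = P.root i := by
    rw [RootPairing.reflection_apply_root, h.1, zero_smul, sub_zero]
  constructor
  · rintro ⟨k, hk⟩
    refine ⟨P.reflectionPerm j k, ?_⟩
    rw [RootPairing.root_reflectionPerm, hk, map_add, h1, RootPairing.reflection_apply_self]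
    abel
  · rintro ⟨k, hk⟩
    refine ⟨P.reflectionPerm j k, ?_⟩
    rw [RootPairing.root_reflectionPerm, hk, map_sub, h1, RootPairing.reflection_apply_self]
    abel

end Groth.Agent.Lib.Helper4.RootDLib
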