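import Mathlib
import Groth.Prelude.Def_W4sga3xxiRoot
import Groth.Agent.Lib.Helper4.RootDComp

/-!
# Closed sets of roots containing a positive system (parabolic sets) (SGA3 XXI, 3.3)
-/

set_option autoImplicit false

open Module Set Submodule RootPairing

namespace Groth.Agent.Lib.Helper4.RootDLib

open RootD

variable {ι M N : Type*} [AddCommGroup M] [AddCommGroup N] {P : RootPairing ι ℤ M N}

/-- finitely supported non-negative combinations lie in `natSpan` -/
lemma finsupp_sum_mem_natSpan {Δ : Set ι} (c : ι →₀ ℕ) (hc : (↑c.support : Set ι) ⊆ Δ) :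
    (c.sum fun i n => n • P.root i) ∈ natSpan P Δ := by
  rw [Finsupp.sum]
  exact sum_mem (fun i hi => nsmul_mem (root_mem_natSpan P (hc hi)) _)

/-- Let `S ⊆ P'` with `S` a positive system with simple system `Δ` and `P'` closed.  If `k ∈ P'` is a
negative root then all simple roots occurring in `-k` have their opposite in `P'`. -/
theorem support_subset_of_mem_closed [Finite ι] {S : Set ι} (hS : IsPosSys P S) {Δ : Set ι}
    (hΔ : IsSimpleSys P Δ) (hΔS : Δ ⊆ S) {P' : Set ι} (hcl : IsClosedSub P P') (hSP : S ⊆ P') :
    ∀ (t : ℕ) (c : ι →₀ ℕ) (k : ι), (↑c.support : Set ι) ⊆ Δ → (c.sum fun _ n => n) = t →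
      (c.sum fun i n => n • P.root i) = -P.root k → k ∈ P' →
      ∀ e ∈ c.support, P.reflectionPerm e e ∈ P' := by
  classical
  intro t
  induction t with
  | zero =>
    intro c k _ hsum hck _
    exfalso
    have hc0 : c = 0 := by
      ext i
      by_contra h
      have h1 : c i ≤ c.sum fun _ n => n :=
        Finset.single_le_sum (f := fun i => c i) (fun _ _ => Nat.zero_le _)
          (Finsupp.mem_support_iff.mpr h)
      simp only [Finsupp.coe_zero, Pi.zero_apply] at h
      omega
    apply P.ne_zero k
    rw [hc0] at hck
    simpa using hck.symm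
  | succ t ih =>
    intro c k hc hsum hck hkP'
    -- `β = -k` is a positive root
    set β := P.reflectionPerm k k with hβ
    have hβroot : P.root β = c.sum fun i n => n • P.root i := by
      rw [hβ, root_reflectionPerm_self, hck]
    obtain ⟨e, he, -, hpos, -⟩ := exists_pairing_pos_of_nsmul_eq_sum (P := P) c.support id c β 1
      one_pos (by rw [one_smul, hβroot]; rfl)
    simp only [id] at hpos
    have heΔ : e ∈ Δ := hc he
    by_cases hβe : β = e
    · -- `β` is simple: `c = single e 1`
      have hcs : c = Finsupp.single e 1 := by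
        apply finsupp_eq_of_linearIndepOn hΔ.linInd _ _ hc
        · intro i hi
          rw [Finsupp.support_single_ne_zero _ one_ne_zero, Finset.coe_singleton,
            Set.mem_singleton_iff] at hi
          rw [hi]
          exact heΔ
        · rw [← hβroot, hβe]
          simp
      intro e' he'
      rw [hcs, Finsupp.support_single_ne_zero _ one_ne_zero, Finset.mem_singleton] at he'
      rw [he', ← hβe, hβ, reflectionPerm_self_self]
      exact hkP'
    · obtain ⟨k', hk'⟩ := exists_root_eq_sub P hpos hβe
      have hce : c e ≠ 0 := Finsupp.mem_support_iff.mp he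
      have hcc : c - Finsupp.single e 1 + Finsupp.single e 1 = c :=
        Finsupp.sub_add_single_one_cancel hce
      have h1 : ((c - Finsupp.single e 1).sum fun _ n => n) + 1 = t + 1 := by
        rw [← hsum]
        conv_rhs => rw [← hcc]
        rw [Finsupp.sum_add_index' (by simp) (by intro i m n; rfl),
          Finsupp.sum_single_index (by simp)]
      have h2 : ((c - Finsupp.single e 1).sum fun i n => n • P.root i) = P.root k' := by
        rw [hk', hβroot]
        conv_rhs => rw [← hcc]
        rw [Finsupp.sum_add_index' (by simp) (by intro i m n; rw [add_smul]),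
          Finsupp.sum_single_index (by simp), one_smul]
        abel
      have hsupp' : (↑(c - Finsupp.single e 1).support : Set ι) ⊆ Δ :=
        fun i hi => hc (Finsupp.support_tsub hi)
      -- `k'` is positive
      have hk'S : k' ∈ S := by
        rw [eq_posOf_of_subset hS hΔ hΔS]
        change P.root k' ∈ natSpan P Δ
        rw [← h2]
        exact finsupp_sum_mem_natSpan _ hsupp'
      -- `-k' = k + e ∈ P'`
      have hnk' : P.reflectionPerm k' k' ∈ P' := by
        refine hcl hkP' (hSP (hΔS heΔ)) ?_
        rw [root_reflectionPerm_self, hk', hβ, root_reflectionPerm_self]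
        abel
      -- `-e = k + k' ∈ P'`
      have hne : P.reflectionPerm e e ∈ P' := by
        refine hcl hkP' (hSP hk'S) ?_
        rw [root_reflectionPerm_self, hk', hβ, root_reflectionPerm_self]
        abel
      have hih := ih (c - Finsupp.single e 1) (P.reflectionPerm k' k') hsupp' (by omega)
        (by rw [h2, root_reflectionPerm_self, neg_neg]) hnk'
      intro e' he'
      by_cases hee : e' = e
      · rw [hee]; exact hne
      · apply hih
        rw [Finsupp.mem_support_iff] at he' ⊢
        rw [Finsupp.tsub_apply, Finsupp.single_eq_of_ne hee]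
        simpa using he'

/-- **SGA3 XXI 3.3.?**: a closed set of roots `P'` containing a positive system `S` with simple system
`Δ` is the union of `S` and of the roots which are non-positive combinations of
`Δ' = {α ∈ Δ | -α ∈ P'}`. -/
theorem closed_superset_posSys_eq [Finite ι] {S : Set ι} (hS : IsPosSys P S) {Δ : Set ι}
    (hΔ : IsSimpleSys P Δ) (hΔS : Δ ⊆ S) {P' : Set ι} (hcl : IsClosedSub P P') (hSP : S ⊆ P') :
    P' = S ∪ {k : ι | -P.root k ∈ natSpan P {i : ι | i ∈ Δ ∧ P.reflectionPerm i i ∈ P'}} := by
  classical
  apply Set.Subset.antisymm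
  · intro k hk
    rcases hS.cover k with h | h
    · exact Or.inl h
    · right
      have h1 := root_mem_natSpan_of_mem_posSys hS hΔ hΔS h
      rw [root_reflectionPerm_self] at h1
      obtain ⟨c, hc, hck⟩ := exists_finsupp_of_mem_natSpan h1
      have h2 := support_subset_of_mem_closed hS hΔ hΔS hcl hSP _ c k hc rfl hck hk
      change -P.root k ∈ natSpan P {i : ι | i ∈ Δ ∧ P.reflectionPerm i i ∈ P'}
      rw [← hck]
      exact finsupp_sum_mem_natSpan c (fun e he => ⟨hc he, h2 e he⟩)
  · rintro k (hk | hk)
    · exact hSP hk
    · apply mem_of_isClosedSub_of_mem_natSpan hcl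
      have h1 : P.root k = -(-P.root k) := by rw [neg_neg]
      rw [h1]
      have hk' : -P.root k ∈ natSpan P {i : ι | i ∈ Δ ∧ P.reflectionPerm i i ∈ P'} := hk
      have key : ∀ x ∈ natSpan P {i : ι | i ∈ Δ ∧ P.reflectionPerm i i ∈ P'},
          -x ∈ natSpan P P' := by
        intro x hx
        induction hx using AddSubmonoid.closure_induction with
        | mem x hx =>
          obtain ⟨i, hi, rfl⟩ := hx
          rw [← root_reflectionPerm_self]
          exact root_mem_natSpan P hi.2
        | zero => rw [neg_zero]; exact zero_mem _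
        | add a b _ _ iha ihb => rw [neg_add]; exact add_mem iha ihb
      exact key _ hk'

/-- a closed set of roots containing each root or its opposite is of the form `ℕΔ ∪ -ℕΔ'` -/
theorem exists_simpleSys_of_closed_P2 [Finite ι] {P' : Set ι}
    (hP2 : ∀ i : ι, i ∈ P' ∨ P.reflectionPerm i i ∈ P') (hcl : IsClosedSub P P') :
    ∃ Δ Δ' : Set ι, IsSimpleSys P Δ ∧ Δ' ⊆ Δ ∧
      P' = posOf P Δ ∪ {k : ι | -P.root k ∈ natSpan P Δ'} := by
  obtain ⟨S₀, hS₀⟩ := exists_isPosSys P
  obtain ⟨g, -, hsub⟩ := exists_weylGroup_image_posSys_subset_closed hS₀ hP2 hcl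
  set S := (fun i : ι => g • i) '' S₀ with hSdef
  have hS : IsPosSys P S := isPosSys_image g hS₀
  refine ⟨indec P S, {i : ι | i ∈ indec P S ∧ P.reflectionPerm i i ∈ P'},
    isSimpleSys_indec hS, fun i hi => hi.1, ?_⟩
  have := closed_superset_posSys_eq hS (isSimpleSys_indec hS) (indec_subset S) hcl hsub
  rw [← eq_posOf_indec hS]
  exact this

end Groth.Agent.Lib.Helper4.RootDLib
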