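import Mathlib
import Groth.Prelude.Def_W4sga3xxiRoot
import Groth.Agent.Lib.Helper4.RootDPara

/-!
# Simple reflections generate the Weyl group (SGA3 XXI, 3.? / Bourbaki VI §1 no. 5)
-/

set_option autoImplicit false

open Module Set Submodule RootPairing

namespace Groth.Agent.Lib.Helper4.RootDLib

open RootD

variable {ι M N : Type*} [AddCommGroup M] [AddCommGroup N] {P : RootPairing ι ℤ M N}

/-- the subgroup generated by the reflections in a set of roots -/
noncomputable def reflSubgroup (P : RootPairing ι ℤ M N) (Δ : Set ι) : Subgroup P.Aut :=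
  Subgroup.closure ((fun i : ι => Equiv.reflection P i) '' Δ)

lemma reflection_mem_reflSubgroup {Δ : Set ι} {i : ι} (hi : i ∈ Δ) :
    Equiv.reflection P i ∈ reflSubgroup P Δ :=
  Subgroup.subset_closure ⟨i, hi, rfl⟩

lemma reflSubgroup_le_weylGroup (Δ : Set ι) : reflSubgroup P Δ ≤ P.weylGroup := by
  apply Subgroup.closure_mono
  rintro _ ⟨i, -, rfl⟩
  exact ⟨i, rfl⟩

lemma isIndiv_smul (g : P.Aut) {k : ι} (hk : IsIndiv P k) : IsIndiv P (g • k) := by
  intro j hj
  apply hk (g⁻¹ • j)
  rw [root_smul] at hj ⊢
  rw [smul_comm, hj, inv_smul_smul]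

lemma isIndiv_reflectionPerm_self {k : ι} (hk : IsIndiv P k) :
    IsIndiv P (P.reflectionPerm k k) := isIndiv_smul (Equiv.reflection P k) hk

/-- Every indivisible positive root is conjugate to a simple root under the group generated by the
simple reflections. -/
theorem exists_reflSubgroup_smul_eq_of_pos [Finite ι] {Δ : Set ι} (hΔ : IsSimpleSys P Δ) :
    ∀ (t : ℕ) (c : ι →₀ ℕ) (k : ι), (↑c.support : Set ι) ⊆ Δ → (c.sum fun _ n => n) = t →
      (c.sum fun i n => n • P.root i) = P.root k → IsIndiv P k →
      ∃ g ∈ reflSubgroup P Δ, ∃ i ∈ Δ, g • i = k := by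
  classical
  intro t
  induction t using Nat.strong_induction_on with
  | _ t ih =>
    intro c k hc hsum hck hind
    by_cases hkΔ : k ∈ Δ
    · exact ⟨1, one_mem _, k, hkΔ, one_smul _ _⟩
    · have hkpos : k ∈ posOf P Δ := by
        change P.root k ∈ natSpan P Δ
        rw [← hck]
        exact finsupp_sum_mem_natSpan c hc
      obtain ⟨i, hi, hpos, hsk⟩ := exists_simple_pairing_pos_of_pos_not_simple hΔ hkpos hkΔ hind
      obtain ⟨d, hd, hdk⟩ := exists_finsupp_of_mem_natSpan hsk
      -- `d + p • single i = c`
      obtain ⟨p, hp⟩ : ∃ p : ℕ, (p : ℤ) = P.pairing k i := ⟨(P.pairing k i).toNat, by omega⟩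
      have hp0 : 0 < p := by omega
      have hdc : d + Finsupp.single i p = c := by
        apply finsupp_eq_of_linearIndepOn hΔ.linInd _ _ _ hc
        · rw [Finsupp.sum_add_index' (by simp) (by intro i m n; rw [add_smul]),
            Finsupp.sum_single_index (by simp), hdk, hck, RootPairing.root_reflectionPerm,
            RootPairing.reflection_apply_root, ← hp, natCast_zsmul]
          abel
        · intro j hj
          rcases Finset.mem_union.mp (Finsupp.support_add hj) with h | h
          · exact hd h
          · rw [Finsupp.support_single_ne_zero _ hp0.ne', Finset.mem_singleton] at h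
            rw [h]
            exact hi
      have hsum' : (d.sum fun _ n => n) + p = t := by
        rw [← hsum, ← hdc, Finsupp.sum_add_index' (by simp) (by intro i m n; rfl),
          Finsupp.sum_single_index (by simp)]
      obtain ⟨g, hg, e, he, hge⟩ := ih (d.sum fun _ n => n) (by omega) d (P.reflectionPerm i k)
        hd rfl hdk (isIndiv_smul (Equiv.reflection P i) hind)
      refine ⟨Equiv.reflection P i * g, mul_mem (reflection_mem_reflSubgroup hi) hg, e, he, ?_⟩
      rw [mul_smul, hge, reflection_smul_idx]
      simp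

/-- Every indivisible root is conjugate to a simple root under the group generated by the simple
reflections. -/
theorem exists_reflSubgroup_smul_eq [Finite ι] {Δ : Set ι} (hΔ : IsSimpleSys P Δ) {k : ι}
    (hk : IsIndiv P k) : ∃ g ∈ reflSubgroup P Δ, ∃ i ∈ Δ, g • i = k := by
  rcases hΔ.mem_or_neg_mem k with h | h
  · obtain ⟨c, hc, hck⟩ := exists_finsupp_of_mem_natSpan h
    exact exists_reflSubgroup_smul_eq_of_pos hΔ _ c k hc rfl hck hk
  · rw [← root_reflectionPerm_self] at h
    obtain ⟨c, hc, hck⟩ := exists_finsupp_of_mem_natSpan h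
    obtain ⟨g, hg, e, he, hge⟩ := exists_reflSubgroup_smul_eq_of_pos hΔ _ c _ hc rfl hck
      (isIndiv_reflectionPerm_self hk)
    refine ⟨g * Equiv.reflection P e, mul_mem hg (reflection_mem_reflSubgroup he), e, he, ?_⟩
    rw [mul_smul, reflection_smul_idx, smul_reflectionPerm_self, hge, reflectionPerm_self_self]

/-- reflections in proportional roots agree -/
lemma reflection_eq_of_root_eq_two_smul [Finite ι] {k j : ι} (h : P.root k = (2 : ℤ) • P.root j) :
    Equiv.reflection P k = Equiv.reflection P j := by
  have htf : IsAddTorsionFree N := isAddTorsionFree_weight P.flip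
  have hc : (2 : ℤ) • P.coroot k = P.coroot j := smul_coroot_eq_of_root_eq_smul (P := P) j k 2 h
  apply Equiv.weightHom_injective
  ext x
  change Equiv.reflection P k • x = Equiv.reflection P j • x
  rw [Equiv.reflection_smul, Equiv.reflection_smul, RootPairing.reflection_apply,
    RootPairing.reflection_apply]
  congr 1
  simp only [RootPairing.coroot', LinearMap.flip_apply]
  rw [← hc, map_smul, h, smul_eq_mul, mul_comm, mul_smul]

/-- a divisible root is twice an indivisible root -/
lemma exists_indiv_of_not_isIndiv (P : RootPairing ι ℤ M N) {k : ι} (hk : ¬ IsIndiv P k) :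
    ∃ j, IsIndiv P j ∧ P.root k = (2 : ℤ) • P.root j := by
  unfold IsIndiv at hk
  push Not at hk
  obtain ⟨j, hj⟩ := hk
  refine ⟨j, ?_, hj.symm⟩
  intro j' hj'
  have h4 : P.root k = (4 : ℕ) • P.root j' := by
    rw [← hj, ← hj', smul_smul, ← natCast_zsmul]
    norm_num
  rcases eq_one_or_two_of_root_eq_nsmul P h4 with h | h <;> omega

/-- **The simple reflections generate the Weyl group.** -/
theorem reflSubgroup_simpleSys_eq_weylGroup [Finite ι] {Δ : Set ι} (hΔ : IsSimpleSys P Δ) :
    reflSubgroup P Δ = P.weylGroup := by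
  apply le_antisymm (reflSubgroup_le_weylGroup Δ)
  have hindiv : ∀ k, IsIndiv P k → Equiv.reflection P k ∈ reflSubgroup P Δ := by
    intro k hk
    obtain ⟨g, hg, e, he, hge⟩ := exists_reflSubgroup_smul_eq hΔ hk
    rw [← hge, ← aut_conj_reflection]
    exact mul_mem (mul_mem hg (reflection_mem_reflSubgroup he)) (inv_mem hg)
  unfold RootPairing.weylGroup
  rw [Subgroup.closure_le]
  rintro _ ⟨k, rfl⟩
  by_cases hk : IsIndiv P k
  · exact hindiv k hk
  · obtain ⟨j, hj, hkj⟩ := exists_indiv_of_not_isIndiv P hk
    rw [reflection_eq_of_root_eq_two_smul hkj]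
    exact hindiv j hj

/-- the reflections in the indivisible roots generate the Weyl group -/
theorem closure_reflection_indiv_eq_weylGroup [Finite ι] (P : RootPairing ι ℤ M N) :
    Subgroup.closure ((fun i : ι => Equiv.reflection P i) '' {i : ι | IsIndiv P i}) =
      P.weylGroup := by
  apply le_antisymm
  · apply Subgroup.closure_mono
    rintro _ ⟨i, -, rfl⟩
    exact ⟨i, rfl⟩
  · unfold RootPairing.weylGroup
    rw [Subgroup.closure_le]
    rintro _ ⟨k, rfl⟩
    by_cases hk : IsIndiv P k
    · exact Subgroup.subset_closure ⟨k, hk, rfl⟩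
    · obtain ⟨j, hj, hkj⟩ := exists_indiv_of_not_isIndiv P hk
      rw [reflection_eq_of_root_eq_two_smul hkj]
      exact Subgroup.subset_closure ⟨j, hj, rfl⟩

end Groth.Agent.Lib.Helper4.RootDLib
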