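import Mathlib
import Groth.Prelude.Def_W4sga3xxiRoot
import Groth.Agent.Lib.Helper4.RootDGen

/-!
# Words in the simple reflections: the deletion property and simple transitivity
(Bourbaki VI §1 no. 5-6, SGA3 XXI 3.?)
-/

set_option autoImplicit false

open Module Set Submodule RootPairing

namespace Groth.Agent.Lib.Helper4.RootDLib

open RootD

variable {ι M N : Type*} [AddCommGroup M] [AddCommGroup N] {P : RootPairing ι ℤ M N}

/-- the product of the reflections of a word -/
noncomputable def wordProd (P : RootPairing ι ℤ M N) (l : List ι) : P.Aut :=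
  (l.map fun a => Equiv.reflection P a).prod

@[simp] lemma wordProd_nil : wordProd P [] = 1 := rfl

@[simp] lemma wordProd_cons (a : ι) (l : List ι) :
    wordProd P (a :: l) = Equiv.reflection P a * wordProd P l := by
  simp [wordProd]

lemma wordProd_append (l₁ l₂ : List ι) :
    wordProd P (l₁ ++ l₂) = wordProd P l₁ * wordProd P l₂ := by
  simp [wordProd]

lemma reflection_mul_self (P : RootPairing ι ℤ M N) (a : ι) :
    Equiv.reflection P a * Equiv.reflection P a = 1 := by
  rw [mul_eq_one_iff_eq_inv, Equiv.reflection_inv]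

lemma wordProd_mem_reflSubgroup {Δ : Set ι} {l : List ι} (hl : ∀ a ∈ l, a ∈ Δ) :
    wordProd P l ∈ reflSubgroup P Δ := by
  induction l with
  | nil => exact one_mem _
  | cons a l ih =>
    rw [wordProd_cons]
    exact mul_mem (reflection_mem_reflSubgroup (hl a List.mem_cons_self))
      (ih (fun b hb => hl b (List.mem_cons_of_mem a hb)))

/-- every element of the group generated by the reflections in `Δ` is the product of a word -/
lemma exists_word_of_mem_reflSubgroup {Δ : Set ι} {g : P.Aut} (hg : g ∈ reflSubgroup P Δ) :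
    ∃ l : List ι, (∀ a ∈ l, a ∈ Δ) ∧ wordProd P l = g := by
  unfold reflSubgroup at hg
  induction hg using Subgroup.closure_induction'' with
  | one => exact ⟨[], by simp, rfl⟩
  | mem x hx =>
    obtain ⟨i, hi, rfl⟩ := hx
    exact ⟨[i], by simpa using hi, by simp⟩
  | inv_mem x hx =>
    obtain ⟨i, hi, rfl⟩ := hx
    exact ⟨[i], by simpa using hi, by simp⟩
  | mul x y _ _ ihx ihy =>
    obtain ⟨l₁, h₁, rfl⟩ := ihx
    obtain ⟨l₂, h₂, rfl⟩ := ihy
    refine ⟨l₁ ++ l₂, ?_, wordProd_append l₁ l₂⟩
    intro a ha
    rcases List.mem_append.mp ha with h | h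
    · exact h₁ a h
    · exact h₂ a h

/-- **Deletion.** If `s₁ ⋯ sₘ (a)` is a negative root (`a` simple), the word `s₁ ⋯ sₘ s_a` can be
shortened by two letters. -/
theorem exists_shorter_word [Finite ι] {Δ : Set ι} (hΔ : IsSimpleSys P Δ) :
    ∀ (l : List ι), (∀ b ∈ l, b ∈ Δ) → ∀ a ∈ Δ,
      -P.root (wordProd P l • a) ∈ natSpan P Δ →
      ∃ l' : List ι, (∀ b ∈ l', b ∈ Δ) ∧ l'.length + 1 = l.length ∧
        wordProd P l * Equiv.reflection P a = wordProd P l' := by
  intro l
  induction l with
  | nil =>
    intro _ a ha hneg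
    exfalso
    rw [wordProd_nil, one_smul] at hneg
    exact P.ne_zero a (pointed_of_linearIndepOn hΔ.linInd _ (root_mem_natSpan P ha) hneg)
  | cons u l ih =>
    intro hl a ha hneg
    have hu : u ∈ Δ := hl u List.mem_cons_self
    have hl' : ∀ b ∈ l, b ∈ Δ := fun b hb => hl b (List.mem_cons_of_mem u hb)
    rw [wordProd_cons, mul_smul, reflection_smul_idx] at hneg
    rcases hΔ.mem_or_neg_mem (wordProd P l • a) with hpos | hneg'
    · -- then `wordProd l • a = u`
      obtain ⟨n, hn⟩ := exists_nsmul_of_reflectionPerm_neg hΔ hpos hu hneg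
      have hind : IsIndiv P (wordProd P l • a) :=
        isIndiv_smul _ (isIndiv_of_mem_simpleSys hΔ ha)
      have hβu : wordProd P l • a = u := by
        rcases eq_one_or_two_of_root_eq_nsmul P hn with rfl | rfl
        · rw [one_smul] at hn
          exact P.root.injective hn
        · exfalso
          apply hind u
          rw [hn, ← natCast_zsmul]
          rfl
      refine ⟨l, hl', by simp, ?_⟩
      have h1 := aut_conj_reflection P (wordProd P l) a
      rw [hβu] at h1
      rw [wordProd_cons, ← h1]
      have h2 := reflection_mul_self P a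
      calc wordProd P l * Equiv.reflection P a * (wordProd P l)⁻¹ * wordProd P l *
            Equiv.reflection P a
          = wordProd P l * (Equiv.reflection P a * Equiv.reflection P a) := by group
        _ = wordProd P l := by rw [h2, mul_one]
    · obtain ⟨l'', hl'', hlen, hprod⟩ := ih hl' a ha hneg'
      refine ⟨u :: l'', ?_, by simp [hlen], ?_⟩
      · intro b hb
        rcases List.mem_cons.mp hb with rfl | h
        · exact hu
        · exact hl'' b h
      · rw [wordProd_cons, wordProd_cons, mul_assoc, hprod]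

/-- If `w = s₁ ⋯ sₘ` is a word of minimal length in the simple reflections then `w(αₘ)` is a negative
root. -/
theorem neg_root_last_of_minimal_word [Finite ι] {Δ : Set ι} (hΔ : IsSimpleSys P Δ)
    (l : List ι) (hl : ∀ a ∈ l, a ∈ Δ) (hne : l ≠ [])
    (hmin : ∀ l' : List ι, (∀ a ∈ l', a ∈ Δ) → wordProd P l' = wordProd P l →
      l.length ≤ l'.length) :
    -P.root (wordProd P l • l.getLast hne) ∈ natSpan P Δ := by
  set a := l.getLast hne with ha
  have hla : l.dropLast ++ [a] = l := List.dropLast_append_getLast hne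
  have haΔ : a ∈ Δ := hl a (List.getLast_mem hne)
  have hl₀ : ∀ b ∈ l.dropLast, b ∈ Δ := fun b hb => hl b (List.mem_of_mem_dropLast hb)
  have hw : wordProd P l = wordProd P l.dropLast * Equiv.reflection P a := by
    conv_lhs => rw [← hla]
    rw [wordProd_append]
    simp
  have h1 : P.root (wordProd P l • a) = -P.root (wordProd P l.dropLast • a) := by
    rw [hw, mul_smul, reflection_smul_idx, smul_reflectionPerm_self, root_reflectionPerm_self]
  rw [h1, neg_neg]
  rcases hΔ.mem_or_neg_mem (wordProd P l.dropLast • a) with hpos | hneg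
  · exact hpos
  · exfalso
    obtain ⟨l', hl', hlen, hprod⟩ := exists_shorter_word hΔ l.dropLast hl₀ a haΔ hneg
    have := hmin l' hl' (by rw [hw, hprod])
    have h2 : l.length = l.dropLast.length + 1 := by
      conv_lhs => rw [← hla]
      simp
    omega

/-- **Simple transitivity.** An element of the Weyl group mapping a simple system into the positive
roots is trivial. -/
theorem eq_one_of_image_subset_posOf [Finite ι] {Δ : Set ι} (hΔ : IsSimpleSys P Δ) {g : P.Aut}
    (hg : g ∈ P.weylGroup) (hpos : ∀ a ∈ Δ, g • a ∈ posOf P Δ) : g = 1 := by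
  classical
  rw [← reflSubgroup_simpleSys_eq_weylGroup hΔ] at hg
  -- a word of minimal length
  have hex : ∃ n : ℕ, ∃ l : List ι, (∀ a ∈ l, a ∈ Δ) ∧ wordProd P l = g ∧ l.length = n := by
    obtain ⟨l, hl, hlg⟩ := exists_word_of_mem_reflSubgroup hg
    exact ⟨_, l, hl, hlg, rfl⟩
  obtain ⟨l, hl, hlg, hlen⟩ := Nat.find_spec hex
  by_cases hne : l = []
  · rw [← hlg, hne, wordProd_nil]
  · exfalso
    have hmin : ∀ l' : List ι, (∀ a ∈ l', a ∈ Δ) → wordProd P l' = wordProd P l →
        l.length ≤ l'.length := by
      intro l' hl' hprod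
      rw [hlen]
      exact Nat.find_min' hex ⟨l', hl', hprod.trans hlg, rfl⟩
    have h1 := neg_root_last_of_minimal_word hΔ l hl hne hmin
    rw [hlg] at h1
    have h2 := hpos _ (hl _ (List.getLast_mem hne))
    exact P.ne_zero _ (pointed_of_linearIndepOn hΔ.linInd _ h2 h1)

end Groth.Agent.Lib.Helper4.RootDLib
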