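import Mathlib
import Groth.Prelude.Def_W4sga3xxiRoot
import Groth.Agent.Lib.Helper4.RootDWord

/-!
# Parabolic subgroups of the Weyl group (SGA3 XXI 3.4)
-/

set_option autoImplicit false

open Module Set Submodule RootPairing

namespace Groth.Agent.Lib.Helper4.RootDLib

open RootD

variable {ι M N : Type*} [AddCommGroup M] [AddCommGroup N] {P : RootPairing ι ℤ M N}

lemma root_mem_span_image {S : Set ι} {i : ι} (hi : i ∈ S) :
    P.root i ∈ Submodule.span ℤ (P.root '' S) := Submodule.subset_span ⟨i, hi, rfl⟩

/-- the reflection in a root of `Δ'` moves a root by an element of the span of `Δ'` -/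
lemma root_reflectionPerm_sub_mem_span {Δ' : Set ι} {u : ι} (hu : u ∈ Δ') (k : ι) :
    P.root (P.reflectionPerm u k) - P.root k ∈ Submodule.span ℤ (P.root '' Δ') := by
  rw [RootPairing.root_reflectionPerm, RootPairing.reflection_apply_root]
  have : P.root k - P.pairing k u • P.root u - P.root k = -(P.pairing k u • P.root u) := by abel
  rw [this]
  exact neg_mem (Submodule.smul_mem _ _ (root_mem_span_image hu))

/-- words in `Δ'` move roots by elements of the span of `Δ'` -/
lemma root_wordProd_smul_sub_mem_span {Δ' : Set ι} (l : List ι) (hl : ∀ a ∈ l, a ∈ Δ') (k : ι) :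
    P.root (wordProd P l • k) - P.root k ∈ Submodule.span ℤ (P.root '' Δ') := by
  induction l with
  | nil => simp
  | cons u l ih =>
    rw [wordProd_cons, mul_smul, reflection_smul_idx]
    have h1 := root_reflectionPerm_sub_mem_span (P := P) (hl u List.mem_cons_self)
      (wordProd P l • k)
    have h2 := ih (fun b hb => hl b (List.mem_cons_of_mem u hb))
    have : P.root (P.reflectionPerm u (wordProd P l • k)) - P.root k =
        (P.root (P.reflectionPerm u (wordProd P l • k)) - P.root (wordProd P l • k)) +
        (P.root (wordProd P l • k) - P.root k) := by abel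
    rw [this]
    exact add_mem h1 h2

/-- For `Δ' ⊆ Δ`, the group generated by the reflections in `Δ'` preserves the set of positive roots
not in the span of `Δ'`. -/
theorem reflSubgroup_mapsTo_pos_diff [Finite ι] {Δ Δ' : Set ι} (hΔ : IsSimpleSys P Δ)
    (hsub : Δ' ⊆ Δ) {g : P.Aut} (hg : g ∈ reflSubgroup P Δ') {k : ι} (hk : k ∈ posOf P Δ)
    (hk' : k ∉ inSpan P Δ') : g • k ∈ posOf P Δ ∧ g • k ∉ inSpan P Δ' := by
  obtain ⟨l, hl, rfl⟩ := exists_word_of_mem_reflSubgroup hg
  have hnot : wordProd P l • k ∉ inSpan P Δ' := by
    intro h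
    apply hk'
    have h1 := root_wordProd_smul_sub_mem_span (P := P) l hl k
    have h2 : P.root k = P.root (wordProd P l • k) - (P.root (wordProd P l • k) - P.root k) := by
      abel
    change P.root k ∈ Submodule.span ℤ (P.root '' Δ')
    rw [h2]
    exact sub_mem h h1
  refine ⟨?_, hnot⟩
  clear hnot
  induction l with
  | nil => simpa using hk
  | cons u l ih =>
    have hl' : ∀ b ∈ l, b ∈ Δ' := fun b hb => hl b (List.mem_cons_of_mem u hb)
    have hu : u ∈ Δ' := hl u List.mem_cons_self
    have ih' := ih hl' (wordProd_mem_reflSubgroup hl')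
    rw [wordProd_cons, mul_smul, reflection_smul_idx]
    apply reflectionPerm_mem_posOf hΔ ih' (hsub hu)
    intro n hn
    apply hk'
    have h1 := root_wordProd_smul_sub_mem_span (P := P) l hl' k
    have h2 : P.root k = P.root (wordProd P l • k) - (P.root (wordProd P l • k) - P.root k) := by
      abel
    change P.root k ∈ Submodule.span ℤ (P.root '' Δ')
    rw [h2]
    refine sub_mem ?_ h1
    rw [hn]
    exact nsmul_mem (root_mem_span_image hu) _

/-- if a multiple of `-(c • Δ) - a` lies in the span of `Δ' ⊆ Δ` then `a ∈ Δ'` -/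
lemma mem_of_nsmul_neg_sub_mem_span {Δ Δ' : Set ι} (hΔ : IsSimpleSys P Δ) (hsub : Δ' ⊆ Δ)
    {a : ι} (ha : a ∈ Δ) {x : M} (hx : x ∈ natSpan P Δ) {n : ℕ} (hn : 0 < n)
    (h : n • (-x - P.root a) ∈ Submodule.span ℤ (P.root '' Δ')) : a ∈ Δ' := by
  classical
  by_contra haΔ'
  obtain ⟨c, hc, hcx⟩ := exists_finsupp_of_mem_natSpan hx
  obtain ⟨l, hl, hlx⟩ := (Finsupp.mem_span_image_iff_linearCombination ℤ).mp h
  set r : ι →₀ ℤ := l + (n : ℤ) • c.mapRange (Nat.cast : ℕ → ℤ) Nat.cast_zero +
    Finsupp.single a (n : ℤ) with hr
  have hrsupp : r ∈ Finsupp.supported ℤ ℤ Δ := by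
    rw [Finsupp.mem_supported]
    intro e he
    by_contra heΔ
    have hl0 : l e = 0 := by
      by_contra h0
      exact heΔ (hsub ((Finsupp.mem_supported ℤ l).mp hl (Finsupp.mem_support_iff.mpr h0)))
    have hc0 : c e = 0 := by
      by_contra h0
      exact heΔ (hc (Finsupp.mem_support_iff.mpr h0))
    have hea : a ≠ e := fun h0 => heΔ (h0 ▸ ha)
    have : r e = 0 := by
      simp [hr, hl0, hc0, hea]
    exact (Finsupp.mem_support_iff.mp he) this
  have hr0 : Finsupp.linearCombination ℤ P.root r = 0 := by
    rw [hr, map_add, map_add, map_smul, Finsupp.linearCombination_single, hlx,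
      Finsupp.linearCombination_apply, Finsupp.sum_mapRange_index (by simp)]
    simp only [natCast_zsmul]
    rw [hcx, smul_sub, smul_neg]
    abel
  have hr_zero := (linearIndepOn_iff.mp hΔ.linInd) r hrsupp hr0
  have h1 := DFunLike.congr_fun hr_zero a
  have hla : l a = 0 := by
    by_contra h0
    exact haΔ' ((Finsupp.mem_supported ℤ l).mp hl (Finsupp.mem_support_iff.mpr h0))
  simp only [hr, Finsupp.coe_add, Finsupp.coe_smul, Pi.add_apply, Pi.smul_apply,
    Finsupp.mapRange_apply, Finsupp.single_eq_same, Finsupp.coe_zero, Pi.zero_apply, hla,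
    smul_eq_mul, zero_add] at h1
  have h2 : (0 : ℤ) < (n : ℤ) * (c a : ℤ) + n := by positivity
  omega

/-- An element `w` of the Weyl group lies in the subgroup generated by the reflections in `Δ' ⊆ Δ`
iff `w(α) - α` lies in the rational span of `Δ'` for every root `α`. -/
theorem mem_reflSubgroup_iff_moves_into_span [Finite ι] {Δ Δ' : Set ι} (hΔ : IsSimpleSys P Δ)
    (hsub : Δ' ⊆ Δ) {g : P.Aut} (hg : g ∈ P.weylGroup) :
    g ∈ reflSubgroup P Δ' ↔
      ∀ k : ι, ∃ n : ℕ, 0 < n ∧
        n • (P.root (g • k) - P.root k) ∈ Submodule.span ℤ (P.root '' Δ') := by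
  classical
  constructor
  · intro h k
    obtain ⟨l, hl, rfl⟩ := exists_word_of_mem_reflSubgroup h
    exact ⟨1, one_pos, by rw [one_smul]; exact root_wordProd_smul_sub_mem_span l hl k⟩
  · intro h
    rw [← reflSubgroup_simpleSys_eq_weylGroup hΔ] at hg
    obtain ⟨l, hl, hlg⟩ := exists_word_of_mem_reflSubgroup hg
    -- strong induction on the length of the word
    have key : ∀ (m : ℕ) (l : List ι), l.length = m → (∀ a ∈ l, a ∈ Δ) →
        (∀ k : ι, ∃ n : ℕ, 0 < n ∧ n • (P.root (wordProd P l • k) - P.root k) ∈
          Submodule.span ℤ (P.root '' Δ')) → wordProd P l ∈ reflSubgroup P Δ' := by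
      intro m
      induction m using Nat.strong_induction_on with
      | _ m ih =>
        intro l hlen hl hprop
        by_cases hmin : ∀ l' : List ι, (∀ a ∈ l', a ∈ Δ) → wordProd P l' = wordProd P l →
            l.length ≤ l'.length
        · by_cases hne : l = []
          · rw [hne, wordProd_nil]
            exact one_mem _
          · have hneg := neg_root_last_of_minimal_word hΔ l hl hne hmin
            set a := l.getLast hne with ha
            have haΔ : a ∈ Δ := hl a (List.getLast_mem hne)
            obtain ⟨n, hn, hna⟩ := hprop a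
            have haΔ' : a ∈ Δ' := by
              apply mem_of_nsmul_neg_sub_mem_span hΔ hsub haΔ hneg hn
              rw [neg_neg]
              exact hna
            have hla : l.dropLast ++ [a] = l := List.dropLast_append_getLast hne
            have hl₀ : ∀ b ∈ l.dropLast, b ∈ Δ :=
              fun b hb => hl b (List.mem_of_mem_dropLast hb)
            have hw : wordProd P l = wordProd P l.dropLast * Equiv.reflection P a := by
              conv_lhs => rw [← hla]
              rw [wordProd_append]
              simp
            have hlen' : l.length = l.dropLast.length + 1 := by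
              conv_lhs => rw [← hla]
              simp
            have h0 : wordProd P l.dropLast = wordProd P l * Equiv.reflection P a := by
              rw [hw, mul_assoc, reflection_mul_self, mul_one]
            have hprop' : ∀ k : ι, ∃ n : ℕ, 0 < n ∧
                n • (P.root (wordProd P l.dropLast • k) - P.root k) ∈
                  Submodule.span ℤ (P.root '' Δ') := by
              intro k
              obtain ⟨n, hn, hnk⟩ := hprop (P.reflectionPerm a k)
              refine ⟨n, hn, ?_⟩
              rw [h0, mul_smul, reflection_smul_idx]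
              have : P.root (wordProd P l • P.reflectionPerm a k) - P.root k =
                  (P.root (wordProd P l • P.reflectionPerm a k) - P.root (P.reflectionPerm a k)) +
                  (P.root (P.reflectionPerm a k) - P.root k) := by abel
              rw [this, smul_add]
              exact add_mem hnk (nsmul_mem (root_reflectionPerm_sub_mem_span haΔ' k) _)
            have := ih l.dropLast.length (by omega) l.dropLast rfl hl₀ hprop'
            rw [hw]
            exact mul_mem this (reflection_mem_reflSubgroup haΔ')
        · push Not at hmin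
          obtain ⟨l', hl', hprod, hlt⟩ := hmin
          rw [← hprod]
          exact ih l'.length (by omega) l' rfl hl' (by rw [hprod]; exact hprop)
    rw [← hlg]
    exact key _ l rfl hl (by rw [hlg]; exact h)

end Groth.Agent.Lib.Helper4.RootDLib
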