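import Mathlib
import Groth.Prelude.Def_W4sga3xxiRoot
import Groth.Agent.Lib.Helper4.RootDParaSub

/-!
# Automorphisms are determined by their action on roots and on the radical (SGA3 XXI 6.7)
-/

set_option autoImplicit false

open Module Set Submodule RootPairing

namespace Groth.Agent.Lib.Helper4.RootDLib

open RootD

variable {ι M N : Type*} [AddCommGroup M] [AddCommGroup N] {P : RootPairing ι ℤ M N}

/-- an element of the root lattice which is killed by all coroots vanishes -/
theorem eq_zero_of_mem_rootSpan_of_coroot_eq_zero [Finite ι] {x : M}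
    (hx : x ∈ Submodule.span ℤ (Set.range P.root))
    (h : ∀ j : ι, P.toLinearMap x (P.coroot j) = 0) : x = 0 := by
  have : Fintype ι := Fintype.ofFinite ι
  apply P.eq_zero_of_mem_rootSpan_of_rootForm_self_eq_zero hx
  rw [P.rootForm_apply_apply]
  apply Finset.sum_eq_zero
  intro j _
  simp only [RootPairing.coroot', LinearMap.flip_apply, h j, mul_zero]

/-- two automorphisms inducing the same permutation of the roots agree on every weight on which
they agree modulo the rational span of the roots -/
theorem aut_smul_eq_of_index_eq [Finite ι] {u v : P.Aut} (huv : ∀ i : ι, u • i = v • i) {m : M}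
    {n : ℕ} (hn : 0 < n) (h : n • (u • m - v • m) ∈ Submodule.span ℤ (Set.range P.root)) :
    u • m = v • m := by
  have htf := isAddTorsionFree_weight P
  have h0 : n • (u • m - v • m) = 0 := by
    apply eq_zero_of_mem_rootSpan_of_coroot_eq_zero h
    intro j
    have h1 := toLinearMap_smul_coroot_smul P u m (u⁻¹ • j)
    have h2 := toLinearMap_smul_coroot_smul P v m (u⁻¹ • j)
    rw [smul_inv_smul] at h1
    rw [← huv, smul_inv_smul] at h2
    rw [map_nsmul, LinearMap.smul_apply, map_sub, LinearMap.sub_apply, h1, h2, sub_self, smul_zero]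
  have h3 : n • (u • m - v • m) = n • (0 : M) := by rw [h0, smul_zero]
  exact sub_eq_zero.mp (nsmul_right_injective hn.ne' h3)

/-- an automorphism acting trivially on the roots and on the radical is the identity -/
theorem aut_eq_one_of_fix_roots [Finite ι] {u : P.Aut}
    (hs : ∀ m : M, ∃ n : ℕ, 0 < n ∧ n • (u • m - m) ∈ Submodule.span ℤ (Set.range P.root))
    (hfix : ∀ i : ι, u • i = i) : u = 1 := by
  apply Equiv.weightHom_injective
  ext m
  change u • m = (1 : P.Aut) • m
  obtain ⟨n, hn, hnm⟩ := hs m
  apply aut_smul_eq_of_index_eq (n := n) _ hn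
  · rw [one_smul]; exact hnm
  · intro i
    rw [hfix, one_smul]

lemma aut_smul_mem_rootSpan (u : P.Aut) {x : M}
    (hx : x ∈ Submodule.span ℤ (Set.range P.root)) :
    u • x ∈ Submodule.span ℤ (Set.range P.root) := by
  induction hx using Submodule.span_induction with
  | mem x hx =>
    obtain ⟨i, rfl⟩ := hx
    rw [← root_smul]
    exact Submodule.subset_span ⟨_, rfl⟩
  | zero => rw [smul_zero]; exact zero_mem _
  | add a b _ _ iha ihb => rw [smul_add]; exact add_mem iha ihb
  | smul c a _ iha => rw [smul_comm]; exact Submodule.smul_mem _ _ iha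

/-- the group of automorphisms acting trivially on the radical is finite -/
theorem finite_autSemisimpleType [Finite ι] (P : RootPairing ι ℤ M N) :
    Set.Finite {u : P.Aut | ∀ m : M, ∃ n : ℕ, 0 < n ∧
      n • (u • m - m) ∈ Submodule.span ℤ (Set.range P.root)} := by
  apply Set.Finite.of_finite_image (f := fun u : P.Aut => Equiv.indexHom P u) (Set.toFinite _)
  intro u hu v hv huv
  apply Equiv.weightHom_injective
  ext m
  change u • m = v • m
  obtain ⟨n₁, hn₁, h₁⟩ := hu m
  obtain ⟨n₂, hn₂, h₂⟩ := hv m
  apply aut_smul_eq_of_index_eq (n := n₁ * n₂) _ (Nat.mul_pos hn₁ hn₂)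
  · have : (n₁ * n₂) • (u • m - v • m) = n₂ • (n₁ • (u • m - m)) - n₁ • (n₂ • (v • m - m)) := by
      rw [smul_smul, smul_smul, mul_comm n₂ n₁, ← smul_sub]
      congr 1
      abel
    rw [this]
    exact sub_mem (nsmul_mem h₁ _) (nsmul_mem h₂ _)
  · intro i
    have := congrArg (fun σ : Equiv.Perm ι => σ i) huv
    exact this

end Groth.Agent.Lib.Helper4.RootDLib
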