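import Mathlib
import Groth.Prelude.Def_W4sga3xxiRoot
import Groth.Agent.Lib.Helper4.RootDRad

/-!
# The root lattice and simple systems
-/

set_option autoImplicit false

open Module Set Submodule RootPairing

namespace Groth.Agent.Lib.Helper4.RootDLib

open RootD

variable {ι M N : Type*} [AddCommGroup M] [AddCommGroup N] {P : RootPairing ι ℤ M N}

lemma natSpan_le_span (P : RootPairing ι ℤ M N) (S : Set ι) {x : M} (hx : x ∈ natSpan P S) :
    x ∈ Submodule.span ℤ (P.root '' S) := by
  induction hx using AddSubmonoid.closure_induction with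
  | mem x hx => exact Submodule.subset_span hx
  | zero => exact zero_mem _
  | add a b _ _ iha ihb => exact add_mem iha ihb

/-- a simple system spans the root lattice -/
theorem rootSpan_eq_span_simpleSys {Δ : Set ι} (hΔ : IsSimpleSys P Δ) :
    Submodule.span ℤ (Set.range P.root) = Submodule.span ℤ (P.root '' Δ) := by
  apply le_antisymm
  · rw [Submodule.span_le]
    rintro _ ⟨i, rfl⟩
    rcases hΔ.mem_or_neg_mem i with h | h
    · exact natSpan_le_span P Δ h
    · have := natSpan_le_span P Δ h
      simpa using neg_mem this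
  · exact Submodule.span_mono (Set.image_subset_range _ _)

/-- In an adjoint root datum every indivisible root is an indivisible element of the weight lattice. -/
theorem smul_eq_root_of_adjoint [Finite ι]
    (had : Submodule.span ℤ (Set.range P.root) = ⊤) {i : ι} (hind : IsIndiv P i) {m : M} {n : ℤ}
    (h : n • m = P.root i) : n = 1 ∨ n = -1 := by
  classical
  obtain ⟨Δ, hΔ⟩ := exists_isSimpleSys P
  obtain ⟨g, -, e, he, hge⟩ := exists_reflSubgroup_smul_eq hΔ hind
  have h1 : n • (g⁻¹ • m) = P.root e := by
    rw [smul_comm, h, ← hge, root_smul, inv_smul_smul]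
  have h2 : g⁻¹ • m ∈ Submodule.span ℤ (P.root '' Δ) := by
    rw [← rootSpan_eq_span_simpleSys hΔ, had]
    exact Submodule.mem_top
  obtain ⟨l, hl, hlm⟩ := (Finsupp.mem_span_image_iff_linearCombination ℤ).mp h2
  set r : ι →₀ ℤ := n • l - Finsupp.single e 1 with hr
  have hrsupp : r ∈ Finsupp.supported ℤ ℤ Δ := by
    refine sub_mem (Submodule.smul_mem _ _ hl) ?_
    rw [Finsupp.mem_supported]
    intro j hj
    rw [Finsupp.support_single_ne_zero _ one_ne_zero, Finset.coe_singleton,
      Set.mem_singleton_iff] at hj
    rw [hj]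
    exact he
  have hr0 : Finsupp.linearCombination ℤ P.root r = 0 := by
    rw [hr, map_sub, map_smul, hlm, h1, Finsupp.linearCombination_single, one_smul, sub_self]
  have hr_zero := (linearIndepOn_iff.mp hΔ.linInd) r hrsupp hr0
  have h3 := DFunLike.congr_fun hr_zero e
  simp only [hr, Finsupp.coe_sub, Finsupp.coe_smul, Pi.sub_apply, Pi.smul_apply,
    Finsupp.single_eq_same, Finsupp.coe_zero, Pi.zero_apply, smul_eq_mul] at h3
  have h4 : n * l e = 1 := by omega
  exact Int.isUnit_iff.mp (IsUnit.of_mul_eq_one _ h4)

end Groth.Agent.Lib.Helper4.RootDLib
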