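import Mathlib
import Groth.Prelude.Def_W4sga3xxiRoot
import Groth.Agent.Lib.Helper4.RootDLattice

/-!
# Lengths of roots (SGA3 XXI 2.3, 7.2?)
-/

set_option autoImplicit false

open Module Set Submodule RootPairing

namespace Groth.Agent.Lib.Helper4.RootDLib

open RootD

variable {ι M N : Type*} [AddCommGroup M] [AddCommGroup N] {P : RootPairing ι ℤ M N}

/-- `⟨αⱼ, αᵢ^∨⟩ ℓ(αᵢ) = ⟨αᵢ, αⱼ^∨⟩ ℓ(αⱼ)` -/
lemma pairing_mul_rootForm_comm [Fintype ι] (P : RootPairing ι ℤ M N) (i j : ι) :
    P.pairing j i * P.RootForm (P.root i) (P.root i) =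
      P.pairing i j * P.RootForm (P.root j) (P.root j) :=
  (P.posRootForm ℤ).toInvariantForm.pairing_mul_eq_pairing_mul_swap i j

lemma pairing_ne_zero_of_not_isOrthogonal (P : RootPairing ι ℤ M N) {i j : ι}
    (h : ¬ P.IsOrthogonal i j) : P.pairing i j ≠ 0 ∧ P.pairing j i ≠ 0 := by
  have h1 := (not_isOrthogonal_iff P i j).mp h
  exact ⟨h1, fun h0 => h1 (P.pairing_eq_zero_iff'.mp h0)⟩

/-- for non-orthogonal roots `ℓ(α) ℓ(α^∨) = ℓ(β) ℓ(β^∨)` -/
theorem rootForm_mul_corootForm_eq_of_not_orthogonal [Fintype ι] (P : RootPairing ι ℤ M N)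
    {i j : ι} (h : ¬ P.IsOrthogonal i j) :
    P.RootForm (P.root i) (P.root i) * P.CorootForm (P.coroot i) (P.coroot i) =
      P.RootForm (P.root j) (P.root j) * P.CorootForm (P.coroot j) (P.coroot j) := by
  obtain ⟨h1, h2⟩ := pairing_ne_zero_of_not_isOrthogonal P h
  have e1 := pairing_mul_rootForm_comm P i j
  have e2 := pairing_mul_rootForm_comm P.flip i j
  change P.flip.pairing j i * P.CorootForm (P.coroot i) (P.coroot i) =
      P.flip.pairing i j * P.CorootForm (P.coroot j) (P.coroot j) at e2
  rw [RootPairing.pairing_flip, RootPairing.pairing_flip] at e2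
  have h3 : (P.pairing i j * P.pairing j i) *
      (P.RootForm (P.root i) (P.root i) * P.CorootForm (P.coroot i) (P.coroot i)) =
      (P.pairing i j * P.pairing j i) *
      (P.RootForm (P.root j) (P.root j) * P.CorootForm (P.coroot j) (P.coroot j)) := by
    calc _ = (P.pairing j i * P.RootForm (P.root i) (P.root i)) *
          (P.pairing i j * P.CorootForm (P.coroot i) (P.coroot i)) := by ring
      _ = (P.pairing i j * P.RootForm (P.root j) (P.root j)) *
          (P.pairing j i * P.CorootForm (P.coroot j) (P.coroot j)) := by rw [e1, e2]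
      _ = _ := by ring
  exact mul_left_cancel₀ (mul_ne_zero h1 h2) h3

/-- the canonical form is invariant under automorphisms -/
theorem rootForm_smul_smul [Fintype ι] (g : P.Aut) (x y : M) :
    P.RootForm (g • x) (g • y) = P.RootForm x y := by
  rw [P.rootForm_apply_apply, P.rootForm_apply_apply]
  let σ : ι ≃ ι := Equiv.indexHom P g
  rw [← Equiv.sum_comp σ]
  apply Finset.sum_congr rfl
  intro i _
  have h1 := toLinearMap_smul_coroot_smul P g x i
  have h2 := toLinearMap_smul_coroot_smul P g y i
  simp only [RootPairing.coroot', LinearMap.flip_apply]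
  change (P.toLinearMap (g • x)) (P.coroot (g • i)) * (P.toLinearMap (g • y)) (P.coroot (g • i)) = _
  rw [h1, h2]

lemma rootForm_root_smul [Fintype ι] (g : P.Aut) (i : ι) :
    P.RootForm (P.root (g • i)) (P.root (g • i)) = P.RootForm (P.root i) (P.root i) := by
  rw [root_smul, rootForm_smul_smul]

/-- two non-orthogonal roots of the same length are conjugate under the Weyl group -/
theorem exists_weylGroup_smul_eq_of_rootForm_eq [Fintype ι] (P : RootPairing ι ℤ M N) {i j : ι}
    (hno : ¬ P.IsOrthogonal i j)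
    (hl : P.RootForm (P.root i) (P.root i) = P.RootForm (P.root j) (P.root j)) :
    ∃ g : P.Aut, g ∈ P.weylGroup ∧ g • i = j := by
  have hrefl : Module.IsReflexive ℤ M := .of_isPerfPair P.toLinearMap
  obtain ⟨h1, h2⟩ := pairing_ne_zero_of_not_isOrthogonal P hno
  have hset := P.pairingIn_pairingIn_mem_set_of_length_eq
    (B := (P.posRootForm ℤ).toInvariantForm) (i := i) (j := j) hl
  rw [pairing_eq_pairingIn, pairing_eq_pairingIn] at hset
  simp only [Set.mem_insert_iff, Set.mem_singleton_iff, Prod.mk.injEq] at hset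
  have hsi := P.reflection_mem_weylGroup i
  have hsj := P.reflection_mem_weylGroup j
  rcases hset with ⟨h, -⟩ | ⟨hij, hji⟩ | ⟨hij, hji⟩ | ⟨hij, hji⟩ | ⟨hij, hji⟩
  · exact absurd h h1
  · -- pairing 1: `s_j s_i s_j`
    refine ⟨Equiv.reflection P j * Equiv.reflection P i * Equiv.reflection P j,
      mul_mem (mul_mem hsj hsi) hsj, ?_⟩
    apply P.root.injective
    rw [mul_smul, mul_smul, reflection_smul_idx, reflection_smul_idx, reflection_smul_idx]
    simp only [RootPairing.root_reflectionPerm, RootPairing.reflection_apply_root, map_sub,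
      map_zsmul, hij, hji, RootPairing.pairing_same]
    simp only [one_smul, smul_sub]
    abel
  · -- pairing -1: `s_i s_j`
    refine ⟨Equiv.reflection P i * Equiv.reflection P j, mul_mem hsi hsj, ?_⟩
    apply P.root.injective
    rw [mul_smul, reflection_smul_idx, reflection_smul_idx]
    simp only [RootPairing.root_reflectionPerm, RootPairing.reflection_apply_root, map_sub,
      map_zsmul, hij, hji, RootPairing.pairing_same]
    simp only [neg_smul, one_smul]
    abel
  · refine ⟨1, one_mem _, ?_⟩
    rw [one_smul]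
    exact (P.pairing_two_two_iff i j).mp ⟨hij, hji⟩
  · refine ⟨Equiv.reflection P i, hsi, ?_⟩
    apply P.root.injective
    rw [reflection_smul_idx, root_reflectionPerm_self]
    exact neg_eq_iff_eq_neg.mpr ((P.pairing_neg_two_neg_two_iff i j).mp ⟨hij, hji⟩)

end Groth.Agent.Lib.Helper4.RootDLib
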