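import Mathlib
import Groth.Prelude.Def_W4sga3xxiRoot
import Groth.Agent.Lib.Helper4.RootDLength

/-!
# Irreducible root data (SGA3 XXI 7.1–7.2?)
-/

set_option autoImplicit false

open Module Set Submodule RootPairing

namespace Groth.Agent.Lib.Helper4.RootDLib

open RootD

variable {ι M N : Type*} [AddCommGroup M] [AddCommGroup N] {P : RootPairing ι ℤ M N}

/-- irreducibility, as phrased in the statements -/
def IsIrred (P : RootPairing ι ℤ M N) : Prop :=
  ∀ R' : Set ι, IsClosedSub P R' → IsSymmSub P R' → IsClosedSub P R'ᶜ →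
    IsSymmSub P R'ᶜ → R' = ∅ ∨ R' = Set.univ

lemma pairing_reflectionPerm_self_left (P : RootPairing ι ℤ M N) (k o : ι) :
    P.pairing (P.reflectionPerm k k) o = -P.pairing k o := by
  simp

/-- a set of roots stable under non-orthogonality is closed and symmetric, as is its complement -/
theorem closedSymm_of_stable [Finite ι] {R' : Set ι}
    (hst : ∀ i j : ι, i ∈ R' → ¬ P.IsOrthogonal i j → j ∈ R') :
    IsClosedSub P R' ∧ IsSymmSub P R' ∧ IsClosedSub P R'ᶜ ∧ IsSymmSub P R'ᶜ := by
  have hst' : ∀ i j : ι, i ∈ R'ᶜ → ¬ P.IsOrthogonal i j → j ∈ R'ᶜ := by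
    intro i j hi hij hj
    exact hi (hst j i hj (fun h => hij h.symm))
  have key : ∀ T : Set ι, (∀ i j : ι, i ∈ T → ¬ P.IsOrthogonal i j → j ∈ T) →
      IsClosedSub P T ∧ IsSymmSub P T := by
    intro T hT
    refine ⟨?_, ?_⟩
    · intro a b k ha hb hk
      rcases not_isOrthogonal_of_add P hk with h | h
      · exact hT a k ha h
      · exact hT b k hb h
    · intro a ha
      exact hT a _ ha (not_isOrthogonal_reflectionPerm_self P a)
  exact ⟨(key R' hst).1, (key R' hst).2, (key _ hst').1, (key _ hst').2⟩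

/-- In an irreducible root datum, every Weyl group orbit of roots meets the non-orthogonal of any
root. -/
theorem exists_weylGroup_not_isOrthogonal [Finite ι] (hirr : IsIrred P) (i j : ι) :
    ∃ g : P.Aut, g ∈ P.weylGroup ∧ ¬ P.IsOrthogonal (g • i) j := by
  set R₂ : Set ι := {k | ∀ g : P.Aut, g ∈ P.weylGroup → P.pairing k (g • i) = 0} with hR₂
  have hsymm : ∀ T : Set ι, (T = R₂ ∨ T = R₂ᶜ) → IsSymmSub P T := by
    rintro T (rfl | rfl)
    · intro k hk g hg
      rw [pairing_reflectionPerm_self_left, hk g hg, neg_zero]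
    · intro k hk hk'
      apply hk
      intro g hg
      have := hk' g hg
      rw [pairing_reflectionPerm_self_left, neg_eq_zero] at this
      exact this
  have hcl : IsClosedSub P R₂ := by
    intro a b k ha hb hk g hg
    have h1 := congrArg (fun x => P.toLinearMap x (P.coroot (g • i))) hk
    simp only [map_add, LinearMap.add_apply] at h1
    have ha' : P.toLinearMap (P.root a) (P.coroot (g • i)) = 0 := ha g hg
    have hb' : P.toLinearMap (P.root b) (P.coroot (g • i)) = 0 := hb g hg
    change P.toLinearMap (P.root k) (P.coroot (g • i)) = 0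
    rw [h1, ha', hb', add_zero]
  have hcl' : IsClosedSub P R₂ᶜ := by
    intro a b k ha hb hk hkR
    -- a multiple of `root a` is a difference of two roots of the orbit
    have key : ∀ a : ι, a ∈ R₂ᶜ → P.pairing a k = 0 := by
      intro a ha
      have ha' : ¬ ∀ g : P.Aut, g ∈ P.weylGroup → P.pairing a (g • i) = 0 := ha
      push Not at ha'
      obtain ⟨g, hg, hga⟩ := ha'
      have hga' : P.pairing (g • i) a ≠ 0 := fun h0 => hga (P.pairing_eq_zero_iff'.mp h0)
      have h1 : P.pairing (g • i) k = 0 := P.pairing_eq_zero_iff'.mp (hkR g hg)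
      have h2 : P.pairing ((Equiv.reflection P a * g) • i) k = 0 :=
        P.pairing_eq_zero_iff'.mp (hkR _ (mul_mem (P.reflection_mem_weylGroup a) hg))
      rw [mul_smul, reflection_smul_idx] at h2
      have h3 : P.pairing (P.reflectionPerm a (g • i)) k =
          P.pairing (g • i) k - P.pairing (g • i) a * P.pairing a k := by
        simp only [RootPairing.pairing, RootPairing.root', RootPairing.root_reflectionPerm,
          RootPairing.reflection_apply_root, map_sub, map_smul, LinearMap.sub_apply,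
          LinearMap.smul_apply, smul_eq_mul, RootPairing.pairing]
      rw [h3, h1, zero_sub, neg_eq_zero] at h2
      rcases mul_eq_zero.mp h2 with h | h
      · exact absurd h hga'
      · exact h
    have h1 := congrArg (fun x => P.toLinearMap x (P.coroot k)) hk
    simp only [map_add, LinearMap.add_apply] at h1
    have ha' : P.toLinearMap (P.root a) (P.coroot k) = 0 := key a ha
    have hb' : P.toLinearMap (P.root b) (P.coroot k) = 0 := key b hb
    have hk' : P.toLinearMap (P.root k) (P.coroot k) = 2 := P.root_coroot_two k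
    rw [ha', hb', hk'] at h1
    norm_num at h1
  have hi : i ∉ R₂ := by
    intro h
    have := h 1 (one_mem _)
    rw [one_smul, RootPairing.pairing_same] at this
    norm_num at this
  rcases hirr R₂ hcl (hsymm R₂ (Or.inl rfl)) hcl' (hsymm _ (Or.inr rfl)) with h | h
  · have hj : j ∉ R₂ := by rw [h]; exact Set.notMem_empty j
    have hj' : ¬ ∀ g : P.Aut, g ∈ P.weylGroup → P.pairing j (g • i) = 0 := hj
    push Not at hj'
    obtain ⟨g, hg, hgj⟩ := hj'
    exact ⟨g, hg, fun h => hgj h.2⟩
  · exact absurd (h ▸ Set.mem_univ i) hi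

/-- In an irreducible root datum the Weyl group acts transitively on the roots of given length. -/
theorem weylGroup_transitive_sameLength [Fintype ι] (hirr : IsIrred P) {i j : ι}
    (hl : P.RootForm (P.root i) (P.root i) = P.RootForm (P.root j) (P.root j)) :
    ∃ g : P.Aut, g ∈ P.weylGroup ∧ g • i = j := by
  obtain ⟨g, hg, hno⟩ := exists_weylGroup_not_isOrthogonal hirr i j
  obtain ⟨h, hh, hhj⟩ := exists_weylGroup_smul_eq_of_rootForm_eq P hno
    (by rw [rootForm_root_smul]; exact hl)
  exact ⟨h * g, mul_mem hh hg, by rw [mul_smul, hhj]⟩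

end Groth.Agent.Lib.Helper4.RootDLib

namespace Groth.Agent.Lib.Helper4.RootDLib

open RootD

variable {ι M N : Type*} [AddCommGroup M] [AddCommGroup N] {P : RootPairing ι ℤ M N}

/-- the possible pairs of pairings of two roots of a reduced root datum -/
lemma pairing_pairing_mem_of_isReduced [Finite ι] (P : RootPairing ι ℤ M N) [P.IsReduced]
    (i j : ι) :
    (P.pairing i j, P.pairing j i) ∈
      ({(0, 0), (1, 1), (-1, -1), (1, 2), (2, 1), (-1, -2), (-2, -1), (1, 3), (3, 1), (-1, -3),
        (-3, -1), (2, 2), (-2, -2)} : Set (ℤ × ℤ)) := by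
  have := P.pairingIn_pairingIn_mem_set_of_isCrystal_of_isRed i j
  rwa [pairing_eq_pairingIn, pairing_eq_pairingIn] at this

/-- In a reduced irreducible root datum the ratios of squared root lengths to the minimal one form
one of the sets `{1}`, `{1, 2}`, `{1, 3}`. -/
theorem rootForm_ratios_of_irreducible_reduced [Fintype ι] [P.IsReduced] (hirr : IsIrred P)
    (i₀ : ι) (hmin : ∀ i : ι, P.RootForm (P.root i₀) (P.root i₀) ≤ P.RootForm (P.root i) (P.root i)) :
    (∀ i : ι, P.RootForm (P.root i) (P.root i) = P.RootForm (P.root i₀) (P.root i₀) ∨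
        P.RootForm (P.root i) (P.root i) = 2 * P.RootForm (P.root i₀) (P.root i₀) ∨
        P.RootForm (P.root i) (P.root i) = 3 * P.RootForm (P.root i₀) (P.root i₀)) ∧
      ¬ ((∃ i : ι, P.RootForm (P.root i) (P.root i) = 2 * P.RootForm (P.root i₀) (P.root i₀)) ∧
          ∃ j : ι, P.RootForm (P.root j) (P.root j) = 3 * P.RootForm (P.root i₀) (P.root i₀)) := by
  have h0 := rootForm_root_self_pos P i₀
  refine ⟨?_, ?_⟩
  · intro i
    obtain ⟨g, -, hno⟩ := exists_weylGroup_not_isOrthogonal hirr i i₀
    obtain ⟨h1, h2⟩ := pairing_ne_zero_of_not_isOrthogonal P hno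
    have e := pairing_mul_rootForm_comm P (g • i) i₀
    rw [rootForm_root_smul] at e
    have hm := hmin i
    have hset := pairing_pairing_mem_of_isReduced P (g • i) i₀
    simp only [Set.mem_insert_iff, Set.mem_singleton_iff, Prod.mk.injEq] at hset
    rcases hset with ⟨a, b⟩ | ⟨a, b⟩ | ⟨a, b⟩ | ⟨a, b⟩ | ⟨a, b⟩ | ⟨a, b⟩ | ⟨a, b⟩ | ⟨a, b⟩ |
      ⟨a, b⟩ | ⟨a, b⟩ | ⟨a, b⟩ | ⟨a, b⟩ | ⟨a, b⟩ <;> rw [a, b] at e <;>
      first | (exact absurd a h1) | (left; linarith) | (right; left; linarith) |
        (right; right; linarith)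
  · rintro ⟨⟨i, hi⟩, ⟨j, hj⟩⟩
    obtain ⟨g, -, hno⟩ := exists_weylGroup_not_isOrthogonal hirr i j
    obtain ⟨h1, h2⟩ := pairing_ne_zero_of_not_isOrthogonal P hno
    have e := pairing_mul_rootForm_comm P (g • i) j
    rw [rootForm_root_smul, hi, hj] at e
    have hset := pairing_pairing_mem_of_isReduced P (g • i) j
    simp only [Set.mem_insert_iff, Set.mem_singleton_iff, Prod.mk.injEq] at hset
    rcases hset with ⟨a, b⟩ | ⟨a, b⟩ | ⟨a, b⟩ | ⟨a, b⟩ | ⟨a, b⟩ | ⟨a, b⟩ | ⟨a, b⟩ | ⟨a, b⟩ |
      ⟨a, b⟩ | ⟨a, b⟩ | ⟨a, b⟩ | ⟨a, b⟩ | ⟨a, b⟩ <;> rw [a, b] at e <;>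
      first | (exact absurd a h1) | (exfalso; linarith)

/-- the canonical form of the dual datum is invariant under automorphisms -/
lemma corootForm_coroot_smul [Fintype ι] (g : P.Aut) (i : ι) :
    P.CorootForm (P.coroot (g • i)) (P.coroot (g • i)) = P.CorootForm (P.coroot i) (P.coroot i) := by
  rw [P.corootForm_apply_apply, P.corootForm_apply_apply]
  let σ : ι ≃ ι := Equiv.indexHom P g
  rw [← Equiv.sum_comp σ]
  apply Finset.sum_congr rfl
  intro k _
  have h1 := pairing_smul_smul P g k i
  change P.pairing (g • k) (g • i) * P.pairing (g • k) (g • i) = P.pairing k i * P.pairing k i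
  rw [h1]

/-- If `R` is irreducible then so is the dual datum, and `ℓ(α) ℓ(α^∨)` is constant on the roots. -/
theorem rootForm_mul_corootForm_const_of_irreducible [Fintype ι] (hirr : IsIrred P) :
    IsIrred P.flip ∧
    ∀ i j : ι, P.RootForm (P.root i) (P.root i) * P.CorootForm (P.coroot i) (P.coroot i) =
      P.RootForm (P.root j) (P.root j) * P.CorootForm (P.coroot j) (P.coroot j) := by
  refine ⟨?_, ?_⟩
  · intro R' hc hs hc' hs'
    have hst : ∀ i j : ι, i ∈ R' → ¬ P.IsOrthogonal i j → j ∈ R' := by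
      intro i j hi hij
      exact mem_of_closedSymm_partition_of_not_orthogonal hc hs hc' hs' hi
        (fun h => hij ⟨h.2, h.1⟩)
    obtain ⟨h1, h2, h3, h4⟩ := closedSymm_of_stable hst
    exact hirr R' h1 h2 h3 h4
  · intro i j
    obtain ⟨g, -, hno⟩ := exists_weylGroup_not_isOrthogonal hirr i j
    have := rootForm_mul_corootForm_eq_of_not_orthogonal P hno
    rwa [rootForm_root_smul, corootForm_coroot_smul] at this

end Groth.Agent.Lib.Helper4.RootDLib
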