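import Mathlib
import Groth.Prelude.Def_W4sga3xxiRoot
import Groth.Agent.Lib.Helper4.RootDIrred

/-!
# Decompositions of a root datum and of its simple systems (SGA3 XXI 7.1)
-/

set_option autoImplicit false

open Module Set Submodule RootPairing

namespace Groth.Agent.Lib.Helper4.RootDLib

open RootD

variable {ι M N : Type*} [AddCommGroup M] [AddCommGroup N] {P : RootPairing ι ℤ M N}

/-- the coefficients of an element of the span of `Δ' ⊆ Δ` vanish outside `Δ'` -/
lemma support_subset_of_sum_mem_span {Δ Δ' : Set ι} (hli : LinearIndepOn ℤ P.root Δ)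
    (hsub : Δ' ⊆ Δ) (c : ι →₀ ℕ) (hc : (↑c.support : Set ι) ⊆ Δ)
    (h : (c.sum fun i n => n • P.root i) ∈ Submodule.span ℤ (P.root '' Δ')) :
    (↑c.support : Set ι) ⊆ Δ' := by
  classical
  obtain ⟨l, hl, hlx⟩ := (Finsupp.mem_span_image_iff_linearCombination ℤ).mp h
  set r : ι →₀ ℤ := l - c.mapRange (Nat.cast : ℕ → ℤ) Nat.cast_zero with hr
  have hrsupp : r ∈ Finsupp.supported ℤ ℤ Δ := by
    rw [Finsupp.mem_supported]
    intro e he
    by_contra heΔ
    have hl0 : l e = 0 := by
      by_contra h0
      exact heΔ (hsub ((Finsupp.mem_supported ℤ l).mp hl (Finsupp.mem_support_iff.mpr h0)))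
    have hc0 : c e = 0 := by
      by_contra h0
      exact heΔ (hc (Finsupp.mem_support_iff.mpr h0))
    have : r e = 0 := by
      simp [hr, hl0, hc0]
    exact (Finsupp.mem_support_iff.mp he) this
  have hr0 : Finsupp.linearCombination ℤ P.root r = 0 := by
    rw [hr, map_sub, hlx, Finsupp.linearCombination_apply, Finsupp.sum_mapRange_index (by simp)]
    simp only [natCast_zsmul]
    rw [sub_self]
  have hr_zero := (linearIndepOn_iff.mp hli) r hrsupp hr0
  intro e he
  by_contra heΔ'
  have hl0 : l e = 0 := by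
    by_contra h0
    exact heΔ' ((Finsupp.mem_supported ℤ l).mp hl (Finsupp.mem_support_iff.mpr h0))
  have h1 := DFunLike.congr_fun hr_zero e
  simp only [hr, Finsupp.coe_sub, Pi.sub_apply, Finsupp.mapRange_apply, Finsupp.coe_zero,
    Pi.zero_apply, hl0] at h1
  have : c e ≠ 0 := Finsupp.mem_support_iff.mp he
  omega

lemma finsupp_sum_mem_span {Δ : Set ι} (c : ι →₀ ℕ) (hc : (↑c.support : Set ι) ⊆ Δ) :
    (c.sum fun i n => n • P.root i) ∈ Submodule.span ℤ (P.root '' Δ) :=
  natSpan_le_span P Δ (finsupp_sum_mem_natSpan c hc)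

lemma finsupp_ne_zero_of_sum_eq_root {c : ι →₀ ℕ} {k : ι}
    (h : (c.sum fun i n => n • P.root i) = P.root k) : c ≠ 0 := by
  rintro rfl
  apply P.ne_zero k
  rw [← h]
  simp

/-- For a partition of the roots into closed symmetric subsets, all simple roots occurring in a
positive root lie in the same part as that root. -/
theorem support_mem_iff_of_closedSymm_partition [Finite ι] {Δ : Set ι} (hΔ : IsSimpleSys P Δ)
    {R' : Set ι} (hc : IsClosedSub P R') (hs : IsSymmSub P R') (hc' : IsClosedSub P R'ᶜ)
    (hs' : IsSymmSub P R'ᶜ) :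
    ∀ (t : ℕ) (c : ι →₀ ℕ) (k : ι), (↑c.support : Set ι) ⊆ Δ → (c.sum fun _ n => n) = t →
      (c.sum fun i n => n • P.root i) = P.root k → ∀ e ∈ c.support, (e ∈ R' ↔ k ∈ R') := by
  classical
  intro t
  induction t with
  | zero =>
    intro c k _ hsum hck
    exfalso
    have hc0 : c = 0 := by
      ext i
      by_contra h
      have h1 : c i ≤ c.sum fun _ n => n :=
        Finset.single_le_sum (f := fun i => c i) (fun _ _ => Nat.zero_le _)
          (Finsupp.mem_support_iff.mpr h)
      simp only [Finsupp.coe_zero, Pi.zero_apply] at h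
      omega
    exact finsupp_ne_zero_of_sum_eq_root hck hc0
  | succ t ih =>
    intro c k hcΔ hsum hck
    obtain ⟨e₀, he₀, -, hpos, -⟩ := exists_pairing_pos_of_nsmul_eq_sum (P := P) c.support id c k 1
      one_pos (by rw [one_smul, ← hck]; rfl)
    simp only [id] at hpos
    by_cases hke : k = e₀
    · have hcs : c = Finsupp.single e₀ 1 := by
        apply finsupp_eq_of_linearIndepOn hΔ.linInd _ _ hcΔ
        · intro i hi
          rw [Finsupp.support_single_ne_zero _ one_ne_zero, Finset.coe_singleton,
            Set.mem_singleton_iff] at hi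
          rw [hi]
          exact hcΔ he₀
        · rw [hck, hke]
          simp
      intro e he
      rw [hcs, Finsupp.support_single_ne_zero _ one_ne_zero, Finset.mem_singleton] at he
      rw [he, hke]
    · obtain ⟨k', hk'⟩ := exists_root_eq_sub P hpos hke
      have hce : c e₀ ≠ 0 := Finsupp.mem_support_iff.mp he₀
      have hcc : c - Finsupp.single e₀ 1 + Finsupp.single e₀ 1 = c :=
        Finsupp.sub_add_single_one_cancel hce
      have h1 : ((c - Finsupp.single e₀ 1).sum fun _ n => n) + 1 = t + 1 := by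
        rw [← hsum]
        conv_rhs => rw [← hcc]
        rw [Finsupp.sum_add_index' (by simp) (by intro i m n; rfl),
          Finsupp.sum_single_index (by simp)]
      have h2 : ((c - Finsupp.single e₀ 1).sum fun i n => n • P.root i) = P.root k' := by
        rw [hk', ← hck]
        conv_rhs => rw [← hcc]
        rw [Finsupp.sum_add_index' (by simp) (by intro i m n; rw [add_smul]),
          Finsupp.sum_single_index (by simp), one_smul]
        abel
      have hsupp' : (↑(c - Finsupp.single e₀ 1).support : Set ι) ⊆ Δ :=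
        fun i hi => hcΔ (Finsupp.support_tsub hi)
      have hih := ih (c - Finsupp.single e₀ 1) k' hsupp' (by omega) h2
      have hkk' : P.root k = P.root k' + P.root e₀ := by rw [hk']; abel
      have hpart := closedSymm_partition_add_mem hc hs hc' hs' hkk'
      have hk'k : k' ∈ R' ↔ k ∈ R' := by
        rcases hpart with ⟨a, _, b⟩ | ⟨a, _, b⟩
        · exact ⟨fun _ => b, fun _ => a⟩
        · exact ⟨fun h => absurd h a, fun h => absurd h b⟩
      have he₀k : e₀ ∈ R' ↔ k ∈ R' := by
        rcases hpart with ⟨_, a, b⟩ | ⟨_, a, b⟩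
        · exact ⟨fun _ => b, fun _ => a⟩
        · exact ⟨fun h => absurd h a, fun h => absurd h b⟩
      intro e he
      by_cases hee : e = e₀
      · rw [hee]; exact he₀k
      · rw [← hk'k]
        apply hih
        rw [Finsupp.mem_support_iff] at he ⊢
        rw [Finsupp.tsub_apply, Finsupp.single_eq_of_ne hee]
        simpa using he

/-- one half of `closedSymm_partition_eq_inSpan` -/
theorem eq_inSpan_of_closedSymm_partition [Finite ι] {Δ : Set ι} (hΔ : IsSimpleSys P Δ)
    {R' : Set ι} (hc : IsClosedSub P R') (hs : IsSymmSub P R') (hc' : IsClosedSub P R'ᶜ)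
    (hs' : IsSymmSub P R'ᶜ) : R' = inSpan P (Δ ∩ R') := by
  classical
  have hneg : ∀ k, P.reflectionPerm k k ∈ R' → k ∈ R' := by
    intro k hk
    have := hs hk
    rwa [reflectionPerm_self_self] at this
  -- positive roots
  have hposR : ∀ k, P.root k ∈ natSpan P Δ → k ∈ R' → k ∈ inSpan P (Δ ∩ R') := by
    intro k hk hkR
    obtain ⟨c, hcΔ, hck⟩ := exists_finsupp_of_mem_natSpan hk
    have h1 := support_mem_iff_of_closedSymm_partition hΔ hc hs hc' hs' _ c k hcΔ rfl hck
    change P.root k ∈ Submodule.span ℤ (P.root '' (Δ ∩ R'))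
    rw [← hck]
    exact finsupp_sum_mem_span c (fun e he => ⟨hcΔ he, (h1 e he).mpr hkR⟩)
  have hposS : ∀ k, P.root k ∈ natSpan P Δ → k ∈ inSpan P (Δ ∩ R') → k ∈ R' := by
    intro k hk hkS
    obtain ⟨c, hcΔ, hck⟩ := exists_finsupp_of_mem_natSpan hk
    have h1 := support_mem_iff_of_closedSymm_partition hΔ hc hs hc' hs' _ c k hcΔ rfl hck
    have hkS' : P.root k ∈ Submodule.span ℤ (P.root '' (Δ ∩ R')) := hkS
    rw [← hck] at hkS'
    have h2 := support_subset_of_sum_mem_span hΔ.linInd Set.inter_subset_left c hcΔ hkS'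
    obtain ⟨e, he⟩ := Finsupp.support_nonempty_iff.mpr (finsupp_ne_zero_of_sum_eq_root hck)
    exact (h1 e he).mp (h2 he).2
  apply Set.Subset.antisymm
  · intro k hk
    rcases hΔ.mem_or_neg_mem k with h | h
    · exact hposR k h hk
    · rw [← root_reflectionPerm_self] at h
      have := hposR _ h (hs hk)
      change P.root (P.reflectionPerm k k) ∈ Submodule.span ℤ (P.root '' (Δ ∩ R')) at this
      rw [root_reflectionPerm_self] at this
      change P.root k ∈ Submodule.span ℤ (P.root '' (Δ ∩ R'))
      simpa using neg_mem this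
  · intro k hk
    rcases hΔ.mem_or_neg_mem k with h | h
    · exact hposS k h hk
    · rw [← root_reflectionPerm_self] at h
      apply hneg
      apply hposS _ h
      change P.root (P.reflectionPerm k k) ∈ Submodule.span ℤ (P.root '' (Δ ∩ R'))
      rw [root_reflectionPerm_self]
      exact neg_mem hk

/-- If the roots are partitioned into two closed symmetric subsets `R'`, `R''`, then with
`Δ' = Δ ∩ R'`, `Δ'' = Δ ∩ R''` one has `R' = R_{Δ'}`, `R'' = R_{Δ''}` and `Δ' ⊥ Δ''`. -/
theorem closedSymm_partition_eq_inSpan [Finite ι] {Δ : Set ι} (hΔ : IsSimpleSys P Δ)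
    {R' : Set ι} (hc : IsClosedSub P R') (hs : IsSymmSub P R') (hc' : IsClosedSub P R'ᶜ)
    (hs' : IsSymmSub P R'ᶜ) :
    R' = inSpan P (Δ ∩ R') ∧ R'ᶜ = inSpan P (Δ \ R') ∧
      ∀ i ∈ Δ ∩ R', ∀ j ∈ Δ \ R', P.IsOrthogonal i j := by
  refine ⟨eq_inSpan_of_closedSymm_partition hΔ hc hs hc' hs', ?_, ?_⟩
  · have := eq_inSpan_of_closedSymm_partition hΔ hc' hs' (by rwa [compl_compl])
      (by rwa [compl_compl])
    rw [this]
    rfl
  · intro i hi j hj
    by_contra hno
    exact hj.2 (mem_of_closedSymm_partition_of_not_orthogonal hc hs hc' hs' hi.2 hno)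

/-- If a simple system has no partition into two non-empty orthogonal subsets, then any two roots
are linked by a chain of roots with consecutive members non-orthogonal. -/
theorem nonOrthogonal_chain_of_simpleSys_connected [Finite ι] {Δ : Set ι} (hΔ : IsSimpleSys P Δ)
    (hconn : ∀ Δ' : Set ι, Δ' ⊆ Δ → (∀ i ∈ Δ', ∀ j ∈ Δ \ Δ', P.IsOrthogonal i j) →
      Δ' = ∅ ∨ Δ' = Δ) (i j : ι) :
    Relation.ReflTransGen (fun a b : ι => ¬ P.IsOrthogonal a b) i j := by
  set C : Set ι := {j : ι | Relation.ReflTransGen (fun a b : ι => ¬ P.IsOrthogonal a b) i j}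
    with hC
  obtain ⟨h1, h2, h3, h4⟩ := nonOrthogonal_component_closedSymm P i
  have hall : ∀ T : Set ι, IsClosedSub P T → IsSymmSub P T → Δ ⊆ T → ∀ k, k ∈ T := by
    intro T hT hTs hΔT k
    rcases hΔ.mem_or_neg_mem k with h | h
    · exact mem_of_isClosedSub_of_mem_natSpan hT (natSpan_mono P hΔT h)
    · rw [← root_reflectionPerm_self] at h
      have := hTs (mem_of_isClosedSub_of_mem_natSpan hT (natSpan_mono P hΔT h))
      rwa [reflectionPerm_self_self] at this
  have horth : ∀ a ∈ Δ ∩ C, ∀ b ∈ Δ \ (Δ ∩ C), P.IsOrthogonal a b := by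
    intro a ha b hb
    by_contra hno
    apply hb.2
    exact ⟨hb.1, Relation.ReflTransGen.tail ha.2 hno⟩
  rcases hconn (Δ ∩ C) Set.inter_subset_left horth with h | h
  · exfalso
    have hsub : Δ ⊆ Cᶜ := by
      intro a ha haC
      have : a ∈ Δ ∩ C := ⟨ha, haC⟩
      rw [h] at this
      exact this
    exact hall _ h3 h4 hsub i Relation.ReflTransGen.refl
  · have hsub : Δ ⊆ C := by
      intro a ha
      have : a ∈ Δ ∩ C := by rw [h]; exact ha
      exact this.2
    exact hall C h1 h2 hsub j

end Groth.Agent.Lib.Helper4.RootDLib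

namespace Groth.Agent.Lib.Helper4.RootDLib

open RootD

variable {ι M N : Type*} [AddCommGroup M] [AddCommGroup N] {P : RootPairing ι ℤ M N}

/-- a positive root supported on `T ⊆ Δ` cannot be added to a simple root outside `T` orthogonal to
`T` -/
theorem not_root_add_of_orthogonal [Finite ι] {Δ T : Set ι} (hΔ : IsSimpleSys P Δ) (hT : T ⊆ Δ)
    {c : ι →₀ ℕ} (hc : (↑c.support : Set ι) ⊆ T) {k' : ι}
    (hck : (c.sum fun i n => n • P.root i) = P.root k') {e₀ : ι} (he₀Δ : e₀ ∈ Δ) (he₀T : e₀ ∉ T)
    (horth : ∀ e ∈ T, P.IsOrthogonal e e₀) {k : ι} (hk : P.root k = P.root k' + P.root e₀) :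
    False := by
  classical
  have hcΔ : (↑c.support : Set ι) ⊆ Δ := fun e he => hT (hc he)
  have hpair : P.pairing k' e₀ = 0 := by
    change P.coroot' e₀ (P.root k') = 0
    rw [← hck, Finsupp.sum, map_sum]
    apply Finset.sum_eq_zero
    intro e he
    rw [map_nsmul]
    have : P.coroot' e₀ (P.root e) = 0 := (horth e (hc he)).1
    rw [this, smul_zero]
  have horth' : P.IsOrthogonal k' e₀ := ⟨hpair, P.pairing_eq_zero_iff'.mp hpair⟩
  have hmem : P.root k' + P.root e₀ ∈ Set.range P.root := ⟨k, hk⟩
  obtain ⟨k'', hk''⟩ := (add_mem_range_iff_sub_mem_of_orthogonal P horth').mp hmem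
  have hce₀ : c e₀ = 0 := by
    by_contra h0
    exact he₀T (hc (Finsupp.mem_support_iff.mpr h0))
  rcases hΔ.mem_or_neg_mem k'' with h | h
  · obtain ⟨d, hd, hdk⟩ := exists_finsupp_of_mem_natSpan h
    have h1 : d + Finsupp.single e₀ 1 = c := by
      apply finsupp_eq_of_linearIndepOn hΔ.linInd _ _ _ hcΔ
      · rw [Finsupp.sum_add_index' (by simp) (by intro i m n; rw [add_smul]),
          Finsupp.sum_single_index (by simp), hdk, hck, hk'', one_smul]
        abel
      · intro j hj
        rcases Finset.mem_union.mp (Finsupp.support_add hj) with h | h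
        · exact hd h
        · rw [Finsupp.support_single_ne_zero _ one_ne_zero, Finset.mem_singleton] at h
          rw [h]
          exact he₀Δ
    have h2 := DFunLike.congr_fun h1 e₀
    simp only [Finsupp.coe_add, Pi.add_apply, Finsupp.single_eq_same] at h2
    omega
  · obtain ⟨d, hd, hdk⟩ := exists_finsupp_of_mem_natSpan h
    have h1 : d + c = Finsupp.single e₀ 1 := by
      apply finsupp_eq_of_linearIndepOn hΔ.linInd
      · intro j hj
        rcases Finset.mem_union.mp (Finsupp.support_add hj) with h | h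
        · exact hd h
        · exact hcΔ h
      · intro j hj
        rw [Finsupp.support_single_ne_zero _ one_ne_zero, Finset.coe_singleton,
          Set.mem_singleton_iff] at hj
        rw [hj]
        exact he₀Δ
      · rw [Finsupp.sum_add_index' (by simp) (by intro i m n; rw [add_smul]),
          Finsupp.sum_single_index (by simp), hdk, hck, hk'', one_smul]
        abel
    apply finsupp_ne_zero_of_sum_eq_root hck
    ext e
    have h2 := DFunLike.congr_fun h1 e
    simp only [Finsupp.coe_add, Pi.add_apply, Finsupp.single_apply] at h2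
    simp only [Finsupp.coe_zero, Pi.zero_apply]
    by_cases hee : e₀ = e
    · rw [← hee]; exact hce₀
    · rw [if_neg hee] at h2
      omega

/-- If a simple system `Δ` is the union of two orthogonal subsets, every positive root is supported
in one of the two. -/
theorem support_subset_or_of_orthogonal [Finite ι] {Δ Δ' : Set ι} (hΔ : IsSimpleSys P Δ)
    (hsub : Δ' ⊆ Δ) (horth : ∀ i ∈ Δ', ∀ j ∈ Δ \ Δ', P.IsOrthogonal i j) :
    ∀ (t : ℕ) (c : ι →₀ ℕ) (k : ι), (↑c.support : Set ι) ⊆ Δ → (c.sum fun _ n => n) = t →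
      (c.sum fun i n => n • P.root i) = P.root k →
      (↑c.support : Set ι) ⊆ Δ' ∨ (↑c.support : Set ι) ⊆ Δ \ Δ' := by
  classical
  intro t
  induction t with
  | zero =>
    intro c k _ hsum hck
    exfalso
    have hc0 : c = 0 := by
      ext i
      by_contra h
      have h1 : c i ≤ c.sum fun _ n => n :=
        Finset.single_le_sum (f := fun i => c i) (fun _ _ => Nat.zero_le _)
          (Finsupp.mem_support_iff.mpr h)
      simp only [Finsupp.coe_zero, Pi.zero_apply] at h
      omega
    exact finsupp_ne_zero_of_sum_eq_root hck hc0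
  | succ t ih =>
    intro c k hcΔ hsum hck
    obtain ⟨e₀, he₀, -, hpos, -⟩ := exists_pairing_pos_of_nsmul_eq_sum (P := P) c.support id c k 1
      one_pos (by rw [one_smul, ← hck]; rfl)
    simp only [id] at hpos
    have he₀Δ : e₀ ∈ Δ := hcΔ he₀
    by_cases hke : k = e₀
    · have hcs : c = Finsupp.single e₀ 1 := by
        apply finsupp_eq_of_linearIndepOn hΔ.linInd _ _ hcΔ
        · intro i hi
          rw [Finsupp.support_single_ne_zero _ one_ne_zero, Finset.coe_singleton,
            Set.mem_singleton_iff] at hi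
          rw [hi]
          exact he₀Δ
        · rw [hck, hke]
          simp
      rw [hcs, Finsupp.support_single_ne_zero _ one_ne_zero, Finset.coe_singleton]
      by_cases h : e₀ ∈ Δ'
      · exact Or.inl (Set.singleton_subset_iff.mpr h)
      · exact Or.inr (Set.singleton_subset_iff.mpr ⟨he₀Δ, h⟩)
    · obtain ⟨k', hk'⟩ := exists_root_eq_sub P hpos hke
      have hce : c e₀ ≠ 0 := Finsupp.mem_support_iff.mp he₀
      have hcc : c - Finsupp.single e₀ 1 + Finsupp.single e₀ 1 = c :=
        Finsupp.sub_add_single_one_cancel hce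
      have h1 : ((c - Finsupp.single e₀ 1).sum fun _ n => n) + 1 = t + 1 := by
        rw [← hsum]
        conv_rhs => rw [← hcc]
        rw [Finsupp.sum_add_index' (by simp) (by intro i m n; rfl),
          Finsupp.sum_single_index (by simp)]
      have h2 : ((c - Finsupp.single e₀ 1).sum fun i n => n • P.root i) = P.root k' := by
        rw [hk', ← hck]
        conv_rhs => rw [← hcc]
        rw [Finsupp.sum_add_index' (by simp) (by intro i m n; rw [add_smul]),
          Finsupp.sum_single_index (by simp), one_smul]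
        abel
      have hsupp' : (↑(c - Finsupp.single e₀ 1).support : Set ι) ⊆ Δ :=
        fun i hi => hcΔ (Finsupp.support_tsub hi)
      have hkk' : P.root k = P.root k' + P.root e₀ := by rw [hk']; abel
      have hsuppc : ∀ T : Set ι, (↑(c - Finsupp.single e₀ 1).support : Set ι) ⊆ T → e₀ ∈ T →
          (↑c.support : Set ι) ⊆ T := by
        intro T hT he₀T e he
        by_cases hee : e = e₀
        · rw [hee]; exact he₀T
        · apply hT
          rw [Finset.mem_coe, Finsupp.mem_support_iff] at he ⊢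
          rw [Finsupp.tsub_apply, Finsupp.single_eq_of_ne hee]
          simpa using he
      rcases ih (c - Finsupp.single e₀ 1) k' hsupp' (by omega) h2 with h | h
      · by_cases he₀Δ' : e₀ ∈ Δ'
        · exact Or.inl (hsuppc Δ' h he₀Δ')
        · exfalso
          exact not_root_add_of_orthogonal hΔ hsub h h2 he₀Δ he₀Δ'
            (fun e he => horth e he e₀ ⟨he₀Δ, he₀Δ'⟩) hkk'
      · by_cases he₀Δ' : e₀ ∈ Δ'
        · exfalso
          exact not_root_add_of_orthogonal hΔ Set.diff_subset h h2 he₀Δ (fun h' => h'.2 he₀Δ')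
            (fun e he => (horth e₀ he₀Δ' e he).symm) hkk'
        · exact Or.inr (hsuppc _ h ⟨he₀Δ, he₀Δ'⟩)

/-- If a simple system is the disjoint union of two mutually orthogonal subsets `Δ'`, `Δ''` then
`R_{Δ'}` and `R_{Δ''}` partition the roots. -/
theorem inSpan_partition_of_orthogonal_simple_partition [Finite ι] {Δ Δ' : Set ι}
    (hΔ : IsSimpleSys P Δ) (hsub : Δ' ⊆ Δ)
    (horth : ∀ i ∈ Δ', ∀ j ∈ Δ \ Δ', P.IsOrthogonal i j) (k : ι) :
    (k ∈ inSpan P Δ' ∨ k ∈ inSpan P (Δ \ Δ')) ∧
      ¬ (k ∈ inSpan P Δ' ∧ k ∈ inSpan P (Δ \ Δ')) := by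
  classical
  refine ⟨?_, ?_⟩
  · have hpos : ∀ k, P.root k ∈ natSpan P Δ → (k ∈ inSpan P Δ' ∨ k ∈ inSpan P (Δ \ Δ')) := by
      intro k hk
      obtain ⟨c, hcΔ, hck⟩ := exists_finsupp_of_mem_natSpan hk
      rcases support_subset_or_of_orthogonal hΔ hsub horth _ c k hcΔ rfl hck with h | h
      · left
        change P.root k ∈ Submodule.span ℤ (P.root '' Δ')
        rw [← hck]
        exact finsupp_sum_mem_span c h
      · right
        change P.root k ∈ Submodule.span ℤ (P.root '' (Δ \ Δ'))
        rw [← hck]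
        exact finsupp_sum_mem_span c h
    rcases hΔ.mem_or_neg_mem k with h | h
    · exact hpos k h
    · rw [← root_reflectionPerm_self] at h
      rcases hpos _ h with h' | h'
      · left
        change P.root (P.reflectionPerm k k) ∈ Submodule.span ℤ (P.root '' Δ') at h'
        rw [root_reflectionPerm_self] at h'
        change P.root k ∈ Submodule.span ℤ (P.root '' Δ')
        simpa using neg_mem h'
      · right
        change P.root (P.reflectionPerm k k) ∈ Submodule.span ℤ (P.root '' (Δ \ Δ')) at h'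
        rw [root_reflectionPerm_self] at h'
        change P.root k ∈ Submodule.span ℤ (P.root '' (Δ \ Δ'))
        simpa using neg_mem h'
  · rintro ⟨h1, h2⟩
    have hdisj : Disjoint Δ' (Δ \ Δ') := Set.disjoint_sdiff_right
    have hunion : Δ' ∪ (Δ \ Δ') = Δ := Set.union_diff_cancel hsub
    have hli : LinearIndepOn ℤ P.root (Δ' ∪ (Δ \ Δ')) := by rw [hunion]; exact hΔ.linInd
    have h3 := ((linearIndepOn_union_iff hdisj).mp hli).2.2
    have h4 : P.root k ∈ Submodule.span ℤ (P.root '' Δ') ⊓
        Submodule.span ℤ (P.root '' (Δ \ Δ')) := ⟨h1, h2⟩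
    rw [h3.eq_bot] at h4
    exact P.ne_zero k h4

end Groth.Agent.Lib.Helper4.RootDLib
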