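import Mathlib
import Groth.Prelude.Def_W4sga3xxiRoot
import Groth.Agent.Lib.Helper4.RootDDecomp

/-!
# Traces of vector subspaces on the roots (SGA3 XXI 3.4)
-/

set_option autoImplicit false

open Module Set Submodule RootPairing

namespace Groth.Agent.Lib.Helper4.RootDLib

open RootD

variable {ι M N : Type*} [AddCommGroup M] [AddCommGroup N] {P : RootPairing ι ℤ M N}

/-- the saturation in the root lattice of the span of a set of roots -/
def satSub (P : RootPairing ι ℤ M N) (R' : Set ι) :
    Submodule ℤ ↥(Submodule.span ℤ (Set.range P.root)) where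
  carrier := {x | ∃ n : ℕ, 0 < n ∧ n • (x : M) ∈ Submodule.span ℤ (P.root '' R')}
  zero_mem' := ⟨1, one_pos, by simp⟩
  add_mem' := by
    rintro x y ⟨n, hn, hx⟩ ⟨m, hm, hy⟩
    refine ⟨n * m, Nat.mul_pos hn hm, ?_⟩
    rw [Submodule.coe_add, smul_add]
    refine add_mem ?_ ?_
    · rw [mul_comm, mul_smul]
      exact nsmul_mem hx _
    · rw [mul_smul]
      exact nsmul_mem hy _
  smul_mem' := by
    rintro c x ⟨n, hn, hx⟩
    refine ⟨n, hn, ?_⟩
    rw [Submodule.coe_smul, smul_comm]
    exact Submodule.smul_mem _ _ hx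

/-- an additive map from the root lattice to a linearly ordered group with kernel the saturation of
the span of `R'` -/
theorem exists_addHom_vanishing [Finite ι] (P : RootPairing ι ℤ M N) (R' : Set ι) :
    ∃ (r : ℕ) (φ : ↥(Submodule.span ℤ (Set.range P.root)) →+ Lex (Fin r → ℤ)),
      ∀ x, φ x = 0 ↔ x ∈ satSub P R' := by
  classical
  set Γ := Submodule.span ℤ (Set.range P.root) with hΓ
  set Q := ↥Γ ⧸ satSub P R' with hQ
  have hfinΓ : Module.Finite ℤ ↥Γ := Module.Finite.span_of_finite ℤ (Set.finite_range P.root)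
  have hfinQ : Module.Finite ℤ Q := inferInstance
  have htf : Module.IsTorsionFree ℤ Q := by
    apply Module.IsTorsionFree.of_smul_eq_zero
    intro c q hq
    by_cases hc : c = 0
    · exact Or.inl hc
    · right
      obtain ⟨x, rfl⟩ := Submodule.Quotient.mk_surjective _ q
      rw [← Submodule.Quotient.mk_smul, Submodule.Quotient.mk_eq_zero] at hq
      rw [Submodule.Quotient.mk_eq_zero]
      obtain ⟨n, hn, hx⟩ := hq
      refine ⟨n * c.natAbs, Nat.mul_pos hn (Int.natAbs_pos.mpr hc), ?_⟩
      rw [Submodule.coe_smul] at hx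
      rw [mul_smul]
      rcases Int.natAbs_eq c with h | h
      · have : c.natAbs • (x : M) = c • (x : M) := by
          conv_rhs => rw [h]
          rw [natCast_zsmul]
        rw [this]
        exact hx
      · have : c.natAbs • (x : M) = -(c • (x : M)) := by
          conv_rhs => rw [h]
          rw [neg_smul, neg_neg, natCast_zsmul]
        rw [this, smul_neg]
        exact neg_mem hx
  have hfree : Module.Free ℤ Q := Module.free_of_finite_type_torsion_free'
  let b := Module.finBasis ℤ Q
  let φ : ↥Γ →+ Lex (Fin (Module.finrank ℤ Q) → ℤ) :=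
    { toFun := fun x => toLex (b.equivFun (Submodule.Quotient.mk x))
      map_zero' := by
        simp
      map_add' := by
        intro x y
        simp }
  refine ⟨Module.finrank ℤ Q, φ, fun x => ?_⟩
  change toLex (b.equivFun (Submodule.Quotient.mk x)) = toLex 0 ↔ _
  rw [toLex_inj, LinearEquiv.map_eq_zero_iff, Submodule.Quotient.mk_eq_zero]

/-- the root of index `k` as an element of the root lattice -/
def rootΓ (P : RootPairing ι ℤ M N) (k : ι) : ↥(Submodule.span ℤ (Set.range P.root)) :=
  ⟨P.root k, Submodule.subset_span (Set.mem_range_self k)⟩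

lemma rootΓ_reflectionPerm_self (P : RootPairing ι ℤ M N) (k : ι) :
    rootΓ P (P.reflectionPerm k k) = -rootΓ P k :=
  Subtype.ext (root_reflectionPerm_self P k)

lemma natSpan_le_rootSpan (P : RootPairing ι ℤ M N) (S : Set ι) {x : M} (hx : x ∈ natSpan P S) :
    x ∈ Submodule.span ℤ (Set.range P.root) :=
  Submodule.span_mono (Set.image_subset_range _ _) (natSpan_le_span P S hx)

section twoStep

variable {G : Type*} [AddCommGroup G] [LinearOrder G] [IsOrderedAddMonoid G]
  (φ : ↥(Submodule.span ℤ (Set.range P.root)) →+ G)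

/-- elements of the cone on roots which are `≥ 0` for `φ`: they are `≥ 0`, and those with `φ = 0`
lie in the cone on the roots with `φ = 0` -/
lemma natSpan_nonneg_of_nonneg {A : Set ι} (hA : ∀ k ∈ A, 0 ≤ φ (rootΓ P k)) {x : M}
    (hx : x ∈ natSpan P A) :
    ∃ hx' : x ∈ Submodule.span ℤ (Set.range P.root), 0 ≤ φ ⟨x, hx'⟩ ∧
      (φ ⟨x, hx'⟩ = 0 → x ∈ natSpan P {k | k ∈ A ∧ φ (rootΓ P k) = 0}) := by
  induction hx using AddSubmonoid.closure_induction with
  | mem x hx =>
    obtain ⟨k, hk, rfl⟩ := hx
    exact ⟨Submodule.subset_span (Set.mem_range_self k), hA k hk,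
      fun h0 => root_mem_natSpan P ⟨hk, h0⟩⟩
  | zero =>
    refine ⟨zero_mem _, ?_, fun _ => zero_mem _⟩
    have : (⟨0, zero_mem _⟩ : ↥(Submodule.span ℤ (Set.range P.root))) = 0 := rfl
    rw [this, map_zero]
  | add a b _ _ iha ihb =>
    obtain ⟨ha', ha0, ha1⟩ := iha
    obtain ⟨hb', hb0, hb1⟩ := ihb
    have hsum : (⟨a + b, add_mem ha' hb'⟩ : ↥(Submodule.span ℤ (Set.range P.root))) =
        ⟨a, ha'⟩ + ⟨b, hb'⟩ := rfl
    refine ⟨add_mem ha' hb', ?_, ?_⟩
    · rw [hsum, map_add]
      exact add_nonneg ha0 hb0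
    · intro h0
      rw [hsum, map_add] at h0
      have h1 := (add_eq_zero_iff_of_nonneg ha0 hb0).mp h0
      exact add_mem (ha1 h1.1) (hb1 h1.2)

/-- **Two-step construction of positive systems.** -/
theorem isPosSys_twoStep {T : Set ι}
    (hT0 : ∀ k ∈ T, φ (rootΓ P k) = 0)
    (hT1 : ∀ k, φ (rootΓ P k) = 0 → k ∈ T ∨ P.reflectionPerm k k ∈ T)
    (hT2 : ∀ k ∈ T, P.reflectionPerm k k ∉ T)
    (hT3 : ∀ k, φ (rootΓ P k) = 0 → ∀ n : ℕ, 0 < n → n • P.root k ∈ natSpan P T → k ∈ T) :
    IsPosSys P ({k | 0 < φ (rootΓ P k)} ∪ T) := by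
  have hneg : ∀ k, φ (rootΓ P (P.reflectionPerm k k)) = -φ (rootΓ P k) := by
    intro k
    rw [rootΓ_reflectionPerm_self, map_neg]
  refine ⟨?_, ?_, ?_⟩
  · rintro k (hk | hk) (hk' | hk')
    · have h1 : 0 < φ (rootΓ P (P.reflectionPerm k k)) := hk'
      rw [hneg, neg_pos] at h1
      exact lt_asymm hk h1
    · have h1 := hT0 _ hk'
      rw [hneg, neg_eq_zero] at h1
      have h2 : 0 < φ (rootΓ P k) := hk
      rw [h1] at h2
      exact lt_irrefl _ h2
    · have h1 : 0 < φ (rootΓ P (P.reflectionPerm k k)) := hk'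
      rw [hneg, hT0 k hk, neg_zero] at h1
      exact lt_irrefl _ h1
    · exact hT2 k hk hk'
  · intro k
    rcases lt_trichotomy (φ (rootΓ P k)) 0 with h | h | h
    · right; left
      change 0 < φ (rootΓ P (P.reflectionPerm k k))
      rw [hneg, neg_pos]
      exact h
    · rcases hT1 k h with h' | h'
      · exact Or.inl (Or.inr h')
      · exact Or.inr (Or.inr h')
    · exact Or.inl (Or.inl h)
  · intro k n hn hk
    have hA : ∀ j ∈ ({k | 0 < φ (rootΓ P k)} ∪ T), 0 ≤ φ (rootΓ P j) := by
      rintro j (hj | hj)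
      · exact le_of_lt hj
      · exact le_of_eq (hT0 j hj).symm
    obtain ⟨hx', h0, h1⟩ := natSpan_nonneg_of_nonneg φ hA hk
    have hx'' : (⟨n • P.root k, hx'⟩ : ↥(Submodule.span ℤ (Set.range P.root))) = n • rootΓ P k :=
      rfl
    rw [hx'', map_nsmul] at h0 h1
    rcases lt_trichotomy (φ (rootΓ P k)) 0 with h | h | h
    · exfalso
      exact not_le_of_gt (nsmul_neg h hn.ne') h0
    · right
      apply hT3 k h n hn
      have h2 := h1 (by rw [h, smul_zero])
      refine natSpan_mono P ?_ h2
      rintro j ⟨hj | hj, hj0⟩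
      · exfalso
        have : 0 < φ (rootΓ P j) := hj
        rw [hj0] at this
        exact lt_irrefl _ this
      · exact hj
    · exact Or.inl h

end twoStep

end Groth.Agent.Lib.Helper4.RootDLib

namespace Groth.Agent.Lib.Helper4.RootDLib

open RootD

variable {ι M N : Type*} [AddCommGroup M] [AddCommGroup N] {P : RootPairing ι ℤ M N}

/-- a set of roots is saturated if it contains every root a positive multiple of which lies in its
span -/
def IsSat (P : RootPairing ι ℤ M N) (R' : Set ι) : Prop :=
  ∀ k : ι, (∃ n : ℕ, 0 < n ∧ n • P.root k ∈ Submodule.span ℤ (P.root '' R')) → k ∈ R'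

/-- for a saturated set of roots `R'` there is an additive map from the root lattice to a linearly
ordered group vanishing exactly on the roots of `R'` -/
theorem exists_addHom_of_isSat [Finite ι] {R' : Set ι} (hsat : IsSat P R') :
    ∃ (r : ℕ) (φ : ↥(Submodule.span ℤ (Set.range P.root)) →+ Lex (Fin r → ℤ)),
      ∀ k, φ (rootΓ P k) = 0 ↔ k ∈ R' := by
  obtain ⟨r, φ, hφ⟩ := exists_addHom_vanishing P R'
  refine ⟨r, φ, fun k => ?_⟩
  rw [hφ]
  constructor
  · intro h
    exact hsat k h
  · intro h
    exact ⟨1, one_pos, by rw [one_smul]; exact Submodule.subset_span ⟨k, h, rfl⟩⟩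

lemma isSat_symm {R' : Set ι} (hsat : IsSat P R') {k : ι} (hk : k ∈ R') :
    P.reflectionPerm k k ∈ R' := by
  apply hsat
  refine ⟨1, one_pos, ?_⟩
  rw [one_smul, root_reflectionPerm_self]
  exact neg_mem (Submodule.subset_span ⟨k, hk, rfl⟩)

/-- If `R'` is saturated, every simple system `Δ'` of `R'` is contained in a simple system of the
whole datum and `R'` is the set of roots in the span of `Δ'`. -/
theorem simpleSys_sub_extends [Finite ι] {R' : Set ι} (hsat : IsSat P R')
    {Δ' : Set ι} (hΔ'R : Δ' ⊆ R') (hli : LinearIndepOn ℤ P.root Δ')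
    (hgen : ∀ k ∈ R', P.root k ∈ natSpan P Δ' ∨ -P.root k ∈ natSpan P Δ') :
    ∃ Δ : Set ι, IsSimpleSys P Δ ∧ Δ' ⊆ Δ ∧ R' = inSpan P Δ' := by
  classical
  obtain ⟨r, φ, hφ⟩ := exists_addHom_of_isSat hsat
  set T : Set ι := {k | k ∈ R' ∧ P.root k ∈ natSpan P Δ'} with hT
  have hTle : natSpan P T ≤ natSpan P Δ' := by
    apply AddSubmonoid.closure_le.mpr
    rintro _ ⟨i, hi, rfl⟩
    exact hi.2
  have hS : IsPosSys P ({k | 0 < φ (rootΓ P k)} ∪ T) := by
    apply isPosSys_twoStep φ
    · intro k hk
      exact (hφ k).mpr hk.1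
    · intro k hk
      have hkR := (hφ k).mp hk
      rcases hgen k hkR with h | h
      · exact Or.inl ⟨hkR, h⟩
      · refine Or.inr ⟨isSat_symm hsat hkR, ?_⟩
        rw [root_reflectionPerm_self]
        exact h
    · intro k hk hk'
      have h1 := hk'.2
      rw [root_reflectionPerm_self] at h1
      exact P.ne_zero k (pointed_of_linearIndepOn hli _ hk.2 h1)
    · intro k hk n hn hnk
      have hkR := (hφ k).mp hk
      refine ⟨hkR, ?_⟩
      rcases hgen k hkR with h | h
      · exact h
      · exfalso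
        have h1 : -(n • P.root k) ∈ natSpan P Δ' := by
          rw [← smul_neg]
          exact nsmul_mem h _
        exact nsmul_root_ne_zero P k hn (pointed_of_linearIndepOn hli _ (hTle hnk) h1)
  set S : Set ι := {k | 0 < φ (rootΓ P k)} ∪ T with hSdef
  have hSnonneg : ∀ j ∈ S, 0 ≤ φ (rootΓ P j) := by
    rintro j (hj | hj)
    · exact le_of_lt hj
    · exact le_of_eq ((hφ j).mpr hj.1).symm
  have hST : ∀ j ∈ S, φ (rootΓ P j) = 0 → j ∈ T := by
    rintro j (hj | hj) hj0
    · exfalso
      have : 0 < φ (rootΓ P j) := hj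
      rw [hj0] at this
      exact lt_irrefl _ this
    · exact hj
  refine ⟨indec P S, isSimpleSys_indec hS, ?_, ?_⟩
  · intro e he
    have heT : e ∈ T := ⟨hΔ'R he, root_mem_natSpan P he⟩
    refine ⟨Or.inr heT, fun j hj k hk hejk => ?_⟩
    -- `φ j + φ k = 0`
    have h1 : rootΓ P e = rootΓ P j + rootΓ P k := Subtype.ext hejk
    have h2 : φ (rootΓ P j) + φ (rootΓ P k) = 0 := by
      rw [← map_add, ← h1]
      exact (hφ e).mpr (hΔ'R he)
    have h3 := (add_eq_zero_iff_of_nonneg (hSnonneg j hj) (hSnonneg k hk)).mp h2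
    have hjT := hST j hj h3.1
    have hkT := hST k hk h3.2
    obtain ⟨b, hb, hbj⟩ := exists_finsupp_of_mem_natSpan hjT.2
    obtain ⟨c, hc, hck⟩ := exists_finsupp_of_mem_natSpan hkT.2
    have h4 : b + c = Finsupp.single e 1 := by
      apply finsupp_eq_of_linearIndepOn hli
      · intro i hi
        rcases Finset.mem_union.mp (Finsupp.support_add hi) with h | h
        · exact hb h
        · exact hc h
      · intro i hi
        rw [Finsupp.support_single_ne_zero _ one_ne_zero, Finset.coe_singleton,
          Set.mem_singleton_iff] at hi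
        rw [hi]
        exact he
      · rw [Finsupp.sum_add_index' (by simp) (by intro i m n; rw [add_smul]),
          Finsupp.sum_single_index (by simp), hbj, hck, one_smul, hejk]
    have h5 := DFunLike.congr_fun h4 e
    simp only [Finsupp.coe_add, Pi.add_apply, Finsupp.single_eq_same] at h5
    have hzero : ∀ (d : ι →₀ ℕ), d e = 0 → (∀ i, d i ≤ (b + c) i) → d = 0 := by
      intro d hde hle
      ext i
      by_cases hie : i = e
      · rw [hie, hde]; rfl
      · have := hle i
        rw [h4, Finsupp.single_eq_of_ne hie] at this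
        simp only [Finsupp.coe_zero, Pi.zero_apply]
        omega
    have hb_or : b e = 0 ∨ c e = 0 := by omega
    rcases hb_or with h0 | h0
    · left
      rw [← hbj, hzero b h0 (fun i => by simp)]
      simp
    · right
      rw [← hck, hzero c h0 (fun i => by simp)]
      simp
  · apply Set.Subset.antisymm
    · intro k hk
      rcases hgen k hk with h | h
      · exact natSpan_le_span P Δ' h
      · have := natSpan_le_span P Δ' h
        change P.root k ∈ Submodule.span ℤ (P.root '' Δ')
        simpa using neg_mem this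
    · intro k hk
      apply hsat
      refine ⟨1, one_pos, ?_⟩
      rw [one_smul]
      exact Submodule.span_mono (Set.image_mono hΔ'R) hk

end Groth.Agent.Lib.Helper4.RootDLib

namespace Groth.Agent.Lib.Helper4.RootDLib

open RootD

variable {ι M N : Type*} [AddCommGroup M] [AddCommGroup N] {P : RootPairing ι ℤ M N}

/-- the roots in the span of a subset of a simple system form a saturated set -/
theorem isSat_inSpan {Δ Δ' : Set ι} (hΔ : IsSimpleSys P Δ) (hsub : Δ' ⊆ Δ) :
    IsSat P (inSpan P Δ') := by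
  classical
  rintro k ⟨n, hn, hnk⟩
  have hle : Submodule.span ℤ (P.root '' inSpan P Δ') ≤ Submodule.span ℤ (P.root '' Δ') := by
    rw [Submodule.span_le]
    rintro _ ⟨i, hi, rfl⟩
    exact hi
  have hnk' := hle hnk
  have key : ∀ x : M, x ∈ natSpan P Δ → n • x ∈ Submodule.span ℤ (P.root '' Δ') →
      x ∈ Submodule.span ℤ (P.root '' Δ') := by
    intro x hx hnx
    obtain ⟨c, hc, hcx⟩ := exists_finsupp_of_mem_natSpan hx
    have h1 : ((n • c).sum fun i m => m • P.root i) = n • x := by
      rw [← hcx, Finsupp.sum_smul_index' (by simp), Finsupp.smul_sum]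
      simp only [smul_eq_mul, mul_smul]
    have hsupp : (↑(n • c).support : Set ι) ⊆ Δ := by
      intro i hi
      apply hc
      rw [Finset.mem_coe, Finsupp.mem_support_iff] at hi ⊢
      intro h0
      apply hi
      simp [h0]
    rw [← h1] at hnx
    have h2 := support_subset_of_sum_mem_span hΔ.linInd hsub (n • c) hsupp hnx
    rw [← hcx]
    apply finsupp_sum_mem_span c
    intro i hi
    apply h2
    rw [Finset.mem_coe, Finsupp.mem_support_iff] at hi ⊢
    simp only [Finsupp.coe_smul, Pi.smul_apply, smul_eq_mul]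
    exact Nat.mul_ne_zero hn.ne' hi
  rcases hΔ.mem_or_neg_mem k with h | h
  · exact key _ h hnk'
  · have := key _ h (by rw [smul_neg]; exact neg_mem hnk')
    change P.root k ∈ Submodule.span ℤ (P.root '' Δ')
    simpa using neg_mem this

/-- A set of roots is saturated iff it is the set of roots in the span of a subset of a simple
system. -/
theorem eq_inSpan_iff_ratSaturated [Finite ι] (R' : Set ι) :
    IsSat P R' ↔ ∃ Δ Δ' : Set ι, IsSimpleSys P Δ ∧ Δ' ⊆ Δ ∧ R' = inSpan P Δ' := by
  classical
  constructor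
  · intro hsat
    obtain ⟨r, φ, hφ⟩ := exists_addHom_of_isSat hsat
    obtain ⟨S₂, hS₂⟩ := exists_isPosSys P
    set T : Set ι := R' ∩ S₂ with hT
    have hS : IsPosSys P ({k | 0 < φ (rootΓ P k)} ∪ T) := by
      apply isPosSys_twoStep φ
      · intro k hk
        exact (hφ k).mpr hk.1
      · intro k hk
        have hkR := (hφ k).mp hk
        rcases hS₂.cover k with h | h
        · exact Or.inl ⟨hkR, h⟩
        · exact Or.inr ⟨isSat_symm hsat hkR, h⟩
      · intro k hk hk'
        exact hS₂.disjoint hk.2 hk'.2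
      · intro k hk n hn hnk
        exact ⟨(hφ k).mp hk, hS₂.sat n hn (natSpan_mono P Set.inter_subset_right hnk)⟩
    set S : Set ι := {k | 0 < φ (rootΓ P k)} ∪ T with hSdef
    have hSnonneg : ∀ j ∈ S, 0 ≤ φ (rootΓ P j) := by
      rintro j (hj | hj)
      · exact le_of_lt hj
      · exact le_of_eq ((hφ j).mpr hj.1).symm
    refine ⟨indec P S, indec P S ∩ R', isSimpleSys_indec hS, Set.inter_subset_left, ?_⟩
    have hpos : ∀ k ∈ S, k ∈ R' → P.root k ∈ Submodule.span ℤ (P.root '' (indec P S ∩ R')) := by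
      intro k hkS hkR
      have h1 := root_mem_natSpan_indec hS k hkS
      obtain ⟨hx', -, h0⟩ := natSpan_nonneg_of_nonneg φ
        (fun j hj => hSnonneg j (indec_subset S hj)) h1
      have h2 := h0 ((hφ k).mpr hkR)
      refine natSpan_le_span P _ (natSpan_mono P ?_ h2)
      rintro j ⟨hj, hj0⟩
      exact ⟨hj, (hφ j).mp hj0⟩
    apply Set.Subset.antisymm
    · intro k hk
      rcases hS.cover k with h | h
      · exact hpos k h hk
      · have := hpos _ h (isSat_symm hsat hk)
        rw [root_reflectionPerm_self] at this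
        change P.root k ∈ Submodule.span ℤ (P.root '' (indec P S ∩ R'))
        simpa using neg_mem this
    · intro k hk
      apply hsat
      refine ⟨1, one_pos, ?_⟩
      rw [one_smul]
      exact Submodule.span_mono (Set.image_mono Set.inter_subset_right) hk
  · rintro ⟨Δ, Δ', hΔ, hsub, rfl⟩
    exact isSat_inSpan hΔ hsub

end Groth.Agent.Lib.Helper4.RootDLib
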