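import Mathlib
import Groth.Prelude.Def_W4sga3xxiRoot
import Groth.Agent.Lib.Helper4.RootDSat

/-!
# The Cartan matrix of a simple system (SGA3 XXI 3.1.? / Bourbaki VI §1 no. 5)
-/

set_option autoImplicit false

open Module Set Submodule RootPairing Matrix

namespace Groth.Agent.Lib.Helper4.RootDLib

open RootD

variable {ι M N : Type*} [AddCommGroup M] [AddCommGroup N] {P : RootPairing ι ℤ M N}

/-- the canonical form evaluated on combinations of roots -/
lemma rootForm_sum_sum [Fintype ι] {κ : Type*} [Fintype κ] (a : κ → ι) (x y : κ → ℤ) :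
    P.RootForm (∑ i, x i • P.root (a i)) (∑ j, y j • P.root (a j)) =
      ∑ i, ∑ j, x i * y j * P.RootForm (P.root (a i)) (P.root (a j)) := by
  have h1 : ∀ z : M, P.RootForm (∑ i, x i • P.root (a i)) z =
      ∑ i, x i * P.RootForm (P.root (a i)) z := by
    intro z
    rw [map_sum, LinearMap.sum_apply]
    apply Finset.sum_congr rfl
    intro i _
    rw [map_smul, LinearMap.smul_apply, smul_eq_mul]
  rw [h1]
  apply Finset.sum_congr rfl
  intro i _
  rw [map_sum, Finset.mul_sum]
  apply Finset.sum_congr rfl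
  intro j _
  rw [map_smul, smul_eq_mul]
  ring

/-- a non-trivial combination of simple roots has positive length -/
lemma rootForm_sum_pos [Fintype ι] {Δ : Finset ι} (hli : LinearIndepOn ℤ P.root (↑Δ : Set ι))
    {x : ↥Δ → ℤ} (hx : x ≠ 0) :
    0 < P.RootForm (∑ i, x i • P.root (i : ι)) (∑ j, x j • P.root (j : ι)) := by
  apply P.rootForm_pos_of_ne_zero
  · refine sum_mem (fun i _ => Submodule.smul_mem _ _ (Submodule.subset_span ⟨i, rfl⟩))
  · intro h0
    have hli' : LinearIndependent ℤ (fun i : ↥Δ => P.root (i : ι)) := hli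
    have := Fintype.linearIndependent_iff.mp hli' x h0
    exact hx (funext this)

/-- For a simple system `Δ` there are positive integers `m_α` such that `(m_α a_{α,β})` is symmetric
and positive definite. -/
theorem exists_rowScaling_cartan_symm_posDef [Finite ι] (Δ : Finset ι)
    (hΔ : IsSimpleSys P (↑Δ : Set ι)) :
    ∃ m : ↥Δ → ℤ, (∀ a, 0 < m a) ∧
      (Matrix.of fun (a b : ↥Δ) => m a * P.pairing (b : ι) (a : ι)).IsSymm ∧
      (Matrix.of fun (a b : ↥Δ) => m a * P.pairing (b : ι) (a : ι)).PosDef := by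
  classical
  have : Fintype ι := Fintype.ofFinite ι
  have hentry : ∀ a b : ↥Δ, P.RootForm (P.root (a : ι)) (P.root (a : ι)) * P.pairing (b : ι) (a : ι)
      = 2 * P.RootForm (P.root (a : ι)) (P.root (b : ι)) := by
    intro a b
    rw [mul_comm, ← two_mul_rootForm_root_root, ← P.rootForm_symmetric.eq (P.root ↑a) (P.root ↑b)]
    rfl
  have hsymm : (Matrix.of fun (a b : ↥Δ) =>
      P.RootForm (P.root (a : ι)) (P.root (a : ι)) * P.pairing (b : ι) (a : ι)).IsSymm := by
    ext a b
    simp only [Matrix.transpose_apply, Matrix.of_apply]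
    rw [hentry, hentry, ← P.rootForm_symmetric.eq (P.root ↑a) (P.root ↑b)]
    rfl
  refine ⟨fun a => P.RootForm (P.root (a : ι)) (P.root (a : ι)),
    fun a => rootForm_root_self_pos P a, hsymm, ?_⟩
  apply Matrix.PosDef.of_dotProduct_mulVec_pos
  · rw [Matrix.IsHermitian, Matrix.conjTranspose_eq_transpose_of_trivial]
    exact hsymm
  · intro x hx
    have h1 := rootForm_sum_pos hΔ.linInd hx
    rw [rootForm_sum_sum (fun i : ↥Δ => (i : ι)) x x] at h1
    have h2 : star x ⬝ᵥ ((Matrix.of fun (a b : ↥Δ) =>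
        P.RootForm (P.root (a : ι)) (P.root (a : ι)) * P.pairing (b : ι) (a : ι)) *ᵥ x) =
        2 * ∑ i, ∑ j, x i * x j * P.RootForm (P.root (i : ι)) (P.root (j : ι)) := by
      simp only [dotProduct, Matrix.mulVec, star_trivial, Matrix.of_apply, Finset.mul_sum]
      apply Finset.sum_congr rfl
      intro i _
      apply Finset.sum_congr rfl
      intro j _
      rw [hentry]
      ring
    rw [h2]
    linarith

end Groth.Agent.Lib.Helper4.RootDLib

namespace Groth.Agent.Lib.Helper4.RootDLib

open RootD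

variable {ι M N : Type*} [AddCommGroup M] [AddCommGroup N] {P : RootPairing ι ℤ M N}

/-- the Gram determinant of linearly independent roots is positive -/
theorem det_gram_pos [Fintype ι] {Δ : Finset ι} [DecidableEq ↥Δ] (hli : LinearIndepOn ℤ P.root (↑Δ : Set ι)) :
    0 < Matrix.det (Matrix.of fun (a b : ↥Δ) => P.RootForm (P.root (a : ι)) (P.root (b : ι))) := by
  classical
  set G : Matrix ↥Δ ↥Δ ℤ := Matrix.of fun (a b : ↥Δ) =>
    P.RootForm (P.root (a : ι)) (P.root (b : ι)) with hG
  -- `G = C Cᵀ`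
  set C : Matrix ↥Δ ι ℤ := Matrix.of fun (a : ↥Δ) (i : ι) => P.pairing (a : ι) i with hC
  have hGC : G = C * Cᵀ := by
    ext a b
    simp only [hG, hC, Matrix.of_apply, Matrix.mul_apply, Matrix.transpose_apply]
    rw [P.rootForm_apply_apply]
    rfl
  have hnonneg : 0 ≤ G.det := by
    have h1 : (G.map (Int.cast : ℤ → ℝ)) =
        (C.map (Int.cast : ℤ → ℝ)) * (C.map (Int.cast : ℤ → ℝ))ᴴ := by
      rw [hGC, Matrix.conjTranspose_eq_transpose_of_trivial]
      ext a b
      simp [Matrix.mul_apply]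
    have h2 : (G.map (Int.cast : ℤ → ℝ)).PosSemidef := by
      rw [h1]
      exact Matrix.posSemidef_self_mul_conjTranspose _
    have h3 := h2.det_nonneg
    have h4 : (G.map (Int.cast : ℤ → ℝ)).det = ((G.det : ℤ) : ℝ) := by
      have := (Int.castRingHom ℝ).map_det G
      simpa [RingHom.mapMatrix_apply] using this.symm
    rw [h4] at h3
    exact_mod_cast h3
  have hne : G.det ≠ 0 := by
    intro h0
    obtain ⟨v, hv, hGv⟩ := Matrix.exists_mulVec_eq_zero_iff.mpr h0
    have h1 := rootForm_sum_pos hli hv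
    rw [rootForm_sum_sum (fun i : ↥Δ => (i : ι)) v v] at h1
    have h2 : v ⬝ᵥ (G *ᵥ v) =
        ∑ i, ∑ j, v i * v j * P.RootForm (P.root (i : ι)) (P.root (j : ι)) := by
      simp only [dotProduct, Matrix.mulVec, hG, Matrix.of_apply, Finset.mul_sum]
      apply Finset.sum_congr rfl
      intro i _
      apply Finset.sum_congr rfl
      intro j _
      ring
    rw [hGv, dotProduct_zero] at h2
    omega
  omega

/-- Every principal minor of the Cartan matrix is strictly positive. -/
theorem det_cartan_principalMinor_pos [Finite ι] (Δ : Finset ι) (hΔ : IsSimpleSys P (↑Δ : Set ι))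
    (Δ' : Finset ι) [DecidableEq ↥Δ'] (hsub : Δ' ⊆ Δ) :
    0 < Matrix.det (Matrix.of fun (a b : ↥Δ') => P.pairing (b : ι) (a : ι)) := by
  classical
  have : Fintype ι := Fintype.ofFinite ι
  have hli : LinearIndepOn ℤ P.root (↑Δ' : Set ι) :=
    hΔ.linInd.mono (by exact_mod_cast hsub)
  have hG := det_gram_pos hli
  set A : Matrix ↥Δ' ↥Δ' ℤ := Matrix.of fun (a b : ↥Δ') => P.pairing (b : ι) (a : ι) with hA
  set G : Matrix ↥Δ' ↥Δ' ℤ := Matrix.of fun (a b : ↥Δ') =>
    P.RootForm (P.root (a : ι)) (P.root (b : ι)) with hGdef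
  have hDA : Matrix.diagonal (fun a : ↥Δ' => P.RootForm (P.root (a : ι)) (P.root (a : ι))) * A =
      (2 : ℤ) • G := by
    ext a b
    rw [Matrix.diagonal_mul]
    simp only [hA, hGdef, Matrix.of_apply, Matrix.smul_apply, smul_eq_mul]
    rw [mul_comm, ← two_mul_rootForm_root_root, ← P.rootForm_symmetric.eq (P.root ↑a) (P.root ↑b)]
    rfl
  have hdet := congrArg Matrix.det hDA
  rw [Matrix.det_mul, Matrix.det_diagonal, Matrix.det_smul] at hdet
  have hD : 0 < ∏ a : ↥Δ', P.RootForm (P.root (a : ι)) (P.root (a : ι)) :=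
    Finset.prod_pos (fun a _ => rootForm_root_self_pos P a)
  have hR : 0 < (2 : ℤ) ^ Fintype.card ↥Δ' * G.det := mul_pos (by positivity) hG
  rw [← hdet] at hR
  exact (pos_iff_pos_of_mul_pos hR).mp hD

end Groth.Agent.Lib.Helper4.RootDLib
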