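import Mathlib
import Groth.Prelude.Def_W4sga3xxiRoot
import Groth.Agent.Lib.Helper4.RootDCartan

/-!
# Induction on positive roots; extension of additive functions on the roots (SGA3 XXI 3.?)
-/

set_option autoImplicit false

open Module Set Submodule RootPairing

namespace Groth.Agent.Lib.Helper4.RootDLib

open RootD

variable {ι M N : Type*} [AddCommGroup M] [AddCommGroup N] {P : RootPairing ι ℤ M N}

/-- **Induction on positive roots**: a property of roots which holds for the simple roots and is
inherited by `β + α` (`β` positive, `α` simple) holds for all positive roots. -/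
theorem posRoot_induction [Finite ι] {Δ : Set ι} (_hΔ : IsSimpleSys P Δ) {p : ι → Prop}
    (h0 : ∀ e ∈ Δ, p e)
    (hstep : ∀ k' e k : ι, k' ∈ posOf P Δ → e ∈ Δ → P.root k = P.root k' + P.root e → p k' → p k) :
    ∀ k ∈ posOf P Δ, p k := by
  classical
  have key : ∀ (t : ℕ) (c : ι →₀ ℕ) (k : ι), (↑c.support : Set ι) ⊆ Δ →
      (c.sum fun _ n => n) = t → (c.sum fun i n => n • P.root i) = P.root k → p k := by
    intro t
    induction t with
    | zero =>
      intro c k _ hsum hck
      exfalso
      have hc0 : c = 0 := by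
        ext i
        by_contra h
        have h1 : c i ≤ c.sum fun _ n => n :=
          Finset.single_le_sum (f := fun i => c i) (fun _ _ => Nat.zero_le _)
            (Finsupp.mem_support_iff.mpr h)
        simp only [Finsupp.coe_zero, Pi.zero_apply] at h
        omega
      exact finsupp_ne_zero_of_sum_eq_root hck hc0
    | succ t ih =>
      intro c k hcΔ hsum hck
      obtain ⟨e₀, he₀, -, hpos, -⟩ := exists_pairing_pos_of_nsmul_eq_sum (P := P) c.support id c k
        1 one_pos (by rw [one_smul, ← hck]; rfl)
      simp only [id] at hpos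
      by_cases hke : k = e₀
      · rw [hke]
        exact h0 e₀ (hcΔ he₀)
      · obtain ⟨k', hk'⟩ := exists_root_eq_sub P hpos hke
        have hce : c e₀ ≠ 0 := Finsupp.mem_support_iff.mp he₀
        have hcc : c - Finsupp.single e₀ 1 + Finsupp.single e₀ 1 = c :=
          Finsupp.sub_add_single_one_cancel hce
        have h1 : ((c - Finsupp.single e₀ 1).sum fun _ n => n) + 1 = t + 1 := by
          rw [← hsum]
          conv_rhs => rw [← hcc]
          rw [Finsupp.sum_add_index' (by simp) (by intro i m n; rfl),
            Finsupp.sum_single_index (by simp)]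
        have h2 : ((c - Finsupp.single e₀ 1).sum fun i n => n • P.root i) = P.root k' := by
          rw [hk', ← hck]
          conv_rhs => rw [← hcc]
          rw [Finsupp.sum_add_index' (by simp) (by intro i m n; rw [add_smul]),
            Finsupp.sum_single_index (by simp), one_smul]
          abel
        have hsupp' : (↑(c - Finsupp.single e₀ 1).support : Set ι) ⊆ Δ :=
          fun i hi => hcΔ (Finsupp.support_tsub hi)
        have hk'pos : k' ∈ posOf P Δ := by
          change P.root k' ∈ natSpan P Δ
          rw [← h2]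
          exact finsupp_sum_mem_natSpan _ hsupp'
        exact hstep k' e₀ k hk'pos (hcΔ he₀) (by rw [hk']; abel)
          (ih (c - Finsupp.single e₀ 1) k' hsupp' (by omega) h2)
  intro k hk
  obtain ⟨c, hc, hck⟩ := exists_finsupp_of_mem_natSpan hk
  exact key _ c k hc rfl hck

/-- two additive maps on the root lattice which agree on the roots are equal -/
lemma addHom_ext_of_root {G : Type*} [AddCommGroup G]
    {φ ψ : ↥(Submodule.span ℤ (Set.range P.root)) →+ G}
    (h : ∀ i : ι, φ (rootΓ P i) = ψ (rootΓ P i)) : φ = ψ := by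
  ext ⟨x, hx⟩
  induction hx using Submodule.span_induction with
  | mem x hx =>
    obtain ⟨i, rfl⟩ := hx
    exact h i
  | zero =>
    have : (⟨0, zero_mem _⟩ : ↥(Submodule.span ℤ (Set.range P.root))) = 0 := rfl
    rw [this, map_zero, map_zero]
  | add a b ha hb iha ihb =>
    have : (⟨a + b, add_mem ha hb⟩ : ↥(Submodule.span ℤ (Set.range P.root))) =
      ⟨a, ha⟩ + ⟨b, hb⟩ := rfl
    rw [this, map_add, map_add, iha, ihb]
  | smul c a ha iha =>
    have : (⟨c • a, Submodule.smul_mem _ c ha⟩ : ↥(Submodule.span ℤ (Set.range P.root))) =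
      c • ⟨a, ha⟩ := rfl
    rw [this, map_zsmul, map_zsmul, iha]

/-- A map from the roots to an abelian group which is odd and additive on pairs of roots whose sum
is a root extends uniquely to a homomorphism on the root lattice. -/
theorem existsUnique_addHom_extending [Finite ι] (P : RootPairing ι ℤ M N) {G : Type*}
    [AddCommGroup G] (f : ι → G) (hneg : ∀ i : ι, f (P.reflectionPerm i i) = -f i)
    (hadd : ∀ i j k : ι, P.root k = P.root i + P.root j → f k = f i + f j) :
    ∃! φ : ↥(Submodule.span ℤ (Set.range P.root)) →+ G, ∀ i : ι, φ (rootΓ P i) = f i := by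
  classical
  obtain ⟨Δ, hΔ⟩ := exists_isSimpleSys P
  -- the basis of the root lattice given by the simple roots
  have hli : LinearIndependent ℤ (fun e : Δ => rootΓ P (e : ι)) := by
    have h1 : LinearIndependent ℤ (fun e : Δ => P.root (e : ι)) := hΔ.linInd
    exact LinearIndependent.of_comp (Submodule.span ℤ (Set.range P.root)).subtype h1
  have hsp : ⊤ ≤ Submodule.span ℤ (Set.range fun e : Δ => rootΓ P (e : ι)) := by
    have aux : ∀ x (_ : x ∈ Submodule.span ℤ (P.root '' Δ))
        (hx' : x ∈ Submodule.span ℤ (Set.range P.root)),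
        (⟨x, hx'⟩ : ↥(Submodule.span ℤ (Set.range P.root))) ∈
          Submodule.span ℤ (Set.range fun e : Δ => rootΓ P (e : ι)) := by
      intro x hx
      induction hx using Submodule.span_induction with
      | mem x hx =>
        obtain ⟨e, he, rfl⟩ := hx
        intro _
        exact Submodule.subset_span ⟨⟨e, he⟩, rfl⟩
      | zero =>
        intro _
        exact zero_mem _
      | add a b ha hb iha ihb =>
        intro _
        have ha' : a ∈ Submodule.span ℤ (Set.range P.root) := by
          rw [rootSpan_eq_span_simpleSys hΔ]; exact ha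
        have hb' : b ∈ Submodule.span ℤ (Set.range P.root) := by
          rw [rootSpan_eq_span_simpleSys hΔ]; exact hb
        exact add_mem (iha ha') (ihb hb')
      | smul c a ha iha =>
        intro _
        have ha' : a ∈ Submodule.span ℤ (Set.range P.root) := by
          rw [rootSpan_eq_span_simpleSys hΔ]; exact ha
        exact Submodule.smul_mem _ c (iha ha')
    intro y _
    obtain ⟨x, hx⟩ := y
    exact aux x (by rw [← rootSpan_eq_span_simpleSys hΔ]; exact hx) hx
  let b : Basis Δ ℤ ↥(Submodule.span ℤ (Set.range P.root)) := Basis.mk hli hsp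
  let φ : ↥(Submodule.span ℤ (Set.range P.root)) →ₗ[ℤ] G := b.constr ℤ (fun e : Δ => f (e : ι))
  have hφΔ : ∀ e ∈ Δ, φ (rootΓ P e) = f e := by
    intro e he
    have h1 : b ⟨e, he⟩ = rootΓ P e := by
      simp [b]
    rw [← h1]
    simp [φ]
  have hφpos : ∀ k ∈ posOf P Δ, φ (rootΓ P k) = f k := by
    apply posRoot_induction hΔ hφΔ
    intro k' e k _ he hk ih
    have h1 : rootΓ P k = rootΓ P k' + rootΓ P e := Subtype.ext hk
    rw [h1, map_add, ih, hφΔ e he, hadd k' e k hk]
  have hφ : ∀ k, φ (rootΓ P k) = f k := by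
    intro k
    rcases hΔ.mem_or_neg_mem k with h | h
    · exact hφpos k h
    · rw [← root_reflectionPerm_self] at h
      have h1 := hφpos _ h
      rw [rootΓ_reflectionPerm_self, map_neg, hneg] at h1
      exact neg_injective h1
  refine ⟨φ.toAddMonoidHom, hφ, fun ψ hψ => ?_⟩
  apply addHom_ext_of_root
  intro i
  rw [hψ i]
  exact (hφ i).symm

end Groth.Agent.Lib.Helper4.RootDLib

namespace Groth.Agent.Lib.Helper4.RootDLib

open RootD

variable {ι M N : Type*} [AddCommGroup M] [AddCommGroup N] {P : RootPairing ι ℤ M N}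

lemma coroot_reflectionPerm_self (P : RootPairing ι ℤ M N) (i : ι) :
    P.coroot (P.reflectionPerm i i) = -P.coroot i :=
  root_reflectionPerm_self P.flip i

lemma rootForm_root_reflectionPerm_self [Fintype ι] (P : RootPairing ι ℤ M N) (i : ι) :
    P.RootForm (P.root (P.reflectionPerm i i)) (P.root (P.reflectionPerm i i)) =
      P.RootForm (P.root i) (P.root i) := by
  rw [root_reflectionPerm_self]
  simp

/-- `ℓ(α + β) (α + β)^∨ = ℓ(α) α^∨ + ℓ(β) β^∨` -/
lemma rootForm_smul_coroot_add [Fintype ι] (P : RootPairing ι ℤ M N) {i j k : ι}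
    (h : P.root k = P.root i + P.root j) :
    P.RootForm (P.root k) (P.root k) • P.coroot k =
      P.RootForm (P.root i) (P.root i) • P.coroot i +
      P.RootForm (P.root j) (P.root j) • P.coroot j := by
  rw [P.rootForm_self_smul_coroot, P.rootForm_self_smul_coroot, P.rootForm_self_smul_coroot, h,
    map_add, smul_add]

/-- in an irreducible root datum, the minimal length divides all lengths -/
theorem rootForm_min_dvd [Fintype ι] (hirr : IsIrred P) (i₀ : ι)
    (hmin : ∀ i : ι, P.RootForm (P.root i₀) (P.root i₀) ≤ P.RootForm (P.root i) (P.root i))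
    (i : ι) : P.RootForm (P.root i₀) (P.root i₀) ∣ P.RootForm (P.root i) (P.root i) := by
  have hrefl : Module.IsReflexive ℤ M := .of_isPerfPair P.toLinearMap
  have h0 := rootForm_root_self_pos P i₀
  obtain ⟨g, -, hno⟩ := exists_weylGroup_not_isOrthogonal hirr i i₀
  obtain ⟨h1, h2⟩ := pairing_ne_zero_of_not_isOrthogonal P hno
  have e := pairing_mul_rootForm_comm P (g • i) i₀
  rw [rootForm_root_smul] at e
  have hm := hmin i
  have hset := P.pairingIn_pairingIn_mem_set_of_isCrystallographic (g • i) i₀
  rw [pairing_eq_pairingIn, pairing_eq_pairingIn] at hset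
  simp only [Set.mem_insert_iff, Set.mem_singleton_iff, Prod.mk.injEq] at hset
  rcases hset with ⟨a, b⟩ | ⟨a, b⟩ | ⟨a, b⟩ | ⟨a, b⟩ | ⟨a, b⟩ | ⟨a, b⟩ | ⟨a, b⟩ | ⟨a, b⟩ |
      ⟨a, b⟩ | ⟨a, b⟩ | ⟨a, b⟩ | ⟨a, b⟩ | ⟨a, b⟩ | ⟨a, b⟩ | ⟨a, b⟩ | ⟨a, b⟩ | ⟨a, b⟩ <;>
    rw [a, b] at e <;>
    first | (exact absurd a h1) | (exact ⟨1, by linarith⟩) | (exact ⟨2, by linarith⟩) |
      (exact ⟨3, by linarith⟩) | (exact ⟨4, by linarith⟩)

/-- For an irreducible datum there is a unique homomorphism `u : Γ₀(R) → N` with
`u(α) = long(α) α^∨`. -/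
theorem existsUnique_lengthHom_of_irreducible [Fintype ι] (hirr : IsIrred P) (i₀ : ι)
    (hmin : ∀ i : ι, P.RootForm (P.root i₀) (P.root i₀) ≤ P.RootForm (P.root i) (P.root i)) :
    ∃! u : ↥(Submodule.span ℤ (Set.range P.root)) →+ N, ∀ i : ι,
      u (rootΓ P i) = (P.RootForm (P.root i) (P.root i) / P.RootForm (P.root i₀) (P.root i₀)) •
        P.coroot i := by
  have htf : IsAddTorsionFree N := isAddTorsionFree_weight P.flip
  have h0 := rootForm_root_self_pos P i₀
  have hdiv := rootForm_min_dvd hirr i₀ hmin
  apply existsUnique_addHom_extending P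
  · intro i
    rw [rootForm_root_reflectionPerm_self, coroot_reflectionPerm_self, smul_neg]
  · intro i j k hk
    have h1 := rootForm_smul_coroot_add P hk
    have hmul : ∀ m : ι, P.RootForm (P.root m) (P.root m) =
        P.RootForm (P.root i₀) (P.root i₀) *
          (P.RootForm (P.root m) (P.root m) / P.RootForm (P.root i₀) (P.root i₀)) :=
      fun m => (Int.mul_ediv_cancel' (hdiv m)).symm
    rw [hmul k, hmul i, hmul j, mul_smul, mul_smul, mul_smul, ← smul_add] at h1
    exact smul_right_injective N h0.ne' h1

end Groth.Agent.Lib.Helper4.RootDLib
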