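import Mathlib
import Groth.Prelude.Def_W4sga3xxiRoot
import Groth.Agent.Lib.Helper4.RootDExt

/-!
# Simple systems of the dual root datum (SGA3 XXI 3.1.?)
-/

set_option autoImplicit false

open Module Set Submodule RootPairing

namespace Groth.Agent.Lib.Helper4.RootDLib

open RootD

variable {ι M N : Type*} [AddCommGroup M] [AddCommGroup N] {P : RootPairing ι ℤ M N}

/-- the polarization is injective on the root lattice -/
lemma eq_zero_of_polarization_eq_zero [Fintype ι] {x : M}
    (hx : x ∈ Submodule.span ℤ (Set.range P.root)) (h : P.Polarization x = 0) : x = 0 := by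
  apply P.eq_zero_of_mem_rootSpan_of_rootForm_self_eq_zero hx
  rw [← P.toLinearMap_apply_apply_Polarization, h, map_zero]

/-- a positive system of a root datum is a positive system of the dual datum -/
theorem isPosSys_flip [Finite ι] {S : Set ι} (hS : IsPosSys P S) : IsPosSys P.flip S := by
  classical
  have : Fintype ι := Fintype.ofFinite ι
  have htf : IsAddTorsionFree N := isAddTorsionFree_weight P.flip
  rw [isPosSys_iff_closed]
  refine ⟨fun i hi => hS.disjoint hi, hS.cover, ?_⟩
  intro i j k hi hj hk
  have hk' : P.coroot k = P.coroot i + P.coroot j := hk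
  set a := P.RootForm (P.root i) (P.root i) with ha
  set b := P.RootForm (P.root j) (P.root j) with hb
  set c := P.RootForm (P.root k) (P.root k) with hc
  have ha0 : 0 < a := rootForm_root_self_pos P i
  have hb0 : 0 < b := rootForm_root_self_pos P j
  have hc0 : 0 < c := rootForm_root_self_pos P k
  have e1 : a • P.coroot i = 2 • P.Polarization (P.root i) := P.rootForm_self_smul_coroot i
  have e2 : b • P.coroot j = 2 • P.Polarization (P.root j) := P.rootForm_self_smul_coroot j
  have e3 : c • P.coroot k = 2 • P.Polarization (P.root k) := P.rootForm_self_smul_coroot k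
  -- `ab root k = bc root i + ac root j`
  have hx : (a * b) • P.root k - (b * c) • P.root i - (a * c) • P.root j = 0 := by
    apply eq_zero_of_polarization_eq_zero (P := P)
    · refine sub_mem (sub_mem ?_ ?_) ?_ <;>
        exact Submodule.smul_mem _ _ (Submodule.subset_span (Set.mem_range_self _))
    · have h2 : (2 : ℕ) • P.Polarization
          ((a * b) • P.root k - (b * c) • P.root i - (a * c) • P.root j) = (2 : ℕ) • (0 : N) := by
        rw [map_sub, map_sub, map_smul, map_smul, map_smul, smul_sub, smul_sub,
          smul_comm (2 : ℕ) (a * b), smul_comm (2 : ℕ) (b * c), smul_comm (2 : ℕ) (a * c),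
          ← e1, ← e2, ← e3, hk', smul_zero]
        simp only [smul_add, smul_smul]
        have h3 : a * b * c = b * c * a := by ring
        have h4 : a * b * c = a * c * b := by ring
        rw [h3, ← h4]
        rw [h3]
        have h5 : b * c * a = a * c * b := by ring
        rw [h5]
        abel
      exact nsmul_right_injective two_ne_zero h2
  have hab : 0 < a * b := mul_pos ha0 hb0
  obtain ⟨n, hn⟩ : ∃ n : ℕ, (n : ℤ) = a * b := ⟨(a * b).toNat, by omega⟩
  obtain ⟨m₁, hm₁⟩ : ∃ n : ℕ, (n : ℤ) = b * c := ⟨(b * c).toNat, by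
    have := mul_pos hb0 hc0; omega⟩
  obtain ⟨m₂, hm₂⟩ : ∃ n : ℕ, (n : ℤ) = a * c := ⟨(a * c).toNat, by
    have := mul_pos ha0 hc0; omega⟩
  refine hS.sat n (by omega) ?_
  have h6 : n • P.root k = m₁ • P.root i + m₂ • P.root j := by
    rw [← natCast_zsmul, ← natCast_zsmul, ← natCast_zsmul, hn, hm₁, hm₂]
    have := hx
    rw [sub_sub, sub_eq_zero] at this
    exact this
  rw [h6]
  exact add_mem (nsmul_mem (root_mem_natSpan P hi) _) (nsmul_mem (root_mem_natSpan P hj) _)

/-- a criterion for a positive root to be simple -/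
theorem mem_indec_of_reflectionPerm [Finite ι] {S : Set ι} (hS : IsPosSys P S) {e : ι}
    (he : e ∈ S)
    (hrefl : ∀ k ∈ S, (∀ n : ℕ, P.root k ≠ n • P.root e) → P.reflectionPerm e k ∈ S) :
    e ∈ indec P S := by
  refine ⟨he, fun j hj k hk hejk => ?_⟩
  exfalso
  have hprop : ∀ j k : ι, j ∈ S → k ∈ S → P.root e = P.root j + P.root k →
      ∀ n : ℕ, P.root j ≠ n • P.root e := by
    intro j k hj hk hejk n hn
    rcases eq_one_or_two_of_root_eq_nsmul P hn with rfl | rfl
    · rw [one_smul] at hn
      rw [hn] at hejk
      apply P.ne_zero k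
      have := hejk
      simpa using this.symm
    · have h1 : P.root k = -P.root e := by
        rw [hn, two_smul] at hejk
        have : P.root k = P.root e - (P.root e + P.root e) := by
          rw [eq_sub_iff_add_eq, add_comm]; exact hejk.symm
        rw [this]; abel
      have h2 : k = P.reflectionPerm e e := by
        apply P.root.injective
        rw [root_reflectionPerm_self, h1]
      exact hS.disjoint he (h2 ▸ hk)
  have h1 := hrefl j hj (hprop j k hj hk hejk)
  have h2 := hrefl k hk (hprop k j hk hj (by rw [hejk, add_comm]))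
  have h3 : -P.root e ∈ natSpan P S := by
    have : -P.root e = P.root (P.reflectionPerm e j) + P.root (P.reflectionPerm e k) := by
      rw [RootPairing.root_reflectionPerm, RootPairing.root_reflectionPerm, ← map_add, ← hejk,
        RootPairing.reflection_apply_self]
    rw [this]
    exact add_mem (root_mem_natSpan P h1) (root_mem_natSpan P h2)
  exact P.ne_zero e (pointed_of_isPosSys hS _ (root_mem_natSpan P he) h3)

lemma reflectionPerm_eq_of_root_eq_two_smul [Finite ι] {k j : ι}
    (h : P.root k = (2 : ℤ) • P.root j) : P.reflectionPerm k = P.reflectionPerm j := by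
  have := reflection_eq_of_root_eq_two_smul h
  have h2 := congrArg (fun g : P.Aut => g.indexEquiv) this
  exact h2

/-- `root j = 2 root e ↔ coroot e = 2 coroot j` -/
lemma root_eq_two_smul_iff [Finite ι] (P : RootPairing ι ℤ M N) (e j : ι) :
    P.root j = (2 : ℤ) • P.root e ↔ P.coroot e = (2 : ℤ) • P.coroot j := by
  have htf : IsAddTorsionFree N := isAddTorsionFree_weight P.flip
  have htf' : IsAddTorsionFree M := isAddTorsionFree_weight P
  exact (coroot_eq_smul_coroot_iff (P := P) (i := e) (j := j) (t := 2)).symm

end Groth.Agent.Lib.Helper4.RootDLib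

namespace Groth.Agent.Lib.Helper4.RootDLib

open RootD

variable {ι M N : Type*} [AddCommGroup M] [AddCommGroup N] {P : RootPairing ι ℤ M N}

/-- the set `ind(Δ^∨)`: the coroots of `Δ` with each divisible coroot replaced by its half -/
def indCoroots (P : RootPairing ι ℤ M N) (Δ : Set ι) : Set ι :=
  {j : ι | ∃ i ∈ Δ, (j = i ∧ IsIndiv P.flip i) ∨ (2 : ℤ) • P.coroot j = P.coroot i}

lemma two_zsmul_eq_nsmul {A : Type*} [AddCommGroup A] (x : A) : (2 : ℤ) • x = (2 : ℕ) • x := by
  rw [← natCast_zsmul]; rfl

lemma one_nsmul' {A : Type*} [AddCommGroup A] (x : A) : x = (1 : ℕ) • x := (one_smul ℕ x).symm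

/-- the indecomposable elements of `posOf Δ` for the dual datum are `ind(Δ^∨)` -/
theorem indCoroots_eq_indec_flip [Finite ι] {Δ : Set ι} (hΔ : IsSimpleSys P Δ) :
    indCoroots P Δ = indec P.flip (posOf P Δ) := by
  have hS : IsPosSys P (posOf P Δ) := posOf_isPosSys hΔ
  have hS' : IsPosSys P.flip (posOf P Δ) := isPosSys_flip hS
  have hΔ' : IsSimpleSys P.flip (indec P.flip (posOf P Δ)) := isSimpleSys_indec hS'
  have hSΔ' : posOf P Δ = posOf P.flip (indec P.flip (posOf P Δ)) := eq_posOf_indec hS'
  apply Set.Subset.antisymm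
  · rintro j ⟨e, he, ⟨rfl, hind⟩ | h⟩
    · apply mem_indec_of_reflectionPerm hS' (subset_posOf P Δ he)
      intro k hkS hk
      apply reflectionPerm_mem_posOf hΔ hkS he
      intro n hn
      rcases eq_one_or_two_of_root_eq_nsmul P hn with rfl | rfl
      · rw [one_smul] at hn
        apply hk 1
        rw [P.root.injective hn, one_smul]
      · apply hind k
        rw [← two_zsmul_eq_nsmul] at hn
        exact ((root_eq_two_smul_iff P j k).mp hn).symm
    · have hje : P.root j = (2 : ℤ) • P.root e := (root_eq_two_smul_iff P e j).mpr h.symm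
      have hjS : j ∈ posOf P Δ := by
        change P.root j ∈ natSpan P Δ
        rw [hje, two_zsmul_eq_nsmul]
        exact nsmul_mem (root_mem_natSpan P he) _
      apply mem_indec_of_reflectionPerm hS' hjS
      intro k hkS hk
      change P.reflectionPerm j k ∈ posOf P Δ
      rw [reflectionPerm_eq_of_root_eq_two_smul hje]
      apply reflectionPerm_mem_posOf hΔ hkS he
      intro n hn
      rcases eq_one_or_two_of_root_eq_nsmul P hn with rfl | rfl
      · rw [one_smul] at hn
        apply hk 2
        change P.coroot k = (2 : ℕ) • P.coroot j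
        rw [P.root.injective hn, ← two_zsmul_eq_nsmul]
        exact h.symm
      · apply hk 1
        rw [← two_zsmul_eq_nsmul, ← hje] at hn
        rw [P.root.injective hn, one_smul]
  · intro e' he'
    have hinde' : IsIndiv P.flip e' := isIndiv_of_mem_simpleSys hΔ' he'
    have he'S : e' ∈ posOf P Δ := indec_subset _ he'
    by_cases h : IsIndiv P e'
    · have he'Δ : e' ∈ Δ := by
        rw [eq_indec_posOf hΔ]
        apply mem_indec_of_reflectionPerm hS he'S
        intro k hkS hk
        have hkS' : k ∈ posOf P.flip (indec P.flip (posOf P Δ)) := hSΔ' ▸ hkS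
        have := reflectionPerm_mem_posOf hΔ' hkS' he' (by
          intro n hn
          rcases eq_one_or_two_of_root_eq_nsmul P.flip hn with rfl | rfl
          · rw [one_smul] at hn
            apply hk 1
            rw [P.flip.root.injective hn, one_smul]
          · apply h k
            have hn' : P.coroot k = (2 : ℤ) • P.coroot e' := by
              rw [two_zsmul_eq_nsmul]; exact hn
            exact ((root_eq_two_smul_iff P k e').mpr hn').symm)
        rw [hSΔ']
        exact this
      exact ⟨e', he'Δ, Or.inl ⟨rfl, hinde'⟩⟩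
    · obtain ⟨e, hinde, hee'⟩ := exists_indiv_of_not_isIndiv P h
      have hcor : P.coroot e = (2 : ℤ) • P.coroot e' := (root_eq_two_smul_iff P e e').mp hee'
      have heS : e ∈ posOf P Δ := by
        refine hS.sat 2 (by norm_num) ?_
        rw [← two_zsmul_eq_nsmul, ← hee']
        exact root_mem_natSpan P he'S
      have heΔ : e ∈ Δ := by
        rw [eq_indec_posOf hΔ]
        apply mem_indec_of_reflectionPerm hS heS
        intro k hkS hk
        have hkS' : k ∈ posOf P.flip (indec P.flip (posOf P Δ)) := hSΔ' ▸ hkS
        have := reflectionPerm_mem_posOf hΔ' hkS' he' (by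
          intro n hn
          rcases eq_one_or_two_of_root_eq_nsmul P.flip hn with rfl | rfl
          · rw [one_smul] at hn
            apply hk 2
            rw [P.flip.root.injective hn, hee', two_zsmul_eq_nsmul]
          · apply hk 1
            have hn' : P.coroot k = P.coroot e := by
              rw [hcor, two_zsmul_eq_nsmul]; exact hn
            rw [P.flip.root.injective hn', one_smul])
        rw [← reflectionPerm_eq_of_root_eq_two_smul hee', hSΔ']
        exact this
      exact ⟨e, heΔ, Or.inr hcor.symm⟩

/-- If `Δ` is a simple system then `ind(Δ^∨)` is a simple system of the dual datum. -/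
theorem isSimpleSys_flip_indCoroots [Finite ι] {Δ : Set ι} (hΔ : IsSimpleSys P Δ) :
    IsSimpleSys P.flip (indCoroots P Δ) := by
  rw [indCoroots_eq_indec_flip hΔ]
  exact isSimpleSys_indec (isPosSys_flip (posOf_isPosSys hΔ))

end Groth.Agent.Lib.Helper4.RootDLib

namespace Groth.Agent.Lib.Helper4.RootDLib

open RootD

variable {ι M N : Type*} [AddCommGroup M] [AddCommGroup N] {P : RootPairing ι ℤ M N}

/-- If `β = Σ a_α α` along a simple system then `ℓ(β)` divides `2 a_α ℓ(α)`, and `2 ℓ(β)` divides it
when `α^∨` is indivisible. -/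
theorem rootForm_dvd_coeff_of_simpleSys [Fintype ι] {Δ : Set ι} (hΔ : IsSimpleSys P Δ)
    (k : ι) (c : ι →₀ ℤ) (hc : (↑c.support : Set ι) ⊆ Δ)
    (hck : Finsupp.linearCombination ℤ P.root c = P.root k) (i : ι) (hi : i ∈ Δ) :
    P.RootForm (P.root k) (P.root k) ∣ 2 * c i * P.RootForm (P.root i) (P.root i) ∧
      (IsIndiv P.flip i →
        2 * P.RootForm (P.root k) (P.root k) ∣ 2 * c i * P.RootForm (P.root i) (P.root i)) := by
  classical
  have htfM : IsAddTorsionFree M := isAddTorsionFree_weight P
  have hD : IsSimpleSys P.flip (indCoroots P Δ) := isSimpleSys_flip_indCoroots hΔ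
  -- the element `j₀` of `ind(Δ^∨)` on the line of `i`
  obtain ⟨j₀, t, hj₀D, ht, htj₀, htind⟩ : ∃ (j₀ : ι) (t : ℤ), j₀ ∈ indCoroots P Δ ∧
      (t = 1 ∨ t = 2) ∧ t • P.coroot j₀ = P.coroot i ∧ (IsIndiv P.flip i → t = 1) := by
    by_cases hind : IsIndiv P.flip i
    · exact ⟨i, 1, ⟨i, hi, Or.inl ⟨rfl, hind⟩⟩, Or.inl rfl, one_smul _ _, fun _ => rfl⟩
    · unfold IsIndiv at hind
      push Not at hind
      obtain ⟨j, hj⟩ := hind
      exact ⟨j, 2, ⟨i, hi, Or.inr hj⟩, Or.inr rfl, hj, fun h => absurd hj (h j)⟩
  have ht0 : t ≠ 0 := by rcases ht with rfl | rfl <;> norm_num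
  have hroot_j₀ : P.root j₀ = t • P.root i := by
    have htfN : IsAddTorsionFree N := isAddTorsionFree_weight P.flip
    exact (coroot_eq_smul_coroot_iff (P := P) (i := i) (j := j₀) (t := t)).mp htj₀.symm
  -- the other simple coroots lie in the span of the other elements of `ind(Δ^∨)`
  have hother : ∀ e ∈ Δ, e ≠ i →
      P.coroot e ∈ Submodule.span ℤ (P.coroot '' (indCoroots P Δ \ {j₀})) := by
    intro e he hei
    have hne : ∀ (j : ι) (s : ℤ), s ≠ 0 → P.root j = s • P.root e → j ≠ j₀ := by
      intro j s hs hj hjj₀
      -- then `s • root e = t • root i`, contradicting linear independence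
      have h1 : s • P.root e - t • P.root i = 0 := by
        rw [← hj, hjj₀, hroot_j₀, sub_self]
      have h2 : Finsupp.linearCombination ℤ P.root
          (Finsupp.single e s - Finsupp.single i t) = 0 := by
        rw [map_sub, Finsupp.linearCombination_single, Finsupp.linearCombination_single, h1]
      have h3 : (Finsupp.single e s - Finsupp.single i t : ι →₀ ℤ) ∈
          Finsupp.supported ℤ ℤ Δ := by
        refine sub_mem ?_ ?_
        · rw [Finsupp.mem_supported]
          intro x hx
          rw [Finsupp.support_single_ne_zero _ hs, Finset.coe_singleton,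
            Set.mem_singleton_iff] at hx
          rw [hx]; exact he
        · rw [Finsupp.mem_supported]
          intro x hx
          rw [Finsupp.support_single_ne_zero _ ht0, Finset.coe_singleton,
            Set.mem_singleton_iff] at hx
          rw [hx]; exact hi
      have h4 := (linearIndepOn_iff.mp hΔ.linInd) _ h3 h2
      have h5 := DFunLike.congr_fun h4 e
      simp only [Finsupp.coe_sub, Pi.sub_apply, Finsupp.single_eq_same,
        Finsupp.single_eq_of_ne hei, sub_zero, Finsupp.coe_zero, Pi.zero_apply] at h5
      exact hs h5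
    by_cases hind : IsIndiv P.flip e
    · have : e ∈ indCoroots P Δ \ {j₀} :=
        ⟨⟨e, he, Or.inl ⟨rfl, hind⟩⟩, hne e 1 one_ne_zero (one_smul _ _).symm⟩
      exact Submodule.subset_span ⟨e, this, rfl⟩
    · unfold IsIndiv at hind
      push Not at hind
      obtain ⟨j, hj⟩ := hind
      have hj' : P.root j = (2 : ℤ) • P.root e := (root_eq_two_smul_iff P e j).mpr hj.symm
      have : j ∈ indCoroots P Δ \ {j₀} := ⟨⟨e, he, Or.inr hj⟩, hne j 2 two_ne_zero hj'⟩
      have hj2 : P.coroot e = (2 : ℤ) • P.coroot j := hj.symm
      rw [hj2]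
      exact Submodule.smul_mem _ _ (Submodule.subset_span ⟨j, this, rfl⟩)
  -- decompose `coroot k`
  have hkspan : P.coroot k ∈ Submodule.span ℤ (P.coroot '' indCoroots P Δ) := by
    rcases hD.mem_or_neg_mem k with h | h
    · exact natSpan_le_span P.flip _ h
    · have := natSpan_le_span P.flip _ h
      simpa using neg_mem this
  have hins : indCoroots P Δ = insert j₀ (indCoroots P Δ \ {j₀}) := by
    ext x
    by_cases hx : x = j₀
    · simp [hx, hj₀D]
    · simp [hx]
  rw [hins, Set.image_insert_eq, Submodule.mem_span_insert] at hkspan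
  obtain ⟨a, z, hz, hkaz⟩ := hkspan
  -- the formula `ℓ(k) k^∨ = Σ c_e ℓ(e) e^∨`
  have hform : P.RootForm (P.root k) (P.root k) • P.coroot k =
      ∑ e ∈ c.support, (c e * P.RootForm (P.root e) (P.root e)) • P.coroot e := by
    rw [P.rootForm_self_smul_coroot, ← hck, Finsupp.linearCombination_apply, Finsupp.sum,
      map_sum, Finset.smul_sum]
    apply Finset.sum_congr rfl
    intro e _
    rw [map_smul, smul_comm, ← P.rootForm_self_smul_coroot, mul_smul]
  have hsplit : ∑ e ∈ c.support, (c e * P.RootForm (P.root e) (P.root e)) • P.coroot e =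
      (c i * P.RootForm (P.root i) (P.root i)) • P.coroot i +
      ∑ e ∈ c.support.erase i, (c e * P.RootForm (P.root e) (P.root e)) • P.coroot e := by
    by_cases hic : i ∈ c.support
    · rw [Finset.add_sum_erase _ (fun e => (c e * P.RootForm (P.root e) (P.root e)) • P.coroot e)
        hic]
    · rw [Finset.erase_eq_of_notMem hic, Finsupp.notMem_support_iff.mp hic, zero_mul, zero_smul,
        zero_add]
  have hrest : ∑ e ∈ c.support.erase i, (c e * P.RootForm (P.root e) (P.root e)) • P.coroot e ∈
      Submodule.span ℤ (P.coroot '' (indCoroots P Δ \ {j₀})) := by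
    refine sum_mem (fun e he => Submodule.smul_mem _ _ ?_)
    exact hother e (hc (Finset.mem_of_mem_erase he)) (Finset.ne_of_mem_erase he)
  -- compare coefficients of `coroot j₀`
  have hcoef : (P.RootForm (P.root k) (P.root k) * a -
      c i * P.RootForm (P.root i) (P.root i) * t) • P.coroot j₀ ∈
      Submodule.span ℤ (P.coroot '' (indCoroots P Δ \ {j₀})) := by
    have h1 : (P.RootForm (P.root k) (P.root k) * a -
        c i * P.RootForm (P.root i) (P.root i) * t) • P.coroot j₀ =
        ∑ e ∈ c.support.erase i, (c e * P.RootForm (P.root e) (P.root e)) • P.coroot e -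
        P.RootForm (P.root k) (P.root k) • z := by
      have h2 := hform
      rw [hsplit, hkaz, ← htj₀] at h2
      have h3 : ∑ e ∈ c.support.erase i, (c e * P.RootForm (P.root e) (P.root e)) • P.coroot e =
          P.RootForm (P.root k) (P.root k) • (a • P.coroot j₀ + z) -
          (c i * P.RootForm (P.root i) (P.root i)) • t • P.coroot j₀ := by
        rw [h2]; abel
      rw [h3, sub_smul, mul_smul, mul_smul (c i * P.RootForm (P.root i) (P.root i)), smul_add]
      abel
    rw [h1]
    exact sub_mem hrest (Submodule.smul_mem _ _ hz)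
  have hzero := LinearIndepOn.eq_zero_of_smul_mem_span hD.linInd hj₀D _ hcoef
  have hzero' : P.RootForm (P.root k) (P.root k) * a =
      c i * P.RootForm (P.root i) (P.root i) * t := sub_eq_zero.mp hzero
  refine ⟨?_, ?_⟩
  · rcases ht with rfl | rfl
    · exact ⟨2 * a, by linarith⟩
    · exact ⟨a, by linarith⟩
  · intro hind
    rw [htind hind] at hzero'
    exact ⟨a, by linarith⟩

end Groth.Agent.Lib.Helper4.RootDLib
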