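import Mathlib
import Groth.Prelude.Def_W4sga3xxiRoot
import Groth.Agent.Lib.Helper4.RootDDual

/-!
# Pairs of roots: commuting reflections (SGA3 XXI 2.?)
-/

set_option autoImplicit false

open Module Set Submodule RootPairing

namespace Groth.Agent.Lib.Helper4.RootDLib

open RootD

variable {ι M N : Type*} [AddCommGroup M] [AddCommGroup N] {P : RootPairing ι ℤ M N}

lemma reflection_reflectionPerm_self (P : RootPairing ι ℤ M N) (i : ι) :
    Equiv.reflection P (P.reflectionPerm i i) = Equiv.reflection P i := by
  have h := aut_conj_reflection P (Equiv.reflection P i) i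
  rw [reflection_smul_idx] at h
  rw [← h, reflection_mul_self, one_mul, Equiv.reflection_inv]

/-- reflections in proportional roots agree -/
theorem reflection_eq_of_smul_eq_smul [Finite ι] (P : RootPairing ι ℤ M N) {i j : ι} {a b : ℤ}
    (hb : b ≠ 0) (h : b • P.root j = a • P.root i) :
    Equiv.reflection P i = Equiv.reflection P j := by
  have htf : IsAddTorsionFree M := isAddTorsionFree_weight P
  have ha : a ≠ 0 := by
    rintro rfl
    rw [zero_smul] at h
    exact smul_root_ne_zero P j b hb h
  have h4 := pairing_mul_pairing_eq_four_of_smul_eq_smul P hb h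
  have h1 := pairing_of_smul_eq_smul P h i
  rw [RootPairing.pairing_same] at h1
  -- `b * p = 2 a`
  rcases int_mul_eq_four h4 with ⟨hp, -⟩ | ⟨hp, -⟩ | ⟨hp, -⟩ | ⟨hp, -⟩ | ⟨hp, -⟩ | ⟨hp, -⟩
  · -- `b = 2a`: `root i = 2 root j`
    rw [hp, mul_one] at h1
    rw [h1, mul_smul] at h
    have h5 : (2 : ℤ) • P.root j = P.root i := smul_right_injective M ha h
    exact reflection_eq_of_root_eq_two_smul h5.symm
  · -- `b = a`
    rw [hp] at h1
    have hba : b = a := by omega
    rw [hba] at h
    have h5 : P.root j = P.root i := smul_right_injective M ha h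
    rw [P.root.injective h5]
  · -- `2 b = a`: `root j = 2 root i`
    rw [hp] at h1
    have hba : a = b * 2 := by omega
    rw [hba, mul_smul] at h
    have h5 : P.root j = (2 : ℤ) • P.root i := smul_right_injective M hb h
    exact (reflection_eq_of_root_eq_two_smul h5).symm
  · -- `b = -2a`
    rw [hp] at h1
    have hba : b = a * (-2) := by omega
    rw [hba, mul_smul] at h
    have h5 : (-2 : ℤ) • P.root j = P.root i := smul_right_injective M ha h
    have h6 : P.root i = (2 : ℤ) • P.root (P.reflectionPerm j j) := by
      rw [root_reflectionPerm_self, ← h5]; simp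
    rw [reflection_eq_of_root_eq_two_smul h6, reflection_reflectionPerm_self]
  · rw [hp] at h1
    have hba : b = a * (-1) := by omega
    rw [hba, mul_smul] at h
    have h5 : (-1 : ℤ) • P.root j = P.root i := smul_right_injective M ha h
    have h6 : P.root i = P.root (P.reflectionPerm j j) := by
      rw [root_reflectionPerm_self, ← h5]; simp
    rw [P.root.injective h6, reflection_reflectionPerm_self]
  · rw [hp] at h1
    have hba : a = b * (-2) := by omega
    rw [hba, mul_smul] at h
    have h5 : P.root j = (-2 : ℤ) • P.root i := smul_right_injective M hb h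
    have h6 : P.root (P.reflectionPerm j j) = (2 : ℤ) • P.root i := by
      rw [root_reflectionPerm_self, h5]; simp
    rw [← reflection_eq_of_root_eq_two_smul h6, reflection_reflectionPerm_self]

/-- Two roots whose reflections are distinct and commute are orthogonal. -/
theorem isOrthogonal_of_commute_reflection [Finite ι] (P : RootPairing ι ℤ M N) {i j : ι}
    (hne : P.reflection i ≠ P.reflection j) (hc : Commute (P.reflection i) (P.reflection j)) :
    P.IsOrthogonal i j := by
  have htf : IsAddTorsionFree M := isAddTorsionFree_weight P
  by_contra hno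
  obtain ⟨hq, hp⟩ := pairing_ne_zero_of_not_isOrthogonal P hno
  have h1 : P.reflection i (P.reflection j (P.root j)) =
      P.reflection j (P.reflection i (P.root j)) := by
    have := congrArg (fun f : M ≃ₗ[ℤ] M => f (P.root j)) hc.eq
    exact this
  rw [RootPairing.reflection_apply_self, map_neg, RootPairing.reflection_apply_root,
    map_sub, map_zsmul, RootPairing.reflection_apply_self, RootPairing.reflection_apply_root] at h1
  -- `2 p root i = p q root j`
  have h2 : P.pairing j i • ((2 : ℤ) • P.root i) = P.pairing j i • (P.pairing i j • P.root j) := by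
    have : P.pairing j i • ((2 : ℤ) • P.root i) - P.pairing j i • (P.pairing i j • P.root j) =
        (-(P.root j - P.pairing j i • P.root i)) -
        (-P.root j - P.pairing j i • (P.root i - P.pairing i j • P.root j)) := by
      rw [smul_sub, two_smul, smul_add]
      abel
    rw [← sub_eq_zero, this, h1, sub_self]
  have h3 : (2 : ℤ) • P.root i = P.pairing i j • P.root j := smul_right_injective M hp h2
  apply hne
  have := reflection_eq_of_smul_eq_smul P hq h3.symm
  rw [← Equiv.reflection_weightEquiv, ← Equiv.reflection_weightEquiv, this]

end Groth.Agent.Lib.Helper4.RootDLib
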