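import Mathlib
import Groth.Prelude.Def_W4sga3xxiRoot
import Groth.Agent.Lib.Helper4.RootDRank2

/-!
# Ranks of the radical and coradical lattices (SGA3 XXI 6.3)
-/

set_option autoImplicit false

open Module Set Submodule RootPairing

namespace Groth.Agent.Lib.Helper4.RootDLib

open RootD

variable {ι M N : Type*} [AddCommGroup M] [AddCommGroup N]

/-- the coradical lattice is the kernel of the polarization -/
lemma ker_polarization_eq_iInf [Fintype ι] (P : RootPairing ι ℤ M N) :
    LinearMap.ker P.Polarization = (⨅ i : ι, LinearMap.ker (P.coroot' i) : Submodule ℤ M) := by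
  ext x
  rw [LinearMap.mem_ker, Submodule.mem_iInf]
  constructor
  · intro h i
    rw [LinearMap.mem_ker]
    have h1 : P.RootForm x x = 0 := by
      rw [← P.toLinearMap_apply_apply_Polarization, h, map_zero]
    rw [P.rootForm_apply_apply] at h1
    have h2 := (Finset.sum_eq_zero_iff_of_nonneg
      (fun i _ => mul_self_nonneg (P.coroot' i x))).mp h1 i (Finset.mem_univ i)
    exact mul_self_eq_zero.mp h2
  · intro h
    rw [P.Polarization_apply]
    refine Finset.sum_eq_zero (fun i _ => ?_)
    have := h i
    rw [LinearMap.mem_ker] at this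
    rw [this, zero_smul]

lemma finrank_weight_eq_coweight (P : RootPairing ι ℤ M N) [Module.Finite ℤ M] :
    finrank ℤ M = finrank ℤ N := by
  have : Module.IsReflexive ℤ M := Module.IsReflexive.of_isPerfPair P.toLinearMap
  exact Module.finrank_of_isPerfPair P.toLinearMap

/-- `rank (coradical) + rank (root lattice) = rank M` -/
theorem finrank_corad_add_finrank_rootSpan [Finite ι] (P : RootPairing ι ℤ M N)
    [Module.Finite ℤ M] [Module.Finite ℤ N] :
    finrank ℤ (⨅ i : ι, LinearMap.ker (P.coroot' i) : Submodule ℤ M) +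
      finrank ℤ (Submodule.span ℤ (Set.range P.root)) = finrank ℤ M := by
  classical
  have : Fintype ι := Fintype.ofFinite ι
  have : Module.IsReflexive ℤ M := Module.IsReflexive.of_isPerfPair P.toLinearMap
  rw [← ker_polarization_eq_iInf]
  have h1 := (LinearMap.ker P.Polarization).finrank_quotient_add_finrank
  have h2 : finrank ℤ (M ⧸ LinearMap.ker P.Polarization) =
      finrank ℤ (LinearMap.range P.Polarization) :=
    LinearEquiv.finrank_eq P.Polarization.quotKerEquivRange
  have h3 : LinearMap.range P.Polarization ≤ P.corootSpan ℤ := by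
    rintro _ ⟨x, rfl⟩
    rw [P.Polarization_apply]
    refine Submodule.sum_mem _ (fun i _ => Submodule.smul_mem _ _ ?_)
    exact Submodule.subset_span (Set.mem_range_self i)
  have h4 := Submodule.finrank_mono h3
  have h5 : finrank ℤ (P.corootSpan ℤ) = finrank ℤ (P.rootSpan ℤ) := P.finrank_corootSpan_eq'
  have h6 : finrank ℤ (P.rootSpan ℤ) ≤ finrank ℤ (M ⧸ LinearMap.ker P.Polarization) := by
    refine LinearMap.finrank_le_finrank_of_injective
      (f := (LinearMap.ker P.Polarization).mkQ ∘ₗ (P.rootSpan ℤ).subtype) ?_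
    rw [← LinearMap.ker_eq_bot, LinearMap.ker_eq_bot']
    rintro ⟨s, hs⟩ h
    rw [LinearMap.comp_apply, Submodule.mkQ_apply, Submodule.Quotient.mk_eq_zero,
      Submodule.subtype_apply] at h
    have : s = 0 := by
      have hd := P.disjoint_rootSpan_ker_rootForm
      rw [← P.ker_polarization_eq_ker_rootForm] at hd
      exact Submodule.disjoint_def.mp hd s hs h
    exact Subtype.ext this
  change _ + finrank ℤ (P.rootSpan ℤ) = _
  omega

/-- `rank (radical) + rank (root lattice) = rank M` -/
theorem finrank_rad_add_finrank_rootSpan [Finite ι] (P : RootPairing ι ℤ M N)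
    [Module.Finite ℤ M] [Module.Finite ℤ N] :
    finrank ℤ (⨅ i : ι, LinearMap.ker (P.root' i) : Submodule ℤ N) +
      finrank ℤ (Submodule.span ℤ (Set.range P.root)) = finrank ℤ M := by
  classical
  have : Fintype ι := Fintype.ofFinite ι
  have h1 := finrank_corad_add_finrank_rootSpan P.flip
  have h5 : finrank ℤ (P.corootSpan ℤ) = finrank ℤ (P.rootSpan ℤ) := P.finrank_corootSpan_eq'
  rw [finrank_weight_eq_coweight P]
  change _ + finrank ℤ (P.corootSpan ℤ) = _ at h1
  change _ + finrank ℤ (P.rootSpan ℤ) = _
  rw [← h5]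
  exact h1

theorem rootSpan_full_iff_corad_eq_bot [Finite ι] (P : RootPairing ι ℤ M N)
    [Module.Finite ℤ M] [Module.Finite ℤ N] :
    finrank ℤ (Submodule.span ℤ (Set.range P.root)) = finrank ℤ M ↔
      (⨅ i : ι, LinearMap.ker (P.coroot' i) : Submodule ℤ M) = ⊥ := by
  have h := finrank_corad_add_finrank_rootSpan P
  have : Module.IsReflexive ℤ M := Module.IsReflexive.of_isPerfPair P.toLinearMap
  rw [← Submodule.finrank_eq_zero]
  omega

theorem rootSpan_full_iff_rad_eq_bot [Finite ι] (P : RootPairing ι ℤ M N)
    [Module.Finite ℤ M] [Module.Finite ℤ N] :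
    finrank ℤ (Submodule.span ℤ (Set.range P.root)) = finrank ℤ M ↔
      (⨅ i : ι, LinearMap.ker (P.root' i) : Submodule ℤ N) = ⊥ := by
  have h := finrank_rad_add_finrank_rootSpan P
  have : Module.IsReflexive ℤ N := Module.IsReflexive.of_isPerfPair P.flip.toLinearMap
  rw [← Submodule.finrank_eq_zero]
  omega

end Groth.Agent.Lib.Helper4.RootDLib
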