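import Mathlib
import Groth.Prelude.Def_W4sga3xxiRoot
import Groth.Agent.Lib.Helper4.RootDRank

/-!
# Morphisms of root data, isogenies (SGA3 XXI 6.2)
-/

set_option autoImplicit false

open Module Set Submodule RootPairing

namespace Groth.Agent.Lib.Helper4.RootDLib

open RootD

variable {ι M N ι' M' N' : Type*} [AddCommGroup M] [AddCommGroup N]
  [AddCommGroup M'] [AddCommGroup N']
  {P : RootPairing ι ℤ M N} {P' : RootPairing ι' ℤ M' N'}

lemma hom_transpose_apply (f : RootPairing.Hom P' P) (m' : M') (n : N) :
    P.toLinearMap (f.weightMap m') n = P'.toLinearMap m' (f.coweightMap n) := by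
  have h := LinearMap.congr_fun (RootPairing.Hom.weight_coweight_transpose_apply P' P n f) m'
  exact h

lemma hom_root (f : RootPairing.Hom P' P) (i' : ι') :
    f.weightMap (P'.root i') = P.root (f.indexEquiv i') :=
  RootPairing.Hom.root_weightMap_apply P' P i' f

lemma hom_coroot (f : RootPairing.Hom P' P) (i : ι) :
    f.coweightMap (P.coroot i) = P'.coroot (f.indexEquiv.symm i) :=
  RootPairing.Hom.coroot_coweightMap_apply P' P i f

theorem hom_injective_of_semisimple [Finite ι'] [Module.Finite ℤ M'] [Module.Finite ℤ N']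
    (hss' : finrank ℤ (Submodule.span ℤ (Set.range P'.root)) = finrank ℤ M')
    (f : RootPairing.Hom P' P) : Function.Injective f.weightMap := by
  rw [← LinearMap.ker_eq_bot, LinearMap.ker_eq_bot']
  intro x hx
  have hK := (rootSpan_full_iff_corad_eq_bot P').mp hss'
  have : x ∈ (⨅ i : ι', LinearMap.ker (P'.coroot' i) : Submodule ℤ M') := by
    rw [Submodule.mem_iInf]
    intro i'
    rw [LinearMap.mem_ker]
    change P'.toLinearMap x (P'.coroot i') = 0
    have h1 := hom_coroot f (f.indexEquiv i')
    rw [Equiv.symm_apply_apply] at h1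
    rw [← h1, ← hom_transpose_apply, hx, map_zero, LinearMap.zero_apply]
  rw [hK] at this
  exact (Submodule.mem_bot ℤ).mp this

lemma rootSpan_le_range_hom (f : RootPairing.Hom P' P) :
    Submodule.span ℤ (Set.range P.root) ≤ LinearMap.range f.weightMap := by
  rw [Submodule.span_le]
  rintro _ ⟨i, rfl⟩
  refine ⟨P'.root (f.indexEquiv.symm i), ?_⟩
  rw [hom_root, Equiv.apply_symm_apply]

theorem finite_quotient_of_rootSpan_le [Module.Finite ℤ M]
    (hss : finrank ℤ (Submodule.span ℤ (Set.range P.root)) = finrank ℤ M)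
    (T : Submodule ℤ M) (hT : Submodule.span ℤ (Set.range P.root) ≤ T) : Finite (M ⧸ T) := by
  have : Module.IsReflexive ℤ M := Module.IsReflexive.of_isPerfPair P.toLinearMap
  have h1 : Finite (M ⧸ Submodule.span ℤ (Set.range P.root)) :=
    Submodule.finiteQuotientOfFreeOfRankEq _ hss
  exact Finite.of_surjective (Submodule.factor hT) (Submodule.factor_surjective hT)

theorem hom_finite_coker_of_semisimple [Module.Finite ℤ M]
    (hss : finrank ℤ (Submodule.span ℤ (Set.range P.root)) = finrank ℤ M)
    (f : RootPairing.Hom P' P) : Finite (M ⧸ LinearMap.range f.weightMap) :=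
  finite_quotient_of_rootSpan_le hss _ (rootSpan_le_range_hom f)

end Groth.Agent.Lib.Helper4.RootDLib
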