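import Mathlib
import Groth.Prelude.Def_W4sga3xxiRoot
import Groth.Agent.Lib.Helper4.RootDHom

/-!
# The adjoint root datum attached to a root datum (SGA3 XXI 6.5)
-/

set_option autoImplicit false

open Module Set Submodule RootPairing

namespace Groth.Agent.Lib.Helper4.RootDLib

open RootD

universe u v w

variable {ι : Type u} {M : Type v} {N : Type w} [AddCommGroup M] [AddCommGroup N]

/-- The root datum induced on the root lattice, with the dual lattice as coweights. -/
noncomputable def adjPairing [Finite ι] (P : RootPairing ι ℤ M N) [Module.Finite ℤ M] :
    RootPairing ι ℤ (Submodule.span ℤ (Set.range P.root))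
      (Module.Dual ℤ (Submodule.span ℤ (Set.range P.root))) :=
  haveI : Module.IsReflexive ℤ M := Module.IsReflexive.of_isPerfPair P.toLinearMap
  { toLinearMap := (LinearMap.id (R := ℤ)
      (M := Module.Dual ℤ (Submodule.span ℤ (Set.range P.root)))).flip
    isPerfPair_toLinearMap := inferInstance
    root := ⟨fun i => ⟨P.root i, Submodule.subset_span (Set.mem_range_self i)⟩, fun i j h =>
      P.root.injective (congrArg Subtype.val h)⟩
    coroot := ⟨fun i => (P.coroot' i).domRestrict _, fun i j h => by
      have h1 : P.coroot i - P.coroot j = 0 := by
        apply eq_zero_of_mem_rootSpan_of_coroot_eq_zero (P := P.flip)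
        · exact Submodule.sub_mem _ (Submodule.subset_span (Set.mem_range_self i))
            (Submodule.subset_span (Set.mem_range_self j))
        · intro k
          have h2 := LinearMap.congr_fun h ⟨P.root k, Submodule.subset_span (Set.mem_range_self k)⟩
          change P.toLinearMap (P.root k) (P.coroot i) = P.toLinearMap (P.root k) (P.coroot j) at h2
          change P.toLinearMap (P.root k) (P.coroot i - P.coroot j) = 0
          rw [map_sub, h2, sub_self]
      exact P.coroot.injective (sub_eq_zero.mp h1)⟩
    root_coroot_two := fun i => P.root_coroot_two i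
    reflectionPerm := P.reflectionPerm
    reflectionPerm_root := fun i j => Subtype.ext (P.reflectionPerm_root i j)
    reflectionPerm_coroot := fun i j => by
      ext x
      have h := congrArg (fun n => P.toLinearMap (x : M) n) (P.reflectionPerm_coroot i j)
      simp only [map_sub, map_smul] at h
      exact h }

/-- The canonical isogeny from the adjoint datum on the root lattice. -/
noncomputable def adjHom [Finite ι] (P : RootPairing ι ℤ M N) [Module.Finite ℤ M] :
    RootPairing.Hom (adjPairing P) P where
  weightMap := (Submodule.span ℤ (Set.range P.root)).subtype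
  coweightMap := (Submodule.span ℤ (Set.range P.root)).subtype.dualMap ∘ₗ P.toLinearMap.flip
  indexEquiv := Equiv.refl ι
  weight_coweight_transpose := by
    ext n x
    rfl
  root_weightMap := by
    funext i
    rfl
  coroot_coweightMap := by
    funext i
    rfl

theorem adjHom_weightMap [Finite ι] (P : RootPairing ι ℤ M N) [Module.Finite ℤ M] :
    (adjHom P).weightMap = (Submodule.span ℤ (Set.range P.root)).subtype := rfl

/-- A semisimple root datum is adjoint iff every isogeny to it is an isomorphism. -/
theorem adjoint_iff_isogeny_bijective {ι : Type u} {M : Type v} {N : Type w}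
    [AddCommGroup M] [AddCommGroup N]
    (P : RootPairing ι ℤ M N) [Finite ι] [Module.Finite ℤ M] [Module.Finite ℤ N]
    (hss : Module.finrank ℤ (Submodule.span ℤ (Set.range P.root)) = Module.finrank ℤ M) :
    Submodule.span ℤ (Set.range P.root) = ⊤ ↔
      ∀ (ι' : Type u) (M' N' : Type v) [AddCommGroup M'] [AddCommGroup N'] [Finite ι']
        [Module.Finite ℤ M'] [Module.Finite ℤ N'] (P' : RootPairing ι' ℤ M' N')
        (f : RootPairing.Hom P' P),
        Function.Injective f.weightMap → Finite (M ⧸ LinearMap.range f.weightMap) →
          Function.Bijective f.weightMap := by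
  have hrefl : Module.IsReflexive ℤ M := Module.IsReflexive.of_isPerfPair P.toLinearMap
  constructor
  · intro had ι' M' N' _ _ _ _ _ P' f hinj _
    refine ⟨hinj, ?_⟩
    rw [← LinearMap.range_eq_top, eq_top_iff, ← had]
    exact rootSpan_le_range_hom f
  · intro h
    have h1 := h ι (Submodule.span ℤ (Set.range P.root))
      (Module.Dual ℤ (Submodule.span ℤ (Set.range P.root))) (adjPairing P) (adjHom P)
      (Submodule.injective_subtype _) (hom_finite_coker_of_semisimple hss _)
    have h2 := LinearMap.range_eq_top.mpr h1.2
    rw [adjHom_weightMap, Submodule.range_subtype] at h2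
    exact h2

end Groth.Agent.Lib.Helper4.RootDLib
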