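import Mathlib
import Groth.Prelude.Def_W4sga3xxiRoot
import Groth.Agent.Lib.Helper4.RootDAdj

/-!
# p-morphisms of root data (SGA3 XXI 6.8)
-/

set_option autoImplicit false

open Module Set Submodule RootPairing

namespace Groth.Agent.Lib.Helper4.RootDLib

open RootD

variable {ι M N ι' M' N' : Type*} [AddCommGroup M] [AddCommGroup N]
  [AddCommGroup M'] [AddCommGroup N']

/-- The data of a `p`-morphism (only positivity of the exponents is retained). -/
structure PMor (P : RootPairing ι ℤ M N) (P' : RootPairing ι' ℤ M' N') where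
  f : M' →ₗ[ℤ] M
  g : N →ₗ[ℤ] N'
  u : ι ≃ ι'
  q : ι → ℕ
  hfg : ∀ (m' : M') (n : N), P.toLinearMap (f m') n = P'.toLinearMap m' (g n)
  hq : ∀ i, 0 < q i
  hroot : ∀ i : ι, f (P'.root (u i)) = (q i : ℤ) • P.root i
  hcoroot : ∀ i : ι, g (P.coroot i) = (q i : ℤ) • P'.coroot (u i)

namespace PMor

variable {P : RootPairing ι ℤ M N} {P' : RootPairing ι' ℤ M' N'} (φ : PMor P P')

/-- the dual `p`-morphism -/
def flip : PMor P'.flip P.flip where
  f := φ.g
  g := φ.f
  u := φ.u.symm
  q := φ.q ∘ φ.u.symm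
  hfg := fun n m' => (φ.hfg m' n).symm
  hq := fun i' => φ.hq _
  hroot := fun i' => by
    have := φ.hcoroot (φ.u.symm i')
    rw [Equiv.apply_symm_apply] at this
    exact this
  hcoroot := fun i' => by
    have := φ.hroot (φ.u.symm i')
    rw [Equiv.apply_symm_apply] at this
    exact this

lemma pairing (i j : ι) :
    (φ.q j : ℤ) * P'.pairing (φ.u i) (φ.u j) = (φ.q i : ℤ) * P.pairing i j := by
  have h1 : P'.toLinearMap (P'.root (φ.u i)) (φ.g (P.coroot j)) =
      P.toLinearMap (φ.f (P'.root (φ.u i))) (P.coroot j) := (φ.hfg _ _).symm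
  rw [φ.hcoroot, φ.hroot, map_zsmul, map_zsmul, LinearMap.smul_apply] at h1
  exact h1

end PMor

/-- in a reduced root datum, positively proportional roots are equal -/
theorem eq_of_pos_smul_eq_smul_of_isReduced (P : RootPairing ι ℤ M N) [P.IsReduced] {k l : ι}
    {a b : ℤ} (ha : 0 < a) (hb : 0 < b) (h : a • P.root k = b • P.root l) : k = l ∧ a = b := by
  have htf : IsAddTorsionFree M := isAddTorsionFree_weight P
  have hnli : ¬ LinearIndependent ℤ ![P.root k, P.root l] := by
    intro hli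
    rw [LinearIndependent.pair_iff] at hli
    have := hli a (-b) (by rw [neg_smul, h, add_neg_cancel])
    omega
  rcases IsReduced.eq_or_eq_neg k l hnli with h1 | h1
  · have hkl := P.root.injective h1
    refine ⟨hkl, ?_⟩
    rw [h1, ← sub_eq_zero, ← sub_smul] at h
    by_contra hab
    exact smul_root_ne_zero P l (a - b) (sub_ne_zero.mpr hab) h
  · exfalso
    rw [h1, smul_neg, ← sub_eq_zero, ← neg_smul, ← sub_smul] at h
    exact smul_root_ne_zero P l (-a - b) (by omega) h

namespace PMor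

variable {P : RootPairing ι ℤ M N} {P' : RootPairing ι' ℤ M' N'} (φ : PMor P P')

/-- (a) compatibility with reflections -/
theorem reflectionPerm [P.IsReduced] (i j : ι) :
    φ.q (P.reflectionPerm i j) = φ.q j ∧
      φ.u (P.reflectionPerm i j) = P'.reflectionPerm (φ.u i) (φ.u j) := by
  obtain ⟨k, hk⟩ : ∃ k, k = φ.u.symm (P'.reflectionPerm (φ.u i) (φ.u j)) := ⟨_, rfl⟩
  have hk' : φ.u k = P'.reflectionPerm (φ.u i) (φ.u j) := by rw [hk, Equiv.apply_symm_apply]
  have h1 := φ.hroot k
  rw [hk', ← P'.reflectionPerm_root (φ.u i) (φ.u j)] at h1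
  change φ.f (P'.root (φ.u j) - P'.pairing (φ.u j) (φ.u i) • P'.root (φ.u i)) = _ at h1
  rw [map_sub, map_zsmul, φ.hroot, φ.hroot, smul_smul, mul_comm, φ.pairing j i, mul_smul,
    ← smul_sub] at h1
  have h2 : P.root j - P.pairing j i • P.root i = P.root (P.reflectionPerm i j) :=
    P.reflectionPerm_root i j
  rw [h2] at h1
  obtain ⟨h3, h4⟩ := eq_of_pos_smul_eq_smul_of_isReduced P
    (by exact_mod_cast φ.hq j) (by exact_mod_cast φ.hq k) h1
  rw [h3, hk']
  exact ⟨by exact_mod_cast h4.symm, rfl⟩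

end PMor

namespace PMor

variable {P : RootPairing ι ℤ M N} {P' : RootPairing ι' ℤ M' N'} (φ : PMor P P')

lemma rootForm_rel_of_not_orthogonal [Fintype ι] [Fintype ι'] {i j : ι}
    (hij : ¬ P.IsOrthogonal i j) :
    ((φ.q i : ℤ) ^ 2 * P.RootForm (P.root i) (P.root i)) *
        P'.RootForm (P'.root (φ.u j)) (P'.root (φ.u j)) =
      ((φ.q j : ℤ) ^ 2 * P.RootForm (P.root j) (P.root j)) *
        P'.RootForm (P'.root (φ.u i)) (P'.root (φ.u i)) := by
  obtain ⟨hp, hr⟩ := pairing_ne_zero_of_not_isOrthogonal P hij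
  have hA := φ.pairing i j
  have hB := φ.pairing j i
  have hC := pairing_mul_rootForm_comm P i j
  have hD := pairing_mul_rootForm_comm P' (φ.u i) (φ.u j)
  have hqi : (φ.q i : ℤ) ≠ 0 := by exact_mod_cast (φ.hq i).ne'
  have hqj : (φ.q j : ℤ) ≠ 0 := by exact_mod_cast (φ.hq j).ne'
  have hp' : P'.pairing (φ.u i) (φ.u j) ≠ 0 := by
    intro h0
    rw [h0, mul_zero] at hA
    exact mul_ne_zero hqi hp hA.symm
  have hne : P.pairing j i * P'.pairing (φ.u i) (φ.u j) ≠ 0 := mul_ne_zero hr hp'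
  apply mul_left_cancel₀ hne
  generalize P.RootForm (P.root i) (P.root i) = li at *
  generalize P.RootForm (P.root j) (P.root j) = lj at *
  generalize P'.RootForm (P'.root (φ.u i)) (P'.root (φ.u i)) = mi at *
  generalize P'.RootForm (P'.root (φ.u j)) (P'.root (φ.u j)) = mj at *
  generalize P.pairing i j = p at *
  generalize P.pairing j i = r at *
  generalize P'.pairing (φ.u i) (φ.u j) = p' at *
  generalize P'.pairing (φ.u j) (φ.u i) = r' at *
  generalize (φ.q i : ℤ) = a at *
  generalize (φ.q j : ℤ) = b at *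
  linear_combination a ^ 2 * p' * mj * hC - a ^ 2 * p * lj * hD + a * p * lj * mi * hB
    - b * r * lj * mi * hA

/-- the lengths of corresponding roots of a `p`-morphism of irreducible data are proportional,
up to the squares of the exponents -/
theorem rootForm_rel [Fintype ι] [Fintype ι'] (hirr : IsIrred P) (i j : ι) :
    ((φ.q i : ℤ) ^ 2 * P.RootForm (P.root i) (P.root i)) *
        P'.RootForm (P'.root (φ.u j)) (P'.root (φ.u j)) =
      ((φ.q j : ℤ) ^ 2 * P.RootForm (P.root j) (P.root j)) *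
        P'.RootForm (P'.root (φ.u i)) (P'.root (φ.u i)) := by
  set R₁ : Set ι := {k | ((φ.q i : ℤ) ^ 2 * P.RootForm (P.root i) (P.root i)) *
        P'.RootForm (P'.root (φ.u k)) (P'.root (φ.u k)) =
      ((φ.q k : ℤ) ^ 2 * P.RootForm (P.root k) (P.root k)) *
        P'.RootForm (P'.root (φ.u i)) (P'.root (φ.u i))} with hR₁
  have hst : ∀ j k : ι, j ∈ R₁ → ¬ P.IsOrthogonal j k → k ∈ R₁ := by
    intro j k hj hjk
    have h1 : ((φ.q i : ℤ) ^ 2 * P.RootForm (P.root i) (P.root i)) *
        P'.RootForm (P'.root (φ.u j)) (P'.root (φ.u j)) =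
      ((φ.q j : ℤ) ^ 2 * P.RootForm (P.root j) (P.root j)) *
        P'.RootForm (P'.root (φ.u i)) (P'.root (φ.u i)) := hj
    have h2 := φ.rootForm_rel_of_not_orthogonal hjk
    have hm := rootForm_root_self_pos P' (φ.u j)
    change ((φ.q i : ℤ) ^ 2 * P.RootForm (P.root i) (P.root i)) *
        P'.RootForm (P'.root (φ.u k)) (P'.root (φ.u k)) =
      ((φ.q k : ℤ) ^ 2 * P.RootForm (P.root k) (P.root k)) *
        P'.RootForm (P'.root (φ.u i)) (P'.root (φ.u i))
    apply mul_left_cancel₀ hm.ne'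
    linear_combination P'.RootForm (P'.root (φ.u k)) (P'.root (φ.u k)) * h1 +
      P'.RootForm (P'.root (φ.u i)) (P'.root (φ.u i)) * h2
  obtain ⟨h1, h2, h3, h4⟩ := closedSymm_of_stable hst
  have hi : i ∈ R₁ := rfl
  rcases hirr R₁ h1 h2 h3 h4 with h | h
  · rw [h] at hi; exact absurd hi (Set.notMem_empty i)
  · have : j ∈ R₁ := by rw [h]; exact Set.mem_univ j
    exact this

end PMor

end Groth.Agent.Lib.Helper4.RootDLib
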