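import Mathlib
import Groth.Prelude.Def_W4sga3xxiRoot
import Groth.Agent.Lib.Helper4.RootDPMor

/-!
# p-morphisms of root data: positive and simple systems (SGA3 XXI 6.8)
-/

set_option autoImplicit false

open Module Set Submodule RootPairing

namespace Groth.Agent.Lib.Helper4.RootDLib

open RootD

variable {ι M N ι' M' N' : Type*} [AddCommGroup M] [AddCommGroup N]
  [AddCommGroup M'] [AddCommGroup N']

lemma eq_of_root_eq_nsmul_of_isReduced (P : RootPairing ι ℤ M N) [P.IsReduced] {k e : ι} {n : ℕ}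
    (h : P.root k = n • P.root e) : k = e := by
  have hn : 0 < n := by
    rcases Nat.eq_zero_or_pos n with rfl | hn
    · rw [zero_smul] at h
      exact absurd h (P.ne_zero k)
    · exact hn
  have h1 : (1 : ℤ) • P.root k = (n : ℤ) • P.root e := by rw [one_smul, natCast_zsmul, h]
  exact (eq_of_pos_smul_eq_smul_of_isReduced P one_pos (by exact_mod_cast hn) h1).1

/-- in a reduced root datum the simple roots of a positive system are the positive roots whose
reflection permutes the other positive roots -/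
theorem mem_indec_iff_of_isReduced [Finite ι] {P : RootPairing ι ℤ M N} [P.IsReduced] {S : Set ι}
    (hS : IsPosSys P S) (e : ι) :
    e ∈ indec P S ↔ e ∈ S ∧ ∀ k ∈ S, k ≠ e → P.reflectionPerm e k ∈ S := by
  constructor
  · intro he
    refine ⟨indec_subset S he, fun k hk hke => ?_⟩
    have hΔ := isSimpleSys_indec hS
    have hSeq := eq_posOf_indec hS
    rw [hSeq] at hk ⊢
    exact reflectionPerm_mem_posOf hΔ hk he
      (fun n hn => hke (eq_of_root_eq_nsmul_of_isReduced P hn))
  · rintro ⟨he, h⟩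
    refine mem_indec_of_reflectionPerm hS he (fun k hk hnp => h k hk ?_)
    rintro rfl
    exact hnp 1 (one_smul _ _).symm

namespace PMor

variable {P : RootPairing ι ℤ M N} {P' : RootPairing ι' ℤ M' N'} (φ : PMor P P')

lemma u_neg [P.IsReduced] (i : ι) :
    φ.u (P.reflectionPerm i i) = P'.reflectionPerm (φ.u i) (φ.u i) :=
  (φ.reflectionPerm i i).2

lemma f_mem_natSpan {S : Set ι} {x : M'} (hx : x ∈ natSpan P' (φ.u '' S)) :
    φ.f x ∈ natSpan P S := by
  induction hx using AddSubmonoid.closure_induction with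
  | mem x hx =>
    obtain ⟨_, ⟨i, hi, rfl⟩, rfl⟩ := hx
    rw [φ.hroot, natCast_zsmul]
    exact nsmul_mem (root_mem_natSpan P hi) _
  | zero => rw [map_zero]; exact zero_mem _
  | add a b _ _ iha ihb => rw [map_add]; exact add_mem iha ihb

theorem isPosSys_image [P.IsReduced] {S : Set ι} (hS : IsPosSys P S) :
    IsPosSys P' (φ.u '' S) := by
  refine ⟨?_, ?_, ?_⟩
  · rintro _ ⟨i, hi, rfl⟩ ⟨j, hj, hj'⟩
    rw [← φ.u_neg] at hj'
    have := φ.u.injective hj'
    exact hS.disjoint hi (this ▸ hj)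
  · intro i'
    obtain ⟨i, rfl⟩ := φ.u.surjective i'
    rcases hS.cover i with h | h
    · exact Or.inl ⟨i, h, rfl⟩
    · right
      rw [← φ.u_neg]
      exact ⟨_, h, rfl⟩
  · intro k' n hn hk
    obtain ⟨k, rfl⟩ := φ.u.surjective k'
    have := φ.f_mem_natSpan hk
    rw [map_nsmul, φ.hroot, natCast_zsmul, smul_smul] at this
    exact ⟨k, hS.sat (n * φ.q k) (Nat.mul_pos hn (φ.hq k)) this, rfl⟩

theorem isPosSys_iff [Finite ι] [Finite ι'] [P.IsReduced] [P'.IsReduced] {S : Set ι} :
    IsPosSys P S ↔ IsPosSys P' (φ.u '' S) := by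
  constructor
  · exact φ.isPosSys_image
  · intro h
    have h1 : IsPosSys P'.flip (φ.u '' S) := isPosSys_flip h
    have : Module.IsReflexive ℤ N' := Module.IsReflexive.of_isPerfPair P'.flip.toLinearMap
    have : Module.IsReflexive ℤ M' := Module.IsReflexive.of_isPerfPair P'.toLinearMap
    have h2 := φ.flip.isPosSys_image h1
    change IsPosSys P.flip (φ.u.symm '' (φ.u '' S)) at h2
    rw [Equiv.symm_image_image] at h2
    exact isPosSys_flip h2

theorem image_indec [Finite ι] [Finite ι'] [P.IsReduced] [P'.IsReduced] {S : Set ι}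
    (hS : IsPosSys P S) : φ.u '' indec P S = indec P' (φ.u '' S) := by
  have hS' := φ.isPosSys_image hS
  ext i'
  obtain ⟨i, rfl⟩ := φ.u.surjective i'
  rw [mem_indec_iff_of_isReduced hS', φ.u.injective.mem_set_image,
    mem_indec_iff_of_isReduced hS, φ.u.injective.mem_set_image]
  constructor
  · rintro ⟨hi, h⟩
    refine ⟨hi, ?_⟩
    rintro _ ⟨k, hk, rfl⟩ hne
    rw [← (φ.reflectionPerm i k).2]
    exact ⟨_, h k hk (fun h => hne (h ▸ rfl)), rfl⟩
  · rintro ⟨hi, h⟩
    refine ⟨hi, fun k hk hne => ?_⟩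
    have := h (φ.u k) ⟨k, hk, rfl⟩ (fun h => hne (φ.u.injective h))
    rw [← (φ.reflectionPerm i k).2, φ.u.injective.mem_set_image] at this
    exact this

theorem isSimpleSys_iff [Finite ι] [Finite ι'] [P.IsReduced] [P'.IsReduced] {Δ : Set ι} :
    IsSimpleSys P Δ ↔ IsSimpleSys P' (φ.u '' Δ) := by
  constructor
  · intro hΔ
    have hR := posOf_isPosSys hΔ
    have h1 := eq_indec_posOf hΔ
    rw [h1, φ.image_indec hR]
    exact isSimpleSys_indec (φ.isPosSys_image hR)
  · intro hΔ'
    have hR' := posOf_isPosSys hΔ'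
    have h1 := eq_indec_posOf hΔ'
    obtain ⟨R, hR⟩ : ∃ R : Set ι, R = φ.u.symm '' posOf P' (φ.u '' Δ) := ⟨_, rfl⟩
    have huR : φ.u '' R = posOf P' (φ.u '' Δ) := by rw [hR, Equiv.image_symm_image]
    have hRpos : IsPosSys P R := by
      rw [φ.isPosSys_iff, huR]
      exact hR'
    have h2 := φ.image_indec hRpos
    rw [huR, ← h1] at h2
    have h3 : indec P R = Δ := (Set.image_injective.mpr φ.u.injective) h2
    rw [← h3]
    exact isSimpleSys_indec hRpos

end PMor

end Groth.Agent.Lib.Helper4.RootDLib
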