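import Mathlib
import Groth.Prelude.Def_W4sga3xxiRoot
import Groth.Agent.Lib.Helper4.RootDPMor2

/-!
# p-morphisms of root data: Weyl groups (SGA3 XXI 6.8)
-/

set_option autoImplicit false

open Module Set Submodule RootPairing

namespace Groth.Agent.Lib.Helper4.RootDLib

open RootD

variable {ι M N ι' M' N' : Type*} [AddCommGroup M] [AddCommGroup N]
  [AddCommGroup M'] [AddCommGroup N']

/-- Weyl group elements act trivially modulo the root lattice -/
lemma weylGroup_smul_sub_mem_rootSpan (P : RootPairing ι ℤ M N) {w : P.Aut}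
    (hw : w ∈ P.weylGroup) (m : M) :
    w • m - m ∈ Submodule.span ℤ (Set.range P.root) := by
  induction hw using weylGroup.induction generalizing m with
  | mem i =>
    rw [Equiv.reflection_smul, RootPairing.reflection_apply, sub_sub_cancel_left]
    exact Submodule.neg_mem _ (Submodule.smul_mem _ _ (Submodule.subset_span (Set.mem_range_self i)))
  | one => rw [one_smul, sub_self]; exact zero_mem _
  | mul x y hx hy ihx ihy =>
    have : (x * y) • m - m = x • (y • m - m) + (x • m - m) := by
      rw [mul_smul, smul_sub]; abel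
    rw [this]
    exact Submodule.add_mem _ (aut_smul_mem_rootSpan x (ihy m)) (ihx m)

/-- the Weyl group acts faithfully on the roots -/
theorem weylGroup_eq_one_of_fix [Finite ι] (P : RootPairing ι ℤ M N) {w : P.Aut}
    (hw : w ∈ P.weylGroup) (hfix : ∀ i : ι, w • i = i) : w = 1 := by
  apply aut_eq_one_of_fix_roots _ hfix
  intro m
  exact ⟨1, one_pos, by rw [one_smul]; exact weylGroup_smul_sub_mem_rootSpan P hw m⟩

theorem weylGroupToPerm_injective [Finite ι] (P : RootPairing ι ℤ M N) :
    Function.Injective P.weylGroupToPerm := by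
  rw [injective_iff_map_eq_one]
  rintro ⟨w, hw⟩ h
  have h1 : w = 1 := by
    apply weylGroup_eq_one_of_fix P hw
    intro i
    have := congrArg (fun σ : Equiv.Perm ι => σ i) h
    exact this
  exact Subtype.ext h1

lemma weylGroupToPerm_apply (P : RootPairing ι ℤ M N) (w : P.weylGroup) (i : ι) :
    P.weylGroupToPerm w i = (w : P.Aut) • i := rfl

lemma weylGroupToPerm_ofIdx (P : RootPairing ι ℤ M N) (i : ι) :
    P.weylGroupToPerm (weylGroup.ofIdx P i) = P.reflectionPerm i := rfl

namespace PMor

variable {P : RootPairing ι ℤ M N} {P' : RootPairing ι' ℤ M' N'} (φ : PMor P P')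

lemma permCongr_reflectionPerm [P.IsReduced] (i : ι) :
    φ.u.permCongrHom (P.reflectionPerm i) = P'.reflectionPerm (φ.u i) := by
  ext j'
  rw [Equiv.permCongrHom_coe, Equiv.permCongr_apply, (φ.reflectionPerm i _).2,
    Equiv.apply_symm_apply]

lemma map_range_weylGroupToPerm [P.IsReduced] :
    (P.weylGroupToPerm.range).map (φ.u.permCongrHom : Equiv.Perm ι →* Equiv.Perm ι') =
      P'.weylGroupToPerm.range := by
  rw [range_weylGroupToPerm, range_weylGroupToPerm, MonoidHom.map_closure]
  congr 1
  ext σ
  constructor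
  · rintro ⟨_, ⟨i, rfl⟩, rfl⟩
    exact ⟨φ.u i, (φ.permCongr_reflectionPerm i).symm⟩
  · rintro ⟨i', rfl⟩
    refine ⟨_, ⟨φ.u.symm i', rfl⟩, ?_⟩
    have := φ.permCongr_reflectionPerm (φ.u.symm i')
    rw [Equiv.apply_symm_apply] at this
    exact this

/-- (c) the isomorphism of Weyl groups induced by a `p`-morphism -/
noncomputable def weylEquiv [Finite ι] [Finite ι'] [P.IsReduced] :
    P.weylGroup ≃* P'.weylGroup :=
  (MonoidHom.ofInjective (weylGroupToPerm_injective P)).trans
    ((φ.u.permCongrHom.subgroupMap P.weylGroupToPerm.range).trans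
      ((MulEquiv.subgroupCongr φ.map_range_weylGroupToPerm).trans
        (MonoidHom.ofInjective (weylGroupToPerm_injective P')).symm))

lemma weylGroupToPerm_weylEquiv [Finite ι] [Finite ι'] [P.IsReduced] (w : P.weylGroup) :
    P'.weylGroupToPerm (φ.weylEquiv w) = φ.u.permCongrHom (P.weylGroupToPerm w) := by
  have h := MonoidHom.ofInjective_apply (weylGroupToPerm_injective P') (x := φ.weylEquiv w)
  rw [← h]
  unfold weylEquiv
  simp only [MulEquiv.trans_apply, MulEquiv.apply_symm_apply]
  rfl

theorem weylEquiv_ofIdx [Finite ι] [Finite ι'] [P.IsReduced] (i : ι) :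
    φ.weylEquiv (weylGroup.ofIdx P i) = weylGroup.ofIdx P' (φ.u i) := by
  apply weylGroupToPerm_injective P'
  rw [weylGroupToPerm_weylEquiv, weylGroupToPerm_ofIdx, weylGroupToPerm_ofIdx,
    permCongr_reflectionPerm]

theorem u_smul [Finite ι] [Finite ι'] [P.IsReduced] (w : P.weylGroup) (i : ι) :
    φ.u ((w : P.Aut) • i) = ((φ.weylEquiv w : P'.weylGroup) : P'.Aut) • φ.u i := by
  rw [← weylGroupToPerm_apply, ← weylGroupToPerm_apply, weylGroupToPerm_weylEquiv,
    Equiv.permCongrHom_coe, Equiv.permCongr_apply, Equiv.symm_apply_apply]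

theorem q_smul [P.IsReduced] {w : P.Aut} (hw : w ∈ P.weylGroup) (i : ι) :
    φ.q (w • i) = φ.q i := by
  induction hw using weylGroup.induction generalizing i with
  | mem j => rw [reflection_smul_idx]; exact (φ.reflectionPerm j i).1
  | one => rw [one_smul]
  | mul x y hx hy ihx ihy => rw [mul_smul, ihx, ihy]

end PMor

end Groth.Agent.Lib.Helper4.RootDLib
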