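import Mathlib
import Groth.Prelude.Def_W4sga3xxiRoot
import Groth.Agent.Lib.Helper4.RootDPMor3

/-!
# Isomorphisms of adjoint root data from Cartan matrices (SGA3 XXI 7.?)
-/

set_option autoImplicit false

open Module Set Submodule RootPairing

namespace Groth.Agent.Lib.Helper4.RootDLib

open RootD

variable {ι M N ι' M' N' : Type*} [AddCommGroup M] [AddCommGroup N]
  [AddCommGroup M'] [AddCommGroup N']

/-- A linear equivalence of weight lattices mapping roots onto roots is an isomorphism of root data
when the roots span the weight lattice. -/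
noncomputable def equivOfRootSpanTop [Finite ι] (P : RootPairing ι ℤ M N)
    (P' : RootPairing ι' ℤ M' N') (had : Submodule.span ℤ (Set.range P.root) = ⊤)
    (f : M ≃ₗ[ℤ] M') (e : ι ≃ ι') (hf : ∀ i, f (P.root i) = P'.root (e i)) : P.Equiv P' where
  weightMap := f
  coweightMap := P'.flip.toPerfPair.trans (f.dualMap.trans P.flip.toPerfPair.symm)
  indexEquiv := e
  weight_coweight_transpose := by ext; simp
  root_weightMap := by ext; simp [hf]
  coroot_coweightMap := by
    ext i'
    simp only [LinearEquiv.coe_coe, Function.comp_apply, LinearEquiv.trans_apply]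
    rw [LinearEquiv.symm_apply_eq]
    have hrefl : Module.IsReflexive ℤ M := Module.IsReflexive.of_isPerfPair P.toLinearMap
    apply Module.Dual.eq_of_preReflection_mapsTo (x := P.root (e.symm i')) (Φ := range P.root)
      (Set.finite_range _) had
    · rw [LinearEquiv.dualMap_apply, hf, Equiv.apply_symm_apply]
      exact P'.root_coroot_two i'
    · rintro _ ⟨j, rfl⟩
      refine ⟨e.symm (P'.reflectionPerm i' (e j)), ?_⟩
      apply f.injective
      rw [hf, Equiv.apply_symm_apply, preReflection_apply, map_sub, map_zsmul, hf,
        LinearEquiv.dualMap_apply, hf, hf, Equiv.apply_symm_apply, ← P'.reflectionPerm_root]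
      rfl
    · exact P.root_coroot_two _
    · exact P.mapsTo_reflection_root (e.symm i')
  bijective_weightMap := f.bijective
  bijective_coweightMap := LinearEquiv.bijective _

/-- basis of simple roots of an adjoint root datum -/
noncomputable def adjBasis (P : RootPairing ι ℤ M N) (b : P.Base)
    (had : Submodule.span ℤ (Set.range P.root) = ⊤) : Basis b.support ℤ M :=
  Basis.mk b.linearIndepOn_root (by
    change ⊤ ≤ span ℤ (range (P.root ∘ ((↑) : b.support → ι)))
    rw [range_comp, Subtype.range_coe_subtype]
    change ⊤ ≤ span ℤ (P.root '' (b.support : Set ι))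
    rw [b.span_int_root_support, had])

@[simp] lemma adjBasis_apply (P : RootPairing ι ℤ M N) (b : P.Base)
    (had : Submodule.span ℤ (Set.range P.root) = ⊤) (i : b.support) :
    adjBasis P b had i = P.root i := by
  simp [adjBasis]

section Cartan

variable (P : RootPairing ι ℤ M N) (P' : RootPairing ι' ℤ M' N')
  (had : Submodule.span ℤ (Set.range P.root) = ⊤) (had' : Submodule.span ℤ (Set.range P'.root) = ⊤)
  (b : P.Base) (b' : P'.Base) (u : ↥b.support ≃ ↥b'.support)

/-- the linear equivalence of root lattices induced by a bijection of simple roots -/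
noncomputable def cartanLinearEquiv : M ≃ₗ[ℤ] M' :=
  (adjBasis P b had).equiv (adjBasis P' b' had') u

lemma cartanLinearEquiv_root (i : ↥b.support) :
    cartanLinearEquiv P P' had had' b b' u (P.root i) = P'.root (u i) := by
  have := (adjBasis P b had).equiv_apply i (adjBasis P' b' had') u
  rw [adjBasis_apply, adjBasis_apply] at this
  exact this

lemma cartanLinearEquiv_symm :
    (cartanLinearEquiv P P' had had' b b' u).symm = cartanLinearEquiv P' P had' had b' b u.symm :=
  (adjBasis P b had).equiv_symm (adjBasis P' b' had') u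

variable (hu : ∀ i j : ↥b.support, P.pairing (i : ι) (j : ι) = P'.pairing (u i : ι') (u j : ι'))

include hu in
lemma cartanLinearEquiv_reflection (k : ↥b.support) (m : M) :
    cartanLinearEquiv P P' had had' b b' u (P.reflection k m) =
      P'.reflection (u k) (cartanLinearEquiv P P' had had' b b' u m) := by
  have h : ((cartanLinearEquiv P P' had had' b b' u : M →ₗ[ℤ] M') ∘ₗ (P.reflection k : M →ₗ[ℤ] M)) =
      ((P'.reflection (u k) : M' →ₗ[ℤ] M') ∘ₗ (cartanLinearEquiv P P' had had' b b' u : M →ₗ[ℤ] M')) := by
    apply (adjBasis P b had).ext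
    intro j
    simp only [LinearMap.comp_apply, LinearEquiv.coe_coe, adjBasis_apply]
    rw [RootPairing.reflection_apply_root, map_sub, map_zsmul, cartanLinearEquiv_root,
      cartanLinearEquiv_root, RootPairing.reflection_apply_root, hu]
  exact LinearMap.congr_fun h m

include hu in
lemma cartanLinearEquiv_mem_range_root [Finite ι] [P.IsReduced] (i : ι) :
    cartanLinearEquiv P P' had had' b b' u (P.root i) ∈ Set.range P'.root := by
  apply b.induction_reflect i
  · rintro j ⟨k, hk⟩
    refine ⟨P'.reflectionPerm k k, ?_⟩
    rw [root_reflectionPerm_self, hk, root_reflectionPerm_self, map_neg]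
  · intro j hj
    exact ⟨u ⟨j, hj⟩, (cartanLinearEquiv_root P P' had had' b b' u ⟨j, hj⟩).symm⟩
  · rintro j k ⟨l, hl⟩ hk
    refine ⟨P'.reflectionPerm (u ⟨k, hk⟩) l, ?_⟩
    rw [RootPairing.root_reflectionPerm, RootPairing.root_reflectionPerm,
      cartanLinearEquiv_reflection P P' had had' b b' u hu ⟨k, hk⟩, hl]

end Cartan

/-- **Isomorphism theorem** for reduced adjoint root data: a bijection of bases respecting the
Cartan matrices extends uniquely to an isomorphism. -/
theorem existsUnique_equiv_of_cartan (P : RootPairing ι ℤ M N) (P' : RootPairing ι' ℤ M' N')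
    [Finite ι] [Finite ι'] [P.IsReduced] [P'.IsReduced]
    (had : Submodule.span ℤ (Set.range P.root) = ⊤) (had' : Submodule.span ℤ (Set.range P'.root) = ⊤)
    (b : P.Base) (b' : P'.Base) (u : ↥b.support ≃ ↥b'.support)
    (hu : ∀ i j : ↥b.support, P.pairing (i : ι) (j : ι) = P'.pairing (u i : ι') (u j : ι')) :
    ∃! e : RootPairing.Equiv P P', ∀ i : ↥b.support, e.indexEquiv (i : ι) = (u i : ι') := by
  obtain ⟨F, hF⟩ : ∃ F, F = cartanLinearEquiv P P' had had' b b' u := ⟨_, rfl⟩
  have hu' : ∀ i j : ↥b'.support,
      P'.pairing (i : ι') (j : ι') = P.pairing (u.symm i : ι) (u.symm j : ι) := by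
    intro i j
    rw [hu, Equiv.apply_symm_apply, Equiv.apply_symm_apply]
  have h1 : ∀ i, ∃ i', F (P.root i) = P'.root i' := by
    intro i
    obtain ⟨i', hi'⟩ := cartanLinearEquiv_mem_range_root P P' had had' b b' u hu i
    exact ⟨i', by rw [hF, hi']⟩
  have h2 : ∀ i', ∃ i, F.symm (P'.root i') = P.root i := by
    intro i'
    obtain ⟨i, hi⟩ := cartanLinearEquiv_mem_range_root P' P had' had b' b u.symm hu' i'
    exact ⟨i, by rw [hF, cartanLinearEquiv_symm, hi]⟩
  let e' : ι ≃ ι' :=
    { toFun := fun i => (h1 i).choose
      invFun := fun i' => (h2 i').choose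
      left_inv := fun i => by
        apply P.root.injective
        rw [← (h2 _).choose_spec, ← (h1 i).choose_spec, LinearEquiv.symm_apply_apply]
      right_inv := fun i' => by
        apply P'.root.injective
        rw [← (h1 _).choose_spec, ← (h2 i').choose_spec, LinearEquiv.apply_symm_apply] }
  have he' : ∀ i, F (P.root i) = P'.root (e' i) := fun i => (h1 i).choose_spec
  refine ⟨equivOfRootSpanTop P P' had F e' he', ?_, ?_⟩
  · intro i
    apply P'.root.injective
    change P'.root (e' i) = _
    rw [← he', hF, cartanLinearEquiv_root]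
  · intro e₂ he₂
    have key : ∀ (e₁ e₂ : RootPairing.Equiv P P'),
        (∀ i : ↥b.support, e₁.indexEquiv (i : ι) = (u i : ι')) →
        (∀ i : ↥b.support, e₂.indexEquiv (i : ι) = (u i : ι')) → e₁ = e₂ := by
      intro e₁ e₂ h₁ h₂
      have hw : e₁.weightMap = e₂.weightMap := by
        apply (adjBasis P b had).ext
        intro i
        rw [adjBasis_apply, RootPairing.Hom.root_weightMap_apply P P' i e₁.toHom,
          RootPairing.Hom.root_weightMap_apply P P' i e₂.toHom, h₁, h₂]
      have hc : e₁.coweightMap = e₂.coweightMap := by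
        ext n'
        apply P.flip.toPerfPair.injective
        rw [← RootPairing.Hom.weight_coweight_transpose_apply P P' n' e₁.toHom,
          ← RootPairing.Hom.weight_coweight_transpose_apply P P' n' e₂.toHom, hw]
      have hi : e₁.indexEquiv = e₂.indexEquiv := by
        ext i
        apply P'.root.injective
        rw [← RootPairing.Hom.root_weightMap_apply P P' i e₁.toHom,
          ← RootPairing.Hom.root_weightMap_apply P P' i e₂.toHom, hw]
      exact RootPairing.Equiv.ext hw hc hi
    exact key _ _ he₂ (fun i => by
      apply P'.root.injective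
      change P'.root (e' i) = _
      rw [← he', hF, cartanLinearEquiv_root])

end Groth.Agent.Lib.Helper4.RootDLib
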