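import Mathlib
import Groth.Prelude.Def_W4sga3xxiRoot
import Groth.Agent.Lib.Helper4.RootDIso
import Groth.Agent.Lib.Helper4.DihedralCard

/-!
# The group generated by two reflections (SGA3 XXI 2.?)
-/

set_option autoImplicit false

open Module Set Submodule RootPairing

namespace Groth.Agent.Lib.Helper4.RootDLib

open RootD

variable {ι M N : Type*} [AddCommGroup M] [AddCommGroup N] {P : RootPairing ι ℤ M N}

/-- elements of the group generated by the reflections in `Δ'` move weights by elements of the
span of `Δ'` -/
lemma reflSubgroup_smul_sub_mem_span {Δ' : Set ι} {g : P.Aut} (hg : g ∈ reflSubgroup P Δ')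
    (m : M) : g • m - m ∈ Submodule.span ℤ (P.root '' Δ') := by
  obtain ⟨l, hl, rfl⟩ := exists_word_of_mem_reflSubgroup hg
  clear hg
  induction l generalizing m with
  | nil => simp
  | cons u l ih =>
    rw [wordProd_cons, mul_smul, Equiv.reflection_smul, RootPairing.reflection_apply]
    have h1 := ih m (fun b hb => hl b (List.mem_cons_of_mem u hb))
    have h2 : wordProd P l • m - (P.coroot' u) (wordProd P l • m) • P.root u - m =
        (wordProd P l • m - m) - (P.coroot' u) (wordProd P l • m) • P.root u := by abel
    rw [h2]
    exact Submodule.sub_mem _ h1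
      (Submodule.smul_mem _ _ (root_mem_span_image (hl u List.mem_cons_self)))

/-- an element of the group generated by the reflections in `Δ'` which fixes `Δ'` is trivial -/
theorem eq_one_of_fix_of_mem_reflSubgroup [Finite ι] {Δ' : Set ι} {g : P.Aut}
    (hg : g ∈ reflSubgroup P Δ') (hfix : ∀ a ∈ Δ', g • a = a) : g = 1 := by
  have htf : IsAddTorsionFree M := isAddTorsionFree_weight P
  have hV : ∀ v ∈ Submodule.span ℤ (P.root '' Δ'), g • v = v := by
    intro v hv
    induction hv using Submodule.span_induction with
    | mem x hx =>
      obtain ⟨a, ha, rfl⟩ := hx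
      rw [← root_smul, hfix a ha]
    | zero => rw [smul_zero]
    | add x y _ _ ihx ihy => rw [smul_add, ihx, ihy]
    | smul c x _ ih => rw [smul_comm, ih]
  have hfin : Finite P.weylGroup := Finite.of_injective _ (weylGroupToPerm_injective P)
  have hgW : g ∈ P.weylGroup := reflSubgroup_le_weylGroup Δ' hg
  obtain ⟨n, hn, hgn⟩ := (isOfFinOrder_of_finite (⟨g, hgW⟩ : P.weylGroup)).exists_pow_eq_one
  have hgn' : g ^ n = 1 := by
    have := congrArg Subtype.val hgn
    simpa using this
  apply Equiv.weightHom_injective
  ext m
  change g • m = (1 : P.Aut) • m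
  rw [one_smul]
  have hpow : ∀ t : ℕ, g ^ t • m = m + t • (g • m - m) := by
    intro t
    induction t with
    | zero => simp
    | succ t ih =>
      rw [pow_succ', mul_smul, ih, smul_add, smul_comm,
        hV _ (reflSubgroup_smul_sub_mem_span hg m), add_smul, one_smul]
      abel
  have h1 := hpow n
  rw [hgn', one_smul] at h1
  have h2 : n • (g • m - m) = 0 := by
    have : m + n • (g • m - m) = m + 0 := by rw [add_zero]; exact h1.symm
    exact add_left_cancel this
  have h3 : g • m - m = 0 := by
    have := smul_right_injective M (Nat.pos_iff_ne_zero.mp hn) (by rw [h2, smul_zero] : n • (g • m - m) = n • (0 : M))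
    exact this
  exact sub_eq_zero.mp h3

lemma reflection_ne_one (P : RootPairing ι ℤ M N) (i : ι) : Equiv.reflection P i ≠ 1 := by
  intro h
  have h1 := congrArg (fun g : P.Aut => g • P.root i) h
  simp only [one_smul, Equiv.reflection_smul, RootPairing.reflection_apply_self] at h1
  apply smul_root_ne_zero P i 2 (by norm_num)
  rw [two_smul]
  nth_rewrite 1 [← h1]
  exact neg_add_cancel _

lemma closure_pair_eq_reflSubgroup (P : RootPairing ι ℤ M N) (i j : ι) :
    Subgroup.closure ({Equiv.reflection P i, Equiv.reflection P j} : Set P.Aut) =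
      reflSubgroup P {i, j} := by
  unfold reflSubgroup
  rw [Set.image_pair]

/-- the group generated by two reflections is dihedral of order `2n` -/
theorem card_closure_reflection_pair [Finite ι] (P : RootPairing ι ℤ M N) (i j : ι) (n : ℕ)
    (hn : IsLeast {m : ℕ | 0 < m ∧
      ((Equiv.reflection P i * Equiv.reflection P j) ^ m) • i = i ∧
      ((Equiv.reflection P i * Equiv.reflection P j) ^ m) • j = j} n) :
    Nat.card (Subgroup.closure ({Equiv.reflection P i, Equiv.reflection P j} : Set P.Aut)) =
      2 * n := by
  have hsi : Equiv.reflection P i ∈ reflSubgroup P {i, j} :=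
    reflection_mem_reflSubgroup (by simp)
  have hsj : Equiv.reflection P j ∈ reflSubgroup P {i, j} :=
    reflection_mem_reflSubgroup (by simp)
  have hord : orderOf (Equiv.reflection P i * Equiv.reflection P j) = n := by
    rw [orderOf_eq_iff hn.1.1]
    refine ⟨?_, ?_⟩
    · apply eq_one_of_fix_of_mem_reflSubgroup (Δ' := {i, j}) (pow_mem (mul_mem hsi hsj) n)
      intro a ha
      rcases ha with rfl | rfl
      · exact hn.1.2.1
      · exact hn.1.2.2
    · intro m hmn hm hpow
      have : m ∈ {m : ℕ | 0 < m ∧
          ((Equiv.reflection P i * Equiv.reflection P j) ^ m) • i = i ∧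
          ((Equiv.reflection P i * Equiv.reflection P j) ^ m) • j = j} := by
        refine ⟨hm, ?_, ?_⟩ <;> rw [hpow, one_smul]
      have := hn.2 this
      omega
  have := DihedralCard.card_closure_pair (reflection_mul_self P i) (reflection_mul_self P j)
    (reflection_ne_one P i) (reflection_ne_one P j) (by rw [hord]; exact hn.1.1)
  rw [hord] at this
  exact this

end Groth.Agent.Lib.Helper4.RootDLib
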