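import Mathlib
import Groth.Prelude.Def_W4sga3xxiRoot
import Groth.Agent.Lib.Helper4.RootDDihedral

/-!
# Dominant roots for a pair of simple roots (SGA3 XXI 3.?)
-/

set_option autoImplicit false

open Module Set Submodule RootPairing

namespace Groth.Agent.Lib.Helper4.RootDLib

open RootD

variable {ι M N : Type*} [AddCommGroup M] [AddCommGroup N] {P : RootPairing ι ℤ M N}

lemma wordProd_reverse (l : List ι) : wordProd P l.reverse = (wordProd P l)⁻¹ := by
  induction l with
  | nil => simp
  | cons a l ih =>
    rw [List.reverse_cons, wordProd_append, ih, wordProd_cons, wordProd_nil, mul_one,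
      wordProd_cons, mul_inv_rev, Equiv.reflection_inv]

/-- **Deletion**, keeping track of the letters. -/
theorem exists_shorter_word' [Finite ι] {Δ : Set ι} (hΔ : IsSimpleSys P Δ) :
    ∀ (l : List ι), (∀ b ∈ l, b ∈ Δ) → ∀ a ∈ Δ,
      -P.root (wordProd P l • a) ∈ natSpan P Δ →
      ∃ l' : List ι, (∀ b ∈ l', b ∈ l) ∧ l'.length + 1 = l.length ∧
        wordProd P l * Equiv.reflection P a = wordProd P l' := by
  intro l
  induction l with
  | nil =>
    intro _ a ha hneg
    exfalso
    rw [wordProd_nil, one_smul] at hneg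
    exact P.ne_zero a (pointed_of_linearIndepOn hΔ.linInd _ (root_mem_natSpan P ha) hneg)
  | cons u l ih =>
    intro hl a ha hneg
    have hu : u ∈ Δ := hl u List.mem_cons_self
    have hl' : ∀ b ∈ l, b ∈ Δ := fun b hb => hl b (List.mem_cons_of_mem u hb)
    rw [wordProd_cons, mul_smul, reflection_smul_idx] at hneg
    rcases hΔ.mem_or_neg_mem (wordProd P l • a) with hpos | hneg'
    · obtain ⟨n, hn⟩ := exists_nsmul_of_reflectionPerm_neg hΔ hpos hu hneg
      have hind : IsIndiv P (wordProd P l • a) :=
        isIndiv_smul _ (isIndiv_of_mem_simpleSys hΔ ha)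
      have hβu : wordProd P l • a = u := by
        rcases eq_one_or_two_of_root_eq_nsmul P hn with rfl | rfl
        · rw [one_smul] at hn
          exact P.root.injective hn
        · exfalso
          apply hind u
          rw [hn, ← natCast_zsmul]
          rfl
      refine ⟨l, fun b hb => List.mem_cons_of_mem u hb, by simp, ?_⟩
      have h1 := aut_conj_reflection P (wordProd P l) a
      rw [hβu] at h1
      rw [wordProd_cons, ← h1]
      have h2 := reflection_mul_self P a
      calc wordProd P l * Equiv.reflection P a * (wordProd P l)⁻¹ * wordProd P l *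
            Equiv.reflection P a
          = wordProd P l * (Equiv.reflection P a * Equiv.reflection P a) := by group
        _ = wordProd P l := by rw [h2, mul_one]
    · obtain ⟨l'', hl'', hlen, hprod⟩ := ih hl' a ha hneg'
      refine ⟨u :: l'', ?_, by simp [hlen], ?_⟩
      · intro b hb
        rcases List.mem_cons.mp hb with rfl | h
        · exact List.mem_cons_self
        · exact List.mem_cons_of_mem _ (hl'' b h)
      · rw [wordProd_cons, wordProd_cons, mul_assoc, hprod]

lemma mem_natSpan_of_mem_span {Δ Δ' : Set ι} (hli : LinearIndepOn ℤ P.root Δ) (hsub : Δ' ⊆ Δ)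
    {x : M} (hx : x ∈ natSpan P Δ) (hx' : x ∈ Submodule.span ℤ (P.root '' Δ')) :
    x ∈ natSpan P Δ' := by
  obtain ⟨c, hc, rfl⟩ := exists_finsupp_of_mem_natSpan hx
  exact finsupp_sum_mem_natSpan c (support_subset_of_sum_mem_span hli hsub c hc hx')

/-- for a minimal word `a :: l` in the letters `Δ' ⊆ Δ`, the root `(wordProd l)⁻¹ a` is positive,
in the cone of `Δ'` -/
theorem root_inv_smul_mem_natSpan_of_minimal [Finite ι] {Δ Δ' : Set ι} (hΔ : IsSimpleSys P Δ)
    (hsub : Δ' ⊆ Δ) (a : ι) (l : List ι) (hl : ∀ b ∈ a :: l, b ∈ Δ')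
    (hmin : ∀ l₂ : List ι, (∀ b ∈ l₂, b ∈ Δ') → wordProd P l₂ = wordProd P (a :: l) →
      (a :: l).length ≤ l₂.length) :
    P.root ((wordProd P l)⁻¹ • a) ∈ natSpan P Δ' := by
  have ha : a ∈ Δ' := hl a List.mem_cons_self
  have hl' : ∀ b ∈ l, b ∈ Δ' := fun b hb => hl b (List.mem_cons_of_mem a hb)
  have hlr : ∀ b ∈ l.reverse, b ∈ Δ' := fun b hb => hl' b (List.mem_reverse.mp hb)
  rw [← wordProd_reverse]
  rcases hΔ.mem_or_neg_mem (wordProd P l.reverse • a) with hpos | hneg
  · apply mem_natSpan_of_mem_span hΔ.linInd hsub hpos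
    have h1 := root_wordProd_smul_sub_mem_span (P := P) l.reverse hlr a
    have h2 : P.root (wordProd P l.reverse • a) =
        (P.root (wordProd P l.reverse • a) - P.root a) + P.root a := by abel
    rw [h2]
    exact Submodule.add_mem _ h1 (root_mem_span_image ha)
  · exfalso
    obtain ⟨l'', hl'', hlen, hprod⟩ := exists_shorter_word' hΔ l.reverse
      (fun b hb => hsub (hlr b hb)) a (hsub ha) hneg
    have h3 : wordProd P l''.reverse = wordProd P (a :: l) := by
      rw [wordProd_reverse, ← hprod, mul_inv_rev, Equiv.reflection_inv, wordProd_reverse, inv_inv,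
        wordProd_cons]
    have h4 := hmin l''.reverse
      (fun b hb => hlr b (hl'' b (List.mem_reverse.mp hb))) h3
    rw [List.length_reverse, List.length_cons] at h4
    rw [List.length_reverse] at hlen
    omega

/-- a root pairing non-negatively with the roots of `S` pairs non-negatively with every root
in the cone of `S` -/
lemma pairing_nonneg_of_mem_natSpan [Finite ι] {S : Set ι} {k θ : ι}
    (h : ∀ d ∈ S, 0 ≤ P.pairing k d) (hθ : P.root θ ∈ natSpan P S) : 0 ≤ P.pairing k θ := by
  classical
  have : Fintype ι := Fintype.ofFinite ι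
  have h1 : ∀ x ∈ natSpan P S, 0 ≤ P.RootForm (P.root k) x := by
    intro x hx
    induction hx using AddSubmonoid.closure_induction with
    | mem x hx =>
      obtain ⟨d, hd, rfl⟩ := hx
      have h2 := two_mul_rootForm_root_root P k d
      have h3 := rootForm_root_self_pos P d
      have h4 : 0 ≤ P.pairing k d * P.RootForm (P.root d) (P.root d) :=
        mul_nonneg (h d hd) h3.le
      omega
    | zero => simp
    | add a b _ _ iha ihb => rw [map_add]; exact add_nonneg iha ihb
  have h2 := two_mul_rootForm_root_root P k θ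
  have h3 := rootForm_root_self_pos P θ
  have h4 := h1 _ hθ
  by_contra hneg
  push Not at hneg
  have : P.pairing k θ * P.RootForm (P.root θ) (P.root θ) < 0 :=
    mul_neg_of_neg_of_pos hneg h3
  omega

lemma int_finsupp_eq_of_linearIndepOn {Δ : Set ι} (hli : LinearIndepOn ℤ P.root Δ)
    (b c : ι →₀ ℤ) (hb : (↑b.support : Set ι) ⊆ Δ) (hc : (↑c.support : Set ι) ⊆ Δ)
    (h : Finsupp.linearCombination ℤ P.root b = Finsupp.linearCombination ℤ P.root c) :
    b = c := by
  classical
  rw [linearIndepOn_iff] at hli
  have hsupp : b - c ∈ Finsupp.supported ℤ ℤ Δ := by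
    rw [Finsupp.mem_supported]
    intro x hx
    rcases Finset.mem_union.mp (Finsupp.support_sub hx) with h1 | h1
    · exact hb h1
    · exact hc h1
  have := hli (b - c) hsupp (by rw [map_sub, h, sub_self])
  exact sub_eq_zero.mp this

lemma pairing_reflectionPerm_left (P : RootPairing ι ℤ M N) (j k i : ι) :
    P.pairing (P.reflectionPerm j k) i = P.pairing k i - P.pairing k j * P.pairing j i := by
  change P.toLinearMap (P.root (P.reflectionPerm j k)) (P.coroot i) = _
  rw [← P.reflectionPerm_root j k, map_sub, map_zsmul, LinearMap.sub_apply, LinearMap.smul_apply,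
    smul_eq_mul]
  rfl

/-- SGA3 XXI 3.?: for a root `γ` dominant with respect to the simple roots `α`, `β`, and `w` in
the group generated by `s_α`, `s_β`, `γ - w γ` is a non-negative combination of `α`, `β`, non-zero
unless `w ∈ {1, s_β}` (when `(γ, α^∨) > 0`). -/
theorem sub_smul_mem_natSpan_pair [Finite ι] {Δ : Set ι} (hΔ : IsSimpleSys P Δ) {k i j : ι}
    (hi : i ∈ Δ) (hj : j ∈ Δ) (hα : 0 < P.pairing k i) (hβ : 0 ≤ P.pairing k j) {g : P.Aut}
    (hg : g ∈ Subgroup.closure ({Equiv.reflection P i, Equiv.reflection P j} : Set P.Aut)) :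
    P.root k - P.root (g • k) ∈ natSpan P {i, j} ∧
      (g ≠ 1 → g ≠ Equiv.reflection P j → P.root k - P.root (g • k) ≠ 0) := by
  classical
  have hsub : ({i, j} : Set ι) ⊆ Δ := by
    rintro x (rfl | rfl)
    · exact hi
    · exact hj
  have hli' : LinearIndepOn ℤ P.root ({i, j} : Set ι) := hΔ.linInd.mono hsub
  have hdom : ∀ d ∈ ({i, j} : Set ι), 0 ≤ P.pairing k d := by
    rintro d (rfl | rfl)
    · exact hα.le
    · exact hβ
  have key : ∀ l : List ι, (∀ a ∈ l, a ∈ ({i, j} : Set ι)) →
      (∀ l₂ : List ι, (∀ b ∈ l₂, b ∈ ({i, j} : Set ι)) → wordProd P l₂ = wordProd P l →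
        l.length ≤ l₂.length) →
      (P.root k - P.root (wordProd P l • k) ∈ natSpan P {i, j} ∧
        (wordProd P l ≠ 1 → wordProd P l ≠ Equiv.reflection P j →
          P.root k - P.root (wordProd P l • k) ≠ 0)) := by
    intro l
    induction l with
    | nil =>
      intro _ _
      refine ⟨?_, fun h => absurd wordProd_nil h⟩
      rw [wordProd_nil, one_smul, sub_self]
      exact zero_mem _
    | cons a l ih =>
      intro hl hmin
      have ha : a ∈ ({i, j} : Set ι) := hl a List.mem_cons_self
      have hl' : ∀ b ∈ l, b ∈ ({i, j} : Set ι) := fun b hb => hl b (List.mem_cons_of_mem a hb)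
      have hmin' : ∀ l₂ : List ι, (∀ b ∈ l₂, b ∈ ({i, j} : Set ι)) →
          wordProd P l₂ = wordProd P l → l.length ≤ l₂.length := by
        intro l₂ hl₂ h
        have := hmin (a :: l₂) (by
          intro b hb
          rcases List.mem_cons.mp hb with rfl | hb
          · exact ha
          · exact hl₂ b hb) (by rw [wordProd_cons, wordProd_cons, h])
        simpa using this
      obtain ⟨ih1, ih2⟩ := ih hl' hmin'
      have hθ := root_inv_smul_mem_natSpan_of_minimal hΔ hsub a l hl hmin
      have hc : 0 ≤ P.pairing (wordProd P l • k) a := by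
        have h1 := pairing_smul_smul P (wordProd P l)⁻¹ (wordProd P l • k) a
        rw [inv_smul_smul] at h1
        rw [← h1]
        exact pairing_nonneg_of_mem_natSpan hdom hθ
      have hx : P.root k - P.root (wordProd P (a :: l) • k) =
          (P.root k - P.root (wordProd P l • k)) +
            (P.pairing (wordProd P l • k) a).toNat • P.root a := by
        rw [wordProd_cons, mul_smul, reflection_smul_idx, ← P.reflectionPerm_root a,
          ← natCast_zsmul, Int.toNat_of_nonneg hc]
        change P.root k - (P.root (wordProd P l • k) - P.pairing (wordProd P l • k) a • P.root a) = _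
        abel
      have hmem : (P.pairing (wordProd P l • k) a).toNat • P.root a ∈ natSpan P {i, j} :=
        nsmul_mem (root_mem_natSpan P ha) _
      refine ⟨by rw [hx]; exact add_mem ih1 hmem, ?_⟩
      intro hg1 hg2 h0
      rw [hx] at h0
      have hx'0 : P.root k - P.root (wordProd P l • k) = 0 := by
        apply pointed_of_linearIndepOn hli' _ ih1
        rw [eq_neg_of_add_eq_zero_left h0, neg_neg]
        exact hmem
      rw [hx'0, zero_add] at h0
      have hc0 : P.pairing (wordProd P l • k) a = 0 := by
        by_contra hne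
        have hpos : 0 < (P.pairing (wordProd P l • k) a).toNat := by
          rw [Int.lt_toNat]; exact lt_of_le_of_ne hc (Ne.symm hne)
        exact nsmul_root_ne_zero P a hpos h0
      by_cases h1 : wordProd P l = 1
      · rw [h1, one_smul] at hc0
        rcases ha with rfl | rfl
        · omega
        · apply hg2
          rw [wordProd_cons, h1, mul_one]
      · by_cases h2 : wordProd P l = Equiv.reflection P j
        · rw [h2, reflection_smul_idx, pairing_reflectionPerm_left] at hc0
          rcases ha with rfl | rfl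
          · have hij : j ≠ a := by
              rintro rfl
              apply hg1
              rw [wordProd_cons, h2, reflection_mul_self]
            have hle := pairing_le_zero_of_mem_simpleSys hΔ hj hi hij
            have : P.pairing k j * P.pairing j a ≤ 0 := mul_nonpos_of_nonneg_of_nonpos hβ hle
            omega
          · apply hg1
            rw [wordProd_cons, h2, reflection_mul_self]
        · exact ih2 h1 h2 hx'0
  -- choose a minimal word
  rw [closure_pair_eq_reflSubgroup] at hg
  have hex : ∃ n : ℕ, ∃ l : List ι, (∀ a ∈ l, a ∈ ({i, j} : Set ι)) ∧ wordProd P l = g ∧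
      l.length = n := by
    obtain ⟨l, hl, hlg⟩ := exists_word_of_mem_reflSubgroup hg
    exact ⟨_, l, hl, hlg, rfl⟩
  obtain ⟨l, hl, hlg, hlen⟩ := Nat.find_spec hex
  have hmin : ∀ l₂ : List ι, (∀ b ∈ l₂, b ∈ ({i, j} : Set ι)) → wordProd P l₂ = wordProd P l →
      l.length ≤ l₂.length := by
    intro l₂ hl₂ h
    rw [hlen]
    exact Nat.find_min' hex ⟨l₂, hl₂, h.trans hlg, rfl⟩
  have := key l hl hmin
  rw [hlg] at this
  exact this

theorem coeff_sum_of_dominant [Finite ι] {Δ : Set ι} (hΔ : IsSimpleSys P Δ) {k i j : ι}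
    (hi : i ∈ Δ) (hj : j ∈ Δ) (hα : 0 < P.pairing k i) (hβ : 0 ≤ P.pairing k j) {g : P.Aut}
    (hg : g ∈ Subgroup.closure ({Equiv.reflection P i, Equiv.reflection P j} : Set P.Aut))
    (c : ι →₀ ℤ) (hc : (↑c.support : Set ι) ⊆ Δ)
    (hck : Finsupp.linearCombination ℤ P.root c = P.root k - P.root (g • k)) :
    0 ≤ c.sum (fun _ a => a) ∧
      (g ≠ 1 → g ≠ Equiv.reflection P j → 0 < c.sum (fun _ a => a)) := by
  classical
  obtain ⟨h1, h2⟩ := sub_smul_mem_natSpan_pair hΔ hi hj hα hβ hg
  have hsub : ({i, j} : Set ι) ⊆ Δ := by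
    rintro x (rfl | rfl)
    · exact hi
    · exact hj
  obtain ⟨c', hc', hc'x⟩ := exists_finsupp_of_mem_natSpan h1
  obtain ⟨c'', hc''⟩ : ∃ c'' : ι →₀ ℤ, c'' = c'.mapRange (Nat.cast : ℕ → ℤ) Nat.cast_zero :=
    ⟨_, rfl⟩
  have hlin : Finsupp.linearCombination ℤ P.root c'' = P.root k - P.root (g • k) := by
    rw [← hc'x, hc'', Finsupp.linearCombination_apply, Finsupp.sum_mapRange_index (by simp)]
    simp only [natCast_zsmul]
  have hsupp : (↑c''.support : Set ι) ⊆ Δ := by
    intro x hx
    rw [hc''] at hx
    exact hsub (hc' (Finsupp.support_mapRange hx))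
  have hcc : c = c'' := int_finsupp_eq_of_linearIndepOn hΔ.linInd c c'' hc hsupp
    (hck.trans hlin.symm)
  have hsum : c.sum (fun _ a => a) = c'.sum (fun _ n => (n : ℤ)) := by
    rw [hcc, hc'', Finsupp.sum_mapRange_index (by simp)]
  rw [hsum, Finsupp.sum]
  refine ⟨Finset.sum_nonneg (fun d _ => by positivity), fun hg1 hg2 => ?_⟩
  have hx := h2 hg1 hg2
  have hne : c' ≠ 0 := by
    rintro rfl
    apply hx
    rw [← hc'x]
    simp
  obtain ⟨d, hd⟩ := Finsupp.support_nonempty_iff.mpr hne
  apply Finset.sum_pos
  · intro e he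
    have := Finsupp.mem_support_iff.mp he
    exact_mod_cast Nat.pos_of_ne_zero this
  · exact ⟨d, hd⟩

end Groth.Agent.Lib.Helper4.RootDLib
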