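import Mathlib
import Groth.Prelude.Def_W4sga3xxiRoot
import Groth.Agent.Lib.Helper4.RootDPairW

/-!
# A simple system adapted to a pair of roots (SGA3 XXI 3.?)
-/

set_option autoImplicit false

open Module Set Submodule RootPairing

namespace Groth.Agent.Lib.Helper4.RootDLib

open RootD

variable {ι M N : Type*} [AddCommGroup M] [AddCommGroup N] {P : RootPairing ι ℤ M N}

section pair

variable {i k : ι} (hli : LinearIndependent ℤ ![P.root i, P.root k])

include hli

lemma pair_coord_unique {x y x' y' : ℤ}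
    (h : x • P.root i + y • P.root k = x' • P.root i + y' • P.root k) : x = x' ∧ y = y' := by
  rw [LinearIndependent.pair_iff] at hli
  have := hli (x - x') (y - y') (by
    rw [sub_smul, sub_smul]
    have : x • P.root i - x' • P.root i + (y • P.root k - y' • P.root k) =
      (x • P.root i + y • P.root k) - (x' • P.root i + y' • P.root k) := by abel
    rw [this, h, sub_self])
  constructor <;> omega

lemma pair_coord_scale {v : M} {n n' x y x' y' : ℤ}
    (h : n • v = x • P.root i + y • P.root k) (h' : n' • v = x' • P.root i + y' • P.root k) :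
    n' * x = n * x' ∧ n' * y = n * y' := by
  apply pair_coord_unique hli
  rw [mul_smul, mul_smul, ← smul_add, ← h, mul_smul, mul_smul, ← smul_add, ← h', smul_comm]

end pair

/-- the saturation of a submodule -/
def satOf (V : Submodule ℤ M) : Submodule ℤ M where
  carrier := {v | ∃ n : ℤ, 0 < n ∧ n • v ∈ V}
  zero_mem' := ⟨1, one_pos, by simp⟩
  add_mem' := by
    rintro a b ⟨n, hn, ha⟩ ⟨m, hm, hb⟩
    refine ⟨n * m, mul_pos hn hm, ?_⟩
    rw [smul_add]
    refine add_mem ?_ ?_
    · rw [mul_comm, mul_smul]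
      exact Submodule.smul_mem _ _ ha
    · rw [mul_smul]
      exact Submodule.smul_mem _ _ hb
  smul_mem' := by
    rintro c a ⟨n, hn, ha⟩
    refine ⟨n, hn, ?_⟩
    rw [smul_comm]
    exact Submodule.smul_mem _ _ ha

lemma mem_satOf {V : Submodule ℤ M} {v : M} : v ∈ satOf V ↔ ∃ n : ℤ, 0 < n ∧ n • v ∈ V := Iff.rfl

lemma le_satOf (V : Submodule ℤ M) : V ≤ satOf V := fun v hv => ⟨1, one_pos, by rwa [one_smul]⟩

/-- the roots in the saturation of a submodule form a saturated set -/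
lemma isSat_satOf (P : RootPairing ι ℤ M N) (V : Submodule ℤ M) :
    IsSat P {m | P.root m ∈ satOf V} := by
  rintro m ⟨n, hn, hnm⟩
  have hle : Submodule.span ℤ (P.root '' {m | P.root m ∈ satOf V}) ≤ satOf V := by
    rw [Submodule.span_le]
    rintro _ ⟨d, hd, rfl⟩
    exact hd
  obtain ⟨n', hn', h⟩ := hle hnm
  refine ⟨n' * n, mul_pos hn' (by exact_mod_cast hn), ?_⟩
  rw [mul_smul, natCast_zsmul]
  exact h

/-- SGA3 XXI 3.?: an indivisible root `α` and a root `γ` not proportional to it: there are a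
simple system containing `α` and a simple root `β` with `γ ∈ ℕ α + ℕ β`. -/
theorem exists_simpleSys_pair [Finite ι] (P : RootPairing ι ℤ M N) (i k : ι)
    (hα : IsIndiv P i) (hli : LinearIndependent ℤ ![P.root i, P.root k]) :
    ∃ Δ : Set ι, IsSimpleSys P Δ ∧ i ∈ Δ ∧
      ∃ j ∈ Δ, ∃ a b : ℕ, P.root k = a • P.root i + b • P.root j := by
  classical
  have htf : IsAddTorsionFree M := isAddTorsionFree_weight P
  obtain ⟨V, hV⟩ : ∃ V : Submodule ℤ M, V = Submodule.span ℤ {P.root i, P.root k} := ⟨_, rfl⟩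
  have hVmem : ∀ v : M, v ∈ V ↔ ∃ x y : ℤ, v = x • P.root i + y • P.root k := by
    intro v
    rw [hV, Submodule.mem_span_pair]
    constructor
    · rintro ⟨x, y, h⟩; exact ⟨x, y, h.symm⟩
    · rintro ⟨x, y, h⟩; exact ⟨x, y, h.symm⟩
  have hsat := isSat_satOf P V
  obtain ⟨r, φ, hφ⟩ := exists_addHom_of_isSat hsat
  -- the positive roots in the saturation
  obtain ⟨T, hT⟩ : ∃ T : Set ι, T = {m | ∃ n : ℤ, 0 < n ∧ ∃ x y : ℤ,
      n • P.root m = x • P.root i + y • P.root k ∧ (0 < y ∨ (y = 0 ∧ 0 < x))} := ⟨_, rfl⟩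
  have hTR : ∀ m ∈ T, P.root m ∈ satOf V := by
    intro m hm
    rw [hT] at hm
    obtain ⟨n, hn, x, y, h, -⟩ := hm
    exact ⟨n, hn, (hVmem _).mpr ⟨x, y, h⟩⟩
  have hT0 : ∀ m ∈ T, φ (rootΓ P m) = 0 := fun m hm => (hφ m).mpr (hTR m hm)
  have hT1 : ∀ m, φ (rootΓ P m) = 0 → m ∈ T ∨ P.reflectionPerm m m ∈ T := by
    intro m hm
    obtain ⟨n, hn, hnV⟩ := (hφ m).mp hm
    obtain ⟨x, y, hxy⟩ := (hVmem _).mp hnV
    have hne : ¬ (x = 0 ∧ y = 0) := by
      rintro ⟨rfl, rfl⟩
      rw [zero_smul, zero_smul, add_zero] at hxy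
      exact smul_root_ne_zero P m n hn.ne' hxy
    have hneg : n • P.root (P.reflectionPerm m m) = (-x) • P.root i + (-y) • P.root k := by
      rw [root_reflectionPerm_self, smul_neg, hxy, neg_smul, neg_smul, neg_add]
    rw [hT]
    by_cases h1 : 0 < y ∨ (y = 0 ∧ 0 < x)
    · exact Or.inl ⟨n, hn, x, y, hxy, h1⟩
    · refine Or.inr ⟨n, hn, -x, -y, hneg, ?_⟩
      omega
  have hT2 : ∀ m ∈ T, P.reflectionPerm m m ∉ T := by
    intro m hm hm'
    rw [hT] at hm hm'
    obtain ⟨n, hn, x, y, h, hc⟩ := hm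
    obtain ⟨n', hn', x', y', h', hc'⟩ := hm'
    rw [root_reflectionPerm_self, smul_neg] at h'
    have h'' : n' • P.root m = (-x') • P.root i + (-y') • P.root k := by
      rw [neg_smul, neg_smul, ← neg_add, ← h', neg_neg]
    obtain ⟨e1, e2⟩ := pair_coord_scale hli h h''
    have hy0 : 0 ≤ y := by omega
    have hy'0 : 0 ≤ y' := by omega
    have p1 : 0 ≤ n' * y := mul_nonneg hn'.le hy0
    have p2 : 0 ≤ n * y' := mul_nonneg hn.le hy'0
    have q1 : n' * y = 0 := by linarith
    have q2 : n * y' = 0 := by linarith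
    have hy : y = 0 := by
      rcases mul_eq_zero.mp q1 with h | h
      · omega
      · exact h
    have hy' : y' = 0 := by
      rcases mul_eq_zero.mp q2 with h | h
      · omega
      · exact h
    have hx : 0 < x := by omega
    have hx' : 0 < x' := by omega
    have p3 : 0 < n' * x := mul_pos hn' hx
    have p4 : 0 < n * x' := mul_pos hn hx'
    linarith
  have hT3 : ∀ m, φ (rootΓ P m) = 0 → ∀ n : ℕ, 0 < n → n • P.root m ∈ natSpan P T → m ∈ T := by
    intro m _ n hn hmem
    have hcone : ∀ v ∈ natSpan P T, ∃ N : ℤ, 0 < N ∧ ∃ x y : ℤ,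
        N • v = x • P.root i + y • P.root k ∧ (0 < y ∨ (y = 0 ∧ 0 ≤ x)) := by
      intro v hv
      induction hv using AddSubmonoid.closure_induction with
      | mem v hv =>
        obtain ⟨d, hd, rfl⟩ := hv
        rw [hT] at hd
        obtain ⟨N, hN, x, y, h, hc⟩ := hd
        exact ⟨N, hN, x, y, h, by omega⟩
      | zero => exact ⟨1, one_pos, 0, 0, by simp, Or.inr ⟨rfl, le_refl _⟩⟩
      | add a b _ _ iha ihb =>
        obtain ⟨N, hN, x, y, h, hc⟩ := iha
        obtain ⟨N', hN', x', y', h', hc'⟩ := ihb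
        refine ⟨N * N', mul_pos hN hN', N' * x + N * x', N' * y + N * y', ?_, ?_⟩
        · have : (N * N') • (a + b) = N' • (N • a) + N • (N' • b) := by module
          rw [this, h, h']
          module
        · rcases hc with hy | ⟨hy, hx⟩ <;> rcases hc' with hy' | ⟨hy', hx'⟩
          · exact Or.inl (add_pos (mul_pos hN' hy) (mul_pos hN hy'))
          · left
            rw [hy', mul_zero, add_zero]
            exact mul_pos hN' hy
          · left
            rw [hy, mul_zero, zero_add]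
            exact mul_pos hN hy'
          · right
            exact ⟨by rw [hy, hy']; ring, add_nonneg (mul_nonneg hN'.le hx) (mul_nonneg hN.le hx')⟩
    obtain ⟨N, hN, x, y, h, hc⟩ := hcone _ hmem
    rw [hT]
    refine ⟨N * n, mul_pos hN (by exact_mod_cast hn), x, y, ?_, ?_⟩
    · rw [mul_smul, natCast_zsmul]
      exact h
    · rcases hc with hy | ⟨hy, hx⟩
      · exact Or.inl hy
      · refine Or.inr ⟨hy, lt_of_le_of_ne hx ?_⟩
        intro hx0
        rw [hy, ← hx0, zero_smul, zero_smul, add_zero, ← natCast_zsmul, ← mul_smul] at h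
        exact smul_root_ne_zero P m _ (mul_pos hN (by exact_mod_cast hn)).ne' h
  obtain ⟨S, hSdef⟩ : ∃ S : Set ι, S = {m | 0 < φ (rootΓ P m)} ∪ T := ⟨_, rfl⟩
  have hS : IsPosSys P S := by
    rw [hSdef]
    exact isPosSys_twoStep φ hT0 hT1 hT2 hT3
  have hΔ := isSimpleSys_indec hS
  have hiT : i ∈ T := by
    rw [hT]
    exact ⟨1, one_pos, 1, 0, by simp, Or.inr ⟨rfl, one_pos⟩⟩
  have hkT : k ∈ T := by
    rw [hT]
    exact ⟨1, one_pos, 0, 1, by simp, Or.inl one_pos⟩
  have hSnonneg : ∀ m ∈ S, 0 ≤ φ (rootΓ P m) := by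
    intro m hm
    rw [hSdef] at hm
    rcases hm with h | h
    · exact le_of_lt h
    · exact (hT0 m h).ge
  have hST : ∀ m ∈ S, φ (rootΓ P m) = 0 → m ∈ T := by
    intro m hm h0
    rw [hSdef] at hm
    rcases hm with h | h
    · rw [Set.mem_ofPred_eq, h0] at h
      exact absurd h (lt_irrefl _)
    · exact h
  have hiΔ : i ∈ indec P S := by
    refine ⟨by rw [hSdef]; exact Or.inr hiT, ?_⟩
    intro j₁ hj₁ j₂ hj₂ hsum
    exfalso
    have h0 : φ (rootΓ P i) = 0 := hT0 i hiT
    have hΓ : rootΓ P i = rootΓ P j₁ + rootΓ P j₂ := Subtype.ext hsum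
    rw [hΓ, map_add] at h0
    have h1 := hSnonneg j₁ hj₁
    have h2 := hSnonneg j₂ hj₂
    obtain ⟨e1, e2⟩ := (add_eq_zero_iff_of_nonneg h1 h2).mp h0
    have hj₁T := hST j₁ hj₁ e1
    have hj₂T := hST j₂ hj₂ e2
    rw [hT] at hj₁T hj₂T
    obtain ⟨n₁, hn₁, x₁, y₁, c₁, s₁⟩ := hj₁T
    obtain ⟨n₂, hn₂, x₂, y₂, c₂, s₂⟩ := hj₂T
    have hcomb : (n₁ * n₂) • P.root i =
        (n₂ * x₁ + n₁ * x₂) • P.root i + (n₂ * y₁ + n₁ * y₂) • P.root k := by
      have : (n₁ * n₂) • P.root i = n₂ • (n₁ • P.root j₁) + n₁ • (n₂ • P.root j₂) := by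
        rw [hsum]; module
      rw [this, c₁, c₂]
      module
    have hcomb' : (n₁ * n₂) • P.root i = (n₁ * n₂) • P.root i + (0 : ℤ) • P.root k := by simp
    obtain ⟨f1, f2⟩ := pair_coord_unique hli (hcomb'.symm.trans hcomb)
    have hy₁0 : 0 ≤ y₁ := by omega
    have hy₂0 : 0 ≤ y₂ := by omega
    have p1 : 0 ≤ n₂ * y₁ := mul_nonneg hn₂.le hy₁0
    have p2 : 0 ≤ n₁ * y₂ := mul_nonneg hn₁.le hy₂0
    have q1 : n₂ * y₁ = 0 := by linarith
    have q2 : n₁ * y₂ = 0 := by linarith
    have hy₁ : y₁ = 0 := by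
      rcases mul_eq_zero.mp q1 with h | h
      · omega
      · exact h
    have hy₂ : y₂ = 0 := by
      rcases mul_eq_zero.mp q2 with h | h
      · omega
      · exact h
    have hx₁ : 0 < x₁ := by omega
    have hx₂ : 0 < x₂ := by omega
    rw [hy₁, zero_smul, add_zero] at c₁
    rw [hy₂, zero_smul, add_zero] at c₂
    obtain ⟨t₁, ht₁⟩ := dvd_of_smul_eq_smul_indiv P hα hn₁.ne' c₁
    obtain ⟨t₂, ht₂⟩ := dvd_of_smul_eq_smul_indiv P hα hn₂.ne' c₂
    have ht₁pos : 0 < t₁ := by
      rw [ht₁] at hx₁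
      exact (mul_pos_iff_of_pos_left hn₁).mp hx₁
    have ht₂pos : 0 < t₂ := by
      rw [ht₂] at hx₂
      exact (mul_pos_iff_of_pos_left hn₂).mp hx₂
    rw [ht₁, ht₂] at f1
    have hnn : 0 < n₁ * n₂ := mul_pos hn₁ hn₂
    nlinarith
  have hkS : k ∈ S := by rw [hSdef]; exact Or.inr hkT
  have hkΔ := root_mem_natSpan_indec hS k hkS
  obtain ⟨hx', -, hzero⟩ := natSpan_nonneg_of_nonneg φ (A := indec P S)
    (fun d hd => hSnonneg d (indec_subset S hd)) hkΔ
  have hk0 : φ ⟨P.root k, hx'⟩ = 0 := hT0 k hkT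
  have hk' := hzero hk0
  obtain ⟨c, hc, hck⟩ := exists_finsupp_of_mem_natSpan hk'
  have hsuppΔ : ∀ d ∈ c.support, d ∈ indec P S := fun d hd => (hc hd).1
  have hsuppR : ∀ d ∈ c.support, ∃ n : ℤ, 0 < n ∧ ∃ x y : ℤ,
      n • P.root d = x • P.root i + y • P.root k := by
    intro d hd
    obtain ⟨n, hn, h⟩ := (hφ d).mp (hc hd).2
    obtain ⟨x, y, hxy⟩ := (hVmem _).mp h
    exact ⟨n, hn, x, y, hxy⟩
  have hexj : ∃ j ∈ c.support, j ≠ i := by
    by_contra hcon
    push Not at hcon
    have h1 : c.sum (fun d n => n • P.root d) = (c i) • P.root i := by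
      rw [Finsupp.sum_of_support_subset c (s := {i})
        (by intro d hd; rw [Finset.mem_singleton]; exact hcon d hd) _ (by simp)]
      simp
    rw [h1] at hck
    rw [LinearIndependent.pair_iff] at hli
    have := hli (c i : ℤ) (-1) (by rw [natCast_zsmul, hck]; simp)
    omega
  obtain ⟨j, hj, hji⟩ := hexj
  have hΔli := hΔ.linInd
  have hjΔ := hsuppΔ j hj
  have hsingle : ∀ d ∈ indec P S, ∀ n : ℤ,
      (↑(Finsupp.single d n).support : Set ι) ⊆ indec P S := by
    intro d hd n e he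
    have := Finsupp.support_single_subset he
    rw [Finset.mem_singleton] at this
    rw [this]
    exact hd
  have hb : ∀ d ∈ c.support, d ≠ i → ∀ n x y : ℤ, 0 < n →
      n • P.root d = x • P.root i + y • P.root k → y ≠ 0 := by
    intro d hd hdi n x y hn h hy
    rw [hy, zero_smul, add_zero] at h
    have := int_finsupp_eq_of_linearIndepOn hΔli (Finsupp.single d n) (Finsupp.single i x)
      (hsingle d (hsuppΔ d hd) n) (hsingle i hiΔ x)
      (by rw [Finsupp.linearCombination_single, Finsupp.linearCombination_single]; exact h)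
    have h2 := DFunLike.congr_fun this d
    rw [Finsupp.single_eq_same, Finsupp.single_eq_of_ne hdi] at h2
    omega
  have hsub : c.support ⊆ {i, j} := by
    intro d hd
    rw [Finset.mem_insert, Finset.mem_singleton]
    by_contra hcon
    push Not at hcon
    obtain ⟨hdi, hdj⟩ := hcon
    obtain ⟨n₁, hn₁, x₁, y₁, h₁⟩ := hsuppR j hj
    obtain ⟨n₂, hn₂, x₂, y₂, h₂⟩ := hsuppR d hd
    have hy₁ := hb j hj hji n₁ x₁ y₁ hn₁ h₁
    have hy₂ := hb d hd hdi n₂ x₂ y₂ hn₂ h₂
    have hrel : (y₂ * n₁) • P.root j + (-(y₁ * n₂)) • P.root d =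
        (x₁ * y₂ - x₂ * y₁) • P.root i := by
      have : (y₂ * n₁) • P.root j + (-(y₁ * n₂)) • P.root d =
          y₂ • (n₁ • P.root j) - y₁ • (n₂ • P.root d) := by module
      rw [this, h₁, h₂]
      module
    have := int_finsupp_eq_of_linearIndepOn hΔli
      (Finsupp.single j (y₂ * n₁) + Finsupp.single d (-(y₁ * n₂)))
      (Finsupp.single i (x₁ * y₂ - x₂ * y₁))
      (by
        intro e he
        rcases Finset.mem_union.mp (Finsupp.support_add he) with h | h
        · exact hsingle j hjΔ _ h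
        · exact hsingle d (hsuppΔ d hd) _ h)
      (hsingle i hiΔ _)
      (by rw [map_add, Finsupp.linearCombination_single, Finsupp.linearCombination_single,
        Finsupp.linearCombination_single]; exact hrel)
    have h2 := DFunLike.congr_fun this j
    rw [Finsupp.add_apply, Finsupp.single_eq_same, Finsupp.single_eq_of_ne (Ne.symm hdj),
      Finsupp.single_eq_of_ne hji, add_zero] at h2
    rcases mul_eq_zero.mp h2 with h | h
    · exact hy₂ h
    · omega
  refine ⟨indec P S, hΔ, hiΔ, j, hjΔ, c i, c j, ?_⟩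
  rw [← hck, Finsupp.sum_of_support_subset c hsub _ (by simp), Finset.sum_pair hji.symm]

end Groth.Agent.Lib.Helper4.RootDLib
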