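import Mathlib
import Groth.Prelude.Def_W4sga3xxiRoot
import Groth.Agent.Lib.Helper4.RootDPairS

/-!
# Dominant homomorphisms and the Weyl group (SGA3 XXI 3.?, chambers)
-/

set_option autoImplicit false

open Module Set Submodule RootPairing

namespace Groth.Agent.Lib.Helper4.RootDLib

open RootD

variable {ι M N : Type*} [AddCommGroup M] [AddCommGroup N] {P : RootPairing ι ℤ M N}
  {Γ : Type*} [AddCommGroup Γ] [LinearOrder Γ] [IsOrderedAddMonoid Γ]

/-- the positive system attached to an additive map to an ordered group, ties being broken by a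
given positive system -/
theorem isPosSys_of_addHom_of_posSys {S : Set ι} (hS : IsPosSys P S) (f : M →+ Γ) :
    IsPosSys P ({k | 0 < f (P.root k)} ∪ ({k | f (P.root k) = 0} ∩ S)) := by
  have h := isPosSys_twoStep (P := P)
    (f.comp (Submodule.span ℤ (Set.range P.root)).subtype.toAddMonoidHom)
    (T := {k | f (P.root k) = 0} ∩ S) ?_ ?_ ?_ ?_
  · exact h
  · intro k hk
    exact hk.1
  · intro k hk
    have hk' : f (P.root k) = 0 := hk
    rcases hS.cover k with h | h
    · exact Or.inl ⟨hk', h⟩
    · refine Or.inr ⟨?_, h⟩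
      change f (P.root (P.reflectionPerm k k)) = 0
      rw [root_reflectionPerm_self, map_neg, hk', neg_zero]
  · intro k hk hk'
    exact hS.disjoint hk.2 hk'.2
  · intro k hk n hn hmem
    refine ⟨hk, hS.sat n hn (natSpan_mono P Set.inter_subset_right hmem)⟩

/-- every additive map to an ordered group has a dominant Weyl conjugate -/
theorem exists_weylGroup_dominant [Finite ι] {S : Set ι} (hS : IsPosSys P S) (f : M →+ Γ) :
    ∃ g : P.Aut, g ∈ P.weylGroup ∧ ∀ i ∈ S, 0 ≤ f (g • P.root i) := by
  obtain ⟨g, hg, hgS⟩ := weylGroup_transitive_posSys hS (isPosSys_of_addHom_of_posSys hS f)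
  refine ⟨g, hg, fun i hi => ?_⟩
  have : g • i ∈ {k | 0 < f (P.root k)} ∪ ({k | f (P.root k) = 0} ∩ S) := by
    rw [← hgS]
    exact ⟨i, hi, rfl⟩
  rw [← root_smul]
  rcases this with h | h
  · exact le_of_lt h
  · exact h.1.ge

lemma map_nonneg_of_mem_natSpan {S : Set ι} (f : M →+ Γ) (hf : ∀ i ∈ S, 0 ≤ f (P.root i)) {x : M}
    (hx : x ∈ natSpan P S) : 0 ≤ f x := by
  induction hx using AddSubmonoid.closure_induction with
  | mem x hx =>
    obtain ⟨i, hi, rfl⟩ := hx
    exact hf i hi
  | zero => rw [map_zero]
  | add a b _ _ iha ihb => rw [map_add]; exact add_nonneg iha ihb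

/-- if `f` and `f ∘ w` are both dominant then `f ∘ w = f` -/
theorem dominant_comp_eq [Finite ι] {S : Set ι} (hS : IsPosSys P S) (f : M →+ Γ) {g : P.Aut}
    (hg : g ∈ P.weylGroup) (hf : ∀ i ∈ S, 0 ≤ f (P.root i))
    (hfg : ∀ i ∈ S, 0 ≤ f (g • P.root i)) : ∀ m : M, f (g • m) = f m := by
  have hΔ := isSimpleSys_indec hS
  have hSeq := eq_posOf_indec hS
  have key : ∀ n : ℕ, ∀ l : List ι, l.length = n → (∀ a ∈ l, a ∈ indec P S) →
      (∀ i ∈ S, 0 ≤ f (wordProd P l • P.root i)) → ∀ m : M, f (wordProd P l • m) = f m := by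
    intro n
    induction n with
    | zero =>
      intro l hl _ _ m
      rw [List.length_eq_zero_iff.mp hl, wordProd_nil, one_smul]
    | succ n ih =>
      intro l hlen hl hdom m
      by_cases h1 : wordProd P l = 1
      · rw [h1, one_smul]
      · have hex : ∃ a ∈ indec P S, wordProd P l • a ∉ posOf P (indec P S) := by
          by_contra hcon
          push Not at hcon
          exact h1 (eq_one_of_image_subset_posOf hΔ
            (reflSubgroup_le_weylGroup _ (wordProd_mem_reflSubgroup hl)) hcon)
        obtain ⟨a, ha, hneg⟩ := hex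
        have hneg' : -P.root (wordProd P l • a) ∈ natSpan P (indec P S) :=
          (hΔ.mem_or_neg_mem (wordProd P l • a)).resolve_left hneg
        obtain ⟨l', hl', hlen', hprod⟩ := exists_shorter_word hΔ l hl a ha hneg'
        have hzero : f (wordProd P l • P.root a) = 0 := by
          apply le_antisymm
          · have h2 := map_nonneg_of_mem_natSpan f
              (fun i hi => hf i (indec_subset S hi)) hneg'
            rw [map_neg, root_smul] at h2
            exact neg_nonneg.mp h2
          · exact hdom a (indec_subset S ha)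
        have hcomp : ∀ m : M, f (wordProd P l' • m) = f (wordProd P l • m) := by
          intro m
          rw [← hprod, mul_smul, Equiv.reflection_smul, RootPairing.reflection_apply, smul_sub,
            map_sub, smul_comm, map_zsmul, hzero, smul_zero, sub_zero]
        rw [← hcomp]
        apply ih l' (by omega) hl'
        intro i hi
        rw [hcomp]
        exact hdom i hi
  rw [← reflSubgroup_simpleSys_eq_weylGroup hΔ] at hg
  obtain ⟨l, hl, rfl⟩ := exists_word_of_mem_reflSubgroup hg
  exact key _ l rfl hl hfg

end Groth.Agent.Lib.Helper4.RootDLib
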