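import Mathlib
import Groth.Prelude.Def_W4sga3xxiRoot
import Groth.Agent.Lib.Helper4.RootDDom

/-!
# Dominant homomorphisms: strong and weak dominance (SGA3 XXI 3.?)
-/

set_option autoImplicit false

open Module Set Submodule RootPairing

namespace Groth.Agent.Lib.Helper4.RootDLib

open RootD

variable {ι M N : Type*} [AddCommGroup M] [AddCommGroup N] {P : RootPairing ι ℤ M N}
  {Γ : Type*} [AddCommGroup Γ] [LinearOrder Γ] [IsOrderedAddMonoid Γ]

/-- for dominant `f` and `w` in the Weyl group, `f - f ∘ w` is a non-negative combination of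
positive coroots -/
theorem dominant_sub_comp [Fintype ι] {S : Set ι} (hS : IsPosSys P S) (f : M →+ Γ)
    (hf : ∀ i ∈ S, 0 ≤ f (P.root i)) {g : P.Aut} (hg : g ∈ P.weylGroup) :
    ∃ c : ι → Γ, (∀ i, 0 ≤ c i) ∧ (∀ i, i ∉ S → c i = 0) ∧
      ∀ m : M, f m - f (g • m) = ∑ i, (P.coroot' i m) • c i := by
  classical
  have hΔ := isSimpleSys_indec hS
  have hSeq := eq_posOf_indec hS
  have key : ∀ l : List ι, (∀ a ∈ l, a ∈ indec P S) →
      (∀ l₂ : List ι, (∀ b ∈ l₂, b ∈ indec P S) → wordProd P l₂ = wordProd P l →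
        l.length ≤ l₂.length) →
      ∃ c : ι → Γ, (∀ i, 0 ≤ c i) ∧ (∀ i, i ∉ S → c i = 0) ∧
        ∀ m : M, f m - f (wordProd P l • m) = ∑ i, (P.coroot' i m) • c i := by
    intro l
    induction l with
    | nil =>
      intro _ _
      exact ⟨fun _ => 0, fun _ => le_refl _, fun _ _ => rfl, fun m => by simp⟩
    | cons a l ih =>
      intro hl hmin
      have ha : a ∈ indec P S := hl a List.mem_cons_self
      have hl' : ∀ b ∈ l, b ∈ indec P S := fun b hb => hl b (List.mem_cons_of_mem a hb)
      have hmin' : ∀ l₂ : List ι, (∀ b ∈ l₂, b ∈ indec P S) →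
          wordProd P l₂ = wordProd P l → l.length ≤ l₂.length := by
        intro l₂ hl₂ h
        have := hmin (a :: l₂) (by
          intro b hb
          rcases List.mem_cons.mp hb with rfl | hb
          · exact ha
          · exact hl₂ b hb) (by rw [wordProd_cons, wordProd_cons, h])
        simpa using this
      obtain ⟨c', hc'0, hc'S, hc'⟩ := ih hl' hmin'
      have hθ := root_inv_smul_mem_natSpan_of_minimal hΔ (subset_refl _) a l hl hmin
      obtain ⟨θ, hθdef⟩ : ∃ θ, θ = (wordProd P l)⁻¹ • a := ⟨_, rfl⟩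
      rw [← hθdef] at hθ
      have hθS : θ ∈ S := by
        rw [hSeq]
        exact hθ
      have hfa : 0 ≤ f (P.root a) := hf a (indec_subset S ha)
      refine ⟨fun i => c' i + (if i = θ then f (P.root a) else 0), ?_, ?_, ?_⟩
      · intro i
        refine add_nonneg (hc'0 i) ?_
        split_ifs
        · exact hfa
        · exact le_refl _
      · intro i hi
        have hne : i ≠ θ := by
          rintro rfl
          exact hi hθS
        simp only [if_neg hne, add_zero]
        exact hc'S i hi
      · intro m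
        have h1 : P.coroot' a (wordProd P l • m) = P.coroot' θ m := by
          have := toLinearMap_smul_coroot_smul P (wordProd P l) m θ
          rw [hθdef, smul_inv_smul] at this
          rw [hθdef]
          exact this
        rw [wordProd_cons, mul_smul, Equiv.reflection_smul, RootPairing.reflection_apply, map_sub,
          map_zsmul, h1]
        simp only [smul_add, Finset.sum_add_distrib]
        rw [← hc' m, Finset.sum_eq_single θ]
        · simp only [if_true]
          abel
        · intro b _ hb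
          simp only [if_neg hb, smul_zero]
        · intro h
          exact absurd (Finset.mem_univ θ) h
  rw [← reflSubgroup_simpleSys_eq_weylGroup hΔ] at hg
  have hex : ∃ n : ℕ, ∃ l : List ι, (∀ a ∈ l, a ∈ indec P S) ∧ wordProd P l = g ∧
      l.length = n := by
    obtain ⟨l, hl, hlg⟩ := exists_word_of_mem_reflSubgroup hg
    exact ⟨_, l, hl, hlg, rfl⟩
  obtain ⟨l, hl, hlg, hlen⟩ := Nat.find_spec hex
  have hmin : ∀ l₂ : List ι, (∀ b ∈ l₂, b ∈ indec P S) → wordProd P l₂ = wordProd P l →
      l.length ≤ l₂.length := by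
    intro l₂ hl₂ h
    rw [hlen]
    exact Nat.find_min' hex ⟨l₂, hl₂, h.trans hlg, rfl⟩
  have := key l hl hmin
  rw [hlg] at this
  exact this

/-- the sum of the positive roots pairs positively with every simple coroot -/
lemma sum_posRoots_pairing_pos [Fintype ι] [DecidableEq ι] {S : Set ι} [DecidablePred (· ∈ S)]
    (hS : IsPosSys P S) {δ : ι} (hδ : δ ∈ indec P.flip S) :
    0 < ∑ j ∈ Finset.univ.filter (· ∈ S), P.pairing j δ := by
  classical
  have hS' : IsPosSys P.flip S := isPosSys_flip hS
  have hΔv := isSimpleSys_indec hS'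
  have hSeq := eq_posOf_indec hS'
  have hδS : δ ∈ S := indec_subset S hδ
  rw [← Finset.sum_filter_add_sum_filter_not (Finset.univ.filter (· ∈ S))
    (fun j => ∃ n : ℕ, P.coroot j = n • P.coroot δ)]
  have hA : ∑ j ∈ (Finset.univ.filter (· ∈ S)).filter
      (fun j => ¬ ∃ n : ℕ, P.coroot j = n • P.coroot δ), P.pairing j δ = 0 := by
    have hflip : ∀ j, P.pairing (P.reflectionPerm δ j) δ = - P.pairing j δ := by
      intro j
      rw [pairing_reflectionPerm_left, P.pairing_same]
      ring
    refine Finset.sum_involution (fun j _ => P.reflectionPerm δ j) ?_ ?_ ?_ ?_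
    · intro j _
      rw [hflip]; ring
    · intro j _ hne heq
      have h1 := hflip j
      rw [heq] at h1
      omega
    · intro j hj
      rw [Finset.mem_filter, Finset.mem_filter] at hj ⊢
      obtain ⟨⟨-, hjS⟩, hjB⟩ := hj
      have hjpos : j ∈ posOf P.flip (indec P.flip S) := hSeq ▸ hjS
      refine ⟨⟨Finset.mem_univ _, ?_⟩, ?_⟩
      · have := reflectionPerm_mem_posOf (P := P.flip) hΔv hjpos hδ
          (fun n hn => hjB ⟨n, hn⟩)
        rw [hSeq]
        exact this
      · rintro ⟨n, hn⟩
        have h1 : P.coroot j - P.pairing δ j • P.coroot δ = P.coroot (P.reflectionPerm δ j) :=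
          P.reflectionPerm_coroot δ j
        rw [hn] at h1
        have h2 : P.coroot j = ((n : ℤ) + P.pairing δ j) • P.coroot δ := by
          rw [add_smul, natCast_zsmul, ← h1]
          abel
        by_cases hz : 0 ≤ (n : ℤ) + P.pairing δ j
        · apply hjB
          refine ⟨((n : ℤ) + P.pairing δ j).toNat, ?_⟩
          rw [← natCast_zsmul, Int.toNat_of_nonneg hz]
          exact h2
        · push Not at hz
          have h3 : -P.flip.root j ∈ natSpan P.flip (indec P.flip S) := by
            change -P.coroot j ∈ _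
            have : -P.coroot j = (-((n : ℤ) + P.pairing δ j)).toNat • P.flip.root δ := by
              rw [← natCast_zsmul, Int.toNat_of_nonneg (by omega), neg_smul, h2]
              rfl
            rw [this]
            exact nsmul_mem (root_mem_natSpan P.flip hδ) _
          have h4 : P.flip.root j = 0 :=
            pointed_of_linearIndepOn hΔv.linInd _ hjpos h3
          exact P.flip.ne_zero j h4
    · intro j _
      exact P.reflectionPerm_self δ j
  rw [hA, add_zero]
  apply Finset.sum_pos
  · intro j hj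
    rw [Finset.mem_filter] at hj
    obtain ⟨n, hn⟩ := hj.2
    have h1 : P.pairing j j = (n : ℤ) * P.pairing j δ := by
      change P.toLinearMap (P.root j) (P.coroot j) = _
      rw [hn, map_nsmul, nsmul_eq_mul]
      rfl
    rw [P.pairing_same] at h1
    by_contra hle
    push Not at hle
    have : (n : ℤ) * P.pairing j δ ≤ 0 := mul_nonpos_of_nonneg_of_nonpos (by positivity) hle
    omega
  · refine ⟨δ, ?_⟩
    rw [Finset.mem_filter, Finset.mem_filter]
    exact ⟨⟨Finset.mem_univ _, hδS⟩, 1, by rw [one_smul]⟩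

/-- a weight pairing strictly positively with all positive coroots -/
theorem exists_regular_dominant_weight [Finite ι] {S : Set ι} (hS : IsPosSys P S) :
    ∃ m : M, ∀ i ∈ S, 0 < P.coroot' i m := by
  classical
  have : Fintype ι := Fintype.ofFinite ι
  have hS' : IsPosSys P.flip S := isPosSys_flip hS
  refine ⟨∑ j ∈ Finset.univ.filter (· ∈ S), P.root j, ?_⟩
  have hval : ∀ i, P.coroot' i (∑ j ∈ Finset.univ.filter (· ∈ S), P.root j) =
      ∑ j ∈ Finset.univ.filter (· ∈ S), P.pairing j i := by
    intro i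
    rw [map_sum]
    rfl
  have hcone : ∀ x ∈ natSpan P.flip (indec P.flip S),
      x = 0 ∨ 0 < P.toLinearMap (∑ j ∈ Finset.univ.filter (· ∈ S), P.root j) x := by
    intro x hx
    induction hx using AddSubmonoid.closure_induction with
    | mem x hx =>
      obtain ⟨δ, hδ, rfl⟩ := hx
      right
      have := sum_posRoots_pairing_pos hS hδ
      rw [← hval] at this
      exact this
    | zero => exact Or.inl rfl
    | add a b _ _ iha ihb =>
      rcases iha with rfl | ha
      · rcases ihb with rfl | hb
        · exact Or.inl (add_zero _)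
        · right; rw [zero_add]; exact hb
      · right
        rw [map_add]
        rcases ihb with rfl | hb
        · rw [map_zero, add_zero]; exact ha
        · exact add_pos ha hb
  intro i hi
  rcases hcone _ (root_mem_natSpan_indec hS' i hi) with h | h
  · exact absurd h (P.flip.ne_zero i)
  · exact h

lemma nonneg_of_zsmul_nonneg {x : Γ} {n : ℤ} (hn : 0 < n) (h : 0 ≤ n • x) : 0 ≤ x := by
  by_contra hx
  push Not at hx
  have h1 : 0 < n • (-x) := zsmul_pos (neg_pos.mpr hx) hn
  rw [smul_neg, neg_pos] at h1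
  exact absurd h (not_le.mpr h1)

lemma sum_coroot'_smul_nonneg [Fintype ι] {S : Set ι} {m : M} (hm : ∀ i ∈ S, 0 ≤ P.coroot' i m)
    {c : ι → Γ} (hc0 : ∀ i, 0 ≤ c i) (hcS : ∀ i, i ∉ S → c i = 0) :
    0 ≤ ∑ i, (P.coroot' i m) • c i := by
  apply Finset.sum_nonneg
  intro i _
  by_cases hi : i ∈ S
  · exact zsmul_nonneg (hc0 i) (hm i hi)
  · rw [hcS i hi, smul_zero]

lemma sub_reflection_smul (f : M →+ Γ) (a : ι) (m : M) :
    f m - f (Equiv.reflection P a • m) = (P.coroot' a m) • f (P.root a) := by
  rw [Equiv.reflection_smul, RootPairing.reflection_apply, map_sub, map_zsmul, sub_sub_cancel]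

/-- characterisations of dominance by strong and weak dominance of the Weyl conjugates -/
theorem dominant_iff_strong_and_weak [Fintype ι] {S : Set ι} (hS : IsPosSys P S) (f : M →+ Γ) :
    ((∀ i ∈ S, 0 ≤ f (P.root i)) ↔
      ∀ g : P.Aut, g ∈ P.weylGroup → ∃ c : ι → Γ, (∀ i, 0 ≤ c i) ∧ (∀ i, i ∉ S → c i = 0) ∧
        ∀ m : M, f m - f (g • m) = ∑ i, (P.coroot' i m) • c i) ∧
    ((∀ i ∈ S, 0 ≤ f (P.root i)) ↔
      ∀ g : P.Aut, g ∈ P.weylGroup → ∀ m : M, (∀ i ∈ S, 0 ≤ P.coroot' i m) →
        f (g • m) ≤ f m) := by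
  obtain ⟨m₀, hm₀⟩ := exists_regular_dominant_weight hS
  refine ⟨⟨fun hf g hg => dominant_sub_comp hS f hf hg, fun H a ha => ?_⟩,
    ⟨fun hf g hg m hm => ?_, fun H a ha => ?_⟩⟩
  · obtain ⟨c, hc0, hcS, hc⟩ := H _ (P.reflection_mem_weylGroup a)
    have h1 := hc m₀
    rw [sub_reflection_smul] at h1
    have h2 : 0 ≤ ∑ i, (P.coroot' i m₀) • c i :=
      sum_coroot'_smul_nonneg (fun i hi => (hm₀ i hi).le) hc0 hcS
    rw [← h1] at h2
    exact nonneg_of_zsmul_nonneg (hm₀ a ha) h2
  · obtain ⟨c, hc0, hcS, hc⟩ := dominant_sub_comp hS f hf hg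
    have h2 : 0 ≤ ∑ i, (P.coroot' i m) • c i := sum_coroot'_smul_nonneg hm hc0 hcS
    rw [← hc m] at h2
    exact sub_nonneg.mp h2
  · have h1 := H _ (P.reflection_mem_weylGroup a) m₀ (fun i hi => (hm₀ i hi).le)
    have h2 := sub_nonneg.mpr h1
    rw [sub_reflection_smul] at h2
    exact nonneg_of_zsmul_nonneg (hm₀ a ha) h2

end Groth.Agent.Lib.Helper4.RootDLib
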