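import Mathlib
import Groth.Prelude.Def_W4sga3xxiRoot
import Groth.Agent.Lib.Helper4.RootDDom2

/-!
# Weak dominance order via Weyl-stable finite sets (SGA3 XXI 3.?)
-/

set_option autoImplicit false

open Module Set Submodule RootPairing

namespace Groth.Agent.Lib.Helper4.RootDLib

open RootD

variable {ι M N : Type*} [AddCommGroup M] [AddCommGroup N] {P : RootPairing ι ℤ M N}
  {Γ : Type*} [AddCommGroup Γ] [LinearOrder Γ] [IsOrderedAddMonoid Γ]

/-- every weight has a dominant Weyl conjugate -/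
theorem exists_weylGroup_dominant_weight [Finite ι] {S : Set ι} (hS : IsPosSys P S) (m : M) :
    ∃ g : P.Aut, g ∈ P.weylGroup ∧ ∀ i ∈ S, 0 ≤ P.coroot' i (g • m) := by
  have hS' : IsPosSys P.flip S := isPosSys_flip hS
  have h1 := isPosSys_of_addHom_of_posSys (P := P.flip) hS'
    ((P.toLinearMap m : N →ₗ[ℤ] ℤ).toAddMonoidHom)
  have h2 : IsPosSys P ({k | 0 < P.toLinearMap m (P.coroot k)} ∪
      ({k | P.toLinearMap m (P.coroot k) = 0} ∩ S)) := isPosSys_flip (P := P.flip) h1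
  obtain ⟨g, hg, hgS⟩ := weylGroup_transitive_posSys hS h2
  refine ⟨g⁻¹, inv_mem hg, fun i hi => ?_⟩
  have hmem : g • i ∈ {k | 0 < P.toLinearMap m (P.coroot k)} ∪
      ({k | P.toLinearMap m (P.coroot k) = 0} ∩ S) := by
    rw [← hgS]
    exact ⟨i, hi, rfl⟩
  have h3 := toLinearMap_smul_coroot_smul P g⁻¹ m (g • i)
  rw [inv_smul_smul] at h3
  change 0 ≤ P.toLinearMap (g⁻¹ • m) (P.coroot i)
  rw [h3]
  rcases hmem with h | h
  · exact le_of_lt h
  · exact h.1.ge

/-- the weak dominance order on dominant maps, tested on finite Weyl-stable sets of weights -/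
theorem weakLE_iff_forall_weylStable_sup [Finite ι] {S : Set ι} (hS : IsPosSys P S)
    (f₁ f₂ : M →+ Γ) (hf₁ : ∀ i ∈ S, 0 ≤ f₁ (P.root i)) (hf₂ : ∀ i ∈ S, 0 ≤ f₂ (P.root i)) :
    (∀ m : M, (∀ i ∈ S, 0 ≤ P.coroot' i m) → f₁ m ≤ f₂ m) ↔
    ∀ (X : Finset M) (hX : X.Nonempty),
      (∀ g : P.Aut, g ∈ P.weylGroup → ∀ m ∈ X, g • m ∈ X) →
      X.sup' hX f₁ ≤ X.sup' hX f₂ := by
  classical
  have : Fintype ι := Fintype.ofFinite ι
  have hweak₁ := ((dominant_iff_strong_and_weak hS f₁).2).mp hf₁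
  have hweak₂ := ((dominant_iff_strong_and_weak hS f₂).2).mp hf₂
  constructor
  · intro H X hX hstable
    obtain ⟨m₁, hm₁X, hm₁⟩ := Finset.exists_mem_eq_sup' hX f₁
    obtain ⟨g, hg, hgdom⟩ := exists_weylGroup_dominant_weight hS m₁
    have h1 : f₁ m₁ ≤ f₁ (g • m₁) := by
      have := hweak₁ g⁻¹ (inv_mem hg) (g • m₁) hgdom
      rwa [inv_smul_smul] at this
    have h2 : f₁ (g • m₁) ≤ f₂ (g • m₁) := H _ hgdom
    have h3 : f₂ (g • m₁) ≤ X.sup' hX f₂ := Finset.le_sup' f₂ (hstable g hg m₁ hm₁X)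
    rw [hm₁]
    exact h1.trans (h2.trans h3)
  · intro H m hm
    have hfin : Finite P.weylGroup := Finite.of_injective _ (weylGroupToPerm_injective P)
    have : Fintype P.weylGroup := Fintype.ofFinite _
    obtain ⟨X, hXdef⟩ : ∃ X : Finset M,
        X = Finset.univ.image (fun w : P.weylGroup => (w : P.Aut) • m) := ⟨_, rfl⟩
    have hmX : m ∈ X := by
      rw [hXdef, Finset.mem_image]
      exact ⟨1, Finset.mem_univ _, by simp⟩
    have hX : X.Nonempty := ⟨m, hmX⟩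
    have hstable : ∀ g : P.Aut, g ∈ P.weylGroup → ∀ x ∈ X, g • x ∈ X := by
      intro g hg x hx
      rw [hXdef, Finset.mem_image] at hx ⊢
      obtain ⟨w, -, rfl⟩ := hx
      exact ⟨⟨g, hg⟩ * w, Finset.mem_univ _, by rw [Subgroup.coe_mul, mul_smul]⟩
    have h1 := H X hX hstable
    have h2 : f₁ m ≤ X.sup' hX f₁ := Finset.le_sup' f₁ hmX
    have h3 : X.sup' hX f₂ ≤ f₂ m := by
      apply Finset.sup'_le
      intro x hx
      rw [hXdef, Finset.mem_image] at hx
      obtain ⟨w, -, rfl⟩ := hx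
      exact hweak₂ w w.2 m hm
    exact h2.trans (h1.trans h3)

end Groth.Agent.Lib.Helper4.RootDLib
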