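import Mathlib
import Groth.Prelude.Def_W4sga3xxiRoot
import Groth.Agent.Lib.Helper4.RootDDom3

/-!
# The integral (adjoint) root datum of a crystallographic root pairing over a domain
-/

set_option autoImplicit false

open Module Set Submodule RootPairing

namespace Groth.Agent.Lib.Helper4.RootDLib

open RootD

variable {ι R M N : Type*} [CommRing R] [CharZero R] [IsDomain R] [AddCommGroup M] [Module R M]
  [AddCommGroup N] [Module R N]

lemma isAddTorsionFree_of_pairing (P : RootPairing ι R M N) : IsAddTorsionFree M := by
  have hrefl : Module.IsReflexive R M := Module.IsReflexive.of_isPerfPair P.toLinearMap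
  exact .of_isTorsionFree R M

lemma zsmul_eq_algebraMap_smul (z : ℤ) (m : M) : z • m = (algebraMap ℤ R z) • m := by
  rw [algebraMap_int_eq, eq_intCast, Int.cast_smul_eq_zsmul]

/-- The root datum over `ℤ` on the root lattice of a crystallographic root pairing. -/
noncomputable def intPairing [Finite ι] (P : RootPairing ι R M N) [P.IsCrystallographic] :
    RootPairing ι ℤ (P.rootSpan ℤ) (Module.Dual ℤ (P.rootSpan ℤ)) :=
  haveI : IsAddTorsionFree M := isAddTorsionFree_of_pairing P
  haveI : Module.IsTorsionFree ℤ (P.rootSpan ℤ) := inferInstance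
  { toLinearMap := (LinearMap.id (R := ℤ) (M := Module.Dual ℤ (P.rootSpan ℤ))).flip
    isPerfPair_toLinearMap := inferInstance
    root := ⟨fun i => P.rootSpanMem ℤ i, fun i j h => P.root.injective (congrArg Subtype.val h)⟩
    coroot := ⟨fun i => P.coroot'In ℤ i, fun i j h => by
      have h1 : ∀ k, P.pairing k i = P.pairing k j := by
        intro k
        have h2 := LinearMap.congr_fun h (P.rootSpanMem ℤ k)
        rw [P.coroot'In_rootSpanMem_eq_pairingIn, P.coroot'In_rootSpanMem_eq_pairingIn] at h2
        rw [← P.algebraMap_pairingIn ℤ, ← P.algebraMap_pairingIn ℤ, h2]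
      apply P.coroot.injective
      apply P.injOn_dualMap_subtype_span_root_coroot (mem_range_self i) (mem_range_self j)
      ext ⟨x, hx⟩
      change P.toLinearMap x (P.coroot i) = P.toLinearMap x (P.coroot j)
      induction hx using Submodule.span_induction with
      | mem x hx =>
        obtain ⟨k, rfl⟩ := hx
        exact h1 k
      | zero => simp
      | add x y _ _ hx hy => rw [map_add, LinearMap.add_apply, LinearMap.add_apply, hx, hy]
      | smul c x _ hx => rw [map_smul, LinearMap.smul_apply, LinearMap.smul_apply, hx]⟩
    root_coroot_two := fun i => by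
      change P.coroot'In ℤ i (P.rootSpanMem ℤ i) = 2
      rw [P.coroot'In_rootSpanMem_eq_pairingIn, P.pairingIn_same]
    reflectionPerm := P.reflectionPerm
    reflectionPerm_root := fun i j => by
      apply Subtype.ext
      change P.root j - (P.coroot'In ℤ i (P.rootSpanMem ℤ j)) • P.root i =
        P.root (P.reflectionPerm i j)
      rw [P.coroot'In_rootSpanMem_eq_pairingIn, zsmul_eq_algebraMap_smul (R := R),
        P.algebraMap_pairingIn ℤ]
      exact P.reflectionPerm_root i j
    reflectionPerm_coroot := fun i j => by
      ext x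
      change P.coroot'In ℤ j x - (P.coroot'In ℤ j (P.rootSpanMem ℤ i)) • P.coroot'In ℤ i x =
        P.coroot'In ℤ (P.reflectionPerm i j) x
      apply FaithfulSMul.algebraMap_injective ℤ R
      rw [P.coroot'In_rootSpanMem_eq_pairingIn, map_sub, smul_eq_mul, map_mul,
        P.algebraMap_coroot'In_apply, P.algebraMap_coroot'In_apply, P.algebraMap_coroot'In_apply,
        P.algebraMap_pairingIn ℤ]
      have h := congrArg (fun n => P.toLinearMap (x : M) n) (P.reflectionPerm_coroot i j)
      simp only [map_sub, map_smul, smul_eq_mul] at h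
      exact h }

section API

variable [Finite ι] (P : RootPairing ι R M N) [P.IsCrystallographic]

@[simp] lemma intPairing_root_coe (i : ι) : ((intPairing P).root i : M) = P.root i := rfl

lemma intPairing_reflectionPerm : (intPairing P).reflectionPerm = P.reflectionPerm := rfl

lemma intPairing_pairing (i j : ι) : (intPairing P).pairing i j = P.pairingIn ℤ i j := rfl

lemma intPairing_coroot_apply (i : ι) (x : P.rootSpan ℤ) :
    (intPairing P).coroot i x = P.coroot'In ℤ i x := rfl

lemma intPairing_span_root : Submodule.span ℤ (Set.range (intPairing P).root) = ⊤ := by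
  refine Submodule.eq_top_iff'.mpr fun ⟨x, hx⟩ => ?_
  have key : ∀ y (hy : y ∈ P.rootSpan ℤ),
      (⟨y, hy⟩ : P.rootSpan ℤ) ∈ Submodule.span ℤ (Set.range (intPairing P).root) := by
    intro y hy
    induction hy using Submodule.span_induction with
    | mem y hy =>
      obtain ⟨i, rfl⟩ := hy
      exact Submodule.subset_span ⟨i, rfl⟩
    | zero => exact zero_mem _
    | add a b ha hb iha ihb => exact Submodule.add_mem _ iha ihb
    | smul c a ha iha => exact Submodule.smul_mem _ c iha
  exact key x hx

instance [P.IsReduced] : (intPairing P).IsReduced where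
  eq_or_eq_neg i j h := by
    have h' : ¬ LinearIndependent R ![P.root i, P.root j] := by
      intro hli
      apply h
      rw [LinearIndependent.pair_iff] at hli ⊢
      intro s t hst
      have h1 := congrArg Subtype.val hst
      simp only [Submodule.coe_add, Submodule.coe_smul, intPairing_root_coe,
        ZeroMemClass.coe_zero] at h1
      rw [zsmul_eq_algebraMap_smul (R := R), zsmul_eq_algebraMap_smul (R := R) t] at h1
      obtain ⟨hs, ht⟩ := hli _ _ h1
      exact ⟨FaithfulSMul.algebraMap_injective ℤ R (by rw [hs, map_zero]),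
        FaithfulSMul.algebraMap_injective ℤ R (by rw [ht, map_zero])⟩
    rcases IsReduced.eq_or_eq_neg i j h' with h1 | h1
    · exact Or.inl (Subtype.ext h1)
    · exact Or.inr (Subtype.ext h1)

/-- Weyl group elements of `P` have counterparts for `intPairing P` acting in the same way on
the roots -/
theorem exists_intWeyl_of_weyl {g : P.Aut} (hg : g ∈ P.weylGroup) :
    ∃ g' : (intPairing P).Aut, g' ∈ (intPairing P).weylGroup ∧ ∀ i : ι, g' • i = g • i := by
  induction hg using weylGroup.induction with
  | mem i => exact ⟨Equiv.reflection (intPairing P) i, reflection_mem_weylGroup _ i, fun _ => rfl⟩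
  | one => exact ⟨1, one_mem _, fun _ => rfl⟩
  | mul x y hx hy ihx ihy =>
    obtain ⟨x', hx', hxi⟩ := ihx
    obtain ⟨y', hy', hyi⟩ := ihy
    exact ⟨x' * y', mul_mem hx' hy', fun i => by rw [mul_smul, mul_smul, hyi, hxi]⟩

theorem exists_weyl_of_intWeyl {g' : (intPairing P).Aut} (hg' : g' ∈ (intPairing P).weylGroup) :
    ∃ g : P.Aut, g ∈ P.weylGroup ∧ ∀ i : ι, g • i = g' • i := by
  induction hg' using weylGroup.induction with
  | mem i => exact ⟨Equiv.reflection P i, reflection_mem_weylGroup _ i, fun _ => rfl⟩
  | one => exact ⟨1, one_mem _, fun _ => rfl⟩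
  | mul x y hx hy ihx ihy =>
    obtain ⟨x', hx', hxi⟩ := ihx
    obtain ⟨y', hy', hyi⟩ := ihy
    exact ⟨x' * y', mul_mem hx' hy', fun i => by rw [mul_smul, mul_smul, hyi, hxi]⟩

end API

section Faithful

variable (P : RootPairing ι R M N)

lemma gen_toLinearMap_smul_coroot_smul (g : P.Aut) (m : M) (i : ι) :
    P.toLinearMap (g • m) (P.coroot (g • i)) = P.toLinearMap m (P.coroot i) := by
  have h1 := LinearMap.congr_fun
    (Hom.weight_coweight_transpose_apply P P (P.coroot (g • i)) g.toHom) m
  have h2 : g.coweightMap (P.coroot (g • i)) = P.coroot i := by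
    have := Hom.coroot_coweightMap_apply P P (g • i) g.toHom
    rw [this]
    congr 1
    exact Equiv.symm_apply_apply _ _
  rw [h2] at h1
  exact h1

lemma gen_weylGroup_smul_sub_mem_rootSpan {w : P.Aut} (hw : w ∈ P.weylGroup) (m : M) :
    w • m - m ∈ P.rootSpan R := by
  induction hw using weylGroup.induction generalizing m with
  | mem i =>
    rw [Equiv.reflection_smul, RootPairing.reflection_apply, sub_sub_cancel_left]
    exact Submodule.neg_mem _ (Submodule.smul_mem _ _ (Submodule.subset_span (Set.mem_range_self i)))
  | one => rw [one_smul, sub_self]; exact zero_mem _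
  | mul x y hx hy ihx ihy =>
    have : (x * y) • m - m = x • (y • m - m) + (x • m - m) := by
      rw [mul_smul, smul_sub]; abel
    rw [this]
    refine Submodule.add_mem _ ?_ (ihx m)
    have hy' := ihy m
    generalize y • m - m = v at hy'
    induction hy' using Submodule.span_induction with
    | mem v hv =>
      obtain ⟨i, rfl⟩ := hv
      rw [← Equiv.root_indexEquiv_eq_smul]
      exact Submodule.subset_span ⟨_, rfl⟩
    | zero => rw [smul_zero]; exact zero_mem _
    | add a b _ _ iha ihb => rw [smul_add]; exact Submodule.add_mem _ iha ihb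
    | smul c a _ iha => rw [smul_comm]; exact Submodule.smul_mem _ _ iha

/-- the Weyl group acts faithfully on the roots (crystallographic pairing over a domain of
characteristic zero) -/
theorem gen_weylGroup_eq_one_of_fix [Finite ι] [P.IsCrystallographic] {w : P.Aut}
    (hw : w ∈ P.weylGroup) (hfix : ∀ i : ι, w • i = i) : w = 1 := by
  classical
  have : Fintype ι := Fintype.ofFinite ι
  apply Equiv.weightHom_injective
  ext m
  change w • m = (1 : P.Aut) • m
  rw [one_smul, ← sub_eq_zero]
  have h1 := gen_weylGroup_smul_sub_mem_rootSpan P hw m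
  have h2 : w • m - m ∈ LinearMap.ker P.RootForm := by
    rw [LinearMap.mem_ker]
    ext y
    rw [P.rootForm_apply_apply, LinearMap.zero_apply]
    apply Finset.sum_eq_zero
    intro i _
    have h3 : P.coroot' i (w • m - m) = 0 := by
      change P.toLinearMap (w • m - m) (P.coroot i) = 0
      have h4 := gen_toLinearMap_smul_coroot_smul P w m i
      rw [hfix] at h4
      rw [map_sub, LinearMap.sub_apply, h4, sub_self]
    rw [h3, zero_mul]
  exact Submodule.disjoint_def.mp P.disjoint_rootSpan_ker_rootForm _ h1 h2

end Faithful

section Base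

variable [Finite ι] {P : RootPairing ι R M N} [P.IsCrystallographic]

lemma mem_natSpan_intPairing_of_mem_closure {S : Set ι} {x : M}
    (hx : x ∈ AddSubmonoid.closure (P.root '' S)) :
    ∃ hx' : x ∈ P.rootSpan ℤ, (⟨x, hx'⟩ : P.rootSpan ℤ) ∈ natSpan (intPairing P) S := by
  induction hx using AddSubmonoid.closure_induction with
  | mem x hx =>
    obtain ⟨j, hj, rfl⟩ := hx
    exact ⟨Submodule.subset_span (Set.mem_range_self j), root_mem_natSpan (intPairing P) hj⟩
  | zero => exact ⟨zero_mem _, zero_mem _⟩
  | add a b _ _ iha ihb =>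
    obtain ⟨ha', ha⟩ := iha
    obtain ⟨hb', hb⟩ := ihb
    exact ⟨add_mem ha' hb', add_mem ha hb⟩

theorem isSimpleSys_intPairing (b : P.Base) :
    IsSimpleSys (intPairing P) (b.support : Set ι) where
  linInd := b.linearIndependentInt
  mem_or_neg_mem i := by
    rcases b.root_mem_or_neg_mem i with h | h
    · left
      obtain ⟨_, h'⟩ := mem_natSpan_intPairing_of_mem_closure h
      exact h'
    · right
      obtain ⟨_, h'⟩ := mem_natSpan_intPairing_of_mem_closure h
      exact h'

theorem isPos_iff_mem_posOf (b : P.Base) (i : ι) :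
    b.IsPos i ↔ i ∈ posOf (intPairing P) (b.support : Set ι) := by
  have hΔ := isSimpleSys_intPairing b
  have key : ∀ k : ι, b.IsPos k → k ∈ posOf (intPairing P) (b.support : Set ι) := by
    intro k hk
    rcases b.root_mem_or_neg_mem k with h | h
    · obtain ⟨_, h'⟩ := mem_natSpan_intPairing_of_mem_closure h
      exact h'
    · exfalso
      obtain ⟨f, hf, hf'⟩ := b.exists_root_eq_sum_nat_or_neg k
      rcases hf' with hf' | hf'
      · -- both `root k` and `-root k` in the cone
        have h1 : P.root k ∈ AddSubmonoid.closure (P.root '' (b.support : Set ι)) := by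
          rw [hf']
          exact sum_mem (fun j hj => nsmul_mem (AddSubmonoid.subset_closure
            (Set.mem_image_of_mem _ (Finset.mem_coe.mpr hj))) _)
        obtain ⟨_, h1'⟩ := mem_natSpan_intPairing_of_mem_closure h1
        obtain ⟨_, h'⟩ := mem_natSpan_intPairing_of_mem_closure h
        have := pointed_of_linearIndepOn hΔ.linInd _ h1' (by
          convert h' using 1
          exact Subtype.ext rfl)

        exact (intPairing P).ne_zero k this
      · have hf'' : P.root k = ∑ j ∈ b.support, (fun j => -(f j : ℤ)) j • P.root j := by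
          rw [hf', ← Finset.sum_neg_distrib]
          refine Finset.sum_congr rfl (fun j _ => ?_)
          rw [neg_smul, natCast_zsmul]
        rw [RootPairing.Base.isPos_iff, RootPairing.Base.height_eq_sum hf''] at hk
        have : ∑ j ∈ b.support, -(f j : ℤ) ≤ 0 :=
          Finset.sum_nonpos (fun j _ => by omega)
        omega
  constructor
  · exact key i
  · intro hi
    by_contra hneg
    have h1 := (RootPairing.Base.IsPos.neg_iff_not b i).mpr hneg
    have h2 := key _ h1
    have h3 : (intPairing P).root (P.reflectionPerm i i) = -(intPairing P).root i :=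
      root_reflectionPerm_self (intPairing P) i
    have h4 : -(intPairing P).root i ∈ natSpan (intPairing P) (b.support : Set ι) := by
      rw [← h3]
      exact h2
    exact (intPairing P).ne_zero i (pointed_of_linearIndepOn hΔ.linInd _ hi h4)

end Base

section Transfer

variable [Finite ι] (P : RootPairing ι R M N) [P.IsCrystallographic]

/-- an element of the Weyl group mapping the simple roots of a base to positive roots is trivial -/
theorem gen_eq_one_of_simple_to_pos (b : P.Base) {g : P.Aut} (hg : g ∈ P.weylGroup)
    (hpos : ∀ a ∈ b.support, b.IsPos (g • a)) : g = 1 := by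
  obtain ⟨g', hg', hgg'⟩ := exists_intWeyl_of_weyl P hg
  have h1 : g' = 1 := by
    apply eq_one_of_image_subset_posOf (isSimpleSys_intPairing b) hg'
    intro a ha
    rw [hgg', ← isPos_iff_mem_posOf]
    exact hpos a ha
  apply gen_weylGroup_eq_one_of_fix P hg
  intro i
  rw [← hgg', h1, one_smul]

/-- the Weyl group acts simply transitively on the bases -/
theorem gen_existsUnique_weylGroup_base (b b' : P.Base) :
    ∃! g : P.weylGroup,
      (fun i : ι => (g : P.Aut) • i) '' (b.support : Set ι) = (b'.support : Set ι) := by
  obtain ⟨g', hg', hgim⟩ := weylGroup_transitive_simpleSys (isSimpleSys_intPairing b)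
    (isSimpleSys_intPairing b')
  obtain ⟨g, hg, hgg'⟩ := exists_weyl_of_intWeyl P hg'
  have hgim' : (fun i : ι => g • i) '' (b.support : Set ι) = (b'.support : Set ι) := by
    rw [← hgim]
    exact Set.image_congr (fun i _ => hgg' i)
  refine ⟨⟨g, hg⟩, hgim', ?_⟩
  rintro ⟨g₂, hg₂⟩ hg₂im
  apply Subtype.ext
  change g₂ = g
  have h1 : g⁻¹ * g₂ = 1 := by
    apply gen_eq_one_of_simple_to_pos P b (mul_mem (inv_mem hg) hg₂)
    intro a ha
    apply RootPairing.Base.isPos_of_mem_support
    have h2 : g₂ • a ∈ (b'.support : Set ι) := by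
      rw [← hg₂im]
      exact ⟨a, ha, rfl⟩
    rw [← hgim'] at h2
    obtain ⟨c, hc, hca⟩ := h2
    have h3 : (g⁻¹ * g₂) • a = c := by
      rw [mul_smul, ← hca]
      exact inv_smul_smul g c
    rw [h3]
    exact hc
  calc g₂ = g * (g⁻¹ * g₂) := by group
    _ = g := by rw [h1, mul_one]

end Transfer

end Groth.Agent.Lib.Helper4.RootDLib
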