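import Mathlib
import Groth.Prelude.Def_W4sga3xxiRoot
import Groth.Agent.Lib.Helper4.IntPairing

/-!
# Presentation of the coroot lattice by reflection relations
-/

set_option autoImplicit false

open Module Set Submodule RootPairing

namespace Groth.Agent.Lib.Helper4.RootDLib

open RootD

section IntCase

variable {ι M N : Type*} [AddCommGroup M] [AddCommGroup N] {Q : RootPairing ι ℤ M N}

lemma isIndiv_of_isReduced [Q.IsReduced] (k : ι) : IsIndiv Q k := by
  intro j hj
  have h1 : (2 : ℤ) • Q.root j = (1 : ℤ) • Q.root k := by rw [one_smul]; exact hj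
  have := (eq_of_pos_smul_eq_smul_of_isReduced Q (by norm_num) one_pos h1).2
  omega

/-- in a reduced root datum, the coroots of a simple system are linearly independent -/
theorem linearIndepOn_coroot_of_isReduced [Finite ι] [Q.IsReduced] {Δ : Set ι}
    (hΔ : IsSimpleSys Q Δ) : LinearIndepOn ℤ Q.coroot Δ := by
  have hS := posOf_isPosSys hΔ
  have hS' : IsPosSys Q.flip (posOf Q Δ) := isPosSys_flip hS
  have hli := (isSimpleSys_indec hS').linInd
  refine hli.mono ?_
  intro δ hδ
  apply mem_indec_of_reflectionPerm hS' (subset_posOf Q Δ hδ)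
  intro k hk hnp
  apply reflectionPerm_mem_posOf hΔ hk hδ
  intro n hn
  have hkδ := eq_of_root_eq_nsmul_of_isReduced Q hn
  apply hnp 1
  rw [hkδ, one_smul]

end IntCase

variable {ι R M N : Type*} [CommRing R] [CharZero R] [IsDomain R] [AddCommGroup M] [Module R M]
  [AddCommGroup N] [Module R N]

theorem ker_linearCombination_coroot [Finite ι] (P : RootPairing ι R M N)
    [P.IsCrystallographic] [P.IsReduced] :
    LinearMap.ker (Finsupp.linearCombination ℤ (fun i : ι => (P.coroot i : N))) =
      Submodule.span ℤ (Set.range fun p : ι × ι =>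
        Finsupp.single (P.reflectionPerm p.1 p.2) (1 : ℤ) - Finsupp.single p.2 1 +
          P.pairingIn ℤ p.1 p.2 • Finsupp.single p.1 1) := by
  classical
  obtain ⟨K, hK⟩ : ∃ K : Submodule ℤ (ι →₀ ℤ), K = Submodule.span ℤ (Set.range fun p : ι × ι =>
        Finsupp.single (P.reflectionPerm p.1 p.2) (1 : ℤ) - Finsupp.single p.2 1 +
          P.pairingIn ℤ p.1 p.2 • Finsupp.single p.1 1) := ⟨_, rfl⟩
  rw [← hK]
  have hrel : ∀ a k : ι, Finsupp.single (P.reflectionPerm a k) (1 : ℤ) - Finsupp.single k 1 +
      P.pairingIn ℤ a k • Finsupp.single a 1 ∈ K := by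
    intro a k
    rw [hK]
    exact Submodule.subset_span ⟨(a, k), rfl⟩
  apply le_antisymm
  · -- `ker ≤ K`
    obtain ⟨Δ, hΔ⟩ := exists_isSimpleSys (intPairing P)
    obtain ⟨K', hK'⟩ : ∃ K' : Submodule ℤ (ι →₀ ℤ), K' = K ⊔ Finsupp.supported ℤ ℤ Δ := ⟨_, rfl⟩
    have hKK' : K ≤ K' := by rw [hK']; exact le_sup_left
    have hΔK' : ∀ a ∈ Δ, Finsupp.single a (1 : ℤ) ∈ K' := by
      intro a ha
      rw [hK']
      exact Submodule.mem_sup_right (Finsupp.single_mem_supported ℤ 1 ha)
    have hword : ∀ (l : List ι), (∀ a ∈ l, a ∈ Δ) → ∀ i ∈ Δ,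
        Finsupp.single (wordProd (intPairing P) l • i) (1 : ℤ) ∈ K' := by
      intro l
      induction l with
      | nil =>
        intro _ i hi
        rw [wordProd_nil, one_smul]
        exact hΔK' i hi
      | cons a l ih =>
        intro hl i hi
        have ha : a ∈ Δ := hl a List.mem_cons_self
        have ih' := ih (fun b hb => hl b (List.mem_cons_of_mem a hb)) i hi
        rw [wordProd_cons, mul_smul, reflection_smul_idx]
        obtain ⟨k, hk⟩ : ∃ k, k = wordProd (intPairing P) l • i := ⟨_, rfl⟩
        rw [← hk] at ih' ⊢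
        have h1 := hKK' (hrel a k)
        have h2 : Finsupp.single ((intPairing P).reflectionPerm a k) (1 : ℤ) =
            (Finsupp.single (P.reflectionPerm a k) (1 : ℤ) - Finsupp.single k 1 +
              P.pairingIn ℤ a k • Finsupp.single a 1) + Finsupp.single k 1 -
              P.pairingIn ℤ a k • Finsupp.single a 1 := by
          rw [intPairing_reflectionPerm]
          abel
        rw [h2]
        exact Submodule.sub_mem _ (Submodule.add_mem _ h1 ih')
          (Submodule.smul_mem _ _ (hΔK' a ha))
    have hall : ∀ β : ι, Finsupp.single β (1 : ℤ) ∈ K' := by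
      intro β
      obtain ⟨g, hg, i, hi, rfl⟩ := exists_reflSubgroup_smul_eq hΔ (isIndiv_of_isReduced β)
      obtain ⟨l, hl, rfl⟩ := exists_word_of_mem_reflSubgroup hg
      exact hword l hl i hi
    have htop : K' = ⊤ := by
      rw [eq_top_iff]
      intro x _
      rw [← Finsupp.sum_single x, Finsupp.sum]
      refine Submodule.sum_mem _ (fun β _ => ?_)
      have : Finsupp.single β (x β) = x β • Finsupp.single β (1 : ℤ) := by
        rw [Finsupp.smul_single, smul_eq_mul, mul_one]
      rw [this]
      exact Submodule.smul_mem _ _ (hall β)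
    -- linear independence of the simple coroots in `N`
    have hliQ := linearIndepOn_coroot_of_isReduced hΔ
    have hliN : ∀ y ∈ Finsupp.supported ℤ ℤ Δ,
        Finsupp.linearCombination ℤ (fun i : ι => (P.coroot i : N)) y = 0 → y = 0 := by
      intro y hy hy0
      rw [linearIndepOn_iff] at hliQ
      apply hliQ y hy
      ext x
      rw [LinearMap.zero_apply]
      apply FaithfulSMul.algebraMap_injective ℤ R
      rw [map_zero, Finsupp.linearCombination_apply, Finsupp.sum, LinearMap.sum_apply, map_sum]
      have h3 : P.toLinearMap (x : M) (Finsupp.linearCombination ℤ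
          (fun i : ι => (P.coroot i : N)) y) = 0 := by rw [hy0, map_zero]
      rw [Finsupp.linearCombination_apply, Finsupp.sum, map_sum] at h3
      rw [← h3]
      refine Finset.sum_congr rfl (fun δ _ => ?_)
      rw [LinearMap.smul_apply, smul_eq_mul, map_mul, intPairing_coroot_apply,
        P.algebraMap_coroot'In_apply, zsmul_eq_algebraMap_smul (R := R), map_smul, smul_eq_mul]
      rfl
    intro x hx
    have hxK' : x ∈ K' := by rw [htop]; exact Submodule.mem_top
    rw [hK', Submodule.mem_sup] at hxK'
    obtain ⟨κ, hκ, y, hy, rfl⟩ := hxK'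
    have hκ0 : Finsupp.linearCombination ℤ (fun i : ι => (P.coroot i : N)) κ = 0 := by
      have hle : K ≤ LinearMap.ker (Finsupp.linearCombination ℤ (fun i : ι => (P.coroot i : N))) := by
        rw [hK, Submodule.span_le]
        rintro _ ⟨⟨a, k⟩, rfl⟩
        rw [SetLike.mem_coe, LinearMap.mem_ker, map_add, map_sub, map_smul,
          Finsupp.linearCombination_single, Finsupp.linearCombination_single,
          Finsupp.linearCombination_single, one_smul, one_smul, one_smul,
          zsmul_eq_algebraMap_smul (R := R), P.algebraMap_pairingIn ℤ]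
        have := P.reflectionPerm_coroot a k
        change P.coroot k - P.pairing a k • P.coroot a = P.coroot (P.reflectionPerm a k) at this
        rw [← this]
        abel
      exact hle hκ
    have hy0 : Finsupp.linearCombination ℤ (fun i : ι => (P.coroot i : N)) y = 0 := by
      have := LinearMap.mem_ker.mp hx
      rw [map_add, hκ0, zero_add] at this
      exact this
    rw [hliN y hy hy0, add_zero]
    exact hκ
  · rw [hK, Submodule.span_le]
    rintro _ ⟨⟨a, k⟩, rfl⟩
    rw [SetLike.mem_coe, LinearMap.mem_ker, map_add, map_sub, map_smul,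
      Finsupp.linearCombination_single, Finsupp.linearCombination_single,
      Finsupp.linearCombination_single, one_smul, one_smul, one_smul,
      zsmul_eq_algebraMap_smul (R := R), P.algebraMap_pairingIn ℤ]
    have := P.reflectionPerm_coroot a k
    change P.coroot k - P.pairing a k • P.coroot a = P.coroot (P.reflectionPerm a k) at this
    rw [← this]
    abel

end Groth.Agent.Lib.Helper4.RootDLib
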