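import Mathlib

/-!
# Abstract lemmas for derived completeness (helper4)
-/

set_option linter.style.haveILetI false
set_option linter.unusedSectionVars false
set_option autoImplicit false
open CategoryTheory CategoryTheory.Limits Opposite
universe w v v' u u'

namespace Groth.Agent.Lib.Helper4.DC

section Ext

open Abelian

variable {C : Type u} [Category.{v} C] [Abelian C] [HasExt.{w} C]

/-- `Ext`-vanishing is invariant under isomorphism of the first variable. -/
theorem subsingleton_ext_of_iso {X X' : C} (e : X ≅ X') (F : C) (n : ℕ)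
    (h : Subsingleton (Ext.{w} X F n)) : Subsingleton (Ext.{w} X' F n) := by
  have hinj : Function.Injective (fun x : Ext.{w} X' F n => (Ext.mk₀ e.hom).comp x (zero_add n)) := by
    intro x y hxy
    have := congrArg (fun z => (Ext.mk₀ e.inv).comp z (zero_add n)) hxy
    simpa using this
  exact hinj.subsingleton

theorem subsingleton_ext_iff_of_iso {X X' : C} (e : X ≅ X') (F : C) (n : ℕ) :
    Subsingleton (Ext.{w} X F n) ↔ Subsingleton (Ext.{w} X' F n) :=
  ⟨subsingleton_ext_of_iso e F n, subsingleton_ext_of_iso e.symm F n⟩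

/-- For a short exact sequence `0 → P₁ → P₂ → M → 0` with `P₁`, `P₂` projective,
all `Ext^n(M, F)` vanish iff precomposition with `P₁ → P₂` is bijective on `Hom(-, F)`. -/
theorem ext_subsingleton_iff_bijective (S : ShortComplex C) (hS : S.ShortExact)
    [Projective S.X₁] [Projective S.X₂] (F : C) :
    (∀ n, Subsingleton (Ext.{w} S.X₃ F n)) ↔
      Function.Bijective (fun φ : S.X₂ ⟶ F => S.f ≫ φ) := by
  haveI := hS.mono_f
  haveI := hS.epi_g
  constructor
  · intro h
    constructor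
    · intro φ φ' hφ
      dsimp only at hφ
      have h0 : S.f ≫ (φ - φ') = 0 := by rw [Preadditive.comp_sub, hφ, sub_self]
      -- `φ - φ'` factors through `S.g`
      obtain ⟨ψ, hψ⟩ : ∃ ψ : S.X₃ ⟶ F, S.g ≫ ψ = φ - φ' :=
        ⟨hS.exact.desc (φ - φ') h0, hS.exact.g_desc _ _⟩
      have hψ0 : ψ = 0 := by
        have := (h 0).elim (Ext.mk₀ ψ) (Ext.mk₀ 0)
        exact (Ext.mk₀_bijective S.X₃ F).1 this
      rw [hψ0, comp_zero] at hψ
      exact sub_eq_zero.1 hψ.symm
    · intro χ
      have hx : hS.extClass.comp (Ext.mk₀ χ) (show 1 + 0 = 1 by rfl) = 0 :=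
        (h 1).elim _ _
      obtain ⟨x₂, hx₂⟩ := Ext.contravariant_sequence_exact₁ hS F (Ext.mk₀ χ) rfl hx
      obtain ⟨φ, rfl⟩ := (Ext.mk₀_bijective S.X₂ F).2 x₂
      refine ⟨φ, ?_⟩
      rw [Ext.mk₀_comp_mk₀] at hx₂
      exact (Ext.mk₀_bijective S.X₁ F).1 hx₂
  · intro h n
    refine subsingleton_of_forall_eq 0 ?_
    intro x₃
    match n, x₃ with
    | 0, x₃ =>
      obtain ⟨ψ, rfl⟩ := (Ext.mk₀_bijective S.X₃ F).2 x₃
      have h1 : S.f ≫ (S.g ≫ ψ) = S.f ≫ 0 := by rw [S.zero_assoc, comp_zero, zero_comp]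
      have h2 : S.g ≫ ψ = 0 := h.1 h1
      have h3 : ψ = 0 := by rw [← cancel_epi S.g, h2, comp_zero]
      rw [h3, Ext.mk₀_zero]
    | 1, x₃ =>
      have h0 : (Ext.mk₀ S.g).comp x₃ (zero_add 1) = 0 := Ext.eq_zero_of_projective _
      obtain ⟨x₁, hx₁⟩ := Ext.contravariant_sequence_exact₃ hS F x₃ h0 (show 1 + 0 = 1 by rfl)
      obtain ⟨χ, rfl⟩ := (Ext.mk₀_bijective S.X₁ F).2 x₁
      obtain ⟨φ, hφ⟩ := h.2 χ
      dsimp only at hφ
      rw [← hx₁, ← hφ, ← Ext.mk₀_comp_mk₀]
      rw [← Ext.comp_assoc hS.extClass (Ext.mk₀ S.f) (Ext.mk₀ φ) (add_zero 1) (zero_add 0)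
        (by rfl), hS.extClass_comp, Ext.zero_comp]
    | (n + 2), x₃ =>
      have h0 : (Ext.mk₀ S.g).comp x₃ (zero_add (n + 2)) = 0 := Ext.eq_zero_of_projective _
      obtain ⟨x₁, hx₁⟩ := Ext.contravariant_sequence_exact₃ hS F x₃ h0
        (show 1 + (n + 1) = n + 2 by omega)
      have : x₁ = 0 := Ext.eq_zero_of_projective _
      rw [← hx₁, this, Ext.comp_zero]

end Ext

section W

variable {A : Type u} [Category.{v} A] [Abelian A] {B : Type u'} [Category.{v'} B] [Abelian B]
  (T : A ⥤ B) [T.Additive] (τ : T ⟶ T)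

theorem isIso_app_kernel [PreservesFiniteLimits T] {F G : A} (φ : F ⟶ G)
    (hF : IsIso (τ.app F)) (hG : IsIso (τ.app G)) : IsIso (τ.app (kernel φ)) := by
  have w : T.map φ ≫ (asIso (τ.app G)).hom = (asIso (τ.app F)).hom ≫ T.map φ :=
    (τ.naturality φ)
  let e := kernel.mapIso (T.map φ) (T.map φ) (asIso (τ.app F)) (asIso (τ.app G)) w
  have : τ.app (kernel φ) =
      (PreservesKernel.iso T φ).hom ≫ e.hom ≫ (PreservesKernel.iso T φ).inv := by
    rw [← cancel_mono ((PreservesKernel.iso T φ).hom), ← cancel_mono (kernel.ι (T.map φ))]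
    simp [e]
  rw [this]
  infer_instance

theorem isIso_app_cokernel [PreservesFiniteColimits T] {F G : A} (φ : F ⟶ G)
    (hF : IsIso (τ.app F)) (hG : IsIso (τ.app G)) : IsIso (τ.app (cokernel φ)) := by
  have w : T.map φ ≫ (asIso (τ.app G)).hom = (asIso (τ.app F)).hom ≫ T.map φ :=
    (τ.naturality φ)
  let e := cokernel.mapIso (T.map φ) (T.map φ) (asIso (τ.app F)) (asIso (τ.app G)) w
  have : τ.app (cokernel φ) =
      (PreservesCokernel.iso T φ).hom ≫ e.hom ≫ (PreservesCokernel.iso T φ).inv := by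
    rw [← cancel_epi ((PreservesCokernel.iso T φ).inv), ← cancel_epi (cokernel.π (T.map φ))]
    simp [e]
  rw [this]
  infer_instance

theorem isIso_app_X₂ [PreservesFiniteLimits T] [PreservesFiniteColimits T]
    (S : ShortComplex A) (hS : S.ShortExact)
    (h₁ : IsIso (τ.app S.X₁)) (h₃ : IsIso (τ.app S.X₃)) : IsIso (τ.app S.X₂) := by
  let φ : S.map T ⟶ S.map T :=
    { τ₁ := τ.app S.X₁
      τ₂ := τ.app S.X₂
      τ₃ := τ.app S.X₃
      comm₁₂ := (τ.naturality S.f).symm
      comm₂₃ := (τ.naturality S.g).symm }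
  haveI : IsIso φ.τ₁ := h₁
  haveI : IsIso φ.τ₃ := h₃
  exact ShortComplex.isIso₂_of_shortExact_of_isIso₁₃ φ (hS.map_of_exact T) (hS.map_of_exact T)

end W

section Lm

variable {A : Type u} [Category.{v} A] {B : Type u'} [Category.{v'} B]
  (T : A ⥤ B) (τ : T ⟶ T)

theorem isIso_app_limit {J : Type*} [Category J] (D : J ⥤ A) [HasLimit D] [HasLimit (D ⋙ T)]
    [PreservesLimit D T] (h : ∀ j, IsIso (τ.app (D.obj j))) : IsIso (τ.app (limit D)) := by
  haveI : IsIso (Functor.whiskerLeft D τ) := by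
    haveI : ∀ j, IsIso ((Functor.whiskerLeft D τ).app j) := fun j => h j
    exact NatIso.isIso_of_isIso_app _
  have : τ.app (limit D) = (preservesLimitIso T D).hom ≫ limMap (Functor.whiskerLeft D τ) ≫
      (preservesLimitIso T D).inv := by
    rw [← cancel_mono ((preservesLimitIso T D).hom)]
    apply limit.hom_ext
    intro j
    simp
  rw [this]
  haveI : IsIso (limMap (Functor.whiskerLeft D τ)) :=
    ⟨limMap (inv (Functor.whiskerLeft D τ)), by
      constructor
      · apply limit.hom_ext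
        intro j
        simp [← NatTrans.comp_app]
      · apply limit.hom_ext
        intro j
        simp [← NatTrans.comp_app]⟩
  infer_instance

end Lm

end Groth.Agent.Lib.Helper4.DC
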