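import Groth.Agent.Lib.Helper4.DC9

/-!
# Derived Nakayama for sheaves of modules on the pro-étale site (helper4)
-/

set_option linter.style.haveILetI false
set_option linter.unusedSectionVars false
set_option autoImplicit false
open CategoryTheory CategoryTheory.Limits AlgebraicGeometry Opposite
universe u

namespace Groth.Agent.Lib.Helper4.DC

open Groth.Agent.Lib.Helper4.PE

variable (Λ : Type (u + 1)) [CommRing Λ] {Z : Scheme.{u}}

/-- Module-level derived completeness with respect to one element. -/
def DCmod (f : Λ) (N : ModuleCat.{u + 1} Λ) : Prop :=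
  Function.Bijective (fun φ : NN Λ ⟶ N => mMap Λ f ≫ φ)

variable {Λ}

theorem DCmod_iff_isIso (f : Λ) (N : ModuleCat.{u + 1} Λ) :
    DCmod Λ f N ↔ IsIso ((preadditiveCoyoneda.map (mMap Λ f).op).app N) := by
  rw [ConcreteCategory.isIso_iff_bijective]
  rfl

theorem DCmod_cokernel (f : Λ) {M N : ModuleCat.{u + 1} Λ} (φ : M ⟶ N) (hM : DCmod Λ f M)
    (hN : DCmod Λ f N) : DCmod Λ f (cokernel φ) := by
  rw [DCmod_iff_isIso] at hM hN ⊢
  exact isIso_app_cokernel (preadditiveCoyoneda.obj (op (NN Λ)))
    (preadditiveCoyoneda.map (mMap Λ f).op) φ hM hN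

open Polynomial in
theorem subsingleton_of_surjective_of_DCmod (f : Λ) (N : ModuleCat.{u + 1} Λ) (h : DCmod Λ f N)
    (hs : Function.Surjective (fun y : N => f • y)) : Subsingleton N := by
  refine subsingleton_of_forall_eq 0 ?_
  intro y
  choose pre hpre using hs
  let ys : ℕ → N := fun k => Nat.rec y (fun _ z => pre z) k
  have hys : ∀ k, f • ys (k + 1) = ys k := fun k => hpre (ys k)
  let φl : Λ[X] →ₗ[Λ] N := Polynomial.lsum (fun k => LinearMap.toSpanSingleton Λ N (ys k))
  have hφl : ∀ k (c : Λ), φl (monomial k c) = c • ys k := by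
    intro k c
    simp only [φl, Polynomial.lsum_apply]
    rw [Polynomial.sum_monomial_index]
    · rfl
    · simp
  have h0 : mMap Λ f ≫ ModuleCat.ofHom φl = mMap Λ f ≫ 0 := by
    rw [Limits.comp_zero]
    apply ModuleCat.hom_ext
    apply Polynomial.lhom_ext'
    intro k
    apply LinearMap.ext
    intro c
    change φl ((C f * Polynomial.X - 1) * monomial k c) = 0
    have : (C f * Polynomial.X - 1) * monomial k c = monomial (k + 1) (f * c) - monomial k c := by
      rw [sub_mul, one_mul, mul_assoc, Polynomial.X_mul, Polynomial.monomial_mul_X,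
        Polynomial.C_mul_monomial]
    rw [this, map_sub, hφl, hφl, mul_comm, mul_smul, hys, sub_self]
  have h1 := h.1 h0
  have h2 : φl (monomial 0 1) = 0 := by
    have := congrArg (fun ψ : NN Λ ⟶ N => ψ.hom (monomial 0 1)) h1
    exact this
  rw [hφl, one_smul] at h2
  exact h2

theorem nakayama : ∀ (r : ℕ) (a : Fin r → Λ) (N : ModuleCat.{u + 1} Λ),
    (∀ f ∈ Ideal.span (Set.range a), DCmod Λ f N) →
    (∀ y : N, y ∈ (Ideal.span (Set.range a)) • (⊤ : Submodule Λ N)) → Subsingleton N := by
  intro r
  induction r with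
  | zero =>
    intro a N _ hgen
    refine subsingleton_of_forall_eq 0 ?_
    intro y
    have hy := hgen y
    have : Ideal.span (Set.range a) = ⊥ := by
      rw [Ideal.span_eq_bot]
      rintro _ ⟨i, rfl⟩
      exact i.elim0
    rw [this, Submodule.bot_smul] at hy
    exact hy
  | succ r ih =>
    intro a N hDC hgen
    let φ₀ : N ⟶ N := a 0 • 𝟙 N
    have hle : Ideal.span (Set.range (Fin.tail a)) ≤ Ideal.span (Set.range a) := by
      apply Ideal.span_mono
      rintro _ ⟨i, rfl⟩
      exact ⟨i.succ, rfl⟩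
    have hDC' : ∀ f ∈ Ideal.span (Set.range (Fin.tail a)), DCmod Λ f (cokernel φ₀) :=
      fun f hf => DCmod_cokernel f φ₀ (hDC f (hle hf)) (hDC f (hle hf))
    have hπs : Function.Surjective (cokernel.π φ₀).hom :=
      (ModuleCat.epi_iff_surjective _).1 inferInstance
    have hπ0 : ∀ z : N, (cokernel.π φ₀).hom (a 0 • z) = 0 := by
      intro z
      have := congrArg (fun ψ : N ⟶ cokernel φ₀ => ψ.hom z) (cokernel.condition φ₀)
      exact this
    have hgen' : ∀ y' : (cokernel φ₀ : ModuleCat.{u + 1} Λ),
        y' ∈ (Ideal.span (Set.range (Fin.tail a))) • (⊤ : Submodule Λ (cokernel φ₀ : ModuleCat.{u + 1} Λ)) := by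
      intro y'
      obtain ⟨y, rfl⟩ := hπs y'
      refine Submodule.smul_induction_on (hgen y) ?_ ?_
      · intro c hc n _
        obtain ⟨b, rfl⟩ := Ideal.mem_span_range_iff_exists_fun.1 hc
        rw [Fin.sum_univ_succ, add_smul, map_add, mul_comm, mul_smul, hπ0, zero_add,
          Finset.sum_smul, map_sum]
        apply Submodule.sum_mem
        intro i _
        rw [mul_comm, mul_smul, map_smul]
        exact Submodule.smul_mem_smul (Ideal.subset_span ⟨i, rfl⟩) trivial
      · intro x z hx hz
        rw [map_add]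
        exact Submodule.add_mem _ hx hz
    haveI hsub := ih (Fin.tail a) (cokernel φ₀) hDC' hgen'
    have hsurj : Function.Surjective (fun y : N => a 0 • y) := by
      intro y
      have hex : (ShortComplex.mk φ₀ (cokernel.π φ₀) (cokernel.condition φ₀)).Exact :=
        ShortComplex.exact_of_g_is_cokernel _ (cokernelIsCokernel φ₀)
      rw [ShortComplex.moduleCat_exact_iff] at hex
      obtain ⟨x, hx⟩ := hex y (Subsingleton.elim _ _)
      exact ⟨x, hx⟩
    exact subsingleton_of_surjective_of_DCmod (a 0) N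
      (hDC (a 0) (Ideal.subset_span ⟨0, rfl⟩)) hsurj

theorem isZero_of_sections_wc (F : EtModW.ModP Λ Z)
    (h : ∀ V, ProEtS.IsWC V → Subsingleton ((GammaV Λ V).obj F)) : IsZero F := by
  haveI : Epi (0 : F ⟶ F) := by
    rw [← Sheaf.isLocallySurjective_iff_epi' (A := ModuleCat.{u + 1} Λ)]
    constructor
    intro U s
    obtain ⟨ι, V, g, hcov, hV⟩ := exists_wc_cover U
    refine (Scheme.ProEt.topology Z).superset_covering ?_ hcov
    rintro Y _ ⟨W, a, b, ⟨i⟩, rfl⟩
    apply Sieve.downward_closed
    haveI := (hV i).1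
    have hwc := isWC_of_isWContractible (V i) (hV i).2
    haveI := h (V i) hwc
    exact ⟨0, Subsingleton.elim (α := (GammaV Λ (V i)).obj F) _ _⟩
  exact IsZero.of_epi_zero F F

end Groth.Agent.Lib.Helper4.DC
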