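import Groth.Agent.Lib.Helper4.DC10

/-!
# `F/IF` on sections over weakly contractible objects (helper4)
-/

set_option linter.style.haveILetI false
set_option linter.unusedSectionVars false
set_option autoImplicit false
open CategoryTheory CategoryTheory.Limits AlgebraicGeometry Opposite
universe u

namespace Groth.Agent.Lib.Helper4.DC

variable {Λ : Type (u + 1)} [CommRing Λ] {Z : Scheme.{u}}

theorem smulHom_eq (F : EtModW.ModP Λ Z) (a : Λ) : ProEtDC.smulHom Λ F a = a • 𝟙 F := rfl

theorem desc_eq_sum {r : ℕ} (F : EtModW.ModP Λ Z) (ψ : Fin r → (F ⟶ F)) :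
    biproduct.desc ψ = ∑ k, biproduct.π (fun _ : Fin r => F) k ≫ ψ k := by
  have h := biproduct.total (f := fun _ : Fin r => F)
  calc biproduct.desc ψ = 𝟙 _ ≫ biproduct.desc ψ := (Category.id_comp _).symm
    _ = (∑ k, biproduct.π (fun _ : Fin r => F) k ≫ biproduct.ι (fun _ : Fin r => F) k) ≫
          biproduct.desc ψ := by rw [h]
    _ = ∑ k, biproduct.π (fun _ : Fin r => F) k ≫ ψ k := by
        rw [Preadditive.sum_comp]
        refine Finset.sum_congr rfl (fun k _ => ?_)
        rw [Category.assoc, biproduct.ι_desc]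

theorem gens_apply {r : ℕ} (a : Fin r → Λ) (F : EtModW.ModP Λ Z) (V : Z.ProEt)
    (x : (GammaV Λ V).obj (⨁ fun _ : Fin r => F)) :
    ((GammaV Λ V).map (biproduct.desc fun k => a k • 𝟙 F)).hom x =
      ∑ k, a k • ((GammaV Λ V).map (biproduct.π (fun _ : Fin r => F) k)).hom x := by
  rw [desc_eq_sum, Functor.map_sum, ModuleCat.hom_sum, LinearMap.sum_apply]
  refine Finset.sum_congr rfl (fun k _ => ?_)
  rw [Linear.comp_smul, Category.comp_id, GammaV_map_smul]
  rfl

theorem gens_mem {r : ℕ} (a : Fin r → Λ) (F : EtModW.ModP Λ Z) (V : Z.ProEt)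
    (x : (GammaV Λ V).obj (⨁ fun _ : Fin r => F)) :
    ((GammaV Λ V).map (biproduct.desc fun k => a k • 𝟙 F)).hom x ∈
      (Ideal.span (Set.range a)) • (⊤ : Submodule Λ ((GammaV Λ V).obj F)) := by
  rw [gens_apply]
  apply Submodule.sum_mem
  intro k _
  exact Submodule.smul_mem_smul (Ideal.subset_span ⟨k, rfl⟩) trivial

/-- Derived Nakayama for sheaves. -/
theorem isZero_of_isDCSheaf_of_epi {r : ℕ} (a : Fin r → Λ) (F : EtModW.ModP Λ Z)
    (hF : ProEtDC.IsDCSheaf Λ (Ideal.span (Set.range a)) F)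
    (h0 : Epi (biproduct.desc fun k : Fin r => a k • 𝟙 F)) : IsZero F := by
  apply isZero_of_sections_wc
  intro V hV
  apply nakayama r a ((GammaV Λ V).obj F)
  · intro f hf
    exact (isDCSheaf_iff _ F).1 hF f hf V hV
  · intro y
    obtain ⟨x, rfl⟩ := surjective_app_of_epi_of_isWC_mod
      (biproduct.desc fun k : Fin r => a k • 𝟙 F) V hV y
    exact gens_mem a F V x

end Groth.Agent.Lib.Helper4.DC
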