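import Groth.Agent.Lib.Helper4.DC11
import Groth.Prelude.Def_ARSys

/-!
# Sections of `F/IF` over weakly contractible objects (helper4)
-/

set_option linter.style.haveILetI false
set_option linter.unusedSectionVars false
set_option autoImplicit false
open CategoryTheory CategoryTheory.Limits AlgebraicGeometry Opposite
universe u

namespace Groth.Agent.Lib.Helper4.DC

variable {Λ : Type (u + 1)} [CommRing Λ] {Z : Scheme.{u}}

section

variable {r : ℕ} (a : Fin r → Λ) {F Q : EtModW.ModP Λ Z} (p : F ⟶ Q)
  (hp : ARSys.IsQuot (Ideal.span (Set.range a)) p)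

/-- The map `F^r → F`. -/
noncomputable abbrev gensM (F : EtModW.ModP Λ Z) : (⨁ fun _ : Fin r => F) ⟶ F :=
  biproduct.desc fun k : Fin r => a k • 𝟙 F

include hp in
theorem gensM_comp : gensM a F ≫ p = 0 := by
  apply biproduct.hom_ext'
  intro k
  rw [biproduct.ι_desc_assoc, comp_zero, Linear.smul_comp, Category.id_comp]
  have h1 := hp.1 (a k) (Ideal.subset_span ⟨k, rfl⟩)
  have : a k • p = p ≫ (a k • 𝟙 Q) := by rw [Linear.comp_smul, Category.comp_id]
  rw [this, h1, comp_zero]

theorem homKilledBy_cokernel_π :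
    ARSys.HomKilledBy (Ideal.span (Set.range a)) (cokernel.π (gensM a F)) := by
  intro b hb
  obtain ⟨β, rfl⟩ := Ideal.mem_span_range_iff_exists_fun.1 hb
  rw [Finset.sum_smul]
  apply Finset.sum_eq_zero
  intro k _
  have : (β k * a k) • cokernel.π (gensM a F) =
      (β k • biproduct.ι (fun _ : Fin r => F) k) ≫ gensM a F ≫ cokernel.π (gensM a F) := by
    rw [Linear.smul_comp, biproduct.ι_desc_assoc, Linear.smul_comp, Category.id_comp, smul_smul]
  rw [this, cokernel.condition, comp_zero]

include hp in
theorem isIso_cokernel_desc :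
    IsIso (cokernel.desc (gensM a F) p (gensM_comp a p hp)) := by
  obtain ⟨ψ, hψ, _⟩ := hp.2 _ (cokernel.π (gensM a F)) (homKilledBy_cokernel_π a)
  have hpk : ARSys.HomKilledBy (Ideal.span (Set.range a)) p := by
    intro b hb
    have : b • p = p ≫ (b • 𝟙 Q) := by rw [Linear.comp_smul, Category.comp_id]
    rw [this, hp.1 b hb, comp_zero]
  refine ⟨ψ, ?_, ?_⟩
  · rw [← cancel_epi (cokernel.π (gensM a F)), cokernel.π_desc_assoc, hψ, Category.comp_id]
  · have h1 : p ≫ (ψ ≫ cokernel.desc (gensM a F) p (gensM_comp a p hp)) = p := by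
      rw [← Category.assoc, hψ, cokernel.π_desc]
    have h2 : p ≫ 𝟙 Q = p := Category.comp_id _
    exact (hp.2 _ p hpk).unique h1 h2

include hp in
theorem epi_of_isQuot : Epi p := by
  haveI := isIso_cokernel_desc a p hp
  have : p = cokernel.π (gensM a F) ≫ cokernel.desc (gensM a F) p (gensM_comp a p hp) :=
    (cokernel.π_desc _ _ _).symm
  rw [this]
  infer_instance

include hp in
theorem exact_of_isQuot : (ShortComplex.mk (gensM a F) p (gensM_comp a p hp)).Exact := by
  haveI := isIso_cokernel_desc a p hp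
  have h1 : (ShortComplex.mk (gensM a F) (cokernel.π (gensM a F)) (cokernel.condition _)).Exact :=
    ShortComplex.exact_of_g_is_cokernel _ (cokernelIsCokernel _)
  refine (ShortComplex.exact_iff_of_iso ?_).1 h1
  exact ShortComplex.isoMk (Iso.refl _) (Iso.refl _)
    (asIso (cokernel.desc (gensM a F) p (gensM_comp a p hp))) (by simp) (by simp)

include hp in
theorem sections_of_isQuot (U : Z.ProEt) (hU : ProEtS.IsWC U) :
    Function.Surjective (p.hom.app (op U)).hom ∧
      LinearMap.ker (p.hom.app (op U)).hom =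
        (Ideal.span (Set.range a)) • (⊤ : Submodule Λ (F.obj.obj (op U))) := by
  haveI := epi_of_isQuot a p hp
  refine ⟨surjective_app_of_epi_of_isWC_mod p U hU, ?_⟩
  apply le_antisymm
  · intro y hy
    haveI := preservesFiniteColimits_GammaV Λ U hU
    haveI : PreservesFiniteLimits (GammaV Λ U) := inferInstance
    have hex := (exact_of_isQuot a p hp).map (GammaV Λ U)
    rw [ShortComplex.moduleCat_exact_iff] at hex
    obtain ⟨x, hx⟩ := hex y hy
    rw [← hx]
    exact gens_mem a F U x
  · rw [Submodule.smul_le]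
    intro b hb n _
    rw [LinearMap.mem_ker, map_smul]
    have h1 := hp.1 b hb
    have h2 := congrArg (fun ψ : Q ⟶ Q => ((GammaV Λ U).map ψ).hom ((p.hom.app (op U)).hom n)) h1
    exact h2

end

/-- Version for a finitely generated ideal. -/
theorem sections_of_isQuot' (I : Ideal Λ) (hI : I.FG) {F Q : EtModW.ModP Λ Z} (p : F ⟶ Q)
    (hp : ARSys.IsQuot I p) (U : Z.ProEt) (hU : ProEtS.IsWC U) :
    Function.Surjective (p.hom.app (op U)).hom ∧
      LinearMap.ker (p.hom.app (op U)).hom = I • (⊤ : Submodule Λ (F.obj.obj (op U))) := by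
  obtain ⟨r, a, rfl⟩ := Submodule.fg_iff_exists_fin_generating_family.1 hI
  exact sections_of_isQuot a p hp U hU

end Groth.Agent.Lib.Helper4.DC
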