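import Mathlib

/-!
# Limits of adic systems of modules (helper4)
-/

set_option linter.style.haveILetI false
set_option linter.unusedSectionVars false
set_option autoImplicit false
open CategoryTheory CategoryTheory.Limits Opposite
universe w

namespace Groth.Agent.Lib.Helper4.DC

variable {Λ : Type w} [CommRing Λ]

/-- Elements of `I • P` for `I = (b_1, …, b_s)` are combinations `Σ b_j v_j` with `v_j ∈ P`. -/
theorem exists_sum_of_mem_span_smul {s : ℕ} (b : Fin s → Λ) {M : Type*} [AddCommGroup M]
    [Module Λ M] (P : Submodule Λ M) (x : M) (hx : x ∈ Ideal.span (Set.range b) • P) :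
    ∃ v : Fin s → M, (∀ j, v j ∈ P) ∧ x = ∑ j, b j • v j := by
  refine Submodule.smul_induction_on hx ?_ ?_
  · intro c hc p hp
    obtain ⟨β, rfl⟩ := Ideal.mem_span_range_iff_exists_fun.1 hc
    refine ⟨fun j => β j • p, fun j => P.smul_mem _ hp, ?_⟩
    rw [Finset.sum_smul]
    refine Finset.sum_congr rfl (fun j _ => ?_)
    rw [mul_comm, mul_smul]
  · rintro x y ⟨v, hv, rfl⟩ ⟨v', hv', rfl⟩
    refine ⟨fun j => v j + v' j, fun j => P.add_mem (hv j) (hv' j), ?_⟩
    rw [← Finset.sum_add_distrib]
    refine Finset.sum_congr rfl (fun j _ => ?_)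
    rw [smul_add]

section

variable (D : ℕᵒᵖ ⥤ ModuleCat.{w} Λ) {c : Cone D} (hc : IsLimit c)

/-- transition maps -/
noncomputable abbrev trD {k m : ℕ} (h : k ≤ m) : D.obj (op m) →ₗ[Λ] D.obj (op k) :=
  (D.map (homOfLE h).op).hom

/-- projections -/
noncomputable abbrev prD (c : Cone D) (k : ℕ) : c.pt →ₗ[Λ] D.obj (op k) := (c.π.app (op k)).hom

theorem trD_prD (c : Cone D) {k m : ℕ} (h : k ≤ m) (z : c.pt) :
    trD D h (prD D c m z) = prD D c k z := by
  have := c.w (homOfLE h).op
  exact congrArg (fun φ : c.pt ⟶ D.obj (op k) => φ.hom z) this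

theorem trD_trD {k m l : ℕ} (h : k ≤ m) (h' : m ≤ l) (z : D.obj (op l)) :
    trD D h (trD D h' z) = trD D (h.trans h') z := by
  have : D.map (homOfLE h').op ≫ D.map (homOfLE h).op = D.map (homOfLE (h.trans h')).op := by
    rw [← D.map_comp]
    rfl
  exact congrArg (fun φ : D.obj (op l) ⟶ D.obj (op k) => φ.hom z) this

theorem trD_refl (k : ℕ) (z : D.obj (op k)) : trD D (le_refl k) z = z := by
  have : D.map (homOfLE (le_refl k)).op = 𝟙 _ := by
    rw [← D.map_id]
    rfl
  exact congrArg (fun φ : D.obj (op k) ⟶ D.obj (op k) => φ.hom z) this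

include hc in
theorem ext_of_isLimit (x y : c.pt) (h : ∀ k, prD D c k x = prD D c k y) : x = y := by
  apply Concrete.isLimit_ext D hc
  rintro ⟨k⟩
  exact h k

include hc in
theorem exists_of_compat (s : ∀ k : ℕ, D.obj (op k))
    (hs : ∀ k, trD D (Nat.le_succ k) (s (k + 1)) = s k) :
    ∃ z : c.pt, ∀ k, prD D c k z = s k := by
  have hs' : ∀ (k m : ℕ) (h : k ≤ m), trD D h (s m) = s k := by
    intro k m h
    induction h with
    | refl => exact trD_refl D k _
    | @step p h ih =>
      have h' : k ≤ p := h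
      rw [← ih, ← hs p, trD_trD D h' (Nat.le_succ p)]
  let sec : (D ⋙ forget (ModuleCat.{w} Λ)).sections :=
    ⟨fun j => s j.unop, by
      rintro ⟨m⟩ ⟨k⟩ f
      have h : k ≤ m := leOfHom f.unop
      have : f = (homOfLE h).op := Subsingleton.elim _ _
      subst this
      exact hs' k m h⟩
  let e := Types.isLimitEquivSections (isLimitOfPreserves (forget (ModuleCat.{w} Λ)) hc)
  refine ⟨e.symm sec, fun k => ?_⟩
  exact Types.isLimitEquivSections_symm_apply
    (isLimitOfPreserves (forget (ModuleCat.{w} Λ)) hc) sec (op k)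

variable (I : Ideal Λ)
  (hD : ∀ (k m : ℕ) (h : k ≤ m), Function.Surjective (trD D h) ∧
    LinearMap.ker (trD D h) = I ^ (k + 1) • (⊤ : Submodule Λ (D.obj (op m))))

include hD in
theorem killed_of_adic (k : ℕ) : (I ^ (k + 1) • (⊤ : Submodule Λ (D.obj (op k)))) = ⊥ := by
  rw [← (hD k k (le_refl k)).2, LinearMap.ker_eq_bot]
  intro x y hxy
  rwa [trD_refl, trD_refl] at hxy

include hc hD in
theorem surjective_prD (n : ℕ) : Function.Surjective (prD D c n) := by
  intro y
  choose pre hpre using fun k => (hD k (k + 1) (Nat.le_succ k)).1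
  let s : ∀ k : ℕ, D.obj (op k) := fun k =>
    Nat.rec (motive := fun k => D.obj (op k)) (trD D (Nat.zero_le n) y)
      (fun m sm => if h : m + 1 ≤ n then trD D h y else pre m sm) k
  have hs_le : ∀ (k : ℕ) (h : k ≤ n), s k = trD D h y := by
    intro k h
    cases k with
    | zero => rfl
    | succ m => exact dif_pos h
  have hs : ∀ k, trD D (Nat.le_succ k) (s (k + 1)) = s k := by
    intro k
    by_cases h : k + 1 ≤ n
    · rw [hs_le (k + 1) h, hs_le k (Nat.le_of_succ_le h), trD_trD]
    · have : s (k + 1) = pre k (s k) := dif_neg h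
      rw [this, hpre]
  obtain ⟨z, hz⟩ := exists_of_compat D hc s hs
  refine ⟨z, ?_⟩
  rw [hz n, hs_le n (le_refl n), trD_refl]

include hc hD in
theorem ker_prD_le {s : ℕ} (b : Fin s → Λ) (n : ℕ) (hb : Ideal.span (Set.range b) = I ^ (n + 1))
    (x : c.pt) (hx : prD D c n x = 0) :
    x ∈ I ^ (n + 1) • (⊤ : Submodule Λ c.pt) := by
  -- existence of one step
  have E1 : ∀ (t : ℕ) (r : c.pt), prD D c (n + t) r = 0 →
      ∃ w : Fin s → c.pt, (∀ j k, k < t → prD D c k (w j) = 0) ∧
        prD D c (n + t + 1) (r - ∑ j, b j • w j) = 0 := by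
    intro t r hr
    have h1 : prD D c (n + t + 1) r ∈ LinearMap.ker (trD D (Nat.le_succ (n + t))) := by
      rw [LinearMap.mem_ker, trD_prD, hr]
    rw [(hD (n + t) (n + t + 1) (Nat.le_succ _)).2] at h1
    have h2 : I ^ (n + t + 1) = Ideal.span (Set.range b) * I ^ t := by
      rw [hb, ← pow_add]
      congr 1
      omega
    rw [h2, Submodule.mul_smul] at h1
    obtain ⟨v, hv, hvsum⟩ := exists_sum_of_mem_span_smul b _ _ h1
    choose wl hwl using fun j => surjective_prD D hc I hD (n + t + 1) (v j)
    refine ⟨wl, ?_, ?_⟩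
    · intro j k hk
      have hkle : k ≤ n + t + 1 := by omega
      rw [← trD_prD D c hkle, hwl]
      -- image of `v j` lies in `I^t • ⊤ = 0`
      have h3 : trD D hkle (v j) ∈ I ^ t • (⊤ : Submodule Λ (D.obj (op k))) := by
        have h4 : trD D hkle (v j) ∈ Submodule.map (trD D hkle) (I ^ t • (⊤ : Submodule Λ _)) :=
          Submodule.mem_map_of_mem (hv j)
        rw [Submodule.map_smul''] at h4
        exact Submodule.smul_mono (le_refl _) le_top h4
      have h5 : I ^ t • (⊤ : Submodule Λ (D.obj (op k))) ≤ I ^ (k + 1) • ⊤ :=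
        Submodule.smul_mono_left (Ideal.pow_le_pow_right (by omega))
      have h6 := h5 h3
      rw [killed_of_adic D I hD k] at h6
      exact h6
    · rw [map_sub, map_sum, hvsum]
      simp only [map_smul, hwl, sub_self]
  -- the recursion
  classical
  let stepw : ℕ → c.pt → (Fin s → c.pt) := fun t r =>
    if h : prD D c (n + t) r = 0 then Classical.choose (E1 t r h) else 0
  have stepw_spec : ∀ t r (h : prD D c (n + t) r = 0),
      (∀ j k, k < t → prD D c k (stepw t r j) = 0) ∧
        prD D c (n + t + 1) (r - ∑ j, b j • stepw t r j) = 0 := by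
    intro t r h
    have : stepw t r = Classical.choose (E1 t r h) := dif_pos h
    rw [this]
    exact Classical.choose_spec (E1 t r h)
  let rr : ℕ → c.pt := fun t => Nat.rec x (fun t r => r - ∑ j, b j • stepw t r j) t
  have rr_succ : ∀ t, rr (t + 1) = rr t - ∑ j, b j • stepw t (rr t) j := fun t => rfl
  have rr_inv : ∀ t, prD D c (n + t) (rr t) = 0 := by
    intro t
    induction t with
    | zero => exact hx
    | succ t ih =>
      rw [rr_succ]
      exact (stepw_spec t (rr t) ih).2
  let ww : ℕ → Fin s → c.pt := fun t => stepw t (rr t)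
  have ww_zero : ∀ t j k, k < t → prD D c k (ww t j) = 0 :=
    fun t j k hk => (stepw_spec t (rr t) (rr_inv t)).1 j k hk
  have ww_diff : ∀ t, ∑ j, b j • ww t j = rr t - rr (t + 1) := by
    intro t
    rw [rr_succ, sub_sub_cancel]
  -- the sums
  have hW : ∀ j, ∃ W : c.pt, ∀ k, prD D c k W = ∑ t ∈ Finset.range (k + 1), prD D c k (ww t j) := by
    intro j
    apply exists_of_compat D hc
    intro k
    rw [map_sum, Finset.sum_range_succ]
    simp only [trD_prD]
    rw [ww_zero (k + 1) j k (Nat.lt_succ_self k), add_zero]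
  choose W hW using hW
  have hxW : x = ∑ j, b j • W j := by
    apply ext_of_isLimit D hc
    intro k
    rw [map_sum]
    simp only [map_smul, hW]
    simp only [Finset.smul_sum]
    rw [Finset.sum_comm]
    have : ∀ t, ∑ j, b j • prD D c k (ww t j) = prD D c k (rr t) - prD D c k (rr (t + 1)) := by
      intro t
      rw [← map_sub, ← ww_diff, map_sum]
      simp only [map_smul]
    simp only [this]
    rw [Finset.sum_range_sub']
    have h0 : prD D c k (rr (k + 1)) = 0 := by
      have hle : k ≤ n + (k + 1) := by omega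
      rw [← trD_prD D c hle, rr_inv, map_zero]
    rw [h0, sub_zero]
    rfl
  rw [hxW]
  apply Submodule.sum_mem
  intro j _
  refine Submodule.smul_mem_smul ?_ trivial
  rw [← hb]
  exact Ideal.subset_span ⟨j, rfl⟩

include hc hD in
theorem ker_prD (hI : I.FG) (n : ℕ) :
    LinearMap.ker (prD D c n) = I ^ (n + 1) • (⊤ : Submodule Λ c.pt) := by
  apply le_antisymm
  · intro x hx
    have hfg : (I ^ (n + 1)).FG := hI.pow
    obtain ⟨s, b, hb⟩ := Submodule.fg_iff_exists_fin_generating_family.1 hfg
    exact ker_prD_le D hc I hD b n hb x hx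
  · rw [Submodule.smul_le]
    intro a ha z _
    rw [LinearMap.mem_ker, map_smul]
    have : a • prD D c n z ∈ I ^ (n + 1) • (⊤ : Submodule Λ (D.obj (op n))) :=
      Submodule.smul_mem_smul ha trivial
    rw [killed_of_adic D I hD n] at this
    exact this

end

end Groth.Agent.Lib.Helper4.DC
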