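import Groth.Agent.Lib.Helper4.DC12
import Groth.Agent.Lib.Helper4.DC13
import Groth.Agent.Lib.Helper4.DC14

/-!
# Limits of adic systems of sheaves of modules on the pro-étale site (helper4)
-/

set_option linter.style.haveILetI false
set_option linter.unusedSectionVars false
set_option autoImplicit false
open CategoryTheory CategoryTheory.Limits AlgebraicGeometry Opposite
universe u

namespace Groth.Agent.Lib.Helper4.DC

variable {Λ : Type (u + 1)} [CommRing Λ] {Z : Scheme.{u}}

/-- A morphism of sheaves of modules which is bijective on sections over weakly contractible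
objects is an isomorphism. -/
theorem isIso_of_bijective_wc {A B : EtModW.ModP Λ Z} (φ : A ⟶ B)
    (h : ∀ V, ProEtS.IsWC V → Function.Bijective ((GammaV Λ V).map φ).hom) : IsIso φ := by
  haveI : Mono φ := by
    apply Preadditive.mono_of_isZero_kernel
    apply isZero_of_sections_wc
    intro V hV
    refine subsingleton_of_forall_eq 0 ?_
    intro z
    haveI : Mono ((GammaV Λ V).map (kernel.ι φ)) := inferInstance
    have hinj := (ModuleCat.mono_iff_injective _).1 this
    apply hinj
    rw [map_zero]
    apply (h V hV).1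
    rw [map_zero, ← ModuleCat.comp_apply, ← Functor.map_comp, kernel.condition, Functor.map_zero]
    rfl
  haveI : Epi φ := by
    apply Preadditive.epi_of_isZero_cokernel
    apply isZero_of_sections_wc
    intro V hV
    refine subsingleton_of_forall_eq 0 ?_
    intro z
    obtain ⟨y, rfl⟩ := surjective_app_of_epi_of_isWC_mod (cokernel.π φ) V hV z
    obtain ⟨x, rfl⟩ := (h V hV).2 y
    change ((GammaV Λ V).map (cokernel.π φ)).hom (((GammaV Λ V).map φ).hom x) = 0
    rw [← ModuleCat.comp_apply, ← Functor.map_comp, cokernel.condition, Functor.map_zero]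
    rfl
  exact isIso_of_mono_of_epi φ

section adic

variable (I : Ideal Λ) (hI : I.FG) (H : ARSys.PS (EtModW.ModP Λ Z)) (hH : ARSys.IsAdic I H)

include hI hH in
theorem sections_adic (V : Z.ProEt) (hV : ProEtS.IsWC V) (k m : ℕ) (h : k ≤ m) :
    Function.Surjective (trD (H ⋙ GammaV Λ V) h) ∧
      LinearMap.ker (trD (H ⋙ GammaV Λ V) h) =
        I ^ (k + 1) • (⊤ : Submodule Λ ((H ⋙ GammaV Λ V).obj (op m))) :=
  sections_of_isQuot' (I ^ (k + 1)) hI.pow (ARSys.tr H h) (hH.2 k m h) V hV

include hI hH in
theorem sections_limit_π (V : Z.ProEt) (hV : ProEtS.IsWC V) (n : ℕ) :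
    Function.Surjective ((GammaV Λ V).map (limit.π H (op n))).hom ∧
      LinearMap.ker ((GammaV Λ V).map (limit.π H (op n))).hom =
        I ^ (n + 1) • (⊤ : Submodule Λ ((GammaV Λ V).obj (limit H))) := by
  haveI : PreservesLimitsOfSize.{0, 0} (GammaV Λ V) :=
    preservesLimitsOfSize_shrink.{0, u + 1, 0, u + 1} _
  have hc : IsLimit ((GammaV Λ V).mapCone (limit.cone H)) :=
    isLimitOfPreserves (GammaV Λ V) (limit.isLimit H)
  exact ⟨surjective_prD (H ⋙ GammaV Λ V) hc I (sections_adic I hI H hH V hV) n,
    ker_prD (H ⋙ GammaV Λ V) hc I (sections_adic I hI H hH V hV) hI n⟩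

include hI hH in
/-- The limit projections of an adic system are quotient maps. -/
theorem isQuot_limit_π (n : ℕ) : ARSys.IsQuot (I ^ (n + 1)) (limit.π H (op n)) := by
  obtain ⟨s, b, hb⟩ := Submodule.fg_iff_exists_fin_generating_family.1 (hI.pow (n := n + 1))
  have hb' : Ideal.span (Set.range b) = I ^ (n + 1) := hb
  rw [← hb']
  have hkill : ARSys.KilledBy (Ideal.span (Set.range b)) (H.obj (op n)) := by
    rw [hb']
    exact hH.1 n
  have w := gensA_comp_of_killedBy b (limit.π H (op n)) hkill
  let q := cokernel.desc (gensA b (limit H)) (limit.π H (op n)) w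
  have hcq : ARSys.IsQuot (Ideal.span (Set.range b)) (cokernel.π (gensA b (limit H))) :=
    isQuot_of_isColimit b _ (cokernel.condition _) (cokernelIsCokernel _)
  haveI : IsIso q := by
    apply isIso_of_bijective_wc
    intro V hV
    have h1 : Function.Surjective ((GammaV Λ V).map (cokernel.π (gensA b (limit H)))).hom ∧
        LinearMap.ker ((GammaV Λ V).map (cokernel.π (gensA b (limit H)))).hom =
          Ideal.span (Set.range b) •
            (⊤ : Submodule Λ ((GammaV Λ V).obj (limit H))) :=
      sections_of_isQuot b (cokernel.π (gensA b (limit H))) hcq V hV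
    have h2 := sections_limit_π I hI H hH V hV n
    rw [← hb'] at h2
    have hfac : ∀ y, ((GammaV Λ V).map q).hom
        (((GammaV Λ V).map (cokernel.π (gensA b (limit H)))).hom y) =
        ((GammaV Λ V).map (limit.π H (op n))).hom y := by
      intro y
      rw [← ModuleCat.comp_apply, ← Functor.map_comp, cokernel.π_desc]
    constructor
    · intro z z' hzz'
      obtain ⟨y, rfl⟩ := h1.1 z
      obtain ⟨y', rfl⟩ := h1.1 z'
      have h3 : ((GammaV Λ V).map q).hom
          (((GammaV Λ V).map (cokernel.π (gensA b (limit H)))).hom (y - y')) = 0 := by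
        rw [map_sub, map_sub, hzz', sub_self]
      rw [hfac] at h3
      have h4 : y - y' ∈ LinearMap.ker ((GammaV Λ V).map (limit.π H (op n))).hom := h3
      rw [h2.2, ← h1.2] at h4
      have h5 : ((GammaV Λ V).map (cokernel.π (gensA b (limit H)))).hom (y - y') = 0 := h4
      rw [map_sub, sub_eq_zero] at h5
      exact h5
    · intro z
      obtain ⟨y, rfl⟩ := h2.1 z
      exact ⟨_, hfac y⟩
  have : limit.π H (op n) = cokernel.π (gensA b (limit H)) ≫ (asIso q).hom :=
    (cokernel.π_desc _ _ _).symm
  rw [this]
  exact isQuot_comp_iso _ _ (asIso q) hcq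

end adic

end Groth.Agent.Lib.Helper4.DC
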