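import Mathlib
import Groth.Agent.Lib.Helper4.DC14

/-!
# Mittag-Leffler surjectivity for inverse systems of modules (helper4)
-/

set_option linter.style.haveILetI false
set_option linter.unusedSectionVars false
set_option autoImplicit false
open CategoryTheory CategoryTheory.Limits Opposite
universe w

namespace Groth.Agent.Lib.Helper4.DC

section ML

variable {Λ : Type w} [CommRing Λ]

theorem app_trD {D D' : ℕᵒᵖ ⥤ ModuleCat.{w} Λ} (φ : D ⟶ D') {k m : ℕ} (h : k ≤ m)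
    (x : D.obj (op m)) :
    (φ.app (op k)).hom (trD D h x) = trD D' h ((φ.app (op m)).hom x) := by
  have := φ.naturality (homOfLE h).op
  exact congrArg (fun ψ : D.obj (op m) ⟶ D'.obj (op k) => ψ.hom x) this

variable (A B C Y : ℕᵒᵖ ⥤ ModuleCat.{w} Λ) (f : A ⟶ B) (g : B ⟶ C) (v : Y ⟶ A)
  (hg : ∀ k, Function.Surjective (g.app (op k)).hom)
  (hex : ∀ k (x : B.obj (op k)), (g.app (op k)).hom x = 0 → ∃ a, (f.app (op k)).hom a = x)
  (hfg : ∀ k a, (g.app (op k)).hom ((f.app (op k)).hom a) = 0)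
  (hY : ∀ (k m : ℕ) (h : k ≤ m), Function.Surjective (trD Y h))
  (r : ℕ)
  (hr : ∀ k (a : A.obj (op (k + r))),
    ∃ y : Y.obj (op k), (v.app (op k)).hom y = trD A (Nat.le_add_right k r) a)

include hg hex hfg hY hr in
theorem exists_lift_of_ML (z : ∀ k, C.obj (op k))
    (hz : ∀ (k m : ℕ) (h : k ≤ m), trD C h (z m) = z k) :
    ∃ x : ∀ k, B.obj (op k), (∀ k, trD B (Nat.le_succ k) (x (k + 1)) = x k) ∧
      ∀ k, (g.app (op k)).hom (x k) = z k := by
  let E' : ∀ k, B.obj (op k) → Prop := fun k e' =>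
    ∃ (m : ℕ) (h : k + r ≤ m) (e : B.obj (op m)), (g.app (op m)).hom e = z m ∧
      trD B (le_trans (Nat.le_add_right k r) h) e = e'
  have hr' : ∀ (k m : ℕ) (h : k + r ≤ m) (a : A.obj (op m)),
      ∃ y : Y.obj (op k), (v.app (op k)).hom y =
        trD A (le_trans (Nat.le_add_right k r) h) a := by
    intro k m h a
    obtain ⟨y, hy⟩ := hr k (trD A h a)
    refine ⟨y, ?_⟩
    rw [hy, trD_trD]
  have hgE : ∀ k e', E' k e' → (g.app (op k)).hom e' = z k := by
    rintro k e' ⟨m, h, e, he, rfl⟩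
    rw [app_trD, he, hz]
  have step : ∀ k (e' : B.obj (op k)), E' k e' →
      ∃ e'' : B.obj (op (k + 1)), E' (k + 1) e'' ∧ trD B (Nat.le_succ k) e'' = e' := by
    rintro k e' ⟨m, h, e, he, rfl⟩
    have hkm : k ≤ m := le_trans (Nat.le_add_right k r) h
    obtain ⟨e₂, he₂⟩ := hg (m + 1) (z (m + 1))
    have hd : (g.app (op m)).hom (trD B (Nat.le_succ m) e₂ - e) = 0 := by
      rw [map_sub, app_trD, he₂, hz, he, sub_self]
    obtain ⟨a, ha⟩ := hex m _ hd
    obtain ⟨y, hy⟩ := hr' k m h a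
    obtain ⟨y', hy'⟩ := hY k (m + 1) (le_trans hkm (Nat.le_succ m)) y
    let e₃ : B.obj (op (m + 1)) := e₂ - (f.app (op (m + 1))).hom ((v.app (op (m + 1))).hom y')
    have he₃ : (g.app (op (m + 1))).hom e₃ = z (m + 1) := by
      show (g.app (op (m + 1))).hom (e₂ - _) = _
      rw [map_sub, hfg, sub_zero, he₂]
    have htr : trD B (le_trans hkm (Nat.le_succ m)) e₃ = trD B hkm e := by
      show trD B _ (e₂ - _) = _
      rw [map_sub, ← app_trD, ← app_trD, hy', hy, app_trD, ha, ← trD_trD B hkm (Nat.le_succ m),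
        ← map_sub, sub_sub_cancel]
    have hk1 : k + 1 + r ≤ m + 1 := by omega
    refine ⟨trD B (le_trans (Nat.le_add_right (k + 1) r) hk1) e₃,
      ⟨m + 1, hk1, e₃, he₃, rfl⟩, ?_⟩
    rw [trD_trD, ← htr]
  choose! nxt hnxt using step
  obtain ⟨e0, he0⟩ : ∃ e0, E' 0 e0 := by
    obtain ⟨e, he⟩ := hg (0 + r) (z (0 + r))
    exact ⟨_, 0 + r, le_refl _, e, he, rfl⟩
  let x : ∀ k, B.obj (op k) := fun k =>
    Nat.rec (motive := fun k => B.obj (op k)) e0 (fun m xm => nxt m xm) k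
  have hx : ∀ k, E' k (x k) := by
    intro k
    induction k with
    | zero => exact he0
    | succ m ih => exact (hnxt m (x m) ih).1
  exact ⟨x, fun k => (hnxt k (x k) (hx k)).2, fun k => hgE k _ (hx k)⟩

include hg hex hfg hY hr in
theorem surjective_of_ML {cB : Cone B} (hcB : IsLimit cB) {cC : Cone C} (hcC : IsLimit cC)
    (γ : cB.pt ⟶ cC.pt)
    (hγ : ∀ k : ℕ, γ ≫ cC.π.app (op k) = cB.π.app (op k) ≫ g.app (op k)) :
    Function.Surjective γ.hom := by
  intro z₀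
  obtain ⟨x, hx, hgx⟩ := exists_lift_of_ML A B C Y f g v hg hex hfg hY r hr
    (fun k => prD C cC k z₀) (fun k m h => trD_prD C cC h z₀)
  obtain ⟨x₀, hx₀⟩ := exists_of_compat B hcB x hx
  refine ⟨x₀, ?_⟩
  apply ext_of_isLimit C hcC
  intro k
  have := congrArg (fun ψ : cB.pt ⟶ C.obj (op k) => ψ.hom x₀) (hγ k)
  refine this.trans ?_
  show (g.app (op k)).hom (prD B cB k x₀) = _
  rw [hx₀, hgx]

end ML

end Groth.Agent.Lib.Helper4.DC
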