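import Mathlib
import Groth.Agent.Lib.Helper4.DC15
import Groth.Agent.Lib.Helper4.DC18
import Groth.Agent.Lib.Helper4.DC17
import Groth.Agent.Lib.Helper4.MT6

/-!
# `lim ε⁻¹` of a short exact sequence of systems whose kernel is adic up to translation (helper4)
-/

set_option linter.style.haveILetI false
set_option linter.unusedSectionVars false
set_option autoImplicit false
open CategoryTheory CategoryTheory.Limits AlgebraicGeometry Opposite
universe u

namespace Groth.Agent.Lib.Helper4.DC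

open Groth.Agent.Lib.Helper4.MT

variable {Λ : Type (u + 1)} [CommRing Λ] {Z : Scheme.{u}}

/-- A morphism of sheaves of modules which is surjective on sections over weakly contractible
objects is an epimorphism. -/
theorem epi_of_surjective_wc {A B : EtModW.ModP Λ Z} (φ : A ⟶ B)
    (h : ∀ V, ProEtS.IsWC V → Function.Surjective ((GammaV Λ V).map φ).hom) : Epi φ := by
  apply Preadditive.epi_of_isZero_cokernel
  apply isZero_of_sections_wc
  intro V hV
  refine subsingleton_of_forall_eq 0 ?_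
  intro z
  obtain ⟨y, rfl⟩ := surjective_app_of_epi_of_isWC_mod (cokernel.π φ) V hV z
  obtain ⟨x, rfl⟩ := h V hV y
  change ((GammaV Λ V).map (cokernel.π φ)).hom (((GammaV Λ V).map φ).hom x) = 0
  rw [← ModuleCat.comp_apply, ← Functor.map_comp, cokernel.condition, Functor.map_zero]
  rfl

variable [ProEtS.EpsCont Z]

instance preservesFiniteColimits_epsPullMod : PreservesFiniteColimits (EtModW.epsPullMod Λ Z) := by
  haveI : PreservesColimitsOfSize.{0, 0} (EtModW.epsPullMod Λ Z) :=
    (epsAdjMod Λ Z).leftAdjoint_preservesColimits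
  exact PreservesColimitsOfSize.preservesFiniteColimits _

/-- `ε⁻¹` preserves adic systems. -/
theorem isAdic_epsPullMod (I : Ideal Λ) (G : ARSys.PS (EtModW.Mod Λ Z)) (hG : ARSys.IsAdic I G) :
    ARSys.IsAdic I (G ⋙ EtModW.epsPullMod Λ Z) := by
  have hL : ∀ (a : Λ) {A B : EtModW.Mod Λ Z} (ψ : A ⟶ B),
      (EtModW.epsPullMod Λ Z).map (a • ψ) = a • (EtModW.epsPullMod Λ Z).map ψ :=
    fun a _ _ ψ => epsPullMod_map_smul a ψ
  constructor
  · intro k
    exact killedBy_map (EtModW.epsPullMod Λ Z) hL _ (hG.1 k)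
  · intro k m h
    exact isQuot_map_of_adjunction (epsAdjMod Λ Z) hL
      (fun a _ _ ψ => epsPushMod_map_smul a ψ) _ _ (hG.2 k m h)

/-- The system of modules of sections over `V` of the pulled back system. -/
noncomputable abbrev secSys (V : Z.ProEt) (P : ARSys.PS (EtModW.Mod Λ Z)) :
    ℕᵒᵖ ⥤ ModuleCat.{u + 1} Λ :=
  (P ⋙ EtModW.epsPullMod Λ Z) ⋙ GammaV Λ V

/-- The induced morphism of systems of modules of sections. -/
noncomputable abbrev secMapSys (V : Z.ProEt) {P P' : ARSys.PS (EtModW.Mod Λ Z)} (φ : P ⟶ P') :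
    secSys V P ⟶ secSys V P' :=
  Functor.whiskerRight (Functor.whiskerRight φ (EtModW.epsPullMod Λ Z)) (GammaV Λ V)

/-- Termwise exactness of sections over a weakly contractible object. -/
theorem shortExact_sec (V : Z.ProEt) (hV : ProEtS.IsWC V)
    (S : ShortComplex (ARSys.PS (EtModW.Mod Λ Z))) (hS : S.ShortExact) (k : ℕ) :
    (((S.map ((evaluation ℕᵒᵖ (EtModW.Mod Λ Z)).obj (op k))).map
      (EtModW.epsPullMod Λ Z)).map (GammaV Λ V)).ShortExact := by
  haveI := preservesFiniteColimits_GammaV (Λ := Λ) V hV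
  haveI : PreservesFiniteLimits ((evaluation ℕᵒᵖ (EtModW.Mod Λ Z)).obj (op k)) :=
    ⟨fun J _ _ => inferInstance⟩
  haveI : PreservesFiniteColimits ((evaluation ℕᵒᵖ (EtModW.Mod Λ Z)).obj (op k)) :=
    ⟨fun J _ _ => inferInstance⟩
  have h1 := hS.map_of_exact ((evaluation ℕᵒᵖ (EtModW.Mod Λ Z)).obj (op k))
  have h2 := h1.map_of_exact (EtModW.epsPullMod Λ Z)
  exact h2.map_of_exact (GammaV Λ V)

/-- Termwise exactness (only right exactness needed) of sections over a weakly contractible
object, for a cokernel sequence. -/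
theorem exact_sec_cokernel (V : Z.ProEt) (hV : ProEtS.IsWC V)
    {Y A : ARSys.PS (EtModW.Mod Λ Z)} (v : Y ⟶ A) (k : ℕ)
    (a : (secSys V A).obj (op k))
    (ha : ((secMapSys V (cokernel.π v)).app (op k)).hom a = 0) :
    ∃ y : (secSys V Y).obj (op k), ((secMapSys V v).app (op k)).hom y = a := by
  haveI := preservesFiniteColimits_GammaV (Λ := Λ) V hV
  haveI : PreservesFiniteLimits ((evaluation ℕᵒᵖ (EtModW.Mod Λ Z)).obj (op k)) :=
    ⟨fun J _ _ => inferInstance⟩
  haveI : PreservesFiniteColimits ((evaluation ℕᵒᵖ (EtModW.Mod Λ Z)).obj (op k)) :=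
    ⟨fun J _ _ => inferInstance⟩
  let S₀ : ShortComplex (ARSys.PS (EtModW.Mod Λ Z)) :=
    ShortComplex.mk v (cokernel.π v) (cokernel.condition v)
  have h0 : S₀.Exact := ShortComplex.exact_cokernel v
  have h1 : (S₀.map ((evaluation ℕᵒᵖ (EtModW.Mod Λ Z)).obj (op k))).Exact := h0.map _
  have h2 := h1.map (EtModW.epsPullMod Λ Z)
  have h3 := h2.map (GammaV Λ V)
  rw [ShortComplex.moduleCat_exact_iff] at h3
  exact h3 a ha

include Λ in
theorem epi_limMap_of_ARAdic (I : Ideal Λ) (hI : I.FG)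
    (S : ShortComplex (ARSys.PS (EtModW.Mod Λ Z))) (hS : S.ShortExact)
    (Y : ARSys.PS (EtModW.Mod Λ Z)) (v : Y ⟶ S.X₁) (hY : ARSys.IsAdic I Y)
    (hv : ARSys.IsARNull (cokernel v)) :
    Epi (limMap (Functor.whiskerRight S.g (EtModW.epsPullMod Λ Z))) := by
  apply epi_of_surjective_wc
  intro V hV
  obtain ⟨r, hr⟩ := hv
  haveI : PreservesLimitsOfSize.{0, 0} (GammaV Λ V) :=
    preservesLimitsOfSize_shrink.{0, u + 1, 0, u + 1} _
  have hcB : IsLimit ((GammaV Λ V).mapCone (limit.cone (S.X₂ ⋙ EtModW.epsPullMod Λ Z))) :=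
    isLimitOfPreserves (GammaV Λ V) (limit.isLimit _)
  have hcC : IsLimit ((GammaV Λ V).mapCone (limit.cone (S.X₃ ⋙ EtModW.epsPullMod Λ Z))) :=
    isLimitOfPreserves (GammaV Λ V) (limit.isLimit _)
  refine surjective_of_ML (secSys V S.X₁) (secSys V S.X₂) (secSys V S.X₃) (secSys V Y)
    (secMapSys V S.f) (secMapSys V S.g) (secMapSys V v) ?_ ?_ ?_ ?_ r ?_ hcB hcC
    ((GammaV Λ V).map (limMap (Functor.whiskerRight S.g (EtModW.epsPullMod Λ Z)))) ?_
  · intro k
    exact (shortExact_sec V hV S hS k).moduleCat_surjective_g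
  · intro k x hx
    have := (shortExact_sec V hV S hS k).exact
    rw [ShortComplex.moduleCat_exact_iff] at this
    exact this x hx
  · intro k a
    exact ShortComplex.moduleCat_zero_apply
      (((S.map ((evaluation ℕᵒᵖ (EtModW.Mod Λ Z)).obj (op k))).map
        (EtModW.epsPullMod Λ Z)).map (GammaV Λ V)) a
  · intro k m h
    exact (sections_adic I hI (Y ⋙ EtModW.epsPullMod Λ Z) (isAdic_epsPullMod I Y hY) V hV k m h).1
  · intro k a
    apply exact_sec_cokernel V hV v k
    rw [app_trD]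
    have h0 : (cokernel v).map (homOfLE (Nat.le_add_right k r)).op = 0 := hr k
    have h1 : (secSys V (cokernel v)).map (homOfLE (Nat.le_add_right k r)).op = 0 := by
      show (GammaV Λ V).map ((EtModW.epsPullMod Λ Z).map
        ((cokernel v).map (homOfLE (Nat.le_add_right k r)).op)) = 0
      rw [h0, Functor.map_zero, Functor.map_zero]
    show ((secSys V (cokernel v)).map (homOfLE (Nat.le_add_right k r)).op).hom _ = 0
    rw [h1]
    rfl
  · intro k
    show (GammaV Λ V).map _ ≫ (GammaV Λ V).map _ = (GammaV Λ V).map _ ≫ (GammaV Λ V).map _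
    rw [← Functor.map_comp, ← Functor.map_comp]
    congr 1
    exact limMap_π _ _

end Groth.Agent.Lib.Helper4.DC
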