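import Mathlib

/-!
# The resolution `0 → Λ[X] → Λ[X] → Λ_f → 0` (helper4)
-/

set_option linter.style.haveILetI false
set_option linter.unusedSectionVars false
set_option autoImplicit false
open CategoryTheory CategoryTheory.Limits Opposite Polynomial
universe v

namespace Groth.Agent.Lib.Helper4.DC

variable (Λ : Type v) [CommRing Λ] (f : Λ)

/-- The polynomial `f X - 1`. -/
noncomputable abbrev gpoly : Λ[X] := C f * X - 1

theorem isUnit_coe_gpoly : IsUnit ((gpoly Λ f : Λ[X]) : PowerSeries Λ) := by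
  rw [PowerSeries.isUnit_iff_constantCoeff]
  simp [gpoly]

theorem mulLeft_gpoly_injective : Function.Injective (LinearMap.mulLeft Λ (gpoly Λ f)) := by
  intro p q h
  have h' : gpoly Λ f * p = gpoly Λ f * q := h
  apply Polynomial.coe_injective
  have h2 := congrArg (fun r : Λ[X] => (r : PowerSeries Λ)) h'
  simp only [Polynomial.coe_mul] at h2
  exact (isUnit_coe_gpoly Λ f).mul_left_cancel h2

/-- The quotient map `Λ[X] → Λ_f`, `X ↦ 1/f`. -/
noncomputable def qLin : Λ[X] →ₗ[Λ] Localization.Away f :=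
  (Localization.awayEquivAdjoin f).symm.toLinearMap ∘ₗ (AdjoinRoot.mkₐ (gpoly Λ f)).toLinearMap

theorem qLin_surjective : Function.Surjective (qLin Λ f) := by
  intro y
  obtain ⟨p, hp⟩ := AdjoinRoot.mk_surjective (g := gpoly Λ f) (Localization.awayEquivAdjoin f y)
  refine ⟨p, ?_⟩
  change (Localization.awayEquivAdjoin f).symm (AdjoinRoot.mk (gpoly Λ f) p) = y
  rw [hp]
  exact (Localization.awayEquivAdjoin f).symm_apply_apply y

theorem qLin_eq_zero_iff (p : Λ[X]) : qLin Λ f p = 0 ↔ ∃ r, gpoly Λ f * r = p := by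
  change (Localization.awayEquivAdjoin f).symm (AdjoinRoot.mk (gpoly Λ f) p) = 0 ↔ _
  rw [EmbeddingLike.map_eq_zero_iff, AdjoinRoot.mk_eq_zero]
  constructor
  · rintro ⟨r, hr⟩
    exact ⟨r, hr.symm⟩
  · rintro ⟨r, hr⟩
    exact ⟨r, hr.symm⟩

/-- The free module `Λ[X]` as an object of `ModuleCat`. -/
noncomputable abbrev NN : ModuleCat.{v} Λ := ModuleCat.of Λ Λ[X]

/-- Multiplication by `f X - 1`. -/
noncomputable def mMap : NN Λ ⟶ NN Λ := ModuleCat.ofHom (LinearMap.mulLeft Λ (gpoly Λ f))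

/-- The localization as an object of `ModuleCat`. -/
noncomputable abbrev LocM : ModuleCat.{v} Λ := ModuleCat.of Λ (Localization.Away f)

noncomputable def qMap : NN Λ ⟶ LocM Λ f := ModuleCat.ofHom (qLin Λ f)

theorem mMap_qMap : mMap Λ f ≫ qMap Λ f = 0 := by
  apply ModuleCat.hom_ext
  apply LinearMap.ext
  intro p
  change qLin Λ f (gpoly Λ f * p) = 0
  rw [qLin_eq_zero_iff]
  exact ⟨p, rfl⟩

/-- The short complex `Λ[X] → Λ[X] → Λ_f`. -/
noncomputable def resSC : ShortComplex (ModuleCat.{v} Λ) :=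
  ShortComplex.mk (mMap Λ f) (qMap Λ f) (mMap_qMap Λ f)

theorem resSC_shortExact : (resSC Λ f).ShortExact := by
  haveI : Mono (resSC Λ f).f := by
    rw [ModuleCat.mono_iff_injective]
    exact mulLeft_gpoly_injective Λ f
  haveI : Epi (resSC Λ f).g := by
    rw [ModuleCat.epi_iff_surjective]
    exact qLin_surjective Λ f
  refine ShortComplex.ShortExact.mk ?_
  rw [ShortComplex.moduleCat_exact_iff]
  intro x hx
  obtain ⟨r, hr⟩ := (qLin_eq_zero_iff Λ f x).1 hx
  exact ⟨r, hr⟩

instance : Projective (NN Λ) := ModuleCat.projective_of_free (Module.Free.chooseBasis Λ Λ[X])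

end Groth.Agent.Lib.Helper4.DC
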