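import Groth.Prelude.Def_ProEtDC
import Groth.Agent.Lib.Helper4.PEPush1
import Groth.Agent.Lib.Helper4.DC1
import Groth.Agent.Lib.Helper4.DC2

/-!
# Sheaves of modules on the pro-étale site: sections functors and their left adjoints (helper4)
-/

set_option linter.style.haveILetI false
set_option linter.unusedSectionVars false
set_option autoImplicit false
open CategoryTheory CategoryTheory.Limits AlgebraicGeometry Opposite
universe u

namespace Groth.Agent.Lib.Helper4.DC

variable (Λ : Type (u + 1)) [CommRing Λ] {X : Scheme.{u}}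

/-- Sections of a sheaf of modules over `V`. -/
noncomputable abbrev GammaV (V : X.ProEt) : EtModW.ModP Λ X ⥤ ModuleCat.{u + 1} Λ :=
  sheafToPresheaf (Scheme.ProEt.topology X) (ModuleCat.{u + 1} Λ) ⋙ (evaluation _ _).obj (op V)

/-- The left adjoint of the sections functor (`M ↦ j_{V!} M_V`). -/
noncomputable abbrev LV (V : X.ProEt) : ModuleCat.{u + 1} Λ ⥤ EtModW.ModP Λ X :=
  evaluationLeftAdjoint (ModuleCat.{u + 1} Λ) (op V) ⋙
    presheafToSheaf (Scheme.ProEt.topology X) (ModuleCat.{u + 1} Λ)

/-- The adjunction `LV ⊣ GammaV`. -/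
noncomputable def adjLV (V : X.ProEt) : LV Λ V ⊣ GammaV Λ V :=
  (evaluationAdjunctionRight (ModuleCat.{u + 1} Λ) (op V)).comp
    (sheafificationAdjunction (Scheme.ProEt.topology X) (ModuleCat.{u + 1} Λ))

variable {Λ}

/-- An epimorphism of sheaves of modules is surjective on sections over weakly contractible
objects. -/
theorem surjective_app_of_epi_of_isWC_mod {F G : EtModW.ModP Λ X} (φ : F ⟶ G) [Epi φ]
    (W : X.ProEt) (hW : ProEtS.IsWC W) : Function.Surjective (φ.hom.app (op W)) := by
  haveI hls : Sheaf.IsLocallySurjective φ :=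
    (Sheaf.isLocallySurjective_iff_epi' (A := ModuleCat.{u + 1} Λ) φ).mpr inferInstance
  haveI : Sheaf.IsLocallySurjective
      ((sheafCompose (Scheme.ProEt.topology X) (forget (ModuleCat.{u + 1} Λ))).map φ) :=
    inferInstance
  have hepi : Epi ((sheafCompose (Scheme.ProEt.topology X)
      (forget (ModuleCat.{u + 1} Λ))).map φ) := inferInstance
  exact hW _ _ _ hepi

variable (Λ)

instance (V : X.ProEt) : (GammaV Λ V).Additive where

instance (V : X.ProEt) : PreservesLimits (GammaV Λ V) :=
  (adjLV Λ V).rightAdjoint_preservesLimits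

instance (V : X.ProEt) : PreservesColimits (LV Λ V) :=
  (adjLV Λ V).leftAdjoint_preservesColimits

instance (V : X.ProEt) : (LV Λ V).Additive := (adjLV Λ V).left_adjoint_additive

theorem epi_GammaV_map (V : X.ProEt) (hV : ProEtS.IsWC V) {F G : EtModW.ModP Λ X} (φ : F ⟶ G)
    (hφ : Epi φ) : Epi ((GammaV Λ V).map φ) := by
  rw [ModuleCat.epi_iff_surjective]
  exact surjective_app_of_epi_of_isWC_mod φ V hV

theorem preservesFiniteColimits_GammaV (V : X.ProEt) (hV : ProEtS.IsWC V) :
    PreservesFiniteColimits (GammaV Λ V) :=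
  Groth.Agent.Lib.Helper4.PEPush.preservesFiniteColimits_of_epi _
    (fun g hg => epi_GammaV_map Λ V hV g hg)

theorem preservesEpimorphisms_GammaV (V : X.ProEt) (hV : ProEtS.IsWC V) :
    (GammaV Λ V).PreservesEpimorphisms :=
  ⟨fun f hf => epi_GammaV_map Λ V hV f hf⟩

/-- `LV` preserves projectives when `V` is weakly contractible. -/
theorem projective_LV (V : X.ProEt) (hV : ProEtS.IsWC V) (P : ModuleCat.{u + 1} Λ)
    [Projective P] : Projective ((LV Λ V).obj P) := by
  haveI := preservesEpimorphisms_GammaV Λ V hV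
  exact (adjLV Λ V).map_projective P inferInstance

end Groth.Agent.Lib.Helper4.DC

namespace Groth.Agent.Lib.Helper4.DC

variable (Λ : Type (u + 1)) [CommRing Λ] {X : Scheme.{u}}

theorem mono_sigmaMap_moduleCat {J : Type u} (M N : J → ModuleCat.{u + 1} Λ)
    (f : ∀ j, M j ⟶ N j) [∀ j, Mono (f j)] : Mono (Limits.Sigma.map f) := by
  haveI : HasExactColimitsOfShape (Discrete J) (ModuleCat.{u + 1} Λ) :=
    HasExactColimitsOfShape.of_domain_equivalence _
      (Discrete.equivalence Equiv.ulift : Discrete (ULift.{u + 1} J) ≌ _)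
  haveI : Mono (Discrete.natTrans (F := Discrete.functor M) (G := Discrete.functor N)
      (fun j => f j.as)) := by
    haveI : ∀ j, Mono ((Discrete.natTrans (F := Discrete.functor M) (G := Discrete.functor N)
      (fun j => f j.as)).app j) := fun j => inferInstanceAs (Mono (f j.as))
    exact NatTrans.mono_of_mono_app _
  exact inferInstanceAs (Mono (colim.map (Discrete.natTrans (F := Discrete.functor M)
    (G := Discrete.functor N) (fun j => f j.as))))

instance preservesMonomorphisms_LV (V : X.ProEt) : (LV Λ V).PreservesMonomorphisms := by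
  constructor
  intro M N f hf
  haveI : Mono ((evaluationLeftAdjoint (ModuleCat.{u + 1} Λ) (op V)).map f) := by
    haveI : ∀ t, Mono (((evaluationLeftAdjoint (ModuleCat.{u + 1} Λ) (op V)).map f).app t) := by
      intro t
      have h := mono_sigmaMap_moduleCat Λ (fun _ : (op V ⟶ t) => M) (fun _ => N) (fun _ => f)
      have e : ((evaluationLeftAdjoint (ModuleCat.{u + 1} Λ) (op V)).map f).app t =
          Limits.Sigma.map (fun _ : (op V ⟶ t) => f) := by
        change (Limits.Sigma.desc fun h => f ≫ Sigma.ι (fun _ => N) h) = _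
        apply Limits.Sigma.hom_ext
        intro h
        rw [Limits.Sigma.ι_map, Limits.Sigma.ι_desc]
      rw [e]
      exact h
    exact NatTrans.mono_of_mono_app _
  exact inferInstanceAs (Mono ((presheafToSheaf (Scheme.ProEt.topology X)
    (ModuleCat.{u + 1} Λ)).map ((evaluationLeftAdjoint (ModuleCat.{u + 1} Λ) (op V)).map f)))

instance preservesFiniteColimits_LV (V : X.ProEt) : PreservesFiniteColimits (LV Λ V) :=
  inferInstance

instance preservesHomology_LV (V : X.ProEt) : (LV Λ V).PreservesHomology :=
  Functor.preservesHomology_of_preservesMonos_and_cokernels _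

instance preservesFiniteLimits_LV (V : X.ProEt) : PreservesFiniteLimits (LV Λ V) :=
  Functor.preservesFiniteLimits_of_preservesHomology _

end Groth.Agent.Lib.Helper4.DC
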