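import Groth.Agent.Lib.Helper4.DC3

/-!
# `j_{U!} M_U` as the left adjoint of sections (helper4)
-/

set_option linter.style.haveILetI false
set_option linter.unusedSectionVars false
set_option autoImplicit false
open CategoryTheory CategoryTheory.Limits AlgebraicGeometry Opposite
universe u

namespace Groth.Agent.Lib.Helper4.DC

variable (Λ : Type (u + 1)) [CommRing Λ] {X : Scheme.{u}}

/-- The right adjoint of `M ↦ j_{U!} M_U` is the sections functor. -/
noncomputable def rightAdjIso (U : X.ProEt) :
    (Over.forget U).sheafPushforwardContinuous (ModuleCat.{u + 1} Λ)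
        ((Scheme.ProEt.topology X).over U) (Scheme.ProEt.topology X) ⋙
      (sheafSections ((Scheme.ProEt.topology X).over U) (ModuleCat.{u + 1} Λ)).obj
        (op (Over.mk (𝟙 U))) ≅ GammaV Λ U :=
  NatIso.ofComponents (fun F => Iso.refl _) (by
    intro F G φ
    simp only [Iso.refl_hom, Category.comp_id, Category.id_comp]
    rfl)

/-- `M ↦ j_{U!} M_U` is isomorphic to `LV U`. -/
noncomputable def extConstIso (U : X.ProEt) :
    constantSheaf ((Scheme.ProEt.topology X).over U) (ModuleCat.{u + 1} Λ) ⋙
      ProEtDC.extZeroModP Λ U ≅ LV Λ U :=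
  (((constantSheafAdj ((Scheme.ProEt.topology X).over U) (ModuleCat.{u + 1} Λ)
      (Over.mkIdTerminal (X := U))).comp
    ((Over.forget U).sheafAdjunctionContinuous (ModuleCat.{u + 1} Λ)
      ((Scheme.ProEt.topology X).over U) (Scheme.ProEt.topology X))).ofNatIsoRight
      (rightAdjIso Λ U)).leftAdjointUniq (adjLV Λ U)

/-- `j_{U!} Λ_f ≅ LV U (Λ_f)`. -/
noncomputable def locExtIso (U : X.ProEt) (f : Λ) :
    ProEtDC.locExt Λ U f ≅ (LV Λ U).obj (LocM Λ f) :=
  (extConstIso Λ U).app (ModuleCat.of Λ (Localization.Away f))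

end Groth.Agent.Lib.Helper4.DC
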