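import Mathlib

/-!
# `Ext` out of a coproduct vanishes if it does so termwise (helper4)
-/

set_option linter.style.haveILetI false
set_option linter.unusedSectionVars false
set_option autoImplicit false
open CategoryTheory CategoryTheory.Limits Opposite
universe w v u t

namespace Groth.Agent.Lib.Helper4.DC

open Abelian

variable {C : Type u} [Category.{v} C] [Abelian C] [HasExt.{w} C] [EnoughInjectives C]

theorem subsingleton_ext_sigma {ι : Type t} (P : ι → C) [HasCoproduct P] :
    ∀ (n : ℕ) (F : C), (∀ i, Subsingleton (Ext.{w} (P i) F n)) →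
      Subsingleton (Ext.{w} (∐ P) F n) := by
  intro n
  induction n using Nat.twoStepInduction with
  | zero =>
    intro F h
    refine subsingleton_of_forall_eq 0 ?_
    intro x
    obtain ⟨ψ, rfl⟩ := (Ext.mk₀_bijective (∐ P) F).2 x
    have : ψ = 0 := by
      apply Limits.Sigma.hom_ext
      intro i
      rw [comp_zero]
      have := (h i).elim (Ext.mk₀ (Sigma.ι P i ≫ ψ)) (Ext.mk₀ 0)
      exact (Ext.mk₀_bijective (P i) F).1 this
    rw [this, Ext.mk₀_zero]
  | one =>
    intro F h
    let S : ShortComplex C := ShortComplex.mk (Injective.ι F) (cokernel.π (Injective.ι F))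
      (cokernel.condition _)
    have hS : S.ShortExact :=
      { exact := ShortComplex.exact_of_g_is_cokernel _ (cokernelIsCokernel _)
        mono_f := inferInstanceAs (Mono (Injective.ι F))
        epi_g := inferInstanceAs (Epi (cokernel.π (Injective.ι F))) }
    haveI : Injective S.X₂ := inferInstanceAs (Injective (Injective.under F))
    refine subsingleton_of_forall_eq 0 ?_
    intro x
    have hx : x.comp (Ext.mk₀ S.f) (add_zero 1) = 0 := Ext.eq_zero_of_injective _
    obtain ⟨x₃, hx₃⟩ := Ext.covariant_sequence_exact₁ (∐ P) hS x hx (show 0 + 1 = 1 by rfl)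
    obtain ⟨ψ, rfl⟩ := (Ext.mk₀_bijective (∐ P) S.X₃).2 x₃
    -- lift each component
    have hl : ∀ i, ∃ l : P i ⟶ S.X₂, l ≫ S.g = Sigma.ι P i ≫ ψ := by
      intro i
      have h0 : (Ext.mk₀ (Sigma.ι P i ≫ ψ)).comp hS.extClass (show 0 + 1 = 1 by rfl) = 0 :=
        (h i).elim _ _
      obtain ⟨x₂, hx₂⟩ := Ext.covariant_sequence_exact₃ (P i) hS _ rfl h0
      obtain ⟨l, rfl⟩ := (Ext.mk₀_bijective (P i) S.X₂).2 x₂
      rw [Ext.mk₀_comp_mk₀] at hx₂
      exact ⟨l, (Ext.mk₀_bijective (P i) S.X₃).1 hx₂⟩
    choose l hl using hl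
    have hψ : ψ = Limits.Sigma.desc l ≫ S.g := by
      apply Limits.Sigma.hom_ext
      intro i
      rw [Limits.Sigma.ι_desc_assoc, hl]
    rw [← hx₃, hψ, ← Ext.mk₀_comp_mk₀,
      Ext.comp_assoc (Ext.mk₀ (Limits.Sigma.desc l)) (Ext.mk₀ S.g) hS.extClass (zero_add 0)
        (zero_add 1) (by rfl), hS.comp_extClass, Ext.comp_zero]
  | more n _ ih =>
    intro F h
    let S : ShortComplex C := ShortComplex.mk (Injective.ι F) (cokernel.π (Injective.ι F))
      (cokernel.condition _)
    have hS : S.ShortExact :=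
      { exact := ShortComplex.exact_of_g_is_cokernel _ (cokernelIsCokernel _)
        mono_f := inferInstanceAs (Mono (Injective.ι F))
        epi_g := inferInstanceAs (Epi (cokernel.π (Injective.ι F))) }
    haveI : Injective S.X₂ := inferInstanceAs (Injective (Injective.under F))
    have h3 : ∀ i, Subsingleton (Ext.{w} (P i) S.X₃ (n + 1)) := by
      intro i
      refine subsingleton_of_forall_eq 0 ?_
      intro y
      have h0 : y.comp hS.extClass (show n + 1 + 1 = n + 2 by rfl) = 0 := (h i).elim _ _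
      obtain ⟨y₂, hy₂⟩ := Ext.covariant_sequence_exact₃ (P i) hS y rfl h0
      have : y₂ = 0 := Ext.eq_zero_of_injective _
      rw [← hy₂, this, Ext.zero_comp]
    have h3' := ih S.X₃ h3
    refine subsingleton_of_forall_eq 0 ?_
    intro x
    have hx : x.comp (Ext.mk₀ S.f) (add_zero (n + 2)) = 0 := Ext.eq_zero_of_injective _
    obtain ⟨x₃, hx₃⟩ := Ext.covariant_sequence_exact₁ (∐ P) hS x hx
      (show n + 1 + 1 = n + 2 by rfl)
    have : x₃ = 0 := h3'.elim _ _
    rw [← hx₃, this, Ext.zero_comp]

end Groth.Agent.Lib.Helper4.DC
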