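import Groth.Agent.Lib.Helper4.DC4
import Groth.Agent.Lib.Helper4.DC5

/-!
# Derived completeness of sheaves of modules is detected on weakly contractible objects (helper4)
-/

set_option linter.style.haveILetI false
set_option linter.unusedSectionVars false
set_option autoImplicit false
open CategoryTheory CategoryTheory.Limits AlgebraicGeometry Opposite
universe u

namespace Groth.Agent.Lib.Helper4.DC

variable (Λ : Type (u + 1)) [CommRing Λ] {X : Scheme.{u}}

/-- Sectionwise derived completeness: precomposition with `f X - 1` is bijective on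
`Hom_Λ(Λ[X], F(V))`. -/
def DCsec (f : Λ) (V : X.ProEt) (F : EtModW.ModP Λ X) : Prop :=
  Function.Bijective (fun φ : NN Λ ⟶ (GammaV Λ V).obj F => mMap Λ f ≫ φ)

theorem ext_LV_iff (f : Λ) (V : X.ProEt) (hV : ProEtS.IsWC V) (F : EtModW.ModP Λ X) :
    (∀ n, Subsingleton (Abelian.Ext.{u + 1} ((LV Λ V).obj (LocM Λ f)) F n)) ↔
      DCsec Λ f V F := by
  haveI hP := projective_LV Λ V hV (NN Λ)
  have hS : ((resSC Λ f).map (LV Λ V)).ShortExact :=
    (resSC_shortExact Λ f).map_of_exact (LV Λ V)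
  haveI : Projective ((resSC Λ f).map (LV Λ V)).X₁ := hP
  haveI : Projective ((resSC Λ f).map (LV Λ V)).X₂ := hP
  have h1 := ext_subsingleton_iff_bijective.{u + 1} _ hS F
  refine Iff.trans h1 ?_
  let e := (adjLV Λ V).homEquiv (NN Λ) F
  have key : ∀ φ : (LV Λ V).obj (NN Λ) ⟶ F,
      e ((LV Λ V).map (mMap Λ f) ≫ φ) = mMap Λ f ≫ e φ :=
    fun φ => (adjLV Λ V).homEquiv_naturality_left _ _
  constructor
  · intro h
    have : (fun ψ : NN Λ ⟶ (GammaV Λ V).obj F => mMap Λ f ≫ ψ) =
        e ∘ (fun φ : (LV Λ V).obj (NN Λ) ⟶ F => (LV Λ V).map (mMap Λ f) ≫ φ) ∘ e.symm := by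
      funext ψ
      simp only [Function.comp_apply]
      rw [key, Equiv.apply_symm_apply]
    rw [DCsec, this]
    exact e.bijective.comp (h.comp e.symm.bijective)
  · intro h
    have : (fun φ : (LV Λ V).obj (NN Λ) ⟶ F => (LV Λ V).map (mMap Λ f) ≫ φ) =
        e.symm ∘ (fun ψ : NN Λ ⟶ (GammaV Λ V).obj F => mMap Λ f ≫ ψ) ∘ e := by
      funext φ
      simp only [Function.comp_apply]
      rw [← key, Equiv.symm_apply_apply]
    change Function.Bijective
      (fun φ : (LV Λ V).obj (NN Λ) ⟶ F => (LV Λ V).map (mMap Λ f) ≫ φ)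
    rw [this]
    exact e.symm.bijective.comp (h.comp e.bijective)

theorem GammaV_map_smul (V : X.ProEt) (a : Λ) {F G : EtModW.ModP Λ X} (ψ : F ⟶ G) :
    (GammaV Λ V).map (a • ψ) = a • (GammaV Λ V).map ψ := rfl

theorem LV_map_smul (V : X.ProEt) (a : Λ) {M N : ModuleCat.{u + 1} Λ} (φ : M ⟶ N) :
    (LV Λ V).map (a • φ) = a • (LV Λ V).map φ := by
  apply ((adjLV Λ V).homEquiv _ _).injective
  rw [Adjunction.homEquiv_unit, Adjunction.homEquiv_unit, GammaV_map_smul, Linear.comp_smul]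
  have h1 : (a • φ) ≫ (adjLV Λ V).unit.app N =
      (adjLV Λ V).unit.app M ≫ (GammaV Λ V).map ((LV Λ V).map (a • φ)) :=
    (adjLV Λ V).unit.naturality (a • φ)
  have h2 : φ ≫ (adjLV Λ V).unit.app N =
      (adjLV Λ V).unit.app M ≫ (GammaV Λ V).map ((LV Λ V).map φ) :=
    (adjLV Λ V).unit.naturality φ
  rw [← h1, ← h2, Linear.smul_comp]

/-- The class of sheaves of modules on which `f` acts invertibly. -/
def fInv (f : Λ) (M : EtModW.ModP Λ X) : Prop := IsIso (f • 𝟙 M)

theorem isIso_smul_LocM (f : Λ) : IsIso (f • 𝟙 (LocM Λ f)) := by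
  refine ⟨ModuleCat.ofHom (LinearMap.mulLeft Λ (IsLocalization.Away.invSelf (S := Localization.Away f) f)), ?_, ?_⟩
  · apply ModuleCat.hom_ext
    apply LinearMap.ext
    intro x
    change IsLocalization.Away.invSelf f * (f • x) = x
    rw [Algebra.smul_def, ← mul_assoc, mul_comm (IsLocalization.Away.invSelf f),
      IsLocalization.Away.mul_invSelf, one_mul]
  · apply ModuleCat.hom_ext
    apply LinearMap.ext
    intro x
    change f • (IsLocalization.Away.invSelf f * x) = x
    rw [Algebra.smul_def, ← mul_assoc, IsLocalization.Away.mul_invSelf, one_mul]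

theorem fInv_LV_LocM (f : Λ) (U : X.ProEt) : fInv Λ f ((LV Λ U).obj (LocM Λ f)) := by
  haveI := isIso_smul_LocM Λ f
  have : f • 𝟙 ((LV Λ U).obj (LocM Λ f)) = (LV Λ U).map (f • 𝟙 (LocM Λ f)) := by
    rw [LV_map_smul, CategoryTheory.Functor.map_id]
  rw [fInv, this]
  infer_instance

end Groth.Agent.Lib.Helper4.DC
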