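import Groth.Agent.Lib.Helper4.DC6

/-!
# Generation by `j_{V!} Λ_f` with `V` weakly contractible, and the main criterion (helper4)
-/

set_option linter.style.haveILetI false
set_option linter.unusedSectionVars false
set_option autoImplicit false
open CategoryTheory CategoryTheory.Limits AlgebraicGeometry Opposite
universe u

namespace Groth.Agent.Lib.Helper4.DC

open Groth.Agent.Lib.Helper4.PE

variable {Λ : Type (u + 1)} [CommRing Λ] {X : Scheme.{u}}

section gen

variable (f : Λ) (M : EtModW.ModP Λ X) (hM : fInv Λ f M)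

include hM in
theorem isUnit_smul_sections (V : X.ProEt) (x : Submonoid.powers f) :
    IsUnit ((algebraMap Λ (Module.End Λ ((GammaV Λ V).obj M))) x) := by
  obtain ⟨y, ⟨k, rfl⟩⟩ := x
  simp only [map_pow]
  apply IsUnit.pow
  rw [Module.End.isUnit_iff]
  haveI : IsIso (f • 𝟙 M) := hM
  haveI : IsIso ((GammaV Λ V).map (f • 𝟙 M)) := inferInstance
  have hb := ConcreteCategory.bijective_of_isIso ((GammaV Λ V).map (f • 𝟙 M))
  exact hb

/-- The map `Λ_f → M(V)` sending `1` to a given section. -/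
noncomputable def liftSec (V : X.ProEt) (x : (GammaV Λ V).obj M) :
    LocM Λ f ⟶ (GammaV Λ V).obj M :=
  ModuleCat.ofHom (IsLocalizedModule.lift (Submonoid.powers f)
    (Algebra.linearMap Λ (Localization.Away f))
    (LinearMap.toSpanSingleton Λ ((GammaV Λ V).obj M) x) (isUnit_smul_sections f M hM V))

theorem liftSec_one (V : X.ProEt) (x : (GammaV Λ V).obj M) :
    (liftSec f M hM V x).hom (1 : Localization.Away f) = x := by
  have := IsLocalizedModule.lift_apply (Submonoid.powers f)
    (Algebra.linearMap Λ (Localization.Away f))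
    (LinearMap.toSpanSingleton Λ ((GammaV Λ V).obj M) x) (isUnit_smul_sections f M hM V) 1
  simp only [Algebra.linearMap_apply, map_one, LinearMap.toSpanSingleton_apply, one_smul] at this
  exact this

/-- The map `j_{V!} Λ_f → M` corresponding to a section. -/
noncomputable def secMap (V : X.ProEt) (x : (GammaV Λ V).obj M) :
    (LV Λ V).obj (LocM Λ f) ⟶ M :=
  ((adjLV Λ V).homEquiv _ _).symm (liftSec f M hM V x)

theorem secMap_spec (V : X.ProEt) (x : (GammaV Λ V).obj M) :
    (adjLV Λ V).unit.app (LocM Λ f) ≫ (GammaV Λ V).map (secMap f M hM V x) =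
      liftSec f M hM V x := by
  have h := (adjLV Λ V).homEquiv_unit (f := secMap f M hM V x)
  exact h.symm.trans (Equiv.apply_symm_apply _ _)

/-- Index type: weakly contractible objects with a section. -/
abbrev Idx : Type (u + 1) := Σ V : {V : X.ProEt // ProEtS.IsWC V}, ((GammaV Λ V.1).obj M)

/-- The generating coproduct. -/
noncomputable abbrev genP : EtModW.ModP Λ X :=
  ∐ fun i : Idx M => (LV Λ i.1.1).obj (LocM Λ f)

/-- The canonical map from the generating coproduct. -/
noncomputable def genπ : genP f M ⟶ M :=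
  Limits.Sigma.desc fun i : Idx M => secMap f M hM i.1.1 i.2

theorem epi_genπ : Epi (genπ f M hM) := by
  rw [← Sheaf.isLocallySurjective_iff_epi' (A := ModuleCat.{u + 1} Λ)]
  constructor
  intro U s
  obtain ⟨ι, V, g, hcov, hV⟩ := exists_wc_cover U
  refine (Scheme.ProEt.topology X).superset_covering ?_ hcov
  rintro Y _ ⟨W, a, b, ⟨i⟩, rfl⟩
  apply Sieve.downward_closed
  haveI := (hV i).1
  have hwc : ProEtS.IsWC (V i) := isWC_of_isWContractible (V i) (hV i).2
  let x : (GammaV Λ (V i)).obj M := M.obj.map (g i).op s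
  let idx : Idx M := ⟨⟨V i, hwc⟩, x⟩
  let t₀ : (GammaV Λ (V i)).obj ((LV Λ (V i)).obj (LocM Λ f)) :=
    ((adjLV Λ (V i)).unit.app (LocM Λ f)).hom (1 : Localization.Away f)
  refine ⟨((GammaV Λ (V i)).map (Sigma.ι (fun i : Idx M => (LV Λ i.1.1).obj (LocM Λ f)) idx)).hom t₀,
    ?_⟩
  have h1 : Sigma.ι (fun i : Idx M => (LV Λ i.1.1).obj (LocM Λ f)) idx ≫ genπ f M hM =
      secMap f M hM (V i) x := by
    rw [genπ, Limits.Sigma.ι_desc]
  have h2 := secMap_spec f M hM (V i) x
  have h3 : ((GammaV Λ (V i)).map (genπ f M hM)).hom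
      (((GammaV Λ (V i)).map (Sigma.ι (fun i : Idx M => (LV Λ i.1.1).obj (LocM Λ f)) idx)).hom t₀)
      = x := by
    rw [← ModuleCat.comp_apply, ← Functor.map_comp, h1]
    change ((adjLV Λ (V i)).unit.app (LocM Λ f) ≫ (GammaV Λ (V i)).map (secMap f M hM (V i) x)).hom
      (1 : Localization.Away f) = x
    rw [h2, liftSec_one]
  exact h3

end gen

/-- Scalar multiplication as a natural endomorphism of the identity functor. -/
noncomputable def smulNat (f : Λ) : 𝟭 (EtModW.ModP Λ X) ⟶ 𝟭 (EtModW.ModP Λ X) where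
  app M := f • 𝟙 M
  naturality M N φ := by
    simp only [Functor.id_obj, Functor.id_map]
    rw [Linear.comp_smul, Linear.smul_comp, Category.comp_id, Category.id_comp]

theorem fInv_kernel (f : Λ) {M N : EtModW.ModP Λ X} (φ : M ⟶ N) (hM : fInv Λ f M)
    (hN : fInv Λ f N) : fInv Λ f (kernel φ) :=
  isIso_app_kernel (𝟭 _) (smulNat f) φ hM hN

theorem fInv_sigma (f : Λ) {ι : Type (u + 1)} (C : ι → EtModW.ModP Λ X)
    (h : ∀ i, fInv Λ f (C i)) : fInv Λ f (∐ C) := by
  haveI : ∀ i, IsIso (f • 𝟙 (C i)) := h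
  refine ⟨Limits.Sigma.desc (fun i => inv (f • 𝟙 (C i)) ≫ Sigma.ι C i), ?_, ?_⟩
  · apply Limits.Sigma.hom_ext
    intro i
    rw [Linear.smul_comp, Linear.comp_smul, Category.id_comp, Limits.Sigma.ι_desc,
      Category.comp_id, ← Linear.smul_comp, ← Category.id_comp (inv (f • 𝟙 (C i))),
      ← Linear.smul_comp, IsIso.hom_inv_id, Category.id_comp]
  · apply Limits.Sigma.hom_ext
    intro i
    rw [Limits.Sigma.ι_desc_assoc, Category.assoc, Linear.comp_smul, Category.comp_id,
      Linear.comp_smul, ← Linear.smul_comp, ← Category.comp_id (inv (f • 𝟙 (C i))),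
      ← Linear.comp_smul, IsIso.inv_hom_id, Category.id_comp]

theorem ext_subsingleton_of_fInv (f : Λ) (F : EtModW.ModP Λ X)
    (hF : ∀ V, ProEtS.IsWC V → DCsec Λ f V F) :
    ∀ (n : ℕ) (M : EtModW.ModP Λ X), fInv Λ f M → Subsingleton (Abelian.Ext.{u + 1} M F n) := by
  intro n
  induction n with
  | zero =>
    intro M hM
    haveI := epi_genπ f M hM
    have hP : Subsingleton (Abelian.Ext.{u + 1} (genP f M) F 0) :=
      subsingleton_ext_sigma.{u + 1} _ 0 F (fun i => (ext_LV_iff Λ f i.1.1 i.1.2 F).2 (hF _ i.1.2) 0)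
    refine subsingleton_of_forall_eq 0 ?_
    intro x
    obtain ⟨ψ, rfl⟩ := (Abelian.Ext.mk₀_bijective M F).2 x
    have h0 : genπ f M hM ≫ ψ = 0 := by
      have := hP.elim (Abelian.Ext.mk₀ (genπ f M hM ≫ ψ)) (Abelian.Ext.mk₀ 0)
      exact (Abelian.Ext.mk₀_bijective _ F).1 this
    have : ψ = 0 := by rw [← cancel_epi (genπ f M hM), h0, comp_zero]
    rw [this, Abelian.Ext.mk₀_zero]
  | succ n ih =>
    intro M hM
    haveI := epi_genπ f M hM
    have hP : Subsingleton (Abelian.Ext.{u + 1} (genP f M) F (n + 1)) :=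
      subsingleton_ext_sigma.{u + 1} _ (n + 1) F
        (fun i => (ext_LV_iff Λ f i.1.1 i.1.2 F).2 (hF _ i.1.2) (n + 1))
    let S : ShortComplex (EtModW.ModP Λ X) :=
      ShortComplex.mk (kernel.ι (genπ f M hM)) (genπ f M hM) (kernel.condition _)
    have hS : S.ShortExact :=
      { exact := ShortComplex.exact_of_f_is_kernel _ (kernelIsKernel _)
        mono_f := inferInstanceAs (Mono (kernel.ι (genπ f M hM)))
        epi_g := inferInstanceAs (Epi (genπ f M hM)) }
    have hK : fInv Λ f (kernel (genπ f M hM)) :=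
      fInv_kernel f _ (fInv_sigma f _ (fun i => fInv_LV_LocM Λ f i.1.1)) hM
    have hK' := ih (kernel (genπ f M hM)) hK
    refine subsingleton_of_forall_eq 0 ?_
    intro x
    have h0 : (Abelian.Ext.mk₀ S.g).comp x (zero_add (n + 1)) = 0 := hP.elim _ _
    obtain ⟨x₁, hx₁⟩ := Abelian.Ext.contravariant_sequence_exact₃ hS F x h0
      (show 1 + n = n + 1 by omega)
    have : x₁ = 0 := hK'.elim _ _
    rw [← hx₁, this, Abelian.Ext.comp_zero]

/-- **Main criterion**: a sheaf of `Λ`-modules on `X_proet` is derived complete with respect to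
`I` iff it is so sectionwise on weakly contractible objects. -/
theorem isDCSheaf_iff (I : Ideal Λ) (F : EtModW.ModP Λ X) :
    ProEtDC.IsDCSheaf Λ I F ↔ ∀ f ∈ I, ∀ V, ProEtS.IsWC V → DCsec Λ f V F := by
  constructor
  · intro h f hf V hV
    exact (ext_LV_iff Λ f V hV F).1
      (fun n => subsingleton_ext_of_iso (locExtIso Λ V f) F n (h V f hf n))
  · intro h U f hf n
    exact subsingleton_ext_of_iso (locExtIso Λ U f).symm F n
      (ext_subsingleton_of_fInv f F (h f hf) n _ (fInv_LV_LocM Λ f U))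

end Groth.Agent.Lib.Helper4.DC
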