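import Groth.Agent.Lib.Helper4.DC7

/-!
# Weak Serre property and limits for derived complete sheaves (helper4)
-/

set_option linter.style.haveILetI false
set_option linter.unusedSectionVars false
set_option autoImplicit false
open CategoryTheory CategoryTheory.Limits AlgebraicGeometry Opposite
universe u

namespace Groth.Agent.Lib.Helper4.DC

variable (Λ : Type (u + 1)) [CommRing Λ] {X : Scheme.{u}}

/-- The functor `F ↦ Hom_Λ(Λ[X], F(V))`. -/
noncomputable abbrev TT (V : X.ProEt) : EtModW.ModP Λ X ⥤ AddCommGrpCat.{u + 1} :=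
  GammaV Λ V ⋙ preadditiveCoyoneda.obj (op (NN Λ))

/-- Precomposition with `f X - 1`. -/
noncomputable def tauT (f : Λ) (V : X.ProEt) : TT Λ V ⟶ TT Λ V :=
  Functor.whiskerLeft (GammaV Λ V) (preadditiveCoyoneda.map (mMap Λ f).op)

theorem DCsec_iff_isIso (f : Λ) (V : X.ProEt) (F : EtModW.ModP Λ X) :
    DCsec Λ f V F ↔ IsIso ((tauT Λ f V).app F) := by
  rw [ConcreteCategory.isIso_iff_bijective]
  rfl

instance (V : X.ProEt) : (TT Λ V).Additive := inferInstance

instance (V : X.ProEt) : PreservesLimits (TT Λ V) := inferInstance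

instance : PreservesFiniteColimits (preadditiveCoyoneda.obj (op (NN Λ))) := by
  haveI : (preadditiveCoyoneda.obj (op (NN Λ))).PreservesEpimorphisms :=
    (Projective.projective_iff_preservesEpimorphisms_preadditiveCoyoneda_obj (NN Λ)).1
      inferInstance
  exact Groth.Agent.Lib.Helper4.PEPush.preservesFiniteColimits_of_epi _
    (fun g hg => by haveI := hg; infer_instance)

theorem preservesFiniteColimits_TT (V : X.ProEt) (hV : ProEtS.IsWC V) :
    PreservesFiniteColimits (TT Λ V) := by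
  haveI := preservesFiniteColimits_GammaV Λ V hV
  infer_instance

variable {Λ}

theorem isDCSheaf_kernel (I : Ideal Λ) {F G : EtModW.ModP Λ X} (φ : F ⟶ G)
    (hF : ProEtDC.IsDCSheaf Λ I F) (hG : ProEtDC.IsDCSheaf Λ I G) :
    ProEtDC.IsDCSheaf Λ I (kernel φ) := by
  rw [isDCSheaf_iff] at hF hG ⊢
  intro f hf V hV
  rw [DCsec_iff_isIso]
  exact isIso_app_kernel (TT Λ V) (tauT Λ f V) φ
    ((DCsec_iff_isIso Λ f V F).1 (hF f hf V hV)) ((DCsec_iff_isIso Λ f V G).1 (hG f hf V hV))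

theorem isDCSheaf_cokernel (I : Ideal Λ) {F G : EtModW.ModP Λ X} (φ : F ⟶ G)
    (hF : ProEtDC.IsDCSheaf Λ I F) (hG : ProEtDC.IsDCSheaf Λ I G) :
    ProEtDC.IsDCSheaf Λ I (cokernel φ) := by
  rw [isDCSheaf_iff] at hF hG ⊢
  intro f hf V hV
  rw [DCsec_iff_isIso]
  haveI := preservesFiniteColimits_TT Λ V hV
  exact isIso_app_cokernel (TT Λ V) (tauT Λ f V) φ
    ((DCsec_iff_isIso Λ f V F).1 (hF f hf V hV)) ((DCsec_iff_isIso Λ f V G).1 (hG f hf V hV))

theorem isDCSheaf_X₂ (I : Ideal Λ) (S : ShortComplex (EtModW.ModP Λ X)) (hS : S.ShortExact)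
    (h₁ : ProEtDC.IsDCSheaf Λ I S.X₁) (h₃ : ProEtDC.IsDCSheaf Λ I S.X₃) :
    ProEtDC.IsDCSheaf Λ I S.X₂ := by
  rw [isDCSheaf_iff] at h₁ h₃ ⊢
  intro f hf V hV
  rw [DCsec_iff_isIso]
  haveI := preservesFiniteColimits_TT Λ V hV
  haveI : PreservesFiniteLimits (TT Λ V) := inferInstance
  exact isIso_app_X₂ (TT Λ V) (tauT Λ f V) S hS
    ((DCsec_iff_isIso Λ f V _).1 (h₁ f hf V hV)) ((DCsec_iff_isIso Λ f V _).1 (h₃ f hf V hV))

theorem isDCSheaf_limit (I : Ideal Λ) {J : Type} [SmallCategory J] (D : J ⥤ EtModW.ModP Λ X)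
    (hD : ∀ j, ProEtDC.IsDCSheaf Λ I (D.obj j)) : ProEtDC.IsDCSheaf Λ I (limit D) := by
  rw [isDCSheaf_iff]
  intro f hf V hV
  rw [DCsec_iff_isIso]
  haveI : PreservesLimitsOfSize.{0, 0} (TT Λ V) :=
    preservesLimitsOfSize_shrink.{0, u + 1, 0, u + 1} _
  exact isIso_app_limit (TT Λ V) (tauT Λ f V) D
    (fun j => (DCsec_iff_isIso Λ f V _).1 ((isDCSheaf_iff I _).1 (hD j) f hf V hV))

end Groth.Agent.Lib.Helper4.DC
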