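import Mathlib
import Groth.Agent.Lib.Helper24.NormalSepClosed

set_option autoImplicit false
set_option linter.unusedSectionVars false
universe u

namespace Groth.Agent.Lib.Helper4.DecompHens

open Polynomial

section Val

variable (B : Type u) [CommRing B] [IsDomain B] [IsLocalRing B]
  (Ω : Type u) [Field Ω] [Algebra B Ω]

/-- a valuation on a field `Ω ⊇ B` dominating the local ring `B` -/
lemma exists_dominating_valuation :
    ∃ V : ValuationSubring Ω,
      (∀ a : B, V.valuation (algebraMap B Ω a) ≤ 1) ∧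
      (∀ a : B, a ∈ IsLocalRing.maximalIdeal B → V.valuation (algebraMap B Ω a) < 1) ∧
      (∀ a : B, IsUnit a → V.valuation (algebraMap B Ω a) = 1) ∧
      (∀ x : Ω, IsIntegral B x → V.valuation x ≤ 1) := by
  obtain ⟨V, hV, hloc⟩ := IsLocalRing.exists_factor_valuationRing (algebraMap B Ω)
  have h1 : ∀ a : B, V.valuation (algebraMap B Ω a) ≤ 1 := fun a =>
    (V.valuation_le_one_iff _).mpr (hV a)
  have h3 : ∀ a : B, IsUnit a → V.valuation (algebraMap B Ω a) = 1 := by
    intro a ha
    obtain ⟨b, hb⟩ := ha.exists_right_inv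
    have h4 : V.valuation (algebraMap B Ω a) * V.valuation (algebraMap B Ω b) = 1 := by
      rw [← map_mul, ← map_mul, hb, map_one, map_one]
    apply le_antisymm (h1 a)
    by_contra hlt
    push Not at hlt
    have : V.valuation (algebraMap B Ω a) * V.valuation (algebraMap B Ω b) < 1 := by
      calc _ ≤ V.valuation (algebraMap B Ω a) * 1 := by
            gcongr; exact h1 b
        _ < 1 := by rwa [mul_one]
    exact absurd h4 this.ne
  refine ⟨V, h1, ?_, h3, ?_⟩
  · intro a ha
    have hmem : (⟨algebraMap B Ω a, hV a⟩ : V) ∈ IsLocalRing.maximalIdeal V := by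
      rw [IsLocalRing.mem_maximalIdeal, mem_nonunits_iff]
      intro hu
      have := hloc.map_nonunit a hu
      exact ha this
    exact (V.valuation_lt_one_iff _).mp hmem
  · intro x hx
    rw [V.valuation_le_one_iff]
    obtain ⟨p, hp, hpx⟩ := hx
    have hint : IsIntegral V x := by
      refine ⟨p.map ((algebraMap B Ω).codRestrict V.toSubring hV), hp.map _, ?_⟩
      rw [eval₂_map]
      exact hpx
    obtain ⟨y, hy⟩ := (IsIntegrallyClosed.isIntegral_iff (R := V) (K := Ω)).mp hint
    rw [← hy]
    exact y.2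

end Val

section Uniq

variable {B : Type u} [CommRing B] {Ω : Type u} [Field Ω]

/-- Two roots of `f` close to each other, at one of which the derivative is a unit, coincide. -/
lemma root_unique (V : ValuationSubring Ω) (φ : B →+* Ω) (hφ : ∀ b, φ b ∈ V) (f : B[X])
    (α β : Ω) (hα : α ∈ V) (hβ : β ∈ V) (hfα : f.eval₂ φ α = 0) (hfβ : f.eval₂ φ β = 0)
    (hder : V.valuation (f.derivative.eval₂ φ α) = 1) (hαβ : V.valuation (β - α) < 1) :
    β = α := by
  set φV : B →+* V := φ.codRestrict V.toSubring hφ with hφV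
  have hcomp : (V.subtype).comp φV = φ := by
    ext a; rfl
  have h1 : ∀ (g : B[X]) (z : V), ((eval z (g.map φV) : V) : Ω) = g.eval₂ φ (z : Ω) := by
    intro g z
    rw [eval_map]
    have := Polynomial.hom_eval₂ g φV V.subtype z
    rw [hcomp] at this
    exact this
  obtain ⟨k, hk⟩ := Polynomial.binomExpansion (f.map φV) (⟨α, hα⟩ : V)
    (⟨β - α, V.toSubring.sub_mem hβ hα⟩ : V)
  have hk' := congrArg (fun z : V => (z : Ω)) hk
  have hsum : ((⟨α, hα⟩ : V) + (⟨β - α, V.toSubring.sub_mem hβ hα⟩ : V)) = (⟨β, hβ⟩ : V) := by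
    apply Subtype.ext
    show α + (β - α) = β
    ring
  rw [hsum] at hk'
  have e1 : ((eval (⟨β, hβ⟩ : V) (f.map φV) : V) : Ω) = 0 := by rw [h1]; exact hfβ
  have e2 : ((eval (⟨α, hα⟩ : V) (f.map φV) : V) : Ω) = 0 := by rw [h1]; exact hfα
  have e3 : ((eval (⟨α, hα⟩ : V) (derivative (f.map φV)) : V) : Ω) = f.derivative.eval₂ φ α := by
    rw [derivative_map, h1]
  have hk'' : (0 : Ω) = 0 + f.derivative.eval₂ φ α * (β - α) + (k : Ω) * (β - α) ^ 2 := by
    have := hk'
    push_cast at this
    rw [e1, e2, e3] at this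
    exact this
  by_contra hne
  have hne' : β - α ≠ 0 := sub_ne_zero.mpr hne
  have h2 : f.derivative.eval₂ φ α = -((k : Ω) * (β - α)) := by
    have h3 : (β - α) * (f.derivative.eval₂ φ α + (k : Ω) * (β - α)) = 0 := by
      rw [zero_add] at hk''
      rw [hk'']
      ring
    have h4 := (mul_eq_zero.mp h3).resolve_left hne'
    exact eq_neg_of_add_eq_zero_left h4
  have h5 : V.valuation (f.derivative.eval₂ φ α) < 1 := by
    rw [h2, Valuation.map_neg, map_mul]
    calc V.valuation (k : Ω) * V.valuation (β - α) ≤ 1 * V.valuation (β - α) := by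
          gcongr
          exact (V.valuation_le_one_iff _).mpr k.2
      _ < 1 := by rwa [one_mul]
  rw [hder] at h5
  exact lt_irrefl _ h5

end Uniq

section PartA

open Polynomial

/-- **Part A**: a local domain `B`, integrally closed in a field `L ⊇ B`, is henselian as soon as
a valuation of an algebraic closure `Ω` of `L` dominating `B` is invariant under `Aut(Ω/L)` on
integral elements. -/
theorem henselian_of_invariant (B : Type u) [CommRing B] [IsDomain B] [IsLocalRing B]
    (L : Type u) [Field L] [Algebra B L]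
    (hinj : Function.Injective (algebraMap B L))
    (hcl : ∀ l : L, IsIntegral B l → ∃ b : B, algebraMap B L b = l)
    (Ω : Type u) [Field Ω] [Algebra L Ω] [Algebra B Ω] [IsScalarTower B L Ω] [IsAlgClosed Ω]
    [Algebra.IsAlgebraic L Ω]
    (V : ValuationSubring Ω)
    (hV1 : ∀ a : B, V.valuation (algebraMap B Ω a) ≤ 1)
    (hVm : ∀ a : B, a ∈ IsLocalRing.maximalIdeal B → V.valuation (algebraMap B Ω a) < 1)
    (hVu : ∀ a : B, IsUnit a → V.valuation (algebraMap B Ω a) = 1)
    (hVint : ∀ x : Ω, IsIntegral B x → V.valuation x ≤ 1)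
    (hinv : ∀ (σ : Ω ≃ₐ[L] Ω) (x : Ω), IsIntegral B x → V.valuation x < 1 →
      V.valuation (σ x) < 1) :
    HenselianLocalRing B := by
  set φ : B →+* Ω := algebraMap B Ω with hφ
  have hφinj : Function.Injective φ := by
    rw [hφ, IsScalarTower.algebraMap_eq B L Ω]
    exact (algebraMap L Ω).injective.comp hinj
  have hφV : ∀ a, φ a ∈ V := fun a => (V.valuation_le_one_iff _).mp (hV1 a)
  refine ⟨fun f hf a₀ h₀ h₀' => ?_⟩
  have hsplit : (f.map φ).Splits := IsAlgClosed.splits _
  have hev := hsplit.eval_eq_prod_roots_of_monic (hf.map φ) (φ a₀)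
  rw [eval_map, eval₂_at_apply] at hev
  have hlt : V.valuation (φ (f.eval a₀)) < 1 := hVm _ h₀
  have hroot_int : ∀ α ∈ (f.map φ).roots, IsIntegral B α := by
    intro α hα
    refine ⟨f, hf, ?_⟩
    have := (mem_roots (hf.map φ).ne_zero).mp hα
    rwa [IsRoot, eval_map] at this
  have hex : ∃ α ∈ (f.map φ).roots, V.valuation (φ a₀ - α) < 1 := by
    by_contra hcon
    push Not at hcon
    have hall : ∀ α ∈ (f.map φ).roots, V.valuation (φ a₀ - α) = 1 := by
      intro α hα
      apply le_antisymm _ (hcon α hα)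
      calc V.valuation (φ a₀ - α) ≤ max (V.valuation (φ a₀)) (V.valuation α) :=
            Valuation.map_sub _ _ _
        _ ≤ 1 := max_le (hV1 a₀) (hVint α (hroot_int α hα))
    have : V.valuation (φ (f.eval a₀)) = 1 := by
      rw [hev, map_multiset_prod, Multiset.map_map]
      apply Multiset.prod_eq_one
      intro x hx
      rw [Multiset.mem_map] at hx
      obtain ⟨α, hα, rfl⟩ := hx
      exact hall α hα
    rw [this] at hlt
    exact lt_irrefl _ hlt
  obtain ⟨α, hα, hαlt⟩ := hex
  have hαint := hroot_int α hα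
  have hαV : α ∈ V := (V.valuation_le_one_iff _).mp (hVint α hαint)
  have hαroot : f.eval₂ φ α = 0 := by
    have := (mem_roots (hf.map φ).ne_zero).mp hα
    rwa [IsRoot, eval_map] at this
  have hαlt' : V.valuation (α - φ a₀) < 1 := by
    rw [← neg_sub, Valuation.map_neg]; exact hαlt
  have hder : V.valuation (f.derivative.eval₂ φ α) = 1 := by
    have h1 := Groth.Agent.Lib.Helper24.NSC.val_eval₂_sub_le V φ hφV f.derivative
      α (φ a₀) hαV (hφV a₀)
    have h3 : V.valuation (f.derivative.eval₂ φ (φ a₀)) = 1 := by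
      rw [eval₂_at_apply]; exact hVu _ h₀'
    have h4 : f.derivative.eval₂ φ α =
        f.derivative.eval₂ φ (φ a₀) + (f.derivative.eval₂ φ α - f.derivative.eval₂ φ (φ a₀)) := by
      ring
    rw [h4, Valuation.map_add_eq_of_lt_left, h3]
    rw [h3]
    exact lt_of_le_of_lt h1 hαlt'
  -- α is fixed by every automorphism
  have hσφ : ∀ (σ : Ω ≃ₐ[L] Ω) (b : B), σ (φ b) = φ b := by
    intro σ b
    rw [hφ, IsScalarTower.algebraMap_apply B L Ω, σ.commutes]
  have hfix : ∀ σ : Ω ≃ₐ[L] Ω, σ α = α := by
    intro σ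
    have hcomp : (σ : Ω →+* Ω).comp φ = φ := by
      ext b; exact hσφ σ b
    have hfσ : f.eval₂ φ (σ α) = 0 := by
      have := Polynomial.hom_eval₂ f φ (σ : Ω →+* Ω) α
      rw [hcomp, hαroot] at this
      exact this.symm.trans (map_zero _)
    have hσint : IsIntegral B (σ α) := ⟨f, hf, hfσ⟩
    have hxint : IsIntegral B (α - φ a₀) := hαint.sub isIntegral_algebraMap
    have h1 := hinv σ (α - φ a₀) hxint hαlt'
    rw [map_sub, hσφ] at h1
    have h2 : σ α - α = (σ α - φ a₀) - (α - φ a₀) := by ring
    have h3 : V.valuation (σ α - α) < 1 := by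
      rw [h2]
      exact lt_of_le_of_lt (Valuation.map_sub _ _ _) (max_lt h1 hαlt')
    exact root_unique V φ hφV f α (σ α) hαV ((V.valuation_le_one_iff _).mp (hVint _ hσint))
      hαroot hfσ hder h3
  -- hence α lies in L
  have hαL : IsIntegral L α := Algebra.IsIntegral.isIntegral α
  set μ := minpoly L α with hμ
  have hirr : Irreducible μ := minpoly.irreducible hαL
  have hfL : aeval α (f.map (algebraMap B L)) = 0 := by
    rw [aeval_def, eval₂_map, ← IsScalarTower.algebraMap_eq]
    exact hαroot
  obtain ⟨q, hq⟩ := minpoly.dvd L α hfL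
  have hμ' : derivative μ ≠ 0 := by
    intro h0
    have h1 : aeval α (derivative (f.map (algebraMap B L))) = 0 := by
      rw [hq, derivative_mul, h0, zero_mul, zero_add, map_mul, minpoly.aeval, zero_mul]
    rw [derivative_map, aeval_def, eval₂_map, ← IsScalarTower.algebraMap_eq] at h1
    have h1' : f.derivative.eval₂ φ α = 0 := h1
    rw [h1', map_zero] at hder
    exact zero_ne_one hder
  have hsep : μ.Separable := (separable_iff_derivative_ne_zero hirr).mpr hμ'
  have : IsAlgClosure L Ω := ⟨inferInstance, inferInstance⟩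
  have hnormal : Normal L Ω := IsAlgClosure.normal L Ω
  have hcard := card_rootSet_eq_natDegree (K := Ω) hsep (IsAlgClosed.splits _)
  have hsub : μ.rootSet Ω ⊆ {α} := by
    intro β hβ
    rw [mem_rootSet] at hβ
    obtain ⟨σ, hσ⟩ := minpoly.exists_algEquiv_of_root' hαL.isAlgebraic hβ.2
    rw [Set.mem_singleton_iff, ← hσ, hfix σ]
  have hdeg1 : μ.natDegree = 1 := by
    apply le_antisymm
    · rw [← hcard]
      have : Fintype.card (μ.rootSet Ω) ≤ Fintype.card ({α} : Set Ω) :=
        Fintype.card_le_of_embedding (Set.embeddingOfSubset _ _ hsub)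
      simpa using this
    · exact minpoly.natDegree_pos hαL
  obtain ⟨l, hl⟩ := (minpoly.natDegree_eq_one_iff).mp hdeg1
  have hlint : IsIntegral B l := by
    rw [← isIntegral_algebraMap_iff (B := Ω) (algebraMap L Ω).injective, hl]
    exact hαint
  obtain ⟨a, ha⟩ := hcl l hlint
  have ha' : φ a = α := by
    rw [hφ, IsScalarTower.algebraMap_apply B L Ω, ha, hl]
  refine ⟨a, ?_, ?_⟩
  · apply hφinj
    rw [map_zero, ← hαroot, ← ha', eval₂_at_apply]
  · by_contra hnm
    have hu : IsUnit (a - a₀) := by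
      by_contra hnu
      exact hnm ((IsLocalRing.mem_maximalIdeal _).mpr hnu)
    have := hVu _ hu
    rw [map_sub] at this
    change V.valuation (φ a - φ a₀) = 1 at this
    rw [ha'] at this
    rw [this] at hαlt'
    exact lt_irrefl _ hαlt'

end PartA


end Groth.Agent.Lib.Helper4.DecompHens
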