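import Mathlib

set_option autoImplicit false
set_option linter.unusedSectionVars false
universe u

namespace Groth.Agent.Lib.Helper4.DecompHens

section Gal

variable {K Ks : Type u} [Field K] [Field Ks] [Algebra K Ks]

/-- the subgroup of automorphisms preserving (in both directions) a subset `P` -/
def stab (P : Set Ks) : Subgroup (Ks ≃ₐ[K] Ks) where
  carrier := {σ | ∀ x, x ∈ P ↔ σ x ∈ P}
  one_mem' := fun x => Iff.rfl
  mul_mem' := fun {a b} ha hb x => (hb x).trans (ha (b x))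
  inv_mem' := fun {a} ha x => by
    have := ha (a⁻¹ x)
    rw [AlgEquiv.aut_inv, AlgEquiv.apply_symm_apply] at this
    exact this.symm

lemma mem_stab (P : Set Ks) (σ : Ks ≃ₐ[K] Ks) : σ ∈ stab (K := K) P ↔ ∀ x, x ∈ P ↔ σ x ∈ P :=
  Iff.rfl

lemma isLocallyConstant_eval [Algebra.IsIntegral K Ks] (x : Ks) :
    IsLocallyConstant (fun σ : Ks ≃ₐ[K] Ks => σ x) := by
  rw [IsLocallyConstant.iff_exists_open]
  intro σ
  have hopen := stabilizer_isOpen_of_isIntegral (K := K) (L := Ks) x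
  refine ⟨(fun τ => σ⁻¹ * τ) ⁻¹' (MulAction.stabilizer (Ks ≃ₐ[K] Ks) x : Set (Ks ≃ₐ[K] Ks)),
    hopen.preimage (continuous_const_mul _), ?_, ?_⟩
  · simp
  · intro τ hτ
    have h1 : (σ⁻¹ * τ) • x = x := hτ
    have h2 : σ ((σ⁻¹ * τ) x) = σ x := by
      congr 1
    rw [← h2]
    simp [AlgEquiv.mul_apply, AlgEquiv.aut_inv]

lemma stab_isClosed [Algebra.IsIntegral K Ks] (P : Set Ks) :
    IsClosed (stab (K := K) P : Set (Ks ≃ₐ[K] Ks)) := by
  have h : (stab (K := K) P : Set (Ks ≃ₐ[K] Ks)) =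
      ⋂ x : Ks, (fun σ : Ks ≃ₐ[K] Ks => σ x) ⁻¹' {y | x ∈ P ↔ y ∈ P} := by
    ext σ
    simp only [Set.mem_iInter, Set.mem_preimage, Set.mem_ofPred_eq]
    exact Iff.rfl
  rw [h]
  refine isClosed_iInter fun x => ?_
  exact ⟨by
    rw [← Set.preimage_compl]
    exact (isLocallyConstant_eval (K := K) x) _⟩

theorem fixingSubgroup_le_stab [IsGalois K Ks] (P : Set Ks) (S : Set (Ks ≃ₐ[K] Ks))
    (hS : S ⊆ stab (K := K) P) (L : IntermediateField K Ks)
    (hL : L = IntermediateField.fixedField (Subgroup.closure S)) :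
    L.fixingSubgroup ≤ stab (K := K) P := by
  let H : ClosedSubgroup (Ks ≃ₐ[K] Ks) := ⟨stab (K := K) P, stab_isClosed P⟩
  have h1 : Subgroup.closure S ≤ stab (K := K) P := (Subgroup.closure_le _).mpr hS
  have h2 : IntermediateField.fixedField (stab (K := K) P) ≤ L := by
    rw [hL]
    exact IntermediateField.fixedField_antitone h1
  have h3 := IntermediateField.fixingSubgroup_antitone h2
  have h4 := InfiniteGalois.fixingSubgroup_fixedField H
  exact h3.trans h4.le

end Gal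

end Groth.Agent.Lib.Helper4.DecompHens
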