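import Mathlib

set_option autoImplicit false
set_option linter.unusedSectionVars false
universe u

namespace Groth.Agent.Lib.Helper4.DecompHens

open Polynomial

section Uniq2

variable (A : Type u) [CommRing A] [IsDomain A] [IsIntegrallyClosed A]
    (L : Type u) [Field L] [Algebra A L] [IsFractionRing A L]
    (Ks : Type u) [Field Ks] [Algebra L Ks] [Algebra A Ks] [IsScalarTower A L Ks] [Normal L Ks]

theorem prime_le_of_stable (P P' : Ideal (integralClosure A Ks)) [hP : P.IsPrime]
    (hle : P'.comap (algebraMap A (integralClosure A Ks)) ≤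
      P.comap (algebraMap A (integralClosure A Ks)))
    (hstab : ∀ (τ : Ks ≃ₐ[L] Ks) (x : integralClosure A Ks), x ∈ P →
      ∃ h : τ (x : Ks) ∈ integralClosure A Ks, (⟨τ x, h⟩ : integralClosure A Ks) ∈ P) :
    P' ≤ P := by
  intro y hy
  have hyint : IsIntegral A (y : Ks) := y.2
  have hyL : IsIntegral L (y : Ks) := hyint.tower_top
  set μ := minpoly L (y : Ks) with hμ
  have hmonic : μ.Monic := minpoly.monic hyL
  have hsplit : (μ.map (algebraMap L Ks)).Splits := Normal.splits inferInstance _
  set rts := (μ.map (algebraMap L Ks)).roots with hrts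
  have hconj : ∀ r ∈ rts, ∃ τ : Ks ≃ₐ[L] Ks, τ (y : Ks) = r := by
    intro r hr
    have h0 : aeval r μ = 0 := by
      rw [hrts, mem_roots (hmonic.map _).ne_zero, IsRoot, eval_map] at hr
      exact hr
    exact minpoly.exists_algEquiv_of_root' hyL.isAlgebraic h0
  have hτint : ∀ (τ : Ks ≃ₐ[L] Ks) (z : Ks), IsIntegral A z → IsIntegral A (τ z) := by
    intro τ z hz
    exact hz.map (τ.toAlgHom.restrictScalars A)
  have hrC : ∀ r ∈ rts, r ∈ integralClosure A Ks := by
    intro r hr
    obtain ⟨τ, rfl⟩ := hconj r hr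
    exact hτint τ _ hyint
  set rtsC : Multiset (integralClosure A Ks) :=
    rts.attach.map (fun r => ⟨r.1, hrC r.1 r.2⟩) with hrtsC
  have hmap : Multiset.map (fun c : integralClosure A Ks => c.1) rtsC = rts := by
    rw [hrtsC, Multiset.map_map]
    exact Multiset.attach_map_val rts
  have hprod : (integralClosure A Ks).val rtsC.prod = rts.prod := by
    rw [← hmap]
    exact map_multiset_prod (integralClosure A Ks).val rtsC
  have hc0 : algebraMap L Ks (μ.coeff 0) = (-1) ^ μ.natDegree * rts.prod := by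
    have := hsplit.coeff_zero_eq_prod_roots_of_monic (hmonic.map _)
    rw [coeff_map, natDegree_map] at this
    exact this
  have hc0int : IsIntegral A (μ.coeff 0) := by
    rw [← isIntegral_algebraMap_iff (B := Ks) (algebraMap L Ks).injective, hc0]
    exact (IsIntegral.pow (isIntegral_one.neg) _).mul
      (IsIntegral.multiset_prod fun r hr => hrC r hr)
  obtain ⟨a₀, ha₀⟩ := (IsIntegrallyClosed.isIntegral_iff (R := A) (K := L)).mp hc0int
  have hkey : algebraMap A (integralClosure A Ks) a₀ = (-1) ^ μ.natDegree * rtsC.prod := by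
    apply Subtype.ext
    have h1 : ((algebraMap A (integralClosure A Ks) a₀ : integralClosure A Ks) : Ks) =
        algebraMap A Ks a₀ := rfl
    rw [h1, IsScalarTower.algebraMap_apply A L Ks, ha₀, hc0, ← hprod]
    rfl
  have hyr : y ∈ rtsC := by
    rw [hrtsC, Multiset.mem_map]
    have hyroot : (y : Ks) ∈ rts := by
      rw [hrts, mem_roots (hmonic.map _).ne_zero, IsRoot, eval_map]
      exact minpoly.aeval L (y : Ks)
    exact ⟨⟨(y : Ks), hyroot⟩, Multiset.mem_attach _ _, Subtype.ext rfl⟩
  have h1 : rtsC.prod ∈ P' := by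
    obtain ⟨c, hc⟩ := Multiset.dvd_prod hyr
    rw [hc]
    exact P'.mul_mem_right _ hy
  have h2 : algebraMap A (integralClosure A Ks) a₀ ∈ P' := by
    rw [hkey]
    exact P'.mul_mem_left _ h1
  have h3 : algebraMap A (integralClosure A Ks) a₀ ∈ P := hle h2
  have h4 : rtsC.prod ∈ P := by
    rw [hkey] at h3
    have := P.mul_mem_left ((-1) ^ μ.natDegree) h3
    rwa [← mul_assoc, ← mul_pow, neg_one_mul, neg_neg, one_pow, one_mul] at this
  obtain ⟨rC, hrC1, hrC2⟩ := (hP.multiset_prod_mem_iff_exists_mem rtsC).mp h4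
  have hrr : (rC : Ks) ∈ rts := by
    rw [← hmap]
    exact Multiset.mem_map_of_mem _ hrC1
  obtain ⟨τ, hτ⟩ := hconj _ hrr
  obtain ⟨h, hmem⟩ := hstab τ.symm rC hrC2
  have : (⟨τ.symm rC, h⟩ : integralClosure A Ks) = y := Subtype.ext (by
    show τ.symm (rC : Ks) = (y : Ks)
    rw [← hτ, AlgEquiv.symm_apply_apply])
  rwa [this] at hmem

theorem prime_unique_of_stable (P P' : Ideal (integralClosure A Ks)) [hP : P.IsPrime]
    [hP' : P'.IsPrime]
    (heq : P'.comap (algebraMap A (integralClosure A Ks)) =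
      P.comap (algebraMap A (integralClosure A Ks)))
    (hstab : ∀ (τ : Ks ≃ₐ[L] Ks) (x : integralClosure A Ks), x ∈ P →
      ∃ h : τ (x : Ks) ∈ integralClosure A Ks, (⟨τ x, h⟩ : integralClosure A Ks) ∈ P) :
    P' = P := by
  have hle := prime_le_of_stable A L Ks P P' heq.le hstab
  by_contra hne
  have hlt : P' < P := lt_of_le_of_ne hle hne
  have := Ideal.IsIntegral.comap_lt_comap (R := A) hlt
  rw [heq] at this
  exact lt_irrefl _ this

end Uniq2

end Groth.Agent.Lib.Helper4.DecompHens
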