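import Mathlib
import Groth.Agent.Lib.Helper4.DecompHens1
import Groth.Agent.Lib.Helper4.DecompHens3

set_option autoImplicit false
set_option linter.unusedSectionVars false
universe u

namespace Groth.Agent.Lib.Helper4.DecompHens

open Polynomial

section Main

variable (A : Type u) [CommRing A] [IsDomain A] [IsIntegrallyClosed A]
    (L : Type u) [Field L] [Algebra A L] [IsFractionRing A L]
    (Ks : Type u) [Field Ks] [Algebra L Ks] [Algebra A Ks] [IsScalarTower A L Ks] [Normal L Ks]
    [IsSepClosed Ks]

theorem henselian_of_stable_prime (Q : Ideal A) [Q.IsPrime]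
    (P : Ideal (integralClosure A Ks)) [hP : P.IsPrime]
    (hPQ : P.comap (algebraMap A (integralClosure A Ks)) = Q)
    (hstab : ∀ (τ : Ks ≃ₐ[L] Ks) (x : integralClosure A Ks), x ∈ P →
      ∃ h : τ (x : Ks) ∈ integralClosure A Ks, (⟨τ x, h⟩ : integralClosure A Ks) ∈ P) :
    HenselianLocalRing (Localization.AtPrime Q) := by
  set B := Localization.AtPrime Q with hB
  have hunit : ∀ y : Q.primeCompl, IsUnit (algebraMap A L y) := by
    intro y
    apply IsUnit.mk0
    intro h0
    have : (y : A) = 0 := (IsFractionRing.injective A L) (by rw [h0, map_zero])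
    exact y.2 (this ▸ Q.zero_mem)
  let φB : B →+* L := IsLocalization.lift hunit
  let algBL : Algebra B L := φB.toAlgebra
  have towerABL : IsScalarTower A B L :=
    IsScalarTower.of_algebraMap_eq (fun a => (IsLocalization.lift_eq hunit a).symm)
  have fracBL : IsFractionRing B L :=
    IsFractionRing.isFractionRing_of_isDomain_of_isLocalization Q.primeCompl B L
  have icB : IsIntegrallyClosed B :=
    isIntegrallyClosed_of_isLocalization B Q.primeCompl Q.primeCompl_le_nonZeroDivisors
  let Ω := AlgebraicClosure Ks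
  let algBΩ : Algebra B Ω := ((algebraMap L Ω).comp (algebraMap B L)).toAlgebra
  have towerBLΩ : IsScalarTower B L Ω := IsScalarTower.of_algebraMap_eq (fun _ => rfl)
  have towerABΩ : IsScalarTower A B Ω := IsScalarTower.of_algebraMap_eq (fun a => by
    rw [IsScalarTower.algebraMap_apply A L Ω, IsScalarTower.algebraMap_apply A B L]
    rfl)
  have algLΩ : Algebra.IsAlgebraic L Ω := Algebra.IsAlgebraic.trans L Ks Ω
  obtain ⟨V, hV1, hVm, hVu, hVint⟩ := exists_dominating_valuation B Ω
  refine henselian_of_invariant B L (IsFractionRing.injective B L)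
    (fun l hl => (IsIntegrallyClosed.isIntegral_iff (R := B) (K := L)).mp hl) Ω V hV1 hVm hVu hVint ?_
  -- the prime `P_v`
  have hCV : ∀ c : integralClosure A Ks, algebraMap Ks Ω (c : Ks) ∈ V.toSubring := by
    intro c
    show algebraMap Ks Ω (c : Ks) ∈ V
    rw [← V.valuation_le_one_iff]
    apply hVint
    have h1 : IsIntegral A (algebraMap Ks Ω (c : Ks)) := c.2.map (IsScalarTower.toAlgHom A Ks Ω)
    exact h1.tower_top
  let ψ : integralClosure A Ks →+* V :=
    ((algebraMap Ks Ω).comp (integralClosure A Ks).val.toRingHom).codRestrict V.toSubring hCV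
  set Pv : Ideal (integralClosure A Ks) := (IsLocalRing.maximalIdeal V).comap ψ with hPv
  have hPvprime : Pv.IsPrime := Ideal.comap_isPrime ψ _
  have hPvmem : ∀ c : integralClosure A Ks,
      c ∈ Pv ↔ V.valuation (algebraMap Ks Ω (c : Ks)) < 1 := by
    intro c
    rw [hPv, Ideal.mem_comap, V.valuation_lt_one_iff]
    rfl
  have hPvQ : Pv.comap (algebraMap A (integralClosure A Ks)) = Q := by
    ext a
    rw [Ideal.mem_comap, hPvmem]
    have h1 : algebraMap Ks Ω ((algebraMap A (integralClosure A Ks) a : integralClosure A Ks) : Ks)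
        = algebraMap B Ω (algebraMap A B a) := by
      rw [← IsScalarTower.algebraMap_apply A B Ω, IsScalarTower.algebraMap_apply A Ks Ω]
      rfl
    rw [h1]
    constructor
    · intro hlt
      by_contra haQ
      have hu : IsUnit (algebraMap A B a) :=
        IsLocalization.map_units B (⟨a, haQ⟩ : Q.primeCompl)
      rw [hVu _ hu] at hlt
      exact lt_irrefl _ hlt
    · intro haQ
      apply hVm
      exact (IsLocalization.AtPrime.to_map_mem_maximal_iff B Q a).mpr haQ
  have hPvP : Pv = P := prime_unique_of_stable A L Ks P Pv (hPvQ.trans hPQ.symm) hstab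
  -- invariance
  intro σ x hx hvx
  obtain ⟨s, hs⟩ := IsIntegral.exists_multiple_integral_of_isLocalization Q.primeCompl x hx
  have hsx : s • x = algebraMap A Ω (s : A) * x := by
    rw [Submonoid.smul_def, Algebra.smul_def]
  have hvs : V.valuation (algebraMap A Ω (s : A)) = 1 := by
    rw [IsScalarTower.algebraMap_apply A B Ω]
    exact hVu _ (IsLocalization.map_units B s)
  have hσs : σ (algebraMap A Ω (s : A)) = algebraMap A Ω (s : A) := by
    rw [IsScalarTower.algebraMap_apply A L Ω, σ.commutes]
  have hvx₁ : V.valuation (s • x) < 1 := by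
    rw [hsx, map_mul, hvs, one_mul]
    exact hvx
  suffices h : V.valuation (σ (s • x)) < 1 by
    rwa [hsx, map_mul, hσs, map_mul, hvs, one_mul] at h
  obtain ⟨n, y, hy⟩ := IsPurelyInseparable.pow_mem Ks (ringExpChar Ks) (s • x)
  have hNpos : ringExpChar Ks ^ n ≠ 0 := pow_ne_zero _ (expChar_pos Ks (ringExpChar Ks)).ne'
  have hyint : IsIntegral A y := by
    rw [← isIntegral_algebraMap_iff (B := Ω) (algebraMap Ks Ω).injective, hy]
    exact hs.pow _
  have hyP : (⟨y, hyint⟩ : integralClosure A Ks) ∈ P := by
    rw [← hPvP, hPvmem]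
    show V.valuation (algebraMap Ks Ω y) < 1
    rw [hy, map_pow]
    exact pow_lt_one₀ zero_le hvx₁ hNpos
  obtain ⟨h, hmem⟩ := hstab (σ.restrictNormal Ks) ⟨y, hyint⟩ hyP
  rw [← hPvP, hPvmem] at hmem
  have h2 : algebraMap Ks Ω ((σ.restrictNormal Ks) y) = σ (s • x) ^ (ringExpChar Ks ^ n) := by
    rw [AlgEquiv.restrictNormal_commutes, hy, map_pow]
  change V.valuation (algebraMap Ks Ω ((σ.restrictNormal Ks) y)) < 1 at hmem
  rw [h2, map_pow] at hmem
  by_contra hge
  push Not at hge
  exact absurd hmem (not_lt.mpr (one_le_pow₀ hge))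

end Main

end Groth.Agent.Lib.Helper4.DecompHens
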