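import Mathlib
import Groth.Agent.Lib.Helper4.DecompHens2
import Groth.Agent.Lib.Helper4.DecompHens4

set_option autoImplicit false
set_option linter.unusedSectionVars false
universe u

namespace Groth.Agent.Lib.Helper4.DecompHens

open Polynomial

section Concrete

variable (R K Ks : Type u) [CommRing R] [IsDomain R]
    [IsDiscreteValuationRing R] [Field K] [Algebra R K] [IsFractionRing R K]
    [Field Ks] [Algebra K Ks] [IsSepClosure K Ks] [Algebra R Ks] [IsScalarTower R K Ks]
    (Ps : Ideal (integralClosure R Ks)) [Ps.IsMaximal]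

/-- the image of `Ps` in `Ks` -/
def PsK : Set Ks := {x | ∃ h : x ∈ integralClosure R Ks, (⟨x, h⟩ : integralClosure R Ks) ∈ Ps}


theorem core (L : IntermediateField K Ks)
    (hstab : L.fixingSubgroup ≤ stab (K := K) (PsK R Ks Ps))
    (Q : Ideal (integralClosure R L)) [Q.IsPrime]
    (hQ : ∀ y : integralClosure R L, y ∈ Q ↔
      ∃ x : integralClosure R Ks, x ∈ Ps ∧ (x : Ks) = ((y : L) : Ks)) :
    HenselianLocalRing (Localization.AtPrime Q) := by
  have sepKs : IsSepClosed Ks := IsSepClosure.sep_closed K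
  have towerRLKs : IsScalarTower R L Ks := IsScalarTower.of_algebraMap_eq (fun r => rfl)
  have algRL : Algebra.IsAlgebraic R L :=
    (IsFractionRing.comap_isAlgebraic_iff (A := R) (K := K) (C := L)).mpr inferInstance
  have fracA : IsFractionRing (integralClosure R L) L :=
    integralClosure.isFractionRing_of_algebraic (A := R) (L := L) (fun x hx => by
      rw [IsScalarTower.algebraMap_apply R K L] at hx
      have := (algebraMap K L).injective (hx.trans (map_zero _).symm)
      exact (IsFractionRing.injective R K) (this.trans (map_zero _).symm))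
  have icA : IsIntegrallyClosed (integralClosure R L) := by
    refine (isIntegrallyClosed_iff L).mpr ?_
    intro x hx
    have : IsIntegral R x := isIntegral_trans x hx
    exact ⟨⟨x, this⟩, rfl⟩
  have towerAL : IsScalarTower (integralClosure R L) L Ks := inferInstance
  have towerRA : IsScalarTower R (integralClosure R L) Ks :=
    IsScalarTower.of_algebraMap_eq (fun r => rfl)
  have hRint : ∀ x : Ks, IsIntegral (integralClosure R L) x → IsIntegral R x :=
    fun x hx => isIntegral_trans x hx
  let ρ : integralClosure (integralClosure R L) Ks →+* integralClosure R Ks :=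
    ((integralClosure (integralClosure R L) Ks).val.toRingHom).codRestrict
      (integralClosure R Ks).toSubring (fun x => hRint _ x.2)
  have hρ : ∀ x, ((ρ x : integralClosure R Ks) : Ks) = (x : Ks) := fun x => rfl
  set P : Ideal (integralClosure (integralClosure R L) Ks) := Ps.comap ρ with hPdef
  have hPprime : P.IsPrime := Ideal.comap_isPrime ρ _
  have hPQ : P.comap (algebraMap (integralClosure R L)
      (integralClosure (integralClosure R L) Ks)) = Q := by
    ext a
    rw [Ideal.mem_comap, hPdef, Ideal.mem_comap, hQ a]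
    constructor
    · intro h
      exact ⟨_, h, rfl⟩
    · rintro ⟨x, hx, hxa⟩
      have : ρ (algebraMap (integralClosure R L)
          (integralClosure (integralClosure R L) Ks) a) = x := Subtype.ext (by
        rw [hρ, hxa]
        rfl)
      rw [this]
      exact hx
  refine henselian_of_stable_prime (integralClosure R L) L Ks Q P hPQ ?_
  intro τ x hx
  have hτ : τ.restrictScalars K ∈ L.fixingSubgroup := by
    rw [IntermediateField.mem_fixingSubgroup_iff]
    intro z hz
    exact τ.commutes ⟨z, hz⟩
  have h1 := (mem_stab _ _).mp (hstab hτ) (x : Ks)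
  have h2 : (x : Ks) ∈ PsK R Ks Ps := ⟨hRint _ x.2, hx⟩
  obtain ⟨h3, h4⟩ := h1.mp h2
  have h5 : τ (x : Ks) ∈ integralClosure (integralClosure R L) Ks := by
    have : IsIntegral R (τ (x : Ks)) := h3
    exact this.tower_top
  refine ⟨h5, ?_⟩
  rw [hPdef, Ideal.mem_comap]
  have : ρ ⟨τ (x : Ks), h5⟩ = ⟨(τ.restrictScalars K) (x : Ks), h3⟩ := Subtype.ext rfl
  rw [this]
  exact h4

theorem decomp_subset_stab :
    {σ : Ks ≃ₐ[K] Ks | ∀ x : integralClosure R Ks, x ∈ Ps →
        ∃ h : σ (x : Ks) ∈ integralClosure R Ks, (⟨σ (x : Ks), h⟩ : integralClosure R Ks) ∈ Ps} ⊆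
      (stab (K := K) (PsK R Ks Ps) : Set (Ks ≃ₐ[K] Ks)) := by
  intro σ hσ
  rw [SetLike.mem_coe, mem_stab]
  intro y
  constructor
  · rintro ⟨h, hy⟩
    exact hσ ⟨y, h⟩ hy
  · rintro ⟨h, hy⟩
    have hσint : ∀ z : Ks, IsIntegral R z → IsIntegral R (σ z) :=
      fun z hz => hz.map (σ.toAlgHom.restrictScalars R)
    have hyint : IsIntegral R y := by
      have h1 : IsIntegral R (σ y) := h
      have := h1.map (σ.symm.toAlgHom.restrictScalars R)
      have h2 : (σ.symm.toAlgHom.restrictScalars R) (σ y) = y := σ.symm_apply_apply y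
      rwa [h2] at this
    let ρσ : integralClosure R Ks →+* integralClosure R Ks :=
      ((σ : Ks →+* Ks).comp (integralClosure R Ks).val.toRingHom).codRestrict
        (integralClosure R Ks).toSubring (fun x => hσint _ x.2)
    have hle : Ps ≤ Ps.comap ρσ := by
      intro x hx
      obtain ⟨h', hx'⟩ := hσ x hx
      exact hx'
    have hne : Ps.comap ρσ ≠ ⊤ := (Ideal.comap_isPrime ρσ Ps).ne_top
    have heq : Ps = Ps.comap ρσ := Ideal.IsMaximal.eq_of_le inferInstance hne hle
    refine ⟨hyint, ?_⟩
    rw [heq, Ideal.mem_comap]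
    exact hy

theorem inertia_subset_stab :
    {σ : Ks ≃ₐ[K] Ks | ∀ x : integralClosure R Ks,
        ∃ h : σ (x : Ks) ∈ integralClosure R Ks,
          (⟨σ (x : Ks), h⟩ : integralClosure R Ks) - x ∈ Ps} ⊆
      (stab (K := K) (PsK R Ks Ps) : Set (Ks ≃ₐ[K] Ks)) := by
  intro σ hσ
  apply decomp_subset_stab
  intro x hx
  obtain ⟨h, hx'⟩ := hσ x
  refine ⟨h, ?_⟩
  have := Ps.add_mem hx' hx
  rwa [sub_add_cancel] at this

/-- common final step -/
theorem core' (L : IntermediateField K Ks) (S : Set (Ks ≃ₐ[K] Ks))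
    (hS : S ⊆ (stab (K := K) (PsK R Ks Ps) : Set (Ks ≃ₐ[K] Ks)))
    (hL : L = IntermediateField.fixedField (Subgroup.closure S))
    (Q : Ideal (integralClosure R L)) [Q.IsPrime]
    (hQ : ∀ y : integralClosure R L, y ∈ Q ↔
      ∃ x : integralClosure R Ks, x ∈ Ps ∧ (x : Ks) = ((y : L) : Ks)) :
    HenselianLocalRing (Localization.AtPrime Q) :=
  core R K Ks Ps L (fixingSubgroup_le_stab (PsK R Ks Ps) S hS L hL) Q hQ

end Concrete

end Groth.Agent.Lib.Helper4.DecompHens
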