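import Mathlib
import Groth.Agent.Lib.Helper4.DC17
import Groth.Prelude.Def_WeakSerre

/-!
# Quotients modulo a principal ideal in an extension (helper4)

Abstract part of the stability of adic sheaves under extensions: the snake lemma for
multiplication by `m` on a short exact sequence, and towers of quotient maps.
-/

set_option linter.style.haveILetI false
set_option linter.unusedSectionVars false
set_option autoImplicit false
open CategoryTheory CategoryTheory.Limits Opposite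
universe w v u

namespace Groth.Agent.Lib.Helper4.EX

open ARSys

variable {Λ : Type w} [CommRing Λ] {𝒜 : Type u} [Category.{v} 𝒜] [Abelian 𝒜] [Linear Λ 𝒜]

lemma smul_id_comp (m : Λ) {X Y : 𝒜} (φ : X ⟶ Y) : (m • 𝟙 X) ≫ φ = m • φ := by
  rw [Linear.smul_comp, Category.id_comp]

lemma comp_smul_id (m : Λ) {X Y : 𝒜} (φ : X ⟶ Y) : φ ≫ (m • 𝟙 Y) = m • φ := by
  rw [Linear.comp_smul, Category.comp_id]

/-- A cokernel of `m • 𝟙` is a quotient map modulo `(m)`. -/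
theorem isQuot_of_isColimit_smul (m : Λ) {X Q : 𝒜} (p : X ⟶ Q) (w : (m • 𝟙 X) ≫ p = 0)
    (hc : IsColimit (CokernelCofork.ofπ p w)) : IsQuot (Ideal.span {m}) p := by
  haveI : Epi p := epi_of_isColimit_cofork hc
  have hmp : m • p = 0 := by rw [← smul_id_comp]; exact w
  constructor
  · intro b hb
    obtain ⟨c, rfl⟩ := Ideal.mem_span_singleton'.1 hb
    rw [← cancel_epi p, comp_zero, comp_smul_id, mul_smul, hmp, smul_zero]
  · intro Y φ hφ
    have h0 : (m • 𝟙 X) ≫ φ = 0 := by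
      rw [smul_id_comp]
      exact hφ m (Ideal.mem_span_singleton_self m)
    refine ⟨hc.desc (CokernelCofork.ofπ φ h0), hc.fac _ WalkingParallelPair.one, ?_⟩
    intro ψ hψ
    rw [← cancel_epi p, hψ]
    exact (hc.fac (CokernelCofork.ofπ φ h0) WalkingParallelPair.one).symm

lemma smul_comp_of_isQuot (m : Λ) {X Q : 𝒜} (p : X ⟶ Q) (hp : IsQuot (Ideal.span {m}) p) :
    (m • 𝟙 X) ≫ p = 0 := by
  rw [smul_id_comp, ← comp_smul_id, hp.1 m (Ideal.mem_span_singleton_self m), comp_zero]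

/-- A quotient map modulo `(m)` is a cokernel of `m • 𝟙`. -/
noncomputable def isColimitOfIsQuot (m : Λ) {X Q : 𝒜} (p : X ⟶ Q)
    (hp : IsQuot (Ideal.span {m}) p) :
    IsColimit (CokernelCofork.ofπ p (smul_comp_of_isQuot m p hp)) := by
  have hk : ∀ {Y : 𝒜} (φ : X ⟶ Y), (m • 𝟙 X) ≫ φ = 0 → HomKilledBy (Ideal.span {m}) φ := by
    intro Y φ h b hb
    obtain ⟨c, rfl⟩ := Ideal.mem_span_singleton'.1 hb
    rw [mul_smul, ← smul_id_comp m φ, h, smul_zero]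
  exact CokernelCofork.IsColimit.ofπ p _
    (fun φ h => (hp.2 _ φ (hk φ h)).exists.choose)
    (fun φ h => (hp.2 _ φ (hk φ h)).exists.choose_spec)
    (fun φ h ψ hψ => (hp.2 _ φ (hk φ h)).unique hψ (hp.2 _ φ (hk φ h)).exists.choose_spec)

/-- Two quotient maps modulo the same ideal have isomorphic targets. -/
theorem nonempty_iso_of_isQuot (I : Ideal Λ) {X Q Q' : 𝒜} (p : X ⟶ Q) (p' : X ⟶ Q')
    (hp : IsQuot I p) (hp' : IsQuot I p') : ∃ e : Q ≅ Q', p ≫ e.hom = p' := by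
  have hk : ∀ {Q₁ : 𝒜} (q : X ⟶ Q₁), IsQuot I q → HomKilledBy I q := by
    intro Q₁ q hq b hb
    rw [← comp_smul_id, hq.1 b hb, comp_zero]
  obtain ⟨α, hα, -⟩ := hp.2 _ p' (hk p' hp')
  obtain ⟨β, hβ, -⟩ := hp'.2 _ p (hk p hp)
  refine ⟨⟨α, β, ?_, ?_⟩, hα⟩
  · exact DC.cancel_of_isQuot I p hp _ _ (by rw [← Category.assoc, hα, hβ, Category.comp_id])
  · exact DC.cancel_of_isQuot I p' hp' _ _ (by rw [← Category.assoc, hβ, hα, Category.comp_id])

/-- Multiplication by `m` on a short complex. -/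
noncomputable def smulSC (m : Λ) (S : ShortComplex 𝒜) : S ⟶ S where
  τ₁ := m • 𝟙 _
  τ₂ := m • 𝟙 _
  τ₃ := m • 𝟙 _
  comm₁₂ := by rw [smul_id_comp, comp_smul_id]
  comm₂₃ := by rw [smul_id_comp, comp_smul_id]

/-- The snake input of multiplication by `m` on a short exact sequence. -/
noncomputable def snk (m : Λ) (S : ShortComplex 𝒜) (hS : S.ShortExact) :
    ShortComplex.SnakeInput 𝒜 where
  L₀ := kernel (smulSC m S)
  L₁ := S
  L₂ := S
  L₃ := cokernel (smulSC m S)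
  v₀₁ := kernel.ι _
  v₁₂ := smulSC m S
  v₂₃ := cokernel.π _
  w₀₂ := kernel.condition _
  w₁₃ := cokernel.condition _
  h₀ := kernelIsKernel _
  h₃ := cokernelIsCokernel _
  L₁_exact := hS.exact
  epi_L₁_g := hS.epi_g
  L₂_exact := hS.exact
  mono_L₂_f := hS.mono_f

variable (P : ObjectProperty 𝒜) [WSerre.IsWeakSerre P]

/-- In an exact sequence `A ⟶ B ⟶ C ⟶ D ⟶ 0` with `A`, `B`, `D` in a weak Serre subcategory,
`C` is in it. -/
theorem prop_of_exact_four {A B C D : 𝒜} (δ : A ⟶ B) (f : B ⟶ C) (g : C ⟶ D) (w₁ : δ ≫ f = 0)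
    (w₂ : f ≫ g = 0) (h₁ : (ShortComplex.mk δ f w₁).Exact) (h₂ : (ShortComplex.mk f g w₂).Exact)
    [Epi g] (hA : P A) (hB : P B) (hD : P D) : P C := by
  have hK : P (cokernel δ) := P.prop_cokernel δ hA hB
  let fbar : cokernel δ ⟶ C := cokernel.desc δ f w₁
  haveI : Mono fbar := h₁.mono_cokernelDesc
  have w₃ : fbar ≫ g = 0 := by
    rw [← cancel_epi (cokernel.π δ), cokernel.π_desc_assoc, w₂, comp_zero]
  let φ : ShortComplex.mk f g w₂ ⟶ ShortComplex.mk fbar g w₃ :=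
    { τ₁ := cokernel.π δ
      τ₂ := 𝟙 _
      τ₃ := 𝟙 _
      comm₁₂ := by
        show cokernel.π δ ≫ fbar = f ≫ 𝟙 _
        rw [cokernel.π_desc, Category.comp_id]
      comm₂₃ := by
        show 𝟙 _ ≫ g = g ≫ 𝟙 _
        rw [Category.id_comp, Category.comp_id] }
  haveI : Epi φ.τ₁ := inferInstanceAs (Epi (cokernel.π δ))
  haveI : IsIso φ.τ₂ := inferInstanceAs (IsIso (𝟙 C))
  haveI : Mono φ.τ₃ := inferInstanceAs (Mono (𝟙 D))
  have h₃ : (ShortComplex.mk fbar g w₃).Exact :=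
    (ShortComplex.exact_iff_of_epi_of_isIso_of_mono φ).1 h₂
  have hSE : (ShortComplex.mk fbar g w₃).ShortExact :=
    { exact := h₃
      mono_f := inferInstanceAs (Mono fbar)
      epi_g := inferInstanceAs (Epi g) }
  exact P.prop_X₂_of_shortExact hSE hK hD

/-- **Quotient of an extension**: in a short exact sequence `0 ⟶ F ⟶ G ⟶ H ⟶ 0`, if `F/mF`,
`H/mH` and `H[m]` lie in a weak Serre subcategory then so does `G/mG`. -/
theorem exists_isQuot_prop (m : Λ) (S : ShortComplex 𝒜) (hS : S.ShortExact)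
    (hF : ∃ (Q : 𝒜) (p : S.X₁ ⟶ Q), IsQuot (Ideal.span {m}) p ∧ P Q)
    (hH : ∃ (Q : 𝒜) (p : S.X₃ ⟶ Q), IsQuot (Ideal.span {m}) p ∧ P Q)
    (hK : P (kernel (m • 𝟙 S.X₃ : S.X₃ ⟶ S.X₃))) :
    ∃ (Q : 𝒜) (p : S.X₂ ⟶ Q), IsQuot (Ideal.span {m}) p ∧ P Q := by
  let T := snk m S hS
  refine ⟨T.L₃.X₂, T.v₂₃.τ₂, isQuot_of_isColimit_smul m _ T.w₁₃_τ₂ T.h₃τ₂, ?_⟩
  obtain ⟨QF, pF, hpF, hQF⟩ := hF
  obtain ⟨QH, pH, hpH, hQH⟩ := hH
  have h1 : P T.L₃.X₁ := by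
    obtain ⟨e, -⟩ := nonempty_iso_of_isQuot (Ideal.span {m}) pF T.v₂₃.τ₁ hpF
      (isQuot_of_isColimit_smul m _ T.w₁₃_τ₁ T.h₃τ₁)
    exact P.prop_of_iso e hQF
  have h3 : P T.L₃.X₃ := by
    obtain ⟨e, -⟩ := nonempty_iso_of_isQuot (Ideal.span {m}) pH T.v₂₃.τ₃ hpH
      (isQuot_of_isColimit_smul m _ T.w₁₃_τ₃ T.h₃τ₃)
    exact P.prop_of_iso e hQH
  have h0 : P T.L₀.X₃ := by
    have e : T.L₀.X₃ ≅ kernel (m • 𝟙 S.X₃ : S.X₃ ⟶ S.X₃) :=
      IsLimit.conePointUniqueUpToIso T.h₀τ₃ (limit.isLimit _)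
    exact P.prop_of_iso e.symm hK
  haveI : Epi T.L₂.g := hS.epi_g
  haveI : Epi T.L₃.g := inferInstance
  exact prop_of_exact_four P T.δ T.L₃.f T.L₃.g T.δ_L₃_f T.L₃.zero T.L₂'_exact T.L₃_exact h0 h1 h3

section tower

variable (I : Ideal Λ) (G : 𝒜) (Qn : ℕ → 𝒜) (pn : ∀ n, G ⟶ Qn n)
  (hp : ∀ n, IsQuot (I ^ (n + 1)) (pn n))

include hp in
lemma exists_trans (n : ℕ) : ∃ t : Qn (n + 1) ⟶ Qn n, pn (n + 1) ≫ t = pn n := by
  have hk : HomKilledBy (I ^ (n + 1 + 1)) (pn n) := by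
    intro b hb
    rw [← comp_smul_id, (hp n).1 b (Ideal.pow_le_pow_right (Nat.le_succ (n + 1)) hb), comp_zero]
  obtain ⟨t, ht, -⟩ := (hp (n + 1)).2 _ (pn n) hk
  exact ⟨t, ht⟩

include hp in
/-- A family of quotient maps modulo the powers of `I` assembles into a tower. -/
theorem exists_tower :
    ∃ (Q : ℕᵒᵖ ⥤ 𝒜) (p : (Functor.const ℕᵒᵖ).obj G ⟶ Q),
      (∀ n : ℕ, IsQuot (I ^ (n + 1)) (p.app (op n))) ∧
      ∀ n : ℕ, Nonempty (Q.obj (op n) ≅ Qn n) := by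
  choose t ht using exists_trans I G Qn pn hp
  let Q : ℕᵒᵖ ⥤ 𝒜 := Functor.ofOpSequence t
  let p : (Functor.const ℕᵒᵖ).obj G ⟶ Q :=
    NatTrans.ofOpSequence (fun n => pn n) (by
      intro n
      show 𝟙 G ≫ pn n = pn (n + 1) ≫ Q.map (homOfLE (n.le_add_right 1)).op
      have : Q.map (homOfLE (n.le_add_right 1)).op = t n :=
        Functor.ofOpSequence_map_homOfLE_succ t n
      rw [this, Category.id_comp]
      exact (ht n).symm)
  exact ⟨Q, p, fun n => hp n, fun n => ⟨Iso.refl _⟩⟩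

end tower

end Groth.Agent.Lib.Helper4.EX
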