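import Mathlib

/-!
# Extensions of `a`-adically complete modules (helper4)

An extension of `a`-adically separated and complete modules is separated and complete as soon as
the quotient has bounded `a`-power torsion.
-/

set_option linter.style.haveILetI false
set_option linter.unusedSectionVars false
set_option autoImplicit false
universe w v

namespace Groth.Agent.Lib.Helper4.EX

variable {Λ : Type w} [CommRing Λ] (a : Λ)

/-- Divisibility by `a^k`. -/
def DivBy {M : Type v} [AddCommGroup M] [Module Λ M] (k : ℕ) (x : M) : Prop :=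
  ∃ y : M, x = a ^ k • y

section basic

variable {M : Type v} [AddCommGroup M] [Module Λ M]

lemma DivBy.zero (k : ℕ) : DivBy a k (0 : M) := ⟨0, by rw [smul_zero]⟩

lemma DivBy.add {k : ℕ} {x y : M} (hx : DivBy a k x) (hy : DivBy a k y) : DivBy a k (x + y) := by
  obtain ⟨u, rfl⟩ := hx
  obtain ⟨v, rfl⟩ := hy
  exact ⟨u + v, by rw [smul_add]⟩

lemma DivBy.neg {k : ℕ} {x : M} (hx : DivBy a k x) : DivBy a k (-x) := by
  obtain ⟨u, rfl⟩ := hx
  exact ⟨-u, by rw [smul_neg]⟩

lemma DivBy.sub {k : ℕ} {x y : M} (hx : DivBy a k x) (hy : DivBy a k y) : DivBy a k (x - y) := by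
  rw [sub_eq_add_neg]
  exact hx.add a (hy.neg a)

lemma DivBy.mono {k l : ℕ} (h : k ≤ l) {x : M} (hx : DivBy a l x) : DivBy a k x := by
  obtain ⟨u, rfl⟩ := hx
  refine ⟨a ^ (l - k) • u, ?_⟩
  rw [smul_smul, ← pow_add, Nat.add_sub_cancel' h]

lemma DivBy.smul_pow (k : ℕ) (x : M) : DivBy a k (a ^ k • x) := ⟨x, rfl⟩

lemma DivBy.map {M₂ : Type*} [AddCommGroup M₂] [Module Λ M₂] (φ : M →ₗ[Λ] M₂) {k : ℕ} {x : M}
    (hx : DivBy a k x) : DivBy a k (φ x) := by
  obtain ⟨u, rfl⟩ := hx
  exact ⟨φ u, by rw [map_smul]⟩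

/-- A sequence with `a^n ∣ f (n+1) - f n` satisfies `a^m ∣ f n - f m` for `m ≤ n`. -/
lemma DivBy.cauchy (f : ℕ → M) (hf : ∀ n, DivBy a n (f (n + 1) - f n)) {m n : ℕ} (h : m ≤ n) :
    DivBy a m (f n - f m) := by
  induction n, h using Nat.le_induction with
  | base => rw [sub_self]; exact DivBy.zero a m
  | succ n hmn ih =>
    have : f (n + 1) - f m = (f (n + 1) - f n) + (f n - f m) := by abel
    rw [this]
    exact ((hf n).mono a hmn).add a ih

end basic

/-- `a`-adically separated. -/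
def Haus (M : Type v) [AddCommGroup M] [Module Λ M] : Prop :=
  ∀ x : M, (∀ n : ℕ, DivBy a n x) → x = 0

/-- `a`-adically complete (without separatedness). -/
def Precomp (M : Type v) [AddCommGroup M] [Module Λ M] : Prop :=
  ∀ f : ℕ → M, (∀ n, DivBy a n (f (n + 1) - f n)) → ∃ L : M, ∀ n, DivBy a n (f n - L)

variable {M' M M'' : Type v} [AddCommGroup M'] [Module Λ M'] [AddCommGroup M] [Module Λ M]
  [AddCommGroup M''] [Module Λ M''] (i : M' →ₗ[Λ] M) (π : M →ₗ[Λ] M'')
  (hi : Function.Injective i) (hπ : Function.Surjective π)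
  (hex : ∀ x : M, π x = 0 → ∃ x' : M', i x' = x) (hπi : ∀ x' : M', π (i x') = 0)
  (c : ℕ) (hc : ∀ (k : ℕ) (x : M''), a ^ k • x = 0 → a ^ c • x = 0)

include hi hex hπi hc in
/-- Artin–Rees for bounded torsion: `M' ∩ a^(n+c) M ⊆ a^n M'`. -/
lemma divBy_of_divBy_add (n : ℕ) (x' : M') (h : DivBy a (n + c) (i x')) : DivBy a n x' := by
  obtain ⟨y, hy⟩ := h
  have h1 : a ^ (n + c) • π y = 0 := by rw [← map_smul, ← hy, hπi]
  have h2 : a ^ c • π y = 0 := hc _ _ h1
  obtain ⟨z, hz⟩ := hex (a ^ c • y) (by rw [map_smul, h2])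
  refine ⟨z, hi ?_⟩
  rw [hy, map_smul, hz, smul_smul, ← pow_add]

include hi hex hπi hc in
theorem haus_of_exact (h' : Haus a M') (h'' : Haus a M'') : Haus a M := by
  intro x hx
  have h1 : π x = 0 := h'' _ (fun n => (hx n).map a π)
  obtain ⟨x', rfl⟩ := hex x h1
  have h2 : x' = 0 := h' _ (fun n => divBy_of_divBy_add a i π hi hex hπi c hc n x' (hx (n + c)))
  rw [h2, map_zero]

include hi hπ hex hπi hc in
theorem precomp_of_exact (h' : Precomp a M') (h'' : Precomp a M'') : Precomp a M := by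
  intro f hf
  -- the limit of the image sequence
  obtain ⟨L'', hL''⟩ := h'' (fun n => π (f n)) (fun n => by
    have := (hf n).map a π
    rwa [map_sub] at this)
  obtain ⟨z, hz⟩ := hπ L''
  choose u hu using hL''
  choose w hw using fun n => hπ (u n)
  -- correct the sequence into the submodule
  let y : ℕ → M := fun n => f n - z - a ^ n • w n
  have hy0 : ∀ n, π (y n) = 0 := by
    intro n
    show π (f n - z - a ^ n • w n) = 0
    rw [map_sub, map_sub, map_smul, hw, hz, hu n, sub_self]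
  choose y' hy' using fun n => hex (y n) (hy0 n)
  have hyC : ∀ n, DivBy a n (y (n + 1) - y n) := by
    intro n
    have : y (n + 1) - y n = (f (n + 1) - f n) - a ^ (n + 1) • w (n + 1) + a ^ n • w n := by
      show (f (n + 1) - z - a ^ (n + 1) • w (n + 1)) - (f n - z - a ^ n • w n) = _
      abel
    rw [this]
    exact ((hf n).sub a ((DivBy.smul_pow a (n + 1) _).mono a (Nat.le_succ n))).add a
      (DivBy.smul_pow a n _)
  -- the corrected sequence is Cauchy in `M'` after a shift
  let h : ℕ → M' := fun k => y' (k + c)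
  have hh : ∀ k, DivBy a k (h (k + 1) - h k) := by
    intro k
    apply divBy_of_divBy_add a i π hi hex hπi c hc k
    rw [map_sub]
    show DivBy a (k + c) (i (y' (k + 1 + c)) - i (y' (k + c)))
    rw [hy', hy']
    have := hyC (k + c)
    rwa [show k + c + 1 = k + 1 + c by omega] at this
  obtain ⟨L', hL'⟩ := h' h hh
  refine ⟨i L' + z, fun n => ?_⟩
  have e : f n - (i L' + z) =
      (y n - y (n + c)) + i (h n - L') + a ^ n • w n := by
    rw [map_sub]
    show _ = (y n - y (n + c)) + (i (y' (n + c)) - i L') + a ^ n • w n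
    rw [hy']
    show f n - (i L' + z) = ((f n - z - a ^ n • w n) - y (n + c)) + (y (n + c) - i L') + a ^ n • w n
    abel
  rw [e]
  refine ((?_ : DivBy a n (y n - y (n + c))).add a ((hL' n).map a i)).add a (DivBy.smul_pow a n _)
  have := (DivBy.cauchy a y hyC (Nat.le_add_right n c)).neg a
  rwa [neg_sub] at this

end Groth.Agent.Lib.Helper4.EX
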