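import Groth.Agent.Lib.Helper4.DC15
import Groth.Agent.Lib.Helper4.DC19
import Groth.Agent.Lib.Helper4.EX2

/-!
# Completeness of a tower of quotients through sections over weakly contractible objects (helper4)
-/

set_option linter.style.haveILetI false
set_option linter.unusedSectionVars false
set_option autoImplicit false
open CategoryTheory CategoryTheory.Limits AlgebraicGeometry Opposite
universe u

namespace Groth.Agent.Lib.Helper4.EX

open Groth.Agent.Lib.Helper4.DC

variable {Λ : Type (u + 1)} [CommRing Λ] {Z : Scheme.{u}} (a : Λ)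

lemma mem_span_pow_smul_top_iff {M : Type*} [AddCommGroup M] [Module Λ M] (n : ℕ) (x : M) :
    x ∈ (Ideal.span {a}) ^ n • (⊤ : Submodule Λ M) ↔ DivBy a n x := by
  rw [Ideal.span_singleton_pow, Submodule.ideal_span_singleton_smul]
  constructor
  · intro h
    obtain ⟨y, _, rfl⟩ := (Submodule.mem_smul_pointwise_iff_exists _ _ _).1 h
    exact ⟨y, rfl⟩
  · rintro ⟨y, rfl⟩
    exact Submodule.smul_mem_pointwise_smul _ _ _ trivial

section tower

variable (F : EtModW.ModP Λ Z) (Q : ℕᵒᵖ ⥤ EtModW.ModP Λ Z) (p : (Functor.const ℕᵒᵖ).obj F ⟶ Q)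
  (hp : ∀ n : ℕ, ARSys.IsQuot ((Ideal.span {a}) ^ (n + 1)) (p.app (op n)))

include hp in
lemma pn_surjective (V : Z.ProEt) (hV : ProEtS.IsWC V) (n : ℕ) :
    Function.Surjective ((GammaV Λ V).map (p.app (op n))).hom :=
  (sections_of_isQuot' _ ((Submodule.fg_span_singleton a).pow _) (p.app (op n)) (hp n) V hV).1

include hp in
lemma pn_eq_zero_iff (V : Z.ProEt) (hV : ProEtS.IsWC V) (n : ℕ) (x : (GammaV Λ V).obj F) :
    ((GammaV Λ V).map (p.app (op n))).hom x = 0 ↔ DivBy a (n + 1) x := by
  have h := (sections_of_isQuot' _ ((Submodule.fg_span_singleton a).pow _) (p.app (op n)) (hp n)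
    V hV).2
  rw [← mem_span_pow_smul_top_iff]
  change x ∈ LinearMap.ker ((p.app (op n)).hom.app (op V)).hom ↔ _
  rw [h]

lemma pn_tr (V : Z.ProEt) {k m : ℕ} (h : k ≤ m) (x : (GammaV Λ V).obj F) :
    trD (Q ⋙ GammaV Λ V) h (((GammaV Λ V).map (p.app (op m))).hom x) =
      ((GammaV Λ V).map (p.app (op k))).hom x := by
  have h1 : p.app (op m) ≫ Q.map (homOfLE h).op = p.app (op k) := by
    have := p.naturality (homOfLE h).op
    simp only [Functor.const_obj_obj, Functor.const_obj_map, Category.id_comp] at this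
    exact this.symm
  have h2 : (GammaV Λ V).map (p.app (op m)) ≫ (GammaV Λ V).map (Q.map (homOfLE h).op) =
      (GammaV Λ V).map (p.app (op k)) := by
    rw [← Functor.map_comp, h1]
  exact congrArg (fun φ : (GammaV Λ V).obj F ⟶ (GammaV Λ V).obj (Q.obj (op k)) => φ.hom x) h2

include hp in
/-- A complete tower gives separated and complete sections over weakly contractible objects. -/
theorem haus_precomp_of_isIso (hiso : IsIso (limit.lift Q (Cone.mk F p)))
    (V : Z.ProEt) (hV : ProEtS.IsWC V) :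
    Haus a ((GammaV Λ V).obj F) ∧ Precomp a ((GammaV Λ V).obj F) := by
  haveI : PreservesLimitsOfSize.{0, 0} (GammaV Λ V) :=
    preservesLimitsOfSize_shrink.{0, u + 1, 0, u + 1} _
  haveI : IsIso ((limit.isLimit Q).lift (Cone.mk F p)) := hiso
  have hl : IsLimit (Cone.mk F p) := IsLimit.ofPointIso (limit.isLimit Q)
  have hc : IsLimit ((GammaV Λ V).mapCone (Cone.mk F p)) := isLimitOfPreserves (GammaV Λ V) hl
  constructor
  · intro x hx
    apply ext_of_isLimit (Q ⋙ GammaV Λ V) hc
    intro k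
    rw [map_zero]
    exact (pn_eq_zero_iff a F Q p hp V hV k x).2 (hx (k + 1))
  · intro f hf
    obtain ⟨(L : (GammaV Λ V).obj F), hL⟩ := exists_of_compat (Q ⋙ GammaV Λ V) hc
      (fun k => ((GammaV Λ V).map (p.app (op k))).hom (f (k + 1))) (by
        intro k
        rw [pn_tr F Q p V (Nat.le_succ k) (f (k + 1 + 1))]
        have := (pn_eq_zero_iff a F Q p hp V hV k (f (k + 1 + 1) - f (k + 1))).2 (hf (k + 1))
        rw [map_sub, sub_eq_zero] at this
        exact this)
    refine ⟨L, fun n => ?_⟩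
    cases n with
    | zero => exact ⟨f 0 - L, by rw [pow_zero, one_smul]⟩
    | succ k =>
      apply (pn_eq_zero_iff a F Q p hp V hV k _).1
      rw [map_sub, sub_eq_zero]
      exact (hL k).symm

include hp in
/-- Conversely, separated and complete sections make the tower complete. -/
theorem isIso_of_haus_precomp
    (h : ∀ V : Z.ProEt, ProEtS.IsWC V →
      Haus a ((GammaV Λ V).obj F) ∧ Precomp a ((GammaV Λ V).obj F)) :
    IsIso (limit.lift Q (Cone.mk F p)) := by
  apply isIso_of_bijective_wc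
  intro V hV
  haveI : PreservesLimitsOfSize.{0, 0} (GammaV Λ V) :=
    preservesLimitsOfSize_shrink.{0, u + 1, 0, u + 1} _
  have hc : IsLimit ((GammaV Λ V).mapCone (limit.cone Q)) :=
    isLimitOfPreserves (GammaV Λ V) (limit.isLimit Q)
  have hfac : ∀ (n : ℕ) (x : (GammaV Λ V).obj F),
      prD (Q ⋙ GammaV Λ V) ((GammaV Λ V).mapCone (limit.cone Q)) n
        (((GammaV Λ V).map (limit.lift Q (Cone.mk F p))).hom x) =
        ((GammaV Λ V).map (p.app (op n))).hom x := by
    intro n x
    have h2 : (GammaV Λ V).map (limit.lift Q (Cone.mk F p)) ≫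
        (GammaV Λ V).map (limit.π Q (op n)) = (GammaV Λ V).map (p.app (op n)) := by
      rw [← Functor.map_comp, limit.lift_π]
    exact congrArg (fun φ : (GammaV Λ V).obj F ⟶ (GammaV Λ V).obj (Q.obj (op n)) => φ.hom x) h2
  obtain ⟨hH, hP⟩ := h V hV
  constructor
  · rw [injective_iff_map_eq_zero]
    intro x hx
    apply hH
    intro n
    have h1 : ((GammaV Λ V).map (p.app (op n))).hom x = 0 := by
      rw [← hfac, hx, map_zero]
    exact ((pn_eq_zero_iff a F Q p hp V hV n x).1 h1).mono a (Nat.le_succ n)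
  · intro z
    have hs : ∀ n : ℕ, ∃ x : (GammaV Λ V).obj F, ((GammaV Λ V).map (p.app (op n))).hom x =
        prD (Q ⋙ GammaV Λ V) ((GammaV Λ V).mapCone (limit.cone Q)) n z :=
      fun n => pn_surjective a F Q p hp V hV n _
    choose g hg using hs
    have hgg : ∀ n, DivBy a (n + 1) (g (n + 1) - g n) := by
      intro n
      apply (pn_eq_zero_iff a F Q p hp V hV n _).1
      rw [map_sub, sub_eq_zero, hg n, ← pn_tr F Q p V (Nat.le_succ n), hg (n + 1), trD_prD]
    obtain ⟨L, hL⟩ := hP g (fun n => (hgg n).mono a (Nat.le_succ n))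
    refine ⟨L, ?_⟩
    apply ext_of_isLimit (Q ⋙ GammaV Λ V) hc
    intro n
    rw [hfac]
    have h1 := (pn_eq_zero_iff a F Q p hp V hV n _).2 (hL (n + 1))
    rw [map_sub, sub_eq_zero] at h1
    rw [← h1, ← pn_tr F Q p V (Nat.le_succ n), hg (n + 1), trD_prD]

end tower

end Groth.Agent.Lib.Helper4.EX
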