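import Mathlib

/-!
# Subsheaves of constant sheaves of modules on a site (helper4)

Sections of constant sheaves are locally constant; a subsheaf of a constant sheaf of modules is
constant over an object where its "constant part" is maximal.
-/

set_option linter.style.haveILetI false
set_option linter.unusedSectionVars false
set_option autoImplicit false
open CategoryTheory CategoryTheory.Limits Opposite
universe w v' u'

namespace Groth.Agent.Lib.Helper4.NC

variable {C : Type u'} [Category.{v'} C] (J : GrothendieckTopology C)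
variable {Λ : Type w} [CommRing Λ]
variable [HasWeakSheafify J (ModuleCat.{w} Λ)] [J.WEqualsLocallyBijective (ModuleCat.{w} Λ)]
  [J.HasSheafCompose (forget (ModuleCat.{w} Λ))]

/-- The constant presheaf. -/
abbrev cstP (M : ModuleCat.{w} Λ) : Cᵒᵖ ⥤ ModuleCat.{w} Λ := (Functor.const Cᵒᵖ).obj M

/-- The constant sheaf. -/
noncomputable abbrev KK (M : ModuleCat.{w} Λ) : Sheaf J (ModuleCat.{w} Λ) :=
  (constantSheaf J (ModuleCat.{w} Λ)).obj M

/-- Constant sections of the constant sheaf. -/
noncomputable def cst (M : ModuleCat.{w} Λ) (W : C) : M ⟶ (KK J M).obj.obj (op W) :=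
  (toSheafify J (cstP M)).app (op W)

lemma cst_map (M : ModuleCat.{w} Λ) {W W' : C} (f : W' ⟶ W) (m : M) :
    ((KK J M).obj.map f.op).hom ((cst J M W).hom m) = (cst J M W').hom m := by
  have h := (toSheafify J (cstP M)).naturality f.op
  have h2 := congrArg (fun φ : (cstP M).obj (op W) ⟶ (sheafify J (cstP M)).obj (op W') =>
    φ.hom m) h
  exact h2.symm

/-- Sections of a constant sheaf are locally constant. -/
lemma cst_locally (M : ModuleCat.{w} Λ) (W : C) (t : (KK J M).obj.obj (op W)) :
    ∃ S ∈ J W, ∀ ⦃W' : C⦄ (f : W' ⟶ W), S f →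
      ∃ m : M, (cst J M W').hom m = ((KK J M).obj.map f.op).hom t := by
  refine ⟨Presheaf.imageSieve (toSheafify J (cstP M)) t,
    Presheaf.imageSieve_mem J (toSheafify J (cstP M)) t, ?_⟩
  intro W' f hf
  obtain ⟨m, hm⟩ := hf
  exact ⟨m, hm⟩

/-- Two constants with the same constant section are equal, locally. -/
lemma cst_eq_locally (M : ModuleCat.{w} Λ) (W : C) (m m' : M)
    (h : (cst J M W).hom m = (cst J M W).hom m') :
    ∃ S ∈ J W, ∀ ⦃W' : C⦄ (f : W' ⟶ W), S f → m = m' := by
  refine ⟨Presheaf.equalizerSieve (F := cstP M) (X := op W) m m',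
    Presheaf.equalizerSieve_mem J (toSheafify J (cstP M)) m m' h, ?_⟩
  intro W' f hf
  exact hf

/-- Monomorphisms of sheaves of modules are injective on sections. -/
lemma injective_app_of_mono {H K : Sheaf J (ModuleCat.{w} Λ)} (b : H ⟶ K) [Mono b] (W : C) :
    Function.Injective (b.hom.app (op W)).hom := by
  haveI : Mono b.hom := (sheafToPresheaf J (ModuleCat.{w} Λ)).map_mono b
  haveI : Mono (b.hom.app (op W)) := inferInstance
  exact (ModuleCat.mono_iff_injective _).1 inferInstance

/-- Sections of sheaves over an object covered by the empty sieve are unique. -/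
lemma eq_of_bot_mem (H : Sheaf J (ModuleCat.{w} Λ)) {W : C} (hW : ⊥ ∈ J W)
    (x y : H.obj.obj (op W)) : x = y :=
  (Sheaf.isSeparated H) W ⊥ hW x y (fun _ _ hf => hf.elim)

/-- The submodule of constants whose constant section over `W` comes from the subsheaf. -/
noncomputable def Msub {M : ModuleCat.{w} Λ} {H : Sheaf J (ModuleCat.{w} Λ)} (b : H ⟶ KK J M)
    (W : C) : Submodule Λ M :=
  (LinearMap.range (b.hom.app (op W)).hom).comap (cst J M W).hom

lemma mem_Msub {M : ModuleCat.{w} Λ} {H : Sheaf J (ModuleCat.{w} Λ)} (b : H ⟶ KK J M)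
    (W : C) (m : M) :
    m ∈ Msub J b W ↔ ∃ h : H.obj.obj (op W), (b.hom.app (op W)).hom h = (cst J M W).hom m :=
  Iff.rfl

lemma Msub_mono {M : ModuleCat.{w} Λ} {H : Sheaf J (ModuleCat.{w} Λ)} (b : H ⟶ KK J M)
    {W W' : C} (f : W' ⟶ W) : Msub J b W ≤ Msub J b W' := by
  intro m hm
  rw [mem_Msub] at hm ⊢
  obtain ⟨h, hh⟩ := hm
  refine ⟨(H.obj.map f.op).hom h, ?_⟩
  have hn := congrArg (fun φ : H.obj.obj (op W) ⟶ (KK J M).obj.obj (op W') => φ.hom h)
    (b.hom.naturality f.op)
  rw [← cst_map J M f m, ← hh]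
  exact hn

end Groth.Agent.Lib.Helper4.NC
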