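import Mathlib
import Groth.Agent.Lib.Helper4.NC1

/-!
# Subsheaves of constant sheaves of modules are constant over a suitable object (helper4)
-/

set_option linter.style.haveILetI false
set_option linter.unusedSectionVars false
set_option autoImplicit false
open CategoryTheory CategoryTheory.Limits Opposite
universe w v' u'

namespace Groth.Agent.Lib.Helper4.NC

section iso

variable {D : Type u'} [Category.{v'} D] (K : GrothendieckTopology D)
variable {Λ : Type w} [CommRing Λ]
variable [HasWeakSheafify K (ModuleCat.{w} Λ)] [K.WEqualsLocallyBijective (ModuleCat.{w} Λ)]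

/-- A locally bijective morphism from a presheaf to a sheaf identifies the sheaf with the
sheafification of the presheaf. -/
noncomputable def isoOfLocallyBijective {P : Dᵒᵖ ⥤ ModuleCat.{w} Λ}
    (H : Sheaf K (ModuleCat.{w} Λ)) (α : P ⟶ H.obj) [Presheaf.IsLocallyInjective K α]
    [Presheaf.IsLocallySurjective K α] : (presheafToSheaf K (ModuleCat.{w} Λ)).obj P ≅ H :=
  haveI : IsIso ((presheafToSheaf K (ModuleCat.{w} Λ)).map α) :=
    (K.W_iff α).1 (K.W_of_isLocallyBijective α)
  asIso ((presheafToSheaf K (ModuleCat.{w} Λ)).map α) ≪≫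
    asIso ((sheafificationAdjunction K (ModuleCat.{w} Λ)).counit.app H)

end iso

variable {C : Type u'} [Category.{v'} C] (J : GrothendieckTopology C)
variable {Λ : Type w} [CommRing Λ]
variable [HasWeakSheafify J (ModuleCat.{w} Λ)] [J.WEqualsLocallyBijective (ModuleCat.{w} Λ)]
  [J.HasSheafCompose (forget (ModuleCat.{w} Λ))]
variable [∀ Y : C, HasWeakSheafify (J.over Y) (ModuleCat.{w} Λ)]
  [∀ Y : C, (J.over Y).WEqualsLocallyBijective (ModuleCat.{w} Λ)]
  [∀ Y : C, (J.over Y).HasSheafCompose (forget (ModuleCat.{w} Λ))]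

lemma b_cst_map {M : ModuleCat.{w} Λ} {H : Sheaf J (ModuleCat.{w} Λ)} (b : H ⟶ KK J M)
    {W W' : C} (f : W' ⟶ W) (h : H.obj.obj (op W)) (m : M)
    (hh : (b.hom.app (op W)).hom h = (cst J M W).hom m) :
    (b.hom.app (op W')).hom ((H.obj.map f.op).hom h) = (cst J M W').hom m := by
  have hn := congrArg (fun φ : H.obj.obj (op W) ⟶ (KK J M).obj.obj (op W') => φ.hom h)
    (b.hom.naturality f.op)
  rw [← cst_map J M f m, ← hh]
  exact hn

lemma b_map {H K : Sheaf J (ModuleCat.{w} Λ)} (b : H ⟶ K)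
    {W W' : C} (f : W' ⟶ W) (h : H.obj.obj (op W)) :
    (b.hom.app (op W')).hom ((H.obj.map f.op).hom h) =
      (K.obj.map f.op).hom ((b.hom.app (op W)).hom h) :=
  congrArg (fun φ : H.obj.obj (op W) ⟶ K.obj.obj (op W') => φ.hom h) (b.hom.naturality f.op)

/-- A subsheaf of a constant sheaf is constant over an object where its constant part is maximal. -/
theorem core_iso {M : ModuleCat.{w} Λ} {H : Sheaf J (ModuleCat.{w} Λ)} (b : H ⟶ KK J M) [Mono b]
    (𝒩 : C → Prop) (h1 : ∀ W, ¬ 𝒩 W → ⊥ ∈ J W) (Y₀ : C)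
    (hmax : ∀ W, 𝒩 W → Msub J b W ≤ Msub J b Y₀) :
    Nonempty (H.over Y₀ ≅
      (constantSheaf (J.over Y₀) (ModuleCat.{w} Λ)).obj (ModuleCat.of Λ (Msub J b Y₀))) := by
  have hinj := injective_app_of_mono J b
  choose a₀ ha₀ using fun x : Msub J b Y₀ => (mem_Msub J b Y₀ x.1).1 x.2
  let a₀L : Msub J b Y₀ →ₗ[Λ] H.obj.obj (op Y₀) :=
    { toFun := a₀
      map_add' := fun x y => hinj Y₀ (by
        rw [map_add, ha₀, ha₀, ha₀]
        simp)
      map_smul' := fun r x => hinj Y₀ (by
        rw [map_smul, ha₀, ha₀]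
        simp) }
  let α : cstP (ModuleCat.of Λ (Msub J b Y₀)) ⟶ (H.over Y₀).obj :=
    { app := fun W => ModuleCat.ofHom a₀L ≫ H.obj.map (W.unop.hom.op)
      naturality := by
        intro W W' g
        show (𝟙 _) ≫ (ModuleCat.ofHom a₀L ≫ H.obj.map W'.unop.hom.op) =
          (ModuleCat.ofHom a₀L ≫ H.obj.map W.unop.hom.op) ≫ H.obj.map g.unop.left.op
        rw [Category.id_comp, Category.assoc, ← H.obj.map_comp, ← op_comp, Over.w g.unop] }
  have hα : ∀ (W : Over Y₀) (x : Msub J b Y₀),
      (b.hom.app (op W.left)).hom ((α.app (op W)).hom x) = (cst J M W.left).hom x.1 :=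
    fun W x => b_cst_map J b W.hom (a₀ x) x.1 (ha₀ x)
  haveI : Presheaf.IsLocallyInjective (J.over Y₀) α := by
    constructor
    intro W x x' hxx'
    have hc : (cst J M W.unop.left).hom x.1 = (cst J M W.unop.left).hom x'.1 := by
      rw [← hα W.unop x, ← hα W.unop x']
      exact congrArg _ hxx'
    obtain ⟨S, hS, hSeq⟩ := cst_eq_locally J M W.unop.left x.1 x'.1 hc
    refine (J.over Y₀).superset_covering ?_ (J.overEquiv_symm_mem_over W.unop S hS)
    intro W' g hg
    rw [Sieve.overEquiv_symm_iff] at hg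
    have : x = x' := Subtype.ext (hSeq g.left hg)
    subst this
    rfl
  haveI : Presheaf.IsLocallySurjective (J.over Y₀) α := by
    constructor
    intro W s
    obtain ⟨S, hS, hSc⟩ := cst_locally J M W.left ((b.hom.app (op W.left)).hom s)
    refine (J.over Y₀).superset_covering ?_ (J.overEquiv_symm_mem_over W S hS)
    intro W' g hg
    rw [Sieve.overEquiv_symm_iff] at hg
    obtain ⟨m, hm⟩ := hSc g.left hg
    by_cases hN : 𝒩 W'.left
    · have hm' : m ∈ Msub J b W'.left := by
        rw [mem_Msub]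
        exact ⟨(H.obj.map g.left.op).hom s, by rw [b_map, hm]⟩
      have hm0 : m ∈ Msub J b Y₀ := hmax _ hN hm'
      refine ⟨⟨m, hm0⟩, ?_⟩
      apply hinj W'.left
      rw [hα W' ⟨m, hm0⟩, hm]
      exact (b_map J b g.left s).symm
    · exact ⟨0, eq_of_bot_mem J H (h1 _ hN) _ _⟩
  exact ⟨(isoOfLocallyBijective (J.over Y₀) (H.over Y₀) α).symm⟩

/-- Two subsheaves of a constant sheaf, one inside the other, agree over an object where the
constant part of the small one dominates all constant parts of the big one. -/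
theorem core_chain {M : ModuleCat.{w} Λ} {H H' : Sheaf J (ModuleCat.{w} Λ)} (b : H ⟶ KK J M)
    (b' : H' ⟶ KK J M) (i : H ⟶ H') (hi : i ≫ b' = b) [Mono b] [Mono b']
    (𝒩 : C → Prop) (h1 : ∀ W, ¬ 𝒩 W → ⊥ ∈ J W) (Y₀ : C)
    (hmax : ∀ W, 𝒩 W → Msub J b' W ≤ Msub J b Y₀) :
    IsIso ((J.overPullback (ModuleCat.{w} Λ) Y₀).map i) := by
  have hinj := injective_app_of_mono J b
  have hinj' := injective_app_of_mono J b'
  have hib : ∀ (W : C) (h : H.obj.obj (op W)),
      (b'.hom.app (op W)).hom ((i.hom.app (op W)).hom h) = (b.hom.app (op W)).hom h := by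
    intro W h
    have := congrArg (fun φ : H ⟶ KK J M => (φ.hom.app (op W)).hom h) hi
    exact this
  rw [← Sheaf.isLocallyBijective_iff_isIso (A := ModuleCat.{w} Λ)]
  constructor
  · apply Presheaf.isLocallyInjective_of_injective
    intro W x y hxy
    apply hinj W.unop.left
    rw [← hib, ← hib]
    exact congrArg _ hxy
  · constructor
    intro W s
    obtain ⟨S, hS, hSc⟩ := cst_locally J M W.left ((b'.hom.app (op W.left)).hom s)
    refine (J.over Y₀).superset_covering ?_ (J.overEquiv_symm_mem_over W S hS)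
    intro W' g hg
    rw [Sieve.overEquiv_symm_iff] at hg
    obtain ⟨m, hm⟩ := hSc g.left hg
    by_cases hN : 𝒩 W'.left
    · have hm' : m ∈ Msub J b' W'.left := by
        rw [mem_Msub]
        exact ⟨(H'.obj.map g.left.op).hom s, by rw [b_map, hm]⟩
      have hm0 : m ∈ Msub J b Y₀ := hmax _ hN hm'
      rw [mem_Msub] at hm0
      obtain ⟨h₀, hh₀⟩ := hm0
      refine ⟨(H.obj.map W'.hom.op).hom h₀, ?_⟩
      apply hinj' W'.left
      have e1 := b_cst_map J b W'.hom h₀ m hh₀
      have e2 := hib W'.left ((H.obj.map W'.hom.op).hom h₀)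
      refine e2.trans (e1.trans ?_)
      rw [hm]
      exact (b_map J b' g.left s).symm
    · exact ⟨0, eq_of_bot_mem J H' (h1 _ hN) _ _⟩

end Groth.Agent.Lib.Helper4.NC
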