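import Mathlib
import Groth.Agent.Lib.Helper4.NC2

/-!
# Chains of subsheaves of a constant sheaf on a Noetherian module stabilise generically (helper4)
-/

set_option linter.style.haveILetI false
set_option linter.unusedSectionVars false
set_option autoImplicit false
open CategoryTheory CategoryTheory.Limits Opposite
universe w v' u'

namespace Groth.Agent.Lib.Helper4.NC

variable {C : Type u'} [Category.{v'} C] (J : GrothendieckTopology C)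
variable {Λ : Type w} [CommRing Λ]
variable [HasWeakSheafify J (ModuleCat.{w} Λ)] [J.WEqualsLocallyBijective (ModuleCat.{w} Λ)]
  [J.HasSheafCompose (forget (ModuleCat.{w} Λ))]
variable [∀ Y : C, HasWeakSheafify (J.over Y) (ModuleCat.{w} Λ)]
  [∀ Y : C, (J.over Y).WEqualsLocallyBijective (ModuleCat.{w} Λ)]
  [∀ Y : C, (J.over Y).HasSheafCompose (forget (ModuleCat.{w} Λ))]

/-- Among a directed class of objects there is one where the constant part of a subsheaf of a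
constant sheaf on a Noetherian module is the largest. -/
theorem exists_max {M : ModuleCat.{w} Λ} [IsNoetherian Λ M] {H : Sheaf J (ModuleCat.{w} Λ)}
    (b : H ⟶ KK J M) (𝒩 : C → Prop) (hne : ∃ W, 𝒩 W)
    (h2 : ∀ W₁ W₂, 𝒩 W₁ → 𝒩 W₂ → ∃ W₃, 𝒩 W₃ ∧ Nonempty (W₃ ⟶ W₁) ∧ Nonempty (W₃ ⟶ W₂)) :
    ∃ Y₀, 𝒩 Y₀ ∧ ∀ W, 𝒩 W → Msub J b W ≤ Msub J b Y₀ := by
  let 𝒮 : Set (Submodule Λ M) := {N | ∃ W, 𝒩 W ∧ N = Msub J b W}
  have hS : 𝒮.Nonempty := by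
    obtain ⟨W, hW⟩ := hne
    exact ⟨_, W, hW, rfl⟩
  obtain ⟨N₀, ⟨Y₀, hY₀, rfl⟩, hmax⟩ :=
    (wellFounded_gt : WellFounded ((· > ·) : Submodule Λ M → Submodule Λ M → Prop)).has_min 𝒮 hS
  refine ⟨Y₀, hY₀, fun W hW => ?_⟩
  obtain ⟨W₃, hW₃, ⟨f₁⟩, ⟨f₂⟩⟩ := h2 W Y₀ hW hY₀
  have h3 : Msub J b Y₀ ≤ Msub J b W₃ := Msub_mono J b f₂
  have h4 : Msub J b W₃ = Msub J b Y₀ := by
    by_contra hne'
    exact hmax _ ⟨W₃, hW₃, rfl⟩ (lt_of_le_of_ne h3 (Ne.symm hne'))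
  exact (Msub_mono J b f₁).trans h4.le

/-- A subsheaf of a constant sheaf on a Noetherian module is constant over some object of any
directed class of objects outside of which objects are covered by the empty sieve. -/
theorem exists_iso_const {M : ModuleCat.{w} Λ} [IsNoetherian Λ M] {H : Sheaf J (ModuleCat.{w} Λ)}
    (b : H ⟶ KK J M) [Mono b] (𝒩 : C → Prop) (h1 : ∀ W, ¬ 𝒩 W → ⊥ ∈ J W) (hne : ∃ W, 𝒩 W)
    (h2 : ∀ W₁ W₂, 𝒩 W₁ → 𝒩 W₂ → ∃ W₃, 𝒩 W₃ ∧ Nonempty (W₃ ⟶ W₁) ∧ Nonempty (W₃ ⟶ W₂)) :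
    ∃ Y₀, 𝒩 Y₀ ∧ ∃ N : Submodule Λ M, Nonempty (H.over Y₀ ≅
      (constantSheaf (J.over Y₀) (ModuleCat.{w} Λ)).obj (ModuleCat.of Λ N)) := by
  obtain ⟨Y₀, hY₀, hmax⟩ := exists_max J b 𝒩 hne h2
  exact ⟨Y₀, hY₀, _, core_iso J b 𝒩 h1 Y₀ hmax⟩

/-- An increasing sequence of subsheaves of a constant sheaf on a Noetherian module is stationary
over some object of a directed class. -/
theorem core_chain_stab {M : ModuleCat.{w} Λ} [IsNoetherian Λ M]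
    (H : ℕ → Sheaf J (ModuleCat.{w} Λ)) (b : ∀ k, H k ⟶ KK J M) [∀ k, Mono (b k)]
    (i : ∀ k, H k ⟶ H (k + 1)) (hi : ∀ k, i k ≫ b (k + 1) = b k)
    (𝒩 : C → Prop) (h1 : ∀ W, ¬ 𝒩 W → ⊥ ∈ J W) (hne : ∃ W, 𝒩 W)
    (h2 : ∀ W₁ W₂, 𝒩 W₁ → 𝒩 W₂ → ∃ W₃, 𝒩 W₃ ∧ Nonempty (W₃ ⟶ W₁) ∧ Nonempty (W₃ ⟶ W₂)) :
    ∃ Y₀, 𝒩 Y₀ ∧ ∃ k₀ : ℕ, ∀ k, k₀ ≤ k →
      IsIso ((J.overPullback (ModuleCat.{w} Λ) Y₀).map (i k)) := by
  choose Y hY hYmax using fun k => exists_max J (b k) 𝒩 hne h2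
  have hstep : ∀ k W, Msub J (b k) W ≤ Msub J (b (k + 1)) W := by
    intro k W m hm
    rw [mem_Msub] at hm ⊢
    obtain ⟨h, hh⟩ := hm
    refine ⟨((i k).hom.app (op W)).hom h, ?_⟩
    rw [← hh]
    exact congrArg (fun φ : H k ⟶ KK J M => (φ.hom.app (op W)).hom h) (hi k)
  have hmono : ∀ k l, k ≤ l → ∀ W, Msub J (b k) W ≤ Msub J (b l) W := by
    intro k l hkl W
    induction l, hkl using Nat.le_induction with
    | base => exact le_rfl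
    | succ l _ ih => exact ih.trans (hstep l W)
  let N : ℕ →o Submodule Λ M :=
    ⟨fun k => Msub J (b k) (Y k), monotone_nat_of_le_succ
      (fun k => (hstep k (Y k)).trans (hYmax (k + 1) (Y k) (hY k)))⟩
  obtain ⟨k₀, hk₀⟩ := monotone_stabilizes_iff_noetherian.2 (inferInstance : IsNoetherian Λ M) N
  refine ⟨Y k₀, hY k₀, k₀, fun k hk => ?_⟩
  refine core_chain J (b k) (b (k + 1)) (i k) (hi k) 𝒩 h1 (Y k₀) (fun W hW => ?_)
  calc Msub J (b (k + 1)) W ≤ N (k + 1) := hYmax (k + 1) W hW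
    _ = N k₀ := (hk₀ (k + 1) (by omega)).symm
    _ ≤ Msub J (b k) (Y k₀) := hmono k₀ k hk (Y k₀)

end Groth.Agent.Lib.Helper4.NC
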