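import Mathlib
import Groth.Agent.Lib.Helper4.NC3
import Groth.Agent.Lib.Helper4.CM1

/-!
# Subsheaves of constant sheaves of modules on an irreducible scheme (helper4)
-/

set_option linter.style.haveILetI false
set_option linter.unusedSectionVars false
set_option autoImplicit false
open CategoryTheory CategoryTheory.Limits AlgebraicGeometry Opposite
universe u

namespace Groth.Agent.Lib.Helper4.NC

open Groth.Agent.Lib.Helper4.CM

variable (Λ : Type (u + 1)) [CommRing Λ] {T : Scheme.{u}}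

/-- The class of nonempty étale `T`-schemes. -/
def NE (W : T.Etale) : Prop := Nonempty W.left

lemma bot_mem_of_not_NE (W : T.Etale) (h : ¬ NE W) : ⊥ ∈ T.smallEtaleTopology W := by
  have hE : IsEmpty W.left := not_nonempty_iff.1 h
  have h1 : Sieve.ofArrows (fun i : PEmpty.{1} => (i.elim : T.Etale))
      (fun i => (i.elim : _ ⟶ W)) ∈ T.smallEtaleTopology W := by
    rw [Scheme.ofArrows_mem_smallEtaleTopology_iff]
    ext w
    exact isEmptyElim w
  have h2 : Sieve.ofArrows (fun i : PEmpty.{1} => (i.elim : T.Etale))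
      (fun i => (i.elim : _ ⟶ W)) = ⊥ := by
    rw [eq_bot_iff]
    rintro Z g ⟨_, _, _, ⟨i⟩, _⟩
    exact i.elim
  rwa [h2] at h1

lemma exists_common [IrreducibleSpace T] (W₁ W₂ : T.Etale) (h₁ : NE W₁) (h₂ : NE W₂) :
    ∃ W₃ : T.Etale, NE W₃ ∧ Nonempty (W₃ ⟶ W₁) ∧ Nonempty (W₃ ⟶ W₂) := by
  obtain ⟨w₁⟩ := h₁
  obtain ⟨w₂⟩ := h₂
  have o₁ : IsOpen (Set.range W₁.hom.base) := W₁.hom.isOpenMap.isOpen_range
  have o₂ : IsOpen (Set.range W₂.hom.base) := W₂.hom.isOpenMap.isOpen_range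
  obtain ⟨t, -, ⟨a, ha⟩, ⟨b, hb⟩⟩ :=
    (PreirreducibleSpace.isPreirreducible_univ (X := T)) _ _ o₁ o₂
      ⟨_, trivial, w₁, rfl⟩ ⟨_, trivial, w₂, rfl⟩
  obtain ⟨z, -, -⟩ := Scheme.Pullback.exists_preimage_pullback a b (ha.trans hb.symm)
  exact ⟨Scheme.Etale.mk (pullback.fst W₁.hom W₂.hom ≫ W₁.hom), ⟨z⟩,
    ⟨MorphismProperty.Over.homMk (pullback.fst _ _) rfl trivial⟩,
    ⟨MorphismProperty.Over.homMk (pullback.snd _ _) pullback.condition.symm trivial⟩⟩

variable [IsNoetherianRing Λ] [IrreducibleSpace T]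

/-- On an irreducible scheme, a subsheaf of a constant sheaf on a finite module is constant on
some nonempty étale scheme. -/
theorem exists_restr_const (M : ModuleCat.{u + 1} Λ) [Module.Finite Λ M] (H : EtModW.Mod Λ T)
    (b : H ⟶ (constantSheaf T.smallEtaleTopology (ModuleCat.{u + 1} Λ)).obj M) [Mono b] :
    ∃ Y₀ : T.Etale, Nonempty Y₀.left ∧ ∃ N : Submodule Λ M,
      Nonempty (EtModW.restr Λ H Y₀ ≅
        (constantSheaf (T.smallEtaleTopology.over Y₀) (ModuleCat.{u + 1} Λ)).obj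
          (ModuleCat.of Λ N)) := by
  haveI : IsNoetherian Λ M := isNoetherian_of_isNoetherianRing_of_finite Λ M
  exact exists_iso_const T.smallEtaleTopology b NE bot_mem_of_not_NE
    ⟨EtCoh.top T, (inferInstance : Nonempty T)⟩ exists_common

/-- On an irreducible scheme, an increasing sequence of subsheaves of a constant sheaf on a finite
module is stationary on some nonempty étale scheme. -/
theorem exists_chain_stab (M : ModuleCat.{u + 1} Λ) [Module.Finite Λ M]
    (H : ℕ → EtModW.Mod Λ T)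
    (b : ∀ k, H k ⟶ (constantSheaf T.smallEtaleTopology (ModuleCat.{u + 1} Λ)).obj M)
    [∀ k, Mono (b k)] (i : ∀ k, H k ⟶ H (k + 1)) (hi : ∀ k, i k ≫ b (k + 1) = b k) :
    ∃ Y₀ : T.Etale, Nonempty Y₀.left ∧ ∃ k₀ : ℕ, ∀ k, k₀ ≤ k →
      IsIso ((EtModW.pull Λ Y₀.hom).map (i k)) := by
  haveI : IsNoetherian Λ M := isNoetherian_of_isNoetherianRing_of_finite Λ M
  obtain ⟨Y₀, hY₀, k₀, hk₀⟩ := core_chain_stab T.smallEtaleTopology H b i hi NE bot_mem_of_not_NE
    ⟨EtCoh.top T, (inferInstance : Nonempty T)⟩ exists_common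
  refine ⟨Y₀, hY₀, k₀, fun k hk => ?_⟩
  haveI := hk₀ k hk
  have h1 : IsIso ((resM Λ Y₀.hom).map (i k)) := by
    have : IsIso ((shEquivM Λ Y₀).inverse.map
        ((T.smallEtaleTopology.overPullback (ModuleCat.{u + 1} Λ) Y₀).map (i k))) := inferInstance
    exact this
  exact (NatIso.isIso_map_iff (pullIsoResM Λ Y₀.hom) (i k)).2 h1

end Groth.Agent.Lib.Helper4.NC
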