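import Mathlib
import Groth.Agent.Lib.Helper22.Strata.Noeth
import Groth.Agent.Lib.Helper4.CM2

/-!
# Noetherian induction for stratifications, general property (helper4)

Generalisation of helper22's `stIn_of_generic_flc` to an arbitrary stable property of morphisms,
and some topological preliminaries on irreducible opens.
-/

set_option linter.style.haveILetI false
set_option linter.unusedSectionVars false
set_option autoImplicit false
open CategoryTheory CategoryTheory.Limits AlgebraicGeometry Opposite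
universe u

namespace Groth.Agent.Lib.Helper4.NC

open Groth.Agent.Lib.Helper22.Strata Set Topology TopologicalSpace

/-- A space embedded with irreducible range is irreducible. -/
lemma irreducibleSpace_of_isEmbedding {A B : Type*} [TopologicalSpace A] [TopologicalSpace B]
    (f : A → B) (hf : IsEmbedding f) (h : IsIrreducible (Set.range f)) : IrreducibleSpace A := by
  haveI : IrreducibleSpace (Set.range f) := Subtype.irreducibleSpace h
  exact (hf.toHomeomorph.irreducibleSpace_iff).2 inferInstance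

/-- A nonempty locally Noetherian scheme has an irreducible open subscheme. -/
lemma exists_irreducible_open (V : Scheme.{u}) [IsLocallyNoetherian V] [Nonempty V] :
    ∃ U : V.Opens, IrreducibleSpace (U : Scheme.{u}) := by
  obtain ⟨v⟩ := ‹Nonempty V›
  obtain ⟨A, hA, hvA, -⟩ := Opens.isBasis_iff_nbhd.1 V.isBasis_affineOpens
    (show v ∈ (⊤ : V.Opens) from trivial)
  haveI hN : NoetherianSpace ↥(A : Set V) := by
    have := IsLocallyNoetherian.component_noetherian (X := V) ⟨A, hA⟩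
    exact noetherianSpace_of_isAffineOpen A hA
  let y₀ : ↥(A : Set V) := ⟨v, hvA⟩
  have H : irreducibleComponent y₀ ∈ irreducibleComponents ↥(A : Set V) :=
    irreducibleComponent_mem_irreducibleComponents y₀
  obtain ⟨o, ho, hne, hsub⟩ :=
    NoetherianSpace.exists_isOpen_nonempty_subset_irreducibleComponent _ H
  have hirr : IsIrreducible o :=
    ⟨hne, (isIrreducible_irreducibleComponent (x := y₀)).isPreirreducible.open_subset ho hsub⟩
  have hO : IsOpen ((Subtype.val : ↥(A : Set V) → V) '' o) :=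
    A.isOpen.isOpenEmbedding_subtypeVal.isOpenMap o ho
  have hirr' : IsIrreducible ((Subtype.val : ↥(A : Set V) → V) '' o) :=
    hirr.image _ continuous_subtype_val.continuousOn
  let U : V.Opens := ⟨_, hO⟩
  refine ⟨U, irreducibleSpace_of_isEmbedding U.ι.base U.ι.isOpenEmbedding.isEmbedding ?_⟩
  rw [Scheme.Opens.range_ι]
  exact hirr'

variable {X : Scheme.{u}}

/-- **Noetherian induction for stratifications**, for a stable property of morphisms. -/
theorem stIn_of_generic [IsLocallyNoetherian X] (P : MorProp X) (hP : P.Stable)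
    (H : ∀ x : X, ∃ (V : X.Opens) (T : Scheme.{u}) (g : T ⟶ X), IsImmersion g ∧ x ∈ V ∧
      Set.range g = (V : Set X) ∩ closure {x} ∧ P g)
    (V₀ : X.Opens) (hV₀ : IsAffineOpen V₀) : StIn P (V₀ : Set X) (V₀ : Set X) := by
  have hN : NoetherianSpace ↥(V₀ : Set X) := by
    have := IsLocallyNoetherian.component_noetherian (X := X) ⟨V₀, hV₀⟩
    exact noetherianSpace_of_isAffineOpen V₀ hV₀
  have hqs : QuasiSeparatedSpace ↥(V₀ : Set X) := quasiSeparatedSpace_of_isAffineOpen hV₀
  have hembV : IsOpenEmbedding (Subtype.val : ↥(V₀ : Set X) → X) :=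
    V₀.isOpen.isOpenEmbedding_subtypeVal
  have hsobV : QuasiSober ↥(V₀ : Set X) := hembV.quasiSober
  have key : ∀ Z : Closeds ↥(V₀ : Set X),
      StIn P (V₀ : Set X) ((Subtype.val : ↥(V₀ : Set X) → X) '' (Z : Set ↥(V₀ : Set X))) := by
    intro Z
    induction Z using WellFoundedLT.induction with
    | ind Z IH =>
    by_cases hZ : (Z : Set ↥(V₀ : Set X)) = ∅
    · rw [hZ, image_empty]
      exact StIn.empty
    have hne : Nonempty ↥(Z : Set ↥(V₀ : Set X)) := by
      obtain ⟨z, hz⟩ := Set.nonempty_iff_ne_empty.2 hZ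
      exact ⟨⟨z, hz⟩⟩
    have hNY : NoetherianSpace ↥(Z : Set ↥(V₀ : Set X)) := IsInducing.subtypeVal.noetherianSpace
    have hsobY : QuasiSober ↥(Z : Set ↥(V₀ : Set X)) :=
      Z.isClosed.isClosedEmbedding_subtypeVal.quasiSober
    obtain ⟨x, o, ho, hxo, hsub⟩ :=
      exists_open_subset_closure_singleton (Y := ↥(Z : Set ↥(V₀ : Set X)))
    obtain ⟨V, T, g, hg, hxV, hrange, hflc⟩ := H x.1.1
    obtain ⟨o₁, ho₁, rfl⟩ := isOpen_induced_iff.1 ho
    obtain ⟨O₁, hO₁, rfl⟩ := isOpen_induced_iff.1 ho₁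
    obtain ⟨C, hC, hCZ⟩ := isClosed_induced_iff.1 Z.isClosed
    let O₂ : X.Opens := ⟨O₁ ∩ (V : Set X) ∩ (V₀ : Set X), (hO₁.inter V.isOpen).inter V₀.isOpen⟩
    have hZX : (Subtype.val : ↥(V₀ : Set X) → X) '' (Z : Set ↥(V₀ : Set X)) = C ∩ (V₀ : Set X) := by
      rw [← hCZ, Subtype.image_preimage_coe, inter_comm]
    have hxO₂ : x.1.1 ∈ (O₂ : Set X) := ⟨⟨hxo, hxV⟩, x.1.2⟩
    have hW_sub : (O₂ : Set X) ∩ C ⊆ Set.range g := by
      rintro p ⟨⟨⟨hp1, hpV⟩, hp0⟩, hpC⟩
      rw [hrange]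
      refine ⟨hpV, ?_⟩
      have hpZ : (⟨p, hp0⟩ : ↥(V₀ : Set X)) ∈ (Z : Set ↥(V₀ : Set X)) := by
        rw [← hCZ]; exact hpC
      have hy : (⟨⟨p, hp0⟩, hpZ⟩ : ↥(Z : Set ↥(V₀ : Set X))) ∈ closure {x} := hsub hp1
      have hcont : Continuous (fun y : ↥(Z : Set ↥(V₀ : Set X)) => (y.1.1 : X)) :=
        continuous_subtype_val.comp continuous_subtype_val
      have := image_closure_subset_closure_image hcont (s := {x}) ⟨_, hy, rfl⟩
      simpa using this
    have St_W : StIn P (V₀ : Set X) ((O₂ : Set X) ∩ C) := by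
      have h0 := StIn.single (P := P) (V := (V₀ : Set X)) g (CIn_range_of_noetherian g) hflc
      have h1 := h0.inter_range hP O₂.ι (by
        rw [Scheme.Opens.range_ι]; exact CIn_of_isOpen_of_noetherian O₂.isOpen)
      rw [Scheme.Opens.range_ι] at h1
      obtain ⟨Tc, c, hc, hcr⟩ := exists_closedImmersion_range C hC
      have h2 := h1.inter_range hP c (by
        rw [hcr]; exact CIn_of_isClosed_of_noetherian hC)
      rw [hcr] at h2
      have : Set.range g ∩ (O₂ : Set X) ∩ C = (O₂ : Set X) ∩ C := by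
        rw [inter_assoc]
        exact inter_eq_right.2 hW_sub
      rwa [this] at h2
    let Z' : Closeds ↥(V₀ : Set X) :=
      ⟨(Z : Set ↥(V₀ : Set X)) ∩ ((Subtype.val : ↥(V₀ : Set X) → X) ⁻¹' (O₂ : Set X))ᶜ,
        Z.isClosed.inter (O₂.isOpen.preimage continuous_subtype_val).isClosed_compl⟩
    have hlt : Z' < Z := by
      refine lt_of_le_of_ne (fun z hz => hz.1) ?_
      intro heq
      have hxZ' : x.1 ∈ (Z' : Set ↥(V₀ : Set X)) := by rw [heq]; exact x.2
      exact hxZ'.2 hxO₂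
    have St_Z' := IH Z' hlt
    have hZ'X : (Subtype.val : ↥(V₀ : Set X) → X) '' (Z' : Set ↥(V₀ : Set X)) =
        C ∩ (V₀ : Set X) ∩ (O₂ : Set X)ᶜ := by
      ext p
      constructor
      · rintro ⟨z, ⟨hzZ, hzO⟩, rfl⟩
        have : z.1 ∈ C ∩ (V₀ : Set X) := by rw [← hZX]; exact ⟨z, hzZ, rfl⟩
        exact ⟨this, hzO⟩
      · rintro ⟨hpCV, hpO⟩
        rw [← hZX] at hpCV
        obtain ⟨z, hzZ, rfl⟩ := hpCV
        exact ⟨z, ⟨hzZ, hpO⟩, rfl⟩
    have hO₂V : (O₂ : Set X) ⊆ (V₀ : Set X) := fun p hp => hp.2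
    have hunion : (Subtype.val : ↥(V₀ : Set X) → X) '' (Z : Set ↥(V₀ : Set X)) =
        ((O₂ : Set X) ∩ C) ∪ (Subtype.val : ↥(V₀ : Set X) → X) '' (Z' : Set ↥(V₀ : Set X)) := by
      rw [hZ'X, hZX]
      ext p
      simp only [mem_inter_iff, mem_union, mem_compl_iff]
      constructor
      · rintro ⟨hC, hV⟩
        by_cases hp : p ∈ (O₂ : Set X)
        · exact Or.inl ⟨hp, hC⟩
        · exact Or.inr ⟨⟨hC, hV⟩, hp⟩
      · rintro (⟨hp, hC⟩ | ⟨⟨hC, hV⟩, -⟩)
        · exact ⟨hC, hO₂V hp⟩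
        · exact ⟨hC, hV⟩
    rw [hunion]
    refine St_W.union_disjoint St_Z' ?_
    rw [hZ'X, Set.disjoint_left]
    rintro p ⟨hp, -⟩ ⟨-, hpn⟩
    exact hpn hp
  have := key ⊤
  simpa using this

end Groth.Agent.Lib.Helper4.NC
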