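import Mathlib
import Groth.Prelude.Def_EtMod2
import Groth.Agent.Lib.Helper4.MT4
import Groth.Agent.Lib.Helper4.CM4
import Groth.Agent.Lib.Helper22.EtStalk.Pull
import Groth.Agent.Lib.Helper22.EtStalk.Conservative

/-!
# Geometric stalks of sheaves of modules on the small étale site (helper4)
-/

set_option linter.style.haveILetI false
set_option linter.unusedSectionVars false
set_option autoImplicit false
open CategoryTheory CategoryTheory.Limits AlgebraicGeometry Opposite
universe u

namespace Groth.Agent.Lib.Helper4.ST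

open Groth.Agent.Lib.Helper4.MT Groth.Agent.Lib.Helper22.EtStalk

noncomputable section

variable (Λ : Type (u + 1)) [CommRing Λ]

instance hasLimitsSmallM : HasLimitsOfSize.{u, u} (ModuleCat.{u + 1} Λ) :=
  hasLimitsOfSizeShrink.{u, u, u + 1, u + 1} _

instance hasProductsM : HasProducts.{u} (ModuleCat.{u + 1} Λ) := fun _ => inferInstance

instance ab5SmallM : AB5OfSize.{u, u} (ModuleCat.{u + 1} Λ) :=
  AB5OfSize_of_univLE.{u, u, u + 1, u + 1} (ModuleCat.{u + 1} Λ)

instance presFiltUU : PreservesFilteredColimitsOfSize.{u, u} (UU Λ) :=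
  preservesFilteredColimitsOfSize_shrink.{u, u + 1, u, u + 1} _

instance presFiltForgetM : PreservesFilteredColimitsOfSize.{u, u} (forget (ModuleCat.{u + 1} Λ)) :=
  preservesFilteredColimitsOfSize_shrink.{u, u + 1, u, u + 1} _

variable {X : Scheme.{u}} {Ω : Type u} [Field Ω] [IsSepClosed Ω]
  (ξ : Spec (CommRingCat.of Ω) ⟶ X)

instance stalkM_preservesFiniteLimits : PreservesFiniteLimits (EtModW.stalk Λ ξ) :=
  inferInstanceAs (PreservesFiniteLimits ((Scheme.pointSmallEtale ξ).sheafFiber
    (A := ModuleCat.{u + 1} Λ)))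

instance stalkM_preservesFiniteColimits : PreservesFiniteColimits (EtModW.stalk Λ ξ) :=
  inferInstanceAs (PreservesFiniteColimits ((Scheme.pointSmallEtale ξ).sheafFiber
    (A := ModuleCat.{u + 1} Λ)))

theorem stalkM_map_add {A B : EtModW.Mod Λ X} (ψ ψ' : A ⟶ B) :
    (EtModW.stalk Λ ξ).map (ψ + ψ') = (EtModW.stalk Λ ξ).map ψ + (EtModW.stalk Λ ξ).map ψ' := by
  show (Scheme.pointSmallEtale ξ).presheafFiber.map (ψ + ψ').hom =
    (Scheme.pointSmallEtale ξ).presheafFiber.map ψ.hom +
      (Scheme.pointSmallEtale ξ).presheafFiber.map ψ'.hom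
  apply (Scheme.pointSmallEtale ξ).presheafFiber_hom_ext
  intro V x
  rw [Preadditive.comp_add, GrothendieckTopology.Point.toPresheafFiber_naturality,
    GrothendieckTopology.Point.toPresheafFiber_naturality,
    GrothendieckTopology.Point.toPresheafFiber_naturality, ← Preadditive.add_comp]
  rfl

instance stalkM_additive : (EtModW.stalk Λ ξ).Additive where
  map_add := stalkM_map_add Λ ξ _ _

/-- The stalk functor is `Λ`-linear. -/
theorem stalkM_map_smul (a : Λ) {A B : EtModW.Mod Λ X} (ψ : A ⟶ B) :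
    (EtModW.stalk Λ ξ).map (a • ψ) = a • (EtModW.stalk Λ ξ).map ψ := by
  show (Scheme.pointSmallEtale ξ).presheafFiber.map (a • ψ).hom =
    a • (Scheme.pointSmallEtale ξ).presheafFiber.map ψ.hom
  apply (Scheme.pointSmallEtale ξ).presheafFiber_hom_ext
  intro V x
  rw [Linear.comp_smul, GrothendieckTopology.Point.toPresheafFiber_naturality,
    GrothendieckTopology.Point.toPresheafFiber_naturality, ← Linear.smul_comp]
  rfl

/-- The stalk of the underlying abelian sheaf is the underlying group of the stalk. -/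
def stalkΦIso : Φ (Λ := Λ) X.smallEtaleTopology ⋙ EtCoh.stalk ξ ≅ EtModW.stalk Λ ξ ⋙ UU Λ :=
  (Scheme.pointSmallEtale ξ).sheafFiberCompIso (UU Λ)

/-- A sheaf of modules all of whose geometric stalks vanish is zero. -/
theorem isZero_of_stalksM (M : EtModW.Mod Λ X)
    (h : ∀ (Ω : Type u) [Field Ω] [IsSepClosed Ω] (ξ : Spec (CommRingCat.of Ω) ⟶ X),
      IsZero ((EtModW.stalk Λ ξ).obj M)) : IsZero M := by
  rw [IsZero.iff_id_eq_zero]
  apply (Φ (Λ := Λ) X.smallEtaleTopology).map_injective
  rw [CategoryTheory.Functor.map_id, Functor.map_zero, ← IsZero.iff_id_eq_zero]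
  apply isZero_of_stalks
  intro Ω _ _ ξ
  have e := (stalkΦIso Λ ξ).app M
  exact (Functor.map_isZero (UU Λ) (h Ω ξ)).of_iso e

end

end Groth.Agent.Lib.Helper4.ST
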