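import Mathlib
import Groth.Agent.Lib.Helper4.ST1
import Groth.Agent.Lib.Helper4.CM1
import Groth.Agent.Lib.Helper22.EtStalk.IsoStalks
import Groth.Agent.Lib.Helper22.EtStalk.ClosedOpen

/-!
# Stalks of pullbacks, of constant sheaves and of constructible sheaves of modules (helper4)
-/

set_option linter.style.haveILetI false
set_option linter.unusedSectionVars false
set_option autoImplicit false
open CategoryTheory CategoryTheory.Limits AlgebraicGeometry Opposite
universe u

namespace Groth.Agent.Lib.Helper4.ST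

open Groth.Agent.Lib.Helper4.MT Groth.Agent.Lib.Helper22.EtStalk

noncomputable section

variable (Λ : Type (u + 1)) [CommRing Λ]

/-- Isomorphic points have isomorphic stalk functors (module coefficients). -/
def sheafFiberIsoOfIsoM {Y : Scheme.{u}}
    {Φ₁ Φ₂ : GrothendieckTopology.Point.{u} Y.smallEtaleTopology} (e : Φ₁ ≅ Φ₂) :
    Φ₂.sheafFiber (A := ModuleCat.{u + 1} Λ) ≅ Φ₁.sheafFiber where
  hom := GrothendieckTopology.Point.Hom.sheafFiber e.hom
  inv := GrothendieckTopology.Point.Hom.sheafFiber e.inv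
  hom_inv_id := by
    rw [← GrothendieckTopology.Point.Hom.sheafFiber_comp, e.inv_hom_id,
      GrothendieckTopology.Point.Hom.sheafFiber_id]
  inv_hom_id := by
    rw [← GrothendieckTopology.Point.Hom.sheafFiber_comp, e.hom_inv_id,
      GrothendieckTopology.Point.Hom.sheafFiber_id]

variable {X Y : Scheme.{u}} (f : X ⟶ Y) {Ω : Type u} [Field Ω] [IsSepClosed Ω]
  (ξ : Spec (CommRingCat.of Ω) ⟶ X)

/-- The stalk of `f^* G` at `ξ` is the stalk of `G` at `ξ ≫ f` (module coefficients). -/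
def stalkPullIsoM : EtModW.pull Λ f ⋙ EtModW.stalk Λ ξ ≅ EtModW.stalk Λ (ξ ≫ f) :=
  ((Scheme.pointSmallEtale ξ).sheafFiberComapIso (EtCoh.bc f) (EtCoh.coverPreserving_bc f)
      (ModuleCat.{u + 1} Λ)).symm ≪≫
    (sheafFiberIsoOfIsoM Λ (comapPointIso f ξ)).symm

/-- The fibre of a constant presheaf of modules at a point is its value. -/
def presheafFiberConstIsoM (M : ModuleCat.{u + 1} Λ) :
    (Scheme.pointSmallEtale ξ).presheafFiber.obj ((Functor.const (X.Etale)ᵒᵖ).obj M) ≅ M :=
  haveI : IsConnected ((Scheme.pointSmallEtale ξ).fiber.Elementsᵒᵖ) := IsFiltered.isConnected _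
  ((Scheme.pointSmallEtale ξ).isColimitPresheafFiberCocone
    ((Functor.const (X.Etale)ᵒᵖ).obj M)).coconePointUniqueUpToIso
      (isColimitConstCocone ((Scheme.pointSmallEtale ξ).fiber.Elementsᵒᵖ) M)

/-- The stalk of a constant sheaf of modules at a geometric point is its value. -/
def stalkConstIsoM (M : ModuleCat.{u + 1} Λ) :
    (EtModW.stalk Λ ξ).obj
      ((constantSheaf X.smallEtaleTopology (ModuleCat.{u + 1} Λ)).obj M) ≅ M :=
  ((Scheme.pointSmallEtale ξ).presheafToSheafCompSheafFiberIso (ModuleCat.{u + 1} Λ)).app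
    ((Functor.const (X.Etale)ᵒᵖ).obj M) ≪≫ presheafFiberConstIsoM Λ ξ M

end

section finite

variable (Λ : Type (u + 1)) [CommRing Λ]

/-- A geometric point whose image lies in the range of an immersion factors through it. -/
lemma exists_factor_of_isImmersion {T X : Scheme.{u}} (g : T ⟶ X) [IsImmersion g] {Ω : Type u}
    [Field Ω] (ξ : Spec (CommRingCat.of Ω) ⟶ X) (h : ξ.base default ∈ Set.range g.base) :
    ∃ ζ : Spec (CommRingCat.of Ω) ⟶ T, ζ ≫ g = ξ := by
  obtain ⟨t, ht⟩ := h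
  have hgt : g.coborderRange.ι.base (g.liftCoborder.base t) = g.base t := by
    rw [← Scheme.Hom.comp_apply, g.liftCoborder_ι]
  rcases factors_or_disjoint g.coborderRange.ι ξ with ⟨ξ', hξ'⟩ | hdis
  · rcases ClosedOpen.factors_or_disjoint_closed g.liftCoborder ξ' with ⟨ζ, hζ⟩ | hd
    · exact ⟨ζ, by rw [← g.liftCoborder_ι, ← Category.assoc, hζ, hξ']⟩
    · exfalso
      have h1 : g.coborderRange.ι.base (ξ'.base default) =
          g.coborderRange.ι.base (g.liftCoborder.base t) := by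
        rw [hgt, ht, ← hξ']
        rfl
      have h2 : ξ'.base default = g.liftCoborder.base t :=
        g.coborderRange.ι.isOpenEmbedding.injective h1
      exact Set.disjoint_left.1 hd ⟨default, rfl⟩ ⟨t, h2.symm⟩
  · exfalso
    have h3 : ξ.base default ∈ Set.range g.coborderRange.ι.base :=
      ⟨g.liftCoborder.base t, by rw [hgt, ht]⟩
    exact hdis ⟨default, rfl⟩ h3

variable {Ω : Type u} [Field Ω] [IsSepClosed Ω]

/-- A geometric point lifts to some member of an étale covering. -/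
lemma exists_lift_of_covers {T : Scheme.{u}} {ι : Type u} (V : ι → T.Etale) (hV : EtCoh.Covers V)
    (ζ : Spec (CommRingCat.of Ω) ⟶ T) :
    ∃ (i : ι) (l : Spec (CommRingCat.of Ω) ⟶ (V i).left), l ≫ (V i).hom = ζ := by
  obtain ⟨i, y, hy⟩ := hV (ζ.base default)
  obtain ⟨l, hl, -⟩ := Scheme.exists_fac_of_etale_of_isSepClosed (V i).hom ζ y hy
  exact ⟨i, l, hl⟩

/-- If `G` restricted to `V` is constant with value `M`, the stalks of `G` at geometric points
lifting to `V` are `M`. -/
noncomputable def stalkIsoOfRestrConst {T : Scheme.{u}} (G : EtModW.Mod Λ T) (V : T.Etale)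
    (M : ModuleCat.{u + 1} Λ)
    (e' : (EtModW.pull Λ V.hom).obj G ≅
      (constantSheaf (V.left).smallEtaleTopology (ModuleCat.{u + 1} Λ)).obj M)
    (l : Spec (CommRingCat.of Ω) ⟶ V.left) :
    (EtModW.stalk Λ (l ≫ V.hom)).obj G ≅ M :=
  ((stalkPullIsoM Λ V.hom l).app G).symm ≪≫ (EtModW.stalk Λ l).mapIso e' ≪≫
    stalkConstIsoM Λ l M

/-- The stalks of a finite type locally constant sheaf of modules are finite modules. -/
theorem finite_stalk_of_isFTLocConst {T : Scheme.{u}} (G : EtModW.Mod Λ T)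
    (hG : EtModW.IsFTLocConst Λ G) (ζ : Spec (CommRingCat.of Ω) ⟶ T) :
    Module.Finite Λ ((EtModW.stalk Λ ζ).obj G) := by
  obtain ⟨ι, V, hV, hM⟩ := hG
  obtain ⟨i, l, hl⟩ := exists_lift_of_covers V hV ζ
  obtain ⟨M, _, _, hfin, ⟨e⟩⟩ := hM i
  obtain ⟨e'⟩ := (CM.restr_iso_const_iff_M Λ (V i) G (ModuleCat.of Λ M)).1 ⟨e⟩
  subst hl
  exact Module.Finite.equiv (stalkIsoOfRestrConst Λ G (V i) _ e' l).symm.toLinearEquiv

/-- The stalks of a constructible sheaf of modules are finite modules. -/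
theorem finite_stalk_of_isConstructible {X : Scheme.{u}} (F : EtModW.Mod Λ X)
    (hF : EtModW.IsConstructible Λ F) (ξ : Spec (CommRingCat.of Ω) ⟶ X) :
    Module.Finite Λ ((EtModW.stalk Λ ξ).obj F) := by
  obtain ⟨U, hU, hxU, -⟩ := TopologicalSpace.Opens.isBasis_iff_nbhd.1 X.isBasis_affineOpens
    (show ξ.base default ∈ (⊤ : X.Opens) from trivial)
  obtain ⟨n, T, g, himm, -, -, hun, hlc⟩ := hF U hU
  have h1 : ξ.base default ∈ ⋃ i, Set.range (g i) := by rw [hun]; exact hxU
  obtain ⟨i, hi⟩ := Set.mem_iUnion.1 h1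
  haveI := himm i
  obtain ⟨ζ, hζ⟩ := exists_factor_of_isImmersion (g i) ξ hi
  subst hζ
  haveI : Module.Finite Λ ((EtModW.pull Λ (g i) ⋙ EtModW.stalk Λ ζ).obj F) :=
    finite_stalk_of_isFTLocConst Λ _ (hlc i) ζ
  exact Module.Finite.equiv ((stalkPullIsoM Λ (g i) ζ).app F).toLinearEquiv

end finite

end Groth.Agent.Lib.Helper4.ST
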