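import Mathlib
import Groth.Agent.Lib.Helper4.ST3

/-!
# Stalks of finite type locally constant sheaves of modules are locally constant (helper4)
-/

set_option linter.style.haveILetI false
set_option linter.unusedSectionVars false
set_option autoImplicit false
open CategoryTheory CategoryTheory.Limits AlgebraicGeometry Opposite
universe u

namespace Groth.Agent.Lib.Helper4.ST

open Groth.Agent.Lib.Helper4.MT Groth.Agent.Lib.Helper22.EtStalk

variable (Λ : Type (u + 1)) [CommRing Λ] {X : Scheme.{u}}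

/-- Every point of a scheme is the image of a geometric point. -/
lemma exists_geomPoint_at (x : X) :
    ∃ (Ω : Type u) (_ : Field Ω) (_ : IsSepClosed Ω) (ξ : Spec (CommRingCat.of Ω) ⟶ X),
      ξ.base default = x := by
  let Ω := SeparableClosure (X.residueField x)
  let ξ : Spec (CommRingCat.of Ω) ⟶ X := (Scheme.SpecToEquivOfField Ω X).symm
    ⟨x, CommRingCat.ofHom (algebraMap (X.residueField x) Ω)⟩
  have hξ : ξ default = x := by simp [ξ]
  exact ⟨Ω, inferInstance, inferInstance, ξ, hξ⟩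

/-- Around every point, the stalks of a finite type locally constant sheaf of modules at all
geometric points are isomorphic to one fixed module. -/
theorem exists_open_nhd_stalk_const (Q : EtModW.Mod Λ X) (hQ : EtModW.IsFTLocConst Λ Q) (x : X) :
    ∃ W : Set X, IsOpen W ∧ x ∈ W ∧ ∃ M : ModuleCat.{u + 1} Λ,
      ∀ (Ω : Type u) [Field Ω] [IsSepClosed Ω] (ξ : Spec (CommRingCat.of Ω) ⟶ X),
        ξ.base default ∈ W → Nonempty ((EtModW.stalk Λ ξ).obj Q ≅ M) := by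
  obtain ⟨ι, V, hV, hM⟩ := hQ
  obtain ⟨i, y, hy⟩ := hV x
  obtain ⟨M, _, _, _, ⟨e⟩⟩ := hM i
  obtain ⟨e'⟩ := (CM.restr_iso_const_iff_M Λ (V i) Q (ModuleCat.of Λ M)).1 ⟨e⟩
  refine ⟨Set.range (V i).hom.base, (V i).hom.isOpenMap.isOpen_range, ⟨y, hy⟩,
    ModuleCat.of Λ M, ?_⟩
  rintro Ω _ _ ξ ⟨y', hy'⟩
  obtain ⟨l, hl, -⟩ := Scheme.exists_fac_of_etale_of_isSepClosed (V i).hom ξ y' hy'
  subst hl
  exact ⟨stalkIsoOfRestrConst Λ Q (V i) _ e' l⟩

/-- The set of points at which all geometric stalks vanish. -/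
def zeroLocus (Q : EtModW.Mod Λ X) : Set X :=
  {x | ∀ (Ω : Type u) [Field Ω] [IsSepClosed Ω] (ξ : Spec (CommRingCat.of Ω) ⟶ X),
    ξ.base default = x → IsZero ((EtModW.stalk Λ ξ).obj Q)}

theorem isClopen_zeroLocus (Q : EtModW.Mod Λ X) (hQ : EtModW.IsFTLocConst Λ Q) :
    IsClopen (zeroLocus Λ Q) := by
  constructor
  · rw [← isOpen_compl_iff, isOpen_iff_forall_mem_open]
    intro x hx
    obtain ⟨W, hWo, hxW, M, hM⟩ := exists_open_nhd_stalk_const Λ Q hQ x
    refine ⟨W, ?_, hWo, hxW⟩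
    intro y hy hyZ
    apply hx
    intro Ω _ _ ξ hξ
    obtain ⟨e⟩ := hM Ω ξ (hξ ▸ hxW)
    obtain ⟨Ω', _, _, ξ', hξ'⟩ := exists_geomPoint_at y
    obtain ⟨e'⟩ := hM Ω' ξ' (hξ' ▸ hy)
    exact ((hyZ Ω' ξ' hξ').of_iso e'.symm).of_iso e
  · rw [isOpen_iff_forall_mem_open]
    intro x hx
    obtain ⟨W, hWo, hxW, M, hM⟩ := exists_open_nhd_stalk_const Λ Q hQ x
    refine ⟨W, ?_, hWo, hxW⟩
    intro y hy Ω _ _ ξ hξ
    obtain ⟨e⟩ := hM Ω ξ (hξ ▸ hy)
    obtain ⟨Ω', _, _, ξ', hξ'⟩ := exists_geomPoint_at x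
    obtain ⟨e'⟩ := hM Ω' ξ' (hξ' ▸ hxW)
    exact ((hx Ω' ξ' hξ').of_iso e'.symm).of_iso e

/-- If one geometric stalk over `x` vanishes then `x` lies in the zero locus. -/
theorem mem_zeroLocus_of_isZero_stalk (Q : EtModW.Mod Λ X) (hQ : EtModW.IsFTLocConst Λ Q)
    {Ω : Type u} [Field Ω] [IsSepClosed Ω] (s : Spec (CommRingCat.of Ω) ⟶ X)
    (hs : IsZero ((EtModW.stalk Λ s).obj Q)) : s.base default ∈ zeroLocus Λ Q := by
  obtain ⟨W, hWo, hxW, M, hM⟩ := exists_open_nhd_stalk_const Λ Q hQ (s.base default)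
  intro Ω' _ _ ξ hξ
  obtain ⟨e⟩ := hM Ω' ξ (hξ ▸ hxW)
  obtain ⟨e'⟩ := hM Ω s hxW
  exact (hs.of_iso e'.symm).of_iso e

/-- A sheaf whose zero locus is everything is zero. -/
theorem isZero_of_zeroLocus_eq_univ (Q : EtModW.Mod Λ X) (h : zeroLocus Λ Q = Set.univ) :
    IsZero Q := by
  apply isZero_of_stalksM
  intro Ω _ _ ξ
  have : ξ.base default ∈ zeroLocus Λ Q := by rw [h]; trivial
  exact this Ω ξ rfl

/-- On a connected scheme, a finite type locally constant sheaf with one vanishing geometric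
stalk is zero. -/
theorem isZero_of_isFTLocConst_of_isZero_stalk [PreconnectedSpace X] (Q : EtModW.Mod Λ X)
    (hQ : EtModW.IsFTLocConst Λ Q) {Ω : Type u} [Field Ω] [IsSepClosed Ω]
    (s : Spec (CommRingCat.of Ω) ⟶ X) (hs : IsZero ((EtModW.stalk Λ s).obj Q)) : IsZero Q := by
  apply isZero_of_zeroLocus_eq_univ
  apply Set.eq_univ_of_univ_subset
  exact isPreconnected_univ.subset_isClopen (isClopen_zeroLocus Λ Q hQ)
    ⟨s.base default, trivial, mem_zeroLocus_of_isZero_stalk Λ Q hQ s hs⟩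

end Groth.Agent.Lib.Helper4.ST
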