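import Mathlib
import Groth.Agent.Lib.Helper4.NC5
import Groth.Agent.Lib.Helper4.AR2
import Groth.Agent.Lib.Helper4.ST4

/-!
# The generic principle for constructible sheaves of modules (helper4)

To stratify a locally Noetherian scheme by a stable étale-local property of morphisms, relative
to a constructible sheaf `F`, it suffices to treat irreducible schemes on which `F` is constant.
-/

set_option linter.style.haveILetI false
set_option linter.unusedSectionVars false
set_option autoImplicit false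
open CategoryTheory CategoryTheory.Limits AlgebraicGeometry Opposite
universe u

namespace Groth.Agent.Lib.Helper4.NC

open Groth.Agent.Lib.Helper22.Strata Groth.Agent.Lib.Helper4.CM Set Topology TopologicalSpace

variable (Λ : Type (u + 1)) [CommRing Λ]

/-- Pullback along a surjective étale morphism detects isomorphisms. -/
theorem isIso_of_isIso_pull {U Y : Scheme.{u}} (h' : Y ⟶ U) [Etale h']
    (hs : Function.Surjective h'.base) {A B : EtModW.Mod Λ U} (φ : A ⟶ B)
    (hφ : IsIso ((EtModW.pull Λ h').map φ)) : IsIso φ := by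
  have hz : ∀ M : EtModW.Mod Λ U, IsZero ((EtModW.pull Λ h').obj M) → IsZero M := by
    intro M hM
    refine AR.isZero_of_forall_pull Λ (fun _ : Unit => Y) (fun _ => h') ?_ M (fun _ => hM)
    intro Ω _ _ ξ
    obtain ⟨y, hy⟩ := hs (ξ.base default)
    obtain ⟨l, hl, -⟩ := Scheme.exists_fac_of_etale_of_isSepClosed h' ξ y hy
    exact ⟨(), l, hl⟩
  haveI : Mono φ := by
    apply Preadditive.mono_of_isZero_kernel
    apply hz
    exact (isZero_kernel_of_mono ((EtModW.pull Λ h').map φ)).of_iso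
      (PreservesKernel.iso (EtModW.pull Λ h') φ)
  haveI : Epi φ := by
    apply Preadditive.epi_of_isZero_cokernel
    apply hz
    exact (isZero_cokernel_of_epi ((EtModW.pull Λ h').map φ)).of_iso
      (PreservesCokernel.iso (EtModW.pull Λ h') φ)
  exact isIso_of_mono_of_epi φ

variable {X : Scheme.{u}}

/-- Around the generic point of the closure of any point, a constructible sheaf is finite type
locally constant on an irreducible locally closed subscheme. -/
theorem exists_irreducible_stratum (F : EtModW.Mod Λ X) (hF : EtModW.IsConstructible Λ F) (x : X) :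
    ∃ (Z' : Scheme.{u}) (c : Z' ⟶ X) (O : X.Opens), IsImmersion c ∧ IrreducibleSpace Z' ∧ x ∈ O ∧
      Set.range c.base = (O : Set X) ∩ closure {x} ∧
      EtModW.IsFTLocConst Λ ((EtModW.pull Λ c).obj F) := by
  obtain ⟨W, hW, hxW, -⟩ := Opens.isBasis_iff_nbhd.1 X.isBasis_affineOpens
    (show x ∈ (⊤ : X.Opens) from trivial)
  obtain ⟨n, T, g, himm, -, -, hun, hlc⟩ := hF W hW
  have h1 : x ∈ ⋃ i, Set.range (g i) := by rw [hun]; exact hxW
  obtain ⟨i, t, ht⟩ := Set.mem_iUnion.1 h1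
  haveI := himm i
  obtain ⟨Z', c₀, hc₀, hr₀⟩ := exists_closedImmersion_range (closure {t}) isClosed_closure
  haveI := hc₀
  obtain ⟨O₁, C₁, hO₁, hC₁, hOC⟩ : IsLocallyClosed (Set.range (g i)) :=
    IsImmersion.isLocallyClosed_range
  have hxOC : x ∈ O₁ ∩ C₁ := by rw [← hOC]; exact ⟨t, ht⟩
  refine ⟨Z', c₀ ≫ g i, ⟨O₁, hO₁⟩, inferInstance, ?_, hxOC.1, ?_, ?_⟩
  · refine irreducibleSpace_of_isEmbedding c₀.base c₀.isClosedEmbedding.isEmbedding ?_
    have : Set.range c₀.base = closure {t} := hr₀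
    rw [this]
    exact isIrreducible_singleton.closure
  · have e1 : Set.range (c₀ ≫ g i).base = (g i).base '' (closure {t}) := by
      have : Set.range c₀.base = closure {t} := hr₀
      rw [← this, ← Set.range_comp]
      rfl
    have e2 : closure {t} = (g i).base ⁻¹' (closure ((g i).base '' {t})) :=
      (g i).isEmbedding.isInducing.closure_eq_preimage_closure_image {t}
    have e3 : (g i).base '' {t} = {x} := by rw [Set.image_singleton]; exact congrArg _ ht
    have e4 : Set.range (g i).base = O₁ ∩ C₁ := hOC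
    rw [e1, e2, e3, Set.image_preimage_eq_inter_range, e4]
    have hcl : closure {x} ⊆ C₁ := hC₁.closure_subset_iff.2 (Set.singleton_subset_iff.2 hxOC.2)
    ext p
    constructor
    · rintro ⟨hp, hpO, -⟩
      exact ⟨hpO, hp⟩
    · rintro ⟨hpO, hp⟩
      exact ⟨hp, hpO, hcl hp⟩
  · exact PFM_stable Λ F c₀ (g i) (hlc i)

/-- **The generic principle.** -/
theorem stIn_of_const_core [IsLocallyNoetherian X] (F : EtModW.Mod Λ X)
    (hF : EtModW.IsConstructible Λ F) (P : MorProp X) (hP : P.Stable)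
    (hloc : ∀ ⦃U Y : Scheme.{u}⦄ (g : U ⟶ X) (h' : Y ⟶ U), Etale h' →
      Function.Surjective h'.base → P (h' ≫ g) → P g)
    (hcore : ∀ (W : Scheme.{u}) (_ : IrreducibleSpace W) (g₁ : W ⟶ X)
      (M : ModuleCat.{u + 1} Λ) (_ : Module.Finite Λ M),
      Nonempty ((EtModW.pull Λ g₁).obj F ≅
        (constantSheaf W.smallEtaleTopology (ModuleCat.{u + 1} Λ)).obj M) →
      ∃ Y₀ : W.Etale, Nonempty Y₀.left ∧ P (Y₀.hom ≫ g₁))
    (V₀ : X.Opens) (hV₀ : IsAffineOpen V₀) : StIn P (V₀ : Set X) (V₀ : Set X) := by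
  apply stIn_of_generic P hP _ V₀ hV₀
  intro x
  obtain ⟨Z', c, O, hc, hirr, hxO, hrange, hlc⟩ := exists_irreducible_stratum Λ F hF x
  haveI := hc
  haveI := hirr
  obtain ⟨ι, V, hV, hM⟩ := hlc
  have hxr : x ∈ Set.range c.base := by
    rw [hrange]
    exact ⟨hxO, subset_closure rfl⟩
  obtain ⟨z₀, hz₀⟩ := hxr
  obtain ⟨j, y, hy⟩ := hV z₀
  obtain ⟨M, _, _, hfin, ⟨e⟩⟩ := hM j
  obtain ⟨e'⟩ := (restr_iso_const_iff_M Λ (V j) _ (ModuleCat.of Λ M)).1 ⟨e⟩
  haveI : IsLocallyNoetherian (V j).left :=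
    LocallyOfFiniteType.isLocallyNoetherian ((V j).hom ≫ c)
  haveI : Nonempty (V j).left := ⟨y⟩
  obtain ⟨W', hW'⟩ := exists_irreducible_open (V j).left
  have iso1 : Nonempty ((EtModW.pull Λ ((V j).hom ≫ c)).obj F ≅
      (constantSheaf (V j).left.smallEtaleTopology (ModuleCat.{u + 1} Λ)).obj
        (ModuleCat.of Λ M)) := ⟨(pullCompM Λ (V j).hom c).app F ≪≫ e'⟩
  have iso2 := pull_comp_iso_const_M Λ W'.ι ((V j).hom ≫ c) F (ModuleCat.of Λ M) iso1
  obtain ⟨Y₀, hY₀, hPY⟩ := hcore W' hW' (W'.ι ≫ (V j).hom ≫ c) (ModuleCat.of Λ M) hfin iso2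
  -- the étale morphism to `Z'`
  let h : Y₀.left ⟶ Z' := Y₀.hom ≫ W'.ι ≫ (V j).hom
  haveI : Etale h := inferInstance
  let U'' : Z'.Opens := ⟨Set.range h.base, h.isOpenMap.isOpen_range⟩
  have hsub : Set.range h.base ⊆ Set.range U''.ι.base := by
    rw [Scheme.Opens.range_ι]
    rfl
  let h' : Y₀.left ⟶ U'' := IsOpenImmersion.lift U''.ι h hsub
  have hfac : h' ≫ U''.ι = h := IsOpenImmersion.lift_fac U''.ι h hsub
  haveI : Etale h' := by
    have : Etale (h' ≫ U''.ι) := by rw [hfac]; infer_instance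
    exact MorphismProperty.of_postcomp (W := @Etale) (W' := @Etale) h' U''.ι inferInstance this
  have hsurj : Function.Surjective h'.base := by
    intro u
    have hu : U''.ι.base u ∈ Set.range h.base := by
      have : U''.ι.base u ∈ Set.range U''.ι.base := ⟨u, rfl⟩
      rw [Scheme.Opens.range_ι] at this
      exact this
    obtain ⟨y', hy'⟩ := hu
    refine ⟨y', U''.ι.isOpenEmbedding.injective ?_⟩
    rw [← hy', ← hfac]
    rfl
  have hPg : P (U''.ι ≫ c) := by
    apply hloc (U''.ι ≫ c) h' inferInstance hsurj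
    rw [← Category.assoc, hfac]
    have : h ≫ c = Y₀.hom ≫ W'.ι ≫ (V j).hom ≫ c := by simp [h]
    rw [this]
    exact hPY
  -- topology
  obtain ⟨O', hO', hO'U⟩ := c.isEmbedding.isInducing.isOpen_iff.1 U''.isOpen
  have hgen : ∀ z : Z', z ∈ closure ({z₀} : Set Z') := by
    intro z
    rw [c.isEmbedding.isInducing.closure_eq_preimage_closure_image {z₀}, Set.image_singleton]
    have : c.base z ∈ Set.range c.base := ⟨z, rfl⟩
    rw [hrange] at this
    show c.base z ∈ closure {c.base z₀}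
    rw [hz₀]
    exact this.2
  have hz₀U : z₀ ∈ (U'' : Set Z') := by
    obtain ⟨y₁⟩ := hY₀
    have hu : h.base y₁ ∈ (U'' : Set Z') := ⟨y₁, rfl⟩
    obtain ⟨p, hp1, hp2⟩ := mem_closure_iff.1 (hgen (h.base y₁)) _ U''.isOpen hu
    rw [Set.mem_singleton_iff] at hp2
    rw [← hp2]
    exact hp1
  have hxO' : x ∈ O' := by
    have : z₀ ∈ c.base ⁻¹' O' := by rw [hO'U]; exact hz₀U
    rw [← hz₀]
    exact this
  refine ⟨⟨O' ∩ (O : Set X), hO'.inter O.isOpen⟩, U'', U''.ι ≫ c, inferInstance, ⟨hxO', hxO⟩, ?_,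
    hPg⟩
  have e1 : Set.range (U''.ι ≫ c).base = c.base '' (U'' : Set Z') := by
    have : Set.range U''.ι.base = (U'' : Set Z') := Scheme.Opens.range_ι U''
    rw [← this, ← Set.range_comp]
    rfl
  show Set.range (U''.ι ≫ c).base = (O' ∩ (O : Set X)) ∩ closure {x}
  rw [e1, ← hO'U, Set.image_preimage_eq_inter_range, hrange]
  ext p
  constructor
  · rintro ⟨hp1, hp2, hp3⟩
    exact ⟨⟨hp1, hp2⟩, hp3⟩
  · rintro ⟨⟨hp1, hp2⟩, hp3⟩
    exact ⟨hp1, hp2, hp3⟩

end Groth.Agent.Lib.Helper4.NC
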