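import Mathlib
import Groth.Agent.Lib.Helper4.NC4
import Groth.Agent.Lib.Helper4.NC6
import Groth.Agent.Lib.Helper4.ST3
import Groth.Agent.Lib.Helper22.Strata.Main

/-!
# Constructible sheaves of modules on a Noetherian scheme are Noetherian objects (helper4)
-/

set_option linter.style.haveILetI false
set_option linter.unusedSectionVars false
set_option autoImplicit false
open CategoryTheory CategoryTheory.Limits AlgebraicGeometry Opposite
universe u

namespace Groth.Agent.Lib.Helper4.NC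

open Groth.Agent.Lib.Helper22.Strata Groth.Agent.Lib.Helper4.CM Set Topology TopologicalSpace

variable (Λ : Type (u + 1)) [CommRing Λ] {X : Scheme.{u}}

/-- On a quasi-compact scheme, stratifications of all affine opens give a finite jointly
surjective family of immersions with the property. -/
theorem exists_finite_strata [CompactSpace X] (P : MorProp X)
    (h : ∀ V₀ : X.Opens, IsAffineOpen V₀ → StIn P (V₀ : Set X) (V₀ : Set X)) :
    ∃ (ι : Type) (_ : Finite ι) (T : ι → Scheme.{u}) (g : ∀ i, T i ⟶ X),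
      (∀ i, IsImmersion (g i)) ∧ (⋃ i, Set.range (g i).base) = Set.univ ∧ ∀ i, P (g i) := by
  obtain ⟨n, W, hWa, -, hcov⟩ := exists_finite_affine_cover (⊤ : X.Opens) isCompact_univ
    (fun _ => True) (by
      intro x _
      obtain ⟨A, hA, hxA, -⟩ := Opens.isBasis_iff_nbhd.1 X.isBasis_affineOpens
        (show x ∈ (⊤ : X.Opens) from trivial)
      exact ⟨A, hA, hxA, le_top, trivial⟩)
  choose ι fin T g him hc hdis hun hP using fun k => h (W k) (hWa k)
  haveI : ∀ k, Finite (ι k) := fin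
  refine ⟨Σ k, ι k, inferInstance, fun p => T p.1 p.2, fun p => g p.1 p.2, fun p => him _ _, ?_,
    fun p => hP _ _⟩
  apply Set.eq_univ_of_univ_subset
  intro x _
  have hx : x ∈ ⋃ k, (W k : Set X) := by rw [← hcov]; trivial
  obtain ⟨k, hk⟩ := Set.mem_iUnion.1 hx
  have hx2 : x ∈ ⋃ i, Set.range (g k i) := by rw [hun k]; exact hk
  obtain ⟨i, hi⟩ := Set.mem_iUnion.1 hx2
  exact Set.mem_iUnion.2 ⟨⟨k, i⟩, hi⟩

variable [IsNoetherianRing Λ]

/-- **Constructible sheaves of modules on a Noetherian scheme are Noetherian objects.** -/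
theorem isNoetherianObject_of_isConstructible [IsNoetherian X] (F : EtModW.Mod Λ X)
    (hF : EtModW.IsConstructible Λ F) : IsNoetherianObject F := by
  rw [isNoetherianObject_iff_monotone_chain_condition]
  intro f
  let ik : ∀ k, (Subobject.underlying.obj (f k) : EtModW.Mod Λ X) ⟶
      (Subobject.underlying.obj (f (k + 1)) : EtModW.Mod Λ X) :=
    fun k => Subobject.ofLE (f k) (f (k + 1)) (f.monotone (Nat.le_succ k))
  have hik : ∀ k, ik k ≫ (f (k + 1)).arrow = (f k).arrow := fun k => Subobject.ofLE_arrow _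
  let P : MorProp X := fun T g => ∃ k₀ : ℕ, ∀ k, k₀ ≤ k → IsIso ((EtModW.pull Λ g).map (ik k))
  have hcomp : ∀ {T T' : Scheme.{u}} (h : T' ⟶ T) (g : T ⟶ X) (k : ℕ),
      IsIso ((EtModW.pull Λ (h ≫ g)).map (ik k)) ↔
        IsIso ((EtModW.pull Λ h).map ((EtModW.pull Λ g).map (ik k))) :=
    fun h g k => NatIso.isIso_map_iff (pullCompM Λ h g) (ik k)
  have hP : P.Stable := by
    rintro T T' h g ⟨k₀, hk₀⟩
    refine ⟨k₀, fun k hk => ?_⟩
    rw [hcomp]
    haveI := hk₀ k hk
    infer_instance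
  have hloc : ∀ ⦃U Y : Scheme.{u}⦄ (g : U ⟶ X) (h' : Y ⟶ U), Etale h' →
      Function.Surjective h'.base → P (h' ≫ g) → P g := by
    rintro U Y g h' hh' hs ⟨k₀, hk₀⟩
    refine ⟨k₀, fun k hk => ?_⟩
    exact isIso_of_isIso_pull Λ h' hs _ ((hcomp h' g k).1 (hk₀ k hk))
  have hcore : ∀ (W : Scheme.{u}) (_ : IrreducibleSpace W) (g₁ : W ⟶ X)
      (M : ModuleCat.{u + 1} Λ) (_ : Module.Finite Λ M),
      Nonempty ((EtModW.pull Λ g₁).obj F ≅
        (constantSheaf W.smallEtaleTopology (ModuleCat.{u + 1} Λ)).obj M) →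
      ∃ Y₀ : W.Etale, Nonempty Y₀.left ∧ P (Y₀.hom ≫ g₁) := by
    rintro W hW g₁ M hM ⟨e⟩
    haveI := hW
    haveI := hM
    haveI : ∀ k, Mono ((EtModW.pull Λ g₁).map (f k).arrow ≫ e.hom) := fun k => by
      haveI : Mono ((EtModW.pull Λ g₁).map (f k).arrow) := inferInstance
      exact mono_comp _ _
    obtain ⟨Y₀, hY₀, k₀, hk₀⟩ := exists_chain_stab Λ M
      (fun k => (EtModW.pull Λ g₁).obj (Subobject.underlying.obj (f k)))
      (fun k => (EtModW.pull Λ g₁).map (f k).arrow ≫ e.hom)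
      (fun k => (EtModW.pull Λ g₁).map (ik k))
      (fun k => by rw [← Category.assoc, ← Functor.map_comp, hik])
    exact ⟨Y₀, hY₀, k₀, fun k hk => (hcomp Y₀.hom g₁ k).2 (hk₀ k hk)⟩
  have hst := stIn_of_const_core Λ F hF P hP hloc hcore
  obtain ⟨ι, fin, T, g, him, hun, hPg⟩ := exists_finite_strata P hst
  haveI := fin
  choose k₀ hk₀ using hPg
  obtain ⟨K, hK⟩ : ∃ K : ℕ, ∀ i, k₀ i ≤ K := by
    haveI : Fintype ι := Fintype.ofFinite ι
    exact ⟨Finset.univ.sup k₀, fun i => Finset.le_sup (Finset.mem_univ i)⟩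
  have hgeom : ∀ (Ω : Type u) [Field Ω] [IsSepClosed Ω] (ξ : Spec (CommRingCat.of Ω) ⟶ X),
      ∃ (i : ι) (ζ : Spec (CommRingCat.of Ω) ⟶ T i), ζ ≫ g i = ξ := by
    intro Ω _ _ ξ
    have hx : ξ.base default ∈ ⋃ i, Set.range (g i).base := by rw [hun]; trivial
    obtain ⟨i, hi⟩ := Set.mem_iUnion.1 hx
    haveI := him i
    obtain ⟨ζ, hζ⟩ := ST.exists_factor_of_isImmersion (g i) ξ hi
    exact ⟨i, ζ, hζ⟩
  have hiso : ∀ k, K ≤ k → IsIso (ik k) := by
    intro k hk
    have hall : ∀ i, IsIso ((EtModW.pull Λ (g i)).map (ik k)) :=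
      fun i => hk₀ i k ((hK i).trans hk)
    haveI : Mono (ik k) := by
      apply Preadditive.mono_of_isZero_kernel
      apply AR.isZero_of_forall_pull Λ T g hgeom
      intro i
      haveI := hall i
      exact (isZero_kernel_of_mono ((EtModW.pull Λ (g i)).map (ik k))).of_iso
        (PreservesKernel.iso (EtModW.pull Λ (g i)) (ik k))
    haveI : Epi (ik k) := by
      apply Preadditive.epi_of_isZero_cokernel
      apply AR.isZero_of_forall_pull Λ T g hgeom
      intro i
      haveI := hall i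
      exact (isZero_cokernel_of_epi ((EtModW.pull Λ (g i)).map (ik k))).of_iso
        (PreservesCokernel.iso (EtModW.pull Λ (g i)) (ik k))
    exact isIso_of_mono_of_epi _
  have hstep : ∀ k, K ≤ k → f k = f (k + 1) := by
    intro k hk
    haveI := hiso k hk
    refine le_antisymm (f.monotone (Nat.le_succ k)) ?_
    refine Subobject.le_of_comm (inv (ik k)) ?_
    rw [IsIso.inv_comp_eq, hik]
  refine ⟨K, fun m hm => ?_⟩
  induction m, hm using Nat.le_induction with
  | base => rfl
  | succ m hm ih => rw [ih]; exact hstep m hm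

end Groth.Agent.Lib.Helper4.NC
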