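import Mathlib
import Groth.Agent.Lib.Helper4.DC19
import Groth.Agent.Lib.Helper4.MT6
import Groth.Agent.Lib.Helper4.CM4
import Groth.Agent.Lib27.ARNoethCat
import Groth.Agent.Lib27.ARExt
import Groth.Agent.Lib.Helper4.NC7
import Groth.Agent.S14012
import Groth.Agent.S13618

/-!
# Kernels and cokernels of morphisms of adic pro-étale sheaves (helper4)
-/

set_option linter.style.haveILetI false
set_option linter.unusedSectionVars false
set_option autoImplicit false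
open CategoryTheory CategoryTheory.Limits AlgebraicGeometry Opposite
universe u

namespace Groth.Agent.Lib.Helper4.PA

open Groth.Agent.Lib.Helper4.MT Groth.Agent.Lib.Helper4.DC Groth.Agent.Lib27.ARSys

variable (Λ : Type (u + 1)) [CommRing Λ] (X : Scheme.{u}) [ProEtS.EpsCont X]

/-- The functor `G ↦ lim_n ε⁻¹ G_n`. -/
noncomputable abbrev LL : ARSys.PS (EtModW.Mod Λ X) ⥤ EtModW.ModP Λ X :=
  (Functor.whiskeringRight ℕᵒᵖ (EtModW.Mod Λ X) (EtModW.ModP Λ X)).obj (EtModW.epsPullMod Λ X) ⋙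
    lim

noncomputable instance preservesFiniteLimits_W :
    PreservesFiniteLimits ((Functor.whiskeringRight ℕᵒᵖ (EtModW.Mod Λ X) (EtModW.ModP Λ X)).obj
      (EtModW.epsPullMod Λ X)) := ⟨fun _ _ _ => inferInstance⟩

noncomputable instance preservesFiniteLimits_LL : PreservesFiniteLimits (LL Λ X) :=
  comp_preservesFiniteLimits _ _

instance additive_LL : (LL Λ X).Additive := Functor.additive_of_preserves_binary_products _

/-- `lim ε⁻¹` inverts isomorphisms up to translation. -/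
theorem isIso_LL_map_of_isARIso {Y K : ARSys.PS (EtModW.Mod Λ X)} (v : Y ⟶ K)
    (hv : ARSys.IsARIso v) : IsIso ((LL Λ X).map v) :=
  isIso_limMap_of_isARIso (Functor.whiskerRight v (EtModW.epsPullMod Λ X))
    (CM.isARIso_whiskerRight (EtModW.epsPullMod Λ X) v hv)

variable [IsNoetherianRing Λ] [IsNoetherian X]

/-- Kernel and cokernel of `lim ε⁻¹` of a morphism of adic systems of constructible sheaves are
again of this form. -/
theorem exists_adic_kernel_cokernel (I : Ideal Λ) (G₁ G₂ : ARSys.PS (EtModW.Mod Λ X))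
    (h₁ : ARSys.IsAdic I G₁) (h₂ : ARSys.IsAdic I G₂)
    (c₁ : ∀ n : ℕ, EtModW.IsConstructible Λ (G₁.obj (op n)))
    (c₂ : ∀ n : ℕ, EtModW.IsConstructible Λ (G₂.obj (op n))) (ω : G₁ ⟶ G₂) :
    (∃ Y : ARSys.PS (EtModW.Mod Λ X), ARSys.IsAdic I Y ∧
      (∀ n : ℕ, EtModW.IsConstructible Λ (Y.obj (op n))) ∧
      Nonempty ((LL Λ X).obj Y ≅ kernel ((LL Λ X).map ω))) ∧
    (∃ Y : ARSys.PS (EtModW.Mod Λ X), ARSys.IsAdic I Y ∧
      (∀ n : ℕ, EtModW.IsConstructible Λ (Y.obj (op n))) ∧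
      Nonempty ((LL Λ X).obj Y ≅ cokernel ((LL Λ X).map ω))) := by
  have hJ : I.FG := IsNoetherian.noetherian I
  have hFN : ARSys.IsARAdicNoeth I G₁ :=
    ⟨isARAdic_of_isAdic I G₁ h₁, fun n => NC.isNoetherianObject_of_isConstructible Λ _ (c₁ n)⟩
  have hGN : ARSys.IsARAdicNoeth I G₂ :=
    ⟨isARAdic_of_isAdic I G₂ h₂, fun n => NC.isNoetherianObject_of_isConstructible Λ _ (c₂ n)⟩
  obtain ⟨⟨-, YK, vK, hYK, cYK, hvK⟩, ⟨-, YQ, vQ, hYQ, cYQ, hvQ⟩⟩ :=
    Groth.Agent.S13618.result Λ I G₁ G₂ h₁ h₂ c₁ c₂ ω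
  constructor
  · haveI := isIso_LL_map_of_isARIso Λ X vK hvK
    exact ⟨YK, hYK, cYK, ⟨asIso ((LL Λ X).map vK) ≪≫ PreservesKernel.iso (LL Λ X) ω⟩⟩
  · obtain ⟨-, hQN⟩ := isARAdicNoeth_kernel_cokernel I ω hFN hGN
    obtain ⟨Im, e, m, he, hm, hfac, w₁, w₂, hS₁, hS₂⟩ := exists_epi_mono_ses ω
    haveI := he
    haveI := hm
    have hIm : ARSys.IsARAdicNoeth I Im :=
      isARAdicNoeth_X₁ I (ShortComplex.mk m (cokernel.π ω) w₂) hS₂ hGN hQN
    have epi1 : Epi ((LL Λ X).map e) :=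
      Groth.Agent.S14012.result Λ I X (ShortComplex.mk (kernel.ι ω) e w₁) hS₁
        ⟨YK, vK, hYK, hvK⟩
    have epi2 : Epi ((LL Λ X).map (cokernel.π ω)) := by
      obtain ⟨-, Y, v, hY, hv⟩ := hIm.1
      exact Groth.Agent.S14012.result Λ I X (ShortComplex.mk m (cokernel.π ω) w₂) hS₂
        ⟨Y, v, hY, hv⟩
    haveI := isIso_LL_map_of_isARIso Λ X vQ hvQ
    -- the image of the second sequence is short exact
    have hex : ((ShortComplex.mk m (cokernel.π ω) w₂).map (LL Λ X)).Exact :=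
      hS₂.exact.map_of_mono_of_preservesKernel (LL Λ X) hS₂.mono_f inferInstance
    haveI : Mono ((LL Λ X).map m) := inferInstance
    have hSE : ((ShortComplex.mk m (cokernel.π ω) w₂).map (LL Λ X)).ShortExact :=
      ShortComplex.ShortExact.mk' hex (inferInstanceAs (Mono ((LL Λ X).map m))) epi2
    haveI : Epi ((ShortComplex.mk m (cokernel.π ω) w₂).map (LL Λ X)).g := epi2
    have iso2 : cokernel ((LL Λ X).map m) ≅ (LL Λ X).obj (cokernel ω) :=
      (cokernelIsCokernel ((LL Λ X).map m)).coconePointUniqueUpToIso hex.gIsCokernel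
    have hfac' : (LL Λ X).map ω = (LL Λ X).map e ≫ (LL Λ X).map m := by
      rw [← Functor.map_comp, hfac]
    have iso1 : cokernel ((LL Λ X).map ω) ≅ cokernel ((LL Λ X).map m) :=
      cokernelIsoOfEq hfac' ≪≫ cokernelEpiComp ((LL Λ X).map e) ((LL Λ X).map m)
    exact ⟨YQ, hYQ, cYQ, ⟨asIso ((LL Λ X).map vQ) ≪≫ iso2.symm ≪≫ iso1.symm⟩⟩

end Groth.Agent.Lib.Helper4.PA
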