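import Mathlib
import Groth.Agent.Lib.Helper4.PA1
import Groth.Agent.Lib.Helper4.AR4
import Groth.Agent.Lib.Helper4.DC16
import Groth.Agent.S14009

/-!
# Increasing sequences of adic pro-étale subsheaves of an adic pro-étale sheaf (helper4)
-/

set_option linter.style.haveILetI false
set_option linter.unusedSectionVars false
set_option autoImplicit false
open CategoryTheory CategoryTheory.Limits AlgebraicGeometry Opposite
universe u

namespace Groth.Agent.Lib.Helper4.PA

open Groth.Agent.Lib.Helper4.MT Groth.Agent.Lib.Helper4.DC Groth.Agent.Lib27.ARSys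

variable (Λ : Type (u + 1)) [CommRing Λ] (X : Scheme.{u}) [ProEtS.EpsCont X]
variable [IsNoetherianRing Λ] [IsNoetherian X]

/-- An increasing sequence of subsheaves of `lim ε⁻¹ G` (`G` adic with constructible members),
each of the form `lim ε⁻¹ G_k` with `G_k` adic with constructible members, is stationary. -/
theorem adicP_chain (I : Ideal Λ) (G : ARSys.PS (EtModW.Mod Λ X)) (hG : ARSys.IsAdic I G)
    (cG : ∀ n : ℕ, EtModW.IsConstructible Λ (G.obj (op n))) (F : EtModW.ModP Λ X)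
    (e : (LL Λ X).obj G ≅ F) (Z : ℕ →o Subobject F)
    (hZ : ∀ k : ℕ, ∃ Gk : ARSys.PS (EtModW.Mod Λ X), ARSys.IsAdic I Gk ∧
      (∀ n : ℕ, EtModW.IsConstructible Λ (Gk.obj (op n))) ∧
      Nonempty ((LL Λ X).obj Gk ≅ (Subobject.underlying.obj (Z k) : EtModW.ModP Λ X))) :
    ∃ k₀ : ℕ, ∀ k : ℕ, k₀ ≤ k → Z k = Z k₀ := by
  have hI : I.FG := IsNoetherian.noetherian I
  have key : ∀ (G' : ARSys.PS (EtModW.Mod Λ X)) (hG' : ARSys.IsAdic I G') (n : ℕ),
      ARSys.IsQuot (I ^ (n + 1)) (limit.π (G' ⋙ EtModW.epsPullMod Λ X) (op n)) :=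
    fun G' hG' n => Groth.Agent.S14009.result Λ I hI X G' hG' n
  choose Gk hGk cGk ek using hZ
  let ε : ∀ k, (LL Λ X).obj (Gk k) ≅ (Subobject.underlying.obj (Z k) : EtModW.ModP Λ X) :=
    fun k => (ek k).some
  let ψ : ∀ k, (LL Λ X).obj (Gk k) ⟶ (LL Λ X).obj G := fun k => (ε k).hom ≫ (Z k).arrow ≫ e.inv
  choose ω hω using fun k => limMap_whiskerRight_surjective (EtModW.epsPullMod Λ X) I (Gk k) G
    (key _ (hGk k)) (fun n => (key G hG n).1) (ψ k)
  have hω' : ∀ k, (LL Λ X).map (ω k) = ψ k := hω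
  haveI : ∀ k, Mono ((LL Λ X).map (ω k)) := fun k => by
    rw [hω']
    haveI : Mono ((Z k).arrow ≫ e.inv) := mono_comp _ _
    exact mono_comp _ _
  let ι : ∀ k, (Subobject.underlying.obj (Z k) : EtModW.ModP Λ X) ⟶
      (Subobject.underlying.obj (Z (k + 1)) : EtModW.ModP Λ X) :=
    fun k => Subobject.ofLE (Z k) (Z (k + 1)) (Z.monotone (Nat.le_succ k))
  have hι : ∀ k, ι k ≫ (Z (k + 1)).arrow = (Z k).arrow := fun k => Subobject.ofLE_arrow _
  choose φ hφ using fun k => limMap_whiskerRight_surjective (EtModW.epsPullMod Λ X) I (Gk k)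
    (Gk (k + 1)) (key _ (hGk k)) (fun n => (key _ (hGk (k + 1)) n).1)
    ((ε k).hom ≫ ι k ≫ (ε (k + 1)).inv)
  have hφ' : ∀ k, (LL Λ X).map (φ k) = (ε k).hom ≫ ι k ≫ (ε (k + 1)).inv := hφ
  have hφω : ∀ k, φ k ≫ ω (k + 1) = ω k := by
    intro k
    apply limMap_whiskerRight_injective (EtModW.epsPullMod Λ X) I (Gk k) G (key _ (hGk k))
    show (LL Λ X).map (φ k ≫ ω (k + 1)) = (LL Λ X).map (ω k)
    rw [Functor.map_comp, hφ', hω', hω']
    simp only [ψ, Category.assoc, Iso.inv_hom_id_assoc]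
    rw [← Category.assoc (ι k), hι]
  -- kernels are null up to translation
  have hker : ∀ k, ARSys.IsARNull (kernel (ω k)) := by
    intro k
    obtain ⟨⟨-, YK, vK, hYK, -, hvK⟩, -⟩ :=
      Groth.Agent.S13618.result Λ I (Gk k) G (hGk k) hG (cGk k) cG (ω k)
    haveI := isIso_LL_map_of_isARIso Λ X vK hvK
    have hz : IsZero ((LL Λ X).obj YK) :=
      (isZero_kernel_of_mono ((LL Λ X).map (ω k))).of_iso
        (asIso ((LL Λ X).map vK) ≪≫ PreservesKernel.iso (LL Λ X) (ω k))
    have h0 : (𝟙 YK : YK ⟶ YK) = 0 := by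
      apply limMap_whiskerRight_injective (EtModW.epsPullMod Λ X) I YK YK (key _ hYK)
      exact hz.eq_of_src _ _
    have hv0 : vK = 0 := by
      rw [← Category.id_comp vK, h0, zero_comp]
    subst hv0
    exact isARNull_of_mono (cokernel.π (0 : YK ⟶ kernel (ω k))) hvK.2
  choose Im e' m he' hm hfac w₁ w₂ hS₁ hS₂ using fun k => exists_epi_mono_ses (ω k)
  haveI : ∀ k, Epi (e' k) := he'
  haveI : ∀ k, Mono (m k) := hm
  have hAR : ∀ k, ARSys.IsARIso (e' k) := by
    intro k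
    apply isARIso_of_epi
    exact CM.isARNull_of_iso (kernelIsoOfEq (hfac k).symm ≪≫ kernelCompMono (e' k) (m k))
      (hker k)
  let W : ℕ →o Subobject G :=
    ⟨fun k => Subobject.mk (m k), monotone_nat_of_le_succ (fun k =>
      AR.mk_le_mk_of_refine (m k) (m (k + 1)) ⟨_, e' k, he' k, φ k ≫ e' (k + 1), by
        rw [hfac k, Category.assoc, hfac (k + 1), hφω]⟩)⟩
  have hW : ∀ k, ARSys.IsMLAR (Subobject.underlying.obj (W k) : ARSys.PS (EtModW.Mod Λ X)) := by
    intro k
    refine isMLAR_of_isARAdic I (Or.inl hI) _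
      ⟨termKilled_of_mono I (W k).arrow hG.1, Gk k, e' k ≫ (Subobject.underlyingIso (m k)).inv,
        hGk k, isARIso_comp _ _ (hAR k) (AR.isARIso_of_isIso _)⟩
  have hGN : ARSys.IsAdicNoeth I G :=
    ⟨hG, fun n => NC.isNoetherianObject_of_isConstructible Λ _ (cG n)⟩
  obtain ⟨k₀, hk₀⟩ := AR.subobject_chain_isARIso I G hGN W hW
  have hstep : ∀ k, k₀ ≤ k → Z k = Z (k + 1) := by
    intro k hk
    let uk := Subobject.underlyingIso (m k)
    let uk' := Subobject.underlyingIso (m (k + 1))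
    let j := Subobject.ofLE (W k) (W (k + 1)) (W.monotone (Nat.le_succ k))
    have hj : ARSys.IsARIso j := hk₀ k hk
    let j' : Im k ⟶ Im (k + 1) := uk.inv ≫ j ≫ uk'.hom
    have hj'm : j' ≫ m (k + 1) = m k := by
      have h1 : uk'.hom ≫ m (k + 1) = (W (k + 1)).arrow :=
        Subobject.underlyingIso_hom_comp_eq_mk (m (k + 1))
      have h2 : uk.hom ≫ m k = (W k).arrow := Subobject.underlyingIso_hom_comp_eq_mk (m k)
      have h3 : j ≫ (W (k + 1)).arrow = (W k).arrow := Subobject.ofLE_arrow _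
      simp only [j', Category.assoc]
      rw [h1, h3, ← h2, Iso.inv_hom_id_assoc]
    have hcomm : φ k ≫ e' (k + 1) = e' k ≫ j' := by
      rw [← cancel_mono (m (k + 1)), Category.assoc, Category.assoc, hfac (k + 1), hφω, hj'm,
        hfac k]
    have hj' : ARSys.IsARIso j' :=
      isARIso_comp _ _ (AR.isARIso_of_isIso _) (isARIso_comp _ _ hj (AR.isARIso_of_isIso _))
    have hφAR : ARSys.IsARIso (φ k) := by
      refine isARIso_of_postcomp (φ k) (e' (k + 1)) (hAR (k + 1)) ?_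
      rw [hcomm]
      exact isARIso_comp _ _ (hAR k) hj'
    haveI := isIso_LL_map_of_isARIso Λ X (φ k) hφAR
    have hιeq : ι k = (ε k).inv ≫ (LL Λ X).map (φ k) ≫ (ε (k + 1)).hom := by
      rw [hφ']
      simp
    haveI : IsIso (ι k) := by
      rw [hιeq]
      infer_instance
    refine le_antisymm (Z.monotone (Nat.le_succ k)) ?_
    refine Subobject.le_of_comm (inv (ι k)) ?_
    rw [IsIso.inv_comp_eq, hι]
  refine ⟨k₀, fun k hk => ?_⟩
  induction k, hk using Nat.le_induction with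
  | base => rfl
  | succ k hk ih => rw [← hstep k hk]; exact ih

end Groth.Agent.Lib.Helper4.PA
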