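import Groth.Agent.Lib.Helper4.EX1
import Groth.Agent.Lib.Helper4.EX3
import Groth.Agent.Lib.Helper4.CM3
import Groth.Agent.S14010
import Groth.Agent.S14013
import Groth.Agent.S14014

/-!
# Extensions of adic pro-étale sheaves for a principal ideal (helper4)
-/

set_option linter.style.haveILetI false
set_option linter.unusedSectionVars false
set_option autoImplicit false
open CategoryTheory CategoryTheory.Limits AlgebraicGeometry Opposite
universe u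

namespace Groth.Agent.Lib.Helper4.EX

open Groth.Agent.Lib.Helper4.DC

/-- Adic pro-étale sheaves. -/
def IsAdicP (Λ : Type (u + 1)) [CommRing Λ] (I : Ideal Λ) (X : Scheme.{u}) [ProEtS.EpsCont X]
    (F : EtModW.ModP Λ X) : Prop :=
  ∃ (Q : ℕᵒᵖ ⥤ EtModW.ModP Λ X) (p : (Functor.const ℕᵒᵖ).obj F ⟶ Q),
    (∀ n : ℕ, ARSys.IsQuot (I ^ (n + 1)) (p.app (op n))) ∧
    (∀ n : ℕ, ∃ E : EtModW.Mod Λ X, EtModW.IsConstructible Λ E ∧
      Nonempty ((EtModW.epsPullMod Λ X).obj E ≅ Q.obj (op n))) ∧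
    IsIso (limit.lift Q (Cone.mk F p))

variable (Λ : Type (u + 1)) [CommRing Λ] (X : Scheme.{u}) [ProEtS.EpsCont X]

theorem isAdicP_of_iso (I : Ideal Λ) (hI : I.FG) {F F' : EtModW.ModP Λ X} (e : F ≅ F')
    (h : IsAdicP Λ I X F) : IsAdicP Λ I X F' := by
  obtain ⟨G, hG, hGc, ⟨i⟩⟩ := (Groth.Agent.S14010.result Λ I hI X F).1 h
  exact (Groth.Agent.S14010.result Λ I hI X F').2 ⟨G, hG, hGc, ⟨i ≪≫ e⟩⟩

variable [IsNoetherianRing Λ] [IsNoetherian X] (a : Λ)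

/-- The `a`-power torsion of the sections of an `(a)`-adic sheaf is bounded. -/
theorem exists_torsion_bound (H : EtModW.ModP Λ X) (hH : IsAdicP Λ (Ideal.span {a}) X H) :
    ∃ c : ℕ, ∀ (V : X.ProEt), ProEtS.IsWC V → ∀ (k : ℕ) (x : (GammaV Λ V).obj H),
      a ^ k • x = 0 → a ^ c • x = 0 := by
  have hI : (Ideal.span {a}).FG := Submodule.fg_span_singleton a
  let Zf : ℕ → Subobject H := fun k => kernelSubobject (a ^ k • 𝟙 H : H ⟶ H)
  have hmono : Monotone Zf := monotone_nat_of_le_succ (fun k => by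
    have h1 : (a ^ (k + 1) • 𝟙 H : H ⟶ H) = (a ^ k • 𝟙 H) ≫ (a • 𝟙 H) := by
      rw [comp_smul_id, smul_smul, ← pow_succ']
    show kernelSubobject _ ≤ kernelSubobject _
    rw [h1]
    exact kernelSubobject_comp_le _ _)
  let Zo : ℕ →o Subobject H := ⟨Zf, hmono⟩
  have hZ : ∀ k, IsAdicP Λ (Ideal.span {a}) X (Subobject.underlying.obj (Zo k)) := fun k =>
    isAdicP_of_iso Λ X _ hI (kernelSubobjectIso (a ^ k • 𝟙 H : H ⟶ H)).symm
      (Groth.Agent.S14013.result Λ (Ideal.span {a}) X H H hH hH (a ^ k • 𝟙 H)).1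
  obtain ⟨k₀, hk₀⟩ := Groth.Agent.S14014.result Λ (Ideal.span {a}) X H hH Zo hZ
  refine ⟨k₀, fun V hV k x hx => ?_⟩
  by_cases hk : k ≤ k₀
  · rw [← Nat.sub_add_cancel hk, pow_add, mul_smul, hx, smul_zero]
  · push_neg at hk
    have hle : Zf k ≤ Zf k₀ := le_of_eq (hk₀ k hk.le)
    have h0 : kernel.ι (a ^ k • 𝟙 H : H ⟶ H) ≫ (a ^ k₀ • 𝟙 H) = 0 := by
      rw [← kernelSubobject_arrow', Category.assoc]
      have : (kernelSubobject (a ^ k • 𝟙 H : H ⟶ H)).arrow =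
          Subobject.ofLE _ _ hle ≫ (kernelSubobject (a ^ k₀ • 𝟙 H : H ⟶ H)).arrow :=
        (Subobject.ofLE_arrow hle).symm
      rw [this, Category.assoc, kernelSubobject_arrow_comp, comp_zero, comp_zero]
    haveI := preservesFiniteColimits_GammaV (Λ := Λ) V hV
    have hex : (ShortComplex.mk (kernel.ι (a ^ k • 𝟙 H : H ⟶ H)) (a ^ k • 𝟙 H)
        (kernel.condition _)).Exact :=
      ShortComplex.exact_of_f_is_kernel _ (kernelIsKernel _)
    have hex' := hex.map (GammaV Λ V)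
    rw [ShortComplex.moduleCat_exact_iff] at hex'
    obtain ⟨x', hx'⟩ := hex' x hx
    have h2 : (GammaV Λ V).map (kernel.ι (a ^ k • 𝟙 H : H ⟶ H)) ≫
        (GammaV Λ V).map (a ^ k₀ • 𝟙 H) = 0 := by
      rw [← Functor.map_comp, h0, Functor.map_zero]
    have h3 := congrArg (fun φ : (GammaV Λ V).obj (kernel (a ^ k • 𝟙 H : H ⟶ H)) ⟶
      (GammaV Λ V).obj H => φ.hom x') h2
    rw [← hx']
    exact h3

/-- The `a^(n+1)`-torsion of an `(a)`-adic sheaf is constructible. -/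
theorem constructibleP_kernel_smul (H : EtModW.ModP Λ X) (hH : IsAdicP Λ (Ideal.span {a}) X H)
    (n : ℕ) :
    ∃ E : EtModW.Mod Λ X, EtModW.IsConstructible Λ E ∧
      Nonempty ((EtModW.epsPullMod Λ X).obj E ≅
        kernel (a ^ (n + 1) • 𝟙 H : H ⟶ H)) := by
  obtain ⟨Q', p', hp', hE', -⟩ :=
    (Groth.Agent.S14013.result Λ (Ideal.span {a}) X H H hH hH (a ^ (n + 1) • 𝟙 H)).1
  have hkill : ARSys.KilledBy ((Ideal.span {a}) ^ (n + 1))
      (kernel (a ^ (n + 1) • 𝟙 H : H ⟶ H)) := by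
    intro b hb
    rw [Ideal.span_singleton_pow] at hb
    obtain ⟨c, rfl⟩ := Ideal.mem_span_singleton'.1 hb
    have hcond : a ^ (n + 1) • kernel.ι (a ^ (n + 1) • 𝟙 H : H ⟶ H) = 0 := by
      rw [← comp_smul_id]
      exact kernel.condition (a ^ (n + 1) • 𝟙 H : H ⟶ H)
    rw [← cancel_mono (kernel.ι (a ^ (n + 1) • 𝟙 H : H ⟶ H)), zero_comp, smul_id_comp, mul_smul,
      hcond, smul_zero]
  have hid : ARSys.IsQuot ((Ideal.span {a}) ^ (n + 1))
      (𝟙 (kernel (a ^ (n + 1) • 𝟙 H : H ⟶ H))) :=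
    ⟨hkill, fun Y φ _ => ⟨φ, Category.id_comp _, fun ψ hψ => by
      rw [← hψ]; exact (Category.id_comp _).symm⟩⟩
  obtain ⟨e, -⟩ := nonempty_iso_of_isQuot _ (p'.app (op n)) (𝟙 _) (hp' n) hid
  obtain ⟨E, hE, ⟨i⟩⟩ := hE' n
  exact ⟨E, hE, ⟨i ≪≫ e⟩⟩

/-- **Extensions of `(a)`-adic pro-étale sheaves are `(a)`-adic.** -/
theorem isAdicP_of_shortExact (S : ShortComplex (EtModW.ModP Λ X)) (hS : S.ShortExact)
    (h₁ : IsAdicP Λ (Ideal.span {a}) X S.X₁) (h₃ : IsAdicP Λ (Ideal.span {a}) X S.X₃) :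
    IsAdicP Λ (Ideal.span {a}) X S.X₂ := by
  haveI := Groth.Agent.Lib.Helper4.CM.isWeakSerre_isConstructibleP Λ (X := X)
  let P : ObjectProperty (EtModW.ModP Λ X) := fun F : EtModW.ModP Λ X =>
      ∃ E : EtModW.Mod Λ X, EtModW.IsConstructible Λ E ∧
        Nonempty ((EtModW.epsPullMod Λ X).obj E ≅ F)
  haveI : WSerre.IsWeakSerre P := Groth.Agent.Lib.Helper4.CM.isWeakSerre_isConstructibleP Λ (X := X)
  have hstep : ∀ n : ℕ, ∃ (Q : EtModW.ModP Λ X) (p : S.X₂ ⟶ Q),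
      ARSys.IsQuot (Ideal.span {a ^ (n + 1)}) p ∧ P Q := by
    intro n
    have h₃' := h₃
    obtain ⟨Q₁, p₁, hp₁, hE₁, -⟩ := h₁
    obtain ⟨Q₃, p₃, hp₃, hE₃, -⟩ := h₃
    apply exists_isQuot_prop P (a ^ (n + 1)) S hS
    · refine ⟨Q₁.obj (op n), p₁.app (op n), ?_, hE₁ n⟩
      have := hp₁ n
      rwa [Ideal.span_singleton_pow] at this
    · refine ⟨Q₃.obj (op n), p₃.app (op n), ?_, hE₃ n⟩
      have := hp₃ n
      rwa [Ideal.span_singleton_pow] at this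
    · exact constructibleP_kernel_smul Λ X a S.X₃ h₃' n
  choose Qn pn hpn hPn using hstep
  have hpn' : ∀ n, ARSys.IsQuot ((Ideal.span {a}) ^ (n + 1)) (pn n) := by
    intro n
    rw [Ideal.span_singleton_pow]
    exact hpn n
  obtain ⟨Q, p, hp, hQ⟩ := exists_tower (Ideal.span {a}) S.X₂ Qn pn hpn'
  refine ⟨Q, p, hp, fun n => ?_, ?_⟩
  · obtain ⟨E, hE, ⟨i⟩⟩ := hPn n
    obtain ⟨j⟩ := hQ n
    exact ⟨E, hE, ⟨i ≪≫ j.symm⟩⟩
  · obtain ⟨c, hc⟩ := exists_torsion_bound Λ X a S.X₃ h₃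
    obtain ⟨Q₁, p₁, hp₁, hE₁, hi₁⟩ := h₁
    obtain ⟨Q₃, p₃, hp₃, hE₃, hi₃⟩ := h₃
    apply isIso_of_haus_precomp a S.X₂ Q p hp
    intro V hV
    obtain ⟨hH₁, hP₁⟩ := haus_precomp_of_isIso a S.X₁ Q₁ p₁ hp₁ hi₁ V hV
    obtain ⟨hH₃, hP₃⟩ := haus_precomp_of_isIso a S.X₃ Q₃ p₃ hp₃ hi₃ V hV
    haveI := preservesFiniteColimits_GammaV (Λ := Λ) V hV
    have hSE := hS.map_of_exact (GammaV Λ V)
    have hinj : Function.Injective ((GammaV Λ V).map S.f).hom :=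
      (ModuleCat.mono_iff_injective _).1 hSE.mono_f
    have hsurj : Function.Surjective ((GammaV Λ V).map S.g).hom :=
      (ModuleCat.epi_iff_surjective _).1 hSE.epi_g
    have hex := hSE.exact
    rw [ShortComplex.moduleCat_exact_iff] at hex
    have hzero : ∀ x', ((GammaV Λ V).map S.g).hom (((GammaV Λ V).map S.f).hom x') = 0 := by
      intro x'
      have h2 : (GammaV Λ V).map S.f ≫ (GammaV Λ V).map S.g = 0 := by
        rw [← Functor.map_comp, S.zero, Functor.map_zero]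
      exact congrArg (fun φ : (GammaV Λ V).obj S.X₁ ⟶ (GammaV Λ V).obj S.X₃ => φ.hom x') h2
    exact ⟨haus_of_exact a _ _ hinj hex hzero c (hc V hV) hH₁ hH₃,
      precomp_of_exact a _ _ hinj hsurj hex hzero c (hc V hV) hP₁ hP₃⟩

end Groth.Agent.Lib.Helper4.EX
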