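import Mathlib
import Groth.Agent.Lib.Helper4.HenselPairLE
import Groth.Agent.Lib.Helper4.HenselPairL

/-!
# Descent of finite étale local algebras along a residually trivial local map of henselian rings
-/

set_option autoImplicit false
set_option linter.unusedSectionVars false
universe u

namespace Groth.Agent.Lib.Helper4.EssEtD

open IsLocalRing TensorProduct

/-- A finite algebra over a local ring whose closed fibre is a field is local. -/
theorem isLocalRing_of_finite_of_isMaximal_map (R S : Type u) [CommRing R] [IsLocalRing R]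
    [CommRing S] [Algebra R S] [Algebra.IsIntegral R S]
    (h : ((maximalIdeal R).map (algebraMap R S)).IsMaximal) : IsLocalRing S := by
  have : Nontrivial S := by
    refine ⟨⟨0, 1, fun h01 => h.ne_top ?_⟩⟩
    rw [Ideal.eq_top_iff_one, ← h01]
    exact Ideal.zero_mem _
  refine IsLocalRing.of_unique_max_ideal ⟨_, h, fun 𝔫 h𝔫 => ?_⟩
  have h1 : 𝔫.comap (algebraMap R S) = maximalIdeal R :=
    IsLocalRing.eq_maximalIdeal (Ideal.isMaximal_comap_of_isIntegral_of_isMaximal 𝔫)
  have h2 : (maximalIdeal R).map (algebraMap R S) ≤ 𝔫 := by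
    rw [Ideal.map_le_iff_le_comap, h1]
  exact (h.eq_of_le h𝔫.ne_top h2).symm

/-- A map of finite étale algebras over a local ring which is bijective modulo the maximal ideal,
in the following concrete sense, is bijective. -/
theorem bijective_of_mod (A P E : Type u) [CommRing A] [IsLocalRing A]
    [CommRing P] [Algebra A P] [Module.Finite A P]
    [CommRing E] [Algebra A E] [Module.Finite A E] [Module.Projective A E]
    (τ : P →ₐ[A] E)
    (hsurj : ∀ y : E, ∃ x : P, y - τ x ∈ (maximalIdeal A).map (algebraMap A E))
    (hker : ∀ x : P, τ x = 0 → x ∈ (maximalIdeal A).map (algebraMap A P)) :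
    Function.Bijective τ := by
  have hjac : maximalIdeal A ≤ Ideal.jacobson ⊥ := IsLocalRing.maximalIdeal_le_jacobson ⊥
  have hτsurj : Function.Surjective τ := by
    have h1 : (⊤ : Submodule A E) ≤ LinearMap.range τ.toLinearMap := by
      refine Submodule.le_of_le_smul_of_le_jacobson_bot Module.Finite.fg_top hjac ?_
      intro y _
      obtain ⟨x, hx⟩ := hsurj y
      have hx' : y - τ x ∈ (maximalIdeal A) • (⊤ : Submodule A E) := by
        rw [Ideal.smul_top_eq_map]
        exact hx
      have h2 : y = τ x + (y - τ x) := by ring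
      rw [h2]
      exact Submodule.add_mem_sup ⟨x, rfl⟩ hx'
    intro y
    exact h1 (Submodule.mem_top (x := y))
  refine ⟨?_, hτsurj⟩
  obtain ⟨s, hs⟩ := Module.projective_lifting_property τ.toLinearMap LinearMap.id hτsurj
  let π : P →ₗ[A] P := LinearMap.id - s ∘ₗ τ.toLinearMap
  have hπker : ∀ x, τ x = 0 → π x = x := by
    intro x hx
    change x - s (τ x) = x
    rw [hx, map_zero, sub_zero]
  have hπK : ∀ x, π x ∈ LinearMap.ker τ.toLinearMap := by
    intro x
    rw [LinearMap.mem_ker]
    change τ (x - s (τ x)) = 0
    rw [map_sub]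
    have : τ (s (τ x)) = τ x := congrArg (fun g => g (τ x)) hs
    rw [this, sub_self]
  set K := LinearMap.ker τ.toLinearMap with hK
  have hKfg : K.FG := by
    have h1 : K = LinearMap.range π := by
      apply le_antisymm
      · intro x hx
        exact ⟨x, hπker x hx⟩
      · rintro _ ⟨x, rfl⟩
        exact hπK x
    rw [h1, LinearMap.range_eq_map]
    exact Module.Finite.fg_top.map π
  have hKle : K ≤ (maximalIdeal A) • K := by
    intro x hx
    have h1 : x ∈ (maximalIdeal A) • (⊤ : Submodule A P) := by
      rw [Ideal.smul_top_eq_map]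
      exact hker x hx
    have h2 : π x ∈ ((maximalIdeal A) • (⊤ : Submodule A P)).map π := ⟨x, h1, rfl⟩
    rw [Submodule.map_smul'', hπker x hx] at h2
    refine Submodule.smul_mono (le_refl _) ?_ h2
    rintro _ ⟨y, -, rfl⟩
    exact hπK y
  have hK0 : K = ⊥ := Submodule.eq_bot_of_le_smul_of_le_jacobson_bot _ K hKfg hKle hjac
  rw [injective_iff_map_eq_zero]
  intro x hx
  have : x ∈ K := hx
  rw [hK0] at this
  exact this

/-- **Descent of finite étale local algebras.** -/
theorem exists_finite_etale_descent
    (R A E : Type u) [CommRing R] [HenselianLocalRing R]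
    [CommRing A] [HenselianLocalRing A] [IsNoetherianRing A]
    [Algebra R A] [IsLocalHom (algebraMap R A)]
    (hres : Function.Bijective (ResidueField.map (algebraMap R A)))
    [CommRing E] [IsLocalRing E] [Algebra A E] [IsLocalHom (algebraMap A E)]
    [Module.Finite A E] [Algebra.Etale A E] :
    ∃ (S : Type u) (_ : CommRing S) (_ : IsLocalRing S) (_ : Algebra R S),
      Module.Finite R S ∧ Algebra.Etale R S ∧ Nonempty (E ≃ₐ[A] A ⊗[R] S) := by
  classical
  let _ : Algebra R E := ((algebraMap A E).comp (algebraMap R A)).toAlgebra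
  have hRAE : IsScalarTower R A E := IsScalarTower.of_algebraMap_eq fun _ => rfl
  have hlocRE : IsLocalHom (algebraMap R E) :=
    RingHom.isLocalHom_comp (algebraMap A E) (algebraMap R A)
  -- the residue field of `E` is finite étale over that of `R`
  have hbij : Function.Bijective (algebraMap (ResidueField R) (ResidueField A)) := hres
  let e₀ : ResidueField R ≃ₐ[ResidueField R] ResidueField A :=
    AlgEquiv.ofBijective (Algebra.ofId (ResidueField R) (ResidueField A)) hbij
  have hEt1 : Algebra.Etale (ResidueField R) (ResidueField A) := Algebra.Etale.of_equiv e₀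
  have hFin1 : Module.Finite (ResidueField R) (ResidueField A) :=
    Module.Finite.equiv e₀.toLinearEquiv
  have hFE2 : Algebra.FormallyEtale (ResidueField A) (ResidueField E) :=
    Algebra.FormallyEtale.of_isSeparable _ _
  have hFP2 : Algebra.FinitePresentation (ResidueField A) (ResidueField E) :=
    Algebra.FinitePresentation.of_finiteType.mp inferInstance
  have hEt2 : Algebra.Etale (ResidueField A) (ResidueField E) := ⟨hFE2, hFP2⟩
  have hEt3 : Algebra.Etale (ResidueField R) (ResidueField E) :=
    Algebra.Etale.comp (ResidueField R) (ResidueField A) (ResidueField E)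
  have hFin3 : Module.Finite (ResidueField R) (ResidueField E) :=
    Module.Finite.trans (ResidueField A) (ResidueField E)
  let _ : Algebra (R ⧸ maximalIdeal R) (ResidueField E) :=
    inferInstanceAs (Algebra (ResidueField R) (ResidueField E))
  have hT : IsScalarTower R (R ⧸ maximalIdeal R) (ResidueField E) :=
    inferInstanceAs (IsScalarTower R (ResidueField R) (ResidueField E))
  have hFin4 : Module.Finite (R ⧸ maximalIdeal R) (ResidueField E) := hFin3
  have hEt4 : Algebra.Etale (R ⧸ maximalIdeal R) (ResidueField E) := hEt3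
  obtain ⟨S, _, _, hSfin, hSet, ψ, hψs, hψk⟩ :=
    HenselPair.exists_finite_etale_lift (maximalIdeal R) (ResidueField E)
  -- `S` is local
  have hSmax : ((maximalIdeal R).map (algebraMap R S)).IsMaximal := by
    rw [← hψk]
    exact RingHom.ker_isMaximal_of_surjective ψ.toRingHom hψs
  have hSloc : IsLocalRing S := isLocalRing_of_finite_of_isMaximal_map R S hSmax
  refine ⟨S, inferInstance, hSloc, inferInstance, hSfin, hSet, ?_⟩
  -- the comparison map
  have hmE : (maximalIdeal A).map (algebraMap A E) = maximalIdeal E :=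
    Algebra.FormallyUnramified.map_maximalIdeal
  let σ₀ : A ⊗[R] S →ₐ[A] ResidueField E :=
    Algebra.TensorProduct.lift (Algebra.ofId A (ResidueField E)) ψ (fun _ _ => Commute.all _ _)
  let ε : ResidueField E ≃ₐ[A] E ⧸ (maximalIdeal A).map (algebraMap A E) :=
    Ideal.quotientEquivAlgOfEq A hmE.symm
  have hHA : HenselianRing A (maximalIdeal A) := inferInstance
  obtain ⟨τ, hτ⟩ := HenselPair.exists_lift_of_etale_of_isIntegral (C := E) (maximalIdeal A)
    (ε.toAlgHom.comp σ₀)
  have hτres : ∀ x, residue E (τ x) = σ₀ x := by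
    intro x
    have h1 := congrArg (fun g => g x) hτ
    have h2 : ε.symm (Ideal.Quotient.mk _ (τ x)) = ε.symm (ε (σ₀ x)) := congrArg ε.symm h1
    rw [AlgEquiv.symm_apply_apply] at h2
    rw [← h2]
    rfl
  have hσ₀ : ∀ s : S, σ₀ ((1 : A) ⊗ₜ[R] s) = ψ s := by
    intro s
    rw [Algebra.TensorProduct.lift_tmul, map_one, one_mul]
  have hflat : Module.Flat A E := inferInstance
  have hfree : Module.Free A E := Module.free_of_flat_of_isLocalRing
  have hproj : Module.Projective A E := inferInstance
  have hbijτ : Function.Bijective τ := by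
    refine bijective_of_mod A (A ⊗[R] S) E τ ?_ ?_
    · intro y
      obtain ⟨s, hs⟩ := hψs (residue E y)
      refine ⟨(1 : A) ⊗ₜ[R] s, ?_⟩
      rw [hmE, ← residue_eq_zero_iff, map_sub, hτres, hσ₀, hs, sub_self]
    · intro x hx
      -- `x ≡ 1 ⊗ s` modulo the maximal ideal
      have hrep : ∀ x : A ⊗[R] S, ∃ s : S,
          x - (1 : A) ⊗ₜ[R] s ∈ (maximalIdeal A).map (algebraMap A (A ⊗[R] S)) := by
        intro x
        induction x using TensorProduct.induction_on with
        | zero => exact ⟨0, by simp⟩
        | tmul a s =>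
          obtain ⟨rbar, hr⟩ := hres.2 (residue A a)
          obtain ⟨r, rfl⟩ := residue_surjective rbar
          rw [ResidueField.map_residue] at hr
          have h1 : a - algebraMap R A r ∈ maximalIdeal A := by
            rw [← residue_eq_zero_iff, map_sub, hr, sub_self]
          refine ⟨r • s, ?_⟩
          have h2 : a ⊗ₜ[R] s - (1 : A) ⊗ₜ[R] (r • s) =
              algebraMap A (A ⊗[R] S) (a - algebraMap R A r) * ((1 : A) ⊗ₜ[R] s) := by
            rw [Algebra.TensorProduct.algebraMap_apply, Algebra.algebraMap_self, RingHom.id_apply,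
              Algebra.TensorProduct.tmul_mul_tmul, mul_one, one_mul, TensorProduct.sub_tmul,
              ← TensorProduct.smul_tmul, Algebra.smul_def, mul_one]
          rw [h2]
          exact Ideal.mul_mem_right _ _ (Ideal.mem_map_of_mem _ h1)
        | add x y hx hy =>
          obtain ⟨s, hs⟩ := hx
          obtain ⟨t, ht⟩ := hy
          refine ⟨s + t, ?_⟩
          have : x + y - (1 : A) ⊗ₜ[R] (s + t) =
              (x - (1 : A) ⊗ₜ[R] s) + (y - (1 : A) ⊗ₜ[R] t) := by
            rw [TensorProduct.tmul_add]; ring
          rw [this]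
          exact Ideal.add_mem _ hs ht
      obtain ⟨s, hs⟩ := hrep x
      -- `τ` maps the maximal ideal part into the maximal ideal
      have h1 : τ (x - (1 : A) ⊗ₜ[R] s) ∈ (maximalIdeal A).map (algebraMap A E) :=
        HenselPair.algHom_mem_map (maximalIdeal A) τ _ hs
      rw [map_sub, hx, zero_sub, neg_mem_iff, hmE, ← residue_eq_zero_iff, hτres, hσ₀] at h1
      have h2 : s ∈ (maximalIdeal R).map (algebraMap R S) := by
        rw [← hψk]
        exact h1
      have h3 : (1 : A) ⊗ₜ[R] s ∈ (maximalIdeal A).map (algebraMap A (A ⊗[R] S)) := by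
        have h4 : (1 : A) ⊗ₜ[R] s =
            (Algebra.TensorProduct.includeRight : S →ₐ[R] A ⊗[R] S) s := rfl
        rw [h4]
        have h5 := Ideal.mem_map_of_mem
          (Algebra.TensorProduct.includeRight : S →ₐ[R] A ⊗[R] S).toRingHom h2
        rw [Ideal.map_map] at h5
        have h6 : (Algebra.TensorProduct.includeRight : S →ₐ[R] A ⊗[R] S).toRingHom.comp
            (algebraMap R S) = (algebraMap A (A ⊗[R] S)).comp (algebraMap R A) := by
          refine RingHom.ext fun r => ?_
          change (1 : A) ⊗ₜ[R] (algebraMap R S r) = (algebraMap R A r) ⊗ₜ[R] (1 : S)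
          rw [Algebra.algebraMap_eq_smul_one, Algebra.algebraMap_eq_smul_one,
            TensorProduct.smul_tmul]
        rw [h6, ← Ideal.map_map] at h5
        refine Ideal.map_mono ?_ h5
        exact ((local_hom_TFAE (algebraMap R A)).out 0 2).mp (inferInstance : IsLocalHom (algebraMap R A))
      have h7 : x = (x - (1 : A) ⊗ₜ[R] s) + (1 : A) ⊗ₜ[R] s := by ring
      rw [h7]
      exact Ideal.add_mem _ hs h3
  exact ⟨(AlgEquiv.ofBijective τ hbijτ).symm⟩

end Groth.Agent.Lib.Helper4.EssEtD
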