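import Mathlib
import Groth.Agent.Lib.Helper4.EssEtale

/-!
# Total rings of fractions of reduced rings with finitely many minimal primes
-/

set_option autoImplicit false
set_option linter.unusedSectionVars false
set_option linter.overlappingInstances false
universe u
open IsLocalRing TensorProduct

namespace Groth.Agent.Lib.Helper4.TotFrac

section Basic

variable {A : Type*} [CommRing A] [IsReduced A]

theorem mem_nonZeroDivisors_iff_forall_minimalPrimes (a : A) :
    a ∈ nonZeroDivisors A ↔ ∀ p ∈ minimalPrimes A, a ∉ p := by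
  constructor
  · intro ha p hp hap
    exact Set.disjoint_left.mp (Ideal.disjoint_nonZeroDivisors_of_mem_minimalPrimes hp) hap ha
  · intro h
    rw [mem_nonZeroDivisors_iff_right]
    intro b hb
    have h1 : b ∈ sInf (minimalPrimes A) := by
      rw [Ideal.mem_sInf]
      intro p hp
      have h2 : b * a ∈ p := by rw [hb]; exact p.zero_mem
      exact (hp.1.1.mem_or_mem h2).resolve_right (h p hp)
    have h3 : sInf (minimalPrimes A) = ⊥ := by
      have : sInf (minimalPrimes A) = (⊥ : Ideal A).radical := Ideal.sInf_minimalPrimes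
      rw [this]
      exact nilradical_eq_bot_iff.mpr inferInstance
    rw [h3] at h1
    exact h1

theorem exists_nonZeroDivisor_mem (hmin : (minimalPrimes A).Finite) (I : Ideal A)
    (hI : ∀ p ∈ minimalPrimes A, ¬ I ≤ p) : ∃ a ∈ nonZeroDivisors A, a ∈ I := by
  classical
  by_contra hcon
  push Not at hcon
  have h1 : (I : Set A) ⊆ ⋃ p ∈ (hmin.toFinset : Set (Ideal A)), (p : Set A) := by
    intro a ha
    have h2 : a ∉ nonZeroDivisors A := fun h => hcon a h ha
    rw [mem_nonZeroDivisors_iff_forall_minimalPrimes] at h2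
    push Not at h2
    obtain ⟨p, hp, hap⟩ := h2
    simp only [Set.mem_iUnion]
    exact ⟨p, by simpa using hp, hap⟩
  rw [Ideal.subset_union_prime (R := A) (f := fun p : Ideal A => p) ⊥ ⊥ (fun p hp _ _ =>
    (hmin.mem_toFinset.mp hp).1.1)] at h1
  obtain ⟨p, hp, hIp⟩ := h1
  exact hI p (hmin.mem_toFinset.mp hp) hIp

theorem isField_localization_atPrime_of_minimal (p : Ideal A) [p.IsPrime]
    (hp : p ∈ minimalPrimes A) : IsField (Localization.AtPrime p) := by
  have h1 := IsLocalization.AtPrime.radical_map_of_mem_minimalPrimes (A := Localization.AtPrime p)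
    p ⊥ hp
  rw [Ideal.map_bot, IsLocalization.AtPrime.map_eq_maximalIdeal] at h1
  have h2 : (⊥ : Ideal (Localization.AtPrime p)).radical = ⊥ :=
    nilradical_eq_bot_iff.mpr inferInstance
  rw [h2] at h1
  exact IsLocalRing.isField_iff_maximalIdeal_eq.mpr h1.symm

end Basic

section Local

variable {A E : Type u} [CommRing A] [IsReduced A] [CommRing E] [Algebra A E]
  [Module.Flat A E] [Algebra.FormallyUnramified A E] [Algebra.EssFiniteType A E]
  (p : Ideal A) [p.IsPrime] (hp : p ∈ minimalPrimes A)

include hp in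
theorem finite_tensor_atPrime : Module.Finite (Localization.AtPrime p) (Localization.AtPrime p ⊗[A] E) := by
  let _ : Field (Localization.AtPrime p) := (isField_localization_atPrime_of_minimal p hp).toField
  exact Algebra.FormallyUnramified.finite_of_free (Localization.AtPrime p)
    (Localization.AtPrime p ⊗[A] E)

/-- Elements of `A_p ⊗ E` are of the form `(1/s) ⊗ e`. -/
theorem exists_smul_eq_one_tmul (z : Localization.AtPrime p ⊗[A] E) :
    ∃ s : A, s ∉ p ∧ ∃ e : E, s • z = (1 : Localization.AtPrime p) ⊗ₜ[A] e := by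
  obtain ⟨⟨e, s⟩, h⟩ := IsLocalizedModule.surj p.primeCompl
    (TensorProduct.mk A (Localization.AtPrime p) E 1) z
  exact ⟨s.1, s.2, e, h⟩

theorem exists_smul_eq_zero_of_one_tmul_eq_zero (e : E)
    (h : (1 : Localization.AtPrime p) ⊗ₜ[A] e = 0) : ∃ s : A, s ∉ p ∧ s • e = 0 := by
  have h1 : (TensorProduct.mk A (Localization.AtPrime p) E 1) e =
      (TensorProduct.mk A (Localization.AtPrime p) E 1) 0 := by
    rw [map_zero]; exact h
  obtain ⟨c, hc⟩ := IsLocalizedModule.exists_of_eq (S := p.primeCompl) h1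
  refine ⟨c.1, c.2, ?_⟩
  rw [smul_zero] at hc
  exact hc

include hp in
theorem exists_mul_eq_algebraMap_of_mem_nonZeroDivisors (u : E) (hu : u ∈ nonZeroDivisors E) :
    ∃ s : A, s ∉ p ∧ ∃ e' : E, u * e' = algebraMap A E s := by
  have hfin := finite_tensor_atPrime (E := E) p hp
  let _ : Field (Localization.AtPrime p) := (isField_localization_atPrime_of_minimal p hp).toField
  have hart : IsArtinianRing (Localization.AtPrime p ⊗[A] E) :=
    IsArtinianRing.of_finite (Localization.AtPrime p) _
  -- `1 ⊗ u` is a non-zero-divisor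
  have hinj : Function.Injective (LinearMap.lTensor (Localization.AtPrime p)
      (LinearMap.mulLeft A u)) := by
    apply Module.Flat.lTensor_preserves_injective_linearMap
    intro x y hxy
    exact (mem_nonZeroDivisors_iff_left.mp hu |> fun h => by
      have h1 : u * (x - y) = 0 := by
        rw [mul_sub]; exact sub_eq_zero.mpr hxy
      exact sub_eq_zero.mp (h _ h1))
  have h2 : ∀ z : Localization.AtPrime p ⊗[A] E,
      LinearMap.lTensor (Localization.AtPrime p) (LinearMap.mulLeft A u) z =
        ((1 : Localization.AtPrime p) ⊗ₜ[A] u) * z := by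
    intro z
    induction z using TensorProduct.induction_on with
    | zero => simp
    | tmul a e =>
      rw [LinearMap.lTensor_tmul, Algebra.TensorProduct.tmul_mul_tmul, one_mul]
      rfl
    | add x y hx hy => rw [map_add, mul_add, hx, hy]
  have hnzd : ((1 : Localization.AtPrime p) ⊗ₜ[A] u) ∈
      nonZeroDivisors (Localization.AtPrime p ⊗[A] E) := by
    rw [mem_nonZeroDivisors_iff_left]
    intro z hz
    apply hinj
    rw [map_zero, h2, hz]
  have hunit := IsArtinianRing.isUnit_of_mem_nonZeroDivisors hnzd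
  obtain ⟨z, hz⟩ := isUnit_iff_exists_inv.mp hunit
  obtain ⟨s, hs, e, he⟩ := exists_smul_eq_one_tmul p z
  -- `1 ⊗ (u e) = 1 ⊗ s`
  have h3 : (1 : Localization.AtPrime p) ⊗ₜ[A] (u * e - algebraMap A E s) = 0 := by
    rw [TensorProduct.tmul_sub, sub_eq_zero]
    have h4 : (1 : Localization.AtPrime p) ⊗ₜ[A] (u * e) =
        ((1 : Localization.AtPrime p) ⊗ₜ[A] u) * ((1 : Localization.AtPrime p) ⊗ₜ[A] e) := by
      rw [Algebra.TensorProduct.tmul_mul_tmul, one_mul]
    rw [h4, ← he, mul_smul_comm, hz, Algebra.algebraMap_eq_smul_one, TensorProduct.tmul_smul]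
    rfl
  obtain ⟨s', hs', h5⟩ := exists_smul_eq_zero_of_one_tmul_eq_zero p _ h3
  refine ⟨s' * s, ?_, s' • e, ?_⟩
  · exact fun h => (Ideal.IsPrime.mem_or_mem inferInstance h).elim hs' hs
  · rw [smul_sub, sub_eq_zero] at h5
    rw [mul_smul_comm, h5, Algebra.smul_def, ← map_mul]

theorem exists_smul_eq_zero_of_one_tmul_eq_zero' {M : Type*} [AddCommGroup M] [Module A M] (m : M)
    (h : (1 : Localization.AtPrime p) ⊗ₜ[A] m = 0) : ∃ s : A, s ∉ p ∧ s • m = 0 := by
  have h1 : (TensorProduct.mk A (Localization.AtPrime p) M 1) m =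
      (TensorProduct.mk A (Localization.AtPrime p) M 1) 0 := by
    rw [map_zero]; exact h
  obtain ⟨c, hc⟩ := IsLocalizedModule.exists_of_eq (S := p.primeCompl) h1
  refine ⟨c.1, c.2, ?_⟩
  rw [smul_zero] at hc
  exact hc

include hp in
theorem exists_finset_span :
    ∃ σ : Finset E, ∀ e : E, ∃ s : A, s ∉ p ∧ s • e ∈ Submodule.span A (σ : Set E) := by
  classical
  have hfin := finite_tensor_atPrime (E := E) p hp
  let ι : E → Localization.AtPrime p ⊗[A] E := fun e => 1 ⊗ₜ[A] e
  have htop : Submodule.span (Localization.AtPrime p) (Set.range ι) = ⊤ := by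
    rw [eq_top_iff]
    intro z _
    obtain ⟨s, hs, e, he⟩ := exists_smul_eq_one_tmul p z
    have hsu : IsUnit (algebraMap A (Localization.AtPrime p) s) :=
      IsLocalization.map_units (Localization.AtPrime p) (⟨s, hs⟩ : p.primeCompl)
    obtain ⟨v, hv⟩ := isUnit_iff_exists_inv'.mp hsu
    have h1 : z = v • ι e := by
      show z = v • ((1 : Localization.AtPrime p) ⊗ₜ[A] e)
      rw [← he, ← algebraMap_smul (Localization.AtPrime p) s z, smul_smul, hv, one_smul]
    rw [h1]
    exact Submodule.smul_mem _ _ (Submodule.subset_span ⟨e, rfl⟩)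
  have hfg : (Submodule.span (Localization.AtPrime p) (Set.range ι)).FG := by
    rw [htop]; exact Module.Finite.fg_top
  obtain ⟨σ', hσ', hspan⟩ := (Submodule.fg_span_iff_fg_span_finset_subset _).mp hfg
  have hch : ∀ x : (σ' : Set (Localization.AtPrime p ⊗[A] E)), ∃ e : E, ι e = x := fun x => hσ' x.2
  choose g hg using hch
  let σ : Finset E := Finset.univ.image g
  refine ⟨σ, fun e => ?_⟩
  let N : Submodule A E := Submodule.span A (σ : Set E)
  -- `1 ⊗ e` lies in the range of the base change of `N ↪ E`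
  have hrange : (⊤ : Submodule (Localization.AtPrime p) (Localization.AtPrime p ⊗[A] E)) ≤
      LinearMap.range (LinearMap.baseChange (Localization.AtPrime p) N.subtype) := by
    rw [← htop, hspan, Submodule.span_le]
    intro x hx
    have hx' : x ∈ (σ' : Set _) := hx
    have hgx : g ⟨x, hx'⟩ ∈ N := by
      apply Submodule.subset_span
      simp only [σ, Finset.coe_image, Finset.coe_univ, Set.image_univ]
      exact ⟨⟨x, hx'⟩, rfl⟩
    refine ⟨(1 : Localization.AtPrime p) ⊗ₜ[A] (⟨g ⟨x, hx'⟩, hgx⟩ : N), ?_⟩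
    rw [LinearMap.baseChange_tmul]
    exact hg ⟨x, hx'⟩
  obtain ⟨w, hw⟩ := hrange (Submodule.mem_top (x := ι e))
  have h0 : (1 : Localization.AtPrime p) ⊗ₜ[A] (N.mkQ e) = 0 := by
    have h1 : (1 : Localization.AtPrime p) ⊗ₜ[A] (N.mkQ e) =
        LinearMap.baseChange (Localization.AtPrime p) N.mkQ (ι e) := by
      rw [LinearMap.baseChange_tmul]
    rw [h1, ← hw, ← LinearMap.comp_apply, ← LinearMap.baseChange_comp]
    have h2 : N.mkQ ∘ₗ N.subtype = 0 := by
      ext x
      simp
    rw [h2, LinearMap.baseChange_zero]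
    rfl
  obtain ⟨s, hs, h3⟩ := exists_smul_eq_zero_of_one_tmul_eq_zero' p _ h0
  refine ⟨s, hs, ?_⟩
  rw [← map_smul, Submodule.mkQ_apply, Submodule.Quotient.mk_eq_zero] at h3
  exact h3

end Local

theorem exists_aeval_inv_of_field {K T : Type*} [Field K] [CommRing T] [Algebra K T]
    [Module.Finite K T] (x : T) (hx : x ∈ nonZeroDivisors T) :
    ∃ q : Polynomial K, x * Polynomial.aeval x q = 1 := by
  let B : Subalgebra K T := Algebra.adjoin K {x}
  have hBfin : Module.Finite K B :=
    Module.Finite.of_injective B.val.toLinearMap Subtype.val_injective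
  have hBart : IsArtinianRing B := IsArtinianRing.of_finite K B
  let x' : B := ⟨x, Algebra.subset_adjoin (Set.mem_singleton x)⟩
  have hx'nzd : x' ∈ nonZeroDivisors B := by
    rw [mem_nonZeroDivisors_iff_left]
    intro z hz
    have h1 : x * (z : T) = 0 := congrArg Subtype.val hz
    exact Subtype.ext (mem_nonZeroDivisors_iff_left.mp hx _ h1)
  have hu' : IsUnit x' := IsArtinianRing.isUnit_of_mem_nonZeroDivisors hx'nzd
  obtain ⟨z, hz⟩ := isUnit_iff_exists_inv.mp hu'
  have hz' : x * (z : T) = 1 := congrArg Subtype.val hz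
  have hzmem : (z : T) ∈ Algebra.adjoin K {x} := z.2
  rw [Algebra.adjoin_singleton_eq_range_aeval] at hzmem
  obtain ⟨q, hq⟩ := hzmem
  refine ⟨q, ?_⟩
  have hq' : Polynomial.aeval x q = (z : T) := hq
  rw [hq', hz']

section Local2

variable {A E : Type u} [CommRing A] [IsReduced A] [CommRing E] [Algebra A E]
  [Module.Flat A E] [Algebra.FormallyUnramified A E] [Algebra.EssFiniteType A E]
  (p : Ideal A) [p.IsPrime] (hp : p ∈ minimalPrimes A)

theorem one_tmul_mem_nonZeroDivisors (u : E) (hu : u ∈ nonZeroDivisors E) :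
    ((1 : Localization.AtPrime p) ⊗ₜ[A] u) ∈
      nonZeroDivisors (Localization.AtPrime p ⊗[A] E) := by
  have hinj : Function.Injective (LinearMap.lTensor (Localization.AtPrime p)
      (LinearMap.mulLeft A u)) := by
    apply Module.Flat.lTensor_preserves_injective_linearMap
    intro x y hxy
    have h1 : u * (x - y) = 0 := by
      rw [mul_sub]; exact sub_eq_zero.mpr hxy
    exact sub_eq_zero.mp (mem_nonZeroDivisors_iff_left.mp hu _ h1)
  have h2 : ∀ z : Localization.AtPrime p ⊗[A] E,
      LinearMap.lTensor (Localization.AtPrime p) (LinearMap.mulLeft A u) z =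
        ((1 : Localization.AtPrime p) ⊗ₜ[A] u) * z := by
    intro z
    induction z using TensorProduct.induction_on with
    | zero => simp
    | tmul a e =>
      rw [LinearMap.lTensor_tmul, Algebra.TensorProduct.tmul_mul_tmul, one_mul]
      rfl
    | add x y hx hy => rw [map_add, mul_add, hx, hy]
  rw [mem_nonZeroDivisors_iff_left]
  intro z hz
  apply hinj
  rw [map_zero, h2, hz]

include hp in
theorem exists_mul_aeval_eq_algebraMap (u : E) (hu : u ∈ nonZeroDivisors E) :
    ∃ s : A, s ∉ p ∧ ∃ q₀ : Polynomial A, u * Polynomial.aeval u q₀ = algebraMap A E s := by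
  have hfin := finite_tensor_atPrime (E := E) p hp
  let _ : Field (Localization.AtPrime p) := (isField_localization_atPrime_of_minimal p hp).toField
  set x : Localization.AtPrime p ⊗[A] E := (1 : Localization.AtPrime p) ⊗ₜ[A] u with hx
  have hxnzd := one_tmul_mem_nonZeroDivisors p u hu
  obtain ⟨q, hq⟩ := exists_aeval_inv_of_field (K := Localization.AtPrime p) x hxnzd
  obtain ⟨b, hb, hbq⟩ := IsLocalization.integerNormalization_spec p.primeCompl q
  set q₀ := IsLocalization.integerNormalization p.primeCompl q with hq₀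
  -- `b • z = 1 ⊗ aeval u q₀`
  have h1 : b • Polynomial.aeval x q =
      (1 : Localization.AtPrime p) ⊗ₜ[A] (Polynomial.aeval u q₀) := by
    have h2 : Polynomial.aeval x (q₀.map (algebraMap A (Localization.AtPrime p))) =
        Polynomial.aeval x q₀ := Polynomial.aeval_map_algebraMap _ _ _
    have h3 : Polynomial.aeval x q₀ = (Algebra.TensorProduct.includeRight :
        E →ₐ[A] Localization.AtPrime p ⊗[A] E) (Polynomial.aeval u q₀) := by
      rw [← Polynomial.aeval_algHom_apply]
      rfl
    have h7 : b • Polynomial.aeval x q = Polynomial.aeval x (b • q) := by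
      rw [← algebraMap_smul (Localization.AtPrime p) b (Polynomial.aeval x q),
        ← algebraMap_smul (Localization.AtPrime p) b q, map_smul]
    rw [h7, ← hbq, h2, h3]
    rfl
  have h4 : (1 : Localization.AtPrime p) ⊗ₜ[A] (u * Polynomial.aeval u q₀ - algebraMap A E b) = 0 := by
    rw [TensorProduct.tmul_sub, sub_eq_zero]
    have h5 : (1 : Localization.AtPrime p) ⊗ₜ[A] (u * Polynomial.aeval u q₀) =
        x * ((1 : Localization.AtPrime p) ⊗ₜ[A] (Polynomial.aeval u q₀)) := by
      rw [hx, Algebra.TensorProduct.tmul_mul_tmul, one_mul]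
    rw [h5, ← h1, mul_smul_comm, hq, Algebra.algebraMap_eq_smul_one, TensorProduct.tmul_smul]
    rfl
  obtain ⟨s', hs', h6⟩ := exists_smul_eq_zero_of_one_tmul_eq_zero p _ h4
  refine ⟨s' * b, ?_, Polynomial.C s' * q₀, ?_⟩
  · exact fun h => (Ideal.IsPrime.mem_or_mem inferInstance h).elim hs' hb
  · rw [smul_sub, sub_eq_zero] at h6
    rw [map_mul, Polynomial.aeval_C, map_mul, ← Algebra.smul_def, ← Algebra.smul_def,
      mul_smul_comm, h6]

end Local2

end Groth.Agent.Lib.Helper4.TotFrac
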