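import Mathlib
import Groth.Agent.Lib.Helper4.TotFrac
import Groth.Agent.Lib.Helper4.HzsSub3

/-!
# Sub-algebras of a strict henselization and their total rings of fractions
-/

set_option autoImplicit false
set_option linter.unusedSectionVars false
set_option linter.overlappingInstances false
universe u
open IsLocalRing TensorProduct

namespace Groth.Agent.Lib.Helper4.TotFrac

theorem exists_aeval_inv_of_field' {K T : Type*} [Field K] [CommRing T] [Algebra K T]
    [Module.Finite K T] (x : T)
    (hx : ∀ q : Polynomial K, x * Polynomial.aeval x q = 0 → Polynomial.aeval x q = 0) :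
    ∃ q : Polynomial K, x * Polynomial.aeval x q = 1 := by
  let B : Subalgebra K T := Algebra.adjoin K {x}
  have hBfin : Module.Finite K B :=
    Module.Finite.of_injective B.val.toLinearMap Subtype.val_injective
  have hBart : IsArtinianRing B := IsArtinianRing.of_finite K B
  let x' : B := ⟨x, Algebra.subset_adjoin (Set.mem_singleton x)⟩
  have hx'nzd : x' ∈ nonZeroDivisors B := by
    rw [mem_nonZeroDivisors_iff_left]
    intro z hz
    have h1 : x * (z : T) = 0 := congrArg Subtype.val hz
    have hzmem : (z : T) ∈ Algebra.adjoin K {x} := z.2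
    rw [Algebra.adjoin_singleton_eq_range_aeval] at hzmem
    obtain ⟨q, hq⟩ := hzmem
    have hq' : Polynomial.aeval x q = (z : T) := hq
    rw [← hq'] at h1
    apply Subtype.ext
    rw [← hq']
    exact hx q h1
  have hu' : IsUnit x' := IsArtinianRing.isUnit_of_mem_nonZeroDivisors hx'nzd
  obtain ⟨z, hz⟩ := isUnit_iff_exists_inv.mp hu'
  have hz' : x * (z : T) = 1 := congrArg Subtype.val hz
  have hzmem : (z : T) ∈ Algebra.adjoin K {x} := z.2
  rw [Algebra.adjoin_singleton_eq_range_aeval] at hzmem
  obtain ⟨q, hq⟩ := hzmem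
  refine ⟨q, ?_⟩
  have hq' : Polynomial.aeval x q = (z : T) := hq
  rw [hq', hz']

section Mod

variable {A : Type u} [CommRing A] (p : Ideal A) [p.IsPrime]

/-- Finite generation up to denominators from finiteness of the localized module. -/
theorem exists_finset_span' {M : Type u} [AddCommGroup M] [Module A M]
    (hfin : Module.Finite (Localization.AtPrime p) (Localization.AtPrime p ⊗[A] M)) :
    ∃ σ : Finset M, ∀ e : M, ∃ s : A, s ∉ p ∧ s • e ∈ Submodule.span A (σ : Set M) := by
  classical
  let ι : M → Localization.AtPrime p ⊗[A] M := fun e => 1 ⊗ₜ[A] e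
  have htop : Submodule.span (Localization.AtPrime p) (Set.range ι) = ⊤ := by
    rw [eq_top_iff]
    intro z _
    obtain ⟨⟨e, s⟩, he⟩ := IsLocalizedModule.surj p.primeCompl
      (TensorProduct.mk A (Localization.AtPrime p) M 1) z
    have he' : s.1 • z = (1 : Localization.AtPrime p) ⊗ₜ[A] e := he
    have hsu : IsUnit (algebraMap A (Localization.AtPrime p) s.1) :=
      IsLocalization.map_units (Localization.AtPrime p) s
    obtain ⟨v, hv⟩ := isUnit_iff_exists_inv'.mp hsu
    have h1 : z = v • ι e := by
      show z = v • ((1 : Localization.AtPrime p) ⊗ₜ[A] e)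
      rw [← he', ← algebraMap_smul (Localization.AtPrime p) s.1 z, smul_smul, hv, one_smul]
    rw [h1]
    exact Submodule.smul_mem _ _ (Submodule.subset_span ⟨e, rfl⟩)
  have hfg : (Submodule.span (Localization.AtPrime p) (Set.range ι)).FG := by
    rw [htop]; exact Module.Finite.fg_top
  obtain ⟨σ', hσ', hspan⟩ := (Submodule.fg_span_iff_fg_span_finset_subset _).mp hfg
  have hch : ∀ x : (σ' : Set (Localization.AtPrime p ⊗[A] M)), ∃ e : M, ι e = x := fun x => hσ' x.2
  choose g hg using hch
  let σ : Finset M := Finset.univ.image g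
  refine ⟨σ, fun e => ?_⟩
  let N : Submodule A M := Submodule.span A (σ : Set M)
  have hrange : (⊤ : Submodule (Localization.AtPrime p) (Localization.AtPrime p ⊗[A] M)) ≤
      LinearMap.range (LinearMap.baseChange (Localization.AtPrime p) N.subtype) := by
    rw [← htop, hspan, Submodule.span_le]
    intro x hx
    have hx' : x ∈ (σ' : Set _) := hx
    have hgx : g ⟨x, hx'⟩ ∈ N := by
      apply Submodule.subset_span
      simp only [σ, Finset.coe_image, Finset.coe_univ, Set.image_univ]
      exact ⟨⟨x, hx'⟩, rfl⟩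
    refine ⟨(1 : Localization.AtPrime p) ⊗ₜ[A] (⟨g ⟨x, hx'⟩, hgx⟩ : N), ?_⟩
    rw [LinearMap.baseChange_tmul]
    exact hg ⟨x, hx'⟩
  obtain ⟨w, hw⟩ := hrange (Submodule.mem_top (x := ι e))
  have h0 : (1 : Localization.AtPrime p) ⊗ₜ[A] (N.mkQ e) = 0 := by
    have h1 : (1 : Localization.AtPrime p) ⊗ₜ[A] (N.mkQ e) =
        LinearMap.baseChange (Localization.AtPrime p) N.mkQ (ι e) := by
      rw [LinearMap.baseChange_tmul]
    rw [h1, ← hw, ← LinearMap.comp_apply, ← LinearMap.baseChange_comp]
    have h2 : N.mkQ ∘ₗ N.subtype = 0 := by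
      ext x
      simp
    rw [h2, LinearMap.baseChange_zero]
    rfl
  have h1' : (TensorProduct.mk A (Localization.AtPrime p) (M ⧸ N) 1) (N.mkQ e) =
      (TensorProduct.mk A (Localization.AtPrime p) (M ⧸ N) 1) 0 := by
    rw [map_zero]; exact h0
  obtain ⟨c, hc⟩ := IsLocalizedModule.exists_of_eq (S := p.primeCompl) h1'
  rw [smul_zero] at hc
  have h3 : c.1 • (N.mkQ e) = 0 := hc
  refine ⟨c.1, c.2, ?_⟩
  rw [← map_smul, Submodule.mkQ_apply, Submodule.Quotient.mk_eq_zero] at h3
  exact h3

end Mod

section Local3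

variable {A E : Type u} [CommRing A] [IsReduced A] [CommRing E] [Algebra A E]
  [Module.Flat A E] [Algebra.FormallyUnramified A E] [Algebra.EssFiniteType A E]
  (p : Ideal A) [p.IsPrime] (hp : p ∈ minimalPrimes A)

include hp in
/-- Sub-modules of `E` are finitely generated up to denominators outside a minimal prime. -/
theorem exists_finset_span_of_injective {M : Type u} [AddCommGroup M] [Module A M]
    (f : M →ₗ[A] E) (hf : Function.Injective f) :
    ∃ σ : Finset M, ∀ e : M, ∃ s : A, s ∉ p ∧ s • e ∈ Submodule.span A (σ : Set M) := by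
  have hfin := finite_tensor_atPrime (E := E) p hp
  let _ : Field (Localization.AtPrime p) := (isField_localization_atPrime_of_minimal p hp).toField
  refine exists_finset_span' p ?_
  have hinj : Function.Injective (LinearMap.baseChange (Localization.AtPrime p) f) := by
    have h1 := Module.Flat.lTensor_preserves_injective_linearMap (M := Localization.AtPrime p) f hf
    intro x y hxy
    apply h1
    simpa [LinearMap.baseChange_eq_ltensor] using hxy
  exact Module.Finite.of_injective _ hinj

include hp in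
theorem exists_mul_aeval_eq_algebraMap' (u : E)
    (hu : ∀ q : Polynomial A, u * Polynomial.aeval u q = 0 → Polynomial.aeval u q = 0) :
    ∃ s : A, s ∉ p ∧ ∃ q₀ : Polynomial A, u * Polynomial.aeval u q₀ = algebraMap A E s := by
  have hfin := finite_tensor_atPrime (E := E) p hp
  let _ : Field (Localization.AtPrime p) := (isField_localization_atPrime_of_minimal p hp).toField
  set x : Localization.AtPrime p ⊗[A] E := (1 : Localization.AtPrime p) ⊗ₜ[A] u with hx
  -- clearing denominators
  have hclear : ∀ q : Polynomial (Localization.AtPrime p), ∃ b : A, b ∉ p ∧ ∃ q₀ : Polynomial A,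
      b • Polynomial.aeval x q = (1 : Localization.AtPrime p) ⊗ₜ[A] (Polynomial.aeval u q₀) := by
    intro q
    obtain ⟨b, hb, hbq⟩ := IsLocalization.integerNormalization_spec p.primeCompl q
    set q₀ := IsLocalization.integerNormalization p.primeCompl q with hq₀
    refine ⟨b, hb, q₀, ?_⟩
    have h2 : Polynomial.aeval x (q₀.map (algebraMap A (Localization.AtPrime p))) =
        Polynomial.aeval x q₀ := Polynomial.aeval_map_algebraMap _ _ _
    have h3 : Polynomial.aeval x q₀ = (Algebra.TensorProduct.includeRight :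
        E →ₐ[A] Localization.AtPrime p ⊗[A] E) (Polynomial.aeval u q₀) := by
      rw [← Polynomial.aeval_algHom_apply]
      rfl
    have h7 : b • Polynomial.aeval x q = Polynomial.aeval x (b • q) := by
      rw [← algebraMap_smul (Localization.AtPrime p) b (Polynomial.aeval x q),
        ← algebraMap_smul (Localization.AtPrime p) b q, map_smul]
    rw [h7, ← hbq, h2, h3]
    rfl
  have hunitA : ∀ s : A, s ∉ p → ∀ z : Localization.AtPrime p ⊗[A] E, s • z = 0 → z = 0 := by
    intro s hs z hz
    have hsu : IsUnit (algebraMap A (Localization.AtPrime p) s) :=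
      IsLocalization.map_units (Localization.AtPrime p) (⟨s, hs⟩ : p.primeCompl)
    obtain ⟨v, hv⟩ := isUnit_iff_exists_inv'.mp hsu
    have : z = v • (s • z) := by
      rw [← algebraMap_smul (Localization.AtPrime p) s z, smul_smul, hv, one_smul]
    rw [this, hz, smul_zero]
  have hxnzd : ∀ q : Polynomial (Localization.AtPrime p),
      x * Polynomial.aeval x q = 0 → Polynomial.aeval x q = 0 := by
    intro q hq
    obtain ⟨b, hb, q₀, h1⟩ := hclear q
    have h4 : (1 : Localization.AtPrime p) ⊗ₜ[A] (u * Polynomial.aeval u q₀) = 0 := by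
      have h5 : (1 : Localization.AtPrime p) ⊗ₜ[A] (u * Polynomial.aeval u q₀) =
          x * ((1 : Localization.AtPrime p) ⊗ₜ[A] (Polynomial.aeval u q₀)) := by
        rw [hx, Algebra.TensorProduct.tmul_mul_tmul, one_mul]
      rw [h5, ← h1, mul_smul_comm, hq, smul_zero]
    obtain ⟨s, hs, h6⟩ := exists_smul_eq_zero_of_one_tmul_eq_zero p _ h4
    have h8 : u * Polynomial.aeval u (Polynomial.C s * q₀) = 0 := by
      rw [map_mul, Polynomial.aeval_C, ← Algebra.smul_def, mul_smul_comm]
      exact h6
    have h9 := hu _ h8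
    rw [map_mul, Polynomial.aeval_C, ← Algebra.smul_def] at h9
    apply hunitA b hb
    rw [h1]
    apply hunitA s hs
    rw [← TensorProduct.tmul_smul, h9, TensorProduct.tmul_zero]
  obtain ⟨q, hq⟩ := exists_aeval_inv_of_field' (K := Localization.AtPrime p) x hxnzd
  obtain ⟨b, hb, q₀, h1⟩ := hclear q
  have h4 : (1 : Localization.AtPrime p) ⊗ₜ[A] (u * Polynomial.aeval u q₀ - algebraMap A E b) = 0 := by
    rw [TensorProduct.tmul_sub, sub_eq_zero]
    have h5 : (1 : Localization.AtPrime p) ⊗ₜ[A] (u * Polynomial.aeval u q₀) =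
        x * ((1 : Localization.AtPrime p) ⊗ₜ[A] (Polynomial.aeval u q₀)) := by
      rw [hx, Algebra.TensorProduct.tmul_mul_tmul, one_mul]
    rw [h5, ← h1, mul_smul_comm, hq, Algebra.algebraMap_eq_smul_one, TensorProduct.tmul_smul]
    rfl
  obtain ⟨s', hs', h6⟩ := exists_smul_eq_zero_of_one_tmul_eq_zero p _ h4
  refine ⟨s' * b, ?_, Polynomial.C s' * q₀, ?_⟩
  · exact fun h => (Ideal.IsPrime.mem_or_mem inferInstance h).elim hs' hb
  · rw [smul_sub, sub_eq_zero] at h6
    rw [map_mul, Polynomial.aeval_C, map_mul, ← Algebra.smul_def, ← Algebra.smul_def,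
      mul_smul_comm, h6]

end Local3

section Sub

variable (A S : Type u) [CommRing A] [IsLocalRing A] [IsReduced A]
  [CommRing S] [IsLocalRing S] [Algebra A S] [IsLocalHom (algebraMap A S)]
  [Hensel.IsStrictHenselization A S]

theorem algebraMap_mem_nonZeroDivisors_of_flat {A S : Type*} [CommRing A] [CommRing S]
    [Algebra A S] [Module.Flat A S] (a : A) (ha : a ∈ nonZeroDivisors A) :
    algebraMap A S a ∈ nonZeroDivisors S := by
  have hreg := Module.Flat.isSMulRegular_of_nonZeroDivisors (M := S) ha
  rw [mem_nonZeroDivisors_iff_left]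
  intro x hx
  apply hreg
  show a • x = a • 0
  rw [smul_zero, Algebra.smul_def]
  exact hx

theorem flat_of_essEtale {A E : Type u} [CommRing A] [IsLocalRing A] [CommRing E] [Algebra A E]
    (hE : EGA4loc.IsEssentiallyEtale A E) : Module.Flat A E := by
  obtain ⟨C, _, _, q, hq, hC, hqA, ⟨e⟩⟩ := hE
  have h1 : Module.Flat A (Localization.AtPrime q) :=
    Module.Flat.trans A C (Localization.AtPrime q)
  exact Module.Flat.of_linearEquiv e.toLinearEquiv

/-- An element of a sub-algebra `D` of the strict henselization which is a non-zero-divisor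
of `D` divides (in `D`) a non-zero-divisor of `A`. -/
theorem exists_mul_eq_algebraMap_of_subalgebra (hmin : (minimalPrimes A).Finite)
    (D : Subalgebra A S) (e : S) (he : e ∈ D) (hnzd : ∀ y ∈ D, e * y = 0 → y = 0) :
    ∃ a ∈ nonZeroDivisors A, ∃ y ∈ D, e * y = algebraMap A S a := by
  classical
  obtain ⟨E, hsE, hEloc, hElh, hE⟩ := Hzs.exists_essEtale_subalgebra A S {e}
  have heE : e ∈ E := hsE (by simp)
  have hft := EssEtale.essFiniteType hE
  have hfe := EssEtale.formallyEtale hE
  have hflat : Module.Flat A E := flat_of_essEtale hE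
  let I : Ideal A :=
    { carrier := {a | ∃ y ∈ D, e * y = algebraMap A S a}
      add_mem' := by
        rintro a b ⟨d, hd, h⟩ ⟨d', hd', h'⟩
        exact ⟨d + d', D.add_mem hd hd', by rw [mul_add, h, h', map_add]⟩
      zero_mem' := ⟨0, D.zero_mem, by rw [mul_zero, map_zero]⟩
      smul_mem' := by
        rintro r a ⟨d, hd, h⟩
        refine ⟨r • d, D.smul_mem hd r, ?_⟩
        rw [mul_smul_comm, h, smul_eq_mul, map_mul, Algebra.smul_def] }
  have hcoe : ∀ q : Polynomial A, ((Polynomial.aeval (⟨e, heE⟩ : E) q : E) : S) =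
      Polynomial.aeval e q := fun q => Polynomial.aeval_subalgebra_coe q E ⟨e, heE⟩
  have hmemD : ∀ q : Polynomial A, Polynomial.aeval e q ∈ D := fun q =>
    Algebra.adjoin_le (Set.singleton_subset_iff.mpr he)
      (Polynomial.aeval_mem_adjoin_singleton A e)
  obtain ⟨a, ha, haI⟩ := exists_nonZeroDivisor_mem hmin I (fun p hp hle => by
    have hpp : p.IsPrime := hp.1.1
    obtain ⟨s, hs, q₀, hq₀⟩ := exists_mul_aeval_eq_algebraMap' p hp (⟨e, heE⟩ : E) (fun q hq => by
      apply Subtype.ext
      rw [hcoe]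
      apply hnzd _ (hmemD q)
      have := congrArg (Subtype.val) hq
      rw [← hcoe]
      exact this)
    have h1 : e * Polynomial.aeval e q₀ = algebraMap A S s := by
      have := congrArg (Subtype.val) hq₀
      rw [← hcoe]
      exact this
    exact hs (hle (show s ∈ I from ⟨_, hmemD q₀, h1⟩)))
  obtain ⟨y, hy, h⟩ := haI
  exact ⟨a, ha, y, hy, h⟩

/-- Division by non-zero-divisors of `A` in an essentially étale sub-algebra of the strict
henselization. -/
theorem mem_of_algebraMap_mul_mem (E : Subalgebra A S) [IsLocalRing E]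
    [IsLocalHom (algebraMap E S)] (hE : EGA4loc.IsEssentiallyEtale A E) (c : A)
    (hc : c ∈ nonZeroDivisors A) (x : S) (hx : algebraMap A S c * x ∈ E) : x ∈ E := by
  have hAE : IsLocalHom (algebraMap A E) := by
    have h1 : IsLocalHom ((algebraMap E S).comp (algebraMap A E)) := by
      rw [← IsScalarTower.algebraMap_eq A E S]; infer_instance
    exact isLocalHom_of_comp (algebraMap A E) (algebraMap E S)
  have hES : Hensel.IsStrictHenselization E S := Hzs.isStrictHenselization_of_essEtale hE
  have hff : Module.FaithfullyFlat E S := Hzs.faithfullyFlat_of_isStrictHenselization E S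
  have hffA : Module.FaithfullyFlat A S := Hzs.faithfullyFlat_of_isStrictHenselization A S
  have hcS := algebraMap_mem_nonZeroDivisors_of_flat (S := S) c hc
  let cE : E := algebraMap A E c
  have h1 : (⟨_, hx⟩ : E) ∈ ((Ideal.span {cE}).map (algebraMap E S)).comap (algebraMap E S) := by
    rw [Ideal.mem_comap, Ideal.map_span, Set.image_singleton, Ideal.mem_span_singleton]
    exact ⟨x, rfl⟩
  rw [Ideal.comap_map_eq_self_of_faithfullyFlat, Ideal.mem_span_singleton] at h1
  obtain ⟨x', hx'⟩ := h1
  have h2 : algebraMap A S c * x = algebraMap A S c * (x' : S) := by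
    have := congrArg Subtype.val hx'
    exact this
  have h3 : x = (x' : S) := by
    have h4 : algebraMap A S c * (x - x') = 0 := by rw [mul_sub, h2, sub_self]
    exact sub_eq_zero.mp (mem_nonZeroDivisors_iff_left.mp hcS _ h4)
  rw [h3]
  exact x'.2

/-- If the total ring of fractions of a sub-algebra `D` of the strict henselization is
finitely generated over that of `A`, then `D` lies in an essentially étale local sub-algebra. -/
theorem exists_essEtale_ge (hmin : (minimalPrimes A).Finite) (D : Subalgebra A S)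
    (hfg : ∃ t : Finset (FractionRing D), ∀ x : FractionRing D, ∃ a ∈ nonZeroDivisors A,
        algebraMap A (FractionRing D) a * x ∈ Algebra.adjoin A (t : Set (FractionRing D))) :
    ∃ E : Subalgebra A S, D ≤ E ∧ ∃ _ : IsLocalRing E, IsLocalHom (algebraMap E S) ∧
      EGA4loc.IsEssentiallyEtale A E := by
  classical
  have hdvd : ∀ u ∈ nonZeroDivisors D, ∃ a ∈ nonZeroDivisors A, ∃ y : D,
      u * y = algebraMap A D a := by
    intro u hu
    obtain ⟨a, ha, y, hy, h⟩ := exists_mul_eq_algebraMap_of_subalgebra A S hmin D u u.2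
      (fun y hy h => by
        have h1 : u * ⟨y, hy⟩ = 0 := Subtype.ext h
        have := mem_nonZeroDivisors_iff_left.mp hu _ h1
        exact congrArg Subtype.val this)
    exact ⟨a, ha, ⟨y, hy⟩, Subtype.ext h⟩
  have hfrac : ∀ x : FractionRing D, ∃ a ∈ nonZeroDivisors A, ∃ d : D,
      algebraMap A (FractionRing D) a * x = algebraMap D (FractionRing D) d := by
    intro x
    obtain ⟨⟨e, n⟩, hz⟩ := IsLocalization.surj (nonZeroDivisors D) x
    obtain ⟨a, ha, y, hy⟩ := hdvd n.1 n.2
    refine ⟨a, ha, e * y, ?_⟩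
    have hz' : x * algebraMap D (FractionRing D) (n : D) = algebraMap D (FractionRing D) e := hz
    rw [IsScalarTower.algebraMap_apply A D (FractionRing D), ← hy, map_mul, map_mul, ← hz']
    ring
  obtain ⟨t, ht⟩ := hfg
  choose a ha d hd using hfrac
  let a₀ : A := ∏ j ∈ t, a j
  have ha₀ : a₀ ∈ nonZeroDivisors A := Submonoid.prod_mem _ (fun j _ => ha j)
  let d' : FractionRing D → D := fun j => (∏ i ∈ t.erase j, a i) • d j
  have hd' : ∀ j ∈ t, algebraMap A (FractionRing D) a₀ * j =
      algebraMap D (FractionRing D) (d' j) := by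
    intro j hj
    show algebraMap A (FractionRing D) (∏ j ∈ t, a j) * j =
      algebraMap D (FractionRing D) ((∏ i ∈ t.erase j, a i) • d j)
    rw [← Finset.mul_prod_erase t a hj, map_mul, Algebra.smul_def, map_mul,
      ← IsScalarTower.algebraMap_apply, ← hd j]
    ring
  obtain ⟨E, hsE, hEloc, hElh, hE⟩ :=
    Hzs.exists_essEtale_subalgebra A S (t.image (fun j => ((d' j : D) : S)))
  refine ⟨E, ?_, hEloc, hElh, hE⟩
  intro x hxD
  have hclaim : ∀ y ∈ Algebra.adjoin A (t : Set (FractionRing D)), ∃ N : ℕ, ∃ z : D,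
      (z : S) ∈ E ∧
        algebraMap A (FractionRing D) (a₀ ^ N) * y = algebraMap D (FractionRing D) z := by
    intro y hy
    induction hy using Algebra.adjoin_induction with
    | mem j hj =>
      refine ⟨1, d' j, hsE ?_, by rw [pow_one]; exact hd' j hj⟩
      rw [Finset.coe_image]
      exact ⟨j, hj, rfl⟩
    | algebraMap r =>
      refine ⟨0, algebraMap A D r, E.algebraMap_mem r, ?_⟩
      rw [pow_zero, map_one, one_mul]
      exact IsScalarTower.algebraMap_apply A D _ r
    | add y₁ y₂ _ _ h₁ h₂ =>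
      obtain ⟨N₁, z₁, hz₁, e₁⟩ := h₁
      obtain ⟨N₂, z₂, hz₂, e₂⟩ := h₂
      refine ⟨N₁ + N₂, (a₀ ^ N₂) • z₁ + (a₀ ^ N₁) • z₂, ?_, ?_⟩
      · exact E.add_mem (E.smul_mem hz₁ _) (E.smul_mem hz₂ _)
      · rw [map_add, Algebra.smul_def, Algebra.smul_def, map_mul, map_mul, ← e₁, ← e₂,
          ← IsScalarTower.algebraMap_apply, ← IsScalarTower.algebraMap_apply, pow_add, map_mul]
        ring
    | mul y₁ y₂ _ _ h₁ h₂ =>
      obtain ⟨N₁, z₁, hz₁, e₁⟩ := h₁
      obtain ⟨N₂, z₂, hz₂, e₂⟩ := h₂
      refine ⟨N₁ + N₂, z₁ * z₂, E.mul_mem hz₁ hz₂, ?_⟩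
      rw [map_mul, ← e₁, ← e₂, pow_add, map_mul]
      ring
  obtain ⟨c, hc, hcx⟩ := ht (algebraMap D (FractionRing D) ⟨x, hxD⟩)
  obtain ⟨N, z, hzE, hz⟩ := hclaim _ hcx
  have h1 : algebraMap A D (a₀ ^ N * c) * ⟨x, hxD⟩ = z := by
    apply IsFractionRing.injective D (FractionRing D)
    rw [map_mul, ← IsScalarTower.algebraMap_apply, map_mul, mul_assoc, hz]
  have h2 : algebraMap A S (a₀ ^ N * c) * x = z := congrArg Subtype.val h1
  refine mem_of_algebraMap_mul_mem A S E hE (a₀ ^ N * c)
    (mul_mem (pow_mem ha₀ N) hc) x ?_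
  rw [h2]
  exact hzE

end Sub

end Groth.Agent.Lib.Helper4.TotFrac
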