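import Mathlib
import Groth.Prelude.Def_Hensel
import Groth.Prelude.Def_EssEt
import Groth.Agent.Lib.Helper4.HzsSub3
import Groth.Agent.Lib.Helper4.TotFracSub

/-!
# Descent of essential finite type along an essentially étale cover inside a strict henselization
-/

set_option autoImplicit false
set_option linter.unusedSectionVars false
universe u

namespace Groth.Agent.Lib.Helper4.EssFT

open IsLocalRing TensorProduct

section LocS

variable {R : Type u} [CommRing R] [IsLocalRing R] {S : Type u} [CommRing S] [IsLocalRing S]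
  [Algebra R S] [IsLocalHom (algebraMap R S)] {E : Type u} [CommRing E] [Algebra R E]
  (π : E →ₐ[R] S)

/-- The prime of `E` cut out by a map to a local ring. -/
def pk : Ideal E := (maximalIdeal S).comap (π : E →+* S)

instance pk_isPrime : (pk π).IsPrime := Ideal.comap_isPrime _ _

theorem mem_pk {c : E} : c ∈ pk π ↔ π c ∈ maximalIdeal S := Iff.rfl

theorem not_mem_pk {c : E} : c ∉ pk π ↔ IsUnit (π c) := by
  rw [mem_pk, mem_maximalIdeal, mem_nonunits_iff, not_not]

theorem pk_comap : (pk π).comap (algebraMap R E) = maximalIdeal R := by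
  ext a
  rw [Ideal.mem_comap, mem_pk, π.commutes]
  exact (Ideal.ext_iff.mp (IsLocalRing.maximalIdeal_comap (algebraMap R S)) a)

/-- The local ring of `E` at `pk π`. -/
abbrev LocS : Type u := Localization.AtPrime (pk π)

/-- The induced map on the local ring. -/
noncomputable def liftS : LocS π →ₐ[R] S :=
  IsLocalization.liftAlgHom (M := (pk π).primeCompl) (f := π)
    (fun y => (not_mem_pk π).mp y.2)

@[simp]
theorem liftS_algebraMap (c : E) : liftS π (algebraMap E (LocS π) c) = π c :=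
  IsLocalization.lift_eq _ _

theorem liftS_mk' (c : E) (s : (pk π).primeCompl) :
    liftS π (IsLocalization.mk' (LocS π) c s) * π (s : E) = π c := by
  rw [← liftS_algebraMap π (s : E), ← map_mul, IsLocalization.mk'_spec, liftS_algebraMap]

theorem isLocalHom_liftS : IsLocalHom (liftS π) := by
  constructor
  intro x hx
  obtain ⟨c, s, rfl⟩ := IsLocalization.exists_mk'_eq (pk π).primeCompl x
  rw [IsLocalization.AtPrime.isUnit_mk'_iff]
  have h1 := liftS_mk' π c s
  have h2 : IsUnit (π c) := by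
    rw [← h1]
    exact hx.mul ((not_mem_pk π).mp s.2)
  exact (not_mem_pk π).mpr h2

instance isLocalHom_algebraMap_locS : IsLocalHom (algebraMap R (LocS π)) := by
  have h0 := isLocalHom_liftS π
  have h1 : IsLocalHom (((liftS π : LocS π →+* S)).comp (algebraMap R (LocS π))) := by
    have : ((liftS π : LocS π →+* S)).comp (algebraMap R (LocS π)) = algebraMap R S := by
      ext a
      exact (liftS π).commutes a
    rw [this]
    infer_instance
  exact isLocalHom_of_comp (algebraMap R (LocS π)) (liftS π : LocS π →+* S)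

theorem essEtaleS [Algebra.Etale R E] : EGA4loc.IsEssentiallyEtale R (LocS π) :=
  ⟨E, inferInstance, inferInstance, pk π, inferInstance, inferInstance, pk_comap π,
    ⟨AlgEquiv.refl⟩⟩

theorem liftS_injective [Algebra.Etale R E] [hS : Hensel.IsStrictHenselization R S] :
    Function.Injective (liftS π) := by
  let _ : Algebra (LocS π) S := (liftS π : LocS π →+* S).toAlgebra
  have hst : IsScalarTower R (LocS π) S :=
    IsScalarTower.of_algebraMap_eq' (by
      ext a
      exact ((liftS π).commutes a).symm)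
  have hloc : IsLocalHom (algebraMap (LocS π) S) :=
    ⟨fun a ha => (isLocalHom_liftS π).map_nonunit a ha⟩
  have h1 : Hensel.IsStrictHenselization (LocS π) S :=
    Hzs.isStrictHenselization_of_essEtale (essEtaleS π)
  have h2 : Module.FaithfullyFlat (LocS π) S :=
    Hzs.faithfullyFlat_of_isStrictHenselization (LocS π) S
  exact FaithfulSMul.algebraMap_injective (LocS π) S

theorem faithfullyFlat_locS [Algebra.Etale R E] : Module.FaithfullyFlat R (LocS π) := by
  have : Module.Flat R (LocS π) := TotFrac.flat_of_essEtale (essEtaleS π)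
  exact Module.FaithfullyFlat.of_flat_of_isLocalHom

end LocS

section Maps

variable (A B D S C : Type u) [CommRing A] [CommRing B] [CommRing D]
  [Algebra A B] [Algebra A D] [Algebra B D] [IsScalarTower A B D]
  [CommRing S] [Algebra D S]
  [Algebra A S] [IsScalarTower A D S] [Algebra B S] [IsScalarTower B D S] [IsScalarTower A B S]
  [CommRing C] [Algebra A C] (ι : C →ₐ[A] S)

/-- The map `D ⊗ C → S`. -/
noncomputable def piD : D ⊗[A] C →ₐ[D] S :=
  Algebra.TensorProduct.lift (Algebra.ofId D S) ι (fun _ _ => Commute.all _ _)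

@[simp]
theorem piD_tmul (d : D) (c : C) : piD A D S C ι (d ⊗ₜ[A] c) = algebraMap D S d * ι c := by
  simp [piD, Algebra.ofId_apply]

/-- The map `B ⊗ C → D ⊗ C`. -/
noncomputable def jBD : B ⊗[A] C →ₐ[A] D ⊗[A] C :=
  Algebra.TensorProduct.map (IsScalarTower.toAlgHom A B D) (AlgHom.id A C)

@[simp]
theorem jBD_tmul (b : B) (c : C) : jBD A B D C (b ⊗ₜ[A] c) = algebraMap B D b ⊗ₜ[A] c := by
  simp [jBD]

theorem piD_jBD (y : B ⊗[A] C) : piD A D S C ι (jBD A B D C y) = piD A B S C ι y := by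
  induction y using TensorProduct.induction_on with
  | zero => simp
  | tmul b c =>
    rw [jBD_tmul, piD_tmul, piD_tmul, ← IsScalarTower.algebraMap_apply]
  | add x y hx hy => rw [map_add, map_add, map_add, hx, hy]

end Maps

section Core

variable (A B D S C : Type u) [CommRing A] [CommRing B] [IsLocalRing B] [CommRing D] [IsLocalRing D]
  [Algebra A B] [Algebra A D] [Algebra B D] [IsScalarTower A B D]
  [CommRing S] [IsLocalRing S] [Algebra D S] [IsLocalHom (algebraMap D S)]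
  [Algebra A S] [IsScalarTower A D S] [Algebra B S] [IsScalarTower B D S] [IsScalarTower A B S]
  [IsLocalHom (algebraMap B S)]
  [CommRing C] [Algebra A C] (ι : C →ₐ[A] S)

variable [Algebra.Etale A C]

set_option maxHeartbeats 1000000 in
/-- Core descent step. -/
theorem surjective_of_cover
    (hD : ∀ d : D, ∃ c u : C, IsUnit (ι u) ∧ algebraMap D S d * ι u = ι c)
    (t₁ : B ⊗[A] C) (ht1 : IsUnit (piD A D S C ι (jBD A B D C t₁)))
    (ht2 : ∀ x : D ⊗[A] C, piD A D S C ι x = 0 → jBD A B D C t₁ * x = 0) :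
    Function.Surjective (algebraMap B D) := by
  classical
  obtain ⟨πB, hπB⟩ : ∃ πB : B ⊗[A] C →ₐ[B] S, πB = piD A B S C ι := ⟨_, rfl⟩
  have hπB_tmul : ∀ (b : B) (c : C), πB (b ⊗ₜ[A] c) = algebraMap B S b * ι c := by
    intro b c; rw [hπB, piD_tmul]
  have hff : Module.FaithfullyFlat B (LocS πB) := faithfullyFlat_locS πB
  obtain ⟨πG, hπG⟩ : ∃ πG : LocS πB →ₐ[B] S, πG = liftS πB := ⟨_, rfl⟩
  have hπG_alg : ∀ y, πG (algebraMap (B ⊗[A] C) (LocS πB) y) = πB y := by
    intro y; rw [hπG, liftS_algebraMap]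
  -- the ring `W = D ⊗[B] G₁` and its map to `S`
  obtain ⟨ρ, hρ⟩ : ∃ ρ : D ⊗[B] LocS πB →ₐ[D] S,
      ρ = Algebra.TensorProduct.lift (Algebra.ofId D S) πG (fun _ _ => Commute.all _ _) := ⟨_, rfl⟩
  have hρ_tmul : ∀ (d : D) (g : LocS πB), ρ (d ⊗ₜ[B] g) = algebraMap D S d * πG g := by
    intro d g
    rw [hρ, Algebra.TensorProduct.lift_tmul, Algebra.ofId_apply]
  obtain ⟨κ₁, hκ₁⟩ : ∃ κ₁ : D ⊗[B] (B ⊗[A] C) →ₐ[D] D ⊗[B] LocS πB,
      κ₁ = Algebra.TensorProduct.map (AlgHom.id D D)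
        (IsScalarTower.toAlgHom B (B ⊗[A] C) (LocS πB)) := ⟨_, rfl⟩
  have hκ₁_tmul : ∀ (d : D) (y : B ⊗[A] C),
      κ₁ (d ⊗ₜ[B] y) = d ⊗ₜ[B] algebraMap (B ⊗[A] C) (LocS πB) y := by
    intro d y
    rw [hκ₁, Algebra.TensorProduct.map_tmul]
    rfl
  obtain ⟨κ, hκ⟩ : ∃ κ : D ⊗[B] (B ⊗[A] C) ≃ₐ[D] D ⊗[A] C,
      κ = Algebra.TensorProduct.cancelBaseChange A B D D C := ⟨_, rfl⟩
  have hκ_tmul : ∀ (d : D) (b : B) (c : C), κ (d ⊗ₜ[B] (b ⊗ₜ[A] c)) = (b • d) ⊗ₜ[A] c := by
    intro d b c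
    rw [hκ, Algebra.TensorProduct.cancelBaseChange_tmul]
  -- (F0)
  have hF0 : ∀ y : B ⊗[A] C, κ ((1 : D) ⊗ₜ[B] y) = jBD A B D C y := by
    intro y
    induction y using TensorProduct.induction_on with
    | zero => simp
    | tmul b c =>
      rw [hκ_tmul, jBD_tmul, Algebra.smul_def, mul_one]
    | add x y hx hy => rw [TensorProduct.tmul_add, map_add, map_add, hx, hy]
  -- (F1)
  have hF1 : ∀ x : D ⊗[B] (B ⊗[A] C), ρ (κ₁ x) = piD A D S C ι (κ x) := by
    intro x
    induction x using TensorProduct.induction_on with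
    | zero => simp
    | tmul d y =>
      induction y using TensorProduct.induction_on with
      | zero => simp
      | tmul b c =>
        rw [hκ₁_tmul, hρ_tmul, hπG_alg, hπB_tmul, hκ_tmul, piD_tmul, Algebra.smul_def, map_mul,
          ← IsScalarTower.algebraMap_apply B D S]
        ring
      | add x y hx hy =>
        rw [TensorProduct.tmul_add, map_add, map_add, map_add, map_add, hx, hy]
    | add x y hx hy => rw [map_add, map_add, map_add, map_add, hx, hy]
  -- (a)
  have ha : ∀ d : D, ∃ g : LocS πB, πG g = algebraMap D S d := by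
    intro d
    obtain ⟨c, u, hu, hdu⟩ := hD d
    have hu' : ((1 : B) ⊗ₜ[A] u) ∉ pk πB := by
      rw [not_mem_pk, hπB_tmul, map_one, one_mul]
      exact hu
    refine ⟨IsLocalization.mk' (LocS πB) ((1 : B) ⊗ₜ[A] c)
      (⟨_, hu'⟩ : (pk πB).primeCompl), ?_⟩
    have h1 := liftS_mk' πB ((1 : B) ⊗ₜ[A] c) (⟨_, hu'⟩ : (pk πB).primeCompl)
    rw [← hπG] at h1
    rw [hπB_tmul, hπB_tmul, map_one, one_mul, one_mul, ← hdu] at h1
    exact hu.mul_left_injective h1
  have ha' : ∀ z : D ⊗[B] LocS πB, ∃ g : LocS πB, ρ z = πG g := by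
    intro z
    induction z using TensorProduct.induction_on with
    | zero => exact ⟨0, by simp⟩
    | tmul d g =>
      obtain ⟨gd, hgd⟩ := ha d
      exact ⟨gd * g, by rw [hρ_tmul, map_mul, hgd]⟩
    | add x y hx hy =>
      obtain ⟨gx, hgx⟩ := hx
      obtain ⟨gy, hgy⟩ := hy
      exact ⟨gx + gy, by rw [map_add, map_add, hgx, hgy]⟩
  -- (b1)
  have hb1 : ∀ z : D ⊗[B] LocS πB, ∃ u : (pk πB).primeCompl, ∃ x : D ⊗[B] (B ⊗[A] C),
      ((1 : D) ⊗ₜ[B] algebraMap (B ⊗[A] C) (LocS πB) (u : B ⊗[A] C)) * z = κ₁ x := by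
    intro z
    induction z using TensorProduct.induction_on with
    | zero => exact ⟨1, 0, by simp⟩
    | tmul d g =>
      obtain ⟨c, u, rfl⟩ := IsLocalization.exists_mk'_eq (pk πB).primeCompl g
      refine ⟨u, d ⊗ₜ[B] c, ?_⟩
      rw [Algebra.TensorProduct.tmul_mul_tmul, one_mul, hκ₁_tmul, mul_comm,
        IsLocalization.mk'_spec]
    | add x y hx hy =>
      obtain ⟨ux, xx, hxx⟩ := hx
      obtain ⟨uy, xy, hxy⟩ := hy
      refine ⟨ux * uy, κ.symm (κ ((1 : D) ⊗ₜ[B] (uy : B ⊗[A] C)) * κ xx +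
        κ ((1 : D) ⊗ₜ[B] (ux : B ⊗[A] C)) * κ xy), ?_⟩
      rw [← map_mul, ← map_mul, ← map_add, κ.symm_apply_apply, map_add, map_mul, map_mul,
        hκ₁_tmul, hκ₁_tmul, ← hxx, ← hxy, Submonoid.coe_mul, map_mul,
        ← one_mul (1 : D), ← Algebra.TensorProduct.tmul_mul_tmul, one_mul]
      ring
  -- (b)
  have hunit : ∀ u : B ⊗[A] C, u ∉ pk πB →
      IsUnit ((1 : D) ⊗ₜ[B] algebraMap (B ⊗[A] C) (LocS πB) u) := by
    intro u hu
    have h1 : IsUnit (algebraMap (B ⊗[A] C) (LocS πB) u) :=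
      IsLocalization.map_units (LocS πB) (⟨u, hu⟩ : (pk πB).primeCompl)
    exact h1.map (Algebra.TensorProduct.includeRight : LocS πB →ₐ[B] D ⊗[B] LocS πB)
  have ht1' : t₁ ∉ pk πB := by
    rw [not_mem_pk, hπB, ← piD_jBD A B D S C ι]
    exact ht1
  have hb : ∀ z : D ⊗[B] LocS πB, ρ z = 0 → z = 0 := by
    intro z hz
    obtain ⟨u, x, hux⟩ := hb1 z
    have h1 : piD A D S C ι (κ x) = 0 := by
      rw [← hF1, ← hux, map_mul, hz, mul_zero]
    have h2 : κ (((1 : D) ⊗ₜ[B] t₁) * x) = 0 := by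
      rw [map_mul, hF0]
      exact ht2 _ h1
    have h3 : ((1 : D) ⊗ₜ[B] t₁) * x = 0 := by
      have := congrArg κ.symm h2
      rwa [κ.symm_apply_apply, map_zero] at this
    have h4 : ((1 : D) ⊗ₜ[B] algebraMap (B ⊗[A] C) (LocS πB) t₁) * κ₁ x = 0 := by
      rw [← hκ₁_tmul, ← map_mul, h3, map_zero]
    rw [← hux] at h4
    have h5 := (hunit t₁ ht1').mul_right_eq_zero.mp h4
    exact (hunit (u : B ⊗[A] C) u.2).mul_right_eq_zero.mp h5
  -- conclusion
  have hall : ∀ z : D ⊗[B] LocS πB, ∃ g : LocS πB, z = (1 : D) ⊗ₜ[B] g := by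
    intro z
    obtain ⟨g, hg⟩ := ha' z
    refine ⟨g, ?_⟩
    have h1 : ρ (z - (1 : D) ⊗ₜ[B] g) = 0 := by
      rw [map_sub, hρ_tmul, map_one, one_mul, hg, sub_self]
    exact sub_eq_zero.mp (hb _ h1)
  let f : B →ₗ[B] D := Algebra.linearMap B D
  have hsurj : Function.Surjective (f.lTensor (LocS πB)) := by
    intro z'
    obtain ⟨g, hg⟩ := hall (TensorProduct.comm B (LocS πB) D z')
    refine ⟨g ⊗ₜ[B] (1 : B), ?_⟩
    rw [LinearMap.lTensor_tmul]
    have h1 : f 1 = 1 := by simp [f]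
    rw [h1]
    apply (TensorProduct.comm B (LocS πB) D).injective
    rw [hg, TensorProduct.comm_tmul]
  exact (Module.FaithfullyFlat.lTensor_surjective_iff_surjective B (LocS πB) f).mp hsurj

end Core

section LocSub

variable {A D : Type u} [CommRing A] [CommRing D] [IsLocalRing D] [Algebra A D]

/-- The localization, inside the local ring `D`, of a sub-algebra at the contraction of the
maximal ideal. -/
def locSub (D₀ : Subalgebra A D) : Subalgebra A D where
  carrier := {x | ∃ u ∈ D₀, IsUnit u ∧ x * u ∈ D₀}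
  mul_mem' := by
    rintro x y ⟨u, hu, hu1, hxu⟩ ⟨v, hv, hv1, hyv⟩
    refine ⟨u * v, D₀.mul_mem hu hv, hu1.mul hv1, ?_⟩
    have : x * y * (u * v) = (x * u) * (y * v) := by ring
    rw [this]
    exact D₀.mul_mem hxu hyv
  add_mem' := by
    rintro x y ⟨u, hu, hu1, hxu⟩ ⟨v, hv, hv1, hyv⟩
    refine ⟨u * v, D₀.mul_mem hu hv, hu1.mul hv1, ?_⟩
    have : (x + y) * (u * v) = (x * u) * v + (y * v) * u := by ring
    rw [this]
    exact D₀.add_mem (D₀.mul_mem hxu hv) (D₀.mul_mem hyv hu)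
  algebraMap_mem' := by
    intro a
    exact ⟨1, D₀.one_mem, isUnit_one, by rw [mul_one]; exact D₀.algebraMap_mem a⟩

theorem mem_locSub {D₀ : Subalgebra A D} {x : D} :
    x ∈ locSub D₀ ↔ ∃ u ∈ D₀, IsUnit u ∧ x * u ∈ D₀ := Iff.rfl

theorem le_locSub (D₀ : Subalgebra A D) : D₀ ≤ locSub D₀ := fun x hx =>
  ⟨1, D₀.one_mem, isUnit_one, by rw [mul_one]; exact hx⟩

theorem isUnit_locSub {D₀ : Subalgebra A D} (x : locSub D₀) (hx : IsUnit (x : D)) : IsUnit x := by
  obtain ⟨u, hu, hu1, hxu⟩ := x.2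
  obtain ⟨y, hy⟩ := isUnit_iff_exists_inv.mp hx
  have hyD : y ∈ locSub D₀ := by
    refine ⟨(x : D) * u, hxu, hx.mul hu1, ?_⟩
    have : y * ((x : D) * u) = ((x : D) * y) * u := by ring
    rw [this, hy, one_mul]
    exact hu
  exact isUnit_iff_exists_inv.mpr ⟨⟨y, hyD⟩, Subtype.ext hy⟩

instance isLocalHom_locSub (D₀ : Subalgebra A D) : IsLocalHom (algebraMap (locSub D₀) D) :=
  ⟨fun x hx => isUnit_locSub x hx⟩

instance isLocalRing_locSub (D₀ : Subalgebra A D) : IsLocalRing (locSub D₀) := by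
  refine IsLocalRing.of_nonunits_add ?_
  intro a b ha hb hab
  have ha' : (a : D) ∈ nonunits D := fun h => ha (isUnit_locSub a h)
  have hb' : (b : D) ∈ nonunits D := fun h => hb (isUnit_locSub b h)
  have hab' : IsUnit ((a + b : locSub D₀) : D) := hab.map (locSub D₀).val
  exact IsLocalRing.nonunits_add ha' hb' hab'

theorem essFiniteType_locSub (D₀ : Subalgebra A D) (hfg : D₀.FG) :
    Algebra.EssFiniteType A (locSub D₀) := by
  have hft : Algebra.FiniteType A D₀ := (Subalgebra.fg_iff_finiteType D₀).mp hfg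
  let φ : D₀ →ₐ[A] locSub D₀ := Subalgebra.inclusion (le_locSub D₀)
  let _ : Algebra D₀ (locSub D₀) := φ.toRingHom.toAlgebra
  have hst : IsScalarTower A D₀ (locSub D₀) :=
    IsScalarTower.of_algebraMap_eq' (by
      refine RingHom.ext fun a => ?_
      exact (φ.commutes a).symm)
  let M : Submonoid D₀ := (IsUnit.submonoid D).comap D₀.val
  have hloc : IsLocalization M (locSub D₀) := by
    refine (isLocalization_iff _ _).mpr ⟨?_, ?_, ?_⟩
    · rintro ⟨y, hy⟩
      apply isUnit_locSub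
      exact hy
    · intro z
      obtain ⟨u, hu, hu1, hzu⟩ := z.2
      refine ⟨⟨⟨_, hzu⟩, ⟨⟨u, hu⟩, hu1⟩⟩, ?_⟩
      apply Subtype.ext
      rfl
    · intro x y hxy
      have : x = y := by
        apply Subtype.ext
        exact congrArg (fun w : locSub D₀ => (w : D)) hxy
      exact ⟨1, by rw [this]⟩
  have h1 : Algebra.EssFiniteType D₀ (locSub D₀) := Algebra.EssFiniteType.of_isLocalization _ M
  exact Algebra.EssFiniteType.comp A D₀ (locSub D₀)

end LocSub

section Wrapper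

variable (A D S C : Type u) [CommRing A] [CommRing D] [IsLocalRing D] [IsNoetherianRing D]
  [Algebra A D] [CommRing S] [IsLocalRing S] [Algebra D S] [IsLocalHom (algebraMap D S)]
  [Algebra A S] [IsScalarTower A D S]
  [CommRing C] [Algebra A C] [Algebra.Etale A C] (ι : C →ₐ[A] S)

theorem exists_finset_range_jBD (t : D ⊗[A] C) :
    ∃ s : Finset D, ∀ D₁ : Subalgebra A D, (s : Set D) ⊆ D₁ →
      ∃ t₁ : D₁ ⊗[A] C, jBD A D₁ D C t₁ = t := by
  classical
  induction t using TensorProduct.induction_on with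
  | zero => exact ⟨∅, fun D₁ _ => ⟨0, map_zero _⟩⟩
  | tmul d c =>
    refine ⟨{d}, fun D₁ h => ?_⟩
    have hd : d ∈ D₁ := h (by simp)
    exact ⟨(⟨d, hd⟩ : D₁) ⊗ₜ[A] c, by rw [jBD_tmul]; rfl⟩
  | add x y hx hy =>
    obtain ⟨sx, hsx⟩ := hx
    obtain ⟨sy, hsy⟩ := hy
    refine ⟨sx ∪ sy, fun D₁ h => ?_⟩
    obtain ⟨tx, htx⟩ := hsx D₁ (fun z hz => h (by
      rw [Finset.coe_union]; exact Or.inl hz))
    obtain ⟨ty, hty⟩ := hsy D₁ (fun z hz => h (by
      rw [Finset.coe_union]; exact Or.inr hz))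
    exact ⟨tx + ty, by rw [map_add, htx, hty]⟩

set_option maxHeartbeats 1000000 in
/-- Descent of essential finite type: a noetherian local `A`-algebra `D` contained (inside its
strict henselization) in the local ring of an étale `A`-algebra is essentially of finite type. -/
theorem essFiniteType_of_cover [hS : Hensel.IsStrictHenselization D S]
    (hD : ∀ d : D, ∃ c u : C, IsUnit (ι u) ∧ algebraMap D S d * ι u = ι c) :
    Algebra.EssFiniteType A D := by
  classical
  obtain ⟨πD, hπD⟩ : ∃ πD : D ⊗[A] C →ₐ[D] S, πD = piD A D S C ι := ⟨_, rfl⟩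
  have hinj : Function.Injective (liftS πD) := liftS_injective πD
  have hft : Algebra.FiniteType D (D ⊗[A] C) := inferInstance
  have hnoeth : IsNoetherianRing (D ⊗[A] C) := Algebra.FiniteType.isNoetherianRing D _
  -- annihilating the kernel
  have hann : ∀ x : D ⊗[A] C, πD x = 0 → ∃ t : D ⊗[A] C, IsUnit (πD t) ∧ t * x = 0 := by
    intro x hx
    have h1 : algebraMap (D ⊗[A] C) (LocS πD) x = 0 := by
      apply hinj
      rw [liftS_algebraMap, map_zero, hx]
    obtain ⟨m, hm⟩ := (IsLocalization.map_eq_zero_iff (pk πD).primeCompl (LocS πD) x).mp h1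
    exact ⟨m, (not_mem_pk πD).mp m.2, hm⟩
  have hfin : ∀ σ : Finset (D ⊗[A] C), (∀ x ∈ σ, πD x = 0) →
      ∃ t : D ⊗[A] C, IsUnit (πD t) ∧ ∀ x ∈ σ, t * x = 0 := by
    intro σ
    induction σ using Finset.induction_on with
    | empty => exact fun _ => ⟨1, by rw [map_one]; exact isUnit_one, fun x hx => by simp at hx⟩
    | insert a σ ha ih =>
      intro h
      obtain ⟨t, ht1, ht2⟩ := ih (fun x hx => h x (Finset.mem_insert_of_mem hx))
      obtain ⟨ta, hta1, hta2⟩ := hann a (h a (Finset.mem_insert_self a σ))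
      refine ⟨ta * t, by rw [map_mul]; exact hta1.mul ht1, fun x hx => ?_⟩
      rcases Finset.mem_insert.mp hx with rfl | hx'
      · rw [mul_comm ta t, mul_assoc, hta2, mul_zero]
      · rw [mul_assoc, ht2 x hx', mul_zero]
  obtain ⟨σ, hσ⟩ := (isNoetherianRing_iff_ideal_fg (D ⊗[A] C)).mp hnoeth (RingHom.ker (πD : D ⊗[A] C →+* S))
  obtain ⟨t, ht1, ht2⟩ := hfin σ (fun x hx => by
    have : x ∈ RingHom.ker (πD : D ⊗[A] C →+* S) := by
      rw [← hσ]; exact Ideal.subset_span hx
    exact this)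
  have ht3 : ∀ x : D ⊗[A] C, πD x = 0 → t * x = 0 := by
    intro x hx
    have hx' : x ∈ Ideal.span (σ : Set (D ⊗[A] C)) := by
      rw [hσ]; exact hx
    refine Submodule.span_induction (p := fun x _ => t * x = 0) ?_ ?_ ?_ ?_ hx'
    · intro y hy
      exact ht2 y hy
    · exact mul_zero t
    · intro y z _ _ h₁ h₂
      show t * (y + z) = 0
      have h₁' : t * y = 0 := h₁
      have h₂' : t * z = 0 := h₂
      rw [mul_add, h₁', h₂', add_zero]
    · intro r y _ h₁
      show t * (r • y) = 0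
      have h₁' : t * y = 0 := h₁
      rw [smul_eq_mul, mul_left_comm, h₁', mul_zero]
  -- the sub-algebra
  obtain ⟨s, hs⟩ := exists_finset_range_jBD A D C t
  obtain ⟨D₀, hD₀⟩ : ∃ D₀ : Subalgebra A D, D₀ = Algebra.adjoin A (s : Set D) := ⟨_, rfl⟩
  have hD₀fg : D₀.FG := ⟨s, hD₀.symm⟩
  obtain ⟨D₁, hD₁⟩ : ∃ D₁ : Subalgebra A D, D₁ = locSub D₀ := ⟨_, rfl⟩
  have hloc₁ : IsLocalRing D₁ := by rw [hD₁]; infer_instance
  have hlh₁ : IsLocalHom (algebraMap D₁ D) := by rw [hD₁]; infer_instance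
  have heft : Algebra.EssFiniteType A D₁ := by rw [hD₁]; exact essFiniteType_locSub D₀ hD₀fg
  have hsD₁ : (s : Set D) ⊆ D₁ := by
    rw [hD₁]
    intro x hx
    exact le_locSub D₀ (by rw [hD₀]; exact Algebra.subset_adjoin hx)
  obtain ⟨t₁, ht₁⟩ := hs D₁ hsD₁
  have hlh₁S : IsLocalHom (algebraMap D₁ S) := by
    have : algebraMap D₁ S = (algebraMap D S).comp (algebraMap D₁ D) :=
      IsScalarTower.algebraMap_eq D₁ D S
    rw [this]
    exact RingHom.isLocalHom_comp _ _
  have hsurj : Function.Surjective (algebraMap D₁ D) := by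
    refine surjective_of_cover A D₁ D S C ι hD t₁ ?_ ?_
    · rw [ht₁, ← hπD]; exact ht1
    · intro x hx
      rw [ht₁]
      exact ht3 x (by rw [hπD]; exact hx)
  let e : D₁ ≃ₐ[A] D := AlgEquiv.ofBijective D₁.val ⟨Subtype.val_injective, hsurj⟩
  exact (Algebra.EssFiniteType.iff_of_algEquiv e).mp heft

end Wrapper

end Groth.Agent.Lib.Helper4.EssFT
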