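import Mathlib
import Groth.Prelude.Def_Hensel
import Groth.Agent.Lib.Helper14.ReducedEtale
import Groth.Agent.Lib.Helper4.HznProps
import Groth.Agent.Lib.Helper4.HzsProps

/-!
# Reducedness of (strict) henselizations
-/

set_option autoImplicit false
universe u

namespace Groth.Agent.Lib.Helper4.Hzn

open IsLocalRing TensorProduct

section

variable {R : Type*} [CommRing R] {ι : Type*} [Preorder ι] [IsDirectedOrder ι] [Nonempty ι]
  {G : ι → Type*} [∀ i, CommRing (G i)] [∀ i, Algebra R (G i)]
  (f : ∀ i j, i ≤ j → G i →ₐ[R] G j) [DirectedSystem G (f · · ·)]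

theorem isReduced_directLimit [∀ i, IsReduced (G i)] : IsReduced (DirectLimit G f) := by
  refine ⟨fun x hx => ?_⟩
  obtain ⟨n, hn⟩ := hx
  obtain ⟨i, a, rfl⟩ := DirectLimit.exists_eq_mk f x
  have h1 : DirectLimit.Algebra.of G f i (a ^ n) = 0 := by rw [map_pow]; exact hn
  rw [of_apply, mk_eq_zero_iff] at h1
  obtain ⟨j, hij, hj⟩ := h1
  rw [map_pow] at hj
  have h0 : f i j hij a = 0 := IsNilpotent.eq_zero ⟨n, hj⟩
  change DirectLimit.Algebra.of G f i a = 0
  rw [← of_f' f hij, h0, map_zero]

end

variable (R : Type u) [CommRing R] [IsLocalRing R]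

instance Idx.isReduced [IsReduced R] (i : Idx R) : IsReduced i.G := by
  have : IsReduced i.C := Groth.Agent.Lib.Helper14.isReduced_of_etale R i.C
  exact inferInstanceAs (IsReduced (Localization.AtPrime (cker i.χ)))

instance Hz.isReduced [IsReduced R] : IsReduced (Hz R) :=
  isReduced_directLimit _

theorem isReduced_iff_of_isHenselization (S : Type u) [CommRing S] [IsLocalRing S] [Algebra R S]
    [IsLocalHom (algebraMap R S)] [Hensel.IsHenselization R S] : IsReduced S ↔ IsReduced R := by
  constructor
  · intro h
    have := faithfullyFlat_of_isHenselization R S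
    exact isReduced_of_injective (algebraMap R S) (FaithfulSMul.algebraMap_injective R S)
  · intro h
    obtain ⟨e⟩ := nonempty_algEquiv R S (Hz R)
    exact isReduced_of_injective e.toRingHom e.injective

end Groth.Agent.Lib.Helper4.Hzn

namespace Groth.Agent.Lib.Helper4.Hzs

open IsLocalRing TensorProduct

variable (R : Type u) [CommRing R] [IsLocalRing R]

instance Idx.isReduced [IsReduced R] (i : Idx R) : IsReduced i.G := by
  have : IsReduced i.C := Groth.Agent.Lib.Helper14.isReduced_of_etale R i.C
  exact inferInstanceAs (IsReduced (Localization.AtPrime (cker i.χ)))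

instance Hs.isReduced [IsReduced R] : IsReduced (Hs R) :=
  Hzn.isReduced_directLimit _

theorem isReduced_iff_of_isStrictHenselization (S : Type u) [CommRing S] [IsLocalRing S]
    [Algebra R S] [IsLocalHom (algebraMap R S)] [Hensel.IsStrictHenselization R S] :
    IsReduced S ↔ IsReduced R := by
  constructor
  · intro h
    have := faithfullyFlat_of_isStrictHenselization R S
    exact isReduced_of_injective (algebraMap R S) (FaithfulSMul.algebraMap_injective R S)
  · intro h
    obtain ⟨e⟩ := nonempty_algEquiv_strict R S (Hs R)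
    exact isReduced_of_injective e.toRingHom e.injective

end Groth.Agent.Lib.Helper4.Hzs
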