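import Mathlib
import Groth.Prelude.Def_Hensel
import Groth.Agent.Lib.Helper4.HzsBC3

/-!
# Maximal ideals of `C ⊗[A] B` for local `C` and integral local `B` over `A`
correspond to the primes of `κ(C) ⊗[κ(A)] κ(B)`.
-/

set_option autoImplicit false
set_option linter.unusedSectionVars false
universe u

namespace Groth.Agent.Lib.Helper4.StrictCard

open IsLocalRing TensorProduct

section L

variable (Ah Bh Ch : Type u) [CommRing Ah] [IsLocalRing Ah] [CommRing Bh] [IsLocalRing Bh]
  [CommRing Ch] [IsLocalRing Ch] [Algebra Ah Bh] [Algebra Ah Ch]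
  [IsLocalHom (algebraMap Ah Bh)] [IsLocalHom (algebraMap Ah Ch)]

theorem bcθ_surjective : Function.Surjective (Hzs.bcθ Ah Bh Ch) := by
  intro x
  induction x using TensorProduct.induction_on with
  | zero => exact ⟨0, map_zero _⟩
  | tmul c b =>
    obtain ⟨c, rfl⟩ := residue_surjective c
    obtain ⟨b, rfl⟩ := residue_surjective b
    exact ⟨c ⊗ₜ[Ah] b, Hzs.bcθ_tmul Ah Bh Ch c b⟩
  | add x y hx hy =>
    obtain ⟨x', rfl⟩ := hx
    obtain ⟨y', rfl⟩ := hy
    exact ⟨x' + y', map_add _ _ _⟩

variable [Algebra.IsIntegral Ah Bh]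

theorem isMaximal_of_isPrime_tensor
    (P : Ideal (ResidueField Ch ⊗[ResidueField Ah] ResidueField Bh)) [hP : P.IsPrime] :
    P.IsMaximal := by
  have hint : Algebra.IsIntegral (ResidueField Ah) (ResidueField Bh) :=
    Hzs.isIntegral_residueField_of_isIntegral Ah Bh
  have hint2 : Algebra.IsIntegral (ResidueField Ch)
      (ResidueField Ch ⊗[ResidueField Ah] ResidueField Bh) := inferInstance
  refine Ideal.isMaximal_of_isIntegral_of_isMaximal_comap (R := ResidueField Ch) P ?_
  have hprime : (P.comap (algebraMap (ResidueField Ch)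
      (ResidueField Ch ⊗[ResidueField Ah] ResidueField Bh))).IsPrime := Ideal.comap_isPrime _ _
  have hbot : P.comap (algebraMap (ResidueField Ch)
      (ResidueField Ch ⊗[ResidueField Ah] ResidueField Bh)) = ⊥ :=
    (Ideal.eq_bot_or_top _).resolve_right hprime.ne_top
  rw [hbot]
  exact Ideal.bot_isMaximal

/-- The map from primes of the tensor product of residue fields to maximal ideals. -/
noncomputable def toMax :
    PrimeSpectrum (ResidueField Ch ⊗[ResidueField Ah] ResidueField Bh) →
      MaximalSpectrum (Ch ⊗[Ah] Bh) := fun P =>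
  ⟨P.asIdeal.comap (Hzs.bcθ Ah Bh Ch).toRingHom, by
    have := isMaximal_of_isPrime_tensor Ah Bh Ch P.asIdeal
    exact Ideal.comap_isMaximal_of_surjective _ (bcθ_surjective Ah Bh Ch)⟩

theorem toMax_bijective : Function.Bijective (toMax Ah Bh Ch) := by
  constructor
  · intro P Q h
    have h1 : P.asIdeal.comap (Hzs.bcθ Ah Bh Ch).toRingHom =
        Q.asIdeal.comap (Hzs.bcθ Ah Bh Ch).toRingHom := congrArg MaximalSpectrum.asIdeal h
    exact PrimeSpectrum.ext
      (Ideal.comap_injective_of_surjective _ (bcθ_surjective Ah Bh Ch) h1)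
  · intro 𝔫
    have := 𝔫.isMaximal
    obtain ⟨P, hP, h⟩ := Hzs.bc_exists_factor' Ah Bh Ch 𝔫.asIdeal
    refine ⟨⟨P, hP⟩, ?_⟩
    cases 𝔫
    simp only [toMax] at h ⊢
    congr
    exact h.symm

theorem card_maximalSpectrum_tensor :
    ENat.card (MaximalSpectrum (Ch ⊗[Ah] Bh)) =
      ENat.card (PrimeSpectrum (ResidueField Ch ⊗[ResidueField Ah] ResidueField Bh)) :=
  (ENat.card_congr (Equiv.ofBijective _ (toMax_bijective Ah Bh Ch))).symm

end L

end Groth.Agent.Lib.Helper4.StrictCard
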