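import Mathlib
import Groth.Prelude.Def_CAlg2

/-!
# Normalization of a reduced ring versus `CAlg2.normRed`, and transport of the
"purely inseparable residue fields" condition along a ring isomorphism
-/

set_option autoImplicit false
universe u

namespace Groth.Agent.Lib.Helper4.StrictExt

/-- Transport of the `p^n`-power condition along a ring isomorphism. -/
theorem pow_condition_transfer {A N N' : Type u} [CommRing A] [CommRing N] [CommRing N']
    (f : A →+* N) (f' : A →+* N') (e : N ≃+* N') (he : ∀ a, e (f a) = f' a)
    (h : ∀ (M : Ideal N) [M.IsMaximal], ∀ x : N ⧸ M, ∃ n : ℕ,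
      x ^ (ringExpChar (N ⧸ M)) ^ n ∈ ((Ideal.Quotient.mk M).comp f).range) :
    ∀ (M' : Ideal N') [M'.IsMaximal], ∀ x : N' ⧸ M', ∃ n : ℕ,
      x ^ (ringExpChar (N' ⧸ M')) ^ n ∈ ((Ideal.Quotient.mk M').comp f').range := by
  intro M' hM' x'
  have hM : (M'.comap e.toRingHom).IsMaximal :=
    Ideal.comap_isMaximal_of_surjective e.toRingHom e.surjective
  let ē : N ⧸ M'.comap e.toRingHom →+* N' ⧸ M' := Ideal.quotientMap M' e.toRingHom le_rfl
  have hēinj : Function.Injective ē := Ideal.quotientMap_injective
  have hēmk : ∀ y : N, ē (Ideal.Quotient.mk _ y) = Ideal.Quotient.mk M' (e y) := fun y =>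
    Ideal.quotientMap_mk
  obtain ⟨y', rfl⟩ := Ideal.Quotient.mk_surjective x'
  obtain ⟨y, rfl⟩ := e.surjective y'
  obtain ⟨n, a, ha⟩ := h (M'.comap e.toRingHom) (Ideal.Quotient.mk _ y)
  have hchar : ringChar (N ⧸ M'.comap e.toRingHom) = ringChar (N' ⧸ M') := by
    have h1 : CharP (N' ⧸ M') (ringChar (N ⧸ M'.comap e.toRingHom)) :=
      (RingHom.charP_iff ē hēinj _).mp (ringChar.charP _)
    exact (ringChar.eq (N' ⧸ M') (ringChar (N ⧸ M'.comap e.toRingHom))).symm
  have hexp : ringExpChar (N ⧸ M'.comap e.toRingHom) = ringExpChar (N' ⧸ M') := by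
    unfold ringExpChar
    rw [hchar]
  refine ⟨n, a, ?_⟩
  rw [← hexp, ← hēmk, ← map_pow, ← ha]
  change Ideal.Quotient.mk M' (f' a) = ē (Ideal.Quotient.mk _ (f a))
  rw [hēmk, he]

section Reduced

variable (A : Type u) [CommRing A] [IsReduced A]

/-- `A ≃ A_red` for reduced `A`. -/
noncomputable def redEquiv : A ≃+* CAlg2.red A :=
  RingEquiv.ofBijective (Ideal.Quotient.mk (nilradical A))
    ⟨by
      rw [RingHom.injective_iff_ker_eq_bot, Ideal.mk_ker]
      exact nilradical_eq_bot_iff.mpr inferInstance,
     Ideal.Quotient.mk_surjective⟩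

theorem redEquiv_apply (a : A) : redEquiv A a = Ideal.Quotient.mk (nilradical A) a := rfl

/-- the induced isomorphism of total rings of fractions -/
noncomputable def fracEquiv : FractionRing A ≃+* FractionRing (CAlg2.red A) :=
  IsFractionRing.ringEquivOfRingEquiv (redEquiv A)

theorem fracEquiv_algebraMap (a : A) :
    fracEquiv A (algebraMap A (FractionRing A) a) =
      algebraMap (CAlg2.red A) (FractionRing (CAlg2.red A)) (Ideal.Quotient.mk (nilradical A) a) :=
  IsFractionRing.ringEquivOfRingEquiv_algebraMap (redEquiv A) a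

theorem fracEquiv_symm_algebraMap (b : CAlg2.red A) :
    (fracEquiv A).symm (algebraMap (CAlg2.red A) (FractionRing (CAlg2.red A)) b) =
      algebraMap A (FractionRing A) ((redEquiv A).symm b) := by
  rw [RingEquiv.symm_apply_eq, fracEquiv_algebraMap, ← redEquiv_apply, RingEquiv.apply_symm_apply]

/-- forward map on integral closures -/
noncomputable def normHom : integralClosure A (FractionRing A) →+* CAlg2.normRed A :=
  ((fracEquiv A : FractionRing A →+* FractionRing (CAlg2.red A))).restrict
    (integralClosure A (FractionRing A))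
    (integralClosure (CAlg2.red A) (FractionRing (CAlg2.red A)))
    (fun x hx => IsIntegral.map_of_comp_eq (redEquiv A : A →+* CAlg2.red A)
      (fracEquiv A : FractionRing A →+* FractionRing (CAlg2.red A))
      (by ext a; exact (fracEquiv_algebraMap A a).symm) hx)

/-- backward map on integral closures -/
noncomputable def normInv : CAlg2.normRed A →+* integralClosure A (FractionRing A) :=
  (((fracEquiv A).symm : FractionRing (CAlg2.red A) →+* FractionRing A)).restrict
    (integralClosure (CAlg2.red A) (FractionRing (CAlg2.red A)))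
    (integralClosure A (FractionRing A))
    (fun x hx => IsIntegral.map_of_comp_eq ((redEquiv A).symm : CAlg2.red A →+* A)
      ((fracEquiv A).symm : FractionRing (CAlg2.red A) →+* FractionRing A)
      (by ext b; exact (fracEquiv_symm_algebraMap A b).symm) hx)

/-- The normalization of a reduced ring is `normRed`. -/
noncomputable def normEquiv : integralClosure A (FractionRing A) ≃+* CAlg2.normRed A :=
  RingEquiv.ofRingHom (normHom A) (normInv A)
    (by
      ext x
      exact (fracEquiv A).apply_symm_apply x.1)
    (by
      ext x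
      exact (fracEquiv A).symm_apply_apply x.1)

theorem normEquiv_algebraMap (a : A) :
    normEquiv A (algebraMap A (integralClosure A (FractionRing A)) a) =
      algebraMap (CAlg2.red A) (CAlg2.normRed A) (Ideal.Quotient.mk (nilradical A) a) := by
  apply Subtype.ext
  exact fracEquiv_algebraMap A a

end Reduced

end Groth.Agent.Lib.Helper4.StrictExt
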