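import Mathlib
import Groth.Prelude.Def_Hensel
import Groth.Prelude.Def_EssEt
import Groth.Agent.Lib.Helper4.StrictCard3
import Groth.Agent.Lib.Helper4.StrictExt2
import Groth.Agent.Lib.Helper4.BrnchCount3
import Groth.Agent.Lib.Helper4.BrnchLocDom5
import Groth.Agent.Lib.Helper4.BrnchNormal
import Groth.Agent.Lib.Helper4.BrnchMin
import Groth.Agent.Lib.Helper4.TotFracSub

/-!
# Minimal primes of an essentially étale local algebra over a henselian local ring
-/

set_option autoImplicit false
set_option linter.unusedSectionVars false
universe u

namespace Groth.Agent.Lib.Helper4.StrictCard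

open IsLocalRing TensorProduct

theorem card_maximalSpectrum_congr {R S : Type u} [CommRing R] [CommRing S] (e : R ≃+* S) :
    ENat.card (MaximalSpectrum R) = ENat.card (MaximalSpectrum S) := by
  let f : MaximalSpectrum S → MaximalSpectrum R := fun M =>
    ⟨M.asIdeal.comap e.toRingHom, Ideal.comap_isMaximal_of_surjective _ e.surjective⟩
  have hf : Function.Bijective f := by
    constructor
    · intro M N h
      have h1 : M.asIdeal.comap e.toRingHom = N.asIdeal.comap e.toRingHom :=
        congrArg MaximalSpectrum.asIdeal h
      have h2 := Ideal.comap_injective_of_surjective _ e.surjective h1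
      cases M; cases N
      simp only at h2
      congr
    · intro M
      have hM := M.isMaximal
      refine ⟨⟨M.asIdeal.comap e.symm.toRingHom,
        Ideal.comap_isMaximal_of_surjective _ e.symm.surjective⟩, ?_⟩
      cases M
      simp only [f]
      congr
      rw [Ideal.comap_comap]
      have : (e.symm.toRingHom).comp e.toRingHom = RingHom.id R :=
        RingHom.ext fun x => e.symm_apply_apply x
      rw [this, Ideal.comap_id]
  exact (ENat.card_congr (Equiv.ofBijective f hf)).symm

section Norm

variable (A : Type u) [CommRing A] [IsReduced A]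

/-- The normalization in both guises, as `A`-algebras. -/
noncomputable def normAlgEquiv : integralClosure A (FractionRing A) ≃ₐ[A] CAlg2.normRed A :=
  { StrictExt.normEquiv A with
    commutes' := fun a => StrictExt.normEquiv_algebraMap A a }

theorem normAlgEquiv_apply (x : integralClosure A (FractionRing A)) :
    normAlgEquiv A x = StrictExt.normEquiv A x := rfl

end Norm

section Chain

variable (A E : Type u) [CommRing A] [IsLocalRing A] [CommRing E] [HenselianLocalRing E]
  [Algebra A E]

/-- The number of minimal primes of a henselian essentially étale local `A`-algebra. -/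
theorem card_minimalPrimes_essEtale (hfin : (minimalPrimes A).Finite)
    (hE : EGA4loc.IsEssentiallyEtale A E) :
    ENat.card (minimalPrimes E) = ENat.card (MaximalSpectrum (CAlg2.normRed A ⊗[A] E)) := by
  have hflat : Module.Flat A E := TotFrac.flat_of_essEtale hE
  have hint : Algebra.IsIntegral A (CAlg2.normRed A) := BrnchCount.isIntegral_normRed A
  have hGU : BrnchLocDom.LocGU (CAlg2.normRed A) := fun p _ =>
    ⟨(BrnchNormal.normRed_localization A hfin p).1,
      BrnchNormal.normRed_localization_isGeomUnibranch A hfin p⟩
  have hLD := BrnchLocDom.locDom_tensor_essEtale A (CAlg2.normRed A) E hE hGU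
  have h1 := ENat.card_congr (BrnchMin.bijOn_normRed_tensor A E).equiv
  have h2 := BrnchCount.card_minimalPrimes_eq_card_maximalSpectrum hLD
    (fun q hq => BrnchCount.existsUnique_isMaximal_ge A (CAlg2.normRed A) E q)
  rw [← h1, h2]

variable [IsReduced A] [IsLocalRing (integralClosure A (FractionRing A))]
  [IsLocalHom (algebraMap A (integralClosure A (FractionRing A)))] [IsLocalHom (algebraMap A E)]

theorem card_minimalPrimes_essEtale' (hfin : (minimalPrimes A).Finite)
    (hE : EGA4loc.IsEssentiallyEtale A E) :
    ENat.card (minimalPrimes E) =
      ENat.card (PrimeSpectrum (ResidueField E ⊗[ResidueField A]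
        ResidueField (integralClosure A (FractionRing A)))) := by
  rw [card_minimalPrimes_essEtale A E hfin hE]
  let e : E ⊗[A] (integralClosure A (FractionRing A)) ≃ₐ[A] CAlg2.normRed A ⊗[A] E :=
    (Algebra.TensorProduct.congr (AlgEquiv.refl : E ≃ₐ[A] E) (normAlgEquiv A)).trans
      (Algebra.TensorProduct.comm A E (CAlg2.normRed A))
  have h1 := card_maximalSpectrum_congr (R := E ⊗[A] (integralClosure A (FractionRing A)))
    (S := CAlg2.normRed A ⊗[A] E) e.toRingEquiv
  have h2 := card_maximalSpectrum_tensor A (integralClosure A (FractionRing A)) E
  exact h1.symm.trans h2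

end Chain

end Groth.Agent.Lib.Helper4.StrictCard
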