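import Mathlib
import Groth.Prelude.Def_Hensel
import Groth.Prelude.Def_Brnch
import Groth.Agent.Lib.Helper4.BrnchCount3
import Groth.Agent.Lib.Helper4.BrnchLocDom4
import Groth.Agent.Lib.Helper4.BrnchNormal
import Groth.Agent.Lib.Helper4.BrnchMin
import Groth.Agent.Lib.Helper4.HzsProps
import Groth.Agent.Lib.Helper4.BrnchEmb
import Groth.Agent.Lib.Helper4.StrictCard4

/-!
# Counting minimal primes of a strict henselization via a model of the normalization
-/

set_option autoImplicit false
set_option linter.unusedSectionVars false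
universe u

namespace Groth.Agent.Lib.Helper4.NormSh

open TensorProduct IsLocalRing

section Count

variable (R T R' : Type u) [CommRing R] [IsLocalRing R] [IsReduced R] [CommRing T] [IsLocalRing T]
  [Algebra R T] [IsLocalHom (algebraMap R T)] [hT : Hensel.IsStrictHenselization R T]
  [CommRing R'] [Algebra R R']
  (Θ : integralClosure R (FractionRing R) ≃+* R')
  (hΘ : ∀ r : R, Θ (algebraMap R (integralClosure R (FractionRing R)) r) = algebraMap R R' r)

/-- The model as an algebra isomorphism. -/
noncomputable def modelAlgEquiv : integralClosure R (FractionRing R) ≃ₐ[R] R' :=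
  { Θ with commutes' := hΘ }

include Θ hΘ in
theorem isIntegral_model : Algebra.IsIntegral R R' :=
  Algebra.IsIntegral.of_surjective (modelAlgEquiv R R' Θ hΘ).toAlgHom
    (modelAlgEquiv R R' Θ hΘ).surjective

include Θ hΘ in
theorem card_minimalPrimes_eq_card_maximalSpectrum_tensor (hmin : (minimalPrimes R).Finite) :
    ENat.card (minimalPrimes T) = ENat.card (MaximalSpectrum (R' ⊗[R] T)) := by
  have hff : Module.FaithfullyFlat R T := Hzs.faithfullyFlat_of_isStrictHenselization R T
  have hint : Algebra.IsIntegral R (CAlg2.normRed R) := BrnchCount.isIntegral_normRed R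
  have hH : HenselianLocalRing T := Hensel.IsStrictHenselization.henselian R
  have hGU : BrnchLocDom.LocGU (CAlg2.normRed R) := fun p _ =>
    ⟨(BrnchNormal.normRed_localization R hmin p).1,
      BrnchNormal.normRed_localization_isGeomUnibranch R hmin p⟩
  have hLD := BrnchLocDom.locDom_tensor_strictHenselization R (CAlg2.normRed R) T hGU
  have h1 := ENat.card_congr (BrnchMin.bijOn_normRed_tensor R T).equiv
  have h2 := BrnchCount.card_minimalPrimes_eq_card_maximalSpectrum hLD
    (fun q hq => BrnchCount.existsUnique_isMaximal_ge R (CAlg2.normRed R) T q)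
  let e : CAlg2.normRed R ⊗[R] T ≃ₐ[R] R' ⊗[R] T :=
    Algebra.TensorProduct.congr ((StrictCard.normAlgEquiv R).symm.trans (modelAlgEquiv R R' Θ hΘ))
      (AlgEquiv.refl : T ≃ₐ[R] T)
  have h3 := StrictCard.card_maximalSpectrum_congr (R := CAlg2.normRed R ⊗[R] T)
    (S := R' ⊗[R] T) e.toRingEquiv
  rw [← h1, h2, h3]

include Θ hΘ in
theorem finite_maximal_of_finite_minimalPrimes (hmin : (minimalPrimes R).Finite)
    (hminT : (minimalPrimes T).Finite) : {N : Ideal R' | N.IsMaximal}.Finite := by
  have hff : Module.FaithfullyFlat R T := Hzs.faithfullyFlat_of_isStrictHenselization R T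
  have hint : Algebra.IsIntegral R R' := isIntegral_model R R' Θ hΘ
  have h1 := card_minimalPrimes_eq_card_maximalSpectrum_tensor R T R' Θ hΘ hmin
  have h2 : Finite (minimalPrimes T) := hminT
  have h3 : Finite (MaximalSpectrum (R' ⊗[R] T)) := by
    rw [← ENat.card_lt_top, ← h1, ENat.card_lt_top]
    exact h2
  have h4 : Finite (MaximalSpectrum R') :=
    Finite.of_surjective _ (BrnchCount.contr_surjective R R' T)
  have h5 : {N : Ideal R' | N.IsMaximal} = Set.range (MaximalSpectrum.asIdeal (R := R')) := by
    ext N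
    constructor
    · intro hN
      exact ⟨⟨N, hN⟩, rfl⟩
    · rintro ⟨M, rfl⟩
      exact M.isMaximal
  rw [h5]
  exact Set.finite_range _

end Count

section HomOver

variable (R R' : Type u) [CommRing R] [IsLocalRing R] [CommRing R']

/-- Ring maps from `R'` to the algebraic closure of the residue field of `R`, over `R`. -/
def HomOver (f : R →+* R') : Type u :=
  {σ : R' →+* AlgebraicClosure (ResidueField R) // σ.comp f = Brnch.toClosure R}

theorem ker_toClosure : RingHom.ker (Brnch.toClosure R) = maximalIdeal R := by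
  ext x
  rw [RingHom.mem_ker]
  show algebraMap (ResidueField R) (AlgebraicClosure (ResidueField R)) (residue R x) = 0 ↔ _
  rw [map_eq_zero_iff _ (algebraMap (ResidueField R)
    (AlgebraicClosure (ResidueField R))).injective, residue_eq_zero_iff]

variable [Algebra R R'] [Algebra.IsIntegral R R']

theorem isMaximal_ker_homOver (σ : HomOver R R' (algebraMap R R')) :
    (RingHom.ker σ.1).IsMaximal := by
  have hp : (RingHom.ker σ.1).IsPrime := RingHom.ker_isPrime σ.1
  apply Ideal.isMaximal_of_isIntegral_of_isMaximal_comap (R := R)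
  have h1 : (RingHom.ker σ.1).comap (algebraMap R R') = maximalIdeal R := by
    rw [RingHom.comap_ker, σ.2, ker_toClosure]
  rw [h1]
  infer_instance

/-- Pairs (maximal ideal, embedding of its residue field) give ring maps. -/
noncomputable def sigmaToHomOver :
    (Σ m' : MaximalSpectrum R', BrnchEmb.EmbG R R' m') → HomOver R R' (algebraMap R R') :=
  fun p => ⟨p.2.1.comp (Ideal.Quotient.mk p.1.asIdeal), by
    rw [RingHom.comp_assoc]; exact p.2.2⟩

theorem ker_sigmaToHomOver (p : Σ m' : MaximalSpectrum R', BrnchEmb.EmbG R R' m') :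
    RingHom.ker (sigmaToHomOver R R' p).1 = p.1.asIdeal := by
  have := p.1.isMaximal
  let _ : Field (R' ⧸ p.1.asIdeal) := Ideal.Quotient.field _
  show RingHom.ker (p.2.1.comp (Ideal.Quotient.mk p.1.asIdeal)) = _
  rw [← RingHom.comap_ker, (RingHom.injective_iff_ker_eq_bot p.2.1).mp p.2.1.injective,
    ← RingHom.ker_eq_comap_bot, Ideal.mk_ker]

theorem sigmaToHomOver_injective : Function.Injective (sigmaToHomOver R R') := by
  rintro ⟨m₁, σ₁⟩ ⟨m₂, σ₂⟩ h
  have h1 : m₁.asIdeal = m₂.asIdeal := by
    rw [← ker_sigmaToHomOver R R' ⟨m₁, σ₁⟩, ← ker_sigmaToHomOver R R' ⟨m₂, σ₂⟩, h]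
  have h2 : m₁ = m₂ := MaximalSpectrum.ext h1
  subst h2
  congr 1
  apply Subtype.ext
  apply Ideal.Quotient.ringHom_ext
  exact congrArg Subtype.val h

theorem sigmaToHomOver_surjective : Function.Surjective (sigmaToHomOver R R') := by
  intro σ
  have hmax := isMaximal_ker_homOver R R' σ
  refine ⟨⟨⟨RingHom.ker σ.1, hmax⟩, ⟨RingHom.kerLift σ.1, ?_⟩⟩, ?_⟩
  · apply RingHom.ext
    intro r
    show RingHom.kerLift σ.1 (Ideal.Quotient.mk _ (algebraMap R R' r)) = _
    rw [RingHom.kerLift_mk]
    exact RingHom.congr_fun σ.2 r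
  · apply Subtype.ext
    apply RingHom.ext
    intro x
    show RingHom.kerLift σ.1 (Ideal.Quotient.mk _ x) = _
    rw [RingHom.kerLift_mk]

theorem card_sigma_eq_card_homOver :
    ENat.card (Σ m' : MaximalSpectrum R', BrnchEmb.EmbG R R' m') =
      ENat.card (HomOver R R' (algebraMap R R')) :=
  ENat.card_congr (Equiv.ofBijective (sigmaToHomOver R R')
    ⟨sigmaToHomOver_injective R R', sigmaToHomOver_surjective R R'⟩)

end HomOver

section Count2

variable (R T R' : Type u) [CommRing R] [IsLocalRing R] [IsReduced R] [CommRing T] [IsLocalRing T]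
  [Algebra R T] [IsLocalHom (algebraMap R T)] [hT : Hensel.IsStrictHenselization R T]
  [CommRing R'] [Algebra R R']
  (Θ : integralClosure R (FractionRing R) ≃+* R')
  (hΘ : ∀ r : R, Θ (algebraMap R (integralClosure R (FractionRing R)) r) = algebraMap R R' r)

include Θ hΘ in
theorem card_minimalPrimes_eq_card_homOver (hmin : (minimalPrimes R).Finite) :
    ENat.card (minimalPrimes T) = ENat.card (HomOver R R' (algebraMap R R')) := by
  have hint : Algebra.IsIntegral R R' := isIntegral_model R R' Θ hΘ
  rw [card_minimalPrimes_eq_card_maximalSpectrum_tensor R T R' Θ hΘ hmin,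
    BrnchEmb.card_maximalSpectrum_eq R T R', card_sigma_eq_card_homOver]

end Count2

end Groth.Agent.Lib.Helper4.NormSh
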