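import Mathlib
import Groth.Prelude.Def_Hensel
import Groth.Prelude.Def_EssEt
import Groth.Agent.Lib.Helper14.ReducedEtale
import Groth.Agent.Lib.Helper4.NormSh8
import Groth.Agent.Lib.Helper4.TotFracSub
import Groth.Agent.Lib.Helper4.HzsNoethC
import Groth.Agent.Lib.Helper4.HznRed

/-!
# The integral closure of an essentially étale local algebra in its total ring of fractions
-/

set_option autoImplicit false
set_option linter.unusedSectionVars false
universe u
open IsLocalRing

namespace Groth.Agent.Lib.Helper4.EssNorm

section General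

/-- For a local homomorphism `A → E` with algebraic residue field extension and an integral
ring map `j : E → R`, the residue field of any maximal ideal of `R` is integral over `A`. -/
theorem isIntegral_quotient_of_local {A E R : Type*} [CommRing A] [IsLocalRing A] [CommRing E]
    [IsLocalRing E] [Algebra A E] [IsLocalHom (algebraMap A E)]
    [Algebra.IsIntegral (ResidueField A) (ResidueField E)] [CommRing R]
    (j : E →+* R) (hj : j.IsIntegral) (M : Ideal R) [hM : M.IsMaximal] :
    ((Ideal.Quotient.mk M).comp (j.comp (algebraMap A E))).IsIntegral := by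
  let _ : Field (R ⧸ M) := Ideal.Quotient.field M
  let φ : E →+* R ⧸ M := (Ideal.Quotient.mk M).comp j
  have hφ : φ.IsIntegral :=
    RingHom.IsIntegral.trans j (Ideal.Quotient.mk M) hj
      (RingHom.isIntegral_of_surjective _ Ideal.Quotient.mk_surjective)
  have hcomap : M.comap j = maximalIdeal E := by
    have := Ideal.isMaximal_comap_of_isIntegral_of_isMaximal' j hj M
    exact IsLocalRing.eq_maximalIdeal this
  have hloc : IsLocalHom φ := by
    refine ⟨fun a ha => ?_⟩
    by_contra hna
    have h1 : a ∈ maximalIdeal E := (mem_maximalIdeal a).mpr hna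
    rw [← hcomap, Ideal.mem_comap] at h1
    have h2 : φ a = 0 := Ideal.Quotient.eq_zero_iff_mem.mpr h1
    rw [h2] at ha
    exact not_isUnit_zero ha
  let φb : ResidueField E →+* R ⧸ M := ResidueField.lift φ
  have hφb : φb.IsIntegral := by
    apply RingHom.IsIntegral.tower_top (residue E) φb
    have : φb.comp (residue E) = φ := ResidueField.lift_comp_residue φ
    rw [this]
    exact hφ
  have hmap : (ResidueField.map (algebraMap A E)).IsIntegral := by
    have h1 : (algebraMap (ResidueField A) (ResidueField E)).IsIntegral :=
      algebraMap_isIntegral_iff.mpr inferInstance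
    exact h1
  have hres : (residue A).IsIntegral :=
    RingHom.isIntegral_of_surjective _ residue_surjective
  have h3 := RingHom.IsIntegral.trans _ _ (RingHom.IsIntegral.trans _ _ hres hmap) hφb
  have heq : φb.comp ((ResidueField.map (algebraMap A E)).comp (residue A)) =
      (Ideal.Quotient.mk M).comp (j.comp (algebraMap A E)) := by
    ext a
    simp only [RingHom.comp_apply]
    rw [ResidueField.map_residue]
    exact ResidueField.lift_residue_apply φ _
  rw [← heq]
  exact h3

/-- An element outside all maximal ideals is a unit. -/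
theorem isUnit_of_forall_notMem {R : Type*} [CommRing R] (x : R)
    (h : ∀ M : Ideal R, M.IsMaximal → x ∉ M) : IsUnit x := by
  by_contra hx
  obtain ⟨M, hM, hxM⟩ := exists_max_ideal_of_mem_nonunits hx
  exact h M hM hxM

end General

section EssEt

variable (A E : Type u) [CommRing A] [IsLocalRing A]
  [CommRing E] [IsLocalRing E] [Algebra A E] [IsLocalHom (algebraMap A E)]

/-- The integral closure of `E` in its total ring of fractions, as an `A`-subalgebra. -/
abbrev Ecl : Subalgebra A (FractionRing E) :=
  (integralClosure E (FractionRing E)).restrictScalars A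

theorem mem_Ecl {x : FractionRing E} : x ∈ Ecl A E ↔ IsIntegral E x := Iff.rfl

/-- The canonical map `E → E'`. -/
noncomputable def toEcl : E →+* Ecl A E :=
  (algebraMap E (FractionRing E)).codRestrict (Ecl A E) (fun _ => isIntegral_algebraMap)

theorem coe_toEcl (e : E) : ((toEcl A E e : Ecl A E) : FractionRing E) =
    algebraMap E (FractionRing E) e := rfl

theorem toEcl_comp_algebraMap : (toEcl A E).comp (algebraMap A E) = algebraMap A (Ecl A E) := by
  ext a
  change algebraMap E (FractionRing E) (algebraMap A E a) = algebraMap A (FractionRing E) a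
  rw [← IsScalarTower.algebraMap_apply]

theorem toEcl_isIntegral : (toEcl A E).IsIntegral := by
  intro x
  obtain ⟨p, hp, hpx⟩ : IsIntegral E (x : FractionRing E) := x.2
  refine ⟨p, hp, ?_⟩
  apply Subtype.ext
  have h1 := Polynomial.hom_eval₂ p (toEcl A E) ((Ecl A E).val : Ecl A E →+* FractionRing E) x
  have h2 : ((Ecl A E).val : Ecl A E →+* FractionRing E).comp (toEcl A E) =
      algebraMap E (FractionRing E) := rfl
  rw [h2] at h1
  change ((Ecl A E).val : Ecl A E →+* FractionRing E) (Polynomial.eval₂ (toEcl A E) x p) = 0
  rw [h1]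
  exact hpx

theorem comap_toEcl_eq (M : Ideal (Ecl A E)) [M.IsMaximal] :
    M.comap (toEcl A E) = maximalIdeal E :=
  IsLocalRing.eq_maximalIdeal
    (Ideal.isMaximal_comap_of_isIntegral_of_isMaximal' (toEcl A E) (toEcl_isIntegral A E) M)

variable {A E}

theorem isReduced_of_essEtale [IsReduced A] (hE : EGA4loc.IsEssentiallyEtale A E) :
    IsReduced E := by
  obtain ⟨C, _, _, q, hq, hC, hqA, ⟨e⟩⟩ := hE
  have : IsReduced C := Groth.Agent.Lib.Helper14.isReduced_of_etale A C
  have : IsReduced (Localization.AtPrime q) := inferInstance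
  exact isReduced_of_injective e.toRingHom e.injective

theorem isNoetherianRing_of_essEtale [IsNoetherianRing A] (hE : EGA4loc.IsEssentiallyEtale A E) :
    IsNoetherianRing E := by
  obtain ⟨C, _, _, q, hq, hC, hqA, ⟨e⟩⟩ := hE
  have : Algebra.FiniteType A C := inferInstance
  have : IsNoetherianRing C := Algebra.FiniteType.isNoetherianRing A C
  have : IsNoetherianRing (Localization.AtPrime q) :=
    IsLocalization.isNoetherianRing q.primeCompl _ inferInstance
  exact isNoetherianRing_of_ringEquiv (Localization.AtPrime q) e.symm.toRingEquiv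

theorem finite_residueField_of_essEtale (hE : EGA4loc.IsEssentiallyEtale A E) :
    Module.Finite (ResidueField A) (ResidueField E) := by
  have hft := EssEtale.essFiniteType hE
  have hfe := EssEtale.formallyEtale hE
  infer_instance

theorem isIntegral_quotient_Ecl (hE : EGA4loc.IsEssentiallyEtale A E) (M : Ideal (Ecl A E))
    [M.IsMaximal] : ((Ideal.Quotient.mk M).comp (algebraMap A (Ecl A E))).IsIntegral := by
  have := finite_residueField_of_essEtale hE
  have h := isIntegral_quotient_of_local (A := A) (toEcl A E) (toEcl_isIntegral A E) M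
  rw [toEcl_comp_algebraMap] at h
  exact h

/-- Maximal ideals of `E'` contract to maximal ideals of any `A`-subalgebra. -/
theorem isMaximal_comap_inclusion (hE : EGA4loc.IsEssentiallyEtale A E)
    (C : Subalgebra A (FractionRing E)) (hle : C ≤ Ecl A E) (M : Ideal (Ecl A E))
    [M.IsMaximal] : (M.comap (Subalgebra.inclusion hle)).IsMaximal := by
  let _ : Field (Ecl A E ⧸ M) := Ideal.Quotient.field M
  let f : C →+* Ecl A E ⧸ M := (Ideal.Quotient.mk M).comp (Subalgebra.inclusion hle : C →+* Ecl A E)
  have hf : f.IsIntegral := by
    apply RingHom.IsIntegral.tower_top (algebraMap A C) f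
    have h1 : f.comp (algebraMap A C) = (Ideal.Quotient.mk M).comp (algebraMap A (Ecl A E)) := by
      ext a
      rfl
    rw [h1]
    exact isIntegral_quotient_Ecl hE M
  have h2 := Ideal.isMaximal_comap_of_isIntegral_of_isMaximal' f hf ⊥
  have h3 : (⊥ : Ideal (Ecl A E ⧸ M)).comap f = M.comap (Subalgebra.inclusion hle) := by
    ext c
    rw [Ideal.mem_comap, Ideal.mem_comap, Ideal.mem_bot]
    exact Ideal.Quotient.eq_zero_iff_mem
  rw [← h3]
  exact h2

/-- `E'` has finitely many maximal ideals. -/
theorem finite_maximal_Ecl [IsReduced A] [IsNoetherianRing A]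
    (hE : EGA4loc.IsEssentiallyEtale A E) : {M : Ideal (Ecl A E) | M.IsMaximal}.Finite := by
  have hred : IsReduced E := isReduced_of_essEtale hE
  have hnoeth : IsNoetherianRing E := isNoetherianRing_of_essEtale hE
  have hT : IsNoetherianRing (Hzs.Hs E) :=
    (Hzs.isNoetherianRing_iff_of_isStrictHenselization E (Hzs.Hs E)).mp hnoeth
  let _ : Algebra E (Ecl A E) := (toEcl A E).toAlgebra
  let Θ : integralClosure E (FractionRing E) ≃+* Ecl A E :=
    { toFun := fun x => ⟨x.1, x.2⟩
      invFun := fun x => ⟨x.1, x.2⟩
      left_inv := fun _ => rfl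
      right_inv := fun _ => rfl
      map_mul' := fun _ _ => rfl
      map_add' := fun _ _ => rfl }
  exact NormSh.finite_maximal_of_finite_minimalPrimes E (Hzs.Hs E) (Ecl A E) Θ (fun _ => rfl)
    (minimalPrimes.finite_of_isNoetherianRing E) (minimalPrimes.finite_of_isNoetherianRing _)

end EssEt

end Groth.Agent.Lib.Helper4.EssNorm
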