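import Mathlib

/-!
# Patching essential finiteness over the finitely many maximal ideals of a reduced ring
-/

set_option autoImplicit false
set_option linter.unusedSectionVars false
universe u
open IsLocalRing TensorProduct

namespace Groth.Agent.Lib.Helper4.EssNorm

/-- An element outside the prime `N` killing the kernel of `Q → Q_N`, for `Q` reduced with
finitely many minimal primes. -/
theorem exists_notMem_forall_mul_eq_zero {Q : Type*} [CommRing Q] [IsReduced Q]
    (hminQ : (minimalPrimes Q).Finite) (N : Ideal Q) [hN : N.IsPrime] :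
    ∃ e : Q, e ∉ N ∧ ∀ q : Q, (∃ u : Q, u ∉ N ∧ u * q = 0) → e * q = 0 := by
  classical
  have hS : {𝔭 ∈ minimalPrimes Q | ¬ 𝔭 ≤ N}.Finite := hminQ.subset (fun _ h => h.1)
  have h1 : ¬ (hS.toFinset.inf id ≤ N) := by
    intro h
    obtain ⟨𝔭, h𝔭, hle⟩ := (Ideal.IsPrime.inf_le' hN).mp h
    rw [Set.Finite.mem_toFinset] at h𝔭
    exact h𝔭.2 hle
  obtain ⟨e, he, heN⟩ := SetLike.not_le_iff_exists.mp h1
  refine ⟨e, heN, fun q ⟨u, hu, huq⟩ => ?_⟩
  have h2 : e * q ∈ nilradical Q := by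
    rw [nilradical_eq_sInf, Ideal.mem_sInf]
    intro J hJ
    have hJ' : J.IsPrime := hJ
    obtain ⟨𝔭, h𝔭, h𝔭J⟩ := Ideal.exists_minimalPrimes_le (bot_le : (⊥ : Ideal Q) ≤ J)
    apply h𝔭J
    have h𝔭' : 𝔭.IsPrime := h𝔭.1.1
    by_cases hle : 𝔭 ≤ N
    · have h3 : u * q ∈ 𝔭 := by rw [huq]; exact 𝔭.zero_mem
      rcases h𝔭'.mem_or_mem h3 with h4 | h4
      · exact absurd (hle h4) hu
      · exact 𝔭.mul_mem_left _ h4
    · have h3 : e ∈ 𝔭 := by
        have h4 : hS.toFinset.inf id ≤ id 𝔭 :=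
          Finset.inf_le ((Set.Finite.mem_toFinset hS).mpr ⟨h𝔭, hle⟩)
        exact h4 he
      exact 𝔭.mul_mem_right _ h3
  have h3 : IsNilpotent (e * q) := h2
  exact h3.eq_zero

/-- The local step of the patching: a finite set of elements of `Q` such that every subalgebra
containing them has enough denominators outside `N`. -/
theorem exists_finset_forall_subalgebra {A Q : Type u} [CommRing A] [CommRing Q] [Algebra A Q]
    [IsReduced Q] (hminQ : (minimalPrimes Q).Finite) (N : Ideal Q) [hN : N.IsPrime]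
    (h : Algebra.EssFiniteType A (Localization.AtPrime N)) :
    ∃ σN : Finset Q, ∀ B : Subalgebra A Q, (σN : Set Q) ⊆ B →
      ∀ q : Q, ∃ t ∈ B, t ∉ N ∧ q * t ∈ B := by
  classical
  obtain ⟨σ, hσ⟩ := (Algebra.essFiniteType_iff (R := A) (S := Localization.AtPrime N)).mp h
  obtain ⟨e, heN, he⟩ := exists_notMem_forall_mul_eq_zero hminQ N
  have hch : ∀ z : Localization.AtPrime N, ∃ x : Q × N.primeCompl,
      z * algebraMap Q (Localization.AtPrime N) (x.2 : Q) =
        algebraMap Q (Localization.AtPrime N) x.1 := fun z => IsLocalization.surj N.primeCompl z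
  choose nd hnd using hch
  refine ⟨σ.image (fun z => (nd z).1) ∪ σ.image (fun z => ((nd z).2 : Q)) ∪ {e}, ?_⟩
  intro B hB q
  have hB1 : ∀ z ∈ σ, (nd z).1 ∈ B := fun z hz => hB (by
    simp only [Finset.coe_union, Finset.coe_image, Finset.coe_singleton, Set.mem_union,
      Set.mem_image, Finset.mem_coe, Set.mem_singleton_iff]
    exact Or.inl (Or.inl ⟨z, hz, rfl⟩))
  have hB2 : ∀ z ∈ σ, ((nd z).2 : Q) ∈ B := fun z hz => hB (by
    simp only [Finset.coe_union, Finset.coe_image, Finset.coe_singleton, Set.mem_union,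
      Set.mem_image, Finset.mem_coe, Set.mem_singleton_iff]
    exact Or.inl (Or.inr ⟨z, hz, rfl⟩))
  have hBe : e ∈ B := hB (by
    simp only [Finset.coe_union, Finset.coe_image, Finset.coe_singleton, Set.mem_union,
      Set.mem_image, Finset.mem_coe, Set.mem_singleton_iff]
    exact Or.inr trivial)
  -- fractions
  have hfrac : ∀ y ∈ Algebra.adjoin A (σ : Set (Localization.AtPrime N)),
      ∃ b ∈ B, ∃ v ∈ B, v ∉ N ∧ y * algebraMap Q (Localization.AtPrime N) v =
        algebraMap Q (Localization.AtPrime N) b := by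
    intro y hy
    induction hy using Algebra.adjoin_induction with
    | mem z hz => exact ⟨(nd z).1, hB1 z hz, (nd z).2, hB2 z hz, (nd z).2.2, hnd z⟩
    | algebraMap a =>
      refine ⟨algebraMap A Q a, B.algebraMap_mem a, 1, B.one_mem,
        fun h1 => hN.ne_top ((Ideal.eq_top_iff_one _).mpr h1), ?_⟩
      rw [map_one, mul_one, ← IsScalarTower.algebraMap_apply]
    | add y₁ y₂ _ _ h₁ h₂ =>
      obtain ⟨b₁, hb₁, v₁, hv₁, hv₁N, e₁⟩ := h₁
      obtain ⟨b₂, hb₂, v₂, hv₂, hv₂N, e₂⟩ := h₂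
      refine ⟨b₁ * v₂ + b₂ * v₁, B.add_mem (B.mul_mem hb₁ hv₂) (B.mul_mem hb₂ hv₁), v₁ * v₂,
        B.mul_mem hv₁ hv₂, fun h1 => (hN.mem_or_mem h1).elim hv₁N hv₂N, ?_⟩
      rw [map_add, map_mul, map_mul, map_mul, ← e₁, ← e₂]
      ring
    | mul y₁ y₂ _ _ h₁ h₂ =>
      obtain ⟨b₁, hb₁, v₁, hv₁, hv₁N, e₁⟩ := h₁
      obtain ⟨b₂, hb₂, v₂, hv₂, hv₂N, e₂⟩ := h₂
      refine ⟨b₁ * b₂, B.mul_mem hb₁ hb₂, v₁ * v₂,
        B.mul_mem hv₁ hv₂, fun h1 => (hN.mem_or_mem h1).elim hv₁N hv₂N, ?_⟩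
      rw [map_mul, map_mul, ← e₁, ← e₂]
      ring
  obtain ⟨t', ht', ht'u, hqt'⟩ := hσ (algebraMap Q (Localization.AtPrime N) q)
  obtain ⟨bt, hbt, vt, hvt, hvtN, et⟩ := hfrac t' ht'
  obtain ⟨by', hby, vy, hvy, hvyN, ey⟩ := hfrac _ hqt'
  have hbtN : bt ∉ N := by
    intro hbtN
    have h1 : IsUnit (algebraMap Q (Localization.AtPrime N) bt) := by
      rw [← et]
      exact ht'u.mul (IsLocalization.map_units (Localization.AtPrime N)
        (⟨vt, hvtN⟩ : N.primeCompl))
    exact (IsLocalization.AtPrime.isUnit_to_map_iff (Localization.AtPrime N) N bt).mp h1 hbtN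
  have h0 : algebraMap Q (Localization.AtPrime N) (q * bt * vy - by' * vt) = 0 := by
    rw [map_sub, map_mul, map_mul, map_mul, ← et, ← ey]
    ring
  obtain ⟨u, hu⟩ := (IsLocalization.map_eq_zero_iff N.primeCompl (Localization.AtPrime N) _).mp h0
  have h1 : e * (q * bt * vy - by' * vt) = 0 := he _ ⟨u, u.2, hu⟩
  refine ⟨e * bt * vy, B.mul_mem (B.mul_mem hBe hbt) hvy, fun h2 => ?_, ?_⟩
  · rcases hN.mem_or_mem h2 with h3 | h3
    · rcases hN.mem_or_mem h3 with h4 | h4
      · exact heN h4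
      · exact hbtN h4
    · exact hvyN h3
  · have h2 : q * (e * bt * vy) = e * by' * vt := by
      have : q * (e * bt * vy) - e * by' * vt = e * (q * bt * vy - by' * vt) := by ring
      rw [h1] at this
      exact sub_eq_zero.mp this
    rw [h2]
    exact B.mul_mem (B.mul_mem hBe hby) hvt

/-- **Patching**: a reduced ring with finitely many minimal primes and finitely many maximal
ideals, all of whose localizations at maximal ideals are essentially of finite type, is
essentially of finite type. -/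
theorem essFiniteType_of_forall_localization {A Q : Type u} [CommRing A] [CommRing Q]
    [Algebra A Q] [IsReduced Q] (hminQ : (minimalPrimes Q).Finite)
    (hmaxQ : {N : Ideal Q | N.IsMaximal}.Finite)
    (h : ∀ (N : Ideal Q) [N.IsMaximal], Algebra.EssFiniteType A (Localization.AtPrime N)) :
    Algebra.EssFiniteType A Q := by
  classical
  have hloc : ∀ N : Ideal Q, ∃ σN : Finset Q, N.IsMaximal → ∀ B : Subalgebra A Q,
      (σN : Set Q) ⊆ B → ∀ q : Q, ∃ t ∈ B, t ∉ N ∧ q * t ∈ B := by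
    intro N
    by_cases hN : N.IsMaximal
    · obtain ⟨σN, hσN⟩ := exists_finset_forall_subalgebra (A := A) hminQ N (h N)
      exact ⟨σN, fun _ => hσN⟩
    · exact ⟨∅, fun h' => absurd h' hN⟩
  choose σf hσf using hloc
  rw [Algebra.essFiniteType_iff]
  refine ⟨hmaxQ.toFinset.biUnion σf, fun q => ?_⟩
  set B : Subalgebra A Q := Algebra.adjoin A ((hmaxQ.toFinset.biUnion σf : Finset Q) : Set Q)
    with hBdef
  have hσB : ∀ N : Ideal Q, N.IsMaximal → (σf N : Set Q) ⊆ B := by
    intro N hN x hx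
    refine Algebra.subset_adjoin ?_
    rw [Finset.mem_coe, Finset.mem_biUnion]
    exact ⟨N, (Set.Finite.mem_toFinset hmaxQ).mpr hN, hx⟩
  -- the ideal of denominators
  let I : Ideal B :=
    { carrier := {t : B | q * (t : Q) ∈ B}
      add_mem' := by
        intro a b ha hb
        change q * ((a + b : B) : Q) ∈ B
        rw [Subalgebra.coe_add, mul_add]
        exact B.add_mem ha hb
      zero_mem' := by
        change q * ((0 : B) : Q) ∈ B
        rw [Subalgebra.coe_zero, mul_zero]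
        exact B.zero_mem
      smul_mem' := by
        intro c a ha
        change q * ((c • a : B) : Q) ∈ B
        rw [smul_eq_mul, Subalgebra.coe_mul, mul_left_comm]
        exact B.mul_mem c.2 ha }
  have hI : ∀ t : B, t ∈ I ↔ q * (t : Q) ∈ B := fun t => Iff.rfl
  by_contra hcon
  have hnu : ∀ t : B, t ∈ I → ¬ IsUnit (t : Q) := by
    intro t ht hu
    exact hcon ⟨t, t.2, hu, (hI t).mp ht⟩
  have hsub : (I : Set B) ⊆ ⋃ N ∈ (hmaxQ.toFinset : Set (Ideal Q)), (N.comap (algebraMap B Q)) := by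
    intro t ht
    obtain ⟨N, hN, htN⟩ := exists_max_ideal_of_mem_nonunits (hnu t ht)
    rw [Set.mem_iUnion₂]
    exact ⟨N, (Set.Finite.mem_toFinset hmaxQ).mpr hN, htN⟩
  have hprime : ∀ N ∈ hmaxQ.toFinset, N ≠ (⊥ : Ideal Q) → N ≠ (⊥ : Ideal Q) →
      (N.comap (algebraMap B Q)).IsPrime := by
    intro N hN _ _
    have hN' : N.IsMaximal := (Set.Finite.mem_toFinset hmaxQ).mp hN
    exact Ideal.comap_isPrime _ _
  obtain ⟨N, hN, hIN⟩ := (Ideal.subset_union_prime (R := B) (s := hmaxQ.toFinset)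
    (f := fun N => N.comap (algebraMap B Q)) ⊥ ⊥ hprime).mp hsub
  have hN' : N.IsMaximal := (Set.Finite.mem_toFinset hmaxQ).mp hN
  obtain ⟨t, htB, htN, hqt⟩ := hσf N hN' B (hσB N hN') q
  have h1 : (⟨t, htB⟩ : B) ∈ I := (hI _).mpr hqt
  exact htN (hIN h1)

end Groth.Agent.Lib.Helper4.EssNorm
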