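import Mathlib

/-!
# Units, maximal ideals and integral extensions: lemmas for the descent of essential finiteness
-/

set_option autoImplicit false
set_option linter.unusedSectionVars false
universe u
open IsLocalRing TensorProduct

namespace Groth.Agent.Lib.Helper4.EssNorm

/-- In an integral extension with injective structure map, an element which becomes a unit
upstairs is a unit. -/
theorem isUnit_of_isUnit_algebraMap_of_isIntegral {W D' : Type*} [CommRing W] [CommRing D']
    [Algebra W D'] [Algebra.IsIntegral W D'] (hinj : Function.Injective (algebraMap W D'))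
    (t : W) (ht : IsUnit (algebraMap W D' t)) : IsUnit t := by
  by_contra hnu
  obtain ⟨n, hn, htn⟩ := exists_max_ideal_of_mem_nonunits hnu
  have hker : RingHom.ker (algebraMap W D') ≤ n := by
    rw [(RingHom.injective_iff_ker_eq_bot _).mp hinj]
    exact bot_le
  obtain ⟨Q, hQ, hQn⟩ := Ideal.exists_ideal_over_maximal_of_isIntegral n hker
  have h1 : algebraMap W D' t ∈ Q := by
    rw [← Ideal.mem_comap, hQn]
    exact htn
  exact hQ.ne_top (Ideal.eq_top_of_isUnit_mem _ h1 ht)

/-- A module-finite algebra over a local ring has finitely many maximal ideals. -/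
theorem finite_maximal_of_finite_of_isLocalRing (R W : Type*) [CommRing R] [IsLocalRing R]
    [CommRing W] [Algebra R W] [Module.Finite R W] : {n : Ideal W | n.IsMaximal}.Finite := by
  classical
  have hint : Algebra.IsIntegral R W := Algebra.IsIntegral.of_finite R W
  let _ : Field (R ⧸ maximalIdeal R) := Ideal.Quotient.field _
  have hfin : Module.Finite (R ⧸ maximalIdeal R)
      (W ⧸ (maximalIdeal R).map (algebraMap R W)) :=
    Module.Finite.of_restrictScalars_finite R _ _
  have hart : IsArtinianRing (W ⧸ (maximalIdeal R).map (algebraMap R W)) :=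
    IsArtinianRing.of_finite (R ⧸ maximalIdeal R) _
  have hfinQ := IsArtinianRing.setOfPred_isMaximal_finite
    (W ⧸ (maximalIdeal R).map (algebraMap R W))
  refine (hfinQ.image (Ideal.comap (Ideal.Quotient.mk
    ((maximalIdeal R).map (algebraMap R W))))).subset ?_
  intro n hn
  have hn' : n.IsMaximal := hn
  have h1 : (n.comap (algebraMap R W)).IsMaximal :=
    Ideal.isMaximal_comap_of_isIntegral_of_isMaximal n
  have h2 : n.comap (algebraMap R W) = maximalIdeal R := IsLocalRing.eq_maximalIdeal h1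
  have h3 : (maximalIdeal R).map (algebraMap R W) ≤ n := by
    rw [Ideal.map_le_iff_le_comap, h2]
  refine ⟨n.map (Ideal.Quotient.mk ((maximalIdeal R).map (algebraMap R W))), ?_, ?_⟩
  · refine Ideal.IsMaximal.map_of_surjective_of_ker_le Ideal.Quotient.mk_surjective ?_
    rw [Ideal.mk_ker]
    exact h3
  · rw [Ideal.comap_map_of_surjective _ Ideal.Quotient.mk_surjective, ← RingHom.ker_eq_comap_bot,
      Ideal.mk_ker]
    exact sup_eq_left.mpr h3

/-- If the extension of the ideal `n` is the unit ideal in a "localization", then `n` contains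
an element becoming a unit. -/
theorem exists_mem_isUnit_of_map_eq_top {W D' : Type*} [CommRing W] [CommRing D']
    (θ : W →+* D')
    (hloc : ∀ d' : D', ∃ u : W, IsUnit (θ u) ∧ ∃ w : W, d' * θ u = θ w)
    (n : Ideal W) (hn : n.map θ = ⊤) : ∃ a ∈ n, IsUnit (θ a) := by
  have key : ∀ x ∈ n.map θ, ∃ u : W, IsUnit (θ u) ∧ ∃ a ∈ n, x * θ u = θ a := by
    intro x hx
    induction hx using Submodule.span_induction with
    | mem x hx =>
      obtain ⟨a, ha, rfl⟩ := hx
      exact ⟨1, by rw [map_one]; exact isUnit_one, a, ha, by rw [map_one, mul_one]⟩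
    | zero => exact ⟨1, by rw [map_one]; exact isUnit_one, 0, n.zero_mem, by
        rw [map_zero, zero_mul]⟩
    | add x y _ _ hx hy =>
      obtain ⟨u₁, hu₁, a₁, ha₁, e₁⟩ := hx
      obtain ⟨u₂, hu₂, a₂, ha₂, e₂⟩ := hy
      refine ⟨u₁ * u₂, by rw [map_mul]; exact hu₁.mul hu₂, a₁ * u₂ + a₂ * u₁,
        n.add_mem (n.mul_mem_right _ ha₁) (n.mul_mem_right _ ha₂), ?_⟩
      rw [map_add, map_mul, map_mul, map_mul, ← e₁, ← e₂]
      ring
    | smul c x _ hx =>
      obtain ⟨u₁, hu₁, a₁, ha₁, e₁⟩ := hx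
      obtain ⟨u₂, hu₂, w, e₂⟩ := hloc c
      refine ⟨u₂ * u₁, by rw [map_mul]; exact hu₂.mul hu₁, w * a₁, n.mul_mem_left _ ha₁, ?_⟩
      rw [map_mul, map_mul, ← e₁, ← e₂, smul_eq_mul]
      ring
  obtain ⟨u, hu, a, ha, e⟩ := key 1 (by rw [hn]; trivial)
  refine ⟨a, ha, ?_⟩
  rw [← e, one_mul]
  exact hu

/-- An element becoming a unit and contained in every "bad" maximal ideal. -/
theorem exists_isUnit_forall_mem {W D' : Type*} [CommRing W] [CommRing D']
    (θ : W →+* D') (hfin : {n : Ideal W | n.IsMaximal}.Finite)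
    (hloc : ∀ d' : D', ∃ u : W, IsUnit (θ u) ∧ ∃ w : W, d' * θ u = θ w) :
    ∃ z : W, IsUnit (θ z) ∧ ∀ n : Ideal W, n.IsMaximal → n.map θ = ⊤ → z ∈ n := by
  classical
  have hch : ∀ n : Ideal W, ∃ a : W, IsUnit (θ a) ∧ (n.map θ = ⊤ → a ∈ n) := by
    intro n
    by_cases hn : n.map θ = ⊤
    · obtain ⟨a, ha, hau⟩ := exists_mem_isUnit_of_map_eq_top θ hloc n hn
      exact ⟨a, hau, fun _ => ha⟩
    · exact ⟨1, by rw [map_one]; exact isUnit_one, fun h => absurd h hn⟩
  choose a hau ha using hch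
  refine ⟨∏ n ∈ hfin.toFinset, a n, ?_, ?_⟩
  · rw [map_prod]
    have : ∀ s : Finset (Ideal W), IsUnit (∏ n ∈ s, θ (a n)) := by
      intro s
      induction s using Finset.induction_on with
      | empty => rw [Finset.prod_empty]; exact isUnit_one
      | insert i s hi ih => rw [Finset.prod_insert hi]; exact (hau i).mul ih
    exact this _
  · intro n hn hn'
    exact Ideal.prod_mem n ((Set.Finite.mem_toFinset hfin).mpr hn) (ha n hn')

/-- **Key step of the descent**: after enlarging, the elements becoming units are units. -/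
theorem isUnit_of_isUnit_of_bad {R₁ R₂ W₁ W₂ D' : Type*} [CommRing R₁] [CommRing R₂]
    [CommRing W₁] [CommRing W₂] [CommRing D'] [IsLocalRing R₁] [IsLocalRing R₂]
    [Algebra R₁ W₁] [Algebra.IsIntegral R₁ W₁] [Algebra R₂ W₂] [Algebra.IsIntegral R₂ W₂]
    (ρ : R₁ →+* R₂) [hρ : IsLocalHom ρ] (φ : W₁ →+* W₂)
    (hφ : φ.comp (algebraMap R₁ W₁) = (algebraMap R₂ W₂).comp ρ)
    (θ₁ : W₁ →+* D') (z : W₁) (hz : IsUnit (φ z))
    (hbad : ∀ n : Ideal W₁, n.IsMaximal → n.map θ₁ = ⊤ → z ∈ n)
    (t : W₁) (ht : IsUnit (θ₁ t)) : IsUnit (φ t) := by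
  by_contra hnu
  obtain ⟨n₂, hn₂, htn₂⟩ := exists_max_ideal_of_mem_nonunits hnu
  have h1 : (n₂.comap (algebraMap R₂ W₂)).IsMaximal :=
    Ideal.isMaximal_comap_of_isIntegral_of_isMaximal n₂
  have h2 : n₂.comap (algebraMap R₂ W₂) = maximalIdeal R₂ := IsLocalRing.eq_maximalIdeal h1
  have h3 : (n₂.comap φ).comap (algebraMap R₁ W₁) = maximalIdeal R₁ := by
    rw [Ideal.comap_comap, hφ, ← Ideal.comap_comap, h2]
    exact (IsLocalRing.local_hom_TFAE ρ).out 0 4 |>.mp hρ
  have hprime : (n₂.comap φ).IsPrime := Ideal.comap_isPrime φ n₂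
  have hmax : (n₂.comap φ).IsMaximal := by
    refine Ideal.isMaximal_of_isIntegral_of_isMaximal_comap (R := R₁) (n₂.comap φ) ?_
    rw [h3]
    exact maximalIdeal.isMaximal R₁
  by_cases hmap : (n₂.comap φ).map θ₁ = ⊤
  · have h4 : z ∈ n₂.comap φ := hbad _ hmax hmap
    exact hn₂.ne_top (Ideal.eq_top_of_isUnit_mem _ (Ideal.mem_comap.mp h4) hz)
  · apply hmap
    have h4 : θ₁ t ∈ (n₂.comap φ).map θ₁ := Ideal.mem_map_of_mem θ₁ (Ideal.mem_comap.mpr htn₂)
    exact Ideal.eq_top_of_isUnit_mem _ h4 ht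

end Groth.Agent.Lib.Helper4.EssNorm
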