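import Mathlib
import Groth.Agent.Lib.Helper4.EssFTDescent
import Groth.Agent.Lib.Helper4.EssNorm11

/-!
# Descent of essential finiteness along an integral extension of a local ring
-/

set_option autoImplicit false
set_option linter.unusedSectionVars false
universe u
open IsLocalRing TensorProduct

namespace Groth.Agent.Lib.Helper4.EssNorm

section Descent

variable (A : Type u) {D D' : Type u} [CommRing A] [CommRing D] [IsLocalRing D] [Algebra A D]
  [CommRing D'] [Algebra A D'] [Algebra D D'] [IsScalarTower A D D']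

/-- The essentially finite type local sub-algebra of `D` generated by a finite set. -/
abbrev Dl (F : Finset D) : Subalgebra A D := EssFT.locSub (Algebra.adjoin A (F : Set D))

/-- The sub-algebra of `D'` generated by `σ` over `Dl F`. -/
abbrev Wl (σ : Finset D') (F : Finset D) : Subalgebra (Dl A F) D' :=
  Algebra.adjoin (Dl A F) (σ : Set D')

theorem Dl_mono {F₁ F₂ : Finset D} (h : F₁ ⊆ F₂) : Dl A F₁ ≤ Dl A F₂ := by
  intro x hx
  obtain ⟨u, hu, hu1, hxu⟩ := hx
  have hle : Algebra.adjoin A (F₁ : Set D) ≤ Algebra.adjoin A (F₂ : Set D) :=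
    Algebra.adjoin_mono (by exact_mod_cast h)
  exact ⟨u, hle hu, hu1, hle hxu⟩

theorem mem_Dl_of_mem {F : Finset D} {d : D} (h : d ∈ F) : d ∈ Dl A F :=
  EssFT.le_locSub _ (Algebra.subset_adjoin (by exact_mod_cast h))

theorem algebraMap_Dl (F : Finset D) (r : Dl A F) :
    algebraMap (Dl A F) D' r = algebraMap D D' (r : D) := rfl

theorem adjoin_le_Wl (σ : Finset D') (F : Finset D) (x : D')
    (hx : x ∈ Algebra.adjoin A (σ : Set D')) : x ∈ Wl A σ F := by
  induction hx using Algebra.adjoin_induction with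
  | mem x hx => exact Algebra.subset_adjoin hx
  | algebraMap a =>
    have h1 : algebraMap A D' a = algebraMap (Dl A F) D' (algebraMap A (Dl A F) a) := by
      rw [IsScalarTower.algebraMap_apply A D D']
      rfl
    rw [h1]
    exact Subalgebra.algebraMap_mem _ _
  | add x y _ _ hx hy => exact Subalgebra.add_mem _ hx hy
  | mul x y _ _ hx hy => exact Subalgebra.mul_mem _ hx hy

theorem Wl_mono (σ : Finset D') {F₁ F₂ : Finset D} (h : F₁ ⊆ F₂) (x : D')
    (hx : x ∈ Wl A σ F₁) : x ∈ Wl A σ F₂ := by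
  induction hx using Algebra.adjoin_induction with
  | mem x hx => exact Algebra.subset_adjoin hx
  | algebraMap r =>
    have h1 : algebraMap (Dl A F₁) D' r =
        algebraMap (Dl A F₂) D' (⟨(r : D), Dl_mono A h r.2⟩ : Dl A F₂) := rfl
    rw [h1]
    exact Subalgebra.algebraMap_mem _ _
  | add x y _ _ hx hy => exact Subalgebra.add_mem _ hx hy
  | mul x y _ _ hx hy => exact Subalgebra.mul_mem _ hx hy

theorem adjoin_le_adjoin (σ : Finset D') (x : D')
    (hx : x ∈ Algebra.adjoin A (σ : Set D')) : x ∈ Algebra.adjoin D (σ : Set D') := by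
  induction hx using Algebra.adjoin_induction with
  | mem x hx => exact Algebra.subset_adjoin hx
  | algebraMap a =>
    rw [IsScalarTower.algebraMap_apply A D D']
    exact Subalgebra.algebraMap_mem _ _
  | add x y _ _ hx hy => exact Subalgebra.add_mem _ hx hy
  | mul x y _ _ hx hy => exact Subalgebra.mul_mem _ hx hy

/-- `D'` is generated over `D` by the finite set `σ`. -/
theorem adjoin_eq_top_of_essFiniteType [Algebra.IsIntegral D D'] (σ : Finset D')
    (hσ : ∀ s : D', ∃ t ∈ Algebra.adjoin A (σ : Set D'),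
        IsUnit t ∧ s * t ∈ Algebra.adjoin A (σ : Set D')) (s : D') :
    s ∈ Algebra.adjoin D (σ : Set D') := by
  obtain ⟨t, ht, htu, hst⟩ := hσ s
  have hint : Algebra.IsIntegral (Algebra.adjoin D (σ : Set D')) D' :=
    ⟨fun x => (Algebra.IsIntegral.isIntegral (R := D) x).tower_top⟩
  have h1 : IsUnit (⟨t, adjoin_le_adjoin A σ t ht⟩ : Algebra.adjoin D (σ : Set D')) :=
    isUnit_of_isUnit_algebraMap_of_isIntegral (W := Algebra.adjoin D (σ : Set D'))
      Subtype.val_injective _ htu
  obtain ⟨v, hv⟩ := isUnit_iff_exists_inv.mp h1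
  have hv' : t * (v : D') = 1 := congrArg Subtype.val hv
  have h2 : s = (s * t) * (v : D') := by rw [mul_assoc, hv', mul_one]
  rw [h2]
  exact Subalgebra.mul_mem _ (adjoin_le_adjoin A σ _ hst) v.2

/-- Every element of `D[σ]` lies in some `Wl σ F`. -/
theorem exists_finset_mem_Wl (σ : Finset D') (d' : D')
    (hd' : d' ∈ Algebra.adjoin D (σ : Set D')) :
    ∃ F : Finset D, ∀ F' : Finset D, F ⊆ F' → d' ∈ Wl A σ F' := by
  classical
  induction hd' using Algebra.adjoin_induction with
  | mem x hx => exact ⟨∅, fun F' _ => Algebra.subset_adjoin hx⟩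
  | algebraMap d =>
    refine ⟨{d}, fun F' hF' => ?_⟩
    have hd : d ∈ Dl A F' := mem_Dl_of_mem A (hF' (Finset.mem_singleton_self d))
    have h1 : algebraMap D D' d = algebraMap (Dl A F') D' (⟨d, hd⟩ : Dl A F') := rfl
    rw [h1]
    exact Subalgebra.algebraMap_mem _ _
  | add x y _ _ hx hy =>
    obtain ⟨F₁, h₁⟩ := hx
    obtain ⟨F₂, h₂⟩ := hy
    exact ⟨F₁ ∪ F₂, fun F' hF' => Subalgebra.add_mem _
      (h₁ F' (Finset.union_subset_left hF')) (h₂ F' (Finset.union_subset_right hF'))⟩
  | mul x y _ _ hx hy =>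
    obtain ⟨F₁, h₁⟩ := hx
    obtain ⟨F₂, h₂⟩ := hy
    exact ⟨F₁ ∪ F₂, fun F' hF' => Subalgebra.mul_mem _
      (h₁ F' (Finset.union_subset_left hF')) (h₂ F' (Finset.union_subset_right hF'))⟩

/-- An element integral over `D` is integral over `Dl F` for `F` large. -/
theorem exists_finset_isIntegral_Dl (s : D') (hs : IsIntegral D s) :
    ∃ F : Finset D, ∀ F' : Finset D, F ⊆ F' → IsIntegral (Dl A F') s := by
  classical
  obtain ⟨p, hp, hps⟩ := hs
  refine ⟨p.coeffs, fun F' hF' => ?_⟩
  have hlift : p ∈ Polynomial.lifts (algebraMap (Dl A F') D) := by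
    rw [Polynomial.lifts_iff_coeff_lifts]
    intro n
    by_cases h0 : p.coeff n = 0
    · exact ⟨0, by rw [map_zero, h0]⟩
    · exact ⟨⟨p.coeff n, mem_Dl_of_mem A (hF' (Polynomial.coeff_mem_coeffs h0))⟩, rfl⟩
  obtain ⟨q, hq, -, hqm⟩ := Polynomial.lifts_and_natDegree_eq_and_monic hlift hp
  refine ⟨q, hqm, ?_⟩
  have h1 : Polynomial.eval₂ (algebraMap (Dl A F') D') s q =
      Polynomial.eval₂ (algebraMap D D') s (q.map (algebraMap (Dl A F') D)) := by
    rw [Polynomial.eval₂_map]
    rfl
  rw [h1, hq]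
  exact hps

end Descent

end Groth.Agent.Lib.Helper4.EssNorm
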