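import Mathlib
import Groth.Agent.Lib.Helper4.EssNorm12

/-!
# Descent of essential finiteness along an integral extension of a local ring: main theorem
-/

set_option autoImplicit false
set_option linter.unusedSectionVars false
universe u
open IsLocalRing TensorProduct

namespace Groth.Agent.Lib.Helper4.EssNorm

section Descent

variable (A : Type u) {D D' : Type u} [CommRing A] [CommRing D] [IsLocalRing D] [Algebra A D]
  [CommRing D'] [Algebra A D'] [Algebra D D'] [IsScalarTower A D D']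

/-- The second stage of the descent, in abstract form. -/
theorem essFiniteType_of_stage2 [IsNoetherianRing A]
    (hinj : Function.Injective (algebraMap D D'))
    (σ : Finset D')
    (hσ : ∀ s : D', ∃ t ∈ Algebra.adjoin A (σ : Set D'),
        IsUnit t ∧ s * t ∈ Algebra.adjoin A (σ : Set D'))
    (R₁ R₂ : Subalgebra A D) (h12 : R₁ ≤ R₂) [IsLocalRing R₁] [IsLocalRing R₂]
    (hR₁ : ∀ r : R₁, IsUnit (r : D) → IsUnit r)
    (heft : Algebra.EssFiniteType A R₂)
    (W₁ : Subalgebra R₁ D') (W₂ : Subalgebra R₂ D') [Module.Finite R₁ W₁] [Module.Finite R₂ W₂]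
    (hW12 : ∀ x ∈ W₁, x ∈ W₂) (hC₁ : ∀ x ∈ Algebra.adjoin A (σ : Set D'), x ∈ W₁)
    (z : W₁) (z' : D') (hz' : (z : D') * z' = 1) (hz'mem : z' ∈ W₂)
    (hbad : ∀ n : Ideal W₁, n.IsMaximal → n.map W₁.val.toRingHom = ⊤ → z ∈ n) :
    Algebra.EssFiniteType A D := by
  classical
  have hintW₁ : Algebra.IsIntegral R₁ W₁ := Algebra.IsIntegral.of_finite _ _
  have hintW₂ : Algebra.IsIntegral R₂ W₂ := Algebra.IsIntegral.of_finite _ _
  let ρ : R₁ →+* R₂ := (Subalgebra.inclusion h12).toRingHom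
  have hρ : IsLocalHom ρ := by
    refine ⟨fun r hr => ?_⟩
    have h1 : IsUnit (R₂.val (ρ r)) := hr.map R₂.val
    exact hR₁ r h1
  let φ : W₁ →+* W₂ :=
    { toFun := fun x => ⟨x.1, hW12 x.1 x.2⟩
      map_one' := rfl
      map_mul' := fun _ _ => rfl
      map_zero' := rfl
      map_add' := fun _ _ => rfl }
  have hφ : φ.comp (algebraMap R₁ W₁) = (algebraMap R₂ W₂).comp ρ := by
    ext r
    rfl
  have hzφ : IsUnit (φ z) := by
    refine isUnit_iff_exists_inv.mpr ⟨⟨z', hz'mem⟩, Subtype.ext ?_⟩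
    exact hz'
  have hunit : ∀ t : W₁, IsUnit (W₁.val.toRingHom t) → IsUnit (φ t) :=
    fun t ht => isUnit_of_isUnit_of_bad ρ φ hφ W₁.val.toRingHom z hzφ hbad t ht
  -- `W₂` is everything
  have htop : ∀ s : D', s ∈ W₂ := by
    intro s
    obtain ⟨t, ht, htu, hst⟩ := hσ s
    have h1 := hunit ⟨t, hC₁ t ht⟩ htu
    obtain ⟨v, hv⟩ := isUnit_iff_exists_inv.mp h1
    have hv' : t * (v : D') = 1 := congrArg Subtype.val hv
    have h2 : s = (s * t) * (v : D') := by rw [mul_assoc, hv', mul_one]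
    rw [h2]
    exact Subalgebra.mul_mem _ (hW12 _ (hC₁ _ hst)) v.2
  have hfinD' : Module.Finite R₂ D' :=
    Module.Finite.of_surjective W₂.val.toLinearMap (fun s => ⟨⟨s, htop s⟩, rfl⟩)
  have hnoeth : IsNoetherianRing R₂ := Algebra.EssFiniteType.isNoetherianRing A _
  have htow : IsScalarTower R₂ D D' := IsScalarTower.of_algebraMap_eq (fun _ => rfl)
  have hfinD : Module.Finite R₂ D :=
    Module.Finite.of_injective (IsScalarTower.toAlgHom R₂ D D').toLinearMap hinj
  exact Algebra.EssFiniteType.comp A R₂ D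

set_option maxHeartbeats 1000000 in
set_option synthInstance.maxHeartbeats 200000 in
/-- **Descent**: if `D'` is integral over the local ring `D ⊆ D'` and essentially of finite type
over the noetherian ring `A`, then `D` is essentially of finite type over `A`. -/
theorem essFiniteType_of_isIntegral_of_essFiniteType [IsNoetherianRing A]
    (hinj : Function.Injective (algebraMap D D')) [hint : Algebra.IsIntegral D D']
    [hft : Algebra.EssFiniteType A D'] : Algebra.EssFiniteType A D := by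
  classical
  obtain ⟨σ, hσ⟩ := (Algebra.essFiniteType_iff (R := A) (S := D')).mp hft
  have hD1 := adjoin_eq_top_of_essFiniteType A (D := D) σ hσ
  -- integrality of the generators
  have hch : ∀ s : D', ∃ F : Finset D, ∀ F' : Finset D, F ⊆ F' → IsIntegral (Dl A F') s :=
    fun s => exists_finset_isIntegral_Dl A s (Algebra.IsIntegral.isIntegral (R := D) s)
  choose Fi hFi using hch
  obtain ⟨F₁, hF₁⟩ : ∃ F₁ : Finset D, F₁ = σ.biUnion Fi := ⟨_, rfl⟩
  have hintσ : ∀ F : Finset D, F₁ ⊆ F → ∀ s ∈ (σ : Set D'), IsIntegral (Dl A F) s := by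
    intro F hF s hs
    refine hFi s F (subset_trans ?_ hF)
    rw [hF₁]
    exact Finset.subset_biUnion_of_mem Fi hs
  have hfinW : ∀ F : Finset D, F₁ ⊆ F → Module.Finite (Dl A F) (Wl A σ F) := fun F hF =>
    Module.Finite.iff_fg.mpr (fg_adjoin_of_finite σ.finite_toSet (hintσ F hF))
  -- the first stage
  have hfinW₁ := hfinW F₁ (subset_refl _)
  have hmaxW₁ := finite_maximal_of_finite_of_isLocalRing (Dl A F₁) (Wl A σ F₁)
  have hloc₁ : ∀ d' : D', ∃ u : Wl A σ F₁, IsUnit ((Wl A σ F₁).val.toRingHom u) ∧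
      ∃ w : Wl A σ F₁, d' * (Wl A σ F₁).val.toRingHom u = (Wl A σ F₁).val.toRingHom w := by
    intro d'
    obtain ⟨t, ht, htu, hst⟩ := hσ d'
    exact ⟨⟨t, adjoin_le_Wl A σ F₁ t ht⟩, htu, ⟨d' * t, adjoin_le_Wl A σ F₁ _ hst⟩, rfl⟩
  obtain ⟨z, hzu, hzbad⟩ := exists_isUnit_forall_mem (Wl A σ F₁).val.toRingHom hmaxW₁ hloc₁
  obtain ⟨z', hz'⟩ := isUnit_iff_exists_inv.mp hzu
  obtain ⟨Fz, hFz⟩ := exists_finset_mem_Wl A σ z' (hD1 z')
  -- the second stage
  obtain ⟨F₂, hF₂⟩ : ∃ F₂ : Finset D, F₂ = F₁ ∪ Fz := ⟨_, rfl⟩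
  have h12 : F₁ ⊆ F₂ := by rw [hF₂]; exact Finset.subset_union_left
  have hz'mem : z' ∈ Wl A σ F₂ := hFz F₂ (by rw [hF₂]; exact Finset.subset_union_right)
  have hfinW₂ := hfinW F₂ h12
  have heft : Algebra.EssFiniteType A (Dl A F₂) :=
    EssFT.essFiniteType_locSub _ (Subalgebra.fg_adjoin_finset F₂)
  exact essFiniteType_of_stage2 A hinj σ hσ (Dl A F₁) (Dl A F₂) (Dl_mono A h12)
    (fun r hr => EssFT.isUnit_locSub r hr) heft (Wl A σ F₁) (Wl A σ F₂)
    (Wl_mono A σ h12) (adjoin_le_Wl A σ F₁) z z' hz' hz'mem hzbad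

end Descent

end Groth.Agent.Lib.Helper4.EssNorm
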