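import Mathlib
import Groth.Agent.Lib.Helper4.EssNorm1
import Groth.Agent.S16448

/-!
# Inverses in sub-algebras of the total ring of fractions of an essentially étale algebra
-/

set_option autoImplicit false
set_option linter.unusedSectionVars false
universe u
open IsLocalRing

namespace Groth.Agent.Lib.Helper4.EssNorm

section Inv

variable {A E : Type u} [CommRing A] [IsLocalRing A] [IsReduced A]
  [CommRing E] [IsLocalRing E] [Algebra A E] [IsLocalHom (algebraMap A E)]

theorem exists_mul_eq_algebraMap (hmin : (minimalPrimes A).Finite)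
    (hE : EGA4loc.IsEssentiallyEtale A E) (x : FractionRing E) :
    ∃ s ∈ nonZeroDivisors A, ∃ e : E,
      algebraMap A (FractionRing E) s * x = algebraMap E (FractionRing E) e := by
  have hloc := (Groth.Agent.S16448.result A E hmin hE).1
  obtain ⟨⟨e, m⟩, hm⟩ := IsLocalization.surj ((nonZeroDivisors A).map (algebraMap A E)) x
  obtain ⟨s, hs, hsm⟩ := m.2
  refine ⟨s, hs, e, ?_⟩
  rw [IsScalarTower.algebraMap_apply A E (FractionRing E), mul_comm]
  have hsm' : algebraMap A E s = (m : E) := hsm
  rw [hsm']
  exact hm

theorem isUnit_algebraMap_of_mem_nonZeroDivisors (hE : EGA4loc.IsEssentiallyEtale A E) (s : A)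
    (hs : s ∈ nonZeroDivisors A) : IsUnit (algebraMap A (FractionRing E) s) := by
  have hflat : Module.Flat A E := TotFrac.flat_of_essEtale hE
  have h1 := TotFrac.algebraMap_mem_nonZeroDivisors_of_flat (S := E) s hs
  rw [IsScalarTower.algebraMap_apply A E (FractionRing E)]
  exact IsLocalization.map_units (FractionRing E) (⟨_, h1⟩ : nonZeroDivisors E)

/-- A sub-algebra of `K_E` containing the inverses of the non-zero-divisors of `A` is closed
under inverses. -/
theorem inv_mem_of_mul_eq_one (hmin : (minimalPrimes A).Finite)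
    (hE : EGA4loc.IsEssentiallyEtale A E) (L : Subalgebra A (FractionRing E))
    (hL : ∀ s ∈ nonZeroDivisors A, ∃ y ∈ L, algebraMap A (FractionRing E) s * y = 1)
    (c d : FractionRing E) (hc : c ∈ L) (hcd : c * d = 1) : d ∈ L := by
  classical
  have hft := EssEtale.essFiniteType hE
  have hfe := EssEtale.formallyEtale hE
  have hflat : Module.Flat A E := TotFrac.flat_of_essEtale hE
  have hinj : Function.Injective (algebraMap E (FractionRing E)) :=
    IsFractionRing.injective E (FractionRing E)
  obtain ⟨s₀, hs₀, e, he⟩ := exists_mul_eq_algebraMap hmin hE c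
  have hs₀u := isUnit_algebraMap_of_mem_nonZeroDivisors hE s₀ hs₀
  have heL : algebraMap E (FractionRing E) e ∈ L := by
    rw [← he, ← Algebra.smul_def]
    exact L.smul_mem hc s₀
  -- `e` is a non-zero-divisor
  have henzd : ∀ z : E, e * z = 0 → z = 0 := by
    intro z hz
    apply hinj
    rw [map_zero]
    have h1 : algebraMap E (FractionRing E) e * algebraMap E (FractionRing E) z = 0 := by
      rw [← map_mul, hz, map_zero]
    rw [← he] at h1
    have h2 : algebraMap E (FractionRing E) z =
        d * (hs₀u.unit⁻¹ : (FractionRing E)ˣ) *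
          (algebraMap A (FractionRing E) s₀ * c * algebraMap E (FractionRing E) z) := by
      have h3 : (hs₀u.unit⁻¹ : (FractionRing E)ˣ) * algebraMap A (FractionRing E) s₀ = 1 :=
        hs₀u.val_inv_mul
      calc algebraMap E (FractionRing E) z
          = (c * d) * ((hs₀u.unit⁻¹ : (FractionRing E)ˣ) * algebraMap A (FractionRing E) s₀) *
              algebraMap E (FractionRing E) z := by rw [hcd, h3, one_mul, one_mul]
        _ = _ := by ring
    rw [h2, h1, mul_zero]
  have hmemL : ∀ q : Polynomial A,
      algebraMap E (FractionRing E) (Polynomial.aeval e q) ∈ L := by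
    intro q
    have h1 : algebraMap E (FractionRing E) (Polynomial.aeval e q) =
        Polynomial.aeval (algebraMap E (FractionRing E) e) q := by
      have := Polynomial.aeval_algHom_apply (IsScalarTower.toAlgHom A E (FractionRing E)) e q
      exact this.symm
    rw [h1]
    exact Algebra.adjoin_le (Set.singleton_subset_iff.mpr heL)
      (Polynomial.aeval_mem_adjoin_singleton A _)
  let I : Ideal A :=
    { carrier := {a | ∃ y ∈ L, algebraMap E (FractionRing E) e * y = algebraMap A (FractionRing E) a}
      add_mem' := by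
        rintro a b ⟨y, hy, h⟩ ⟨y', hy', h'⟩
        exact ⟨y + y', L.add_mem hy hy', by rw [mul_add, h, h', map_add]⟩
      zero_mem' := ⟨0, L.zero_mem, by rw [mul_zero, map_zero]⟩
      smul_mem' := by
        rintro r a ⟨y, hy, h⟩
        refine ⟨r • y, L.smul_mem hy r, ?_⟩
        rw [mul_smul_comm, h, smul_eq_mul, map_mul, Algebra.smul_def] }
  obtain ⟨a, ha, haI⟩ := TotFrac.exists_nonZeroDivisor_mem hmin I (fun p hp hle => by
    have hpp : p.IsPrime := hp.1.1
    obtain ⟨s, hs, q₀, hq₀⟩ := TotFrac.exists_mul_aeval_eq_algebraMap' p hp e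
      (fun q hq => henzd _ hq)
    refine hs (hle (show s ∈ I from ⟨_, hmemL q₀, ?_⟩))
    rw [← map_mul, hq₀, ← IsScalarTower.algebraMap_apply])
  obtain ⟨y, hyL, hy⟩ := haI
  obtain ⟨t, htL, ht⟩ := hL a ha
  have hd : d = s₀ • (y * t) := by
    rw [Algebra.smul_def]
    calc d = d * (algebraMap A (FractionRing E) a * t) := by rw [ht, mul_one]
      _ = d * (algebraMap A (FractionRing E) s₀ * c * y * t) := by rw [← hy, ← he]
      _ = (c * d) * (algebraMap A (FractionRing E) s₀ * (y * t)) := by ring
      _ = _ := by rw [hcd, one_mul]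
  rw [hd]
  exact L.smul_mem (L.mul_mem hyL htL) s₀

end Inv

end Groth.Agent.Lib.Helper4.EssNorm
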