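import Mathlib
import Groth.Agent.Lib.Helper24.EtaleNormal
import Groth.Agent.Lib.Helper4.HznNormal

/-!
# Locally normal rings: all localizations at primes are integrally closed domains
-/

set_option autoImplicit false
set_option linter.unusedSectionVars false
universe u

namespace Groth.Agent.Lib.Helper4.NormSh

open TensorProduct

/-- All localizations at primes are integrally closed domains. -/
def LocNormal (R : Type u) [CommRing R] : Prop :=
  ∀ (P : Ideal R) [P.IsPrime], IsDomain (Localization.AtPrime P) ∧
    IsIntegrallyClosed (Localization.AtPrime P)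

theorem LocNormal.of_ringEquiv {R R' : Type u} [CommRing R] [CommRing R'] (e : R ≃+* R')
    (h : LocNormal R) : LocNormal R' := by
  intro P' hP'
  have hP : (P'.comap (e : R →+* R')).IsPrime := Ideal.comap_isPrime _ _
  obtain ⟨h1, h2⟩ := h (P'.comap (e : R →+* R'))
  have hmap : (P'.comap (e : R →+* R')).primeCompl.map e.toMonoidHom = P'.primeCompl := by
    ext x
    constructor
    · rintro ⟨y, hy, rfl⟩
      exact hy
    · intro hx
      refine ⟨e.symm x, ?_, ?_⟩
      · show e.symm x ∉ P'.comap (e : R →+* R')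
        rw [Ideal.mem_comap]
        show ¬ (e (e.symm x) ∈ P')
        rw [e.apply_symm_apply]
        exact hx
      · show e (e.symm x) = x
        exact e.apply_symm_apply x
  let E : Localization.AtPrime (P'.comap (e : R →+* R')) ≃+* Localization.AtPrime P' :=
    IsLocalization.ringEquivOfRingEquiv (M := (P'.comap (e : R →+* R')).primeCompl)
      (T := P'.primeCompl) _ _ e hmap
  have hd : IsDomain (Localization.AtPrime P') := E.toMulEquiv.isDomain_iff.mp h1
  exact ⟨hd, IsIntegrallyClosed.of_equiv E⟩

/-- Étale algebras over locally normal rings are locally normal. -/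
theorem LocNormal.of_etale {R S : Type u} [CommRing R] [CommRing S] [Algebra R S]
    [Algebra.Etale R S] (h : LocNormal R) : LocNormal S := by
  intro q hq
  obtain ⟨p, hp⟩ : ∃ p : Ideal R, p = q.comap (algebraMap R S) := ⟨_, rfl⟩
  have hpp : p.IsPrime := hp ▸ Ideal.comap_isPrime _ _
  obtain ⟨hRd, hRn⟩ := h p
  let Rp := Localization.AtPrime p
  let _ : Algebra S (Rp ⊗[R] S) := Algebra.TensorProduct.rightAlgebra
  have hloc : IsLocalization (Algebra.algebraMapSubmonoid S p.primeCompl)
      (Rp ⊗[R] S) := IsLocalization.tensorRight _ p.primeCompl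
  have hdisj : Disjoint (Algebra.algebraMapSubmonoid S p.primeCompl : Set S) q := by
    rw [Set.disjoint_left]
    rintro _ ⟨r, hr, rfl⟩ hrq
    apply hr
    rw [hp]
    exact hrq
  have hq' : (q.map (algebraMap S (Rp ⊗[R] S))).IsPrime :=
    IsLocalization.isPrime_of_isPrime_disjoint _ _ _ ‹_› hdisj
  have hcomap : (q.map (algebraMap S (Rp ⊗[R] S))).comap
      (algebraMap S (Rp ⊗[R] S)) = q :=
    IsLocalization.under_map_of_isPrime_disjoint _ _ ‹_› hdisj
  obtain ⟨h1, h2⟩ :=
    Groth.Agent.Lib.Helper24.ENorm.isDomain_and_isIntegrallyClosed_localization_of_etale Rp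
      (Rp ⊗[R] S) (q.map (algebraMap S (Rp ⊗[R] S)))
  have : IsScalarTower S (Rp ⊗[R] S)
      (Localization.AtPrime (q.map (algebraMap S (Rp ⊗[R] S)))) :=
    inferInstance
  have hat := IsLocalization.isLocalization_isLocalization_atPrime_isLocalization
    (Algebra.algebraMapSubmonoid S p.primeCompl)
    (Localization.AtPrime (q.map (algebraMap S (Rp ⊗[R] S))))
    (q.map (algebraMap S (Rp ⊗[R] S)))
  simp only [hcomap] at hat
  let e : Localization.AtPrime q ≃ₐ[S]
      Localization.AtPrime (q.map (algebraMap S (Rp ⊗[R] S))) :=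
    IsLocalization.algEquiv q.primeCompl _ _
  have hd : IsDomain (Localization.AtPrime q) := e.symm.toRingEquiv.toMulEquiv.isDomain_iff.mp h1
  have hic : IsIntegrallyClosed (Localization.AtPrime q) :=
    @IsIntegrallyClosed.of_equiv _ _ _ _ e.symm.toRingEquiv h2
  exact ⟨hd, hic⟩

/-- The elementwise consequence of local normality: if `a / b` is integral then locally
`b ∣ a`. -/
theorem LocNormal.exists_mul_eq {R : Type u} [CommRing R] (h : LocNormal R) (P : Ideal R)
    [hP : P.IsPrime] (p : Polynomial R) (hp : p.Monic) (a b : R)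
    (hb : b ∈ nonZeroDivisors R) (hab : (p.scaleRoots b).eval a = 0) :
    ∃ u, u ∉ P ∧ ∃ r, u * a = b * r := by
  obtain ⟨hd, hn⟩ := h P
  let L := Localization.AtPrime P
  have hb0 : algebraMap R L b ≠ 0 := by
    intro h0
    obtain ⟨u, hu⟩ := (IsLocalization.map_eq_zero_iff P.primeCompl L b).mp h0
    have : (u : R) = 0 := hb.2 _ hu
    exact u.2 (this ▸ P.zero_mem)
  have hNE := Hzn.normalEq_of_isIntegrallyClosed L
  have hmonic : (p.map (algebraMap R L)).Monic := hp.map _
  have heval : ((p.map (algebraMap R L)).scaleRoots (algebraMap R L b)).eval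
      (algebraMap R L a) = 0 := by
    have hne : (1 : L) ≠ 0 := one_ne_zero
    rw [← Polynomial.map_scaleRoots p b (algebraMap R L)
      (by rw [hp.leadingCoeff, map_one]; exact hne), Polynomial.eval_map,
      Polynomial.eval₂_at_apply, hab, map_zero]
  obtain ⟨ℓ, hℓ⟩ := hNE _ _ _ hmonic hb0 heval
  obtain ⟨r, s, rfl⟩ := IsLocalization.exists_mk'_eq P.primeCompl ℓ
  have h1 : algebraMap R L (s * a) = algebraMap R L (b * r) := by
    rw [map_mul, map_mul, hℓ]
    calc algebraMap R L s * (algebraMap R L b * IsLocalization.mk' L r s)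
        = algebraMap R L b * (algebraMap R L s * IsLocalization.mk' L r s) := by ring
      _ = algebraMap R L b * algebraMap R L r := by rw [IsLocalization.mk'_spec']
  obtain ⟨c, hc⟩ := (IsLocalization.eq_iff_exists P.primeCompl L).mp h1
  refine ⟨c * s, P.primeCompl.mul_mem c.2 s.2, c * r, ?_⟩
  calc (c : R) * s * a = c * (s * a) := by ring
    _ = c * (b * r) := hc
    _ = b * (c * r) := by ring

end Groth.Agent.Lib.Helper4.NormSh
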