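import Mathlib
import Groth.Prelude.Def_EssEt
import Groth.Agent.Lib.Helper4.NormSh1

/-!
# Local normality of `A' ⊗ E` and the conductor argument
-/

set_option autoImplicit false
set_option linter.unusedSectionVars false
universe u

namespace Groth.Agent.Lib.Helper4.NormSh

open TensorProduct

theorem LocNormal.of_isLocalization {B B' : Type u} [CommRing B] [CommRing B'] [Algebra B B']
    (M : Submonoid B) [IsLocalization M B'] (h : LocNormal B) : LocNormal B' := by
  intro N hN
  have hp : (N.comap (algebraMap B B')).IsPrime := Ideal.comap_isPrime _ _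
  obtain ⟨h1, h2⟩ := h (N.comap (algebraMap B B'))
  have hat := IsLocalization.isLocalization_isLocalization_atPrime_isLocalization M
    (Localization.AtPrime N) N
  let e : Localization.AtPrime (N.comap (algebraMap B B')) ≃ₐ[B] Localization.AtPrime N :=
    IsLocalization.algEquiv (N.comap (algebraMap B B')).primeCompl _ _
  have hd : IsDomain (Localization.AtPrime N) := e.toRingEquiv.toMulEquiv.isDomain_iff.mp h1
  have hic : IsIntegrallyClosed (Localization.AtPrime N) :=
    @IsIntegrallyClosed.of_equiv _ _ _ _ e.toRingEquiv h2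
  exact ⟨hd, hic⟩

theorem locNormal_tensor_localization (A A' C : Type u) [CommRing A] [CommRing A'] [Algebra A A']
    [CommRing C] [Algebra A C] [Algebra.Etale A C] (hA' : LocNormal A') (q : Ideal C) [q.IsPrime] :
    LocNormal (A' ⊗[A] Localization.AtPrime q) := by
  have h0 : LocNormal (A' ⊗[A] C) := hA'.of_etale
  let φ : A' ⊗[A] C →ₐ[A'] A' ⊗[A] Localization.AtPrime q :=
    Algebra.TensorProduct.map (AlgHom.id A' A') (IsScalarTower.toAlgHom A C (Localization.AtPrime q))
  let _ : Algebra (A' ⊗[A] C) (A' ⊗[A] Localization.AtPrime q) := φ.toRingHom.toAlgebra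
  have hst : IsScalarTower A' (A' ⊗[A] C) (A' ⊗[A] Localization.AtPrime q) :=
    IsScalarTower.of_algebraMap_eq (fun x => (φ.commutes x).symm)
  have hloc : IsLocalization (q.primeCompl.map
      (Algebra.TensorProduct.includeRight (R := A) (A := A') (B := C)))
      (A' ⊗[A] Localization.AtPrime q) := by
    apply IsLocalization.tensorProduct_tensorProduct_right A A' q.primeCompl
      (Localization.AtPrime q)
    ext c
    show φ ((1 : A') ⊗ₜ[A] c) = (1 : A') ⊗ₜ[A] (algebraMap C (Localization.AtPrime q) c)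
    simp [φ]
  exact h0.of_isLocalization (q.primeCompl.map
      (Algebra.TensorProduct.includeRight (R := A) (A := A') (B := C)))

theorem locNormal_tensor_essEtale (A A' E : Type u) [CommRing A] [IsLocalRing A] [CommRing A']
    [Algebra A A'] [CommRing E] [Algebra A E] (hE : EGA4loc.IsEssentiallyEtale A E)
    (hA' : LocNormal A') : LocNormal (A' ⊗[A] E) := by
  obtain ⟨C, _, _, q, _, hC, -, ⟨e⟩⟩ := hE
  have h1 := locNormal_tensor_localization A A' C hA' q
  exact h1.of_ringEquiv
    (Algebra.TensorProduct.congr (AlgEquiv.refl : A' ≃ₐ[A] A') e).symm.toRingEquiv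

section Conductor

variable {R₀ R' C K : Type u} [CommRing R₀] [CommRing R'] [Algebra R₀ R'] [CommRing C]
  [Algebra R₀ C] [CommRing K] [Algebra R₀ K] (j' : R' →ₐ[R₀] K) (π : C →ₐ[R₀] K)

/-- The multiplication map `R' ⊗ C → K`. -/
noncomputable abbrev mulMap : R' ⊗[R₀] C →ₐ[R₀] K := Algebra.TensorProduct.productMap j' π

theorem mulMap_tmul (r : R') (c : C) : mulMap j' π (r ⊗ₜ[R₀] c) = j' r * π c :=
  Algebra.TensorProduct.productMap_apply_tmul _ _ r c

/-- Local form of the conductor argument. -/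
theorem exists_notMem_mul_mem_range (hB : LocNormal (R' ⊗[R₀] C)) (N : Ideal (R' ⊗[R₀] C))
    [hN : N.IsPrime] (hπ : Function.Injective π)
    (x : K) (p : Polynomial C) (hp : p.Monic) (hpx : p.eval₂ (π : C →+* K) x = 0)
    (a : R₀) (ha : algebraMap R₀ (R' ⊗[R₀] C) a ∈ nonZeroDivisors (R' ⊗[R₀] C))
    (haK : IsUnit (algebraMap R₀ K a)) (c : C) (hc : algebraMap R₀ K a * x = π c) :
    ∃ u, u ∉ N ∧ mulMap j' π u * x ∈ (mulMap j' π).range := by
  have hnt : Nontrivial (R' ⊗[R₀] C) := by
    refine ⟨0, 1, fun h01 => hN.ne_top ?_⟩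
    rw [Ideal.eq_top_iff_one, ← h01]
    exact N.zero_mem
  let incR : C →ₐ[R₀] R' ⊗[R₀] C := Algebra.TensorProduct.includeRight
  have hincR : ∀ c : C, incR c = (1 : R') ⊗ₜ[R₀] c := fun c => rfl
  set aC : C := algebraMap R₀ C a with haC
  have hπa : π aC = algebraMap R₀ K a := π.commutes a
  -- the scaled polynomial relation in `C`
  have h1 : (p.scaleRoots aC).eval c = 0 := by
    apply hπ
    rw [map_zero]
    have h2 := Polynomial.scaleRoots_eval₂_mul (p := p) (π : C →+* K) x aC
    rw [hpx, mul_zero] at h2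
    have h3 : (π : C →+* K) aC * x = (π : C →+* K) c := by
      show π aC * x = π c
      rw [hπa, hc]
    rw [h3, Polynomial.eval₂_at_apply] at h2
    exact h2
  have h2 : ((p.map (incR : C →+* R' ⊗[R₀] C)).scaleRoots (algebraMap R₀ (R' ⊗[R₀] C) a)).eval
      (incR c) = 0 := by
    have hia : (incR : C →+* R' ⊗[R₀] C) aC = algebraMap R₀ (R' ⊗[R₀] C) a := incR.commutes a
    have hne : (incR : C →+* R' ⊗[R₀] C) p.leadingCoeff ≠ 0 := by
      rw [hp.leadingCoeff, map_one]; exact one_ne_zero
    rw [← hia, ← Polynomial.map_scaleRoots p aC (incR : C →+* R' ⊗[R₀] C) hne,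
      Polynomial.eval_map]
    show Polynomial.eval₂ (incR : C →+* R' ⊗[R₀] C) ((incR : C →+* R' ⊗[R₀] C) c) _ = 0
    rw [Polynomial.eval₂_at_apply, h1, map_zero]
  obtain ⟨u, hu, r, hur⟩ := hB.exists_mul_eq N (p.map (incR : C →+* R' ⊗[R₀] C)) (hp.map _)
    (incR c) (algebraMap R₀ (R' ⊗[R₀] C) a) ha h2
  refine ⟨u, hu, r, ?_⟩
  have h3 := congrArg (mulMap j' π) hur
  rw [map_mul, map_mul, hincR, mulMap_tmul, map_one, one_mul, AlgHom.commutes, ← hc] at h3
  have h4 : algebraMap R₀ K a * (mulMap j' π u * x) = algebraMap R₀ K a * mulMap j' π r := by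
    rw [← h3]; ring
  exact (haK.mul_left_cancel h4).symm

/-- The conductor argument: an element integral over `C` with denominator in `R₀` lies in the
image of `R' ⊗ C`. -/
theorem mem_range_mulMap (hB : LocNormal (R' ⊗[R₀] C)) (hπ : Function.Injective π)
    (x : K) (p : Polynomial C) (hp : p.Monic) (hpx : p.eval₂ (π : C →+* K) x = 0)
    (a : R₀) (ha : algebraMap R₀ (R' ⊗[R₀] C) a ∈ nonZeroDivisors (R' ⊗[R₀] C))
    (haK : IsUnit (algebraMap R₀ K a)) (c : C) (hc : algebraMap R₀ K a * x = π c) :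
    x ∈ (mulMap j' π).range := by
  let I : Ideal (R' ⊗[R₀] C) :=
    { carrier := {r | mulMap j' π r * x ∈ (mulMap j' π).range}
      add_mem' := by
        intro r₁ r₂ h₁ h₂
        show mulMap j' π (r₁ + r₂) * x ∈ (mulMap j' π).range
        rw [map_add, add_mul]
        exact Subalgebra.add_mem _ h₁ h₂
      zero_mem' := by
        show mulMap j' π 0 * x ∈ (mulMap j' π).range
        rw [map_zero, zero_mul]
        exact Subalgebra.zero_mem _
      smul_mem' := by
        intro t r hr
        show mulMap j' π (t • r) * x ∈ (mulMap j' π).range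
        rw [smul_eq_mul, map_mul, mul_assoc]
        exact Subalgebra.mul_mem _ ⟨t, rfl⟩ hr }
  by_cases hI : I = ⊤
  · have h1 : (1 : R' ⊗[R₀] C) ∈ I := by rw [hI]; trivial
    have h2 : mulMap j' π 1 * x ∈ (mulMap j' π).range := h1
    rwa [map_one, one_mul] at h2
  · exfalso
    obtain ⟨N, hN, hIN⟩ := Ideal.exists_le_maximal I hI
    have hNp : N.IsPrime := hN.isPrime
    obtain ⟨u, hu, hux⟩ := exists_notMem_mul_mem_range j' π hB N hπ x p hp hpx a ha haK c hc
    exact hu (hIN hux)

end Conductor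

end Groth.Agent.Lib.Helper4.NormSh
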