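import Mathlib
import Groth.Agent.Lib.Helper4.NormSh2
import Groth.Agent.Lib.Helper4.BrnchNormal
import Groth.Agent.Lib.Helper4.StrictCard4

/-!
# The normalization inside an overring
-/

set_option autoImplicit false
set_option linter.unusedSectionVars false
universe u

namespace Groth.Agent.Lib.Helper4.NormSh

open TensorProduct

/-- The normalization of a reduced ring with finitely many minimal primes is locally normal. -/
theorem locNormal_integralClosure (R : Type u) [CommRing R] [IsReduced R]
    (hfin : (minimalPrimes R).Finite) : LocNormal (integralClosure R (FractionRing R)) := by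
  have h1 : LocNormal (CAlg2.normRed R) := fun P _ => BrnchNormal.normRed_localization R hfin P
  exact h1.of_ringEquiv (StrictCard.normAlgEquiv R).symm.toRingEquiv

section NormId

variable {R₀ : Type u} [CommRing R₀] (R K : Type u) [CommRing R] [CommRing K] [Algebra R K]
  [Algebra R₀ K]

/-- A subalgebra of an overring `K` (in which non-zero-divisors become units) described as the
elements integral over `R` which are fractions is the normalization of `R`. -/
theorem exists_ringEquiv_integralClosure
    (hinj : Function.Injective (algebraMap R K))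
    (hunit : ∀ u ∈ nonZeroDivisors R, IsUnit (algebraMap R K u))
    (R' : Subalgebra R₀ K)
    (hR' : ∀ x : K, x ∈ R' ↔ IsIntegral R x ∧ ∃ u ∈ nonZeroDivisors R, ∃ r : R,
      algebraMap R K u * x = algebraMap R K r) :
    ∃ Θ : integralClosure R (FractionRing R) ≃+* R',
      ∀ r : R, ((Θ (algebraMap R (integralClosure R (FractionRing R)) r) : R') : K) =
        algebraMap R K r := by
  let j : FractionRing R →ₐ[R] K :=
    IsLocalization.liftAlgHom (M := nonZeroDivisors R) (f := Algebra.ofId R K)
      (fun u => hunit u u.2)
  have hj : ∀ r : R, j (algebraMap R (FractionRing R) r) = algebraMap R K r := fun r => by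
    simp [j, Algebra.ofId_apply]
  have hjinj : Function.Injective j := by
    have h0 : Function.Injective (algebraMap R (FractionRing R)) :=
      IsLocalization.injective (FractionRing R) le_rfl
    intro x y hxy
    obtain ⟨r₁, u₁, rfl⟩ := IsLocalization.exists_mk'_eq (nonZeroDivisors R) x
    obtain ⟨r₂, u₂, rfl⟩ := IsLocalization.exists_mk'_eq (nonZeroDivisors R) y
    rw [IsLocalization.mk'_eq_iff_eq]
    apply congrArg
    apply hinj
    have h1 : j (IsLocalization.mk' (FractionRing R) r₁ u₁) * algebraMap R K u₁ =
        algebraMap R K r₁ := by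
      rw [← hj, ← map_mul, IsLocalization.mk'_spec, hj]
    have h2 : j (IsLocalization.mk' (FractionRing R) r₂ u₂) * algebraMap R K u₂ =
        algebraMap R K r₂ := by
      rw [← hj, ← map_mul, IsLocalization.mk'_spec, hj]
    rw [map_mul, map_mul, ← h1, ← h2, hxy]
    ring
  have hmem : ∀ x : integralClosure R (FractionRing R), j (x : FractionRing R) ∈ R' := by
    intro x
    rw [hR']
    refine ⟨x.2.map j, ?_⟩
    obtain ⟨r, u, hru⟩ := IsLocalization.exists_mk'_eq (nonZeroDivisors R) (x : FractionRing R)
    refine ⟨u, u.2, r, ?_⟩
    rw [← hru, ← hj, ← hj, ← map_mul, mul_comm, IsLocalization.mk'_spec]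
  let F : integralClosure R (FractionRing R) →+* R' :=
    { toFun := fun x => ⟨j (x : FractionRing R), hmem x⟩
      map_one' := Subtype.ext (by simp)
      map_mul' := fun x y => Subtype.ext (by simp)
      map_zero' := Subtype.ext (by simp)
      map_add' := fun x y => Subtype.ext (by simp) }
  have hF : ∀ x, ((F x : R') : K) = j (x : FractionRing R) := fun x => rfl
  have hFbij : Function.Bijective F := by
    constructor
    · intro x y hxy
      apply Subtype.ext
      apply hjinj
      rw [← hF, ← hF, hxy]
    · rintro ⟨y, hy⟩
      obtain ⟨hyint, u, hu, r, hur⟩ := (hR' y).mp hy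
      have hy' : y = j (IsLocalization.mk' (FractionRing R) r ⟨u, hu⟩) := by
        apply (hunit u hu).mul_left_cancel
        rw [hur, ← hj u, ← map_mul, mul_comm, IsLocalization.mk'_spec, hj]
      have hint : IsIntegral R (IsLocalization.mk' (FractionRing R) r ⟨u, hu⟩) := by
        rw [← isIntegral_algHom_iff j hjinj, ← hy']
        exact hyint
      refine ⟨⟨_, hint⟩, ?_⟩
      apply Subtype.ext
      rw [hF]
      exact hy'.symm
  refine ⟨RingEquiv.ofBijective F hFbij, fun r => ?_⟩
  show j (algebraMap R (FractionRing R) r) = _
  exact hj r

end NormId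

end Groth.Agent.Lib.Helper4.NormSh
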