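import Mathlib
import Groth.Prelude.Def_Hensel
import Groth.Agent.Lib.Helper4.NormSh3
import Groth.Agent.Lib.Helper4.TotFracSub
import Groth.Agent.Lib.Helper4.HzsProps
import Groth.Agent.Lib.Helper4.HzsSub

/-!
# Normalizations inside the total ring of fractions of a strict henselization
-/

set_option autoImplicit false
set_option linter.unusedSectionVars false
universe u

namespace Groth.Agent.Lib.Helper4.NormSh

open TensorProduct IsLocalRing

section Sh

variable (A S : Type u) [CommRing A] [IsLocalRing A] [IsReduced A] [IsNoetherianRing A]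
  [CommRing S] [IsLocalRing S] [Algebra A S] [IsLocalHom (algebraMap A S)]
  [hS : Hensel.IsStrictHenselization A S]

theorem injective_algebraMap_frac : Function.Injective (algebraMap S (FractionRing S)) :=
  IsLocalization.injective (FractionRing S) le_rfl

theorem isUnit_algebraMap_frac {a : A} (ha : a ∈ nonZeroDivisors A) :
    IsUnit (algebraMap A (FractionRing S) a) := by
  have hff : Module.FaithfullyFlat A S := Hzs.faithfullyFlat_of_isStrictHenselization A S
  have h1 : algebraMap A S a ∈ nonZeroDivisors S :=
    TotFrac.algebraMap_mem_nonZeroDivisors_of_flat a ha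
  rw [IsScalarTower.algebraMap_apply A S (FractionRing S)]
  exact IsLocalization.map_units (FractionRing S) (⟨_, h1⟩ : nonZeroDivisors S)

variable (D : Subalgebra A S)

theorem algebraMap_sub_frac (d : D) :
    algebraMap D (FractionRing S) d = algebraMap S (FractionRing S) (d : S) := rfl

theorem algebraMap_algebraMap_sub_frac (a : A) :
    algebraMap D (FractionRing S) (algebraMap A D a) = algebraMap A (FractionRing S) a := by
  rw [algebraMap_sub_frac, IsScalarTower.algebraMap_apply A S (FractionRing S)]
  rfl

theorem injective_algebraMap_sub_frac : Function.Injective (algebraMap D (FractionRing S)) :=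
  fun x y h => Subtype.ext (injective_algebraMap_frac S h)

theorem algebraMap_mem_nonZeroDivisors_sub {a : A} (ha : a ∈ nonZeroDivisors A) :
    algebraMap A D a ∈ nonZeroDivisors D := by
  have hff : Module.FaithfullyFlat A S := Hzs.faithfullyFlat_of_isStrictHenselization A S
  have h1 : algebraMap A S a ∈ nonZeroDivisors S :=
    TotFrac.algebraMap_mem_nonZeroDivisors_of_flat a ha
  rw [mem_nonZeroDivisors_iff_left]
  intro x hx
  apply Subtype.ext
  apply mem_nonZeroDivisors_iff_left.mp h1
  have := congrArg Subtype.val hx
  exact this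

theorem exists_mul_eq_of_mem_nonZeroDivisors_sub (u : D) (hu : u ∈ nonZeroDivisors D) :
    ∃ a ∈ nonZeroDivisors A, ∃ y : D, u * y = algebraMap A D a := by
  have hmin : (minimalPrimes A).Finite := minimalPrimes.finite_of_isNoetherianRing A
  obtain ⟨a, ha, y, hy, h⟩ := TotFrac.exists_mul_eq_algebraMap_of_subalgebra A S hmin D (u : S)
    u.2 (fun y hy hy0 => by
      have h1 : u * (⟨y, hy⟩ : D) = 0 := Subtype.ext hy0
      have h2 : (⟨y, hy⟩ : D) = 0 := mem_nonZeroDivisors_iff_left.mp hu _ h1
      exact congrArg Subtype.val h2)
  exact ⟨a, ha, ⟨y, hy⟩, Subtype.ext h⟩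

theorem isUnit_algebraMap_sub_frac (u : D) (hu : u ∈ nonZeroDivisors D) :
    IsUnit (algebraMap D (FractionRing S) u) := by
  obtain ⟨a, ha, y, hy⟩ := exists_mul_eq_of_mem_nonZeroDivisors_sub A S D u hu
  have h1 : algebraMap D (FractionRing S) u * algebraMap D (FractionRing S) y =
      algebraMap A (FractionRing S) a := by
    rw [← map_mul, hy, algebraMap_algebraMap_sub_frac A S D]
  exact isUnit_of_mul_isUnit_left (h1 ▸ isUnit_algebraMap_frac A S ha)

/-- Every element of the total ring of fractions of `S` has a denominator in `A`. -/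
theorem exists_mul_eq_algebraMap_frac (x : FractionRing S) :
    ∃ a ∈ nonZeroDivisors A, ∃ s : S,
      algebraMap A (FractionRing S) a * x = algebraMap S (FractionRing S) s := by
  obtain ⟨s, u, rfl⟩ := IsLocalization.exists_mk'_eq (nonZeroDivisors S) x
  have hu : (⟨(u : S), Algebra.mem_top⟩ : (⊤ : Subalgebra A S)) ∈
      nonZeroDivisors (⊤ : Subalgebra A S) := by
    rw [mem_nonZeroDivisors_iff_left]
    intro y hy
    apply Subtype.ext
    apply mem_nonZeroDivisors_iff_left.mp u.2
    exact congrArg Subtype.val hy
  obtain ⟨a, ha, y, hy⟩ := exists_mul_eq_of_mem_nonZeroDivisors_sub A S ⊤ _ hu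
  have hy' : (u : S) * (y : S) = algebraMap A S a := congrArg Subtype.val hy
  refine ⟨a, ha, (y : S) * s, ?_⟩
  rw [IsScalarTower.algebraMap_apply A S (FractionRing S), ← hy', map_mul, map_mul]
  calc algebraMap S (FractionRing S) u * algebraMap S (FractionRing S) y *
        IsLocalization.mk' (FractionRing S) s u
      = algebraMap S (FractionRing S) y *
        (IsLocalization.mk' (FractionRing S) s u * algebraMap S (FractionRing S) u) := by ring
    _ = algebraMap S (FractionRing S) y * algebraMap S (FractionRing S) s := by
        rw [IsLocalization.mk'_spec]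

/-- The normalization of `D` inside the total ring of fractions of `S`. -/
theorem exists_ringEquiv_normalization_sub (D' : Subalgebra A (FractionRing S))
    (hD' : ∀ x : FractionRing S, x ∈ D' ↔ (IsIntegral D x ∧
      ∃ a ∈ nonZeroDivisors A, ∃ d ∈ D, algebraMap A (FractionRing S) a * x =
        algebraMap S (FractionRing S) d)) :
    ∃ Θ : integralClosure D (FractionRing D) ≃+* D',
      ∀ d : D, ((Θ (algebraMap D (integralClosure D (FractionRing D)) d) : D') : FractionRing S) =
        algebraMap S (FractionRing S) (d : S) := by
  refine exists_ringEquiv_integralClosure (R₀ := A) D (FractionRing S)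
    (injective_algebraMap_sub_frac A S D) (isUnit_algebraMap_sub_frac A S D) D' ?_
  intro x
  rw [hD']
  constructor
  · rintro ⟨hint, a, ha, d, hd, h⟩
    refine ⟨hint, algebraMap A D a, algebraMap_mem_nonZeroDivisors_sub A S D ha, ⟨d, hd⟩, ?_⟩
    rw [algebraMap_algebraMap_sub_frac A S D, h]
    rfl
  · rintro ⟨hint, u, hu, r, h⟩
    obtain ⟨a, ha, y, hy⟩ := exists_mul_eq_of_mem_nonZeroDivisors_sub A S D u hu
    refine ⟨hint, a, ha, ((y * r : D) : S), (y * r).2, ?_⟩
    rw [← algebraMap_algebraMap_sub_frac A S D a, ← hy, map_mul]
    calc algebraMap D (FractionRing S) u * algebraMap D (FractionRing S) y * x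
        = algebraMap D (FractionRing S) y * (algebraMap D (FractionRing S) u * x) := by ring
      _ = algebraMap D (FractionRing S) y * algebraMap D (FractionRing S) r := by rw [h]
      _ = algebraMap S (FractionRing S) ((y * r : D) : S) := by
          rw [← map_mul]; rfl

/-- The normalization of `A` inside the total ring of fractions of `S`. -/
theorem exists_ringEquiv_normalization (A' : Subalgebra A (FractionRing S))
    (hA' : ∀ x : FractionRing S, x ∈ A' ↔ (IsIntegral A x ∧
      ∃ a ∈ nonZeroDivisors A, ∃ b : A, algebraMap A (FractionRing S) a * x =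
        algebraMap A (FractionRing S) b)) :
    ∃ Θ : integralClosure A (FractionRing A) ≃+* A',
      ∀ a : A, ((Θ (algebraMap A (integralClosure A (FractionRing A)) a) : A') : FractionRing S) =
        algebraMap A (FractionRing S) a := by
  have hff : Module.FaithfullyFlat A S := Hzs.faithfullyFlat_of_isStrictHenselization A S
  refine exists_ringEquiv_integralClosure (R₀ := A) A (FractionRing S) ?_
    (fun u hu => isUnit_algebraMap_frac A S hu) A' hA'
  rw [IsScalarTower.algebraMap_eq A S (FractionRing S)]
  exact (injective_algebraMap_frac S).comp (FaithfulSMul.algebraMap_injective A S)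

end Sh

end Groth.Agent.Lib.Helper4.NormSh
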