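import Mathlib
import Groth.Prelude.Def_Hensel
import Groth.Agent.Lib.Helper4.NormSh4

/-!
# The normalization of the strict henselization is `A' ⊗ S`
-/

set_option autoImplicit false
set_option linter.unusedSectionVars false
universe u

namespace Groth.Agent.Lib.Helper4.NormSh

open TensorProduct IsLocalRing

section Sh

variable (A S : Type u) [CommRing A] [IsLocalRing A] [IsReduced A] [IsNoetherianRing A]
  [CommRing S] [IsLocalRing S] [Algebra A S] [IsLocalHom (algebraMap A S)]
  [hS : Hensel.IsStrictHenselization A S]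
  (A' : Subalgebra A (FractionRing S))
  (hA' : ∀ x : FractionRing S, x ∈ A' ↔ (IsIntegral A x ∧
      ∃ a ∈ nonZeroDivisors A, ∃ b : A, algebraMap A (FractionRing S) a * x =
        algebraMap A (FractionRing S) b))

/-- The multiplication map `A' ⊗ S → K`. -/
noncomputable abbrev μS : A' ⊗[A] S →ₐ[A] FractionRing S :=
  mulMap A'.val (IsScalarTower.toAlgHom A S (FractionRing S))

theorem μS_tmul (a' : A') (s : S) :
    μS A S A' (a' ⊗ₜ[A] s) = (a' : FractionRing S) * algebraMap S (FractionRing S) s :=
  mulMap_tmul _ _ a' s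

include hA' in
theorem locNormal_normalization : LocNormal A' := by
  have hmin : (minimalPrimes A).Finite := minimalPrimes.finite_of_isNoetherianRing A
  obtain ⟨Θ, -⟩ := exists_ringEquiv_normalization A S A' hA'
  exact (locNormal_integralClosure A hmin).of_ringEquiv Θ

theorem smul_injective_normalization {a : A} (ha : a ∈ nonZeroDivisors A) :
    Function.Injective (LinearMap.lsmul A A' a) := by
  intro x y hxy
  have h1 : a • x = a • y := hxy
  have h2 : algebraMap A (FractionRing S) a * (x : FractionRing S) =
      algebraMap A (FractionRing S) a * (y : FractionRing S) := by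
    have := congrArg Subtype.val h1
    rw [Subalgebra.coe_smul, Subalgebra.coe_smul, Algebra.smul_def, Algebra.smul_def] at this
    exact this
  exact Subtype.ext ((isUnit_algebraMap_frac A S ha).mul_left_cancel h2)

theorem algebraMap_mem_nonZeroDivisors_tensor (E : Type u) [CommRing E] [Algebra A E]
    [Module.Flat A E] {a : A} (ha : a ∈ nonZeroDivisors A) :
    algebraMap A (A' ⊗[A] E) a ∈ nonZeroDivisors (A' ⊗[A] E) := by
  have h1 := Module.Flat.rTensor_preserves_injective_linearMap (M := E)
    (LinearMap.lsmul A A' a) (smul_injective_normalization A S A' ha)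
  have h2 : ∀ z : A' ⊗[A] E, (LinearMap.lsmul A A' a).rTensor E z = a • z := by
    intro z
    induction z using TensorProduct.induction_on with
    | zero => simp
    | tmul x e => simp [TensorProduct.smul_tmul']
    | add x y hx hy => rw [map_add, hx, hy, smul_add]
  rw [mem_nonZeroDivisors_iff_left]
  intro z hz
  apply h1
  rw [h2, map_zero]
  exact (Algebra.smul_def a z).trans hz

include hA' in
theorem exists_smul_eq_one_tmul (z : A' ⊗[A] S) :
    ∃ a ∈ nonZeroDivisors A, ∃ s : S, a • z = (1 : A') ⊗ₜ[A] s := by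
  induction z using TensorProduct.induction_on with
  | zero => exact ⟨1, Submonoid.one_mem _, 0, by simp⟩
  | tmul a' s =>
    obtain ⟨-, a, ha, b, hab⟩ := (hA' (a' : FractionRing S)).mp a'.2
    refine ⟨a, ha, b • s, ?_⟩
    have h1 : a • a' = algebraMap A A' b := by
      apply Subtype.ext
      rw [Subalgebra.coe_smul, Algebra.smul_def, hab]
      rfl
    rw [TensorProduct.smul_tmul', h1, Algebra.algebraMap_eq_smul_one, TensorProduct.smul_tmul]
  | add x y hx hy =>
    obtain ⟨a₁, ha₁, s₁, h₁⟩ := hx
    obtain ⟨a₂, ha₂, s₂, h₂⟩ := hy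
    refine ⟨a₁ * a₂, Submonoid.mul_mem _ ha₁ ha₂, a₂ • s₁ + a₁ • s₂, ?_⟩
    have e1 : (a₁ * a₂) • x = a₂ • (a₁ • x) := by rw [mul_comm, mul_smul]
    have e2 : (a₁ * a₂) • y = a₁ • (a₂ • y) := by rw [mul_smul]
    rw [smul_add, e1, e2, h₁, h₂, TensorProduct.tmul_add, TensorProduct.tmul_smul,
      TensorProduct.tmul_smul]

include hA' in
theorem μS_injective : Function.Injective (μS A S A') := by
  have hff : Module.FaithfullyFlat A S := Hzs.faithfullyFlat_of_isStrictHenselization A S
  rw [injective_iff_map_eq_zero]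
  intro z hz
  obtain ⟨a, ha, s, hs⟩ := exists_smul_eq_one_tmul A S A' hA' z
  have h1 : μS A S A' (a • z) = 0 := by rw [map_smul, hz, smul_zero]
  rw [hs, μS_tmul, OneMemClass.coe_one, one_mul] at h1
  have hs0 : s = 0 := injective_algebraMap_frac S (h1.trans (map_zero _).symm)
  rw [hs0, TensorProduct.tmul_zero] at hs
  have h2 := algebraMap_mem_nonZeroDivisors_tensor A S A' S ha
  apply mem_nonZeroDivisors_iff_left.mp h2
  exact (Algebra.smul_def a z).symm.trans hs

/-- The multiplication map `A' ⊗ E → K` for a subalgebra `E` of `S`. -/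
noncomputable abbrev μE (E : Subalgebra A S) : A' ⊗[A] E →ₐ[A] FractionRing S :=
  mulMap A'.val ((IsScalarTower.toAlgHom A S (FractionRing S)).comp E.val)

theorem μE_eq (E : Subalgebra A S) (z : A' ⊗[A] E) :
    μE A S A' E z = μS A S A' (Algebra.TensorProduct.map (AlgHom.id A A') E.val z) := by
  induction z using TensorProduct.induction_on with
  | zero => simp
  | tmul a' e =>
    rw [Algebra.TensorProduct.map_tmul, μS_tmul, mulMap_tmul]
    rfl
  | add x y hx hy => rw [map_add, map_add, map_add, hx, hy]

include hA' in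
/-- **The normalization of `S` is `A' ⊗ S`**: every element of the total ring of fractions
which is integral over `S` is in the image of `A' ⊗ S`. -/
theorem mem_range_μS_of_isIntegral (x : FractionRing S) (hx : IsIntegral S x) :
    x ∈ (μS A S A').range := by
  classical
  obtain ⟨p, hp, hpx⟩ := hx
  obtain ⟨a, ha, s, has⟩ := exists_mul_eq_algebraMap_frac A S x
  obtain ⟨E, hFE, hEloc, hEl, hE⟩ := Hzs.exists_essEtale_subalgebra A S (insert s p.coeffs)
  have hsE : s ∈ E := hFE (by simp)
  have hcoeff : ∀ n, p.coeff n ∈ E := by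
    intro n
    by_cases h0 : p.coeff n = 0
    · rw [h0]; exact E.zero_mem
    · apply hFE
      rw [Finset.coe_insert]
      exact Or.inr (Polynomial.coeff_mem_coeffs h0)
  have hlift : p ∈ Polynomial.lifts (algebraMap E S) := by
    rw [Polynomial.lifts_iff_coeff_lifts]
    intro n
    exact ⟨⟨p.coeff n, hcoeff n⟩, rfl⟩
  obtain ⟨q, hq1, -, hq3⟩ := Polynomial.lifts_and_natDegree_eq_and_monic hlift hp
  have hflat : Module.Flat A E := TotFrac.flat_of_essEtale hE
  have hB : LocNormal (A' ⊗[A] E) :=
    locNormal_tensor_essEtale A A' E hE (locNormal_normalization A S A' hA')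
  have hπ : Function.Injective ((IsScalarTower.toAlgHom A S (FractionRing S)).comp E.val) :=
    (injective_algebraMap_frac S).comp Subtype.val_injective
  have hqx : q.eval₂ (((IsScalarTower.toAlgHom A S (FractionRing S)).comp E.val : E →ₐ[A] _) :
      E →+* FractionRing S) x = 0 := by
    have h1 : (((IsScalarTower.toAlgHom A S (FractionRing S)).comp E.val : E →ₐ[A] _) :
        E →+* FractionRing S) = (algebraMap S (FractionRing S)).comp (algebraMap E S) := rfl
    rw [h1, ← Polynomial.eval₂_map, hq1]
    exact hpx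
  have h := mem_range_mulMap A'.val ((IsScalarTower.toAlgHom A S (FractionRing S)).comp E.val)
    hB hπ x q hq3 hqx a (algebraMap_mem_nonZeroDivisors_tensor A S A' E ha)
    (isUnit_algebraMap_frac A S ha) ⟨s, hsE⟩ has
  obtain ⟨z, hz⟩ := h
  exact ⟨_, (μE_eq A S A' E z).symm.trans hz⟩

end Sh

end Groth.Agent.Lib.Helper4.NormSh
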