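import Mathlib
import Groth.Agent.Lib.Helper4.EssNorm2
import Groth.Agent.Lib.Helper4.NormSh5

/-!
# The normalization of an essentially étale local algebra is `Ā ⊗ E`
-/

set_option autoImplicit false
set_option linter.unusedSectionVars false
universe u
open IsLocalRing TensorProduct

namespace Groth.Agent.Lib.Helper4.EssNorm

section Model

variable {A E : Type u} [CommRing A] [IsLocalRing A] [IsReduced A]
  [CommRing E] [IsLocalRing E] [Algebra A E] [IsLocalHom (algebraMap A E)]
  (hE : EGA4loc.IsEssentiallyEtale A E)

/-- The map of total rings of fractions `K_A → K_E`. -/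
noncomputable def jK : FractionRing A →ₐ[A] FractionRing E :=
  IsLocalization.liftAlgHom (M := nonZeroDivisors A) (f := Algebra.ofId A (FractionRing E))
    (fun u => isUnit_algebraMap_of_mem_nonZeroDivisors hE u u.2)

/-- The map from the normalization of `A` to `K_E`. -/
noncomputable def jA : integralClosure A (FractionRing A) →ₐ[A] FractionRing E :=
  (jK hE).comp (integralClosure A (FractionRing A)).val

theorem isIntegral_jA (x : integralClosure A (FractionRing A)) : IsIntegral A (jA hE x) :=
  x.2.map (jK hE)

theorem exists_smul_eq_algebraMap (x : integralClosure A (FractionRing A)) :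
    ∃ a ∈ nonZeroDivisors A, ∃ b : A,
      a • x = algebraMap A (integralClosure A (FractionRing A)) b := by
  obtain ⟨b, a, hab⟩ := IsLocalization.exists_mk'_eq (nonZeroDivisors A) (x : FractionRing A)
  refine ⟨a, a.2, b, ?_⟩
  apply Subtype.ext
  rw [Subalgebra.coe_smul, Algebra.smul_def, ← hab, mul_comm, IsLocalization.mk'_spec]
  rfl

theorem exists_mul_jA_eq (x : integralClosure A (FractionRing A)) :
    ∃ a ∈ nonZeroDivisors A, ∃ b : A,
      algebraMap A (FractionRing E) a * jA hE x = algebraMap A (FractionRing E) b := by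
  obtain ⟨a, ha, b, hab⟩ := exists_smul_eq_algebraMap x
  refine ⟨a, ha, b, ?_⟩
  have := congrArg (jA hE) hab
  rw [map_smul, Algebra.smul_def, AlgHom.commutes] at this
  exact this

theorem smul_injective_Abar {a : A} (ha : a ∈ nonZeroDivisors A) :
    Function.Injective (LinearMap.lsmul A (integralClosure A (FractionRing A)) a) := by
  intro x y hxy
  have h1 : a • x = a • y := hxy
  have h2 : algebraMap A (FractionRing A) a * (x : FractionRing A) =
      algebraMap A (FractionRing A) a * (y : FractionRing A) := by
    have := congrArg Subtype.val h1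
    rw [Subalgebra.coe_smul, Subalgebra.coe_smul, Algebra.smul_def, Algebra.smul_def] at this
    exact this
  have hu : IsUnit (algebraMap A (FractionRing A) a) :=
    IsLocalization.map_units (FractionRing A) (⟨a, ha⟩ : nonZeroDivisors A)
  exact Subtype.ext (hu.mul_left_cancel h2)

theorem algebraMap_mem_nonZeroDivisors_tensor (E' : Type u) [CommRing E'] [Algebra A E']
    [Module.Flat A E'] {a : A} (ha : a ∈ nonZeroDivisors A) :
    algebraMap A (integralClosure A (FractionRing A) ⊗[A] E') a ∈
      nonZeroDivisors (integralClosure A (FractionRing A) ⊗[A] E') := by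
  have h1 := Module.Flat.rTensor_preserves_injective_linearMap (M := E')
    (LinearMap.lsmul A (integralClosure A (FractionRing A)) a) (smul_injective_Abar ha)
  have h2 : ∀ z : integralClosure A (FractionRing A) ⊗[A] E',
      (LinearMap.lsmul A (integralClosure A (FractionRing A)) a).rTensor E' z = a • z := by
    intro z
    induction z using TensorProduct.induction_on with
    | zero => simp
    | tmul x e => simp [TensorProduct.smul_tmul']
    | add x y hx hy => rw [map_add, hx, hy, smul_add]
  rw [mem_nonZeroDivisors_iff_left]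
  intro z hz
  apply h1
  rw [h2, map_zero]
  exact (Algebra.smul_def a z).trans hz

/-- The multiplication map `Ā ⊗ E → K_E`. -/
noncomputable abbrev μE : integralClosure A (FractionRing A) ⊗[A] E →ₐ[A] FractionRing E :=
  NormSh.mulMap (jA hE) (IsScalarTower.toAlgHom A E (FractionRing E))

theorem μE_tmul (a' : integralClosure A (FractionRing A)) (e : E) :
    μE hE (a' ⊗ₜ[A] e) = jA hE a' * algebraMap E (FractionRing E) e :=
  NormSh.mulMap_tmul _ _ a' e

theorem exists_smul_eq_one_tmul (z : integralClosure A (FractionRing A) ⊗[A] E) :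
    ∃ a ∈ nonZeroDivisors A, ∃ s : E,
      a • z = (1 : integralClosure A (FractionRing A)) ⊗ₜ[A] s := by
  induction z using TensorProduct.induction_on with
  | zero => exact ⟨1, Submonoid.one_mem _, 0, by simp⟩
  | tmul a' s =>
    obtain ⟨a, ha, b, hab⟩ := exists_smul_eq_algebraMap a'
    refine ⟨a, ha, b • s, ?_⟩
    rw [TensorProduct.smul_tmul', hab, Algebra.algebraMap_eq_smul_one, TensorProduct.smul_tmul]
  | add x y hx hy =>
    obtain ⟨a₁, ha₁, s₁, h₁⟩ := hx
    obtain ⟨a₂, ha₂, s₂, h₂⟩ := hy
    refine ⟨a₁ * a₂, Submonoid.mul_mem _ ha₁ ha₂, a₂ • s₁ + a₁ • s₂, ?_⟩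
    have e1 : (a₁ * a₂) • x = a₂ • (a₁ • x) := by rw [mul_comm, mul_smul]
    have e2 : (a₁ * a₂) • y = a₁ • (a₂ • y) := by rw [mul_smul]
    rw [smul_add, e1, e2, h₁, h₂, TensorProduct.tmul_add, TensorProduct.tmul_smul,
      TensorProduct.tmul_smul]

theorem μE_injective : Function.Injective (μE hE) := by
  have hflat : Module.Flat A E := TotFrac.flat_of_essEtale hE
  rw [injective_iff_map_eq_zero]
  intro z hz
  obtain ⟨a, ha, s, hs⟩ := exists_smul_eq_one_tmul z
  have h1 : μE hE (a • z) = 0 := by rw [map_smul, hz, smul_zero]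
  rw [hs, μE_tmul, map_one, one_mul] at h1
  have hs0 : s = 0 :=
    IsFractionRing.injective E (FractionRing E) (h1.trans (map_zero _).symm)
  rw [hs0, TensorProduct.tmul_zero] at hs
  have h2 := algebraMap_mem_nonZeroDivisors_tensor (A := A) E ha
  apply mem_nonZeroDivisors_iff_left.mp h2
  exact (Algebra.smul_def a z).symm.trans hs

theorem μE_mem_Ecl (z : integralClosure A (FractionRing A) ⊗[A] E) : μE hE z ∈ Ecl A E := by
  induction z using TensorProduct.induction_on with
  | zero => rw [map_zero]; exact (Ecl A E).zero_mem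
  | tmul a' e =>
    rw [μE_tmul]
    refine (Ecl A E).mul_mem ?_ ?_
    · exact (isIntegral_jA hE a').tower_top
    · exact isIntegral_algebraMap
  | add x y hx hy => rw [map_add]; exact (Ecl A E).add_mem hx hy

/-- **The normalization of `E` is `Ā ⊗ E`.** -/
theorem mem_range_μE (hmin : (minimalPrimes A).Finite) (x : FractionRing E)
    (hx : IsIntegral E x) : x ∈ (μE hE).range := by
  have hflat : Module.Flat A E := TotFrac.flat_of_essEtale hE
  obtain ⟨p, hp, hpx⟩ := hx
  obtain ⟨a, ha, c, hc⟩ := exists_mul_eq_algebraMap hmin hE x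
  have hB : NormSh.LocNormal (integralClosure A (FractionRing A) ⊗[A] E) :=
    NormSh.locNormal_tensor_essEtale A (integralClosure A (FractionRing A)) E hE
      (NormSh.locNormal_integralClosure A hmin)
  exact NormSh.mem_range_mulMap (jA hE) (IsScalarTower.toAlgHom A E (FractionRing E)) hB
    (IsFractionRing.injective E (FractionRing E)) x p hp hpx a
    (algebraMap_mem_nonZeroDivisors_tensor (A := A) E ha)
    (isUnit_algebraMap_of_mem_nonZeroDivisors hE a ha) c hc

end Model

end Groth.Agent.Lib.Helper4.EssNorm
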