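import Mathlib
import Groth.Agent.Lib.Helper4.EssNorm3

/-!
# Normalizations of sub-algebras of an essentially étale local algebra
-/

set_option autoImplicit false
set_option linter.unusedSectionVars false
universe u
open IsLocalRing TensorProduct

namespace Groth.Agent.Lib.Helper4.EssNorm

/-- Finiteness of the set of minimal primes descends along injective ring maps. -/
theorem finite_minimalPrimes_of_injective {R S : Type*} [CommRing R] [CommRing S] (f : R →+* S)
    (hf : Function.Injective f) (hfinS : (minimalPrimes S).Finite) : (minimalPrimes R).Finite := by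
  refine (hfinS.image (Ideal.comap f)).subset ?_
  intro p hp
  obtain ⟨q, hq, hqp⟩ := Ideal.exists_comap_eq_of_mem_minimalPrimes_of_injective
    (f := f) hf p hp
  have hqprime : q.IsPrime := hq
  obtain ⟨q₀, hq₀, hq₀q⟩ := Ideal.exists_minimalPrimes_le (I := (⊥ : Ideal S)) (J := q) bot_le
  refine ⟨q₀, hq₀, ?_⟩
  have hq₀prime : q₀.IsPrime := hq₀.1.1
  have h1 : q₀.comap f ≤ p := hqp ▸ Ideal.comap_mono hq₀q
  exact le_antisymm h1 (hp.2 ⟨Ideal.comap_isPrime _ _, bot_le⟩ h1)

section Sub

variable {A E : Type u} [CommRing A] [IsLocalRing A] [IsReduced A]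
  [CommRing E] [IsLocalRing E] [Algebra A E] [IsLocalHom (algebraMap A E)]
  (hmin : (minimalPrimes A).Finite) (hE : EGA4loc.IsEssentiallyEtale A E) (D : Subalgebra A E)

include hmin hE in
theorem exists_mul_eq_algebraMap_of_subalgebra (u : E) (hu : u ∈ D)
    (hnzd : ∀ y ∈ D, u * y = 0 → y = 0) :
    ∃ a ∈ nonZeroDivisors A, ∃ y ∈ D, u * y = algebraMap A E a := by
  classical
  have hft := EssEtale.essFiniteType hE
  have hfe := EssEtale.formallyEtale hE
  have hflat : Module.Flat A E := TotFrac.flat_of_essEtale hE
  let I : Ideal A :=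
    { carrier := {a | ∃ y ∈ D, u * y = algebraMap A E a}
      add_mem' := by
        rintro a b ⟨d, hd, h⟩ ⟨d', hd', h'⟩
        exact ⟨d + d', D.add_mem hd hd', by rw [mul_add, h, h', map_add]⟩
      zero_mem' := ⟨0, D.zero_mem, by rw [mul_zero, map_zero]⟩
      smul_mem' := by
        rintro r a ⟨d, hd, h⟩
        refine ⟨r • d, D.smul_mem hd r, ?_⟩
        rw [mul_smul_comm, h, smul_eq_mul, map_mul, Algebra.smul_def] }
  have hmemD : ∀ q : Polynomial A, Polynomial.aeval u q ∈ D := fun q =>
    Algebra.adjoin_le (Set.singleton_subset_iff.mpr hu)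
      (Polynomial.aeval_mem_adjoin_singleton A u)
  obtain ⟨a, ha, haI⟩ := TotFrac.exists_nonZeroDivisor_mem hmin I (fun p hp hle => by
    have hpp : p.IsPrime := hp.1.1
    obtain ⟨s, hs, q₀, hq₀⟩ := TotFrac.exists_mul_aeval_eq_algebraMap' p hp u
      (fun q hq => hnzd _ (hmemD q) hq)
    exact hs (hle (show s ∈ I from ⟨_, hmemD q₀, hq₀⟩)))
  obtain ⟨y, hy, h⟩ := haI
  exact ⟨a, ha, y, hy, h⟩

theorem algebraMap_sub_frac (d : D) :
    algebraMap D (FractionRing E) d = algebraMap E (FractionRing E) (d : E) := rfl

theorem algebraMap_algebraMap_sub_frac (a : A) :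
    algebraMap D (FractionRing E) (algebraMap A D a) = algebraMap A (FractionRing E) a := by
  rw [algebraMap_sub_frac, IsScalarTower.algebraMap_apply A E (FractionRing E)]
  rfl

theorem injective_algebraMap_sub_frac : Function.Injective (algebraMap D (FractionRing E)) :=
  fun x y h => Subtype.ext (IsFractionRing.injective E (FractionRing E) h)

include hE in
theorem algebraMap_mem_nonZeroDivisors_sub {a : A} (ha : a ∈ nonZeroDivisors A) :
    algebraMap A D a ∈ nonZeroDivisors D := by
  have hflat : Module.Flat A E := TotFrac.flat_of_essEtale hE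
  have h1 : algebraMap A E a ∈ nonZeroDivisors E :=
    TotFrac.algebraMap_mem_nonZeroDivisors_of_flat a ha
  rw [mem_nonZeroDivisors_iff_left]
  intro x hx
  apply Subtype.ext
  apply mem_nonZeroDivisors_iff_left.mp h1
  have := congrArg Subtype.val hx
  exact this

include hmin hE in
theorem exists_mul_eq_of_mem_nonZeroDivisors_sub (u : D) (hu : u ∈ nonZeroDivisors D) :
    ∃ a ∈ nonZeroDivisors A, ∃ y : D, u * y = algebraMap A D a := by
  obtain ⟨a, ha, y, hy, h⟩ := exists_mul_eq_algebraMap_of_subalgebra hmin hE D (u : E)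
    u.2 (fun y hy hy0 => by
      have h1 : u * (⟨y, hy⟩ : D) = 0 := Subtype.ext hy0
      have h2 : (⟨y, hy⟩ : D) = 0 := mem_nonZeroDivisors_iff_left.mp hu _ h1
      exact congrArg Subtype.val h2)
  exact ⟨a, ha, ⟨y, hy⟩, Subtype.ext h⟩

include hmin hE in
theorem isUnit_algebraMap_sub_frac (u : D) (hu : u ∈ nonZeroDivisors D) :
    IsUnit (algebraMap D (FractionRing E) u) := by
  obtain ⟨a, ha, y, hy⟩ := exists_mul_eq_of_mem_nonZeroDivisors_sub hmin hE D u hu
  have h1 : algebraMap D (FractionRing E) u * algebraMap D (FractionRing E) y =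
      algebraMap A (FractionRing E) a := by
    rw [← map_mul, hy, algebraMap_algebraMap_sub_frac D]
  exact isUnit_of_mul_isUnit_left (h1 ▸ isUnit_algebraMap_of_mem_nonZeroDivisors hE a ha)

include hmin hE in
/-- The normalization of `D` inside the total ring of fractions of `E`. -/
theorem exists_ringEquiv_normalization_sub (D' : Subalgebra A (FractionRing E))
    (hD' : ∀ x : FractionRing E, x ∈ D' ↔ (IsIntegral D x ∧
      ∃ a ∈ nonZeroDivisors A, ∃ d ∈ D, algebraMap A (FractionRing E) a * x =
        algebraMap E (FractionRing E) d)) :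
    ∃ Θ : integralClosure D (FractionRing D) ≃+* D',
      ∀ d : D, ((Θ (algebraMap D (integralClosure D (FractionRing D)) d) : D') : FractionRing E) =
        algebraMap E (FractionRing E) (d : E) := by
  refine NormSh.exists_ringEquiv_integralClosure (R₀ := A) D (FractionRing E)
    (injective_algebraMap_sub_frac D) (isUnit_algebraMap_sub_frac hmin hE D) D' ?_
  intro x
  rw [hD']
  constructor
  · rintro ⟨hint, a, ha, d, hd, h⟩
    refine ⟨hint, algebraMap A D a, algebraMap_mem_nonZeroDivisors_sub hE D ha, ⟨d, hd⟩, ?_⟩
    rw [algebraMap_algebraMap_sub_frac D, h]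
    rfl
  · rintro ⟨hint, u, hu, r, h⟩
    obtain ⟨a, ha, y, hy⟩ := exists_mul_eq_of_mem_nonZeroDivisors_sub hmin hE D u hu
    refine ⟨hint, a, ha, ((y * r : D) : E), (y * r).2, ?_⟩
    rw [← algebraMap_algebraMap_sub_frac D a, ← hy, map_mul]
    calc algebraMap D (FractionRing E) u * algebraMap D (FractionRing E) y * x
        = algebraMap D (FractionRing E) y * (algebraMap D (FractionRing E) u * x) := by ring
      _ = algebraMap D (FractionRing E) y * algebraMap D (FractionRing E) r := by rw [h]
      _ = algebraMap E (FractionRing E) ((y * r : D) : E) := by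
          rw [← map_mul]; rfl

include hE in
theorem isReduced_sub : IsReduced D := by
  have hred : IsReduced E := isReduced_of_essEtale hE
  exact isReduced_of_injective D.val Subtype.val_injective

include hE in
theorem finite_minimalPrimes_sub [IsNoetherianRing A] : (minimalPrimes D).Finite := by
  have hnoeth : IsNoetherianRing E := isNoetherianRing_of_essEtale hE
  exact finite_minimalPrimes_of_injective (algebraMap D E) Subtype.val_injective
    (minimalPrimes.finite_of_isNoetherianRing E)

include hE in
theorem isReduced_frac : IsReduced (FractionRing E) := by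
  have hred : IsReduced E := isReduced_of_essEtale hE
  infer_instance

include hE in
theorem finite_minimalPrimes_subalgebra_frac [IsNoetherianRing A]
    (D' : Subalgebra A (FractionRing E)) : (minimalPrimes D').Finite := by
  have hnoeth : IsNoetherianRing E := isNoetherianRing_of_essEtale hE
  have hK : IsNoetherianRing (FractionRing E) :=
    IsLocalization.isNoetherianRing (nonZeroDivisors E) _ hnoeth
  exact finite_minimalPrimes_of_injective (algebraMap D' (FractionRing E)) Subtype.val_injective
    (minimalPrimes.finite_of_isNoetherianRing _)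

include hE in
theorem isReduced_subalgebra_frac (D' : Subalgebra A (FractionRing E)) : IsReduced D' := by
  have := isReduced_frac hE
  exact isReduced_of_injective D'.val Subtype.val_injective

include hmin hE in
theorem locNormal_normalization_sub [IsNoetherianRing A] (D' : Subalgebra A (FractionRing E))
    (hD' : ∀ x : FractionRing E, x ∈ D' ↔ (IsIntegral D x ∧
      ∃ a ∈ nonZeroDivisors A, ∃ d ∈ D, algebraMap A (FractionRing E) a * x =
        algebraMap E (FractionRing E) d)) : NormSh.LocNormal D' := by
  have hred := isReduced_sub hE D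
  obtain ⟨Θ, -⟩ := exists_ringEquiv_normalization_sub hmin hE D D' hD'
  exact (NormSh.locNormal_integralClosure D (finite_minimalPrimes_sub hE D)).of_ringEquiv Θ

include hE in
/-- The normalization of `A` lies in the normalization of `D`. -/
theorem jA_mem_normalization_sub (D' : Subalgebra A (FractionRing E))
    (hD' : ∀ x : FractionRing E, x ∈ D' ↔ (IsIntegral D x ∧
      ∃ a ∈ nonZeroDivisors A, ∃ d ∈ D, algebraMap A (FractionRing E) a * x =
        algebraMap E (FractionRing E) d)) (x : integralClosure A (FractionRing A)) :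
    jA hE x ∈ D' := by
  rw [hD']
  refine ⟨(isIntegral_jA hE x).tower_top, ?_⟩
  obtain ⟨a, ha, b, hab⟩ := exists_mul_jA_eq hE x
  refine ⟨a, ha, algebraMap A E b, D.algebraMap_mem b, ?_⟩
  rw [hab, ← IsScalarTower.algebraMap_apply]

end Sub

end Groth.Agent.Lib.Helper4.EssNorm
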