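import Mathlib
import Groth.Agent.Lib.Helper4.EssNorm4

/-!
# Auxiliary results: residue field embeddings and algebraicity at minimal primes
-/

set_option autoImplicit false
set_option linter.unusedSectionVars false
universe u
open IsLocalRing TensorProduct

namespace Groth.Agent.Lib.Helper4.EssNorm

/-- Extending a field embedding into a separably closed field along an extension generated by
a separable extension of a subfield. -/
theorem exists_ringHom_sepClosed {kA kE k₀ kM Ω : Type u} [Field kA] [Field kE] [Field k₀]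
    [Field kM] [Field Ω] [IsSepClosed Ω] [Algebra kA kE] [Algebra.IsSeparable kA kE]
    (σ₀ : kA →+* k₀) (ι₀ : k₀ →+* kM) (ρE : kE →+* kM) (ω : k₀ →+* Ω)
    (hcomm : ι₀.comp σ₀ = ρE.comp (algebraMap kA kE))
    (hgen : ∀ x : kM, x ∈ Subring.closure (Set.range ι₀ ∪ Set.range ρE)) :
    ∃ β : kM →+* Ω, β.comp ι₀ = ω := by
  let _ : Algebra k₀ kM := ι₀.toAlgebra
  let _ : Algebra k₀ Ω := ω.toAlgebra
  have hsepE : ∀ y : kE, IsSeparable k₀ (ρE y) := by
    intro y
    have hq : (minpoly kA y).Separable := Algebra.IsSeparable.isSeparable kA y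
    have hq₀ : ((minpoly kA y).map σ₀).Separable := hq.map
    have h0 : Polynomial.aeval (ρE y) ((minpoly kA y).map σ₀) = 0 := by
      rw [Polynomial.aeval_def, Polynomial.eval₂_map]
      have h1 : (algebraMap k₀ kM).comp σ₀ = ρE.comp (algebraMap kA kE) := hcomm
      rw [h1, ← Polynomial.hom_eval₂, ← Polynomial.aeval_def, minpoly.aeval, map_zero]
    exact hq₀.of_dvd (minpoly.dvd k₀ (ρE y) h0)
  have hle : Subring.closure (Set.range ι₀ ∪ Set.range ρE) ≤
      (separableClosure k₀ kM).toSubring := by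
    rw [Subring.closure_le]
    rintro x (⟨y, rfl⟩ | ⟨y, rfl⟩)
    · exact (separableClosure k₀ kM).algebraMap_mem y
    · exact mem_separableClosure_iff.mpr (hsepE y)
  have hsep : Algebra.IsSeparable k₀ kM :=
    ⟨fun x => mem_separableClosure_iff.mp (hle (hgen x))⟩
  let β : kM →ₐ[k₀] Ω := IsSepClosed.lift
  refine ⟨β.toRingHom, ?_⟩
  ext y
  exact β.commutes y

section Alg

variable {A E : Type u} [CommRing A] [IsLocalRing A] [IsReduced A]
  [CommRing E] [IsLocalRing E] [Algebra A E] [IsLocalHom (algebraMap A E)]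
  (hmin : (minimalPrimes A).Finite) (hE : EGA4loc.IsEssentiallyEtale A E)

include hmin in
theorem mem_minimalPrimes_of_disjoint (P : Ideal A) [hP : P.IsPrime]
    (h : ∀ a ∈ nonZeroDivisors A, a ∉ P) : P ∈ minimalPrimes A := by
  by_contra hcon
  have h1 : ∀ p ∈ minimalPrimes A, ¬ P ≤ p := by
    intro p hp hle
    have h2 : p ≤ P := hp.2 ⟨hP, bot_le⟩ hle
    exact hcon ((le_antisymm hle h2) ▸ hp)
  obtain ⟨a, ha, haP⟩ := TotFrac.exists_nonZeroDivisor_mem hmin P h1
  exact h a ha haP

include hE in
/-- Elements of `E` are algebraic over `A` at minimal primes. -/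
theorem exists_polynomial_aeval_eq_zero (p : Ideal A) [hpp : p.IsPrime]
    (hp : p ∈ minimalPrimes A) (x : E) :
    ∃ F : Polynomial A, (∃ i, F.coeff i ∉ p) ∧ Polynomial.aeval x F = 0 := by
  classical
  have hft := EssEtale.essFiniteType hE
  have hfe := EssEtale.formallyEtale hE
  have hflat : Module.Flat A E := TotFrac.flat_of_essEtale hE
  have hfin := TotFrac.finite_tensor_atPrime (E := E) p hp
  set x' : Localization.AtPrime p ⊗[A] E := (1 : Localization.AtPrime p) ⊗ₜ[A] x with hx'
  let _ : Field (Localization.AtPrime p) :=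
    (TotFrac.isField_localization_atPrime_of_minimal p hp).toField
  have hint : IsIntegral (Localization.AtPrime p) x' := Algebra.IsIntegral.isIntegral x'
  obtain ⟨q, hqm, hq⟩ := hint
  have hq' : Polynomial.aeval x' q = 0 := hq
  obtain ⟨b, hb, hbq⟩ := IsLocalization.integerNormalization_spec p.primeCompl q
  set F₀ := IsLocalization.integerNormalization p.primeCompl q with hF₀
  have h1 : Polynomial.aeval x' F₀ = 0 :=
    IsLocalization.integerNormalization_aeval_eq_zero p.primeCompl q hq'
  have h2 : Polynomial.aeval x' F₀ = (Algebra.TensorProduct.includeRight :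
      E →ₐ[A] Localization.AtPrime p ⊗[A] E) (Polynomial.aeval x F₀) := by
    rw [← Polynomial.aeval_algHom_apply]
    rfl
  have h3 : (1 : Localization.AtPrime p) ⊗ₜ[A] (Polynomial.aeval x F₀) = 0 := by
    rw [← h1, h2]
    rfl
  obtain ⟨s, hs, hs0⟩ := TotFrac.exists_smul_eq_zero_of_one_tmul_eq_zero p _ h3
  have hcoeff : F₀.coeff q.natDegree ∉ p := by
    intro hmem
    have h4 := congrArg (fun G => Polynomial.coeff G q.natDegree) hbq
    simp only [Polynomial.coeff_map, Polynomial.coeff_smul] at h4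
    rw [Polynomial.coeff_natDegree, hqm.leadingCoeff, Algebra.smul_def, mul_one] at h4
    have h5 : IsUnit (algebraMap A (Localization.AtPrime p) b) :=
      IsLocalization.map_units (Localization.AtPrime p) (⟨b, hb⟩ : p.primeCompl)
    rw [← h4, IsLocalization.AtPrime.isUnit_to_map_iff (Localization.AtPrime p) p] at h5
    exact h5 hmem
  refine ⟨Polynomial.C s * F₀, ⟨q.natDegree, ?_⟩, ?_⟩
  · rw [Polynomial.coeff_C_mul]
    exact fun h => (hpp.mem_or_mem h).elim hs hcoeff
  · rw [map_mul, Polynomial.aeval_C, ← Algebra.smul_def]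
    exact hs0

include hmin hE in
/-- Elements of the total ring of fractions of `E` are algebraic over `A` at minimal primes. -/
theorem exists_polynomial_aeval_eq_zero_frac (p : Ideal A) [hpp : p.IsPrime]
    (hp : p ∈ minimalPrimes A) (x : FractionRing E) :
    ∃ F : Polynomial A, (∃ i, F.coeff i ∉ p) ∧ Polynomial.aeval x F = 0 := by
  obtain ⟨a, ha, e, hae⟩ := exists_mul_eq_algebraMap hmin hE x
  obtain ⟨F₀, ⟨i, hi⟩, hF₀⟩ := exists_polynomial_aeval_eq_zero hE p hp e
  have hap : a ∉ p := fun h =>
    Set.disjoint_left.mp (Ideal.disjoint_nonZeroDivisors_of_mem_minimalPrimes hp) h ha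
  refine ⟨F₀.comp (Polynomial.C a * Polynomial.X), ⟨i, ?_⟩, ?_⟩
  · rw [Polynomial.comp_C_mul_X_coeff]
    exact fun h => (hpp.mem_or_mem h).elim hi (fun h' => hap (hpp.mem_of_pow_mem i h'))
  · rw [Polynomial.aeval_comp, map_mul, Polynomial.aeval_C, Polynomial.aeval_X, hae]
    have := Polynomial.aeval_algHom_apply (IsScalarTower.toAlgHom A E (FractionRing E)) e F₀
    rw [IsScalarTower.coe_toAlgHom'] at this
    rw [this, hF₀, map_zero]

end Alg

end Groth.Agent.Lib.Helper4.EssNorm
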