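import Mathlib
import Groth.Agent.Lib.Helper4.EssNorm6
import Groth.Agent.Lib.Helper4.HzsSub3

/-!
# Local maps from the normalization of an essentially étale algebra to a strict henselization
-/

set_option autoImplicit false
set_option linter.unusedSectionVars false
universe u
open IsLocalRing TensorProduct

namespace Groth.Agent.Lib.Helper4.EssNorm

section LocalMap

variable {A E : Type u} [CommRing A] [IsLocalRing A] [IsReduced A]
  [CommRing E] [IsLocalRing E] [Algebra A E] [IsLocalHom (algebraMap A E)]
  (hE : EGA4loc.IsEssentiallyEtale A E)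

/-- The map `Ā → E'`. -/
noncomputable def jEc : integralClosure A (FractionRing A) →ₐ[A] Ecl A E :=
  (jA hE).codRestrict (Ecl A E) (fun x => (isIntegral_jA hE x).tower_top)

theorem coe_jEc (x : integralClosure A (FractionRing A)) :
    ((jEc hE x : Ecl A E) : FractionRing E) = jA hE x := rfl

/-- The multiplication map `Ā ⊗ E → E'`. -/
noncomputable def μc : integralClosure A (FractionRing A) ⊗[A] E →ₐ[A] Ecl A E :=
  (μE hE).codRestrict (Ecl A E) (μE_mem_Ecl hE)

theorem μc_tmul (a' : integralClosure A (FractionRing A)) (e : E) :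
    μc hE (a' ⊗ₜ[A] e) = jEc hE a' * toEcl A E e :=
  Subtype.ext (μE_tmul hE a' e)

theorem μc_bijective (hmin : (minimalPrimes A).Finite) : Function.Bijective (μc hE) := by
  constructor
  · intro x y hxy
    apply μE_injective hE
    exact congrArg Subtype.val hxy
  · intro x
    obtain ⟨z, hz⟩ := mem_range_μE hE hmin (x : FractionRing E) x.2
    exact ⟨z, Subtype.ext hz⟩

theorem jEc_algebraMap (a : A) :
    jEc hE (algebraMap A _ a) = algebraMap A (Ecl A E) a := (jEc hE).commutes a

theorem comap_jEc_comap (M : Ideal (Ecl A E)) [M.IsMaximal] :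
    (M.comap (jEc hE)).comap (algebraMap A (integralClosure A (FractionRing A))) =
      maximalIdeal A := by
  ext a
  rw [Ideal.mem_comap, Ideal.mem_comap, jEc_algebraMap, ← toEcl_comp_algebraMap,
    RingHom.comp_apply, ← Ideal.mem_comap, comap_toEcl_eq]
  constructor
  · intro h
    by_contra hna
    have h1 : IsUnit a := by
      by_contra h2
      exact hna ((mem_maximalIdeal a).mpr h2)
    exact (mem_maximalIdeal _).mp h (h1.map (algebraMap A E))
  · intro h
    rw [mem_maximalIdeal, mem_nonunits_iff]
    intro hu
    exact (mem_maximalIdeal a).mp h (isUnit_of_map_unit (algebraMap A E) a hu)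

set_option maxHeartbeats 2000000 in
set_option synthInstance.maxHeartbeats 400000 in
/-- **The local map `E' → H`**: for a maximal ideal `M` of the normalization `E'` of `E`, lying
over the prime `m'` of the normalization `Ā` of `A`, there is a ring map from `E'` to any strict
henselization `H` of `Ā_{m'}`, compatible with `Ā → Ā_{m'} → H`, for which `M` is the preimage
of the maximal ideal. -/
theorem exists_local_map (hmin : (minimalPrimes A).Finite) (M : Ideal (Ecl A E)) [hM : M.IsMaximal]
    (H : Type u) [CommRing H] [IsLocalRing H]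
    [Algebra (Localization.AtPrime (M.comap (jEc hE))) H]
    [IsLocalHom (algebraMap (Localization.AtPrime (M.comap (jEc hE))) H)]
    [hH : Hensel.IsStrictHenselization (Localization.AtPrime (M.comap (jEc hE))) H] :
    ∃ (ψ : E →+* H) (Φ : Ecl A E →+* H),
      (∀ e' : Ecl A E, Φ e' ∈ maximalIdeal H ↔ e' ∈ M) ∧
      (∀ a' : integralClosure A (FractionRing A), Φ (jEc hE a') =
        algebraMap (Localization.AtPrime (M.comap (jEc hE))) H
          (algebraMap _ (Localization.AtPrime (M.comap (jEc hE))) a')) ∧
      (∀ e : E, Φ (toEcl A E e) = ψ e) := by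
  classical
  have hft := EssEtale.essFiniteType hE
  have hfe := EssEtale.formallyEtale hE
  have hsepAE : Algebra.IsSeparable (ResidueField A) (ResidueField E) := inferInstance
  have hHens : HenselianLocalRing H := hH.henselian
  have hsc : IsSepClosed (ResidueField H) := hH.isSepClosure.sep_closed
  -- algebra structures
  let _ : Algebra (integralClosure A (FractionRing A)) H :=
    ((algebraMap (Localization.AtPrime (M.comap (jEc hE))) H).comp
      (algebraMap (integralClosure A (FractionRing A))
        (Localization.AtPrime (M.comap (jEc hE))))).toAlgebra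
  let _ : Algebra A H :=
    ((algebraMap (integralClosure A (FractionRing A)) H).comp
      (algebraMap A (integralClosure A (FractionRing A)))).toAlgebra
  have htow1 : IsScalarTower A (integralClosure A (FractionRing A)) H :=
    IsScalarTower.of_algebraMap_eq (fun _ => rfl)
  have htow2 : IsScalarTower (integralClosure A (FractionRing A))
      (Localization.AtPrime (M.comap (jEc hE))) H :=
    IsScalarTower.of_algebraMap_eq (fun _ => rfl)
  have htow3 : IsScalarTower A (Localization.AtPrime (M.comap (jEc hE))) H := by
    refine IsScalarTower.of_algebraMap_eq (fun a => ?_)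
    rw [IsScalarTower.algebraMap_apply A (integralClosure A (FractionRing A))
      (Localization.AtPrime (M.comap (jEc hE)))]
    rfl
  -- locality
  have hlocAR : IsLocalHom (algebraMap A (Localization.AtPrime (M.comap (jEc hE)))) := by
    refine ⟨fun a ha => ?_⟩
    by_contra hna
    have h1 : a ∈ maximalIdeal A := (mem_maximalIdeal a).mpr hna
    rw [← comap_jEc_comap hE M, Ideal.mem_comap] at h1
    rw [IsScalarTower.algebraMap_apply A (integralClosure A (FractionRing A))
      (Localization.AtPrime (M.comap (jEc hE))),
      IsLocalization.AtPrime.isUnit_to_map_iff (Localization.AtPrime (M.comap (jEc hE)))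
        (M.comap (jEc hE))] at ha
    exact ha h1
  have hlocAH : IsLocalHom (algebraMap A H) := by
    refine ⟨fun a ha => ?_⟩
    rw [IsScalarTower.algebraMap_apply A (Localization.AtPrime (M.comap (jEc hE))) H] at ha
    have h1 := isUnit_of_map_unit (algebraMap (Localization.AtPrime (M.comap (jEc hE))) H) _ ha
    exact isUnit_of_map_unit (algebraMap A (Localization.AtPrime (M.comap (jEc hE)))) a h1
  -- the residue field of `M`
  let _ : Field (Ecl A E ⧸ M) := Ideal.Quotient.field M
  let g₀ : integralClosure A (FractionRing A) →+* Ecl A E ⧸ M :=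
    (Ideal.Quotient.mk M).comp (jEc hE : integralClosure A (FractionRing A) →+* Ecl A E)
  have hg₀ : ∀ y : (M.comap (jEc hE)).primeCompl, IsUnit (g₀ y) := by
    intro y
    rw [isUnit_iff_ne_zero]
    intro h0
    have h1 : jEc hE (y : integralClosure A (FractionRing A)) ∈ M :=
      Ideal.Quotient.eq_zero_iff_mem.mp h0
    exact y.2 h1
  let ρ₀ : Localization.AtPrime (M.comap (jEc hE)) →+* Ecl A E ⧸ M :=
    IsLocalization.lift (M := (M.comap (jEc hE)).primeCompl) hg₀
  have hρ₀ : ∀ a' : integralClosure A (FractionRing A),
      ρ₀ (algebraMap _ (Localization.AtPrime (M.comap (jEc hE))) a') =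
        Ideal.Quotient.mk M (jEc hE a') := fun a' => IsLocalization.lift_eq hg₀ a'
  have hρ₀loc : IsLocalHom ρ₀ := by
    refine ⟨fun r hr => ?_⟩
    by_contra hnr
    have h1 : r ∈ maximalIdeal (Localization.AtPrime (M.comap (jEc hE))) :=
      (mem_maximalIdeal r).mpr hnr
    rw [← Localization.AtPrime.map_eq_maximalIdeal] at h1
    have h2 : (M.comap (jEc hE)).map (algebraMap (integralClosure A (FractionRing A))
        (Localization.AtPrime (M.comap (jEc hE)))) ≤ RingHom.ker ρ₀ := by
      rw [Ideal.map_le_iff_le_comap]
      intro a' ha'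
      rw [Ideal.mem_comap, RingHom.mem_ker, hρ₀]
      exact Ideal.Quotient.eq_zero_iff_mem.mpr ha'
    have h3 : ρ₀ r = 0 := h2 h1
    rw [h3] at hr
    exact not_isUnit_zero hr
  let ι₀ : ResidueField (Localization.AtPrime (M.comap (jEc hE))) →+* Ecl A E ⧸ M :=
    ResidueField.lift ρ₀
  let gE : E →+* Ecl A E ⧸ M := (Ideal.Quotient.mk M).comp (toEcl A E)
  have hgEloc : IsLocalHom gE := by
    refine ⟨fun a ha => ?_⟩
    by_contra hna
    have h1 : a ∈ maximalIdeal E := (mem_maximalIdeal a).mpr hna
    rw [← comap_toEcl_eq A E M, Ideal.mem_comap] at h1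
    have h2 : gE a = 0 := Ideal.Quotient.eq_zero_iff_mem.mpr h1
    rw [h2] at ha
    exact not_isUnit_zero ha
  let ρE : ResidueField E →+* Ecl A E ⧸ M := ResidueField.lift gE
  let σ₀ : ResidueField A →+* ResidueField (Localization.AtPrime (M.comap (jEc hE))) :=
    ResidueField.map (algebraMap A (Localization.AtPrime (M.comap (jEc hE))))
  let ω : ResidueField (Localization.AtPrime (M.comap (jEc hE))) →+* ResidueField H :=
    ResidueField.map (algebraMap (Localization.AtPrime (M.comap (jEc hE))) H)
  have hcomm : ι₀.comp σ₀ = ρE.comp (algebraMap (ResidueField A) (ResidueField E)) := by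
    refine RingHom.ext fun x => ?_
    obtain ⟨a, rfl⟩ := residue_surjective x
    change ι₀ (σ₀ (residue A a)) = ρE (ResidueField.map (algebraMap A E) (residue A a))
    rw [ResidueField.map_residue, ResidueField.map_residue, ResidueField.lift_residue_apply,
      ResidueField.lift_residue_apply,
      IsScalarTower.algebraMap_apply A (integralClosure A (FractionRing A))
        (Localization.AtPrime (M.comap (jEc hE))), hρ₀, jEc_algebraMap]
    change _ = Ideal.Quotient.mk M (toEcl A E (algebraMap A E a))
    rw [← RingHom.comp_apply (toEcl A E), toEcl_comp_algebraMap]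
  have hbij := μc_bijective hE hmin
  have hgen : ∀ x : Ecl A E ⧸ M, x ∈ Subring.closure (Set.range ι₀ ∪ Set.range ρE) := by
    intro x
    obtain ⟨e', rfl⟩ := Ideal.Quotient.mk_surjective x
    obtain ⟨z, rfl⟩ := hbij.2 e'
    induction z using TensorProduct.induction_on with
    | zero => rw [map_zero, map_zero]; exact Subring.zero_mem _
    | tmul a' e =>
      rw [μc_tmul, map_mul]
      refine Subring.mul_mem _ (Subring.subset_closure (Or.inl ⟨residue _ (algebraMap _ _ a'), ?_⟩))
        (Subring.subset_closure (Or.inr ⟨residue E e, ?_⟩))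
      · rw [ResidueField.lift_residue_apply, hρ₀]
      · rw [ResidueField.lift_residue_apply]
        rfl
    | add x y hx hy => rw [map_add, map_add]; exact Subring.add_mem _ hx hy
  obtain ⟨β, hβ⟩ := exists_ringHom_sepClosed σ₀ ι₀ ρE ω hcomm hgen
  let α : ResidueField E →+* ResidueField H := β.comp ρE
  have hα : α.comp (ResidueField.map (algebraMap A E)) = ResidueField.map (algebraMap A H) := by
    have h1 : ResidueField.map (algebraMap A E) =
        algebraMap (ResidueField A) (ResidueField E) := rfl
    rw [h1, RingHom.comp_assoc, ← hcomm, ← RingHom.comp_assoc, hβ, ← ResidueField.map_comp]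
    congr 1
  obtain ⟨ψ, hψ⟩ := EssEtale.exists_lift hE H α hα
  let Ψ : integralClosure A (FractionRing A) ⊗[A] E →ₐ[A] H :=
    Algebra.TensorProduct.productMap
      (IsScalarTower.toAlgHom A (integralClosure A (FractionRing A)) H) ψ
  have hΨ : ∀ (a' : integralClosure A (FractionRing A)) (e : E),
      Ψ (a' ⊗ₜ[A] e) = algebraMap (integralClosure A (FractionRing A)) H a' * ψ e :=
    fun a' e => Algebra.TensorProduct.productMap_apply_tmul _ _ a' e
  have hβι : ∀ a' : integralClosure A (FractionRing A),
      residue H (algebraMap (integralClosure A (FractionRing A)) H a') =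
        β (Ideal.Quotient.mk M (jEc hE a')) := by
    intro a'
    have h1 : residue H (algebraMap (integralClosure A (FractionRing A)) H a') =
        ω (residue _ (algebraMap _ (Localization.AtPrime (M.comap (jEc hE))) a')) := rfl
    rw [h1, ← hβ, RingHom.comp_apply, ResidueField.lift_residue_apply, hρ₀]
  have key : ∀ z, residue H (Ψ z) = β (Ideal.Quotient.mk M (μc hE z)) := by
    intro z
    induction z using TensorProduct.induction_on with
    | zero => simp
    | tmul a' e =>
      rw [hΨ, map_mul, hβι, hψ, μc_tmul, map_mul, map_mul]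
      rfl
    | add x y hx hy => rw [map_add, map_add, hx, hy, map_add, map_add, map_add]
  let eμ : integralClosure A (FractionRing A) ⊗[A] E ≃+* Ecl A E :=
    RingEquiv.ofBijective (μc hE) hbij
  have heμ : ∀ z, eμ.symm (μc hE z) = z := fun z => eμ.symm_apply_apply z
  let Φ : Ecl A E →+* H := (Ψ : _ →+* H).comp eμ.symm.toRingHom
  have hΦ : ∀ z, Φ (μc hE z) = Ψ z := by
    intro z
    change Ψ (eμ.symm (μc hE z)) = Ψ z
    rw [heμ]
  refine ⟨ψ, Φ, ?_, ?_, ?_⟩
  · intro e'
    obtain ⟨z, rfl⟩ := hbij.2 e'
    rw [hΦ, ← residue_eq_zero_iff, key, map_eq_zero_iff β β.injective,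
      Ideal.Quotient.eq_zero_iff_mem]
  · intro a'
    have h1 : jEc hE a' = μc hE (a' ⊗ₜ[A] (1 : E)) := by rw [μc_tmul, map_one, mul_one]
    rw [h1, hΦ, hΨ, map_one, mul_one]
    rfl
  · intro e
    have h1 : toEcl A E e = μc hE ((1 : integralClosure A (FractionRing A)) ⊗ₜ[A] e) := by
      rw [μc_tmul, map_one, one_mul]
    rw [h1, hΦ, hΨ, map_one, one_mul]
    rfl

end LocalMap

end Groth.Agent.Lib.Helper4.EssNorm
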