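import Mathlib
import Groth.Prelude.Def_Hensel
import Groth.Agent.Lib.Helper4.HzsTensor

/-!
# A strict henselization of a local ring `A` is one of `A_𝔪`
-/

set_option autoImplicit false
universe u

namespace Groth.Agent.Lib.Helper4.Hzs

open IsLocalRing

section AtMax

variable (A : Type u) [CommRing A] [IsLocalRing A] (S : Type u) [CommRing S] [IsLocalRing S]
  [Algebra A S] [IsLocalHom (algebraMap A S)]

/-- `A ≃ A_𝔪` for a local ring. -/
noncomputable def atMaxEquiv : A ≃ₐ[A] Localization.AtPrime (maximalIdeal A) :=
  IsLocalization.atUnits A (maximalIdeal A).primeCompl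
    (fun x hx => IsLocalRing.notMem_maximalIdeal.mp hx)

/-- `A_𝔪 → S`. -/
noncomputable def atMaxHom : Localization.AtPrime (maximalIdeal A) →+* S :=
  (algebraMap A S).comp ((atMaxEquiv A).symm : Localization.AtPrime (maximalIdeal A) →+* A)

theorem atMaxHom_algebraMap (a : A) :
    atMaxHom A S (algebraMap A (Localization.AtPrime (maximalIdeal A)) a) = algebraMap A S a := by
  change algebraMap A S ((atMaxEquiv A).symm (algebraMap A _ a)) = _
  rw [AlgEquiv.commutes]
  rfl

theorem isLocalHom_atMaxHom : IsLocalHom (atMaxHom A S) := by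
  refine ⟨fun x hx => ?_⟩
  have h1 : IsUnit ((atMaxEquiv A).symm x) := isUnit_of_map_unit (algebraMap A S) _ hx
  have := h1.map (atMaxEquiv A)
  rwa [AlgEquiv.apply_symm_apply] at this

theorem isStrictHenselization_atMax [hS : Hensel.IsStrictHenselization A S] :
    @Hensel.IsStrictHenselization (Localization.AtPrime (maximalIdeal A)) S _ _ _ _
      (atMaxHom A S).toAlgebra (isLocalHom_atMaxHom A S) := by
  let _ : Algebra (Localization.AtPrime (maximalIdeal A)) S := (atMaxHom A S).toAlgebra
  have : IsLocalHom (algebraMap (Localization.AtPrime (maximalIdeal A)) S) :=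
    isLocalHom_atMaxHom A S
  refine isStrictHenselization_of_factor (B := A) (Bh := S)
    (D := Localization.AtPrime (maximalIdeal A)) (algebraMap A _) ?_ ?_
  · ext a
    exact atMaxHom_algebraMap A S a
  · intro T _ _ f _ τ g h1 h2 h3
    apply IsLocalization.ringHom_ext (maximalIdeal A).primeCompl
    ext a
    have := congrArg (fun F => F a) h2
    simp only [RingHom.comp_apply] at this ⊢
    rw [← this]
    congr 1
    exact atMaxHom_algebraMap A S a

end AtMax

end Groth.Agent.Lib.Helper4.Hzs
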