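import Mathlib
import Groth.Prelude.Def_Hensel
import Groth.Agent.Lib.Helper4.HzsAtMax
import Groth.Agent.Lib.Helper4.HzsInt
import Groth.Agent.Lib.Helper4.HzsBC1
import Groth.Agent.Lib.Helper4.HznNormal
import Groth.Agent.Lib.Helper4.HzsStrict

/-!
# Normal local rings of finite algebras inside a strict henselization

`A` local, `S = A^sh`, `C` a finite `A`-algebra with `ι : C →ₐ[A] S`, `𝔫 = ι⁻¹ 𝔪_S`.
If `C_𝔫` is a normal domain then `S` is a strict henselization of `C_𝔫`.
-/

set_option autoImplicit false
set_option linter.unusedSectionVars false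
universe u

namespace Groth.Agent.Lib.Helper4.Hzs

open IsLocalRing TensorProduct Groth.Agent.Lib.Helper4.Hzn

section FinLoc

variable (A : Type u) [CommRing A] [IsLocalRing A]
  (S : Type u) [CommRing S] [IsLocalRing S] [Algebra A S] [IsLocalHom (algebraMap A S)]
  (C : Type u) [CommRing C] [Algebra A C] (ι : C →ₐ[A] S)

/-- The prime `𝔫 = ι⁻¹ 𝔪_S`. -/
abbrev flN : Ideal C := (maximalIdeal S).comap (ι : C →+* S)

instance : (flN A S C ι).IsPrime := Ideal.comap_isPrime _ _

theorem fl_isUnit (y : (flN A S C ι).primeCompl) : IsUnit (ι (y : C)) :=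
  IsLocalRing.notMem_maximalIdeal.mp y.2

/-- `C_𝔫 → S`. -/
noncomputable def flφ : Localization.AtPrime (flN A S C ι) →ₐ[A] S :=
  IsLocalization.liftAlgHom (M := (flN A S C ι).primeCompl) (f := ι) (fl_isUnit A S C ι)

theorem flφ_algebraMap (c : C) : flφ A S C ι (algebraMap C _ c) = ι c := by
  simp [flφ]

theorem flφ_isLocalHom : IsLocalHom (flφ A S C ι) := by
  refine ⟨fun x hx => ?_⟩
  obtain ⟨c, u, rfl⟩ := IsLocalization.exists_mk'_eq (flN A S C ι).primeCompl x
  rw [IsLocalization.AtPrime.isUnit_mk'_iff]
  have h1 : flφ A S C ι (IsLocalization.mk' _ c u) * ι u = ι c := by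
    rw [← flφ_algebraMap A S C ι (u : C), ← map_mul, IsLocalization.mk'_spec, flφ_algebraMap]
  have h2 : IsUnit (ι c) := by
    rw [← h1]; exact hx.mul (fl_isUnit A S C ι u)
  intro hc
  exact (IsLocalRing.mem_maximalIdeal _).mp hc h2

section INT

variable [hS : Hensel.IsStrictHenselization A S] [Module.Finite A C]
  (W : Type u) [CommRing W] [IsLocalRing W] [Algebra (Localization.AtPrime (flN A S C ι)) W]
  [IsLocalHom (algebraMap (Localization.AtPrime (flN A S C ι)) W)]
  [hW : Hensel.IsStrictHenselization (Localization.AtPrime (flN A S C ι)) W]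

include hS hW in
/-- Any `A`-algebra map from `A^sh` to `(C_𝔫)^sh` is integral (`C` finite over `A`). -/
theorem fl_isIntegral (σ : S →+* W)
    (hσ : σ.comp (algebraMap A S) =
      (algebraMap (Localization.AtPrime (flN A S C ι)) W).comp (algebraMap A _)) :
    σ.IsIntegral := by
  have hlies : (flN A S C ι).LiesOver (maximalIdeal A) := by
    refine ⟨?_⟩
    ext a
    rw [Ideal.mem_comap, Ideal.mem_comap]
    change a ∈ maximalIdeal A ↔ ι (algebraMap A C a) ∈ maximalIdeal S
    rw [ι.commutes]
    constructor
    · intro ha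
      rw [mem_maximalIdeal, mem_nonunits_iff] at ha ⊢
      exact fun h => ha (isUnit_of_map_unit (algebraMap A S) a h)
    · intro ha
      rw [mem_maximalIdeal, mem_nonunits_iff] at ha ⊢
      exact fun h => ha (h.map _)
  let _ : Algebra (Localization.AtPrime (maximalIdeal A)) S := (atMaxHom A S).toAlgebra
  have : IsLocalHom (algebraMap (Localization.AtPrime (maximalIdeal A)) S) :=
    isLocalHom_atMaxHom A S
  have : IsScalarTower A (Localization.AtPrime (maximalIdeal A)) S :=
    IsScalarTower.of_algebraMap_eq (fun a => (atMaxHom_algebraMap A S a).symm)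
  let _ : Algebra C W :=
    ((algebraMap (Localization.AtPrime (flN A S C ι)) W).comp (algebraMap C _)).toAlgebra
  have : IsScalarTower C (Localization.AtPrime (flN A S C ι)) W :=
    IsScalarTower.of_algebraMap_eq (fun _ => rfl)
  let _ : Algebra A W :=
    ((algebraMap (Localization.AtPrime (flN A S C ι)) W).comp (algebraMap A _)).toAlgebra
  have : IsScalarTower A C W := IsScalarTower.of_algebraMap_eq (fun a => by
    change algebraMap (Localization.AtPrime (flN A S C ι)) W (algebraMap A _ a) =
      algebraMap (Localization.AtPrime (flN A S C ι)) W (algebraMap C _ (algebraMap A C a))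
    rw [← IsScalarTower.algebraMap_apply A C (Localization.AtPrime (flN A S C ι))])
  let _ : Algebra S W := σ.toAlgebra
  have : IsScalarTower A S W :=
    IsScalarTower.of_algebraMap_eq (fun a => (congrArg (fun F => F a) hσ).symm)
  have hRh := isStrictHenselization_atMax A S
  have hH : HenselianLocalRing S := hS.henselian
  have hloc : IsLocalHom (algebraMap S W) :=
    Hzs.isLocalHom_Rh_Sh A C (maximalIdeal A) (flN A S C ι) S W
  have hint : Algebra.IsIntegral S (Localization.AtPrime (tQ A C S W)) :=
    isIntegral_localization_of_isIntegral S (S ⊗[A] C) (tQ A C S W) (tQ_le' A C S W hloc)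
  have h := (bijective_tψ_of_isIntegral A C (maximalIdeal A) (flN A S C ι) S W hint).2
  exact fun w => Algebra.IsIntegral.isIntegral w

end INT

section Main

variable [hS : Hensel.IsStrictHenselization A S] [Module.Finite A C]
  [IsDomain (Localization.AtPrime (flN A S C ι))]
  [IsIntegrallyClosed (Localization.AtPrime (flN A S C ι))]

local notation "Cn" => Localization.AtPrime (flN A S C ι)

include hS in
/-- **If `C_𝔫` is a normal domain, `S = A^sh` is (isomorphic to) its strict henselization.** -/
theorem fl_exists_ringEquiv :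
    ∃ ρ : Hs Cn ≃+* S, ∀ x : Cn, ρ (algebraMap Cn (Hs Cn) x) = flφ A S C ι x := by
  let _ : Algebra Cn S := (flφ A S C ι).toRingHom.toAlgebra
  have hlocφ : IsLocalHom (algebraMap Cn S) :=
    ⟨fun x hx => (flφ_isLocalHom A S C ι).map_nonunit x hx⟩
  have htow : IsScalarTower A Cn S :=
    IsScalarTower.of_algebraMap_eq (fun a => ((flφ A S C ι).commutes a).symm)
  have hlocA : IsLocalHom (algebraMap A Cn) := ⟨fun a ha => by
    have h1 : IsUnit (algebraMap A S a) := by
      rw [IsScalarTower.algebraMap_apply A Cn S]; exact ha.map _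
    exact isUnit_of_map_unit (algebraMap A S) a h1⟩
  have hH : HenselianLocalRing S := hS.henselian
  have hsepS : Algebra.IsSeparable (ResidueField A) (ResidueField S) := hS.isSepClosure.separable
  have hscS : IsSepClosed (ResidueField S) := hS.isSepClosure.sep_closed
  have hsep1 : Algebra.IsSeparable (ResidueField Cn) (ResidueField S) :=
    Algebra.isSeparable_tower_top_of_isSeparable (ResidueField A) (ResidueField Cn) (ResidueField S)
  have hW : Hensel.IsStrictHenselization Cn (Hs Cn) := inferInstance
  have hHW : HenselianLocalRing (Hs Cn) := hW.henselian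
  have hscW : IsSepClosed (ResidueField (Hs Cn)) := hW.isSepClosure.sep_closed
  have hsepW : Algebra.IsSeparable (ResidueField Cn) (ResidueField (Hs Cn)) :=
    hW.isSepClosure.separable
  let τS : ResidueField S →ₐ[ResidueField Cn] ResidueField (Hs Cn) := IsSepClosed.lift
  let τW : ResidueField (Hs Cn) →ₐ[ResidueField Cn] ResidueField S := IsSepClosed.lift
  -- σ
  let f : A →+* Hs Cn := (algebraMap Cn (Hs Cn)).comp (algebraMap A Cn)
  have hf : IsLocalHom f := RingHom.isLocalHom_comp _ _
  have hcompS : (τS : ResidueField S →+* ResidueField (Hs Cn)).comp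
      (ResidueField.map (algebraMap A S)) = ResidueField.map f := by
    ext x
    obtain ⟨a, rfl⟩ := residue_surjective x
    simp only [RingHom.comp_apply, ResidueField.map_residue]
    have h1 : residue S (algebraMap A S a) =
        algebraMap (ResidueField Cn) (ResidueField S) (residue Cn (algebraMap A Cn a)) := by
      rw [ResidueField.algebraMap_residue, ← IsScalarTower.algebraMap_apply]
    rw [h1]
    change τS (algebraMap (ResidueField Cn) (ResidueField S) _) = _
    rw [τS.commutes, ResidueField.algebraMap_residue]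
    rfl
  obtain ⟨σ, ⟨hσ1, hσ2⟩, -⟩ := hS.universal (Hs Cn) f (τS : _ →+* _) hcompS
  have hσint : σ.IsIntegral := fl_isIntegral A S C ι (Hs Cn) σ hσ1
  -- ρ
  have hcompW : (τW : ResidueField (Hs Cn) →+* ResidueField S).comp
      (ResidueField.map (algebraMap Cn (Hs Cn))) = ResidueField.map (algebraMap Cn S) := by
    refine RingHom.ext fun x => ?_
    obtain ⟨c, rfl⟩ := residue_surjective x
    simp only [RingHom.comp_apply, ResidueField.map_residue]
    rw [← ResidueField.algebraMap_residue]
    change τW (algebraMap (ResidueField Cn) (ResidueField (Hs Cn)) _) = _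
    rw [τW.commutes, ResidueField.algebraMap_residue]
  obtain ⟨ρ, ⟨hρ1, hρ2⟩, -⟩ := hW.universal S (algebraMap Cn S) (τW : _ →+* _) hcompW
  have hρσ_comp : (ρ.comp σ).comp (algebraMap A S) = algebraMap A S := by
    rw [RingHom.comp_assoc, hσ1, ← RingHom.comp_assoc, hρ1]
    ext a
    exact (IsScalarTower.algebraMap_apply A Cn S a).symm
  have hρσ_loc : IsLocalHom (ρ.comp σ) :=
    isLocalHom_of_residue_compat (ρ.comp σ) ((τW : _ →+* _).comp (τS : _ →+* _)) (fun x => by
      simp only [RingHom.comp_apply]
      rw [hρ2, hσ2])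
  have hbij := bijective_of_isStrictHenselization A S S (ρ.comp σ) hρσ_comp
  have hWnorm := (normal_iff_of_isStrictHenselization Cn (Hs Cn)).mpr ⟨inferInstance, inferInstance⟩
  have hWdom : IsDomain (Hs Cn) := hWnorm.1
  have hker : RingHom.ker ρ = ⊥ := by
    let _ : Algebra S (Hs Cn) := σ.toAlgebra
    have : Algebra.IsIntegral S (Hs Cn) := ⟨hσint⟩
    apply Ideal.eq_bot_of_comap_eq_bot (R := S)
    rw [eq_bot_iff]
    intro x hx
    rw [Ideal.mem_comap, RingHom.mem_ker] at hx
    have h0 : (ρ.comp σ) x = 0 := hx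
    rw [Ideal.mem_bot]
    exact (map_eq_zero_iff _ hbij.1).mp h0
  have hρinj : Function.Injective ρ := (RingHom.injective_iff_ker_eq_bot ρ).mpr hker
  have hρsurj : Function.Surjective ρ := fun y => by
    obtain ⟨x, hx⟩ := hbij.2 y
    exact ⟨σ x, hx⟩
  refine ⟨RingEquiv.ofBijective ρ ⟨hρinj, hρsurj⟩, fun x => ?_⟩
  exact congrArg (fun F => F x) hρ1

include hS in
/-- `S` is faithfully flat over `C_𝔫` (normal). -/
theorem fl_faithfullyFlat :
    @Module.FaithfullyFlat Cn S _ _ (flφ A S C ι).toRingHom.toAlgebra.toModule := by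
  let _ : Algebra Cn S := (flφ A S C ι).toRingHom.toAlgebra
  obtain ⟨ρ, hρ⟩ := fl_exists_ringEquiv A S C ι
  have hffW : Module.FaithfullyFlat Cn (Hs Cn) := faithfullyFlat_of_isStrictHenselization Cn (Hs Cn)
  let e : S ≃ₗ[Cn] Hs Cn :=
    { ρ.symm.toAddEquiv with
      map_smul' := fun c w => by
        change ρ.symm (c • w) = c • ρ.symm w
        apply ρ.injective
        rw [ρ.apply_symm_apply, Algebra.smul_def, Algebra.smul_def, map_mul, hρ,
          ρ.apply_symm_apply]
        rfl }
  exact Module.FaithfullyFlat.of_linearEquiv Cn (Hs Cn) e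

include hS in
theorem fl_injective : Function.Injective (flφ A S C ι) := by
  let _ : Algebra Cn S := (flφ A S C ι).toRingHom.toAlgebra
  have := fl_faithfullyFlat A S C ι
  exact FaithfulSMul.algebraMap_injective Cn S

include hS in
theorem fl_comap_map (I : Ideal Cn) :
    (I.map (flφ A S C ι : Cn →+* S)).comap (flφ A S C ι : Cn →+* S) = I := by
  let _ : Algebra Cn S := (flφ A S C ι).toRingHom.toAlgebra
  have := fl_faithfullyFlat A S C ι
  exact Ideal.comap_map_eq_self_of_faithfullyFlat (B := S) I

include hS in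
theorem fl_map_maximalIdeal :
    (maximalIdeal A).map (algebraMap A Cn) = maximalIdeal Cn := by
  rw [← fl_comap_map A S C ι ((maximalIdeal A).map (algebraMap A Cn)), Ideal.map_map]
  have h1 : (flφ A S C ι : Cn →+* S).comp (algebraMap A Cn) = algebraMap A S := by
    ext a
    exact (flφ A S C ι).commutes a
  rw [h1, map_maximalIdeal_of_isStrictHenselization A S]
  have hl : IsLocalHom (flφ A S C ι : Cn →+* S) :=
    ⟨fun x hx => (flφ_isLocalHom A S C ι).map_nonunit x hx⟩
  exact ((local_hom_TFAE (flφ A S C ι : Cn →+* S)).out 0 4).mp hl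

end Main

end FinLoc

end Groth.Agent.Lib.Helper4.Hzs
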