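import Mathlib
import Groth.Prelude.Def_Hensel
import Groth.Prelude.Def_EssEt
import Groth.Agent.Lib.Helper4.HzsFinLoc
import Groth.Agent.Lib.Helper4.HzsSub3

/-!
# Normal local intermediate rings of a strict henselization of a normal noetherian local domain
-/

set_option autoImplicit false
set_option linter.unusedSectionVars false
universe u

namespace Groth.Agent.Lib.Helper4.NormalInterm

open IsLocalRing TensorProduct Groth.Agent.Lib.Helper4.Hzs

/-- The image of an element of an étale algebra in a field is separable over the base field. -/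
theorem isSeparable_of_etale (A K B M : Type*) [CommRing A] [Field K] [Algebra A K] [CommRing B]
    [Algebra A B] [Algebra.Etale A B] [Field M] [Algebra K M] [Algebra A M] [IsScalarTower A K M]
    (φ : B →ₐ[A] M) (b : B) : IsSeparable K (φ b) := by
  let ψ : K ⊗[A] B →ₐ[K] M :=
    Algebra.TensorProduct.lift (Algebra.ofId K M) φ (fun _ _ => Commute.all _ _)
  have hfin : Module.Finite K (K ⊗[A] B) := Algebra.FormallyUnramified.finite_of_free K (K ⊗[A] B)
  have hart : IsArtinianRing (K ⊗[A] B) := IsArtinianRing.of_finite K _
  have hP : (RingHom.ker (ψ : K ⊗[A] B →+* M)).IsPrime := RingHom.ker_isPrime _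
  have hmax : (RingHom.ker (ψ : K ⊗[A] B →+* M)).IsMaximal := IsArtinianRing.isMaximal_of_isPrime _
  let _ : Field ((K ⊗[A] B) ⧸ RingHom.ker (ψ : K ⊗[A] B →+* M)) := Ideal.Quotient.field _
  have hunr : Algebra.FormallyUnramified K ((K ⊗[A] B) ⧸ RingHom.ker (ψ : K ⊗[A] B →+* M)) :=
    Algebra.FormallyUnramified.of_surjective (Ideal.Quotient.mkₐ K _)
      (Ideal.Quotient.mkₐ_surjective K _)
  have hsep : Algebra.IsSeparable K ((K ⊗[A] B) ⧸ RingHom.ker (ψ : K ⊗[A] B →+* M)) :=
    Algebra.FormallyUnramified.isSeparable K _
  let ψ' : ((K ⊗[A] B) ⧸ RingHom.ker (ψ : K ⊗[A] B →+* M)) →ₐ[K] M := Ideal.kerLiftAlg ψ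
  have h1 : φ b = ψ' (Ideal.Quotient.mk _ ((1 : K) ⊗ₜ[A] b)) := by
    change φ b = ψ ((1 : K) ⊗ₜ[A] b)
    rw [Algebra.TensorProduct.lift_tmul, map_one, one_mul]
  rw [h1]
  exact (Algebra.IsSeparable.isSeparable K _).map ψ' ψ'.injective

/-- The image of an element of an essentially étale local algebra in a field is separable. -/
theorem isSeparable_of_essEtale {A E : Type u} [CommRing A] [IsLocalRing A] [CommRing E]
    [Algebra A E] (hE : EGA4loc.IsEssentiallyEtale A E)
    (K M : Type*) [Field K] [Algebra A K] [Field M] [Algebra K M] [Algebra A M]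
    [IsScalarTower A K M] (φ : E →ₐ[A] M) (x : E) : IsSeparable K (φ x) := by
  obtain ⟨B, _, _, q, _, het, hq, ⟨θ⟩⟩ := hE
  let φ' : Localization.AtPrime q →ₐ[A] M := φ.comp θ.symm.toAlgHom
  let φ'' : B →ₐ[A] M := φ'.comp (IsScalarTower.toAlgHom A B (Localization.AtPrime q))
  obtain ⟨b, u, hbu⟩ := IsLocalization.exists_mk'_eq q.primeCompl (θ x)
  have h1 : φ x = φ' (θ x) := by
    change φ x = φ (θ.symm (θ x))
    rw [θ.symm_apply_apply]
  have h2 : φ' (θ x) * φ'' u = φ'' b := by
    change φ' (θ x) * φ' (algebraMap B _ (u : B)) = φ' (algebraMap B _ b)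
    rw [← map_mul, ← hbu, IsLocalization.mk'_spec]
  have hu : φ'' u ≠ 0 := by
    have : IsUnit (φ' (algebraMap B (Localization.AtPrime q) (u : B))) :=
      (IsLocalization.map_units (Localization.AtPrime q) u).map φ'
    exact this.ne_zero
  have h3 : φ x = φ'' b * (φ'' u)⁻¹ := by
    rw [h1, ← h2, mul_assoc, mul_inv_cancel₀ hu, mul_one]
  rw [h3]
  exact Field.isSeparable_mul (isSeparable_of_etale A K B M φ'' b)
    (Field.isSeparable_inv (isSeparable_of_etale A K B M φ'' u))

/-- Elements of a strict henselization are separable over the base in any field. -/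
theorem isSeparable_of_isStrictHenselization (A S : Type u) [CommRing A] [IsLocalRing A]
    [CommRing S] [IsLocalRing S] [Algebra A S] [IsLocalHom (algebraMap A S)]
    [Hensel.IsStrictHenselization A S]
    (K M : Type*) [Field K] [Algebra A K] [Field M] [Algebra K M] [Algebra A M]
    [IsScalarTower A K M] (g : S →ₐ[A] M) (x : S) : IsSeparable K (g x) := by
  classical
  obtain ⟨E, hxE, hl, -, hE⟩ := exists_essEtale_subalgebra A S {x}
  have hx : x ∈ E := hxE (by simp)
  exact isSeparable_of_essEtale hE K M (g.comp E.val) ⟨x, hx⟩

theorem exists_finite_normal_subalgebra (A D : Type u) [CommRing A] [IsDomain A]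
    [IsIntegrallyClosed A] [IsNoetherianRing A]
    [CommRing D] [IsDomain D] [IsIntegrallyClosed D] [Algebra A D]
    [Algebra (FractionRing A) (FractionRing D)] [IsScalarTower A (FractionRing A) (FractionRing D)]
    (L : IntermediateField (FractionRing A) (FractionRing D))
    [FiniteDimensional (FractionRing A) L] [Algebra.IsSeparable (FractionRing A) L] :
    ∃ CD : Subalgebra A D,
      (∀ x : D, x ∈ CD ↔ IsIntegral A x ∧ algebraMap D (FractionRing D) x ∈ L) ∧
      Module.Finite A CD ∧ IsIntegrallyClosed CD := by
  have hinjDM : Function.Injective (algebraMap D (FractionRing D)) := IsFractionRing.injective D _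
  obtain ⟨CD, hmemCD⟩ : ∃ CD : Subalgebra A D,
      ∀ x : D, x ∈ CD ↔ IsIntegral A x ∧ algebraMap D (FractionRing D) x ∈ L :=
    ⟨(integralClosure A D) ⊓
      ((L.toSubalgebra.restrictScalars A).comap (IsScalarTower.toAlgHom A D (FractionRing D))),
      fun x => Iff.rfl⟩
  refine ⟨CD, hmemCD, ?_⟩
  let j : CD →+* L := ((algebraMap D (FractionRing D)).comp CD.val.toRingHom).codRestrict L
    (fun x => ((hmemCD x).mp x.2).2)
  have hj : ∀ x : CD, (j x : FractionRing D) = algebraMap D (FractionRing D) (x : D) := fun _ => rfl
  let _ : Algebra CD L := j.toAlgebra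
  have htowCL : IsScalarTower A CD L := IsScalarTower.of_algebraMap_eq (fun a => by
    apply Subtype.ext
    change algebraMap A (FractionRing D) a = algebraMap D (FractionRing D) (algebraMap A D a)
    rw [← IsScalarTower.algebraMap_apply])
  have hIC : IsIntegralClosure CD A L := by
    refine ⟨?_, ?_⟩
    · intro x y hxy
      have := congrArg Subtype.val hxy
      exact Subtype.ext (hinjDM this)
    · intro x
      constructor
      · intro hx
        have h1 : IsIntegral A (x : FractionRing D) :=
          hx.map (L.val.restrictScalars A)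
        have h2 : IsIntegral D (x : FractionRing D) := h1.tower_top
        obtain ⟨d, hd⟩ := IsIntegrallyClosed.isIntegral_iff.mp h2
        have hdint : IsIntegral A d := by
          rw [← hd] at h1
          exact (isIntegral_algebraMap_iff hinjDM).mp h1
        exact ⟨⟨d, (hmemCD d).mpr ⟨hdint, by rw [hd]; exact x.2⟩⟩, Subtype.ext hd⟩
      · rintro ⟨y, rfl⟩
        have h1 : IsIntegral A (y : D) := ((hmemCD y).mp y.2).1
        have h2 : IsIntegral A y := (isIntegral_algHom_iff CD.val Subtype.val_injective).mp h1
        exact h2.algebraMap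
  have hfinCD : Module.Finite A CD := IsIntegralClosure.finite A (FractionRing A) L CD
  refine ⟨hfinCD, ?_⟩
  have e := IsIntegralClosure.equiv A CD L (integralClosure A L)
  have : IsIntegrallyClosed (integralClosure A L) :=
    integralClosure.isIntegrallyClosedOfFiniteExtension (FractionRing A)
  exact IsIntegrallyClosed.of_equiv e.symm.toRingEquiv

set_option maxHeartbeats 1000000 in
theorem exists_essEtale_le
    (A S : Type u) [CommRing A] [IsLocalRing A] [IsDomain A] [IsIntegrallyClosed A]
    [IsNoetherianRing A]
    [CommRing S] [IsLocalRing S] [Algebra A S] [IsLocalHom (algebraMap A S)]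
    [hS : Hensel.IsStrictHenselization A S] (D : Subalgebra A S) [IsLocalRing D]
    [IsLocalHom (algebraMap D S)] [IsDomain D] [IsIntegrallyClosed D] (s : Finset D) :
    ∃ D' : Subalgebra A S, D' ≤ D ∧
      (∀ x : D, algebraMap D (FractionRing D) x ∈
        Subfield.closure (Set.range (algebraMap A (FractionRing D)) ∪
          (algebraMap D (FractionRing D)) '' (s : Set D)) → (x : S) ∈ D') ∧
      ∃ _ : IsLocalRing D', IsLocalHom (algebraMap D' S) ∧ EGA4loc.IsEssentiallyEtale A D' := by
  classical
  -- basic facts
  have hffS : Module.FaithfullyFlat A S := faithfullyFlat_of_isStrictHenselization A S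
  have hinjAS : Function.Injective (algebraMap A S) := FaithfulSMul.algebraMap_injective A S
  have hinjAD : Function.Injective (algebraMap A D) := by
    intro a b hab
    apply hinjAS
    have := congrArg (algebraMap D S) hab
    rwa [← IsScalarTower.algebraMap_apply, ← IsScalarTower.algebraMap_apply] at this
  obtain ⟨hSdom, hSic⟩ := (normal_iff_of_isStrictHenselization A S).mpr ⟨inferInstance, inferInstance⟩
  have hinjDM : Function.Injective (algebraMap D (FractionRing D)) := IsFractionRing.injective D _
  have hfaith : FaithfulSMul A (FractionRing D) := by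
    rw [faithfulSMul_iff_algebraMap_injective]
    rw [IsScalarTower.algebraMap_eq A D (FractionRing D)]
    exact hinjDM.comp hinjAD
  let _ : Algebra (FractionRing A) (FractionRing D) := FractionRing.liftAlgebra A (FractionRing D)
  have htowK : IsScalarTower A (FractionRing A) (FractionRing D) :=
    FractionRing.isScalarTower_liftAlgebra A (FractionRing D)
  -- the map Frac D → Frac S
  have hinjDS : Function.Injective ((algebraMap S (FractionRing S)).comp D.val.toRingHom) :=
    (IsFractionRing.injective S (FractionRing S)).comp Subtype.val_injective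
  let F : FractionRing D →+* FractionRing S := IsFractionRing.lift hinjDS
  have hF : ∀ d : D, F (algebraMap D (FractionRing D) d) = algebraMap S (FractionRing S) (d : S) :=
    fun d => IsFractionRing.lift_algebraMap hinjDS d
  let _ : Algebra (FractionRing A) (FractionRing S) :=
    (F.comp (algebraMap (FractionRing A) (FractionRing D))).toAlgebra
  have htowKM : IsScalarTower A (FractionRing A) (FractionRing S) := by
    refine IsScalarTower.of_algebraMap_eq fun a => ?_
    change _ = F (algebraMap (FractionRing A) (FractionRing D) (algebraMap A (FractionRing A) a))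
    rw [← IsScalarTower.algebraMap_apply A (FractionRing A) (FractionRing D),
      IsScalarTower.algebraMap_apply A D (FractionRing D), hF,
      IsScalarTower.algebraMap_apply A S (FractionRing S)]
    rfl
  let Fk : FractionRing D →ₐ[FractionRing A] FractionRing S := { F with commutes' := fun _ => rfl }
  -- separability
  have hsepD : ∀ d : D, IsSeparable (FractionRing A) (algebraMap D (FractionRing D) d) := by
    intro d
    have h1 := isSeparable_of_isStrictHenselization A S (FractionRing A) (FractionRing S)
      (IsScalarTower.toAlgHom A S (FractionRing S)) (d : S)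
    have h2 : (IsScalarTower.toAlgHom A S (FractionRing S)) (d : S) =
        Fk (algebraMap D (FractionRing D) d) := (hF d).symm
    rw [h2] at h1
    exact (isSeparable_map_iff Fk Fk.injective).mp h1
  -- the field L
  obtain ⟨L, hLdef⟩ : ∃ L : IntermediateField (FractionRing A) (FractionRing D), L =
    IntermediateField.adjoin (FractionRing A) ((algebraMap D (FractionRing D)) '' (s : Set D)) :=
    ⟨_, rfl⟩
  have hgenL : ∀ x ∈ (algebraMap D (FractionRing D)) '' (s : Set D),
      IsSeparable (FractionRing A) x := by
    rintro _ ⟨d, -, rfl⟩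
    exact hsepD d
  have hfinL : FiniteDimensional (FractionRing A) L := by
    rw [hLdef]
    have : Finite ((algebraMap D (FractionRing D)) '' (s : Set D)) :=
      (s.finite_toSet.image _).to_subtype
    exact IntermediateField.finiteDimensional_adjoin (fun x hx => (hgenL x hx).isIntegral)
  have hsepL : Algebra.IsSeparable (FractionRing A) L := by
    rw [hLdef]
    exact (IntermediateField.isSeparable_adjoin_iff_isSeparable _ _).mpr hgenL
  have hclosure : Subfield.closure (Set.range (algebraMap A (FractionRing D)) ∪
      (algebraMap D (FractionRing D)) '' (s : Set D)) ≤ L.toSubfield := by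
    rw [Subfield.closure_le]
    rintro x (⟨a, rfl⟩ | hx)
    · change algebraMap A (FractionRing D) a ∈ L
      rw [IsScalarTower.algebraMap_apply A (FractionRing A) (FractionRing D)]
      exact L.algebraMap_mem _
    · change x ∈ L
      rw [hLdef]
      exact IntermediateField.subset_adjoin _ _ hx
  -- the finite algebra `C`
  obtain ⟨CD, hmemCD, hfinCD, hicCD⟩ := exists_finite_normal_subalgebra A D L
  let ι : CD →ₐ[A] S := D.val.comp CD.val
  have hicCn : IsIntegrallyClosed (Localization.AtPrime (flN A S CD ι)) :=
    isIntegrallyClosed_of_isLocalization _ (flN A S CD ι).primeCompl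
      (Ideal.primeCompl_le_nonZeroDivisors _)
  have hinj := fl_injective A S CD ι
  have hlocφ := flφ_isLocalHom A S CD ι
  have hm := fl_map_maximalIdeal A S CD ι
  have heft : Algebra.EssFiniteType CD (Localization.AtPrime (flN A S CD ι)) :=
    Algebra.EssFiniteType.of_isLocalization _ (flN A S CD ι).primeCompl
  have heft' : Algebra.EssFiniteType A (Localization.AtPrime (flN A S CD ι)) :=
    Algebra.EssFiniteType.comp A CD _
  have hG := essEtale_of_injective (flφ A S CD ι) hinj hlocφ hm
  obtain ⟨hl, hl', hE⟩ := range_props (flφ A S CD ι) hinj hlocφ hG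
  refine ⟨(flφ A S CD ι).range, ?_, ?_, hl, hl', hE⟩
  · rintro _ ⟨y, rfl⟩
    obtain ⟨c, u, rfl⟩ := IsLocalization.exists_mk'_eq (flN A S CD ι).primeCompl y
    have h1 : flφ A S CD ι (IsLocalization.mk' _ c u) * ι u = ι c := by
      rw [← flφ_algebraMap A S CD ι (u : CD), ← map_mul, IsLocalization.mk'_spec, flφ_algebraMap]
    have hu : IsUnit (ι (u : CD)) := fl_isUnit A S CD ι u
    have huD : IsUnit ((u : CD) : D) := by
      have : IsUnit (algebraMap D S ((u : CD) : D)) := hu
      exact isUnit_of_map_unit (algebraMap D S) _ this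
    obtain ⟨v, hv⟩ := huD.exists_right_inv
    have hv' : ι (u : CD) * (v : S) = 1 := congrArg Subtype.val hv
    have h2 : flφ A S CD ι (IsLocalization.mk' _ c u) = (((c : D) * v : D) : S) := by
      calc flφ A S CD ι (IsLocalization.mk' _ c u)
          = flφ A S CD ι (IsLocalization.mk' _ c u) * (ι (u : CD) * (v : S)) := by
            rw [hv', mul_one]
        _ = ι c * (v : S) := by rw [← mul_assoc, h1]
        _ = _ := rfl
    change flφ A S CD ι (IsLocalization.mk' _ c u) ∈ D
    rw [h2]
    exact Subtype.coe_prop _
  · intro x hx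
    have hxL : algebraMap D (FractionRing D) x ∈ L := hclosure hx
    have halgK : IsAlgebraic (FractionRing A) (algebraMap D (FractionRing D) x) :=
      (hsepD x).isIntegral.isAlgebraic
    have halgA : IsAlgebraic A (algebraMap D (FractionRing D) x) :=
      (IsFractionRing.isAlgebraic_iff A (FractionRing A) (FractionRing D)).mpr halgK
    obtain ⟨a, ha0, haint⟩ := halgA.exists_integral_multiple
    have h1 : a • algebraMap D (FractionRing D) x = algebraMap D (FractionRing D) (a • x) := by
      rw [Algebra.smul_def, Algebra.smul_def, map_mul, ← IsScalarTower.algebraMap_apply]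
    have hcL : algebraMap D (FractionRing D) (a • x) ∈ L := by
      rw [← h1, Algebra.smul_def,
        IsScalarTower.algebraMap_apply A (FractionRing A) (FractionRing D)]
      exact L.mul_mem (L.algebraMap_mem _) hxL
    rw [h1] at haint
    have hcint : IsIntegral A (a • x) := (isIntegral_algebraMap_iff hinjDM).mp haint
    let c : CD := ⟨a • x, (hmemCD _).mpr ⟨hcint, hcL⟩⟩
    have h3 : (ι c : S) = algebraMap A S a * (x : S) := by
      change ((a • x : D) : S) = _
      rw [Algebra.smul_def]
      rfl
    have hmem : algebraMap CD (Localization.AtPrime (flN A S CD ι)) c ∈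
        ((Ideal.span {algebraMap A (Localization.AtPrime (flN A S CD ι)) a}).map
          (flφ A S CD ι : Localization.AtPrime (flN A S CD ι) →+* S)).comap
          (flφ A S CD ι : Localization.AtPrime (flN A S CD ι) →+* S) := by
      rw [Ideal.mem_comap, Ideal.map_span, Set.image_singleton, Ideal.mem_span_singleton']
      refine ⟨(x : S), ?_⟩
      change (x : S) * flφ A S CD ι (algebraMap A _ a) = flφ A S CD ι (algebraMap CD _ c)
      rw [AlgHom.commutes, flφ_algebraMap, h3, mul_comm]
    rw [fl_comap_map, Ideal.mem_span_singleton'] at hmem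
    obtain ⟨y, hy⟩ := hmem
    refine ⟨y, ?_⟩
    have h2 := congrArg (flφ A S CD ι) hy
    rw [map_mul, AlgHom.commutes, flφ_algebraMap, h3, mul_comm] at h2
    have ha0' : algebraMap A S a ≠ 0 := fun h => ha0 (hinjAS (by rw [h, map_zero]))
    exact mul_left_cancel₀ ha0' h2

end Groth.Agent.Lib.Helper4.NormalInterm
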