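import Mathlib
import Groth.Agent.Lib.Helper4.NormalInterm
import Groth.Agent.Lib.Helper4.HznNormal

/-!
# Normal local rings mapping into the strict henselization of a normal noetherian local domain
-/

set_option autoImplicit false
set_option linter.unusedSectionVars false
universe u
open IsLocalRing TensorProduct

namespace Groth.Agent.Lib.Helper4.EssNorm

set_option maxHeartbeats 1000000 in
set_option synthInstance.maxHeartbeats 200000 in
/-- A normal local domain `P` over a normal noetherian local domain `R₀`, mapping injectively
and locally into a strict henselization `H` of `R₀`, and whose image lies in a finitely generated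
subfield of the fraction field of `H`, is an essentially étale local `R₀`-algebra. -/
theorem essEtale_of_normal_local
    (R₀ H P : Type u) [CommRing R₀] [IsLocalRing R₀] [IsDomain R₀] [IsIntegrallyClosed R₀]
    [IsNoetherianRing R₀]
    [CommRing H] [IsLocalRing H] [IsDomain H] [Algebra R₀ H] [IsLocalHom (algebraMap R₀ H)]
    [hH : Hensel.IsStrictHenselization R₀ H]
    [CommRing P] [IsLocalRing P] [IsDomain P] [IsIntegrallyClosed P] [Algebra R₀ P]
    (f : P →ₐ[R₀] H) (hf : Function.Injective f) (hloc : IsLocalHom f)
    (τ : Finset H)
    (hτ : ∀ p : P, algebraMap H (FractionRing H) (f p) ∈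
      Subfield.closure (Set.range (algebraMap R₀ (FractionRing H)) ∪
        (algebraMap H (FractionRing H)) '' (τ : Set H))) :
    EGA4loc.IsEssentiallyEtale R₀ P := by
  classical
  -- the image
  let e : P ≃ₐ[R₀] f.range := AlgEquiv.ofInjective f hf
  have hl : IsLocalRing f.range := e.toRingEquiv.isLocalRing
  have hl' : IsLocalHom (algebraMap f.range H) := by
    constructor
    rintro ⟨_, c, rfl⟩ hu
    have hu' : IsUnit (f c) := hu
    exact (hloc.map_nonunit c hu').map e
  have hic : IsIntegrallyClosed f.range := @IsIntegrallyClosed.of_equiv _ _ _ _ e.toRingEquiv ‹_›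
  -- injectivity facts
  have hffH : Module.FaithfullyFlat R₀ H := Hzs.faithfullyFlat_of_isStrictHenselization R₀ H
  have hinjRH : Function.Injective (algebraMap R₀ H) := FaithfulSMul.algebraMap_injective R₀ H
  have hinjHF : Function.Injective (algebraMap H (FractionRing H)) :=
    IsFractionRing.injective H (FractionRing H)
  have hfaithH : FaithfulSMul R₀ (FractionRing H) := by
    rw [faithfulSMul_iff_algebraMap_injective, IsScalarTower.algebraMap_eq R₀ H (FractionRing H)]
    exact hinjHF.comp hinjRH
  have hinjPF : Function.Injective (algebraMap f.range (FractionRing f.range)) :=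
    IsFractionRing.injective _ _
  have hinjRP : Function.Injective (algebraMap R₀ f.range) := by
    intro a b hab
    apply hinjRH
    have := congrArg (algebraMap f.range H) hab
    rwa [← IsScalarTower.algebraMap_apply, ← IsScalarTower.algebraMap_apply] at this
  have hfaithP : FaithfulSMul R₀ (FractionRing f.range) := by
    rw [faithfulSMul_iff_algebraMap_injective,
      IsScalarTower.algebraMap_eq R₀ f.range (FractionRing f.range)]
    exact hinjPF.comp hinjRP
  let _ : Algebra (FractionRing R₀) (FractionRing H) := FractionRing.liftAlgebra R₀ (FractionRing H)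
  have htowH : IsScalarTower R₀ (FractionRing R₀) (FractionRing H) :=
    FractionRing.isScalarTower_liftAlgebra R₀ (FractionRing H)
  let _ : Algebra (FractionRing R₀) (FractionRing f.range) :=
    FractionRing.liftAlgebra R₀ (FractionRing f.range)
  have htowP : IsScalarTower R₀ (FractionRing R₀) (FractionRing f.range) :=
    FractionRing.isScalarTower_liftAlgebra R₀ (FractionRing f.range)
  -- the map of fraction fields
  have hinjPH : Function.Injective ((algebraMap H (FractionRing H)).comp f.range.val.toRingHom) :=
    hinjHF.comp Subtype.val_injective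
  let G : FractionRing f.range →+* FractionRing H := IsFractionRing.lift hinjPH
  have hG : ∀ d : f.range, G (algebraMap f.range (FractionRing f.range) d) =
      algebraMap H (FractionRing H) (d : H) := fun d => IsFractionRing.lift_algebraMap hinjPH d
  have hGalg : G.comp (algebraMap (FractionRing R₀) (FractionRing f.range)) =
      algebraMap (FractionRing R₀) (FractionRing H) := by
    refine IsLocalization.ringHom_ext (nonZeroDivisors R₀) ?_
    ext a
    simp only [RingHom.comp_apply]
    rw [← IsScalarTower.algebraMap_apply R₀ (FractionRing R₀) (FractionRing f.range),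
      ← IsScalarTower.algebraMap_apply R₀ (FractionRing R₀) (FractionRing H),
      IsScalarTower.algebraMap_apply R₀ f.range (FractionRing f.range), hG,
      IsScalarTower.algebraMap_apply R₀ H (FractionRing H)]
    rfl
  let Gk : FractionRing f.range →ₐ[FractionRing R₀] FractionRing H :=
    { G with commutes' := fun x => congrArg (fun φ => φ x) hGalg }
  -- the finitely generated intermediate field
  let LT : IntermediateField (FractionRing R₀) (FractionRing H) :=
    IntermediateField.adjoin (FractionRing R₀) ((algebraMap H (FractionRing H)) '' (τ : Set H))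
  have hfinLT : FiniteDimensional (FractionRing R₀) LT := by
    have : Finite ((algebraMap H (FractionRing H)) '' (τ : Set H)) :=
      (τ.finite_toSet.image _).to_subtype
    refine IntermediateField.finiteDimensional_adjoin (fun x hx => ?_)
    obtain ⟨t, -, rfl⟩ := hx
    exact (NormalInterm.isSeparable_of_isStrictHenselization R₀ H (FractionRing R₀)
      (FractionRing H) (IsScalarTower.toAlgHom R₀ H (FractionRing H)) t).isIntegral
  have hclosure : Subfield.closure (Set.range (algebraMap R₀ (FractionRing H)) ∪
      (algebraMap H (FractionRing H)) '' (τ : Set H)) ≤ LT.toSubfield := by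
    rw [Subfield.closure_le]
    rintro x (⟨a, rfl⟩ | hx)
    · change algebraMap R₀ (FractionRing H) a ∈ LT
      rw [IsScalarTower.algebraMap_apply R₀ (FractionRing R₀) (FractionRing H)]
      exact LT.algebraMap_mem _
    · change x ∈ LT
      exact IntermediateField.subset_adjoin _ _ hx
  have hGmem : ∀ y : FractionRing f.range, Gk y ∈ LT := by
    intro y
    obtain ⟨p₁, p₂, rfl⟩ := IsLocalization.exists_mk'_eq (nonZeroDivisors f.range) y
    have h1 : ∀ d : f.range, G (algebraMap f.range (FractionRing f.range) d) ∈ LT := by
      rintro ⟨_, c, rfl⟩
      rw [hG]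
      exact hclosure (hτ c)
    have h2 : Gk (IsLocalization.mk' (FractionRing f.range) p₁ p₂) =
        G (algebraMap f.range (FractionRing f.range) p₁) *
          (G (algebraMap f.range (FractionRing f.range) (p₂ : f.range)))⁻¹ := by
      change G (IsLocalization.mk' (FractionRing f.range) p₁ p₂) = _
      rw [IsFractionRing.mk'_eq_div, map_div₀, div_eq_mul_inv]
    rw [h2]
    exact LT.mul_mem (h1 p₁) (LT.inv_mem (h1 p₂))
  have hfinFP : FiniteDimensional (FractionRing R₀) (FractionRing f.range) := by
    let Gr : FractionRing f.range →ₗ[FractionRing R₀] LT :=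
      (Gk.toLinearMap).codRestrict LT.toSubalgebra.toSubmodule hGmem
    refine FiniteDimensional.of_injective Gr ?_
    intro x y hxy
    have := congrArg Subtype.val hxy
    exact Gk.injective this
  -- a finite generating set
  obtain ⟨b, hb⟩ := (Module.finite_def.mp hfinFP)
  have hch : ∀ y : FractionRing f.range, ∃ p : f.range × f.range,
      p.2 ≠ 0 ∧ y * algebraMap f.range (FractionRing f.range) p.2 =
        algebraMap f.range (FractionRing f.range) p.1 := by
    intro y
    obtain ⟨p₁, p₂, rfl⟩ := IsLocalization.exists_mk'_eq (nonZeroDivisors f.range) y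
    exact ⟨(p₁, p₂), nonZeroDivisors.ne_zero p₂.2, IsLocalization.mk'_spec _ _ _⟩
  choose nd hnd0 hnd using hch
  let s : Finset f.range := b.image (fun y => (nd y).1) ∪ b.image (fun y => (nd y).2)
  have hs : Subfield.closure (Set.range (algebraMap R₀ (FractionRing f.range)) ∪
      (algebraMap f.range (FractionRing f.range)) '' (s : Set f.range)) = ⊤ := by
    set K₂ := Subfield.closure (Set.range (algebraMap R₀ (FractionRing f.range)) ∪
      (algebraMap f.range (FractionRing f.range)) '' (s : Set f.range)) with hK₂
    have hR : ∀ r : R₀, algebraMap R₀ (FractionRing f.range) r ∈ K₂ := fun r =>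
      Subfield.subset_closure (Or.inl ⟨r, rfl⟩)
    have hF₀ : ∀ x : FractionRing R₀, algebraMap (FractionRing R₀) (FractionRing f.range) x ∈ K₂ := by
      intro x
      obtain ⟨r₁, r₂, rfl⟩ := IsLocalization.exists_mk'_eq (nonZeroDivisors R₀) x
      rw [IsFractionRing.mk'_eq_div, map_div₀,
        ← IsScalarTower.algebraMap_apply R₀ (FractionRing R₀) (FractionRing f.range),
        ← IsScalarTower.algebraMap_apply R₀ (FractionRing R₀) (FractionRing f.range)]
      exact K₂.div_mem (hR r₁) (hR r₂)
    have hbmem : ∀ y ∈ b, y ∈ K₂ := by
      intro y hy
      have h1 : algebraMap f.range (FractionRing f.range) (nd y).1 ∈ K₂ :=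
        Subfield.subset_closure (Or.inr ⟨_, by
          simp only [s, Finset.coe_union, Finset.coe_image, Set.mem_union, Set.mem_image,
            Finset.mem_coe]
          exact Or.inl ⟨y, hy, rfl⟩, rfl⟩)
      have h2 : algebraMap f.range (FractionRing f.range) (nd y).2 ∈ K₂ :=
        Subfield.subset_closure (Or.inr ⟨_, by
          simp only [s, Finset.coe_union, Finset.coe_image, Set.mem_union, Set.mem_image,
            Finset.mem_coe]
          exact Or.inr ⟨y, hy, rfl⟩, rfl⟩)
      have h3 : algebraMap f.range (FractionRing f.range) (nd y).2 ≠ 0 := by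
        intro h0
        exact hnd0 y (hinjPF (h0.trans (map_zero _).symm))
      have h4 : y = algebraMap f.range (FractionRing f.range) (nd y).1 /
          algebraMap f.range (FractionRing f.range) (nd y).2 := by
        rw [eq_div_iff h3]
        exact hnd y
      rw [h4]
      exact K₂.div_mem h1 h2
    have key : ∀ y ∈ Submodule.span (FractionRing R₀) (b : Set (FractionRing f.range)),
        y ∈ K₂ := by
      intro y hy
      induction hy using Submodule.span_induction with
      | mem x hx => exact hbmem x hx
      | zero => exact K₂.zero_mem
      | add x y _ _ hx hy => exact K₂.add_mem hx hy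
      | smul c x _ hx =>
        rw [Algebra.smul_def]
        exact K₂.mul_mem (hF₀ c) hx
    rw [eq_top_iff]
    intro y _
    exact key y (by rw [hb]; trivial)
  -- apply the structure theorem
  obtain ⟨D', hle, hkey, hlD, hlD', hE⟩ := NormalInterm.exists_essEtale_le R₀ H f.range s
  have heq : D' = f.range := by
    refine le_antisymm hle fun x hx => ?_
    have := hkey ⟨x, hx⟩ (by rw [hs]; exact Subfield.mem_top _)
    exact this
  subst heq
  exact Hzs.essEtale_of_algEquiv e.symm hE

end Groth.Agent.Lib.Helper4.EssNorm
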