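import Mathlib
import Groth.Prelude.Def_Hensel
import Groth.Agent.Lib.Helper4.HzsSub3
import Groth.Agent.Lib.Helper4.HzsNoethC

/-!
# Noetherian local sub-algebras of a strict henselization

* `isStrictHenselization_of_algEquiv`: transport of the strict henselization property.
* `isStrictHenselization_of_noetherian_sub`: if `D ⊆ A^sh` is a noetherian local ring dominated
  by `A^sh` with `𝔪_A D = 𝔪_D`, then `A^sh` is a strict henselization of `D`.
-/

set_option autoImplicit false
set_option linter.unusedSectionVars false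
universe u

namespace Groth.Agent.Lib.Helper4.Hzs

open IsLocalRing Polynomial

/-- being a henselian local ring is invariant under ring isomorphisms -/
theorem henselian_of_ringEquiv' {A B : Type*} [CommRing A] [CommRing B] [HenselianLocalRing A]
    (e : A ≃+* B) : HenselianLocalRing B := by
  have hloc : IsLocalRing B := e.isLocalRing
  refine { toIsLocalRing := hloc, is_henselian := ?_ }
  intro f hf b₀ h₁ h₂
  have hmem : ∀ b : B, b ∈ IsLocalRing.maximalIdeal B ↔ e.symm b ∈ IsLocalRing.maximalIdeal A := by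
    intro b
    rw [IsLocalRing.mem_maximalIdeal, IsLocalRing.mem_maximalIdeal, mem_nonunits_iff, mem_nonunits_iff,
      isUnit_map_iff]
  have hev : ∀ (p : B[X]) (b : B), (p.map e.symm.toRingHom).eval (e.symm b) = e.symm (p.eval b) :=
    fun p b => Polynomial.eval_map_apply (f := e.symm.toRingHom) b
  obtain ⟨a, ha, haa⟩ := HenselianLocalRing.is_henselian (f.map e.symm.toRingHom) (hf.map _)
    (e.symm b₀) (by rw [hev]; exact (hmem _).mp h₁)
    (by rw [Polynomial.derivative_map, hev]; exact h₂.map e.symm)
  refine ⟨e a, ?_, ?_⟩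
  · have h3 := hev f (e a)
    rw [e.symm_apply_apply] at h3
    rw [Polynomial.IsRoot.def] at ha ⊢
    rw [ha] at h3
    exact (map_eq_zero_iff e.symm e.symm.injective).mp h3.symm
  · rw [hmem, map_sub, e.symm_apply_apply]
    exact haa

/-- Transport of the strict henselization property along an algebra isomorphism. -/
theorem isStrictHenselization_of_algEquiv {R S₁ S₂ : Type u} [CommRing R] [IsLocalRing R]
    [CommRing S₁] [IsLocalRing S₁] [Algebra R S₁] [IsLocalHom (algebraMap R S₁)]
    [CommRing S₂] [IsLocalRing S₂] [Algebra R S₂] [IsLocalHom (algebraMap R S₂)]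
    (e : S₁ ≃ₐ[R] S₂) [h₁ : Hensel.IsStrictHenselization R S₁] :
    Hensel.IsStrictHenselization R S₂ := by
  have hH₁ : HenselianLocalRing S₁ := h₁.henselian
  have hc₁ : IsSepClosure (ResidueField R) (ResidueField S₁) := h₁.isSepClosure
  have hH₂ : HenselianLocalRing S₂ := henselian_of_ringEquiv' e.toRingEquiv
  let ē : ResidueField S₁ ≃+* ResidueField S₂ := ResidueField.mapEquiv e.toRingEquiv
  have hē : ∀ x : S₁, ē (residue S₁ x) = residue S₂ (e x) := fun x => rfl
  have hēsymm : ∀ x : S₂, ē.symm (residue S₂ x) = residue S₁ (e.symm x) := by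
    intro x
    apply ē.injective
    rw [ē.apply_symm_apply, hē, e.apply_symm_apply]
  have hcomm : ∀ y : ResidueField R, ē (algebraMap (ResidueField R) (ResidueField S₁) y) =
      algebraMap (ResidueField R) (ResidueField S₂) y := by
    intro y
    obtain ⟨r, rfl⟩ := residue_surjective y
    show ē (residue S₁ (algebraMap R S₁ r)) = residue S₂ (algebraMap R S₂ r)
    rw [hē, e.commutes]
  let ēa : ResidueField S₁ ≃ₐ[ResidueField R] ResidueField S₂ := AlgEquiv.ofRingEquiv hcomm
  refine isStrictHenselization_of R S₂ hH₂ ?_ ?_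
  · have hsc : IsSepClosed (ResidueField S₁) := hc₁.sep_closed
    have hsep : Algebra.IsSeparable (ResidueField R) (ResidueField S₁) := hc₁.separable
    exact ⟨isSepClosed_of_ringEquiv ē.symm,
      (AlgEquiv.Algebra.isSeparable_iff ēa).mp hsep⟩
  · intro T _ _ _ _ τ hτ
    have hcompat : (τ.comp (ē : ResidueField S₁ →+* ResidueField S₂)).comp
        (ResidueField.map (algebraMap R S₁)) = ResidueField.map (algebraMap R T) := by
      refine RingHom.ext fun y => ?_
      obtain ⟨r, rfl⟩ := residue_surjective y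
      show τ (ē (residue S₁ (algebraMap R S₁ r))) = residue T (algebraMap R T r)
      rw [hē, e.commutes, hτ]
    obtain ⟨g₁, ⟨hg1, hg2⟩, huniq⟩ := h₁.universal T (algebraMap R T)
      (τ.comp (ē : ResidueField S₁ →+* ResidueField S₂)) hcompat
    let g : S₂ →ₐ[R] T :=
      { g₁.comp (e.symm : S₂ →+* S₁) with
        commutes' := fun r => by
          show g₁ (e.symm (algebraMap R S₂ r)) = algebraMap R T r
          rw [e.symm.commutes]
          exact RingHom.congr_fun hg1 r }
    refine ⟨g, fun x => ?_, fun g' hg' => ?_⟩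
    · show residue T (g₁ (e.symm x)) = τ (residue S₂ x)
      rw [hg2]
      show τ (ē (residue S₁ (e.symm x))) = τ (residue S₂ x)
      rw [hē, e.apply_symm_apply]
    · have h3 : (g' : S₂ →+* T).comp (e : S₁ →+* S₂) = g₁ := by
        apply huniq
        refine ⟨?_, fun x => ?_⟩
        · refine RingHom.ext fun r => ?_
          show g' (e (algebraMap R S₁ r)) = algebraMap R T r
          rw [e.commutes, g'.commutes]
        · show residue T (g' (e x)) = τ (ē (residue S₁ x))
          rw [hg', hē]
      refine AlgHom.ext fun x => ?_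
      show g' x = g₁ (e.symm x)
      rw [← h3]
      show g' x = g' (e (e.symm x))
      rw [e.apply_symm_apply]

set_option maxHeartbeats 1000000 in
/-- If `D ⊆ A^sh` is a noetherian local ring dominated by `A^sh` whose maximal ideal is
generated by that of `A`, then `A^sh` is a strict henselization of `D`. -/
theorem isStrictHenselization_of_noetherian_sub
    (A S : Type u) [CommRing A] [IsLocalRing A] [CommRing S] [IsLocalRing S] [Algebra A S]
    [IsLocalHom (algebraMap A S)] [hS : Hensel.IsStrictHenselization A S]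
    (D : Subalgebra A S) [IsLocalRing D] [IsLocalHom (algebraMap D S)] [IsNoetherianRing D]
    (hm : (maximalIdeal A).map (algebraMap A D) = maximalIdeal D) :
    Hensel.IsStrictHenselization D S := by
  have hSh : HenselianLocalRing S := hS.henselian
  have hcS : IsSepClosure (ResidueField A) (ResidueField S) := hS.isSepClosure
  have hlocAD : IsLocalHom (algebraMap A D) := ⟨fun a ha => by
    have h1 : IsUnit (algebraMap A S a) := by
      have := ha.map (algebraMap D S)
      rwa [← IsScalarTower.algebraMap_apply] at this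
    exact isUnit_of_map_unit (algebraMap A S) a h1⟩
  obtain ⟨T, hT⟩ : ∃ T, T = Hs D := ⟨_, rfl⟩
  subst hT
  have hTs : Hensel.IsStrictHenselization D (Hs D) := Hs.isStrictHenselization D
  have hTh : HenselianLocalRing (Hs D) := hTs.henselian
  have hcT : IsSepClosure (ResidueField D) (ResidueField (Hs D)) := hTs.isSepClosure
  have hTn : IsNoetherianRing (Hs D) := Hs.isNoetherianRing D
  -- residue fields
  have hsepS : Algebra.IsSeparable (ResidueField A) (ResidueField S) := hcS.separable
  have hscS : IsSepClosed (ResidueField S) := hcS.sep_closed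
  have hcDS : IsSepClosure (ResidueField D) (ResidueField S) :=
    ⟨hscS, Algebra.isSeparable_tower_top_of_isSeparable (ResidueField A) (ResidueField D)
      (ResidueField S)⟩
  let τ : ResidueField (Hs D) ≃ₐ[ResidueField D] ResidueField S :=
    IsSepClosure.equiv (ResidueField D) (ResidueField (Hs D)) (ResidueField S)
  -- the map `φ : Hs D → S`
  obtain ⟨φ, ⟨hφ1, hφ2⟩, -⟩ := hTs.universal S (algebraMap D S)
    (τ : ResidueField (Hs D) →+* ResidueField S) (comp_residueField_map D τ.toAlgHom)
  -- the map `ψ : S → Hs D`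
  obtain ⟨f, hf⟩ : ∃ f : A →+* Hs D, f = (algebraMap D (Hs D)).comp (algebraMap A D) := ⟨_, rfl⟩
  have hfloc : IsLocalHom f := by rw [hf]; exact RingHom.isLocalHom_comp _ _
  have hτ' : (τ.symm : ResidueField S →+* ResidueField (Hs D)).comp
      (ResidueField.map (algebraMap A S)) = ResidueField.map f := by
    refine RingHom.ext fun y => ?_
    obtain ⟨a, rfl⟩ := residue_surjective y
    show τ.symm (residue S (algebraMap A S a)) = residue (Hs D) (f a)
    have h1 : residue S (algebraMap A S a) =
        algebraMap (ResidueField D) (ResidueField S) (residue D (algebraMap A D a)) := rfl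
    rw [h1, τ.symm.commutes, hf]
    rfl
  obtain ⟨ψ, ⟨hψ1, hψ2⟩, -⟩ := hS.universal (Hs D) f
    (τ.symm : ResidueField S →+* ResidueField (Hs D)) hτ'
  -- `φ ∘ ψ = id`
  obtain ⟨u, -, hu⟩ := hS.universal S (algebraMap A S) (RingHom.id _)
    (comp_residueField_map A (AlgHom.id _ _))
  have hφψ : φ.comp ψ = RingHom.id S := by
    rw [hu (φ.comp ψ) ⟨by
        rw [RingHom.comp_assoc, hψ1, hf, ← RingHom.comp_assoc, hφ1]
        rfl, fun x => by
        rw [RingHom.comp_apply, hφ2, hψ2]
        exact τ.apply_symm_apply _⟩,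
      hu (RingHom.id S) ⟨RingHom.id_comp _, fun x => rfl⟩]
  have hφψ' : ∀ s : S, φ (ψ s) = s := fun s => RingHom.congr_fun hφψ s
  -- the kernel of `φ`
  obtain ⟨J, hJ⟩ : ∃ J : Ideal (Hs D), J = RingHom.ker φ := ⟨_, rfl⟩
  have hJmem : ∀ x, x ∈ J ↔ φ x = 0 := fun x => by rw [hJ, RingHom.mem_ker]
  have hJfg : J.FG := (isNoetherianRing_iff_ideal_fg (Hs D)).mp hTn J
  have hmT : maximalIdeal (Hs D) = (maximalIdeal A).map f := by
    rw [hf, ← map_maximalIdeal_of_isStrictHenselization D (Hs D), ← hm, Ideal.map_map]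
  have hJle : J ≤ maximalIdeal (Hs D) := by
    apply IsLocalRing.le_maximalIdeal
    intro h
    have h1 : (1 : Hs D) ∈ J := by rw [h]; trivial
    rw [hJmem, map_one] at h1
    exact one_ne_zero h1
  -- `θ x = x - ψ (φ x)`
  have hθJ : ∀ x : Hs D, x - ψ (φ x) ∈ J := by
    intro x
    rw [hJmem, map_sub, hφψ', sub_self]
  have hgen : ∀ a : A, f a - ψ (φ (f a)) = 0 := by
    intro a
    have h1 : φ (f a) = algebraMap A S a := by
      have := RingHom.congr_fun hφ1 (algebraMap A D a)
      rw [RingHom.comp_apply] at this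
      rw [hf]
      exact this
    have h2 : ψ (algebraMap A S a) = f a := RingHom.congr_fun hψ1 a
    rw [h1, h2, sub_self]
  have hkey : ∀ x ∈ Submodule.span (Hs D) (f '' (maximalIdeal A : Set A)),
      x - ψ (φ x) ∈ maximalIdeal (Hs D) * J := by
    intro x hx
    refine Submodule.span_induction
      (p := fun x _ => x - ψ (φ x) ∈ maximalIdeal (Hs D) * J) ?_ ?_ ?_ ?_ hx
    · rintro y ⟨a, ha, rfl⟩
      show f a - ψ (φ (f a)) ∈ maximalIdeal (Hs D) * J
      rw [hgen a]
      exact Ideal.zero_mem _
    · show (0 : Hs D) - ψ (φ 0) ∈ maximalIdeal (Hs D) * J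
      rw [map_zero, map_zero, sub_self]
      exact Ideal.zero_mem _
    · intro y z hy hz h₁ h₂
      show y + z - ψ (φ (y + z)) ∈ maximalIdeal (Hs D) * J
      have h₁' : y - ψ (φ y) ∈ maximalIdeal (Hs D) * J := h₁
      have h₂' : z - ψ (φ z) ∈ maximalIdeal (Hs D) * J := h₂
      have : y + z - ψ (φ (y + z)) = (y - ψ (φ y)) + (z - ψ (φ z)) := by
        rw [map_add, map_add]; ring
      rw [this]
      exact Ideal.add_mem _ h₁' h₂'
    · intro t y hy h₁
      show t • y - ψ (φ (t • y)) ∈ maximalIdeal (Hs D) * J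
      have h₁' : y - ψ (φ y) ∈ maximalIdeal (Hs D) * J := h₁
      have hy' : y ∈ maximalIdeal (Hs D) := by rw [hmT]; exact hy
      have h3 : ψ (φ y) ∈ maximalIdeal (Hs D) := by
        have : ψ (φ y) = y - (y - ψ (φ y)) := by ring
        rw [this]
        exact Ideal.sub_mem _ hy' (hJle (hθJ y))
      have : t • y - ψ (φ (t • y)) = t * (y - ψ (φ y)) + ψ (φ y) * (t - ψ (φ t)) := by
        rw [smul_eq_mul, map_mul, map_mul]; ring
      rw [this]
      refine Ideal.add_mem _ (Ideal.mul_mem_left _ _ h₁') ?_
      exact Ideal.mul_mem_mul h3 (hθJ t)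
  have hJle2 : J ≤ maximalIdeal (Hs D) • J := by
    intro x hx
    have h0 : x ∈ (maximalIdeal A).map f := by rw [← hmT]; exact hJle hx
    have h1 := hkey x h0
    rw [(hJmem x).mp hx, map_zero, sub_zero] at h1
    exact h1
  have hJbot : J = ⊥ := Submodule.eq_bot_of_le_smul_of_le_jacobson_bot (maximalIdeal (Hs D)) J hJfg
    hJle2 (IsLocalRing.maximalIdeal_le_jacobson ⊥)
  have hφinj : Function.Injective φ := by
    rw [RingHom.injective_iff_ker_eq_bot, ← hJ, hJbot]
  have hφsurj : Function.Surjective φ := fun s => ⟨ψ s, hφψ' s⟩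
  let φa : Hs D →ₐ[D] S :=
    { φ with commutes' := fun d => RingHom.congr_fun hφ1 d }
  let e : Hs D ≃ₐ[D] S := AlgEquiv.ofBijective φa ⟨hφinj, hφsurj⟩
  exact isStrictHenselization_of_algEquiv e

end Groth.Agent.Lib.Helper4.Hzs
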