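import Mathlib
import Groth.Prelude.Def_Hensel
import Groth.Agent.Lib.Helper4.NormSh5
import Groth.Agent.Lib.Helper4.BrnchLocDom3

/-!
# If `S` is a strict henselization of `D`, the normalization of `D` is `A' ⊗ D`
-/

set_option autoImplicit false
set_option linter.unusedSectionVars false
universe u

namespace Groth.Agent.Lib.Helper4.NormSh

open TensorProduct IsLocalRing

section Sh

variable (A S : Type u) [CommRing A] [IsLocalRing A] [IsReduced A] [IsNoetherianRing A]
  [CommRing S] [IsLocalRing S] [Algebra A S] [IsLocalHom (algebraMap A S)]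
  [hS : Hensel.IsStrictHenselization A S]
  (A' : Subalgebra A (FractionRing S))
  (hA' : ∀ x : FractionRing S, x ∈ A' ↔ (IsIntegral A x ∧
      ∃ a ∈ nonZeroDivisors A, ∃ b : A, algebraMap A (FractionRing S) a * x =
        algebraMap A (FractionRing S) b))

/-- The ideal of numerators of elements of `A'` with denominator `a`. -/
def Jden (a : A) : Ideal A where
  carrier := {b | ∃ a' ∈ A', algebraMap A (FractionRing S) a * a' = algebraMap A (FractionRing S) b}
  add_mem' := by
    rintro b₁ b₂ ⟨x₁, hx₁, h₁⟩ ⟨x₂, hx₂, h₂⟩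
    exact ⟨x₁ + x₂, A'.add_mem hx₁ hx₂, by rw [mul_add, h₁, h₂, map_add]⟩
  zero_mem' := ⟨0, A'.zero_mem, by rw [mul_zero, map_zero]⟩
  smul_mem' := by
    rintro r b ⟨x, hx, h⟩
    refine ⟨algebraMap A (FractionRing S) r * x, A'.mul_mem (A'.algebraMap_mem r) hx, ?_⟩
    rw [smul_eq_mul, map_mul, ← h]
    ring

theorem mem_Jden {a b : A} : b ∈ Jden A S A' a ↔
    ∃ a' ∈ A', algebraMap A (FractionRing S) a * a' = algebraMap A (FractionRing S) b := Iff.rfl

theorem mul_mem_Jden {a b : A} (c : A) (hb : b ∈ Jden A S A' a) : c * b ∈ Jden A S A' (c * a) := by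
  obtain ⟨x, hx, h⟩ := hb
  exact ⟨x, hx, by rw [map_mul, map_mul, mul_assoc, h]⟩

theorem map_Jden_le (a c : A) :
    ∀ s ∈ (Jden A S A' a).map (algebraMap A S), algebraMap A S c * s ∈
      (Jden A S A' (c * a)).map (algebraMap A S) := by
  intro s hs
  refine Submodule.span_induction
    (p := fun s _ => algebraMap A S c * s ∈ (Jden A S A' (c * a)).map (algebraMap A S))
    ?_ ?_ ?_ ?_ hs
  · rintro _ ⟨b, hb, rfl⟩
    rw [← map_mul]
    exact Ideal.mem_map_of_mem _ (mul_mem_Jden A S A' c hb)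
  · rw [mul_zero]; exact Ideal.zero_mem _
  · intro x y _ _ hx hy
    rw [mul_add]; exact Ideal.add_mem _ hx hy
  · intro r x _ hx
    rw [smul_eq_mul, mul_left_comm]
    exact Ideal.mul_mem_left _ _ hx

include hA' in
theorem exists_mul_μS_eq (z : A' ⊗[A] S) :
    ∃ a ∈ nonZeroDivisors A, ∃ s ∈ (Jden A S A' a).map (algebraMap A S),
      algebraMap A (FractionRing S) a * μS A S A' z = algebraMap S (FractionRing S) s := by
  induction z using TensorProduct.induction_on with
  | zero => exact ⟨1, Submonoid.one_mem _, 0, Ideal.zero_mem _, by simp⟩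
  | tmul a' s =>
    obtain ⟨-, a, ha, b, hab⟩ := (hA' (a' : FractionRing S)).mp a'.2
    refine ⟨a, ha, algebraMap A S b * s, Ideal.mul_mem_right _ _
      (Ideal.mem_map_of_mem _ ⟨a', a'.2, hab⟩), ?_⟩
    rw [μS_tmul, ← mul_assoc, hab, map_mul, IsScalarTower.algebraMap_apply A S (FractionRing S)]
  | add x y hx hy =>
    obtain ⟨a₁, ha₁, s₁, hs₁, h₁⟩ := hx
    obtain ⟨a₂, ha₂, s₂, hs₂, h₂⟩ := hy
    refine ⟨a₂ * a₁, Submonoid.mul_mem _ ha₂ ha₁, algebraMap A S a₂ * s₁ + algebraMap A S a₁ * s₂,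
      Ideal.add_mem _ (map_Jden_le A S A' a₁ a₂ s₁ hs₁) ?_, ?_⟩
    · rw [mul_comm a₂ a₁]
      exact map_Jden_le A S A' a₂ a₁ s₂ hs₂
    · rw [map_add, mul_add, map_add, map_mul, map_mul, map_mul, ← h₁, ← h₂,
        ← IsScalarTower.algebraMap_apply A S (FractionRing S),
        ← IsScalarTower.algebraMap_apply A S (FractionRing S)]
      ring

variable (D : Subalgebra A S) [IsLocalRing D] [IsLocalHom (algebraMap D S)]
  (D' : Subalgebra A (FractionRing S))
  (hD' : ∀ x : FractionRing S, x ∈ D' ↔ (IsIntegral D x ∧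
      ∃ a ∈ nonZeroDivisors A, ∃ d ∈ D, algebraMap A (FractionRing S) a * x =
        algebraMap S (FractionRing S) d))
  (hle : A' ≤ D') (ι : D →ₐ[A] D')
  (hι : ∀ d : D, (ι d : FractionRing S) = algebraMap S (FractionRing S) d)

/-- The canonical map `A' ⊗ D → D'`. -/
noncomputable abbrev φt : A' ⊗[A] D →ₐ[A] D' :=
  Algebra.TensorProduct.productMap (Subalgebra.inclusion hle) ι

include hι in
theorem coe_φt (z : A' ⊗[A] D) : ((φt A S A' D D' hle ι z : D') : FractionRing S) =
    μE A S A' D z := by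
  induction z using TensorProduct.induction_on with
  | zero => simp
  | tmul a' d =>
    rw [Algebra.TensorProduct.productMap_apply_tmul, mulMap_tmul, Subalgebra.coe_mul, hι]
    rfl
  | add x y hx hy => rw [map_add, map_add, Subalgebra.coe_add, hx, hy]

include hA' hι in
theorem φt_injective [Module.FaithfullyFlat D S] : Function.Injective (φt A S A' D D' hle ι) := by
  intro z₁ z₂ h
  have h1 : μE A S A' D z₁ = μE A S A' D z₂ := by
    rw [← coe_φt A S A' D D' hle ι hι, ← coe_φt A S A' D D' hle ι hι, h]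
  rw [μE_eq, μE_eq] at h1
  have h2 := μS_injective A S A' hA' h1
  exact BrnchLocDom.jR_injective A A' D S h2

include hA' in
theorem exists_μE_eq_of_mem_map {a : A} (ha : a ∈ nonZeroDivisors A) :
    ∀ t ∈ (Jden A S A' a).map (algebraMap A D), ∃ w : A' ⊗[A] D,
      algebraMap A (FractionRing S) a * μE A S A' D w = algebraMap S (FractionRing S) (t : S) := by
  let W : Ideal D :=
    { carrier := {t | ∃ w : A' ⊗[A] D,
        algebraMap A (FractionRing S) a * μE A S A' D w = algebraMap S (FractionRing S) (t : S)}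
      add_mem' := by
        rintro t₁ t₂ ⟨w₁, h₁⟩ ⟨w₂, h₂⟩
        exact ⟨w₁ + w₂, by rw [map_add, mul_add, h₁, h₂, Subalgebra.coe_add, map_add]⟩
      zero_mem' := ⟨0, by rw [map_zero, mul_zero, Subalgebra.coe_zero, map_zero]⟩
      smul_mem' := by
        rintro d t ⟨w, h⟩
        refine ⟨((1 : A') ⊗ₜ[A] d) * w, ?_⟩
        have e1 : μE A S A' D ((1 : A') ⊗ₜ[A] d) = algebraMap S (FractionRing S) (d : S) := by
          rw [mulMap_tmul, map_one, one_mul]; rfl
        rw [map_mul, e1, smul_eq_mul, Subalgebra.coe_mul, map_mul, ← h]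
        ring }
  have hle' : (Jden A S A' a).map (algebraMap A D) ≤ W := by
    rw [Ideal.map_le_iff_le_comap]
    rintro b ⟨x, hx, h⟩
    refine ⟨(⟨x, hx⟩ : A') ⊗ₜ[A] (1 : D), ?_⟩
    rw [mulMap_tmul, map_one, mul_one]
    show algebraMap A (FractionRing S) a * x = _
    rw [h, IsScalarTower.algebraMap_apply A S (FractionRing S)]
    rfl
  intro t ht
  exact hle' ht

include hA' hD' hι in
theorem φt_surjective [Module.FaithfullyFlat D S] :
    Function.Surjective (φt A S A' D D' hle ι) := by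
  rintro ⟨x, hx⟩
  obtain ⟨hint, a₂, ha₂, d, hd, had⟩ := (hD' x).mp hx
  have hintS : IsIntegral S x := by
    have : IsScalarTower D S (FractionRing S) := IsScalarTower.of_algebraMap_eq (fun _ => rfl)
    exact hint.tower_top
  obtain ⟨z, hz⟩ := mem_range_μS_of_isIntegral A S A' hA' x hintS
  obtain ⟨a, ha, s, hs, has⟩ := exists_mul_μS_eq A S A' hA' z
  have hz' : μS A S A' z = x := hz
  rw [hz'] at has
  -- the element `t = a • d = a₂ • s`
  have ht : algebraMap A S a₂ * s = algebraMap A S a * d := by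
    apply injective_algebraMap_frac S
    rw [map_mul, map_mul, ← has, ← had, ← IsScalarTower.algebraMap_apply A S (FractionRing S),
      ← IsScalarTower.algebraMap_apply A S (FractionRing S)]
    ring
  have hmem : algebraMap A S a₂ * s ∈ (Jden A S A' (a₂ * a)).map (algebraMap A S) :=
    map_Jden_le A S A' a a₂ s hs
  let t : D := algebraMap A D a * ⟨d, hd⟩
  have htS : (t : S) = algebraMap A S a₂ * s := ht.symm
  have htmem : t ∈ (Jden A S A' (a₂ * a)).map (algebraMap A D) := by
    rw [← Ideal.comap_map_eq_self_of_faithfullyFlat (B := S)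
      ((Jden A S A' (a₂ * a)).map (algebraMap A D)), Ideal.mem_comap, Ideal.map_map,
      ← IsScalarTower.algebraMap_eq A D S]
    show (t : S) ∈ _
    rw [htS]
    exact hmem
  obtain ⟨w, hw⟩ := exists_μE_eq_of_mem_map A S A' hA' D (Submonoid.mul_mem _ ha₂ ha) t htmem
  refine ⟨w, Subtype.ext ?_⟩
  rw [coe_φt A S A' D D' hle ι hι]
  apply (isUnit_algebraMap_frac A S (Submonoid.mul_mem _ ha₂ ha)).mul_left_cancel
  rw [hw, htS, map_mul, map_mul, ← has, ← IsScalarTower.algebraMap_apply A S (FractionRing S)]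
  ring

end Sh

end Groth.Agent.Lib.Helper4.NormSh
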