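import Mathlib
import Groth.Prelude.Def_Hensel
import Groth.Agent.Lib.Helper4.NormSh6
import Groth.Agent.Lib.Helper4.NormSh8
import Groth.Agent.Lib.Helper4.HznRed
import Groth.Agent.Lib.Helper4.HzsNoethC

/-!
# Comparing the geometric branches of `D` and of `A`
-/

set_option autoImplicit false
set_option linter.unusedSectionVars false
universe u

namespace Groth.Agent.Lib.Helper4.NormSh

open TensorProduct IsLocalRing

section Sh

variable (A S : Type u) [CommRing A] [IsLocalRing A] [IsReduced A] [IsNoetherianRing A]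
  [CommRing S] [IsLocalRing S] [Algebra A S] [IsLocalHom (algebraMap A S)]
  [hS : Hensel.IsStrictHenselization A S]
  (A' : Subalgebra A (FractionRing S))
  (hA' : ∀ x : FractionRing S, x ∈ A' ↔ (IsIntegral A x ∧
      ∃ a ∈ nonZeroDivisors A, ∃ b : A, algebraMap A (FractionRing S) a * x =
        algebraMap A (FractionRing S) b))
  (D : Subalgebra A S) [IsLocalRing D] [IsLocalHom (algebraMap D S)]
  (D' : Subalgebra A (FractionRing S))
  (hD' : ∀ x : FractionRing S, x ∈ D' ↔ (IsIntegral D x ∧
      ∃ a ∈ nonZeroDivisors A, ∃ d ∈ D, algebraMap A (FractionRing S) a * x =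
        algebraMap S (FractionRing S) d))
  (hle : A' ≤ D') (ι : D →ₐ[A] D')
  (hι : ∀ d : D, (ι d : FractionRing S) = algebraMap S (FractionRing S) d)

theorem isLocalHom_algebraMap_sub : IsLocalHom (algebraMap A D) := ⟨fun a ha => by
  have h1 : IsUnit (algebraMap A S a) := by
    rw [IsScalarTower.algebraMap_apply A D S]; exact ha.map _
  exact isUnit_of_map_unit (algebraMap A S) a h1⟩

theorem isSeparable_residueField_sub [IsLocalHom (algebraMap A D)] :
    Algebra.IsSeparable (ResidueField A) (ResidueField D) := by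
  have hsepS : Algebra.IsSeparable (ResidueField A) (ResidueField S) := hS.isSepClosure.separable
  exact Algebra.IsSeparable.of_algHom (ResidueField A) (ResidueField S)
    (IsScalarTower.toAlgHom (ResidueField A) (ResidueField D) (ResidueField S))

theorem isReduced_sub : IsReduced D := by
  have hred : IsReduced S := (Hzs.isReduced_iff_of_isStrictHenselization A S).mpr inferInstance
  exact isReduced_of_injective D.val Subtype.val_injective

theorem finite_minimalPrimes_sub : (minimalPrimes D).Finite := by
  have hnoeth : IsNoetherianRing S :=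
    (Hzs.isNoetherianRing_iff_of_isStrictHenselization A S).mp inferInstance
  have hfinS : (minimalPrimes S).Finite := minimalPrimes.finite_of_isNoetherianRing S
  refine (hfinS.image (Ideal.comap (algebraMap D S))).subset ?_
  intro p hp
  obtain ⟨q, hq, hqp⟩ := Ideal.exists_comap_eq_of_mem_minimalPrimes_of_injective
    (f := algebraMap D S) Subtype.val_injective p hp
  have hqprime : q.IsPrime := hq
  obtain ⟨q₀, hq₀, hq₀q⟩ := Ideal.exists_minimalPrimes_le (I := (⊥ : Ideal S)) (J := q) bot_le
  refine ⟨q₀, hq₀, ?_⟩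
  have hq₀prime : q₀.IsPrime := hq₀.1.1
  have h1 : q₀.comap (algebraMap D S) ≤ p := hqp ▸ Ideal.comap_mono hq₀q
  exact le_antisymm h1 (hp.2 ⟨Ideal.comap_isPrime _ _, bot_le⟩ h1)

include hA' in
theorem exists_modelA : ∃ Θ : integralClosure A (FractionRing A) ≃+* A',
    ∀ a : A, Θ (algebraMap A (integralClosure A (FractionRing A)) a) = algebraMap A A' a := by
  obtain ⟨Θ, hΘ⟩ := exists_ringEquiv_normalization A S A' hA'
  exact ⟨Θ, fun a => Subtype.ext (hΘ a)⟩

include hD' hι in
theorem exists_modelD : ∃ Θ : integralClosure D (FractionRing D) ≃+* D',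
    ∀ d : D, Θ (algebraMap D (integralClosure D (FractionRing D)) d) = ι d := by
  obtain ⟨Θ, hΘ⟩ := exists_ringEquiv_normalization_sub A S D D' hD'
  exact ⟨Θ, fun d => Subtype.ext ((hΘ d).trans (hι d).symm)⟩

section Res

variable [hloc : IsLocalHom (algebraMap A D)]

/-- An embedding over `k_A` of the algebraic closure of `k_D` into that of `k_A`. -/
noncomputable def closEmb : AlgebraicClosure (ResidueField D) →ₐ[ResidueField A]
    AlgebraicClosure (ResidueField A) :=
  have : Algebra.IsSeparable (ResidueField A) (ResidueField D) :=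
    isSeparable_residueField_sub A S D
  have : Algebra.IsAlgebraic (ResidueField A) (AlgebraicClosure (ResidueField D)) :=
    Algebra.IsAlgebraic.trans (ResidueField A) (ResidueField D) _
  IsAlgClosed.lift

/-- Restriction of ring maps from `D'` to `A'`. -/
noncomputable def resHom (σ : HomOver D D' ι.toRingHom) : HomOver A A' (algebraMap A A') :=
  ⟨(closEmb A S D).toRingHom.comp (σ.1.comp (Subalgebra.inclusion hle).toRingHom), by
    apply RingHom.ext
    intro a
    show closEmb A S D (σ.1 (Subalgebra.inclusion hle (algebraMap A A' a))) = Brnch.toClosure A a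
    have h1 : Subalgebra.inclusion hle (algebraMap A A' a) = ι (algebraMap A D a) := by
      rw [AlgHom.commutes, AlgHom.commutes]
    have h2 : σ.1 (ι (algebraMap A D a)) = Brnch.toClosure D (algebraMap A D a) :=
      RingHom.congr_fun σ.2 _
    rw [h1, h2]
    show closEmb A S D (algebraMap (ResidueField D) (AlgebraicClosure (ResidueField D))
      (residue D (algebraMap A D a))) =
        algebraMap (ResidueField A) (AlgebraicClosure (ResidueField A)) (residue A a)
    have h3 : residue D (algebraMap A D a) =
        algebraMap (ResidueField A) (ResidueField D) (residue A a) := rfl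
    rw [h3, ← IsScalarTower.algebraMap_apply (ResidueField A) (ResidueField D)
      (AlgebraicClosure (ResidueField D)), AlgHom.commutes]⟩

include hD' hι in
theorem resHom_injective
    (hsurj : Function.Surjective ((Ideal.Quotient.mkₐ A (Ideal.jacobson (⊥ : Ideal D'))).comp
      (φt A S A' D D' hle ι))) :
    Function.Injective (resHom A S A' D D' hle ι) := by
  intro σ₁ σ₂ h
  obtain ⟨Θ, hΘ⟩ := exists_modelD A S D D' hD' ι hι
  let _ : Algebra D D' := ι.toRingHom.toAlgebra
  have hredD : IsReduced D := isReduced_sub A S D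
  have hint : Algebra.IsIntegral D D' := isIntegral_model D D' Θ hΘ
  have hmax : ∀ σ : HomOver D D' ι.toRingHom, (RingHom.ker σ.1).IsMaximal := fun σ =>
    isMaximal_ker_homOver D D' σ
  have hjac : ∀ σ : HomOver D D' ι.toRingHom, ∀ y ∈ Ideal.jacobson (⊥ : Ideal D'), σ.1 y = 0 := by
    intro σ y hy
    have h1 : Ideal.jacobson (⊥ : Ideal D') ≤ RingHom.ker σ.1 := sInf_le ⟨bot_le, hmax σ⟩
    exact h1 hy
  have hincl : ∀ a' : A', σ₁.1 (Subalgebra.inclusion hle a') = σ₂.1 (Subalgebra.inclusion hle a') := by
    intro a'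
    have h1 := RingHom.congr_fun (congrArg Subtype.val h) a'
    exact (closEmb A S D).toRingHom.injective h1
  have hι' : ∀ d : D, σ₁.1 (ι d) = σ₂.1 (ι d) := by
    intro d
    have h1 : σ₁.1 (ι d) = Brnch.toClosure D d := RingHom.congr_fun σ₁.2 d
    have h2 : σ₂.1 (ι d) = Brnch.toClosure D d := RingHom.congr_fun σ₂.2 d
    rw [h1, h2]
  have hφ : ∀ z : A' ⊗[A] D, σ₁.1 (φt A S A' D D' hle ι z) = σ₂.1 (φt A S A' D D' hle ι z) := by
    intro z
    induction z using TensorProduct.induction_on with
    | zero => rw [map_zero, map_zero, map_zero]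
    | tmul a' d =>
      rw [Algebra.TensorProduct.productMap_apply_tmul, map_mul, map_mul, hincl, hι']
    | add x y hx hy => rw [map_add, map_add, map_add, hx, hy]
  apply Subtype.ext
  apply RingHom.ext
  intro y
  obtain ⟨z, hz⟩ := hsurj (Ideal.Quotient.mk _ y)
  have hz' : Ideal.Quotient.mk (Ideal.jacobson (⊥ : Ideal D')) (φt A S A' D D' hle ι z) =
      Ideal.Quotient.mk _ y := hz
  rw [Ideal.Quotient.eq] at hz'
  have e1 := hjac σ₁ _ hz'
  have e2 := hjac σ₂ _ hz'
  rw [map_sub, sub_eq_zero] at e1 e2
  rw [← e1, ← e2, hφ]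

include hA' hD' hι in
theorem card_minimalPrimes_le (W : Type u) [CommRing W] [IsLocalRing W] [Algebra D W]
    [IsLocalHom (algebraMap D W)] [Hensel.IsStrictHenselization D W]
    (hsurj : Function.Surjective ((Ideal.Quotient.mkₐ A (Ideal.jacobson (⊥ : Ideal D'))).comp
      (φt A S A' D D' hle ι))) :
    ENat.card (minimalPrimes W) ≤ ENat.card (minimalPrimes S) := by
  obtain ⟨ΘA, hΘA⟩ := exists_modelA A S A' hA'
  obtain ⟨ΘD, hΘD⟩ := exists_modelD A S D D' hD' ι hι
  have hminA : (minimalPrimes A).Finite := minimalPrimes.finite_of_isNoetherianRing A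
  have hminD : (minimalPrimes D).Finite := finite_minimalPrimes_sub A S D
  have hredD : IsReduced D := isReduced_sub A S D
  have h1 := card_minimalPrimes_eq_card_homOver A S A' ΘA hΘA hminA
  let _ : Algebra D D' := ι.toRingHom.toAlgebra
  have h2 : ENat.card (minimalPrimes W) = ENat.card (HomOver D D' ι.toRingHom) :=
    card_minimalPrimes_eq_card_homOver D W D' ΘD hΘD hminD
  rw [h1, h2]
  exact ENat.card_le_card_of_injective (resHom_injective A S A' D D' hD' hle ι hι hsurj)

end Res

end Sh

end Groth.Agent.Lib.Helper4.NormSh
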