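import Mathlib
import Groth.Prelude.Def_Hensel
import Groth.Agent.Lib.Helper4.NormSh9
import Groth.Agent.Lib.Helper4.HzsFinLoc
import Groth.Agent.Lib.Helper4.HzsNoethSub

/-!
# The conditions on the normalization force `S` to be the strict henselization of `D`
-/

set_option autoImplicit false
set_option linter.unusedSectionVars false
universe u

namespace Groth.Agent.Lib.Helper4.NormSh

open TensorProduct IsLocalRing

/-- Incomparability of primes over `p` for algebras which are "algebraic at `p`". -/
theorem prime_eq_of_le_of_algebraic {A D : Type*} [CommRing A] [CommRing D] [Algebra A D]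
    (p : Ideal A) [p.IsPrime]
    (halg : ∀ x : D, ∃ F : Polynomial A, (∃ i, F.coeff i ∉ p) ∧ Polynomial.aeval x F = 0)
    (q₀ q₁ : Ideal D) [hq₀ : q₀.IsPrime] [hq₁ : q₁.IsPrime] (hle : q₀ ≤ q₁)
    (h₀ : q₀.comap (algebraMap A D) = p) (h₁ : q₁.comap (algebraMap A D) = p) : q₀ = q₁ := by
  apply le_antisymm hle
  intro x hx
  have key : ∀ n : ℕ, ∀ F : Polynomial A, F.natDegree ≤ n → (∃ i, F.coeff i ∉ p) →
      Polynomial.aeval x F ∈ q₀ → x ∈ q₀ := by
    intro n
    induction n with
    | zero =>
      intro F hdeg ⟨i, hi⟩ hF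
      exfalso
      rw [Polynomial.eq_C_of_natDegree_le_zero hdeg] at hF hi
      rw [Polynomial.aeval_C] at hF
      have h2 : F.coeff 0 ∈ p := by rw [← h₀]; exact hF
      rw [Polynomial.coeff_C] at hi
      split_ifs at hi with h
      · exact hi h2
      · exact hi p.zero_mem
    | succ n ih =>
      intro F hdeg ⟨i, hi⟩ hF
      have hdecomp : Polynomial.aeval x F =
          Polynomial.aeval x F.divX * x + algebraMap A D (F.coeff 0) := by
        conv_lhs => rw [← Polynomial.divX_mul_X_add F]
        rw [map_add, map_mul, Polynomial.aeval_X, Polynomial.aeval_C]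
      by_cases h0 : F.coeff 0 ∈ p
      · have h1 : algebraMap A D (F.coeff 0) ∈ q₀ := by
          rw [← h₀] at h0; exact h0
        have h2 : Polynomial.aeval x F.divX * x ∈ q₀ := by
          have := q₀.sub_mem hF h1
          rwa [hdecomp, add_sub_cancel_right] at this
        rcases hq₀.mem_or_mem h2 with h3 | h3
        · refine ih F.divX ?_ ?_ h3
          · rw [Polynomial.natDegree_divX_eq_natDegree_tsub_one]
            omega
          · cases i with
            | zero => exact absurd h0 hi
            | succ j => exact ⟨j, by rw [Polynomial.coeff_divX]; exact hi⟩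
        · exact h3
      · exfalso
        apply h0
        rw [← h₁]
        show algebraMap A D (F.coeff 0) ∈ q₁
        have h1 : Polynomial.aeval x F.divX * x ∈ q₁ := q₁.mul_mem_left _ hx
        have := q₁.sub_mem (hle hF) h1
        rwa [hdecomp, add_sub_cancel_left] at this
  obtain ⟨F, hF, hF0⟩ := halg x
  exact key F.natDegree F le_rfl hF (by rw [hF0]; exact q₀.zero_mem)

section Sh

variable (A S : Type u) [CommRing A] [IsLocalRing A] [IsReduced A] [IsNoetherianRing A]
  [CommRing S] [IsLocalRing S] [Algebra A S] [IsLocalHom (algebraMap A S)]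
  [hS : Hensel.IsStrictHenselization A S]

/-- Elements of the strict henselization are algebraic over `A` at minimal primes. -/
theorem exists_polynomial_aeval_eq_zero (p : Ideal A) [hpp : p.IsPrime] (hp : p ∈ minimalPrimes A)
    (x : S) : ∃ F : Polynomial A, (∃ i, F.coeff i ∉ p) ∧ Polynomial.aeval x F = 0 := by
  classical
  obtain ⟨E, hsE, hEloc, hElh, hE⟩ := Hzs.exists_essEtale_subalgebra A S {x}
  have hxE : x ∈ E := hsE (by simp)
  have hft := EssEtale.essFiniteType hE
  have hfe := EssEtale.formallyEtale hE
  have hflat : Module.Flat A E := TotFrac.flat_of_essEtale hE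
  have hfin := TotFrac.finite_tensor_atPrime (E := E) p hp
  set x' : Localization.AtPrime p ⊗[A] E := (1 : Localization.AtPrime p) ⊗ₜ[A] (⟨x, hxE⟩ : E)
    with hx'
  have hint : IsIntegral (Localization.AtPrime p) x' := Algebra.IsIntegral.isIntegral x'
  obtain ⟨q, hqm, hq⟩ := hint
  have hq' : Polynomial.aeval x' q = 0 := hq
  obtain ⟨b, hb, hbq⟩ := IsLocalization.integerNormalization_spec p.primeCompl q
  set F₀ := IsLocalization.integerNormalization p.primeCompl q with hF₀
  have h1 : Polynomial.aeval x' F₀ = 0 :=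
    IsLocalization.integerNormalization_aeval_eq_zero p.primeCompl q hq'
  have h2 : Polynomial.aeval x' F₀ = (Algebra.TensorProduct.includeRight :
      E →ₐ[A] Localization.AtPrime p ⊗[A] E) (Polynomial.aeval (⟨x, hxE⟩ : E) F₀) := by
    rw [← Polynomial.aeval_algHom_apply]
    rfl
  have h3 : (1 : Localization.AtPrime p) ⊗ₜ[A] (Polynomial.aeval (⟨x, hxE⟩ : E) F₀) = 0 := by
    rw [← h1, h2]
    rfl
  obtain ⟨s, hs, hs0⟩ := TotFrac.exists_smul_eq_zero_of_one_tmul_eq_zero p _ h3
  have hcoeff : F₀.coeff q.natDegree ∉ p := by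
    intro hmem
    have h4 := congrArg (fun G => Polynomial.coeff G q.natDegree) hbq
    simp only [Polynomial.coeff_map, Polynomial.coeff_smul] at h4
    rw [Polynomial.coeff_natDegree, hqm.leadingCoeff, Algebra.smul_def, mul_one] at h4
    have h5 : IsUnit (algebraMap A (Localization.AtPrime p) b) :=
      IsLocalization.map_units (Localization.AtPrime p) (⟨b, hb⟩ : p.primeCompl)
    rw [← h4, IsLocalization.AtPrime.isUnit_to_map_iff (Localization.AtPrime p) p] at h5
    exact h5 hmem
  refine ⟨Polynomial.C s * F₀, ⟨q.natDegree, ?_⟩, ?_⟩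
  · rw [Polynomial.coeff_C_mul]
    exact fun h => (hpp.mem_or_mem h).elim hs hcoeff
  · rw [map_mul, Polynomial.aeval_C]
    have h6 : ((Polynomial.aeval (⟨x, hxE⟩ : E) F₀ : E) : S) = Polynomial.aeval x F₀ :=
      Polynomial.aeval_subalgebra_coe F₀ E ⟨x, hxE⟩
    rw [← h6, ← Algebra.smul_def]
    have := congrArg (Subtype.val) hs0
    exact this

variable (D : Subalgebra A S)

/-- Primes of `D` over a minimal prime of `A` are incomparable. -/
theorem prime_eq_of_le_of_comap_minimal (p : Ideal A) [hpp : p.IsPrime]
    (hp : p ∈ minimalPrimes A) (q₀ q₁ : Ideal D) [hq₀ : q₀.IsPrime] [hq₁ : q₁.IsPrime]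
    (hle : q₀ ≤ q₁) (h₀ : q₀.comap (algebraMap A D) = p) (h₁ : q₁.comap (algebraMap A D) = p) :
    q₀ = q₁ := by
  refine prime_eq_of_le_of_algebraic p (fun x => ?_) q₀ q₁ hle h₀ h₁
  obtain ⟨F, hF, hF0⟩ := exists_polynomial_aeval_eq_zero A S p hp (x : S)
  refine ⟨F, hF, Subtype.ext ?_⟩
  rw [Polynomial.aeval_subalgebra_coe F D x, hF0]
  rfl

section Main

variable (A' : Subalgebra A (FractionRing S))
  (hA' : ∀ x : FractionRing S, x ∈ A' ↔ (IsIntegral A x ∧
      ∃ a ∈ nonZeroDivisors A, ∃ b : A, algebraMap A (FractionRing S) a * x =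
        algebraMap A (FractionRing S) b))
  [IsLocalRing D] [IsLocalHom (algebraMap D S)]
  (D' : Subalgebra A (FractionRing S))
  (hD' : ∀ x : FractionRing S, x ∈ D' ↔ (IsIntegral D x ∧
      ∃ a ∈ nonZeroDivisors A, ∃ d ∈ D, algebraMap A (FractionRing S) a * x =
        algebraMap S (FractionRing S) d))
  (hle : A' ≤ D') (ι : D →ₐ[A] D')
  (hι : ∀ d : D, (ι d : FractionRing S) = algebraMap S (FractionRing S) d)

open Hzs in
include hA' hD' hι in
/-- **(I)**: surjectivity of `A' ⊗ D → D'/Rad(D')` forces `S` to be a strict henselization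
of `D`. -/
theorem isStrictHenselization_of_surjective
    (hsurj : Function.Surjective ((Ideal.Quotient.mkₐ A (Ideal.jacobson (⊥ : Ideal D'))).comp
      (φt A S A' D D' hle ι))) :
    Hensel.IsStrictHenselization D S := by
  have hlocA : IsLocalHom (algebraMap A D) := isLocalHom_algebraMap_sub A S D
  have hredD : IsReduced D := isReduced_sub A S D
  have hH : HenselianLocalRing S := hS.henselian
  have hsepS : Algebra.IsSeparable (ResidueField A) (ResidueField S) := hS.isSepClosure.separable
  have hscS : IsSepClosed (ResidueField S) := hS.isSepClosure.sep_closed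
  have hsep1 : Algebra.IsSeparable (ResidueField D) (ResidueField S) :=
    Algebra.isSeparable_tower_top_of_isSeparable (ResidueField A) (ResidueField D) (ResidueField S)
  have hW : Hensel.IsStrictHenselization D (Hs D) := inferInstance
  have hHW : HenselianLocalRing (Hs D) := hW.henselian
  have hscW : IsSepClosed (ResidueField (Hs D)) := hW.isSepClosure.sep_closed
  have hsepW : Algebra.IsSeparable (ResidueField D) (ResidueField (Hs D)) :=
    hW.isSepClosure.separable
  let τS : ResidueField S →ₐ[ResidueField D] ResidueField (Hs D) := IsSepClosed.lift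
  let τW : ResidueField (Hs D) →ₐ[ResidueField D] ResidueField S := IsSepClosed.lift
  -- σ
  let f : A →+* Hs D := (algebraMap D (Hs D)).comp (algebraMap A D)
  have hf : IsLocalHom f := RingHom.isLocalHom_comp _ _
  have hcompS : (τS : ResidueField S →+* ResidueField (Hs D)).comp
      (ResidueField.map (algebraMap A S)) = ResidueField.map f := by
    refine RingHom.ext fun x => ?_
    obtain ⟨a, rfl⟩ := residue_surjective x
    simp only [RingHom.comp_apply, ResidueField.map_residue]
    have h1 : residue S (algebraMap A S a) =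
        algebraMap (ResidueField D) (ResidueField S) (residue D (algebraMap A D a)) := by
      rw [ResidueField.algebraMap_residue, ← IsScalarTower.algebraMap_apply]
    rw [h1]
    change τS (algebraMap (ResidueField D) (ResidueField S) _) = _
    rw [τS.commutes, ResidueField.algebraMap_residue]
    rfl
  obtain ⟨σ, ⟨hσ1, hσ2⟩, -⟩ := hS.universal (Hs D) f (τS : _ →+* _) hcompS
  -- ρ
  have hcompW : (τW : ResidueField (Hs D) →+* ResidueField S).comp
      (ResidueField.map (algebraMap D (Hs D))) = ResidueField.map (algebraMap D S) := by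
    refine RingHom.ext fun x => ?_
    obtain ⟨c, rfl⟩ := residue_surjective x
    simp only [RingHom.comp_apply, ResidueField.map_residue]
    rw [← ResidueField.algebraMap_residue]
    change τW (algebraMap (ResidueField D) (ResidueField (Hs D)) _) = _
    rw [τW.commutes, ResidueField.algebraMap_residue]
  obtain ⟨ρ, ⟨hρ1, hρ2⟩, -⟩ := hW.universal S (algebraMap D S) (τW : _ →+* _) hcompW
  have hρσ_comp : (ρ.comp σ).comp (algebraMap A S) = algebraMap A S := by
    rw [RingHom.comp_assoc, hσ1, ← RingHom.comp_assoc, hρ1]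
    ext a
    exact (IsScalarTower.algebraMap_apply A D S a).symm
  have hρσ_loc : IsLocalHom (ρ.comp σ) :=
    isLocalHom_of_residue_compat (ρ.comp σ) ((τW : _ →+* _).comp (τS : _ →+* _)) (fun x => by
      simp only [RingHom.comp_apply]
      rw [hρ2, hσ2])
  have hbij := bijective_of_isStrictHenselization A S S (ρ.comp σ) hρσ_comp
  have hρsurj : Function.Surjective ρ := fun y => by
    obtain ⟨x, hx⟩ := hbij.2 y
    exact ⟨σ x, hx⟩
  -- minimal primes of `S` pull back to minimal primes of `D^sh`
  have hffA : Module.FaithfullyFlat A S := faithfullyFlat_of_isStrictHenselization A S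
  have hnoeth : IsNoetherianRing S :=
    (isNoetherianRing_iff_of_isStrictHenselization A S).mp inferInstance
  have hfinS : (minimalPrimes S).Finite := minimalPrimes.finite_of_isNoetherianRing S
  have hmin : ∀ Q ∈ minimalPrimes S, Q.comap ρ ∈ minimalPrimes (Hs D) := by
    intro Q hQ
    have hQp : Q.IsPrime := hQ.1.1
    have hPp : (Q.comap ρ).IsPrime := Ideal.comap_isPrime _ _
    obtain ⟨P₀, hP₀, hP₀P⟩ := Ideal.exists_minimalPrimes_le (I := (⊥ : Ideal (Hs D)))
      (J := Q.comap ρ) bot_le
    have hP₀p : P₀.IsPrime := hP₀.1.1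
    have heq : P₀ = Q.comap ρ := by
      apply Hs.incomparable D P₀ (Q.comap ρ) hP₀P
      show P₀.comap (algebraMap D (Hs D)) = (Q.comap ρ).comap (algebraMap D (Hs D))
      have h1 : (Q.comap ρ).comap (algebraMap D (Hs D)) = Q.comap (algebraMap D S) := by
        rw [Ideal.comap_comap, hρ1]
      have hp : Q.comap (algebraMap A S) ∈ minimalPrimes A :=
        BrnchMin.comap_mem_minimalPrimes_of_flat hQ
      have hpp : (Q.comap (algebraMap A S)).IsPrime := hp.1.1
      have e1 : (Q.comap (algebraMap D S)).comap (algebraMap A D) = Q.comap (algebraMap A S) := by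
        rw [Ideal.comap_comap, ← IsScalarTower.algebraMap_eq]
      have hle0 : P₀.comap (algebraMap D (Hs D)) ≤ Q.comap (algebraMap D S) := by
        rw [← h1]; exact Ideal.comap_mono hP₀P
      have e0 : (P₀.comap (algebraMap D (Hs D))).comap (algebraMap A D) =
          Q.comap (algebraMap A S) := by
        have hle : (P₀.comap (algebraMap D (Hs D))).comap (algebraMap A D) ≤
            Q.comap (algebraMap A S) := by
          rw [← e1]; exact Ideal.comap_mono hle0
        exact le_antisymm hle (hp.2 ⟨Ideal.comap_isPrime _ _, bot_le⟩ hle)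
      rw [h1]
      exact prime_eq_of_le_of_comap_minimal A S D (Q.comap (algebraMap A S)) hp _ _ hle0 e0 e1
    rw [← heq]; exact hP₀
  -- counting
  have hcard := card_minimalPrimes_le A S A' hA' D D' hD' hle ι hι (Hs D) hsurj
  have hFS : Finite (minimalPrimes S) := hfinS
  have hFW : Finite (minimalPrimes (Hs D)) := by
    rw [← ENat.card_lt_top]
    exact lt_of_le_of_lt hcard (ENat.card_lt_top.mpr hFS)
  let g : minimalPrimes S → minimalPrimes (Hs D) := fun Q => ⟨Q.1.comap ρ, hmin Q.1 Q.2⟩
  have hginj : Function.Injective g := by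
    intro Q₁ Q₂ h
    apply Subtype.ext
    exact Ideal.comap_injective_of_surjective ρ hρsurj (congrArg Subtype.val h)
  have hcard' : Nat.card (minimalPrimes (Hs D)) ≤ Nat.card (minimalPrimes S) := by
    have := hcard
    rw [ENat.card_eq_coe_natCard, ENat.card_eq_coe_natCard] at this
    exact_mod_cast this
  have hgbij := hginj.bijective_of_nat_card_le hcard'
  have hker : RingHom.ker ρ = ⊥ := by
    rw [eq_bot_iff]
    have h1 : RingHom.ker ρ ≤ sInf (minimalPrimes (Hs D)) := by
      refine le_sInf fun P hP => ?_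
      obtain ⟨Q, hQ⟩ := hgbij.2 ⟨P, hP⟩
      have h3 : Q.1.comap ρ = P := congrArg Subtype.val hQ
      rw [← h3]
      exact Ideal.comap_mono bot_le
    have h2 : sInf (minimalPrimes (Hs D)) = ⊥ := by
      have h4 : sInf (minimalPrimes (Hs D)) = (⊥ : Ideal (Hs D)).radical :=
        Ideal.sInf_minimalPrimes
      rw [h4]
      exact nilradical_eq_bot_iff.mpr inferInstance
    rw [← h2]
    exact h1
  have hρinj : Function.Injective ρ := (RingHom.injective_iff_ker_eq_bot ρ).mpr hker
  let ρa : Hs D →ₐ[D] S := { ρ with commutes' := fun d => RingHom.congr_fun hρ1 d }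
  let e : Hs D ≃ₐ[D] S := AlgEquiv.ofBijective ρa ⟨hρinj, hρsurj⟩
  exact isStrictHenselization_of_algEquiv e

end Main

end Sh

end Groth.Agent.Lib.Helper4.NormSh
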