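import Mathlib
import Groth.Agent.Lib.Helper4.EssNorm5
import Groth.Agent.Lib.Helper4.NormSh10

/-!
# Abstract form: localizations mapping locally into a strict henselization
-/

set_option autoImplicit false
set_option linter.unusedSectionVars false
universe u
open IsLocalRing TensorProduct

namespace Groth.Agent.Lib.Helper4.EssNorm

/-- The images in a field of a ring generated by two subrings, one essentially of finite type,
lie in a finitely generated subfield. -/
theorem exists_finset_closure_of_essFiniteType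
    {A B E C R₀ H K : Type*} [CommRing A] [CommRing B] [CommRing E] [CommRing C] [CommRing R₀]
    [CommRing H] [Field K] [Algebra A B] [Algebra A E] [hft : Algebra.EssFiniteType A E]
    [Algebra B R₀] [Algebra R₀ H] [Algebra H K] [Algebra R₀ K] [IsScalarTower R₀ H K]
    [Nontrivial H] (hinj : Function.Injective (algebraMap H K))
    (jc : B →+* C) (t : E →+* C)
    (hgen : ∀ c : C, c ∈ Subring.closure (Set.range jc ∪ Set.range t))
    (Φ : C →+* H) (hΦj : ∀ b, Φ (jc b) = algebraMap R₀ H (algebraMap B R₀ b))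
    (hA : ∀ a : A, t (algebraMap A E a) = jc (algebraMap A B a)) :
    ∃ τ : Finset H, ∀ c : C, algebraMap H K (Φ c) ∈
      Subfield.closure (Set.range (algebraMap R₀ K) ∪ (algebraMap H K) '' (τ : Set H)) := by
  classical
  obtain ⟨σ, hσ⟩ := (Algebra.essFiniteType_iff (R := A) (S := E)).mp hft
  refine ⟨σ.image (fun e => Φ (t e)), ?_⟩
  set K₁ := Subfield.closure (Set.range (algebraMap R₀ K) ∪
    (algebraMap H K) '' ((σ.image (fun e => Φ (t e)) : Finset H) : Set H)) with hK₁
  have hR : ∀ r : R₀, algebraMap H K (algebraMap R₀ H r) ∈ K₁ := by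
    intro r
    rw [← IsScalarTower.algebraMap_apply R₀ H K]
    exact Subfield.subset_closure (Or.inl ⟨r, rfl⟩)
  have hB : ∀ b : B, algebraMap H K (Φ (jc b)) ∈ K₁ := by
    intro b
    rw [hΦj]
    exact hR _
  have hadj : ∀ e ∈ Algebra.adjoin A (σ : Set E), algebraMap H K (Φ (t e)) ∈ K₁ := by
    intro e he
    induction he using Algebra.adjoin_induction with
    | mem x hx =>
      refine Subfield.subset_closure (Or.inr ⟨Φ (t x), ?_, rfl⟩)
      rw [Finset.coe_image]
      exact ⟨x, hx, rfl⟩
    | algebraMap a => rw [hA]; exact hB _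
    | add x y _ _ hx hy => rw [map_add, map_add, map_add]; exact K₁.add_mem hx hy
    | mul x y _ _ hx hy => rw [map_mul, map_mul, map_mul]; exact K₁.mul_mem hx hy
  have hEmem : ∀ e : E, algebraMap H K (Φ (t e)) ∈ K₁ := by
    intro e
    obtain ⟨u, hu, huu, heu⟩ := hσ e
    have h1 : IsUnit (algebraMap H K (Φ (t u))) := ((huu.map t).map Φ).map (algebraMap H K)
    have h2 : algebraMap H K (Φ (t e)) =
        algebraMap H K (Φ (t (e * u))) / algebraMap H K (Φ (t u)) := by
      rw [eq_div_iff h1.ne_zero, ← map_mul, ← map_mul, ← map_mul]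
    rw [h2]
    exact K₁.div_mem (hadj _ heu) (hadj _ hu)
  intro c
  have hc := hgen c
  induction hc using Subring.closure_induction with
  | mem x hx =>
    rcases hx with ⟨b, rfl⟩ | ⟨e, rfl⟩
    · exact hB b
    · exact hEmem e
  | zero => rw [map_zero, map_zero]; exact K₁.zero_mem
  | one => rw [map_one, map_one]; exact K₁.one_mem
  | add x y _ _ hx hy => rw [map_add, map_add]; exact K₁.add_mem hx hy
  | neg x _ hx => rw [map_neg, map_neg]; exact K₁.neg_mem hx
  | mul x y _ _ hx hy => rw [map_mul, map_mul]; exact K₁.mul_mem hx hy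

set_option maxHeartbeats 1000000 in
set_option synthInstance.maxHeartbeats 200000 in
/-- **Abstract form of the local structure of a normalization.** -/
theorem essEtale_of_local_map
    {A B Q C R₀ P H : Type u} [CommRing A] [CommRing B] [CommRing Q] [CommRing C]
    [Algebra A B] [Algebra A Q] [Algebra A C]
    (j : B →ₐ[A] Q) (ι : Q →ₐ[A] C) (M : Ideal C)
    (m' : Ideal B) [m'.IsPrime] (N : Ideal Q) [N.IsPrime]
    (hN : N = M.comap ι)
    [CommRing R₀] [IsLocalRing R₀] [IsDomain R₀] [IsIntegrallyClosed R₀] [IsNoetherianRing R₀]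
    [Algebra B R₀] [IsLocalization.AtPrime R₀ m']
    [CommRing P] [IsLocalRing P] [IsDomain P] [IsIntegrallyClosed P]
    [Algebra Q P] [IsLocalization.AtPrime P N]
    [Algebra R₀ P]
    (halgRP : ∀ b : B, algebraMap R₀ P (algebraMap B R₀ b) = algebraMap Q P (j b))
    [CommRing H] [IsLocalRing H] [IsDomain H] [Algebra R₀ H] [IsLocalHom (algebraMap R₀ H)]
    [hH : Hensel.IsStrictHenselization R₀ H]
    (Φ : C →+* H) (hΦM : ∀ c, Φ c ∈ maximalIdeal H ↔ c ∈ M)
    (hΦj : ∀ b, Φ (ι (j b)) = algebraMap R₀ H (algebraMap B R₀ b))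
    (halg : ∀ x : Q, ∃ F : Polynomial A,
      (∃ i, F.coeff i ∉ RingHom.ker ((algebraMap B R₀).comp (algebraMap A B))) ∧
        Polynomial.aeval x F = 0)
    (τ : Finset H)
    (hτ : ∀ c : C, algebraMap H (FractionRing H) (Φ c) ∈
      Subfield.closure (Set.range (algebraMap R₀ (FractionRing H)) ∪
        (algebraMap H (FractionRing H)) '' (τ : Set H))) :
    EGA4loc.IsEssentiallyEtale R₀ P := by
  classical
  have hffH : Module.FaithfullyFlat R₀ H := Hzs.faithfullyFlat_of_isStrictHenselization R₀ H
  have hinjRH : Function.Injective (algebraMap R₀ H) := FaithfulSMul.algebraMap_injective R₀ H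
  let f₀ : Q →+* H := Φ.comp (ι : Q →+* C)
  have hf₀unit : ∀ d : Q, IsUnit (f₀ d) ↔ d ∉ N := by
    intro d
    rw [hN, Ideal.mem_comap, ← hΦM, mem_maximalIdeal, mem_nonunits_iff, not_not]
    rfl
  have hf₀ : ∀ y : N.primeCompl, IsUnit (f₀ y) := fun y => (hf₀unit y).mpr y.2
  let fP : P →+* H := IsLocalization.lift (M := N.primeCompl) hf₀
  have hfP : ∀ d : Q, fP (algebraMap Q P d) = f₀ d := fun d => IsLocalization.lift_eq hf₀ d
  have hfPalg : fP.comp (algebraMap R₀ P) = algebraMap R₀ H := by
    refine IsLocalization.ringHom_ext m'.primeCompl ?_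
    ext b
    simp only [RingHom.comp_apply]
    rw [halgRP, hfP]
    exact hΦj b
  let f : P →ₐ[R₀] H := { fP with commutes' := fun r => congrArg (fun φ => φ r) hfPalg }
  have hf : ∀ p, f p = fP p := fun p => rfl
  -- `f` is local
  have hloc : IsLocalHom f := by
    refine ⟨fun p hp => ?_⟩
    obtain ⟨d, u, rfl⟩ := IsLocalization.exists_mk'_eq N.primeCompl p
    have h1 : fP (IsLocalization.mk' P d u) * f₀ u = f₀ d := by
      rw [← hfP, ← hfP, ← map_mul, IsLocalization.mk'_spec]
    have h2 : IsUnit (f₀ d) := by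
      rw [← h1]
      exact (hp : IsUnit (fP _)).mul (hf₀ u)
    rw [IsLocalization.AtPrime.isUnit_mk'_iff P N]
    exact (hf₀unit d).mp h2
  -- `R₀ → P` is injective
  have hinjRP : Function.Injective (algebraMap R₀ P) := by
    intro x y hxy
    apply hinjRH
    rw [← hfPalg, RingHom.comp_apply, RingHom.comp_apply, hxy]
  have hpA : (RingHom.ker ((algebraMap B R₀).comp (algebraMap A B))).IsPrime :=
    RingHom.ker_isPrime _
  have hq₀ : (RingHom.ker (algebraMap Q P)).IsPrime := RingHom.ker_isPrime _
  have hq₁ : (RingHom.ker f₀).IsPrime := RingHom.ker_isPrime _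
  have hq₀₁ : RingHom.ker (algebraMap Q P) ≤ RingHom.ker f₀ := by
    intro d hd
    rw [RingHom.mem_ker] at hd ⊢
    rw [← hfP, hd, map_zero]
  have hker : RingHom.ker (algebraMap Q P) = RingHom.ker f₀ := by
    refine NormSh.prime_eq_of_le_of_algebraic
      (RingHom.ker ((algebraMap B R₀).comp (algebraMap A B))) halg _ _ hq₀₁ ?_ ?_
    · ext a
      rw [Ideal.mem_comap, RingHom.mem_ker, RingHom.mem_ker, ← j.commutes, ← halgRP,
        map_eq_zero_iff _ hinjRP]
      rfl
    · ext a
      rw [Ideal.mem_comap, RingHom.mem_ker, RingHom.mem_ker, ← j.commutes]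
      change Φ (ι (j (algebraMap A B a))) = 0 ↔ _
      rw [hΦj, map_eq_zero_iff _ hinjRH]
      rfl
  have hinj : Function.Injective f := by
    rw [injective_iff_map_eq_zero]
    intro p hp
    obtain ⟨d, u, rfl⟩ := IsLocalization.exists_mk'_eq N.primeCompl p
    have h1 : fP (IsLocalization.mk' P d u) * f₀ u = f₀ d := by
      rw [← hfP, ← hfP, ← map_mul, IsLocalization.mk'_spec]
    have h2 : f₀ d = 0 := by
      rw [← h1]
      have : fP (IsLocalization.mk' P d u) = 0 := hp
      rw [this, zero_mul]
    have h3 : d ∈ RingHom.ker (algebraMap Q P) := by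
      rw [hker]; exact h2
    rw [RingHom.mem_ker] at h3
    rw [IsLocalization.mk'_eq_mul_mk'_one, h3, zero_mul]
  -- the image lies in a finitely generated subfield
  have hτ' : ∀ p : P, algebraMap H (FractionRing H) (f p) ∈
      Subfield.closure (Set.range (algebraMap R₀ (FractionRing H)) ∪
        (algebraMap H (FractionRing H)) '' (τ : Set H)) := by
    intro p
    obtain ⟨d, u, rfl⟩ := IsLocalization.exists_mk'_eq N.primeCompl p
    have h1 : fP (IsLocalization.mk' P d u) * f₀ u = f₀ d := by
      rw [← hfP, ← hfP, ← map_mul, IsLocalization.mk'_spec]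
    have h2 : algebraMap H (FractionRing H) (f₀ u) ≠ 0 := by
      intro h0
      have h3 : f₀ u = 0 := IsFractionRing.injective H (FractionRing H) (h0.trans (map_zero _).symm)
      have := hf₀ u
      rw [h3] at this
      exact not_isUnit_zero this
    have h4 : algebraMap H (FractionRing H) (f (IsLocalization.mk' P d u)) =
        algebraMap H (FractionRing H) (f₀ d) / algebraMap H (FractionRing H) (f₀ u) := by
      rw [eq_div_iff h2, ← map_mul, hf, h1]
    rw [h4]
    exact Subfield.div_mem _ (hτ (ι d)) (hτ (ι u))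
  exact essEtale_of_normal_local R₀ H P f hinj hloc τ hτ'

/-- Transfer of essential finiteness through a finite normalization. -/
theorem essFiniteType_of_finite_of_localization
    {A B R₀ P : Type*} [CommRing A] [CommRing B] [CommRing R₀] [CommRing P]
    [Algebra A B] [Module.Finite A B] [Algebra B R₀] (S : Submonoid B) [IsLocalization S R₀]
    [Algebra R₀ P] [Algebra A R₀] [IsScalarTower A B R₀] [Algebra A P] [IsScalarTower A R₀ P]
    [Algebra.EssFiniteType R₀ P] : Algebra.EssFiniteType A P := by
  have h1 : Algebra.EssFiniteType B R₀ := Algebra.EssFiniteType.of_isLocalization R₀ S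
  have h2 : Algebra.EssFiniteType A R₀ := Algebra.EssFiniteType.comp A B R₀
  exact Algebra.EssFiniteType.comp A R₀ P

end Groth.Agent.Lib.Helper4.EssNorm
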