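import Mathlib
import Groth.Agent.Lib.Helper4.EssNorm7
import Groth.Agent.Lib.Helper4.EssNorm8

/-!
# The localizations of the normalization of a sub-algebra are essentially of finite type
-/

set_option autoImplicit false
set_option linter.unusedSectionVars false
universe u
open IsLocalRing TensorProduct

namespace Groth.Agent.Lib.Helper4.EssNorm

section Piece

variable {A E : Type u} [CommRing A] [IsLocalRing A] [IsReduced A] [IsNoetherianRing A]
  [CommRing E] [IsLocalRing E] [Algebra A E] [IsLocalHom (algebraMap A E)]
  (hE : EGA4loc.IsEssentiallyEtale A E) (D : Subalgebra A E)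
  (D' : Subalgebra A (FractionRing E))
  (hD' : ∀ x : FractionRing E, x ∈ D' ↔ (IsIntegral D x ∧
      ∃ a ∈ nonZeroDivisors A, ∃ d ∈ D, algebraMap A (FractionRing E) a * x =
        algebraMap E (FractionRing E) d))
  (hle : D' ≤ Ecl A E) (M : Ideal (Ecl A E)) [hM : M.IsMaximal]

/-- The map `Ā → D'`. -/
noncomputable def jD : integralClosure A (FractionRing A) →ₐ[A] D' :=
  (jA hE).codRestrict D' (jA_mem_normalization_sub hE D D' hD')

theorem inclusion_jD (x : integralClosure A (FractionRing A)) :
    Subalgebra.inclusion hle (jD hE D D' hD' x) = jEc hE x := rfl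

theorem comap_jD :
    M.comap (jEc hE) = (M.comap (Subalgebra.inclusion hle)).comap (jD hE D D' hD') := by
  ext x
  rw [Ideal.mem_comap, Ideal.mem_comap, Ideal.mem_comap, inclusion_jD]

theorem mem_closure_range_jEc_toEcl (hmin : (minimalPrimes A).Finite) (c : Ecl A E) :
    c ∈ Subring.closure (Set.range (jEc hE : integralClosure A (FractionRing A) →+* Ecl A E) ∪ Set.range (toEcl A E)) := by
  obtain ⟨z, rfl⟩ := (μc_bijective hE hmin).2 c
  induction z using TensorProduct.induction_on with
  | zero => rw [map_zero]; exact Subring.zero_mem _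
  | tmul a' e =>
    rw [μc_tmul]
    exact Subring.mul_mem _ (Subring.subset_closure (Or.inl ⟨a', rfl⟩))
      (Subring.subset_closure (Or.inr ⟨e, rfl⟩))
  | add x y hx hy => rw [map_add]; exact Subring.add_mem _ hx hy

theorem ker_mem_minimalPrimes (hmin : (minimalPrimes A).Finite)
    (m' : Ideal (integralClosure A (FractionRing A))) [m'.IsPrime]
    [IsDomain (Localization.AtPrime m')] :
    RingHom.ker ((algebraMap (integralClosure A (FractionRing A)) (Localization.AtPrime m')).comp
      (algebraMap A (integralClosure A (FractionRing A)))) ∈ minimalPrimes A := by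
  have hpA : (RingHom.ker ((algebraMap (integralClosure A (FractionRing A))
      (Localization.AtPrime m')).comp
      (algebraMap A (integralClosure A (FractionRing A))))).IsPrime := RingHom.ker_isPrime _
  refine mem_minimalPrimes_of_disjoint hmin _ (fun a ha hmem => ?_)
  rw [RingHom.mem_ker, RingHom.comp_apply,
    IsLocalization.map_eq_zero_iff m'.primeCompl] at hmem
  obtain ⟨s, hs⟩ := hmem
  have h1 : a • (s : integralClosure A (FractionRing A)) = a • 0 := by
    rw [smul_zero, Algebra.smul_def, mul_comm]
    exact hs
  have h2 : (s : integralClosure A (FractionRing A)) = 0 := smul_injective_Abar ha h1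
  exact s.2 (h2 ▸ Ideal.zero_mem _)

include hE hD' in
set_option maxHeartbeats 4000000 in
set_option synthInstance.maxHeartbeats 400000 in
theorem essFiniteType_localization_normalization_sub
    (hfinA : Module.Finite A (integralClosure A (FractionRing A))) :
    Algebra.EssFiniteType A (Localization.AtPrime (M.comap (Subalgebra.inclusion hle))) := by
  classical
  have hmin : (minimalPrimes A).Finite := minimalPrimes.finite_of_isNoetherianRing A
  -- the base ring `R₀`
  obtain ⟨hR₀dom, hR₀ic⟩ := NormSh.locNormal_integralClosure A hmin (M.comap (jEc hE))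
  have hAbarN : IsNoetherianRing (integralClosure A (FractionRing A)) :=
    Algebra.FiniteType.isNoetherianRing A _
  have hR₀N : IsNoetherianRing (Localization.AtPrime (M.comap (jEc hE))) :=
    IsLocalization.isNoetherianRing (M.comap (jEc hE)).primeCompl _ hAbarN
  -- the ring `P`
  obtain ⟨hPdom, hPic⟩ := locNormal_normalization_sub hmin hE D D' hD'
    (M.comap (Subalgebra.inclusion hle))
  let _ : Algebra (Localization.AtPrime (M.comap (jEc hE)))
      (Localization.AtPrime (M.comap (Subalgebra.inclusion hle))) :=
    (Localization.localRingHom (M.comap (jEc hE)) (M.comap (Subalgebra.inclusion hle))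
      (jD hE D D' hD' : integralClosure A (FractionRing A) →+* D')
      (comap_jD hE D D' hD' hle M)).toAlgebra
  have halgRP : ∀ a' : integralClosure A (FractionRing A),
      algebraMap (Localization.AtPrime (M.comap (jEc hE)))
        (Localization.AtPrime (M.comap (Subalgebra.inclusion hle)))
        (algebraMap _ (Localization.AtPrime (M.comap (jEc hE))) a') =
      algebraMap D' (Localization.AtPrime (M.comap (Subalgebra.inclusion hle)))
        (jD hE D D' hD' a') := fun a' => Localization.localRingHom_to_map _ _ _ _ a'
  -- the strict henselization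
  have hHnorm := (Hzs.normal_iff_of_isStrictHenselization
    (Localization.AtPrime (M.comap (jEc hE)))
    (Hzs.Hs (Localization.AtPrime (M.comap (jEc hE))))).mpr ⟨hR₀dom, hR₀ic⟩
  have hHdom : IsDomain (Hzs.Hs (Localization.AtPrime (M.comap (jEc hE)))) := hHnorm.1
  obtain ⟨ψ, Φ, hΦM, hΦj, hΦψ⟩ := exists_local_map hE hmin M
    (Hzs.Hs (Localization.AtPrime (M.comap (jEc hE))))
  have hft := EssEtale.essFiniteType hE
  have hτex : ∃ τ : Finset (Hzs.Hs (Localization.AtPrime (M.comap (jEc hE)))),
      ∀ c : Ecl A E, algebraMap (Hzs.Hs (Localization.AtPrime (M.comap (jEc hE))))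
        (FractionRing (Hzs.Hs (Localization.AtPrime (M.comap (jEc hE))))) (Φ c) ∈
      Subfield.closure (Set.range (algebraMap (Localization.AtPrime (M.comap (jEc hE)))
        (FractionRing (Hzs.Hs (Localization.AtPrime (M.comap (jEc hE)))))) ∪
        (algebraMap (Hzs.Hs (Localization.AtPrime (M.comap (jEc hE))))
          (FractionRing (Hzs.Hs (Localization.AtPrime (M.comap (jEc hE)))))) ''
          (τ : Set (Hzs.Hs (Localization.AtPrime (M.comap (jEc hE)))))) := by
    refine exists_finset_closure_of_essFiniteType (A := A) (E := E)
      (B := integralClosure A (FractionRing A))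
      (R₀ := Localization.AtPrime (M.comap (jEc hE)))
      (IsFractionRing.injective _ _)
      (jEc hE : integralClosure A (FractionRing A) →+* Ecl A E) (toEcl A E)
      (mem_closure_range_jEc_toEcl hE hmin) Φ ?_ ?_
    · exact fun b => hΦj b
    · intro a
      have h1 := congrArg (fun φ => φ a) (toEcl_comp_algebraMap A E)
      exact h1.trans (jEc_algebraMap hE a).symm
  obtain ⟨τ, hτ⟩ := hτex
  have hpAmin := ker_mem_minimalPrimes hmin (M.comap (jEc hE))
  have hpA : (RingHom.ker ((algebraMap (integralClosure A (FractionRing A))
      (Localization.AtPrime (M.comap (jEc hE)))).comp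
      (algebraMap A (integralClosure A (FractionRing A))))).IsPrime := RingHom.ker_isPrime _
  have hess : EGA4loc.IsEssentiallyEtale (Localization.AtPrime (M.comap (jEc hE)))
      (Localization.AtPrime (M.comap (Subalgebra.inclusion hle))) := by
    refine essEtale_of_local_map (jD hE D D' hD') (Subalgebra.inclusion hle) M
      (M.comap (jEc hE)) (M.comap (Subalgebra.inclusion hle)) rfl halgRP Φ hΦM
      (fun b => hΦj b) (fun x => ?_) τ hτ
    obtain ⟨F, hF, hF0⟩ := exists_polynomial_aeval_eq_zero_frac hmin hE _ hpAmin
      (x : FractionRing E)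
    refine ⟨F, hF, Subtype.ext ?_⟩
    rw [Polynomial.aeval_subalgebra_coe F D' x, hF0]
    rfl
  have hft2 := EssEtale.essFiniteType hess
  have htow : IsScalarTower A (Localization.AtPrime (M.comap (jEc hE)))
      (Localization.AtPrime (M.comap (Subalgebra.inclusion hle))) := by
    refine IsScalarTower.of_algebraMap_eq (fun a => ?_)
    rw [IsScalarTower.algebraMap_apply A (integralClosure A (FractionRing A))
      (Localization.AtPrime (M.comap (jEc hE))), halgRP, AlgHom.commutes,
      ← IsScalarTower.algebraMap_apply]
  exact essFiniteType_of_finite_of_localization (A := A)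
    (B := integralClosure A (FractionRing A))
    (R₀ := Localization.AtPrime (M.comap (jEc hE))) (M.comap (jEc hE)).primeCompl

end Piece

end Groth.Agent.Lib.Helper4.EssNorm
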