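import Mathlib
import Groth.Agent.Lib.Helper4.EssNorm9
import Groth.Agent.Lib.Helper4.EssNorm10
import Groth.Agent.Lib.Helper4.EssNorm13

/-!
# A dominated sub-algebra of an essentially étale algebra whose normalization is semilocal
over the normalization of the algebra is essentially of finite type
-/

set_option autoImplicit false
set_option linter.unusedSectionVars false
universe u
open IsLocalRing TensorProduct

namespace Groth.Agent.Lib.Helper4.EssNorm

section Main

variable {A E : Type u} [CommRing A] [IsLocalRing A] [IsReduced A] [IsNoetherianRing A]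
  [CommRing E] [IsLocalRing E] [Algebra A E] [IsLocalHom (algebraMap A E)]
  (hE : EGA4loc.IsEssentiallyEtale A E) (D : Subalgebra A E)
  (D' : Subalgebra A (FractionRing E))
  (hD' : ∀ x : FractionRing E, x ∈ D' ↔ (IsIntegral D x ∧
      ∃ a ∈ nonZeroDivisors A, ∃ d ∈ D, algebraMap A (FractionRing E) a * x =
        algebraMap E (FractionRing E) d))
  (hle : D' ≤ Ecl A E)

include hD' in
theorem algebraMap_mem_normalization_sub (d : D) :
    algebraMap E (FractionRing E) (d : E) ∈ D' := by
  rw [hD']
  refine ⟨?_, 1, one_mem _, d, d.2, by rw [map_one, one_mul]⟩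
  rw [← algebraMap_sub_frac]
  exact isIntegral_algebraMap

/-- The inclusion `D → D'`. -/
noncomputable def ιD : D →ₐ[A] D' :=
  ((IsScalarTower.toAlgHom A E (FractionRing E)).comp D.val).codRestrict D'
    (fun d => algebraMap_mem_normalization_sub D D' hD' d)

theorem coe_ιD (d : D) : ((ιD D D' hD' d : D') : FractionRing E) =
    algebraMap E (FractionRing E) (d : E) := rfl

theorem ιD_injective : Function.Injective (ιD D D' hD') := by
  intro x y hxy
  have h1 := congrArg Subtype.val hxy
  rw [coe_ιD, coe_ιD] at h1
  exact Subtype.ext (IsFractionRing.injective E (FractionRing E) h1)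

include hE hD' in
/-- The normalization `D'` is essentially of finite type over `A`. -/
theorem essFiniteType_normalization_sub
    (hfinA : Module.Finite A (integralClosure A (FractionRing A)))
    (hfin : {N : Ideal D' | N.IsMaximal}.Finite)
    (hsurj : ∀ N : Ideal D', N.IsMaximal →
      ∃ M : Ideal (Ecl A E), M.IsMaximal ∧ M.comap (Subalgebra.inclusion hle) = N) :
    Algebra.EssFiniteType A D' := by
  have hred : IsReduced D' := isReduced_subalgebra_frac hE D'
  have hminQ : (minimalPrimes D').Finite := finite_minimalPrimes_subalgebra_frac hE D'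
  refine essFiniteType_of_forall_localization (A := A) hminQ hfin (fun N hN => ?_)
  obtain ⟨M, hM, hMN⟩ := hsurj N hN
  subst hMN
  exact essFiniteType_localization_normalization_sub hE D D' hD' hle M hfinA

include hE hD' in
/-- **Main theorem.** -/
theorem essFiniteType_sub_of_semilocal [IsLocalRing D]
    (hfinA : Module.Finite A (integralClosure A (FractionRing A)))
    (hfin : {N : Ideal D' | N.IsMaximal}.Finite)
    (hsurj : ∀ N : Ideal D', N.IsMaximal →
      ∃ M : Ideal (Ecl A E), M.IsMaximal ∧ M.comap (Subalgebra.inclusion hle) = N) :
    Algebra.EssFiniteType A D := by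
  have hft : Algebra.EssFiniteType A D' :=
    essFiniteType_normalization_sub hE D D' hD' hle hfinA hfin hsurj
  let _ : Algebra D D' := (ιD D D' hD').toRingHom.toAlgebra
  have htow : IsScalarTower A D D' :=
    IsScalarTower.of_algebraMap_eq (fun a => ((ιD D D' hD').commutes a).symm)
  have hinj : Function.Injective (algebraMap D D') := ιD_injective D D' hD'
  let f : D' →ₐ[D] FractionRing E :=
    { D'.val.toRingHom with commutes' := fun d => rfl }
  have hf : Function.Injective f := Subtype.val_injective
  have hint : Algebra.IsIntegral D D' := by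
    refine ⟨fun x => ?_⟩
    rw [← isIntegral_algHom_iff f hf]
    exact ((hD' (x : FractionRing E)).mp x.2).1
  exact essFiniteType_of_isIntegral_of_essFiniteType A (D := D) (D' := D') hinj

end Main

end Groth.Agent.Lib.Helper4.EssNorm
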