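import Mathlib

/-!
# Descent of finitely presented / étale algebras along a localization
-/

set_option autoImplicit false
set_option linter.style.haveILetI false
set_option linter.unusedSectionVars false
universe u

namespace Groth.Agent.Lib.Helper4.EtLocDescent

open MvPolynomial

attribute [local instance] MvPolynomial.algebraMvPolynomial

variable {A B : Type u} [CommRing A] [CommRing B] [Algebra A B] (S : Submonoid A)
  [IsLocalization S B]
variable (D : Type u) [CommRing D] [Algebra B D] [Algebra A D] [IsScalarTower A B D]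

set_option maxHeartbeats 1000000 in
theorem exists_fp_descent [Algebra.FinitePresentation B D] :
    ∃ (B₀ : Type u) (_ : CommRing B₀) (_ : Algebra A B₀) (_ : Algebra B₀ D)
      (_ : IsScalarTower A B₀ D),
      Algebra.FinitePresentation A B₀ ∧ IsLocalization (Algebra.algebraMapSubmonoid B₀ S) D := by
  classical
  obtain ⟨n, f, hf, hker⟩ := Algebra.FinitePresentation.out (R := B) (A := D)
  obtain ⟨s, hs⟩ := hker
  have hloc : IsLocalization (S.map (C (σ := Fin n))) (MvPolynomial (Fin n) B) :=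
    MvPolynomial.isLocalization S B
  obtain ⟨b, hb⟩ := IsLocalization.exist_integer_multiples_of_finset
    (S.map (C (σ := Fin n))) s
  choose! G hG using hb
  -- hG a ha : algebraMap P Q (G a) = b • a
  let K : Ideal (MvPolynomial (Fin n) A) := Ideal.span (G '' (s : Set (MvPolynomial (Fin n) B)))
  let ι : MvPolynomial (Fin n) A →ₐ[A] MvPolynomial (Fin n) B :=
    MvPolynomial.mapAlgHom (Algebra.ofId A B)
  have hι : ∀ p, ι p = algebraMap (MvPolynomial (Fin n) A) (MvPolynomial (Fin n) B) p := by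
    intro p
    rfl
  let ψ₀ : MvPolynomial (Fin n) A →ₐ[A] D := (f.restrictScalars A).comp ι
  have hψ₀ : ∀ p, ψ₀ p = f (algebraMap (MvPolynomial (Fin n) A) (MvPolynomial (Fin n) B) p) :=
    fun p => rfl
  have hsker : ∀ a ∈ s, f a = 0 := by
    intro a ha
    have : a ∈ RingHom.ker f.toRingHom := by
      rw [← hs]
      exact Ideal.subset_span ha
    exact this
  have hK : ∀ p ∈ K, ψ₀ p = 0 := by
    intro p hp
    have : K ≤ RingHom.ker ψ₀.toRingHom := by
      rw [Ideal.span_le]
      rintro _ ⟨a, ha, rfl⟩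
      change ψ₀ (G a) = 0
      rw [hψ₀, hG a ha, Algebra.smul_def, map_mul, hsker a ha, mul_zero]
    exact this hp
  let ψ : (MvPolynomial (Fin n) A ⧸ K) →ₐ[A] D := Ideal.Quotient.liftₐ K ψ₀ hK
  have hψmk : ∀ p, ψ (Ideal.Quotient.mk K p) = ψ₀ p := fun p => rfl
  letI algB₀D : Algebra (MvPolynomial (Fin n) A ⧸ K) D := ψ.toRingHom.toAlgebra
  have htow : IsScalarTower A (MvPolynomial (Fin n) A ⧸ K) D :=
    IsScalarTower.of_algebraMap_eq (fun a => (ψ.commutes a).symm)
  have hfp : Algebra.FinitePresentation A (MvPolynomial (Fin n) A ⧸ K) :=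
    Algebra.FinitePresentation.quotient ⟨(s.image G), by rw [Finset.coe_image]⟩
  -- `ker f = K.map (algebraMap P Q)`
  have hbunit : IsUnit (algebraMap (MvPolynomial (Fin n) A) (MvPolynomial (Fin n) B) (b : _)) :=
    IsLocalization.map_units _ b
  have hkermap : RingHom.ker f.toRingHom =
      K.map (algebraMap (MvPolynomial (Fin n) A) (MvPolynomial (Fin n) B)) := by
    rw [← hs]
    apply le_antisymm
    · rw [Ideal.span_le]
      intro a ha
      obtain ⟨u, hu⟩ := hbunit
      have h1 : algebraMap (MvPolynomial (Fin n) A) (MvPolynomial (Fin n) B) (G a) ∈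
          K.map (algebraMap (MvPolynomial (Fin n) A) (MvPolynomial (Fin n) B)) :=
        Ideal.mem_map_of_mem _ (Ideal.subset_span ⟨a, ha, rfl⟩)
      rw [hG a ha, Algebra.smul_def, ← hu] at h1
      have h2 := Ideal.mul_mem_left _ (↑u⁻¹ : MvPolynomial (Fin n) B) h1
      rwa [← mul_assoc, Units.inv_mul, one_mul] at h2
    · rw [Ideal.map_span, Ideal.span_le]
      rintro _ ⟨_, ⟨a, ha, rfl⟩, rfl⟩
      rw [hG a ha, Algebra.smul_def]
      exact Ideal.mul_mem_left _ _ (Ideal.subset_span ha)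
  have halgS : ∀ t : A, algebraMap A (MvPolynomial (Fin n) A ⧸ K) t =
      Ideal.Quotient.mk K (C t) := fun t => rfl
  refine ⟨MvPolynomial (Fin n) A ⧸ K, inferInstance, inferInstance, algB₀D, htow, hfp, ?_⟩
  refine ⟨?_, ?_, ?_⟩
  · rintro ⟨_, t, ht, rfl⟩
    change IsUnit (ψ (algebraMap A (MvPolynomial (Fin n) A ⧸ K) t))
    rw [ψ.commutes, IsScalarTower.algebraMap_apply A B D]
    exact (IsLocalization.map_units B ⟨t, ht⟩).map _
  · intro c
    obtain ⟨q, rfl⟩ := hf c
    obtain ⟨⟨p, ⟨_, t, ht, rfl⟩⟩, h⟩ := IsLocalization.surj (S.map (C (σ := Fin n))) q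
    refine ⟨⟨Ideal.Quotient.mk K p, ⟨algebraMap A _ t, t, ht, rfl⟩⟩, ?_⟩
    change f q * ψ (algebraMap A (MvPolynomial (Fin n) A ⧸ K) t) = ψ (Ideal.Quotient.mk K p)
    rw [halgS, hψmk, hψmk, hψ₀, hψ₀, ← map_mul]
    exact congrArg f h
  · intro x y hxy
    obtain ⟨p, rfl⟩ := Ideal.Quotient.mk_surjective x
    obtain ⟨p', rfl⟩ := Ideal.Quotient.mk_surjective y
    have h1 : ψ (Ideal.Quotient.mk K p) = ψ (Ideal.Quotient.mk K p') := hxy
    rw [hψmk, hψmk, hψ₀, hψ₀, ← sub_eq_zero, ← map_sub, ← map_sub] at h1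
    have h2 : algebraMap (MvPolynomial (Fin n) A) (MvPolynomial (Fin n) B) (p - p') ∈
        K.map (algebraMap (MvPolynomial (Fin n) A) (MvPolynomial (Fin n) B)) := by
      rw [← hkermap]
      exact h1
    rw [IsLocalization.mem_map_algebraMap_iff (S.map (C (σ := Fin n)))] at h2
    obtain ⟨⟨⟨k, hk⟩, m⟩, h3⟩ := h2
    rw [← map_mul, IsLocalization.eq_iff_exists (S.map (C (σ := Fin n)))] at h3
    obtain ⟨m', h4⟩ := h3
    have h5 : ((m' : MvPolynomial (Fin n) A) * (m : MvPolynomial (Fin n) A)) * (p - p') ∈ K := by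
      have : ((m' : MvPolynomial (Fin n) A) * (m : MvPolynomial (Fin n) A)) * (p - p') =
          (m' : MvPolynomial (Fin n) A) * ((p - p') * (m : MvPolynomial (Fin n) A)) := by ring
      rw [this, h4]
      exact Ideal.mul_mem_left _ _ hk
    obtain ⟨t, ht, htm⟩ : ∃ t ∈ S, C t =
        ((m' : MvPolynomial (Fin n) A) * (m : MvPolynomial (Fin n) A)) := by
      obtain ⟨t₁, ht₁, h₁⟩ := m'.2
      obtain ⟨t₂, ht₂, h₂⟩ := m.2
      exact ⟨t₁ * t₂, S.mul_mem ht₁ ht₂, by rw [map_mul, h₁, h₂]⟩
    refine ⟨⟨algebraMap A _ t, t, ht, rfl⟩, ?_⟩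
    change algebraMap A (MvPolynomial (Fin n) A ⧸ K) t * _ = algebraMap A _ t * _
    rw [halgS, ← map_mul, ← map_mul, ← sub_eq_zero, ← map_sub, ← mul_sub,
      Ideal.Quotient.eq_zero_iff_mem, htm]
    exact h5

set_option maxHeartbeats 1000000 in
theorem exists_etale_descent [Algebra.Etale B D] :
    ∃ (B₀ : Type u) (_ : CommRing B₀) (_ : Algebra A B₀) (_ : Algebra B₀ D)
      (_ : IsScalarTower A B₀ D) (t : A),
      t ∈ S ∧ Algebra.FinitePresentation A B₀ ∧
      IsLocalization (Algebra.algebraMapSubmonoid B₀ S) D ∧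
      Algebra.Etale A (Localization.Away (algebraMap A B₀ t)) := by
  classical
  have hfpBD : Algebra.FinitePresentation B D := inferInstance
  obtain ⟨B₀, _, _, _, _, hfp, hloc⟩ := exists_fp_descent (A := A) (B := B) S D
  have hmem : ∀ q : PrimeSpectrum D,
      PrimeSpectrum.comap (algebraMap B₀ D) q ∈ Algebra.etaleLocus A B₀ := by
    intro q
    have h1 : IsLocalization.AtPrime (Localization.AtPrime q.asIdeal)
        (q.asIdeal.comap (algebraMap B₀ D)) :=
      IsLocalization.isLocalization_isLocalization_atPrime_isLocalization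
        (Algebra.algebraMapSubmonoid B₀ S) (Localization.AtPrime q.asIdeal) q.asIdeal
    let e : Localization.AtPrime (q.asIdeal.comap (algebraMap B₀ D)) ≃ₐ[B₀]
        Localization.AtPrime q.asIdeal :=
      IsLocalization.algEquiv (q.asIdeal.comap (algebraMap B₀ D)).primeCompl _ _
    have hAB : Algebra.FormallyEtale A B := Algebra.FormallyEtale.of_isLocalization S
    have hBD : Algebra.FormallyEtale B D := inferInstance
    have hDL : Algebra.FormallyEtale D (Localization.AtPrime q.asIdeal) :=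
      Algebra.FormallyEtale.of_isLocalization q.asIdeal.primeCompl
    have hAD : Algebra.FormallyEtale A D := Algebra.FormallyEtale.comp A B D
    have hAL : Algebra.FormallyEtale A (Localization.AtPrime q.asIdeal) :=
      Algebra.FormallyEtale.comp A D _
    change Algebra.FormallyEtale A (Localization.AtPrime (q.asIdeal.comap (algebraMap B₀ D)))
    exact Algebra.FormallyEtale.of_equiv (e.symm.restrictScalars A)
  have hopen : IsOpen (Algebra.etaleLocus A B₀) := Algebra.isOpen_etaleLocus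
  set J : Ideal B₀ := PrimeSpectrum.vanishingIdeal (Algebra.etaleLocus A B₀)ᶜ with hJ
  have hZ : PrimeSpectrum.zeroLocus (J : Set B₀) = (Algebra.etaleLocus A B₀)ᶜ := by
    rw [hJ, PrimeSpectrum.zeroLocus_vanishingIdeal_eq_closure, hopen.isClosed_compl.closure_eq]
  have htop : J.map (algebraMap B₀ D) = ⊤ := by
    by_contra hne
    obtain ⟨m, hm, hle⟩ := Ideal.exists_le_maximal _ hne
    have hmp : m.IsPrime := hm.isPrime
    have h1 : PrimeSpectrum.comap (algebraMap B₀ D) ⟨m, hmp⟩ ∈
        PrimeSpectrum.zeroLocus (J : Set B₀) := by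
      intro x hx
      exact hle (Ideal.mem_map_of_mem _ hx)
    rw [hZ] at h1
    exact h1 (hmem ⟨m, hmp⟩)
  have hnd : ¬ Disjoint ((Algebra.algebraMapSubmonoid B₀ S : Submonoid B₀) : Set B₀) (J : Set B₀) := by
    intro hd
    exact (IsLocalization.map_algebraMap_ne_top_iff_disjoint
      (Algebra.algebraMapSubmonoid B₀ S) D J).mpr hd htop
  obtain ⟨m, ⟨t, ht, rfl⟩, hmJ⟩ := Set.not_disjoint_iff.mp hnd
  refine ⟨B₀, inferInstance, inferInstance, inferInstance, inferInstance, t, ht, hfp, hloc, ?_⟩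
  apply Algebra.basicOpen_subset_etaleLocus_iff_etale.mp
  intro p hp
  by_contra hpe
  have h1 : p ∈ PrimeSpectrum.zeroLocus (J : Set B₀) := by
    rw [hZ]
    exact hpe
  exact hp (h1 hmJ)

end Groth.Agent.Lib.Helper4.EtLocDescent
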