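import Groth.Agent.Lib.Helper4.RegularGlobalDim
import Groth.Agent.S5789

/-! Lowering projective dimension when `Ext^p(M, A)` vanishes. -/

set_option autoImplicit false
universe u

open CategoryTheory Abelian IsLocalRing

namespace Groth.Agent.Lib.Helper4

/-- If `pd M ≤ p + 1` and `Ext^{p+1}(M, A) = 0` then `pd M ≤ p` (`A` Noetherian, `M` finite). -/
theorem hasProjectiveDimensionLT_of_ext_self_subsingleton (A : Type u) [CommRing A]
    [IsNoetherianRing A] (M : Type u) [AddCommGroup M] [Module A M] [Module.Finite A M] (p : ℕ)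
    (hpd : HasProjectiveDimensionLT (ModuleCat.of A M) (p + 2))
    (hext : Subsingleton (Ext (ModuleCat.of A M) (ModuleCat.of A A) (p + 1))) :
    HasProjectiveDimensionLT (ModuleCat.of A M) (p + 1) := by
  rw [Groth.Agent.S5789.result A M p]
  intro I
  let S : ShortComplex (ModuleCat.{u} A) :=
    ShortComplex.mk (ModuleCat.ofHom (Submodule.subtype I)) (ModuleCat.ofHom (Submodule.mkQ I)) (by
      ext x
      exact (Submodule.Quotient.mk_eq_zero I).2 x.2)
  have hS : S.ShortExact := ModuleCat.shortComplex_shortExact S (LinearMap.exact_subtype_mkQ I)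
    (Submodule.injective_subtype I) (Submodule.mkQ_surjective I)
  refine ⟨fun x y => ?_⟩
  have key : ∀ z : Ext (ModuleCat.of A M) (ModuleCat.of A (A ⧸ I)) (p + 1), z = 0 := by
    intro z
    have h1 : Subsingleton (Ext (ModuleCat.of A M) S.X₁ (p + 2)) :=
      HasProjectiveDimensionLT.subsingleton _ (p + 2) (p + 2) le_rfl _
    obtain ⟨w, hw⟩ := Ext.covariant_sequence_exact₃ (ModuleCat.of A M) hS z rfl
      (Subsingleton.elim _ _)
    have hw0 : w = 0 := Subsingleton.elim _ _
    rw [← hw, hw0, Ext.zero_comp]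
  rw [key x, key y]

end Groth.Agent.Lib.Helper4
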