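import Groth.Prelude.Def_FEt
import Mathlib.AlgebraicGeometry.Pullbacks
import Mathlib.AlgebraicGeometry.Morphisms.Etale
import Mathlib.AlgebraicGeometry.Morphisms.Finite
import Mathlib.RingTheory.RingHom.Etale
import Mathlib.RingTheory.RingHom.Finite

/-!
# Finite étale covers of affine schemes: translation to algebra
-/

set_option autoImplicit false

namespace Groth.Agent.Lib.Helper4.FEtAff

universe u
open CategoryTheory CategoryTheory.Limits AlgebraicGeometry TensorProduct

section Obj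

variable (A : Type u) [CommRing A]

theorem prop_specMap (B : Type u) [CommRing B] [Algebra A B] [Module.Finite A B]
    [Algebra.Etale A B] :
    FEt.prop.{u} (Spec.map (CommRingCat.ofHom (algebraMap A B))) := by
  refine ⟨?_, ?_⟩
  · rw [IsFinite.SpecMap_iff]
    exact RingHom.finite_algebraMap.mpr inferInstance
  · rw [HasRingHomProperty.Spec_iff (P := @Etale)]
    exact RingHom.etale_algebraMap.mpr inferInstance

/-- The finite étale cover `Spec B → Spec A`. -/
noncomputable def specObj (B : Type u) [CommRing B] [Algebra A B] [Module.Finite A B]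
    [Algebra.Etale A B] : FEt.Cat (Spec (CommRingCat.of A)) :=
  MorphismProperty.Over.mk ⊤ (Spec.map (CommRingCat.ofHom (algebraMap A B))) (prop_specMap A B)

theorem exists_iso_specObj (Y : FEt.Cat (Spec (CommRingCat.of A))) :
    ∃ (B : Type u) (_ : CommRing B) (_ : Algebra A B) (_ : Module.Finite A B)
      (_ : Algebra.Etale A B), Nonempty (Y ≅ specObj A B) := by
  let X : Scheme.{u} := Y.left
  let f : X ⟶ Spec (CommRingCat.of A) := Y.hom
  have hfin : IsFinite f := Y.prop.1
  have het : Etale f := Y.prop.2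
  have haff : IsAffine X := isAffine_of_isAffineHom f
  let φ : CommRingCat.of A ⟶ Γ(X, ⊤) :=
    (Scheme.ΓSpecIso (CommRingCat.of A)).inv ≫ f.appTop
  have hY : f = X.isoSpec.hom ≫ Spec.map φ := by
    have h1 := Scheme.isoSpec_hom_naturality f
    rw [Scheme.isoSpec_Spec_hom] at h1
    have h2 : f = X.isoSpec.hom ≫ Spec.map f.appTop ≫
        Spec.map (Scheme.ΓSpecIso (CommRingCat.of A)).inv := by
      rw [← Category.assoc, h1, Category.assoc, ← Spec.map_comp, Iso.inv_hom_id, Spec.map_id,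
        Category.comp_id]
    rw [h2, ← Spec.map_comp]
  have hφ : FEt.prop.{u} (Spec.map φ) := by
    have : Spec.map φ = X.isoSpec.inv ≫ f := by rw [hY, Iso.inv_hom_id_assoc]
    rw [this]
    exact ⟨inferInstance, inferInstance⟩
  let _ : Algebra A Γ(X, ⊤) := φ.hom.toAlgebra
  have hfinB : Module.Finite A Γ(X, ⊤) := by
    have := (IsFinite.SpecMap_iff φ).mp hφ.1
    exact this
  have hetB : Algebra.Etale A Γ(X, ⊤) := by
    have := (HasRingHomProperty.Spec_iff (P := @Etale)).mp hφ.2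
    exact this
  refine ⟨Γ(X, ⊤), inferInstance, inferInstance, hfinB, hetB, ⟨?_⟩⟩
  exact MorphismProperty.Over.isoMk X.isoSpec hY.symm


end Obj

section Hom
variable (A : Type u) [CommRing A]
variable (B₁ B₂ : Type u) [CommRing B₁] [CommRing B₂] [Algebra A B₁] [Algebra A B₂]
  [Module.Finite A B₁] [Module.Finite A B₂] [Algebra.Etale A B₁] [Algebra.Etale A B₂]

/-- The morphism of covers induced by an algebra map. -/
noncomputable def specHom (φ : B₂ →ₐ[A] B₁) : specObj A B₁ ⟶ specObj A B₂ :=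
  MorphismProperty.Over.homMk (Spec.map (CommRingCat.ofHom φ.toRingHom)) (by
    show Spec.map _ ≫ Spec.map _ = Spec.map _
    rw [← Spec.map_comp, ← CommRingCat.ofHom_comp]
    congr 2
    exact φ.comp_algebraMap) trivial

@[simp] theorem specHom_left (φ : B₂ →ₐ[A] B₁) :
    (specHom A B₁ B₂ φ).left = Spec.map (CommRingCat.ofHom φ.toRingHom) := rfl

variable (I : Ideal A)

/-- The closed immersion `Spec (A/I) → Spec A`. -/
noncomputable abbrev ι : Spec (CommRingCat.of (A ⧸ I)) ⟶ Spec (CommRingCat.of A) :=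
  Spec.map (CommRingCat.ofHom (Ideal.Quotient.mk I))

/-- `includeRight` as a ring hom. -/
abbrev inR (B : Type u) [CommRing B] [Algebra A B] : (A ⧸ I) →+* B ⊗[A] (A ⧸ I) :=
  (Algebra.TensorProduct.includeRight : (A ⧸ I) →ₐ[A] B ⊗[A] (A ⧸ I)).toRingHom

/-- `includeLeft` as a ring hom. -/
abbrev inL (B : Type u) [CommRing B] [Algebra A B] : B →+* B ⊗[A] (A ⧸ I) :=
  Algebra.TensorProduct.includeLeftRingHom

theorem pb_hom_snd (B : Type u) [CommRing B] [Algebra A B] :
    (pullbackSpecIso A B (A ⧸ I)).hom ≫ Spec.map (CommRingCat.ofHom (inR A I B)) =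
      pullback.snd (Spec.map (CommRingCat.ofHom (algebraMap A B))) (ι A I) :=
  pullbackSpecIso_hom_snd A B (A ⧸ I)

theorem pb_inv_snd (B : Type u) [CommRing B] [Algebra A B] :
    (pullbackSpecIso A B (A ⧸ I)).inv ≫
      pullback.snd (Spec.map (CommRingCat.ofHom (algebraMap A B))) (ι A I) =
      Spec.map (CommRingCat.ofHom (inR A I B)) :=
  pullbackSpecIso_inv_snd A B (A ⧸ I)

theorem pb_hom_fst (B : Type u) [CommRing B] [Algebra A B] :
    (pullbackSpecIso A B (A ⧸ I)).hom ≫ Spec.map (CommRingCat.ofHom (inL A I B)) =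
      pullback.fst (Spec.map (CommRingCat.ofHom (algebraMap A B))) (ι A I) :=
  pullbackSpecIso_hom_fst A B (A ⧸ I)

theorem pb_inv_fst (B : Type u) [CommRing B] [Algebra A B] :
    (pullbackSpecIso A B (A ⧸ I)).inv ≫
      pullback.fst (Spec.map (CommRingCat.ofHom (algebraMap A B))) (ι A I) =
      Spec.map (CommRingCat.ofHom (inL A I B)) :=
  pullbackSpecIso_inv_fst A B (A ⧸ I)

theorem exists_map_eq
    (g : (FEt.restrict (ι A I)).obj (specObj A B₁) ⟶ (FEt.restrict (ι A I)).obj (specObj A B₂))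
    (hlift : ∀ ψ : B₂ ⊗[A] (A ⧸ I) →+* B₁ ⊗[A] (A ⧸ I),
      ψ.comp (inR A I B₂) = inR A I B₁ →
      ∃ φ : B₂ →ₐ[A] B₁, ψ.comp (inL A I B₂) = (inL A I B₁).comp φ.toRingHom) :
    ∃ φ : B₂ →ₐ[A] B₁, (FEt.restrict (ι A I)).map (specHom A B₁ B₂ φ) = g := by
  let p₁ := pullbackSpecIso A B₁ (A ⧸ I)
  let p₂ := pullbackSpecIso A B₂ (A ⧸ I)
  let gl : pullback (Spec.map (CommRingCat.ofHom (algebraMap A B₁))) (ι A I) ⟶
    pullback (Spec.map (CommRingCat.ofHom (algebraMap A B₂))) (ι A I) := g.left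
  have hgl : gl ≫ pullback.snd _ _ = pullback.snd _ _ := Over.w g.hom
  let γ : Spec (CommRingCat.of (B₁ ⊗[A] (A ⧸ I))) ⟶ Spec (CommRingCat.of (B₂ ⊗[A] (A ⧸ I))) :=
    p₁.inv ≫ gl ≫ p₂.hom
  let ψc := Spec.preimage γ
  have hψc : Spec.map ψc = γ := Spec.map_preimage γ
  have hgl' : gl = p₁.hom ≫ Spec.map ψc ≫ p₂.inv := by
    rw [hψc]; simp only [γ, Category.assoc, Iso.hom_inv_id, Category.comp_id, Iso.hom_inv_id_assoc]
  have hR : ψc.hom.comp (inR A I B₂) = inR A I B₁ := by
    have h1 : Spec.map ψc ≫ Spec.map (CommRingCat.ofHom (inR A I B₂)) =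
        Spec.map (CommRingCat.ofHom (inR A I B₁)) := by
      rw [hψc]
      simp only [γ, Category.assoc]
      rw [pb_hom_snd A I B₂, hgl]
      exact pb_inv_snd A I B₁
    rw [← Spec.map_comp] at h1
    have h2 := Spec.map_injective h1
    have h3 := congrArg CommRingCat.Hom.hom h2
    simpa using h3
  obtain ⟨φ, hφ⟩ := hlift ψc.hom hR
  refine ⟨φ, ?_⟩
  apply MorphismProperty.Over.Hom.ext
  show ((FEt.restrict (ι A I)).map (specHom A B₁ B₂ φ)).left = gl
  have hφ' : CommRingCat.ofHom (inL A I B₂) ≫ ψc =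
      CommRingCat.ofHom φ.toRingHom ≫ CommRingCat.ofHom (inL A I B₁) := by
    ext x
    exact congrArg (fun f => f x) hφ
  apply pullback.hom_ext
  · have e1 : ((FEt.restrict (ι A I)).map (specHom A B₁ B₂ φ)).left ≫ pullback.fst _ _ =
        pullback.fst _ _ ≫ (specHom A B₁ B₂ φ).left := by
      dsimp [FEt.restrict]
      exact pullback.lift_fst _ _ _
    refine e1.trans ?_
    show pullback.fst (Spec.map (CommRingCat.ofHom (algebraMap A B₁))) (ι A I) ≫
      Spec.map (CommRingCat.ofHom φ.toRingHom) =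
      gl ≫ pullback.fst (Spec.map (CommRingCat.ofHom (algebraMap A B₂))) (ι A I)
    rw [hgl']
    simp only [Category.assoc]
    rw [pb_inv_fst A I B₂, ← Spec.map_comp, hφ', Spec.map_comp, ← Category.assoc,
      pb_hom_fst A I B₁]
  · have e1 : ((FEt.restrict (ι A I)).map (specHom A B₁ B₂ φ)).left ≫ pullback.snd _ _ =
        pullback.snd _ _ := by
      dsimp [FEt.restrict]
      exact pullback.lift_snd _ _ _
    refine e1.trans ?_
    exact hgl.symm

end Hom


section Ess
variable (A : Type u) [CommRing A] (I : Ideal A)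

theorem restrict_specObj_iso (B : Type u) [CommRing B] [Algebra A B] [Module.Finite A B]
    [Algebra.Etale A B]
    (C : Type u) [CommRing C] [Algebra (A ⧸ I) C] [Module.Finite (A ⧸ I) C]
    [Algebra.Etale (A ⧸ I) C]
    (e : B ⊗[A] (A ⧸ I) ≃+* C) (he : e.toRingHom.comp (inR A I B) = algebraMap (A ⧸ I) C) :
    Nonempty ((FEt.restrict (ι A I)).obj (specObj A B) ≅ specObj (A ⧸ I) C) := by
  let q : Spec (CommRingCat.of (B ⊗[A] (A ⧸ I))) ≅ Spec (CommRingCat.of C) :=
    Scheme.Spec.mapIso e.symm.toCommRingCatIso.op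
  have hq : q.hom = Spec.map (CommRingCat.ofHom e.symm.toRingHom) := rfl
  let p : pullback (Spec.map (CommRingCat.ofHom (algebraMap A B))) (ι A I) ≅
      Spec (CommRingCat.of (B ⊗[A] (A ⧸ I))) := pullbackSpecIso A B (A ⧸ I)
  refine ⟨MorphismProperty.Over.isoMk (p ≪≫ q) ?_⟩
  show (p.hom ≫ q.hom) ≫ Spec.map (CommRingCat.ofHom (algebraMap (A ⧸ I) C)) =
    pullback.snd (Spec.map (CommRingCat.ofHom (algebraMap A B))) (ι A I)
  rw [hq, Category.assoc, ← Spec.map_comp, ← CommRingCat.ofHom_comp]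
  have : e.symm.toRingHom.comp (algebraMap (A ⧸ I) C) = inR A I B := by
    rw [← he]
    refine RingHom.ext fun x => ?_
    simp
  rw [this]
  exact pb_hom_snd A I B

end Ess

end Groth.Agent.Lib.Helper4.FEtAff
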