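import Mathlib
import Groth.Prelude.Def_Hensel
import Groth.Prelude.Def_EssEt
import Groth.Agent.Lib.Helper4.EssEtale
import Groth.Agent.Lib.Helper4.HenselPairLE
import Groth.Agent.Lib.Helper4.HznQF
import Groth.Agent.Lib.Helper4.HzsSub3

/-!
# Galois correspondence for finite étale local algebras over a henselian local domain

For a henselian local domain `A` and a finite étale local domain `E` over `A` whose residue
extension is Galois, the fraction field extension is Galois with the same group, and for every
intermediate field `L` the ring `E ∩ L` is a finite étale `A`-algebra.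
-/

set_option autoImplicit false
set_option linter.unusedSectionVars false
set_option linter.overlappingInstances false
universe u
open IsLocalRing TensorProduct

namespace Groth.Agent.Lib.Helper4.FEtGal

/-- A local étale algebra (with local structure map) is essentially étale. -/
theorem essEtale_of_etale (A B : Type u) [CommRing A] [IsLocalRing A] [CommRing B] [IsLocalRing B]
    [Algebra A B] [IsLocalHom (algebraMap A B)] [Algebra.Etale A B] :
    EGA4loc.IsEssentiallyEtale A B := by
  refine ⟨B, inferInstance, inferInstance, maximalIdeal B, inferInstance, inferInstance,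
    IsLocalRing.maximalIdeal_comap (algebraMap A B), ⟨?_⟩⟩
  have hM : (maximalIdeal B).primeCompl ≤ IsUnit.submonoid B := by
    intro x hx
    exact (IsLocalRing.notMem_maximalIdeal.mp hx)
  exact (IsLocalization.atUnits B (maximalIdeal B).primeCompl
    (S := Localization.AtPrime (maximalIdeal B)) hM).restrictScalars A

/-- A finite algebra over a local ring whose quotient by `𝔪 B` is a field is local. -/
theorem isLocalRing_of_surjective_field {A B C : Type u} [CommRing A] [IsLocalRing A] [CommRing B]
    [Algebra A B] [Algebra.IsIntegral A B] [Field C] [Algebra A C] (ψ₀ : B →ₐ[A] C)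
    (hs : Function.Surjective ψ₀)
    (hk : RingHom.ker ψ₀ = (maximalIdeal A).map (algebraMap A B)) :
    ∃ _ : IsLocalRing B, IsLocalHom (algebraMap A B) ∧ ∀ b, ψ₀ b = 0 ↔ b ∈ maximalIdeal B := by
  have hmax : (RingHom.ker ψ₀).IsMaximal := RingHom.ker_isMaximal_of_surjective ψ₀ hs
  have huniq : ∀ 𝔫 : Ideal B, 𝔫.IsMaximal → 𝔫 = RingHom.ker ψ₀ := by
    intro 𝔫 h𝔫
    have h1 : (𝔫.comap (algebraMap A B)).IsMaximal :=
      Ideal.isMaximal_comap_of_isIntegral_of_isMaximal 𝔫
    have h2 : 𝔫.comap (algebraMap A B) = maximalIdeal A := IsLocalRing.eq_maximalIdeal h1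
    have h3 : RingHom.ker ψ₀ ≤ 𝔫 := by
      rw [hk, Ideal.map_le_iff_le_comap, h2]
    exact (hmax.eq_of_le h𝔫.ne_top h3).symm
  have hloc : IsLocalRing B := IsLocalRing.of_unique_max_ideal ⟨_, hmax, huniq⟩
  have hm : maximalIdeal B = RingHom.ker ψ₀ := huniq _ (maximalIdeal.isMaximal B)
  refine ⟨hloc, ?_, fun b => ?_⟩
  · constructor
    intro a ha
    by_contra hna
    have h1 : a ∈ maximalIdeal A := (IsLocalRing.mem_maximalIdeal a).mpr hna
    have h2 : algebraMap A B a ∈ maximalIdeal B := by
      rw [hm, hk]; exact Ideal.mem_map_of_mem _ h1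
    exact (IsLocalRing.mem_maximalIdeal _).mp h2 ha
  · rw [hm]; exact Iff.rfl

/-- Over a henselian local ring, every finite separable extension of the residue field is the
residue field of a finite étale local algebra. -/
theorem exists_finiteEtale_of_field (A : Type u) [CommRing A] [HenselianLocalRing A]
    (k' : Type u) [Field k'] [Algebra (ResidueField A) k'] [FiniteDimensional (ResidueField A) k']
    [Algebra.IsSeparable (ResidueField A) k'] [Algebra A k'] [IsScalarTower A (ResidueField A) k'] :
    ∃ (B : Type u) (_ : CommRing B) (_ : Algebra A B) (_ : IsLocalRing B), Module.Finite A B ∧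
      Algebra.Etale A B ∧ IsLocalHom (algebraMap A B) ∧
      ∃ ψ₀ : B →ₐ[A] k', Function.Surjective ψ₀ ∧ ∀ b, ψ₀ b = 0 ↔ b ∈ maximalIdeal B := by
  let _ : Algebra (A ⧸ maximalIdeal A) k' := inferInstanceAs (Algebra (ResidueField A) k')
  have : IsScalarTower A (A ⧸ maximalIdeal A) k' :=
    inferInstanceAs (IsScalarTower A (ResidueField A) k')
  have : Module.Finite (A ⧸ maximalIdeal A) k' :=
    inferInstanceAs (Module.Finite (ResidueField A) k')
  have hfe : Algebra.FormallyEtale (ResidueField A) k' := Algebra.FormallyEtale.of_isSeparable _ _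
  have hfp : Algebra.FinitePresentation (ResidueField A) k' :=
    Algebra.FinitePresentation.of_finiteType.mp inferInstance
  have het : Algebra.Etale (ResidueField A) k' := ⟨hfe, hfp⟩
  have : Algebra.Etale (A ⧸ maximalIdeal A) k' := het
  obtain ⟨B, _, _, hfin, hetB, ψ₀, hs, hk⟩ :=
    HenselPair.exists_finite_etale_lift (maximalIdeal A) k'
  have : Algebra.IsIntegral A B := inferInstance
  obtain ⟨hloc, hlh, hker⟩ := isLocalRing_of_surjective_field ψ₀ hs hk
  exact ⟨B, inferInstance, inferInstance, hloc, hfin, hetB, hlh, ψ₀, hs, hker⟩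

/-- Elements of `𝔪 C` die in `k ⊗ C`. -/
theorem one_tmul_eq_zero_of_mem_map {R C : Type*} [CommRing R] [IsLocalRing R] [CommRing C]
    [Algebra R C] (c : C) (hc : c ∈ (maximalIdeal R).map (algebraMap R C)) :
    (1 : ResidueField R) ⊗ₜ[R] c = 0 := by
  refine Submodule.span_induction ?_ ?_ ?_ ?_ hc
  · rintro _ ⟨μ, hμ, rfl⟩
    rw [Algebra.algebraMap_eq_smul_one, ← TensorProduct.smul_tmul, Algebra.smul_def, mul_one]
    have : algebraMap R (ResidueField R) μ = 0 := (residue_eq_zero_iff μ).mpr hμ
    rw [this, TensorProduct.zero_tmul]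
  · exact TensorProduct.tmul_zero _ _
  · intro a b _ _ ha hb
    rw [TensorProduct.tmul_add, ha, hb, add_zero]
  · intro a b _ hb
    have : (1 : ResidueField R) ⊗ₜ[R] (a • b) =
        ((1 : ResidueField R) ⊗ₜ[R] a) * ((1 : ResidueField R) ⊗ₜ[R] b) := by
      rw [Algebra.TensorProduct.tmul_mul_tmul, one_mul, smul_eq_mul]
    rw [this, hb, mul_zero]

/-- For a finite free local algebra with `𝔪_A E = 𝔪_E`, the residue degree equals the rank. -/
theorem finrank_residueField_eq (A E : Type u) [CommRing A] [IsLocalRing A] [CommRing E]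
    [IsLocalRing E] [Algebra A E] [IsLocalHom (algebraMap A E)] [Module.Finite A E]
    [Module.Free A E]
    (hm : (maximalIdeal A).map (algebraMap A E) = maximalIdeal E) :
    Module.finrank (ResidueField A) (ResidueField E) = Module.finrank A E := by
  let k := ResidueField A
  rw [← Module.finrank_baseChange (R := k) (S := A) (M' := E)]
  let φ : k ⊗[A] E →ₗ[k] ResidueField E :=
    LinearMap.liftBaseChange k (IsScalarTower.toAlgHom A E (ResidueField E)).toLinearMap
  have hφ : ∀ e : E, φ (1 ⊗ₜ e) = residue E e := fun e => by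
    simp [φ]
  have hinj : Function.Injective φ := by
    rw [injective_iff_map_eq_zero]
    intro z hz
    obtain ⟨e, rfl⟩ := TensorProduct.mk_surjective A E k residue_surjective z
    have h1 : residue E e = 0 := (hφ e).symm.trans hz
    rw [residue_eq_zero_iff, ← hm] at h1
    exact one_tmul_eq_zero_of_mem_map e h1
  have hsurj : Function.Surjective φ := by
    intro y
    obtain ⟨e, rfl⟩ := residue_surjective y
    exact ⟨1 ⊗ₜ e, hφ e⟩
  exact (LinearEquiv.ofBijective φ ⟨hinj, hsurj⟩).finrank_eq.symm

section Red

variable (A E : Type u) [CommRing A] [IsLocalRing A] [CommRing E] [IsLocalRing E] [Algebra A E]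
  [IsLocalHom (algebraMap A E)]

/-- Reduction of automorphisms to the residue field. -/
noncomputable def red : (E ≃ₐ[A] E) →* (ResidueField E ≃ₐ[ResidueField A] ResidueField E) where
  toFun σ := AlgEquiv.ofRingEquiv (f := ResidueField.mapEquiv σ.toRingEquiv) (by
    intro x
    obtain ⟨a, rfl⟩ := residue_surjective x
    rw [ResidueField.algebraMap_residue]
    show residue E (σ (algebraMap A E a)) = _
    rw [σ.commutes])
  map_one' := by
    ext x
    obtain ⟨e, rfl⟩ := residue_surjective x
    rfl
  map_mul' σ τ := by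
    ext x
    obtain ⟨e, rfl⟩ := residue_surjective x
    rfl

theorem red_residue (σ : E ≃ₐ[A] E) (e : E) : red A E σ (residue E e) = residue E (σ e) := rfl

variable [Algebra.Etale A E]

theorem red_injective : Function.Injective (red A E) := by
  intro σ τ h
  have hE := essEtale_of_etale A E
  have h1 : σ.toAlgHom = τ.toAlgHom := by
    refine EssEtale.algHom_ext hE σ.toAlgHom τ.toAlgHom fun x => ?_
    rw [← residue_eq_zero_iff, map_sub, sub_eq_zero]
    have := congrArg (fun g => g (residue E x)) h
    simpa [red_residue] using this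
  ext x
  exact congrArg (fun g : E →ₐ[A] E => g x) h1

theorem red_surjective [HenselianLocalRing A] [Module.Finite A E] :
    Function.Surjective (red A E) := by
  intro g
  have hE := essEtale_of_etale A E
  have hEh : HenselianLocalRing E := Hzn.henselianLocalRing_of_isIntegral A E
  have hα : (g : ResidueField E →+* ResidueField E).comp
      (ResidueField.map (algebraMap A E)) = ResidueField.map (algebraMap A E) := by
    ext x
    obtain ⟨a, rfl⟩ := residue_surjective x
    show g (algebraMap (ResidueField A) (ResidueField E) (residue A a)) = _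
    rw [g.commutes]
    rfl
  obtain ⟨ψ, hψ⟩ := EssEtale.exists_lift hE E (g : ResidueField E →+* ResidueField E) hα
  -- `ψ` is surjective by Nakayama
  have hm : (maximalIdeal A).map (algebraMap A E) = maximalIdeal E := EssEtale.map_maximalIdeal hE
  have hsurj : Function.Surjective ψ := by
    have h1 : (⊤ : Submodule A E) ≤ LinearMap.range ψ.toLinearMap := by
      refine Submodule.le_of_le_smul_of_le_jacobson_bot (I := maximalIdeal A) Module.Finite.fg_top
        (by rw [IsLocalRing.jacobson_eq_maximalIdeal ⊥ bot_ne_top]) ?_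
      intro y _
      obtain ⟨z, hz⟩ := g.surjective (residue E y)
      obtain ⟨x, rfl⟩ := residue_surjective z
      have h2 : y - ψ x ∈ maximalIdeal E := by
        rw [← residue_eq_zero_iff, map_sub, hψ, sub_eq_zero]
        exact hz.symm
      rw [← hm] at h2
      have h2' : y - ψ x ∈ maximalIdeal A • (⊤ : Submodule A E) := by
        rw [Ideal.smul_top_eq_map]; exact h2
      have h3 : y = ψ x + (y - ψ x) := by ring
      rw [h3]
      exact Submodule.add_mem_sup ⟨x, rfl⟩ h2'
    intro y
    exact h1 (Submodule.mem_top (x := y))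
  have hinj : Function.Injective ψ :=
    OrzechProperty.injective_of_surjective_endomorphism ψ.toLinearMap hsurj
  refine ⟨AlgEquiv.ofBijective ψ ⟨hinj, hsurj⟩, ?_⟩
  ext x
  obtain ⟨e, rfl⟩ := residue_surjective x
  rw [red_residue]
  exact hψ e

end Red

section Gal

variable (A E : Type u) [CommRing A] [HenselianLocalRing A] [IsDomain A]
  [CommRing E] [IsLocalRing E] [IsDomain E] [Algebra A E] [IsLocalHom (algebraMap A E)]
  [Module.Finite A E] [Algebra.Etale A E] [IsGalois (ResidueField A) (ResidueField E)]
  (K M : Type*) [Field K] [Field M] [Algebra A K] [IsFractionRing A K] [Algebra E M]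
  [IsFractionRing E M] [Algebra A M] [IsScalarTower A E M] [Algebra K M] [IsScalarTower A K M]

theorem free_of_etale : Module.Free A E := Module.free_of_flat_of_isLocalRing

theorem card_aut_eq : Nat.card (E ≃ₐ[A] E) = Module.finrank K M := by
  have hfree : Module.Free A E := free_of_etale A E
  have hE := essEtale_of_etale A E
  have hm : (maximalIdeal A).map (algebraMap A E) = maximalIdeal E := EssEtale.map_maximalIdeal hE
  rw [IsFractionRing.finrank_eq A K E M, ← finrank_residueField_eq A E hm,
    ← IsGalois.card_aut_eq_finrank]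
  exact Nat.card_congr (Equiv.ofBijective (red A E) ⟨red_injective A E, red_surjective A E⟩)

include A E in
theorem finiteDimensional_fraction : FiniteDimensional K M := by
  have hfree : Module.Free A E := free_of_etale A E
  apply Module.finite_of_finrank_pos
  rw [IsFractionRing.finrank_eq A K E M]
  exact Module.finrank_pos

/-- Extension of automorphisms to the fraction field. -/
noncomputable abbrev ext : (E ≃ₐ[A] E) →* (M ≃ₐ[K] M) :=
  IsFractionRing.fieldEquivOfAlgEquivHom K M

theorem ext_injective : Function.Injective (ext A E K M) :=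
  IsFractionRing.fieldEquivOfAlgEquivHom_injective A E K M

theorem ext_algebraMap (σ : E ≃ₐ[A] E) (e : E) :
    ext A E K M σ (algebraMap E M e) = algebraMap E M (σ e) :=
  IsFractionRing.fieldEquivOfAlgEquiv_algebraMap K M M σ e

theorem isGalois_fraction : IsGalois K M ∧ Function.Bijective (ext A E K M) := by
  have hfd : FiniteDimensional K M := finiteDimensional_fraction A E K M
  have h1 : Nat.card (E ≃ₐ[A] E) ≤ Nat.card (M ≃ₐ[K] M) :=
    Nat.card_le_card_of_injective _ (ext_injective A E K M)
  have h2 : Nat.card (M ≃ₐ[K] M) ≤ Module.finrank K M := by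
    rw [Nat.card_eq_fintype_card]
    exact AlgEquiv.card_le
  have h3 := card_aut_eq A E K M
  refine ⟨IsGalois.of_card_aut_eq_finrank K M (le_antisymm h2 (h3 ▸ h1)), ?_⟩
  refine (ext_injective A E K M).bijective_of_nat_card_le ?_
  rw [h3]
  exact h2

theorem mem_fixingSubgroup_iff' {F L : Type*} [Field F] [Field L] [Algebra F L]
    (K' : IntermediateField F L) (σ : L ≃ₐ[F] L) :
    σ ∈ K'.fixingSubgroup ↔ ∀ x ∈ K', σ x = x :=
  _root_.mem_fixingSubgroup_iff _

/-- **Galois correspondence for a Galois finite étale local extension of a henselian local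
domain**: the intersection of `E` with any intermediate field of the fraction field extension is a
finite étale `A`-subalgebra. -/
theorem exists_subalgebra_eq_inter (L : IntermediateField K M) :
    ∃ E'' : Subalgebra A E, Module.Finite A E'' ∧ Algebra.Etale A E'' ∧
      (E'' : Set E) = (algebraMap E M) ⁻¹' (L : Set M) := by
  classical
  obtain ⟨hgal, hbij⟩ := isGalois_fraction A E K M
  have hfd : FiniteDimensional K M := finiteDimensional_fraction A E K M
  have hE := essEtale_of_etale A E
  have hEh : HenselianLocalRing E := Hzn.henselianLocalRing_of_isIntegral A E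
  let H : Subgroup (M ≃ₐ[K] M) := L.fixingSubgroup
  let HG : Subgroup (E ≃ₐ[A] E) := H.comap (ext A E K M)
  let Hbar : Subgroup (ResidueField E ≃ₐ[ResidueField A] ResidueField E) := HG.map (red A E)
  let k'' : IntermediateField (ResidueField A) (ResidueField E) :=
    IntermediateField.fixedField Hbar
  let _ : Algebra A k'' := ((algebraMap (ResidueField A) k'').comp (residue A)).toAlgebra
  have : IsScalarTower A (ResidueField A) k'' := IsScalarTower.of_algebraMap_eq fun _ => rfl
  obtain ⟨B, _, _, hBloc, hBfin, hBet, hBlh, ψ₀, hψ₀s, hψ₀k⟩ :=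
    exists_finiteEtale_of_field A k''
  have hB := essEtale_of_etale A B
  let ψ₀r : B →+* k'' := ψ₀
  have hloc₀ : IsLocalHom ψ₀r := by
    constructor
    intro b hb
    by_contra hnb
    have h1 : ψ₀ b = 0 := (hψ₀k b).mpr ((IsLocalRing.mem_maximalIdeal b).mpr hnb)
    have h2 : ψ₀r b = 0 := h1
    rw [h2] at hb
    exact not_isUnit_zero hb
  let α : ResidueField B →+* ResidueField E :=
    (k''.val : k'' →+* ResidueField E).comp (ResidueField.lift ψ₀r)
  have hα_res : ∀ b, α (residue B b) = ((ψ₀ b : k'') : ResidueField E) := fun b => rfl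
  have hα : α.comp (ResidueField.map (algebraMap A B)) = ResidueField.map (algebraMap A E) := by
    ext x
    obtain ⟨a, rfl⟩ := residue_surjective x
    show α (residue B (algebraMap A B a)) = residue E (algebraMap A E a)
    rw [hα_res, ψ₀.commutes]
    rfl
  obtain ⟨ψ, hψ⟩ := EssEtale.exists_lift hB E α hα
  have hψres : ∀ b, residue E (ψ b) = ((ψ₀ b : k'') : ResidueField E) :=
    fun b => (hψ b).trans (hα_res b)
  -- `E` as a `B`-algebra
  let _ : Algebra B E := ψ.toRingHom.toAlgebra
  have : IsScalarTower A B E := IsScalarTower.of_algebraMap_eq fun a => (ψ.commutes a).symm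
  have : Algebra.Etale B E := Algebra.Etale.of_restrictScalars A B E
  have hlocψ : IsLocalHom (algebraMap B E) := by
    constructor
    intro b hb
    by_contra hnb
    have h1 : ψ₀ b = 0 := (hψ₀k b).mpr ((IsLocalRing.mem_maximalIdeal b).mpr hnb)
    have h2 : residue E (ψ b) = 0 := by rw [hψres, h1]; rfl
    have h3 : ψ b ∈ maximalIdeal E := (residue_eq_zero_iff _).mp h2
    exact (IsLocalRing.mem_maximalIdeal _).mp h3 hb
  have hff : Module.FaithfullyFlat B E := Module.FaithfullyFlat.of_flat_of_isLocalHom
  have hψinj : Function.Injective ψ := FaithfulSMul.algebraMap_injective B E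
  -- (h) the stabilizer of `ψ B`
  have hfix : ∀ σ : E ≃ₐ[A] E, σ ∈ HG ↔ ∀ b, σ (ψ b) = ψ b := by
    intro σ
    constructor
    · intro hσ b
      have h1 : σ.toAlgHom.comp ψ = ψ := by
        refine EssEtale.algHom_ext hB _ _ fun x => ?_
        rw [← residue_eq_zero_iff, map_sub, sub_eq_zero]
        show residue E (σ (ψ x)) = residue E (ψ x)
        rw [← red_residue, hψres]
        have hx : ((ψ₀ x : k'') : ResidueField E) ∈ IntermediateField.fixedField Hbar := (ψ₀ x).2
        rw [IntermediateField.mem_fixedField_iff] at hx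
        exact hx _ (Subgroup.mem_map_of_mem _ hσ)
      exact congrArg (fun g : B →ₐ[A] E => g b) h1
    · intro hσ
      have h1 : red A E σ ∈ k''.fixingSubgroup := by
        rw [mem_fixingSubgroup_iff']
        intro x hx
        obtain ⟨b, hb⟩ := hψ₀s ⟨x, hx⟩
        have h2 : x = residue E (ψ b) := by rw [hψres, hb]
        rw [h2, red_residue, hσ]
      rw [IntermediateField.fixingSubgroup_fixedField] at h1
      obtain ⟨σ', hσ', he⟩ := h1
      rwa [← red_injective A E he]
  -- (i) the fraction field of `ψ B`
  let β : B →+* M := (algebraMap E M).comp ψ.toRingHom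
  have hβinj : Function.Injective β :=
    (FaithfulSMul.algebraMap_injective E M).comp hψinj
  have hβne : ∀ b : B, b ≠ 0 → β b ≠ 0 := fun b hb h0 => hb (hβinj (h0.trans (map_zero β).symm))
  have hβA : ∀ a : A, β (algebraMap A B a) = algebraMap K M (algebraMap A K a) := by
    intro a
    show algebraMap E M (ψ (algebraMap A B a)) = _
    rw [ψ.commutes, ← IsScalarTower.algebraMap_apply A E M, ← IsScalarTower.algebraMap_apply A K M]
  let Fr : IntermediateField K M :=
    { carrier := {m | ∃ b₁ b₂ : B, b₂ ≠ 0 ∧ m * β b₂ = β b₁}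
      mul_mem' := by
        rintro m m' ⟨b₁, b₂, hb₂, h⟩ ⟨c₁, c₂, hc₂, h'⟩
        refine ⟨b₁ * c₁, b₂ * c₂, ?_, ?_⟩
        · intro h0
          have := congrArg β h0
          rw [map_mul, map_zero] at this
          exact mul_ne_zero (hβne _ hb₂) (hβne _ hc₂) this
        · rw [map_mul, map_mul, ← h, ← h']; ring
      one_mem' := ⟨1, 1, one_ne_zero, by simp⟩
      add_mem' := by
        rintro m m' ⟨b₁, b₂, hb₂, h⟩ ⟨c₁, c₂, hc₂, h'⟩
        refine ⟨b₁ * c₂ + c₁ * b₂, b₂ * c₂, ?_, ?_⟩
        · intro h0
          have := congrArg β h0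
          rw [map_mul, map_zero] at this
          exact mul_ne_zero (hβne _ hb₂) (hβne _ hc₂) this
        · rw [map_mul, map_add, map_mul, map_mul, ← h, ← h']; ring
      zero_mem' := ⟨0, 1, one_ne_zero, by simp⟩
      algebraMap_mem' := by
        intro c
        obtain ⟨x, y, hy, rfl⟩ := IsFractionRing.div_surjective (A := A) c
        have hy0 : y ≠ 0 := nonZeroDivisors.ne_zero hy
        refine ⟨algebraMap A B x, algebraMap A B y, ?_, ?_⟩
        · intro h0
          have h1 : β (algebraMap A B y) = 0 := by rw [h0, map_zero]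
          rw [hβA] at h1
          have h2 : algebraMap A K y = 0 :=
            (FaithfulSMul.algebraMap_injective K M) (h1.trans (map_zero _).symm)
          exact hy0 ((FaithfulSMul.algebraMap_injective A K) (h2.trans (map_zero _).symm))
        · rw [hβA, hβA, map_div₀]
          have h3 : algebraMap K M (algebraMap A K y) ≠ 0 := by
            intro h1
            have h2 : algebraMap A K y = 0 :=
              (FaithfulSMul.algebraMap_injective K M) (h1.trans (map_zero _).symm)
            exact hy0 ((FaithfulSMul.algebraMap_injective A K) (h2.trans (map_zero _).symm))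
          field_simp
      inv_mem' := by
        rintro m ⟨b₁, b₂, hb₂, h⟩
        by_cases hm : m = 0
        · rw [hm, inv_zero]
          exact ⟨0, 1, one_ne_zero, by simp⟩
        · have hb₁ : b₁ ≠ 0 := by
            rintro rfl
            rw [map_zero] at h
            exact (mul_ne_zero hm (hβne _ hb₂)) h
          refine ⟨b₂, b₁, hb₁, ?_⟩
          rw [← h]
          field_simp }
  have hmemFr : ∀ m, m ∈ Fr ↔ ∃ b₁ b₂ : B, b₂ ≠ 0 ∧ m * β b₂ = β b₁ := fun m => Iff.rfl
  have hFrfix : Fr.fixingSubgroup = H := by
    ext τ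
    obtain ⟨σ, rfl⟩ := hbij.2 τ
    rw [mem_fixingSubgroup_iff']
    have hσH : ext A E K M σ ∈ H ↔ σ ∈ HG := Iff.rfl
    rw [hσH, hfix]
    constructor
    · intro h b
      have h1 : β b ∈ Fr := ⟨b, 1, one_ne_zero, by simp⟩
      have h2 := h _ h1
      have h3 : ext A E K M σ (β b) = algebraMap E M (σ (ψ b)) := ext_algebraMap A E K M σ (ψ b)
      rw [h3] at h2
      exact FaithfulSMul.algebraMap_injective E M h2
    · rintro h m ⟨b₁, b₂, hb₂, hm⟩
      have hβfix : ∀ b, ext A E K M σ (β b) = β b := by
        intro b
        have h3 : ext A E K M σ (β b) = algebraMap E M (σ (ψ b)) := ext_algebraMap A E K M σ (ψ b)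
        rw [h3, h]
        rfl
      have h4 := congrArg (ext A E K M σ) hm
      rw [map_mul, hβfix, hβfix, ← hm] at h4
      exact mul_right_cancel₀ (hβne _ hb₂) h4
  have hFrL : Fr = L := by
    rw [← IsGalois.fixedField_fixingSubgroup Fr, hFrfix]
    exact IsGalois.fixedField_fixingSubgroup L
  -- (j) conclusion
  refine ⟨ψ.range, ?_, ?_, ?_⟩
  · exact Module.Finite.equiv (AlgEquiv.ofInjective ψ hψinj).toLinearEquiv
  · exact Algebra.Etale.of_equiv (AlgEquiv.ofInjective ψ hψinj)
  · ext y
    simp only [SetLike.mem_coe, Set.mem_preimage]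
    rw [← hFrL, hmemFr]
    constructor
    · rintro ⟨b, rfl⟩
      exact ⟨b, 1, one_ne_zero, by simp [β]⟩
    · rintro ⟨b₁, b₂, hb₂, h⟩
      have h1 : y * ψ b₂ = ψ b₁ := by
        apply FaithfulSMul.algebraMap_injective E M
        rw [map_mul]
        exact h
      have h2 : b₁ ∈ ((Ideal.span {b₂}).map (algebraMap B E)).comap (algebraMap B E) := by
        rw [Ideal.mem_comap, Ideal.map_span, Set.image_singleton, Ideal.mem_span_singleton']
        exact ⟨y, h1⟩
      rw [Ideal.comap_map_eq_self_of_faithfullyFlat, Ideal.mem_span_singleton'] at h2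
      obtain ⟨c, hc⟩ := h2
      refine ⟨c, ?_⟩
      have h3 : (ψ c - y) * ψ b₂ = 0 := by
        rw [sub_mul, h1, ← map_mul, hc, sub_self]
      have h4 : ψ b₂ ≠ 0 := fun h0 => hb₂ (hψinj (h0.trans (map_zero ψ).symm))
      have h5 := (mul_eq_zero.mp h3).resolve_right h4
      exact sub_eq_zero.mp h5

end Gal

end Groth.Agent.Lib.Helper4.FEtGal
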