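import Mathlib
import Groth.Agent.Lib.Helper4.FEtGal
import Groth.Agent.Lib.Helper4.HzsSub
import Groth.Agent.Lib.Helper4.HzsProps

/-!
# Intersections of a strict henselization with finitely generated subfields (EGA IV 18.8-type)
-/

set_option autoImplicit false
set_option linter.unusedSectionVars false
set_option linter.overlappingInstances false
universe u
open IsLocalRing TensorProduct

namespace Groth.Agent.Lib.Helper4.FEtGal

/-- Finitely many elements of a strict henselization of a henselian local ring lie in the image of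
a finite étale local algebra with Galois residue extension. -/
theorem exists_finiteEtale_galois (A S : Type u) [CommRing A] [HenselianLocalRing A]
    [CommRing S] [IsLocalRing S] [Algebra A S] [IsLocalHom (algebraMap A S)]
    [hS : Hensel.IsStrictHenselization A S] (s : Finset S) :
    ∃ (B : Type u) (_ : CommRing B) (_ : Algebra A B) (_ : IsLocalRing B)
      (_ : IsLocalHom (algebraMap A B)), Module.Finite A B ∧ Algebra.Etale A B ∧
      IsGalois (ResidueField A) (ResidueField B) ∧
      ∃ ψ : B →ₐ[A] S, IsLocalHom ψ.toRingHom ∧ (s : Set S) ⊆ Set.range ψ := by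
  classical
  have hSh : HenselianLocalRing S := hS.henselian
  have hsc : IsSepClosure (ResidueField A) (ResidueField S) := hS.isSepClosure
  obtain ⟨E₁, hsE₁, hE₁loc, hE₁S, hE₁⟩ := Hzs.exists_essEtale_subalgebra A S s
  have hE₁lh : IsLocalHom (algebraMap A E₁) := Hzs.isLocalHom_of_essEtale hE₁
  have h1 : Algebra.EssFiniteType A E₁ := EssEtale.essFiniteType hE₁
  have h2 : Algebra.FormallyEtale A E₁ := EssEtale.formallyEtale hE₁
  -- the residue field of `E₁`
  let φ₁ : ResidueField E₁ →ₐ[ResidueField A] ResidueField S :=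
    IsScalarTower.toAlgHom (ResidueField A) (ResidueField E₁) (ResidueField S)
  have hφ₁ : ∀ x : E₁, φ₁ (residue E₁ x) = residue S (x : S) := fun x => rfl
  let k' : IntermediateField (ResidueField A) (ResidueField S) :=
    IntermediateField.normalClosure (ResidueField A) (ResidueField E₁) (ResidueField S)
  have hk'sep : Algebra.IsSeparable (ResidueField A) k' :=
    Algebra.isSeparable_tower_bot_of_isSeparable (ResidueField A) k' (ResidueField S)
  have hk'gal : IsGalois (ResidueField A) k' := ⟨⟩
  let _ : Algebra A k' := ((algebraMap (ResidueField A) k').comp (residue A)).toAlgebra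
  have : IsScalarTower A (ResidueField A) k' := IsScalarTower.of_algebraMap_eq fun _ => rfl
  obtain ⟨B, _, _, hBloc, hBfin, hBet, hBlh, ψ₀, hψ₀s, hψ₀k⟩ :=
    exists_finiteEtale_of_field A k'
  have hB := essEtale_of_etale A B
  have hBh : HenselianLocalRing B := Hzn.henselianLocalRing_of_isIntegral A B
  let ψ₀r : B →+* k' := ψ₀
  have hloc₀ : IsLocalHom ψ₀r := by
    constructor
    intro b hb
    by_contra hnb
    have h1 : ψ₀ b = 0 := (hψ₀k b).mpr ((IsLocalRing.mem_maximalIdeal b).mpr hnb)
    have h2 : ψ₀r b = 0 := h1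
    rw [h2] at hb
    exact not_isUnit_zero hb
  -- the residue field of `B` is `k'`
  have hbij : Function.Bijective (ResidueField.lift ψ₀r) := by
    refine ⟨(ResidueField.lift ψ₀r).injective, fun y => ?_⟩
    obtain ⟨b, hb⟩ := hψ₀s y
    exact ⟨residue B b, hb⟩
  let e' : ResidueField B ≃+* k' := RingEquiv.ofBijective _ hbij
  have he' : ∀ b, e' (residue B b) = ψ₀ b := fun b => rfl
  let e'ₐ : ResidueField B ≃ₐ[ResidueField A] k' := AlgEquiv.ofRingEquiv (f := e') (by
    intro x
    obtain ⟨a, rfl⟩ := residue_surjective x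
    rw [ResidueField.algebraMap_residue, he', ψ₀.commutes]
    rfl)
  have hBgal : IsGalois (ResidueField A) (ResidueField B) := IsGalois.of_algEquiv e'ₐ.symm
  -- the map `B → S`
  let α : ResidueField B →+* ResidueField S :=
    (k'.val : k' →+* ResidueField S).comp (ResidueField.lift ψ₀r)
  have hα_res : ∀ b, α (residue B b) = ((ψ₀ b : k') : ResidueField S) := fun b => rfl
  have hα : α.comp (ResidueField.map (algebraMap A B)) = ResidueField.map (algebraMap A S) := by
    ext x
    obtain ⟨a, rfl⟩ := residue_surjective x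
    show α (residue B (algebraMap A B a)) = residue S (algebraMap A S a)
    rw [hα_res, ψ₀.commutes]
    rfl
  obtain ⟨ψ, hψ⟩ := EssEtale.exists_lift hB S α hα
  have hψres : ∀ b, residue S (ψ b) = ((ψ₀ b : k') : ResidueField S) :=
    fun b => (hψ b).trans (hα_res b)
  have hlocψ : IsLocalHom ψ.toRingHom := by
    constructor
    intro b hb
    by_contra hnb
    have h1 : ψ₀ b = 0 := (hψ₀k b).mpr ((IsLocalRing.mem_maximalIdeal b).mpr hnb)
    have h2 : residue S (ψ b) = 0 := by rw [hψres, h1]; rfl
    have h3 : ψ b ∈ maximalIdeal S := (residue_eq_zero_iff _).mp h2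
    exact (IsLocalRing.mem_maximalIdeal _).mp h3 hb
  -- the map `E₁ → B`
  have hmem : ∀ x : ResidueField E₁, φ₁ x ∈ k' :=
    fun x => AlgHom.fieldRange_le_normalClosure φ₁ ⟨x, rfl⟩
  let ι₁ : ResidueField E₁ →+* k' :=
    { toFun := fun x => ⟨φ₁ x, hmem x⟩
      map_one' := Subtype.ext (map_one φ₁)
      map_mul' := fun x y => Subtype.ext (map_mul φ₁ x y)
      map_zero' := Subtype.ext (map_zero φ₁)
      map_add' := fun x y => Subtype.ext (map_add φ₁ x y) }
  let αθ : ResidueField E₁ →+* ResidueField B := e'.symm.toRingHom.comp ι₁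
  have hαθ : αθ.comp (ResidueField.map (algebraMap A E₁)) =
      ResidueField.map (algebraMap A B) := by
    ext x
    obtain ⟨a, rfl⟩ := residue_surjective x
    show e'.symm (ι₁ (residue E₁ (algebraMap A E₁ a))) = residue B (algebraMap A B a)
    rw [RingEquiv.symm_apply_eq, he', ψ₀.commutes]
    apply Subtype.ext
    rfl
  obtain ⟨θ, hθ⟩ := EssEtale.exists_lift hE₁ B αθ hαθ
  have hcomp : ψ.comp θ = E₁.val := by
    refine EssEtale.algHom_ext hE₁ _ _ fun x => ?_
    rw [← residue_eq_zero_iff, map_sub, sub_eq_zero]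
    show residue S (ψ (θ x)) = residue S (x : S)
    rw [hψ, hθ, ← hφ₁]
    show (k'.val : k' →+* ResidueField S) (ResidueField.lift ψ₀r (e'.symm (ι₁ (residue E₁ x)))) = _
    have : ResidueField.lift ψ₀r (e'.symm (ι₁ (residue E₁ x))) = ι₁ (residue E₁ x) :=
      e'.apply_symm_apply _
    rw [this]
    rfl
  refine ⟨B, inferInstance, inferInstance, hBloc, hBlh, hBfin, hBet, hBgal, ψ, hlocψ, ?_⟩
  intro x hx
  have hx₁ : x ∈ E₁ := hsE₁ hx
  refine ⟨θ ⟨x, hx₁⟩, ?_⟩
  exact congrArg (fun g : E₁ →ₐ[A] S => g ⟨x, hx₁⟩) hcomp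

attribute [local instance] FractionRing.liftAlgebra in
/-- **EGA IV 18.8-type statement**: for a henselian local domain `A` whose strict henselization `S`
is a domain, the intersection of `S` with a finitely generated subextension of
`Frac S / Frac A` is a local essentially étale (in fact finite étale) `A`-subalgebra. -/
theorem exists_subalgebra_inter_essEtale (A S : Type u) [CommRing A] [HenselianLocalRing A]
    [IsDomain A] [CommRing S] [IsLocalRing S] [Algebra A S] [IsLocalHom (algebraMap A S)]
    [Hensel.IsStrictHenselization A S] [IsDomain S] (t : Finset (FractionRing S)) :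
    ∃ D : Subalgebra A S, (D : Set S) = (algebraMap S (FractionRing S)) ⁻¹'
        (Subfield.closure (Set.range (algebraMap A (FractionRing S)) ∪
          (t : Set (FractionRing S))) : Set (FractionRing S)) ∧
      ∃ _ : IsLocalRing D, IsLocalHom (algebraMap D S) ∧ EGA4loc.IsEssentiallyEtale A D := by
  classical
  set L₀ : Subfield (FractionRing S) :=
    Subfield.closure (Set.range (algebraMap A (FractionRing S)) ∪ (t : Set (FractionRing S)))
    with hL₀
  have hfrac : ∀ x : FractionRing S, ∃ a b : S, b ≠ 0 ∧
      x = algebraMap S (FractionRing S) a / algebraMap S (FractionRing S) b := by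
    intro x
    obtain ⟨a, b, hb, rfl⟩ := IsFractionRing.div_surjective (A := S) x
    exact ⟨a, b, nonZeroDivisors.ne_zero hb, rfl⟩
  choose num den hden hnd using hfrac
  let s : Finset S := t.image num ∪ t.image den
  obtain ⟨B, _, _, hBloc, hBlh, hBfin, hBet, hBgal, ψ, hlocψ, hsψ⟩ :=
    exists_finiteEtale_galois A S s
  let _ : Algebra B S := ψ.toRingHom.toAlgebra
  have : IsScalarTower A B S := IsScalarTower.of_algebraMap_eq fun a => (ψ.commutes a).symm
  have : IsLocalHom (algebraMap B S) := hlocψ
  have hB := essEtale_of_etale A B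
  have hSB : Hensel.IsStrictHenselization B S := Hzs.isStrictHenselization_of_essEtale hB
  have hff : Module.FaithfullyFlat B S := Hzs.faithfullyFlat_of_isStrictHenselization B S
  have hψinj : Function.Injective ψ := FaithfulSMul.algebraMap_injective B S
  have hBdom : IsDomain B := hψinj.isDomain ψ.toRingHom
  have hAB : Function.Injective (algebraMap A B) := by
    have : Module.Free A B := free_of_etale A B
    exact FaithfulSMul.algebraMap_injective A B
  have hfs : FaithfulSMul A (FractionRing B) := by
    rw [faithfulSMul_iff_algebraMap_injective, IsScalarTower.algebraMap_eq A B (FractionRing B)]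
    exact (FaithfulSMul.algebraMap_injective B (FractionRing B)).comp hAB
  -- the embedding of fraction fields
  have hginj : Function.Injective ((algebraMap S (FractionRing S)).comp ψ.toRingHom) :=
    (FaithfulSMul.algebraMap_injective S (FractionRing S)).comp hψinj
  let j : FractionRing B →+* FractionRing S := IsFractionRing.lift hginj
  have hj : ∀ b : B, j (algebraMap B (FractionRing B) b) = algebraMap S (FractionRing S) (ψ b) :=
    fun b => IsFractionRing.lift_algebraMap hginj b
  have hjA : ∀ a : A, j (algebraMap A (FractionRing B) a) = algebraMap A (FractionRing S) a := by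
    intro a
    rw [IsScalarTower.algebraMap_apply A B (FractionRing B), hj, ψ.commutes,
      ← IsScalarTower.algebraMap_apply A S (FractionRing S)]
  let L : IntermediateField (FractionRing A) (FractionRing B) :=
    (L₀.comap j).toIntermediateField (by
      intro c
      obtain ⟨x, y, hy, rfl⟩ := IsFractionRing.div_surjective (A := A) c
      rw [Subfield.mem_comap, map_div₀, map_div₀,
        ← IsScalarTower.algebraMap_apply A (FractionRing A) (FractionRing B),
        ← IsScalarTower.algebraMap_apply A (FractionRing A) (FractionRing B), hjA, hjA]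
      exact L₀.div_mem (Subfield.subset_closure (Or.inl ⟨x, rfl⟩))
        (Subfield.subset_closure (Or.inl ⟨y, rfl⟩)))
  have hLmem : ∀ m : FractionRing B, m ∈ L ↔ j m ∈ L₀ := fun m => Iff.rfl
  obtain ⟨E'', hfin'', het'', hset⟩ :=
    exists_subalgebra_eq_inter A B (FractionRing A) (FractionRing B) L
  have hE''mem : ∀ b : B, b ∈ E'' ↔ algebraMap S (FractionRing S) (ψ b) ∈ L₀ := by
    intro b
    have : b ∈ (E'' : Set B) ↔ b ∈ (algebraMap B (FractionRing B)) ⁻¹' (L : Set (FractionRing B)) := by
      rw [hset]
    rw [SetLike.mem_coe, Set.mem_preimage, SetLike.mem_coe, hLmem, hj] at this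
    exact this
  -- `L₀ ⊆ range j`
  have hL₀range : L₀ ≤ j.fieldRange := by
    rw [hL₀, Subfield.closure_le]
    rintro x (⟨a, rfl⟩ | hx)
    · exact ⟨algebraMap A (FractionRing B) a, hjA a⟩
    · have hx' : x ∈ t := hx
      have h1 : num x ∈ (s : Set S) := by
        simp only [s, Finset.coe_union, Finset.coe_image]
        exact Or.inl ⟨x, hx', rfl⟩
      have h2 : den x ∈ (s : Set S) := by
        simp only [s, Finset.coe_union, Finset.coe_image]
        exact Or.inr ⟨x, hx', rfl⟩
      obtain ⟨b₁, hb₁⟩ := hsψ h1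
      obtain ⟨b₂, hb₂⟩ := hsψ h2
      refine ⟨algebraMap B (FractionRing B) b₁ / algebraMap B (FractionRing B) b₂, ?_⟩
      rw [map_div₀, hj, hj, hb₁, hb₂]
      exact (hnd x).symm
  -- elements of `S` in `L₀` come from `B`
  have hkey : ∀ x : S, algebraMap S (FractionRing S) x ∈ L₀ → ∃ c : B, ψ c = x := by
    intro x hx
    obtain ⟨m, hm⟩ := hL₀range hx
    obtain ⟨b₁, b₂, hb₂, rfl⟩ := IsFractionRing.div_surjective (A := B) m
    have hb₂0 : b₂ ≠ 0 := nonZeroDivisors.ne_zero hb₂
    have hψb₂ : ψ b₂ ≠ 0 := fun h0 => hb₂0 (hψinj (h0.trans (map_zero ψ).symm))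
    rw [map_div₀, hj, hj] at hm
    have h1 : x * ψ b₂ = ψ b₁ := by
      apply FaithfulSMul.algebraMap_injective S (FractionRing S)
      rw [map_mul, ← hm]
      have : algebraMap S (FractionRing S) (ψ b₂) ≠ 0 := fun h0 =>
        hψb₂ ((FaithfulSMul.algebraMap_injective S (FractionRing S)) (h0.trans (map_zero _).symm))
      field_simp
    have h2 : b₁ ∈ ((Ideal.span {b₂}).map (algebraMap B S)).comap (algebraMap B S) := by
      rw [Ideal.mem_comap, Ideal.map_span, Set.image_singleton, Ideal.mem_span_singleton']
      exact ⟨x, h1⟩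
    rw [Ideal.comap_map_eq_self_of_faithfullyFlat, Ideal.mem_span_singleton'] at h2
    obtain ⟨c, hc⟩ := h2
    refine ⟨c, ?_⟩
    have h3 : (ψ c - x) * ψ b₂ = 0 := by
      rw [sub_mul, h1, ← map_mul, hc, sub_self]
    have h5 := (mul_eq_zero.mp h3).resolve_right hψb₂
    exact sub_eq_zero.mp h5
  let D : Subalgebra A S := E''.map ψ
  have hDmem : ∀ x : S, x ∈ D ↔ algebraMap S (FractionRing S) x ∈ L₀ := by
    intro x
    constructor
    · rintro ⟨b, hb, rfl⟩
      exact (hE''mem b).mp hb
    · intro hx
      obtain ⟨c, rfl⟩ := hkey x hx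
      exact ⟨c, (hE''mem c).mpr hx, rfl⟩
  have hDunit : ∀ x : D, IsUnit (x : S) → IsUnit x := by
    intro x hx
    obtain ⟨y, hy⟩ := isUnit_iff_exists_inv.mp hx
    have hyD : y ∈ D := by
      rw [hDmem]
      have h1 : algebraMap S (FractionRing S) y = (algebraMap S (FractionRing S) (x : S))⁻¹ := by
        apply eq_inv_of_mul_eq_one_right
        rw [← map_mul, hy, map_one]
      rw [h1]
      exact L₀.inv_mem ((hDmem _).mp x.2)
    exact isUnit_iff_exists_inv.mpr ⟨⟨y, hyD⟩, Subtype.ext hy⟩
  have hDloc : IsLocalRing D := by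
    refine IsLocalRing.of_nonunits_add ?_
    intro a b ha hb hab
    have ha' : (a : S) ∈ nonunits S := fun h => ha (hDunit a h)
    have hb' : (b : S) ∈ nonunits S := fun h => hb (hDunit b h)
    have hab' : IsUnit ((a + b : D) : S) := hab.map D.val
    exact IsLocalRing.nonunits_add ha' hb' hab'
  have hDS : IsLocalHom (algebraMap D S) := ⟨fun x hx => hDunit x hx⟩
  have hAD : IsLocalHom (algebraMap A D) := by
    constructor
    intro a ha
    have h1 : IsUnit (algebraMap A S a) := ha.map D.val
    exact isUnit_of_map_unit (algebraMap A S) a h1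
  have hDet : Algebra.Etale A D :=
    Algebra.Etale.of_equiv (E''.equivMapOfInjective ψ hψinj)
  refine ⟨D, ?_, hDloc, hDS, essEtale_of_etale A D⟩
  ext x
  exact hDmem x

end Groth.Agent.Lib.Helper4.FEtGal
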