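import Mathlib
import Groth.Agent.Lib.Helper4.FEtGal2

/-!
# Quotients of a strict henselization by minimal primes: generalities
-/

set_option autoImplicit false
set_option linter.unusedSectionVars false
set_option linter.overlappingInstances false
universe u
open IsLocalRing TensorProduct

namespace Groth.Agent.Lib.Helper4.FEtGal

/-- The subfield of fractions of the image of a ring homomorphism into a field. -/
def fracField {E K : Type*} [CommRing E] [Field K] (β : E →+* K) : Subfield K where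
  carrier := {m | ∃ b₁ b₂ : E, β b₂ ≠ 0 ∧ m * β b₂ = β b₁}
  mul_mem' := by
    rintro m m' ⟨b₁, b₂, hb₂, h⟩ ⟨c₁, c₂, hc₂, h'⟩
    refine ⟨b₁ * c₁, b₂ * c₂, ?_, ?_⟩
    · rw [map_mul]; exact mul_ne_zero hb₂ hc₂
    · rw [map_mul, map_mul, ← h, ← h']; ring
  one_mem' := ⟨1, 1, by simp, by simp⟩
  add_mem' := by
    rintro m m' ⟨b₁, b₂, hb₂, h⟩ ⟨c₁, c₂, hc₂, h'⟩
    refine ⟨b₁ * c₂ + c₁ * b₂, b₂ * c₂, ?_, ?_⟩
    · rw [map_mul]; exact mul_ne_zero hb₂ hc₂
    · rw [map_mul, map_add, map_mul, map_mul, ← h, ← h']; ring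
  zero_mem' := ⟨0, 1, by simp, by simp⟩
  neg_mem' := by
    rintro m ⟨b₁, b₂, hb₂, h⟩
    exact ⟨-b₁, b₂, hb₂, by rw [map_neg, ← h]; ring⟩
  inv_mem' := by
    rintro m ⟨b₁, b₂, hb₂, h⟩
    by_cases hm : m = 0
    · rw [hm, inv_zero]
      exact ⟨0, 1, by simp, by simp⟩
    · have hb₁ : β b₁ ≠ 0 := by
        rw [← h]
        exact mul_ne_zero hm hb₂
      refine ⟨b₂, b₁, hb₁, ?_⟩
      rw [← h]
      field_simp

theorem mem_fracField {E K : Type*} [CommRing E] [Field K] (β : E →+* K) (m : K) :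
    m ∈ fracField β ↔ ∃ b₁ b₂ : E, β b₂ ≠ 0 ∧ m * β b₂ = β b₁ := Iff.rfl

theorem map_mem_fracField {E K : Type*} [CommRing E] [Field K] (β : E →+* K) (e : E) :
    β e ∈ fracField β := ⟨e, 1, by simp, by simp⟩

theorem div_mem_fracField {E K : Type*} [CommRing E] [Field K] (β : E →+* K) (e₁ e₂ : E) :
    β e₁ / β e₂ ∈ fracField β :=
  (fracField β).div_mem (map_mem_fracField β e₁) (map_mem_fracField β e₂)

/-- Faithfully flat descent of divisibility modulo an extended prime. -/
theorem exists_sub_mem_of_faithfullyFlat {E S : Type*} [CommRing E] [CommRing S] [Algebra E S]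
    [Module.FaithfullyFlat E S] (Q : Ideal S) [Q.IsPrime]
    (hQ : Q = (Q.comap (algebraMap E S)).map (algebraMap E S))
    (x : S) (e₁ e₂ : E) (he₂ : algebraMap E S e₂ ∉ Q)
    (h : x * algebraMap E S e₂ - algebraMap E S e₁ ∈ Q) :
    ∃ c : E, x - algebraMap E S c ∈ Q := by
  set P := Q.comap (algebraMap E S) with hP
  have h1 : e₁ ∈ ((Ideal.span {e₂} ⊔ P).map (algebraMap E S)).comap (algebraMap E S) := by
    rw [Ideal.mem_comap, Ideal.map_sup, Ideal.map_span, Set.image_singleton, ← hQ]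
    have h2 : algebraMap E S e₁ =
        x * algebraMap E S e₂ + -(x * algebraMap E S e₂ - algebraMap E S e₁) := by ring
    rw [h2]
    exact Submodule.add_mem_sup (Ideal.mem_span_singleton'.mpr ⟨x, rfl⟩) (Q.neg_mem h)
  rw [Ideal.comap_map_eq_self_of_faithfullyFlat, Ideal.mem_span_singleton_sup] at h1
  obtain ⟨c, p, hp, hc⟩ := h1
  refine ⟨c, ?_⟩
  have hp' : algebraMap E S p ∈ Q := hp
  have h3 : (x - algebraMap E S c) * algebraMap E S e₂ ∈ Q := by
    have h4 : (x - algebraMap E S c) * algebraMap E S e₂ =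
        (x * algebraMap E S e₂ - algebraMap E S e₁) + algebraMap E S p := by
      rw [← hc, map_add, map_mul]; ring
    rw [h4]
    exact Q.add_mem h hp'
  exact (Ideal.IsPrime.mem_or_mem inferInstance h3).resolve_right he₂

end Groth.Agent.Lib.Helper4.FEtGal
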