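import Mathlib
import Groth.Agent.Lib.Helper4.FEtMin

/-!
# Torsor property of Galois finite étale local algebras over a henselian local ring
-/

set_option autoImplicit false
set_option linter.unusedSectionVars false
set_option linter.overlappingInstances false
universe u
open IsLocalRing TensorProduct

namespace Groth.Agent.Lib.Helper4.FEtGal

section Rigid

variable {A B : Type*} [CommRing A] [CommRing B] [Algebra A B]
  [Algebra.FormallyUnramified A B] [Algebra.EssFiniteType A B]

theorem mul_elem_eq (z : B ⊗[A] B) :
    z * Algebra.FormallyUnramified.elem A B =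
      (Algebra.TensorProduct.lmul' A z ⊗ₜ[A] (1 : B)) * Algebra.FormallyUnramified.elem A B := by
  induction z using TensorProduct.induction_on with
  | zero => simp
  | tmul b b' =>
    have h1 : b ⊗ₜ[A] b' = (b ⊗ₜ[A] (1 : B)) * ((1 : B) ⊗ₜ[A] b') := by
      rw [Algebra.TensorProduct.tmul_mul_tmul, mul_one, one_mul]
    rw [h1, mul_assoc, Algebra.FormallyUnramified.one_tmul_mul_elem, ← mul_assoc,
      Algebra.TensorProduct.tmul_mul_tmul, mul_one, ← h1, Algebra.TensorProduct.lmul'_apply_tmul]
  | add x y hx hy =>
    rw [add_mul, hx, hy, map_add, TensorProduct.add_tmul, add_mul]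

theorem isIdempotentElem_elem : IsIdempotentElem (Algebra.FormallyUnramified.elem A B) := by
  show _ * _ = _
  rw [mul_elem_eq, Algebra.FormallyUnramified.lmul_elem]
  exact one_mul _

/-- **Rigidity**: two algebra maps from an unramified algebra to a local ring which agree at some
point agree. -/
theorem algHom_ext_of_comp {C Ω : Type*} [CommRing C] [IsLocalRing C] [Algebra A C]
    [CommRing Ω] [Nontrivial Ω] (f g : B →ₐ[A] C) (φ : C →+* Ω)
    (h : ∀ b, φ (f b) = φ (g b)) : f = g := by
  let t := Algebra.FormallyUnramified.elem A B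
  let hh : B ⊗[A] B →ₐ[A] C := Algebra.TensorProduct.lift f g (fun _ _ => Commute.all _ _)
  have hh_tmul : ∀ b b', hh (b ⊗ₜ b') = f b * g b' :=
    fun b b' => Algebra.TensorProduct.lift_tmul _ _ _ _ _
  have h1 : ∀ z : B ⊗[A] B, φ (hh z) = φ (f (Algebra.TensorProduct.lmul' A z)) := by
    intro z
    induction z using TensorProduct.induction_on with
    | zero => simp
    | tmul b b' =>
      rw [hh_tmul, Algebra.TensorProduct.lmul'_apply_tmul, map_mul, map_mul, map_mul, h b']
    | add x y hx hy => simp only [map_add, hx, hy]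
  have h2 : φ (hh t) = 1 := by
    rw [h1, Algebra.FormallyUnramified.lmul_elem, map_one, map_one]
  have hidem : IsIdempotentElem (hh t) := isIdempotentElem_elem.map hh
  have hunit : IsUnit (hh t) := by
    rcases IsLocalRing.isUnit_or_isUnit_one_sub_self (hh t) with hu | hu
    · exact hu
    · exfalso
      have h3 : (1 - hh t) * hh t = 0 := by
        rw [sub_mul, one_mul, hidem.eq, sub_self]
      have h4 : hh t = 0 := hu.mul_right_eq_zero.mp h3
      rw [h4, map_zero] at h2
      exact zero_ne_one h2
  ext b
  have h5 : hh (((1 : B) ⊗ₜ[A] b) * t) = hh ((b ⊗ₜ[A] (1 : B)) * t) := by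
    rw [Algebra.FormallyUnramified.one_tmul_mul_elem]
  rw [map_mul, map_mul, hh_tmul, hh_tmul, map_one, map_one, one_mul, mul_one] at h5
  exact (hunit.mul_left_inj.mp h5).symm

end Rigid

section Torsor

variable (A E : Type u) [CommRing A] [HenselianLocalRing A]
  [CommRing E] [IsLocalRing E] [Algebra A E] [IsLocalHom (algebraMap A E)]
  [Module.Finite A E] [Algebra.Etale A E] [IsGalois (ResidueField A) (ResidueField E)]

theorem free_of_etale' : Module.Free A E := Module.free_of_flat_of_isLocalRing

theorem card_aut_eq_finrank : Nat.card (E ≃ₐ[A] E) = Module.finrank A E := by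
  have hfree : Module.Free A E := free_of_etale' A E
  have hE := essEtale_of_etale A E
  have hm : (maximalIdeal A).map (algebraMap A E) = maximalIdeal E := EssEtale.map_maximalIdeal hE
  rw [← finrank_residueField_eq A E hm, ← IsGalois.card_aut_eq_finrank]
  exact Nat.card_congr (Equiv.ofBijective (red A E) ⟨red_injective A E, red_surjective A E⟩)

/-- **Torsor property**: any two points of a Galois finite étale local algebra with values in a
domain are conjugate under the automorphism group. -/
theorem exists_algEquiv_comp {Ω : Type*} [CommRing Ω] [IsDomain Ω] [Algebra A Ω]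
    (φ φ' : E →ₐ[A] Ω) : ∃ σ : E ≃ₐ[A] E, ∀ e, φ' e = φ (σ e) := by
  have hfree : Module.Free A E := free_of_etale' A E
  let Φ : (E ≃ₐ[A] E) → (E →ₐ[A] Ω) := fun σ => φ.comp σ.toAlgHom
  have hinj : Function.Injective Φ := by
    intro σ σ' hσ
    have h1 : σ.toAlgHom = σ'.toAlgHom := by
      refine algHom_ext_of_comp σ.toAlgHom σ'.toAlgHom (φ : E →+* Ω) fun b => ?_
      exact congrArg (fun g : E →ₐ[A] Ω => g b) hσ
    ext x
    exact congrArg (fun g : E →ₐ[A] E => g x) h1
  have hbij : Function.Bijective Φ := by
    refine hinj.bijective_of_nat_card_le ?_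
    rw [card_aut_eq_finrank]
    exact card_algHom_le_finrank A E Ω
  obtain ⟨σ, hσ⟩ := hbij.2 φ'
  exact ⟨σ, fun e => (congrArg (fun g : E →ₐ[A] Ω => g e) hσ).symm⟩

end Torsor

end Groth.Agent.Lib.Helper4.FEtGal
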