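import Mathlib
import Groth.Agent.Lib.Helper4.FEtTorsor

/-!
# Galois theory of finite étale local algebras over a henselian local ring at a prime
-/

set_option autoImplicit false
set_option linter.unusedSectionVars false
set_option linter.overlappingInstances false
universe u
open IsLocalRing TensorProduct

namespace Groth.Agent.Lib.Helper4.FEtGal


section Gal2

variable (A E : Type u) [CommRing A] [HenselianLocalRing A]
  [CommRing E] [IsLocalRing E] [Algebra A E] [IsLocalHom (algebraMap A E)]
  [Module.Finite A E] [Algebra.Etale A E] [IsGalois (ResidueField A) (ResidueField E)]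
  (L M : Type*) [Field L] [Field M] [Algebra L M] [Algebra A L] [Algebra A M] [IsScalarTower A L M]
  (β : E →ₐ[A] M) (hM : ∀ m : M, ∃ b₁ b₂ : E, β b₂ ≠ 0 ∧ m * β b₂ = β b₁)

include hM in
theorem surjective_lift_of_frac :
    Function.Surjective (Algebra.TensorProduct.lift (Algebra.ofId L M) β
      (fun _ _ => Commute.all _ _) : L ⊗[A] E →ₐ[L] M) := by
  set θ : L ⊗[A] E →ₐ[L] M := Algebra.TensorProduct.lift (Algebra.ofId L M) β
      (fun _ _ => Commute.all _ _) with hθ
  have hθb : ∀ b : E, θ (1 ⊗ₜ b) = β b := fun b => by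
    rw [hθ, Algebra.TensorProduct.lift_tmul, map_one, one_mul]
  have hfin : Module.Finite L θ.range := by
    have : Module.Finite L (LinearMap.range θ.toLinearMap) := Module.Finite.range θ.toLinearMap
    exact this
  have hint : Algebra.IsIntegral L θ.range := Algebra.IsIntegral.of_finite L θ.range
  have hfield : IsField θ.range :=
    isField_of_isIntegral_of_isField' (R := L) (Field.toIsField L)
  intro m
  obtain ⟨b₁, b₂, hb₂, hm⟩ := hM m
  have h2 : (⟨β b₂, ⟨1 ⊗ₜ b₂, hθb b₂⟩⟩ : θ.range) ≠ 0 := by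
    intro h0
    exact hb₂ (congrArg Subtype.val h0)
  obtain ⟨y, hy⟩ := hfield.mul_inv_cancel h2
  obtain ⟨z, hz⟩ := y.2
  have hz' : θ z = (y : M) := hz
  have hy' : β b₂ * (y : M) = 1 := congrArg Subtype.val hy
  refine ⟨(1 ⊗ₜ b₁) * z, ?_⟩
  rw [map_mul, hθb, hz', ← hm, mul_assoc, hy', mul_one]

include hM in
theorem finite_of_frac : Module.Finite L M :=
  Module.Finite.of_surjective (Algebra.TensorProduct.lift (Algebra.ofId L M) β
      (fun _ _ => Commute.all _ _) : L ⊗[A] E →ₐ[L] M).toLinearMap
    (surjective_lift_of_frac A E L M β hM)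

include hM in
theorem isSeparable_of_frac : Algebra.IsSeparable L M := by
  have := finite_of_frac A E L M β hM
  have : Algebra.FormallyUnramified L M :=
    Algebra.FormallyUnramified.of_surjective (Algebra.TensorProduct.lift (Algebra.ofId L M) β
      (fun _ _ => Commute.all _ _) : L ⊗[A] E →ₐ[L] M) (surjective_lift_of_frac A E L M β hM)
  exact Algebra.FormallyUnramified.isSeparable L M

theorem exists_algEquiv_of_algHom {Ω : Type*} [Field Ω] [Algebra M Ω] [Algebra L Ω]
    [IsScalarTower L M Ω] [Algebra A Ω] [IsScalarTower A L Ω] (τ : M →ₐ[L] Ω) :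
    ∃ σ : E ≃ₐ[A] E, ∀ b, τ (β b) = algebraMap M Ω (β (σ b)) := by
  let φ : E →ₐ[A] Ω := ((IsScalarTower.toAlgHom L M Ω).restrictScalars A).comp β
  let φ' : E →ₐ[A] Ω := (τ.restrictScalars A).comp β
  obtain ⟨σ, hσ⟩ := exists_algEquiv_comp A E φ φ'
  exact ⟨σ, fun b => hσ b⟩

include hM in
theorem normal_of_frac : Normal L M := by
  have hfin := finite_of_frac A E L M β hM
  rw [normal_iff]
  intro x
  have hx : IsIntegral L x := Algebra.IsIntegral.isIntegral x
  refine ⟨hx, ?_⟩
  let Ω := AlgebraicClosure M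
  apply Polynomial.Splits.of_splits_map (algebraMap M Ω) (IsAlgClosed.splits _)
  intro a ha
  have ha' : Polynomial.aeval a (minpoly L x) = 0 := by
    rw [Polynomial.mem_roots', Polynomial.IsRoot.def, Polynomial.eval_map,
      Polynomial.eval₂_map, ← IsScalarTower.algebraMap_eq] at ha
    exact ha.2
  obtain ⟨φ, hφ⟩ := IntermediateField.exists_algHom_of_splits_of_aeval (F := L) (E := M) (K := Ω)
    (fun s => ⟨Algebra.IsIntegral.isIntegral s, IsAlgClosed.splits _⟩) ha'
  obtain ⟨σ, hσ⟩ := exists_algEquiv_of_algHom A E L M β φ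
  obtain ⟨b₁, b₂, hb₂, hm⟩ := hM x
  have h1 : φ (β b₂) ≠ 0 := fun h0 => hb₂ (φ.injective (h0.trans (map_zero φ).symm))
  have h2 : β (σ b₂) ≠ 0 := by
    intro h0
    apply h1
    rw [hσ, h0, map_zero]
  refine ⟨β (σ b₁) / β (σ b₂), ?_⟩
  have h3 : a * φ (β b₂) = φ (β b₁) := by rw [← hφ, ← map_mul, hm]
  rw [hσ, hσ] at h3
  have h4 : algebraMap M Ω (β (σ b₂)) ≠ 0 := by rwa [← hσ]
  show algebraMap M Ω (β (σ b₁) / β (σ b₂)) = a
  rw [map_div₀, ← h3, mul_div_assoc, div_self h4, mul_one]

include hM in
theorem isGalois_of_frac : IsGalois L M :=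
  have := isSeparable_of_frac A E L M β hM
  have := normal_of_frac A E L M β hM
  ⟨⟩

theorem exists_algEquiv_of_algEquiv (τ : M ≃ₐ[L] M) :
    ∃ σ : E ≃ₐ[A] E, ∀ b, τ (β b) = β (σ b) :=
  exists_algEquiv_of_algHom A E L M β τ.toAlgHom

end Gal2



section Sub

variable (A E : Type u) [CommRing A] [HenselianLocalRing A]
  [CommRing E] [IsLocalRing E] [Algebra A E] [IsLocalHom (algebraMap A E)]
  [Module.Finite A E] [Algebra.Etale A E] [IsGalois (ResidueField A) (ResidueField E)]

/-- The finite étale local subalgebra attached to a subgroup of the automorphism group. -/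
theorem exists_fixed_algebra (HG : Subgroup (E ≃ₐ[A] E)) :
    ∃ (B : Type u) (_ : CommRing B) (_ : Algebra A B) (_ : IsLocalRing B)
      (_ : IsLocalHom (algebraMap A B)) (_ : Module.Finite A B) (_ : Algebra.Etale A B)
      (ψ : B →ₐ[A] E), Function.Injective ψ ∧ IsLocalHom ψ.toRingHom ∧
      (∀ σ : E ≃ₐ[A] E, σ ∈ HG ↔ ∀ b, σ (ψ b) = ψ b) ∧
      ∀ (_ : Algebra B E) (_ : IsLocalHom (algebraMap B E)), algebraMap B E = ψ.toRingHom →
        IsGalois (ResidueField B) (ResidueField E) := by
  classical
  have hE := essEtale_of_etale A E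
  have hEh : HenselianLocalRing E := Hzn.henselianLocalRing_of_isIntegral A E
  let Hbar : Subgroup (ResidueField E ≃ₐ[ResidueField A] ResidueField E) := HG.map (red A E)
  let k'' : IntermediateField (ResidueField A) (ResidueField E) :=
    IntermediateField.fixedField Hbar
  let _ : Algebra A k'' := ((algebraMap (ResidueField A) k'').comp (residue A)).toAlgebra
  have : IsScalarTower A (ResidueField A) k'' := IsScalarTower.of_algebraMap_eq fun _ => rfl
  obtain ⟨B, _, _, hBloc, hBfin, hBet, hBlh, ψ₀, hψ₀s, hψ₀k⟩ :=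
    exists_finiteEtale_of_field A k''
  have hB := essEtale_of_etale A B
  let ψ₀r : B →+* k'' := ψ₀
  have hloc₀ : IsLocalHom ψ₀r := by
    constructor
    intro b hb
    by_contra hnb
    have h1 : ψ₀ b = 0 := (hψ₀k b).mpr ((IsLocalRing.mem_maximalIdeal b).mpr hnb)
    have h2 : ψ₀r b = 0 := h1
    rw [h2] at hb
    exact not_isUnit_zero hb
  let α : ResidueField B →+* ResidueField E :=
    (k''.val : k'' →+* ResidueField E).comp (ResidueField.lift ψ₀r)
  have hα_res : ∀ b, α (residue B b) = ((ψ₀ b : k'') : ResidueField E) := fun b => rfl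
  have hα : α.comp (ResidueField.map (algebraMap A B)) = ResidueField.map (algebraMap A E) := by
    ext x
    obtain ⟨a, rfl⟩ := residue_surjective x
    show α (residue B (algebraMap A B a)) = residue E (algebraMap A E a)
    rw [hα_res, ψ₀.commutes]
    rfl
  obtain ⟨ψ, hψ⟩ := EssEtale.exists_lift hB E α hα
  have hψres : ∀ b, residue E (ψ b) = ((ψ₀ b : k'') : ResidueField E) :=
    fun b => (hψ b).trans (hα_res b)
  have hψloc : IsLocalHom ψ.toRingHom := by
    constructor
    intro b hb
    by_contra hnb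
    have h1 : ψ₀ b = 0 := (hψ₀k b).mpr ((IsLocalRing.mem_maximalIdeal b).mpr hnb)
    have h2 : residue E (ψ b) = 0 := by rw [hψres, h1]; rfl
    have h3 : ψ b ∈ maximalIdeal E := (residue_eq_zero_iff _).mp h2
    exact (IsLocalRing.mem_maximalIdeal _).mp h3 hb
  have hψinj : Function.Injective ψ := by
    let _ : Algebra B E := ψ.toRingHom.toAlgebra
    have : IsScalarTower A B E := IsScalarTower.of_algebraMap_eq fun a => (ψ.commutes a).symm
    have : Algebra.Etale B E := Algebra.Etale.of_restrictScalars A B E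
    have hlocψ : IsLocalHom (algebraMap B E) := hψloc
    have hff : Module.FaithfullyFlat B E := Module.FaithfullyFlat.of_flat_of_isLocalHom
    exact FaithfulSMul.algebraMap_injective B E
  have hfix : ∀ σ : E ≃ₐ[A] E, σ ∈ HG ↔ ∀ b, σ (ψ b) = ψ b := by
    intro σ
    constructor
    · intro hσ b
      have h1 : σ.toAlgHom.comp ψ = ψ := by
        refine EssEtale.algHom_ext hB _ _ fun x => ?_
        rw [← residue_eq_zero_iff, map_sub, sub_eq_zero]
        show residue E (σ (ψ x)) = residue E (ψ x)
        rw [← red_residue, hψres]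
        have hx : ((ψ₀ x : k'') : ResidueField E) ∈ IntermediateField.fixedField Hbar := (ψ₀ x).2
        rw [IntermediateField.mem_fixedField_iff] at hx
        exact hx _ (Subgroup.mem_map_of_mem _ hσ)
      exact congrArg (fun g : B →ₐ[A] E => g b) h1
    · intro hσ
      have h1 : red A E σ ∈ k''.fixingSubgroup := by
        rw [mem_fixingSubgroup_iff']
        intro x hx
        obtain ⟨b, hb⟩ := hψ₀s ⟨x, hx⟩
        have h2 : x = residue E (ψ b) := by rw [hψres, hb]
        rw [h2, red_residue, hσ]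
      rw [IntermediateField.fixingSubgroup_fixedField] at h1
      obtain ⟨σ', hσ', he⟩ := h1
      rwa [← red_injective A E he]
  refine ⟨B, inferInstance, inferInstance, hBloc, hBlh, hBfin, hBet, ψ, hψinj, hψloc, hfix, ?_⟩
  intro inst hloc heq
  -- the residue field of `B` is `k''`
  have hbij : Function.Bijective (ResidueField.lift ψ₀r) := by
    refine ⟨(ResidueField.lift ψ₀r).injective, fun y => ?_⟩
    obtain ⟨b, hb⟩ := hψ₀s y
    exact ⟨residue B b, hb⟩
  let e' : ResidueField B ≃+* k'' := RingEquiv.ofBijective _ hbij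
  have he' : ∀ b, e' (residue B b) = ψ₀ b := fun b => rfl
  have hgal : IsGalois k'' (ResidueField E) := inferInstance
  refine IsGalois.of_equiv_equiv (F := k'') (E := ResidueField E) (f := e'.symm)
    (g := RingEquiv.refl (ResidueField E)) ?_
  ext x
  obtain ⟨y, rfl⟩ := e'.surjective x
  obtain ⟨b, rfl⟩ := residue_surjective y
  show algebraMap (ResidueField B) (ResidueField E) (e'.symm (e' (residue B b))) =
    ((e' (residue B b) : k'') : ResidueField E)
  rw [e'.symm_apply_apply, he', ← hψres, ResidueField.algebraMap_residue, heq]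
  rfl

end Sub



/-- Points of an integral algebra with values in an algebraically closed field with prescribed
kernel. -/
theorem exists_algHom_ker_eq {A E Ω : Type*} [CommRing A] [CommRing E] [Algebra A E]
    [Algebra.IsIntegral A E] [Field Ω] [IsAlgClosed Ω] [Algebra A Ω]
    (P' : Ideal E) [P'.IsPrime]
    (h : RingHom.ker (algebraMap A Ω) = P'.comap (algebraMap A E)) :
    ∃ φ' : E →ₐ[A] Ω, ∀ x, φ' x = 0 ↔ x ∈ P' := by
  let p : Ideal A := P'.under A
  have hp : p.IsPrime := Ideal.comap_isPrime _ _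
  have hlo : P'.LiesOver p := ⟨rfl⟩
  have hd1 : IsDomain (A ⧸ p) := Ideal.Quotient.isDomain p
  have hd2 : IsDomain (E ⧸ P') := Ideal.Quotient.isDomain P'
  have hfs : FaithfulSMul (A ⧸ p) (E ⧸ P') := inferInstance
  have htf : Module.IsTorsionFree (A ⧸ p) (E ⧸ P') :=
    Module.isTorsionFree_iff_faithfulSMul.mpr hfs
  have hint : Algebra.IsIntegral (A ⧸ p) (E ⧸ P') := inferInstance
  let g : A ⧸ p →+* Ω := Ideal.Quotient.lift p (algebraMap A Ω) (fun a ha => by
    rw [← RingHom.mem_ker, h]; exact ha)
  have hginj : Function.Injective g := by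
    apply RingHom.lift_injective_of_ker_le_ideal
    rw [h]
  let _ : Algebra (A ⧸ p) Ω := g.toAlgebra
  have : FaithfulSMul (A ⧸ p) Ω := (faithfulSMul_iff_algebraMap_injective _ _).mpr hginj
  let lift : (E ⧸ P') →ₐ[A ⧸ p] Ω := IsAlgClosed.lift
  have hliftinj : Function.Injective lift := by
    rw [injective_iff_map_eq_zero]
    intro x hx
    have h1 : (RingHom.ker lift.toRingHom).comap (algebraMap (A ⧸ p) (E ⧸ P')) = ⊥ := by
      rw [eq_bot_iff]
      intro r hr
      rw [Ideal.mem_comap, RingHom.mem_ker] at hr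
      have h2 : lift (algebraMap (A ⧸ p) (E ⧸ P') r) = 0 := hr
      rw [lift.commutes] at h2
      exact hginj (h2.trans (map_zero g).symm)
    have h3 := Ideal.eq_bot_of_comap_eq_bot h1
    have h4 : x ∈ RingHom.ker lift.toRingHom := hx
    rw [h3] at h4
    exact h4
  refine ⟨{ toRingHom := lift.toRingHom.comp (Ideal.Quotient.mk P'), commutes' := ?_ }, ?_⟩
  · intro a
    show lift (Ideal.Quotient.mk P' (algebraMap A E a)) = algebraMap A Ω a
    have h1 : Ideal.Quotient.mk P' (algebraMap A E a) =
        algebraMap (A ⧸ p) (E ⧸ P') (Ideal.Quotient.mk p a) := rfl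
    rw [h1, lift.commutes]
    rfl
  · intro x
    show lift (Ideal.Quotient.mk P' x) = 0 ↔ x ∈ P'
    rw [← Ideal.Quotient.eq_zero_iff_mem]
    constructor
    · intro h0
      exact hliftinj (h0.trans (map_zero lift).symm)
    · intro h0
      rw [h0, map_zero]

section U

variable (A E : Type u) [CommRing A] [HenselianLocalRing A]
  [CommRing E] [IsLocalRing E] [Algebra A E] [IsLocalHom (algebraMap A E)]
  [Module.Finite A E] [Algebra.Etale A E] [IsGalois (ResidueField A) (ResidueField E)]

/-- An invariant prime is the only prime over its contraction. -/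
theorem eq_of_comap_eq_of_invariant (P P' : Ideal E) [P.IsPrime] [P'.IsPrime]
    (hP : ∀ σ : E ≃ₐ[A] E, ∀ b ∈ P, σ b ∈ P)
    (h : P'.comap (algebraMap A E) = P.comap (algebraMap A E)) : P' = P := by
  let M₀ := FractionRing (E ⧸ P)
  let Ω := AlgebraicClosure M₀
  let φ : E →ₐ[A] Ω := (IsScalarTower.toAlgHom A M₀ Ω).comp
    ((IsScalarTower.toAlgHom A (E ⧸ P) M₀).comp (Ideal.Quotient.mkₐ A P))
  have hφ : ∀ x, φ x = 0 ↔ x ∈ P := by
    intro x
    show algebraMap M₀ Ω (algebraMap (E ⧸ P) M₀ (Ideal.Quotient.mk P x)) = 0 ↔ x ∈ P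
    rw [← Ideal.Quotient.eq_zero_iff_mem]
    constructor
    · intro h0
      have h1 : algebraMap (E ⧸ P) M₀ (Ideal.Quotient.mk P x) = 0 :=
        (FaithfulSMul.algebraMap_injective M₀ Ω) (h0.trans (map_zero _).symm)
      exact (FaithfulSMul.algebraMap_injective (E ⧸ P) M₀) (h1.trans (map_zero _).symm)
    · intro h0
      rw [h0, map_zero, map_zero]
  have hker : RingHom.ker (algebraMap A Ω) = P'.comap (algebraMap A E) := by
    rw [h]
    ext a
    rw [RingHom.mem_ker, Ideal.mem_comap, ← hφ, φ.commutes]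
  have : Algebra.IsIntegral A E := inferInstance
  obtain ⟨φ', hφ'⟩ := exists_algHom_ker_eq P' hker
  obtain ⟨σ, hσ⟩ := exists_algEquiv_comp A E φ φ'
  ext x
  rw [← hφ', hσ, hφ]
  constructor
  · intro hx
    have := hP σ.symm _ hx
    rwa [σ.symm_apply_apply] at this
  · exact hP σ x

/-- An invariant prime is extended from its contraction. -/
theorem eq_map_comap_of_invariant (P : Ideal E) [P.IsPrime]
    (hP : ∀ σ : E ≃ₐ[A] E, ∀ b ∈ P, σ b ∈ P) :
    P = (P.comap (algebraMap A E)).map (algebraMap A E) := by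
  refine le_antisymm ?_ Ideal.map_comap_le
  intro b hb
  set p : Ideal A := P.comap (algebraMap A E) with hp
  have hpp : p.IsPrime := Ideal.comap_isPrime _ _
  let κ := p.ResidueField
  let T := κ ⊗[A] E
  have hred : IsReduced T := Algebra.FormallyUnramified.isReduced_of_field κ T
  -- `1 ⊗ b` lies in every prime
  have h1 : (1 : κ) ⊗ₜ[A] b = 0 := by
    have h2 : (1 : κ) ⊗ₜ[A] b ∈ nilradical T := by
      rw [nilradical_eq_sInf, Ideal.mem_sInf]
      intro 𝔓 h𝔓
      have h𝔓' : 𝔓.IsPrime := h𝔓
      let ι : E →ₐ[A] T := Algebra.TensorProduct.includeRight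
      let P' : Ideal E := 𝔓.comap ι
      have hP' : P'.IsPrime := Ideal.comap_isPrime _ _
      have hcomap : P'.comap (algebraMap A E) = P.comap (algebraMap A E) := by
        ext a
        have hiff : a ∈ p ↔ algebraMap A κ a = 0 := Ideal.algebraMap_residueField_eq_zero.symm
        rw [← hp, hiff]
        show ι (algebraMap A E a) ∈ 𝔓 ↔ _
        rw [ι.commutes]
        have h3 : algebraMap A T a = algebraMap κ T (algebraMap A κ a) :=
          IsScalarTower.algebraMap_apply A κ T a
        rw [h3]
        constructor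
        · intro hmem
          by_contra hne
          have hu : IsUnit (algebraMap κ T (algebraMap A κ a)) :=
            (isUnit_iff_ne_zero.mpr hne).map (algebraMap κ T)
          exact h𝔓'.ne_top (Ideal.eq_top_of_isUnit_mem _ hmem hu)
        · intro h0
          rw [h0, map_zero]
          exact 𝔓.zero_mem
      have hPP' := eq_of_comap_eq_of_invariant A E P P' hP hcomap
      have hb' : b ∈ P' := hPP' ▸ hb
      exact hb'
    have h3 : nilradical T = ⊥ := nilradical_eq_bot_iff.mpr hred
    rw [h3] at h2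
    exact h2
  -- descend to `E / pE`
  have hflat : Module.Flat A E := inferInstance
  let f : A ⧸ p →ₗ[A] κ := (IsScalarTower.toAlgHom A (A ⧸ p) κ).toLinearMap
  have hf : Function.Injective f := Ideal.injective_algebraMap_quotient_residueField p
  have hinj := Module.Flat.rTensor_preserves_injective_linearMap (M := E) f hf
  have h4 : (1 : A ⧸ p) ⊗ₜ[A] b = 0 := by
    apply hinj
    rw [map_zero, LinearMap.rTensor_tmul]
    show (algebraMap (A ⧸ p) κ 1) ⊗ₜ[A] b = 0
    rw [map_one]
    exact h1
  have h5 := congrArg (TensorProduct.quotTensorEquivQuotSMul E p) h4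
  rw [TensorProduct.quotTensorEquivQuotSMul_mk_one_tmul, map_zero,
    Submodule.Quotient.mk_eq_zero] at h5
  rw [Ideal.smul_top_eq_map] at h5
  exact h5

end U

end Groth.Agent.Lib.Helper4.FEtGal
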