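import Mathlib
import Groth.Agent.Lib.Helper4.FEtGal3

/-!
# Galois descent of subfields for Galois finite étale local algebras
-/

set_option autoImplicit false
set_option linter.unusedSectionVars false
set_option linter.overlappingInstances false
universe u
open IsLocalRing TensorProduct

namespace Groth.Agent.Lib.Helper4.FEtGal

section Main

variable (A E : Type u) [CommRing A] [HenselianLocalRing A]
  [CommRing E] [IsLocalRing E] [Algebra A E] [IsLocalHom (algebraMap A E)]
  [Module.Finite A E] [Algebra.Etale A E] [IsGalois (ResidueField A) (ResidueField E)]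
  (M : Type*) [Field M] [Algebra A M] (β : E →ₐ[A] M)
  (hM : ∀ m : M, ∃ b₁ b₂ : E, β b₂ ≠ 0 ∧ m * β b₂ = β b₁)
  (L : Subfield M) (hL : ∀ a, algebraMap A M a ∈ L)

include hM hL in
theorem fix_lemma :
    (∀ x : M, (∀ τ : M ≃ₐ[L] M, τ x = x) → x ∈ L) ∧
      (∀ τ : M ≃ₐ[L] M, ∃ σ : E ≃ₐ[A] E, ∀ b, τ (β b) = β (σ b)) := by
  let _ : Algebra A L := (RingHom.codRestrict (algebraMap A M) L hL).toAlgebra
  have : IsScalarTower A L M := IsScalarTower.of_algebraMap_eq (fun a => rfl)
  have hgal := isGalois_of_frac A E L M β hM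
  refine ⟨fun x hx => ?_, fun τ => exists_algEquiv_of_algEquiv A E L M β τ⟩
  obtain ⟨y, hy⟩ := (InfiniteGalois.mem_range_algebraMap_iff_fixed x).mpr hx
  rw [← hy]
  exact y.2

include hM hL in
/-- **Main Galois descent statement**: the elements of the image of `E` lying in an intermediate
field `L` are exactly the images of a finite étale `A`-algebra mapping to `E`. -/
theorem exists_etale_of_subfield :
    ∃ (C : Type u) (_ : CommRing C) (_ : Algebra A C) (_ : Module.Finite A C)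
      (_ : Algebra.Etale A C) (ψ : C →ₐ[A] E),
      (∀ c, β (ψ c) ∈ L) ∧ ∀ b, β b ∈ L → ∃ c, β (ψ c) = β b := by
  classical
  obtain ⟨hfixL, hautL⟩ := fix_lemma A E M β hM L hL
  -- the subgroup attached to `L`
  let H : Subgroup (E ≃ₐ[A] E) :=
    { carrier := {σ | ∃ τ : M ≃ₐ[L] M, ∀ b, τ (β b) = β (σ b)}
      mul_mem' := by
        rintro σ σ' ⟨τ, hτ⟩ ⟨τ', hτ'⟩
        refine ⟨τ * τ', fun b => ?_⟩
        show τ (τ' (β b)) = β (σ (σ' b))
        rw [hτ', hτ]
      one_mem' := ⟨1, fun b => rfl⟩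
      inv_mem' := by
        rintro σ ⟨τ, hτ⟩
        refine ⟨τ⁻¹, fun b => ?_⟩
        show τ.symm (β b) = β (σ.symm b)
        rw [AlgEquiv.symm_apply_eq, hτ, σ.apply_symm_apply] }
  have hHmem : ∀ σ, σ ∈ H ↔ ∃ τ : M ≃ₐ[L] M, ∀ b, τ (β b) = β (σ b) := fun σ => Iff.rfl
  obtain ⟨C, _, _, hCloc, hClh, hCfin, hCet, ψ, hψinj, hψloc, hfix, hgalC⟩ :=
    exists_fixed_algebra A E H
  let _ : Algebra C E := ψ.toRingHom.toAlgebra
  have : IsScalarTower A C E := IsScalarTower.of_algebraMap_eq fun a => (ψ.commutes a).symm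
  have hCE : IsLocalHom (algebraMap C E) := hψloc
  have hCh : HenselianLocalRing C := Hzn.henselianLocalRing_of_isIntegral A C
  have hCEet : Algebra.Etale C E := Algebra.Etale.of_restrictScalars A C E
  have hCEfin : Module.Finite C E := Module.Finite.of_restrictScalars_finite A C E
  have hCEgal : IsGalois (ResidueField C) (ResidueField E) := hgalC _ hCE rfl
  have hff : Module.FaithfullyFlat C E := Module.FaithfullyFlat.of_flat_of_isLocalHom
  have hψalg : ∀ c : C, algebraMap C E c = ψ c := fun c => rfl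
  -- `M` as a `C`-algebra
  let _ : Algebra C M := ((β : E →+* M).comp (algebraMap C E)).toAlgebra
  let βC : E →ₐ[C] M := { (β : E →+* M) with commutes' := fun c => rfl }
  have hβC : ∀ b, βC b = β b := fun b => rfl
  let F'' : Subfield M := fracField (algebraMap C M)
  have hF'' : ∀ c, algebraMap C M c ∈ F'' := fun c => map_mem_fracField _ c
  obtain ⟨hfixF, hautF⟩ := fix_lemma C E M βC hM F'' hF''
  -- elements of `Aut_C(E)` lie in `H`
  have hresH : ∀ σ' : E ≃ₐ[C] E, σ'.restrictScalars A ∈ H := by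
    intro σ'
    rw [hfix]
    intro c
    show σ' (algebraMap C E c) = algebraMap C E c
    exact σ'.commutes c
  -- the kernel of `β`
  let P : Ideal E := RingHom.ker (β : E →+* M)
  have hPprime : P.IsPrime := RingHom.ker_isPrime _
  have hPmem : ∀ b, b ∈ P ↔ β b = 0 := fun b => Iff.rfl
  have hPinv : ∀ σ' : E ≃ₐ[C] E, ∀ b ∈ P, σ' b ∈ P := by
    intro σ' b hb
    obtain ⟨τ, hτ⟩ := (hHmem _).mp (hresH σ')
    rw [hPmem] at hb ⊢
    have := hτ b
    rw [hb, map_zero] at this
    exact this.symm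
  have hPext := eq_map_comap_of_invariant C E P hPinv
  -- (⊆)
  have hsub : ∀ c, β (ψ c) ∈ L := by
    intro c
    apply hfixL
    intro τ
    obtain ⟨σ, hσ⟩ := hautL τ
    have hσH : σ ∈ H := (hHmem σ).mpr ⟨τ, hσ⟩
    rw [hσ, (hfix σ).mp hσH c]
  have hF''L : F'' ≤ L := by
    rintro x ⟨c₁, c₂, hc₂, hx⟩
    have h1 : x = algebraMap C M c₁ / algebraMap C M c₂ := by
      rw [← hx]; field_simp
    rw [h1]
    exact L.div_mem (hsub c₁) (hsub c₂)
  -- (L ≤ F'')
  have hLF'' : L ≤ F'' := by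
    intro x hx
    apply hfixF
    intro τ'
    obtain ⟨σ', hσ'⟩ := hautF τ'
    obtain ⟨τ, hτ⟩ := (hHmem _).mp (hresH σ')
    have hagree : ∀ b, τ' (β b) = τ (β b) := by
      intro b
      rw [hτ, ← hβC, hσ']
      rfl
    have hall : ∀ m, τ' m = τ m := by
      intro m
      obtain ⟨b₁, b₂, hb₂, hm⟩ := hM m
      have h1 : τ' m * τ' (β b₂) = τ' (β b₁) := by rw [← map_mul, hm]
      have h2 : τ m * τ (β b₂) = τ (β b₁) := by rw [← map_mul, hm]
      rw [hagree, hagree, ← h2] at h1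
      have h3 : τ (β b₂) ≠ 0 := fun h0 => hb₂ (τ.injective (h0.trans (map_zero τ).symm))
      exact mul_right_cancel₀ h3 h1
    rw [hall]
    exact τ.commutes ⟨x, hx⟩
  refine ⟨C, inferInstance, inferInstance, hCfin, hCet, ψ, hsub, ?_⟩
  intro b hb
  obtain ⟨c₁, c₂, hc₂, hx⟩ := hLF'' hb
  have hc₂P : algebraMap C E c₂ ∉ P := hc₂
  have h1 : b * algebraMap C E c₂ - algebraMap C E c₁ ∈ P := by
    rw [hPmem, map_sub, map_mul]
    exact sub_eq_zero.mpr hx
  obtain ⟨c, hc⟩ := exists_sub_mem_of_faithfullyFlat P hPext b c₁ c₂ hc₂P h1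
  refine ⟨c, ?_⟩
  rw [hPmem, map_sub, sub_eq_zero] at hc
  exact hc.symm

end Main

end Groth.Agent.Lib.Helper4.FEtGal
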