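import Mathlib
import Groth.Agent.Lib.Helper9.FlatCrit

/-!
# Critère de platitude par fibres (Noetherian local case, Stacks 00MP)

`A → B → C` local homomorphisms of local rings with `B`, `C` Noetherian, `M` a nonzero finite
`C`-module.  Then `M` is flat over `A` and `M / 𝔪_A M` is flat over `B / 𝔪_A B` iff `B` is flat
over `A` and `M` is flat over `B`.
-/

set_option autoImplicit false
set_option linter.unusedSectionVars false
set_option linter.style.haveILetI false
universe u v

open TensorProduct IsLocalRing Function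

namespace Groth.Agent.Lib.Helper4.FibreFlat

section core

variable (A : Type*) (B : Type u) (C : Type*) (M : Type v) [CommRing A] [CommRing B] [CommRing C]
  [IsLocalRing A] [IsLocalRing B] [IsLocalRing C] [IsNoetherianRing B] [IsNoetherianRing C]
  [Algebra A B] [Algebra B C] [IsLocalHom (algebraMap A B)] [IsLocalHom (algebraMap B C)]
  [AddCommGroup M] [Module A M] [Module B M] [Module C M] [IsScalarTower A B M]
  [IsScalarTower B C M] [Module.Finite C M] [Nontrivial M]

/-- flatness of `M / I M` over `B / I` in tensor form -/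
theorem flat_quot_iff (I : Ideal B) :
    Module.Flat (B ⧸ I) (M ⧸ (I • (⊤ : Submodule B M))) ↔
      Module.Flat (B ⧸ I) ((B ⧸ I) ⊗[B] M) := by
  let e : ((B ⧸ I) ⊗[B] M) ≃ₗ[B ⧸ I] (M ⧸ (I • (⊤ : Submodule B M))) :=
    (TensorProduct.quotTensorEquivQuotSMul M I).extendScalarsOfSurjective
      Ideal.Quotient.mk_surjective
  exact ⟨fun h => Module.Flat.of_linearEquiv e, fun h => Module.Flat.of_linearEquiv e.symm⟩

include C in
theorem forward (hMA : Module.Flat A M)
    (hfib : Module.Flat (B ⧸ (maximalIdeal A).map (algebraMap A B))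
      ((B ⧸ (maximalIdeal A).map (algebraMap A B)) ⊗[B] M)) :
    Module.Flat A B ∧ Module.Flat B M := by
  have hJ : Injective ((maximalIdeal A).subtype.rTensor M) :=
    Module.Flat.rTensor_preserves_injective_linearMap _ (Submodule.injective_subtype _)
  have hI := Groth.Agent.Lib.Helper9.rTensor_map_subtype_injective (R := A) (S := B) (M := M)
    (maximalIdeal A) hJ
  have hIS : ((maximalIdeal A).map (algebraMap A B)).map (algebraMap B C) ≤ Ideal.jacobson ⊥ := by
    rw [IsLocalRing.jacobson_eq_maximalIdeal ⊥ bot_ne_top]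
    refine le_trans (Ideal.map_mono ?_) (IsLocalRing.map_maximalIdeal_le (algebraMap B C))
    exact IsLocalRing.map_maximalIdeal_le (algebraMap A B)
  have hMB : Module.Flat B M :=
    Groth.Agent.Lib.Helper9.flat_of_rTensor_injective_of_le_jacobson (R := B) (S := C) (M := M)
      ((maximalIdeal A).map (algebraMap A B)) hIS hI
  have hff : Module.FaithfullyFlat B M :=
    Groth.Agent.Lib.Helper9.faithfullyFlat_of_finite_of_isLocalHom (S := B) (S' := C) (M := M)
  exact ⟨Groth.Agent.Lib.Helper9.flat_of_faithfullyFlat_of_flat (R := A) (S := B) (M := M), hMB⟩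

theorem backward (hAB : Module.Flat A B) (hMB : Module.Flat B M) :
    Module.Flat A M ∧ Module.Flat (B ⧸ (maximalIdeal A).map (algebraMap A B))
      ((B ⧸ (maximalIdeal A).map (algebraMap A B)) ⊗[B] M) :=
  ⟨Module.Flat.trans A B M, inferInstance⟩

include C in
theorem criterion :
    (Module.Flat A M ∧ Module.Flat (B ⧸ (maximalIdeal A).map (algebraMap A B))
      (M ⧸ (((maximalIdeal A).map (algebraMap A B)) • (⊤ : Submodule B M)))) ↔
    (Module.Flat A B ∧ Module.Flat B M) := by
  rw [flat_quot_iff]
  exact ⟨fun h => forward A B C M h.1 h.2, fun h => backward A B M h.1 h.2⟩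

end core

/-- The criterion, phrased with ring homomorphisms and `Module.compHom` structures. -/
theorem criterion_hom {A B C M : Type u} [CommRing A] [CommRing B] [CommRing C]
    [IsLocalRing A] [IsLocalRing B] [IsLocalRing C] [IsNoetherianRing B] [IsNoetherianRing C]
    (φ : A →+* B) (ψ : B →+* C) (χ : A →+* C) (hχ : χ = ψ.comp φ) [IsLocalHom φ] [IsLocalHom ψ]
    [AddCommGroup M] [Module C M] [Module.Finite C M] [Nontrivial M] :
    letI := Module.compHom M ψ
    ((letI := Module.compHom M χ; Module.Flat A M) ∧
      Module.Flat (B ⧸ Ideal.map φ (maximalIdeal A))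
        (M ⧸ (Ideal.map φ (maximalIdeal A) • (⊤ : Submodule B M)))) ↔
    (φ.Flat ∧ (letI := Module.compHom M ψ; Module.Flat B M)) := by
  letI : Algebra A B := φ.toAlgebra
  letI : Algebra B C := ψ.toAlgebra
  letI mB : Module B M := Module.compHom M ψ
  letI mA : Module A M := Module.compHom M χ
  haveI : IsScalarTower B C M := ⟨fun b c m => by
    change (ψ b * c) • m = ψ b • (c • m)
    rw [mul_smul]⟩
  haveI : IsScalarTower A B M := ⟨fun a b m => by
    change ψ (φ a * b) • m = χ a • (ψ b • m)
    rw [hχ, map_mul, mul_smul]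
    rfl⟩
  haveI : IsLocalHom (algebraMap A B) := ‹IsLocalHom φ›
  haveI : IsLocalHom (algebraMap B C) := ‹IsLocalHom ψ›
  exact criterion A B C M

end Groth.Agent.Lib.Helper4.FibreFlat
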