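import Mathlib
import Groth.Agent.Lib.Helper4.FinInjFlat1
import Groth.Agent.Lib.Helper9.FlatCrit2

/-!
# Descent of flatness along finite injective ring maps (Noetherian local case)
-/

set_option autoImplicit false
set_option linter.unusedSectionVars false
set_option linter.style.haveILetI false
universe u v w

open TensorProduct Function IsLocalRing

namespace Groth.Agent.Lib.Helper4.FinInjFlat

section step

variable {A : Type u} [CommRing A] {A' : Type v} [CommRing A'] [Algebra A A']
  (B : Type w) [AddCommGroup B] [Module A B]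

/-- Flatness over `A'` gives flatness of the reduction modulo the contraction of an ideal `I'` of
`A'` containing a power of a maximal ideal `𝔪` of `A`. -/
theorem flat_quotient_comap (I' : Ideal A') (𝔪 : Ideal A) [𝔪.IsMaximal]
    (hle : I'.comap (algebraMap A A') ≤ 𝔪) (N : ℕ) (hN : 𝔪 ^ N ≤ I'.comap (algebraMap A A'))
    [Module.Flat A' (A' ⊗[A] B)] :
    Module.Flat (A ⧸ I'.comap (algebraMap A A')) ((A ⧸ I'.comap (algebraMap A A')) ⊗[A] B) := by
  have hmax : (𝔪.map (Ideal.Quotient.mk (I'.comap (algebraMap A A')))).IsMaximal :=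
    Ideal.IsMaximal.map_of_surjective_of_ker_le Ideal.Quotient.mk_surjective
      (by rw [Ideal.mk_ker]; exact hle)
  have hnil : IsNilpotent (𝔪.map (Ideal.Quotient.mk (I'.comap (algebraMap A A')))) := by
    refine ⟨N, ?_⟩
    rw [← Ideal.map_pow, Ideal.zero_eq_bot, Ideal.map_eq_bot_iff_le_ker, Ideal.mk_ker]
    exact hN
  have hflat1 : Module.Flat (A' ⧸ I') ((A' ⧸ I') ⊗[A'] (A' ⊗[A] B)) := inferInstance
  have hflat2 : Module.Flat (A' ⧸ I') ((A' ⧸ I') ⊗[A] B) :=
    Module.Flat.of_linearEquiv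
      (TensorProduct.AlgebraTensorModule.cancelBaseChange A A' (A' ⧸ I') (A' ⧸ I') B).symm
  have hflat3 : Module.Flat (A' ⧸ I')
      ((A' ⧸ I') ⊗[A ⧸ I'.comap (algebraMap A A')] ((A ⧸ I'.comap (algebraMap A A')) ⊗[A] B)) :=
    Module.Flat.of_linearEquiv
      (TensorProduct.AlgebraTensorModule.cancelBaseChange A (A ⧸ I'.comap (algebraMap A A'))
        (A' ⧸ I') (A' ⧸ I') B)
  exact flat_of_flat_baseChange_of_isNilpotent
    (𝔪.map (Ideal.Quotient.mk (I'.comap (algebraMap A A')))) (A' ⧸ I')
    ((A ⧸ I'.comap (algebraMap A A')) ⊗[A] B) hnil Ideal.algebraMap_quotient_injective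

end step

section main

/-- **Descent of flatness along a finite injective ring map** (Noetherian local case):
`A → B` local homomorphism of Noetherian local rings, `A ↪ A'` finite; if `A' ⊗ B` is flat over
`A'` then `B` is flat over `A`. -/
theorem flat_of_flat_baseChange_of_finite_injective (A B A' : Type u) [CommRing A] [CommRing B]
    [CommRing A'] [IsNoetherianRing A] [IsLocalRing A] [IsNoetherianRing B] [IsLocalRing B]
    [Algebra A B] [IsLocalHom (algebraMap A B)] [Algebra A A'] [Module.Finite A A']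
    (hinj : Injective (algebraMap A A')) [Module.Flat A' (A' ⊗[A] B)] : Module.Flat A B := by
  have hIS : (maximalIdeal A).map (algebraMap A B) ≤ Ideal.jacobson ⊥ := by
    rw [IsLocalRing.jacobson_eq_maximalIdeal ⊥ bot_ne_top]
    exact IsLocalRing.map_maximalIdeal_le (algebraMap A B)
  refine Groth.Agent.Lib.Helper9.flat_of_injOnTorsion_pow (R := A) (S := B) (M := B)
    (maximalIdeal A) hIS ?_
  intro n hn
  -- Artin–Rees
  obtain ⟨k, hk⟩ := Ideal.exists_pow_inf_eq_pow_smul (maximalIdeal A)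
    (LinearMap.range (Algebra.linearMap A A'))
  obtain ⟨I', hI'⟩ : ∃ I' : Ideal A', I' = ((maximalIdeal A) ^ (n + k)).map (algebraMap A A') :=
    ⟨_, rfl⟩
  have hJn : I'.comap (algebraMap A A') ≤ (maximalIdeal A) ^ n := by
    intro a ha
    have h1 : algebraMap A A' a ∈ ((maximalIdeal A) ^ (n + k) • (⊤ : Submodule A A')) ⊓
        LinearMap.range (Algebra.linearMap A A') := by
      refine ⟨?_, ⟨a, rfl⟩⟩
      rw [Ideal.smul_top_eq_map, ← hI']
      exact ha
    rw [hk (n + k) (by omega)] at h1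
    have h2 : ∀ x ∈ (maximalIdeal A ^ (n + k - k)) •
        ((maximalIdeal A ^ k • (⊤ : Submodule A A')) ⊓ LinearMap.range (Algebra.linearMap A A')),
        ∃ a' ∈ maximalIdeal A ^ n, algebraMap A A' a' = x := by
      intro x hx
      refine Submodule.smul_induction_on hx ?_ ?_
      · rintro r hr _ ⟨_, ⟨y, rfl⟩⟩
        refine ⟨r * y, Ideal.mul_mem_right _ _ (by simpa using hr), ?_⟩
        rw [Algebra.linearMap_apply, Algebra.smul_def, map_mul]
      · rintro _ _ ⟨a₁, ha₁, rfl⟩ ⟨a₂, ha₂, rfl⟩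
        exact ⟨a₁ + a₂, Ideal.add_mem _ ha₁ ha₂, map_add _ _ _⟩
    obtain ⟨a', ha', hEq⟩ := h2 _ h1
    rw [← hinj hEq]
    exact ha'
  have hJm : I'.comap (algebraMap A A') ≤ maximalIdeal A :=
    hJn.trans (Ideal.pow_le_self hn.ne')
  have hNJ : (maximalIdeal A) ^ (n + k) ≤ I'.comap (algebraMap A A') := by
    rw [hI']
    exact Ideal.le_comap_map
  have hflat : Module.Flat (A ⧸ I'.comap (algebraMap A A'))
      ((A ⧸ I'.comap (algebraMap A A')) ⊗[A] B) :=
    flat_quotient_comap B I' (maximalIdeal A) hJm (n + k) hNJ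
  have h3 : Groth.Agent.Lib.Helper9.InjOnTorsion A (I'.comap (algebraMap A A')) B :=
    Groth.Agent.Lib.Helper9.injOnTorsion_of_flat
  intro X Y _ _ _ _ hX hY j hj
  exact h3 X Y (Module.isTorsionBySet_of_subset hJn hX) (Module.isTorsionBySet_of_subset hJn hY)
    j hj

end main

end Groth.Agent.Lib.Helper4.FinInjFlat
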