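import Mathlib.RingTheory.RingHom.Finite
import Mathlib.RingTheory.Ideal.GoingUp
import Mathlib.RingTheory.Localization.AtPrime.Basic

set_option autoImplicit false
universe u

namespace Groth.Agent.Lib.Helper4

/-- Let `f : R → S` be finite, `q` a prime of `S` which is the only prime over `p = f⁻¹ q`.
Then any map between localizations `R_p → S_q` compatible with `f` is finite. -/
theorem finite_of_isLocalization_atPrime_of_unique {R S : Type u} [CommRing R] [CommRing S]
    (f : R →+* S) (hf : f.Finite) (p : Ideal R) [p.IsPrime] (q : Ideal S) [q.IsPrime]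
    (hpq : p = q.comap f)
    (huniq : ∀ q' : Ideal S, q'.IsPrime → q'.comap f = p → q' = q)
    (R' S' : Type u) [CommRing R'] [CommRing S'] [Algebra R R'] [Algebra S S']
    [IsLocalization.AtPrime R' p] [IsLocalization.AtPrime S' q]
    (g : R' →+* S') (hg : g.comp (algebraMap R R') = (algebraMap S S').comp f) :
    g.Finite := by
  set M := p.primeCompl with hM
  let S'' := Localization (M.map f)
  let f'' : R' →+* S'' := IsLocalization.map S'' f (Submonoid.le_comap_map M)
  have hf'' : f''.Finite := RingHom.finite_localizationPreserves f M R' S'' hf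
  have hf''comp : f''.comp (algebraMap R R') = (algebraMap S S'').comp f :=
    IsLocalization.map_comp _
  have hloc : IsLocalRing R' := IsLocalization.AtPrime.isLocalRing R' p
  have h₁ : M.map f ≤ q.primeCompl := by
    rintro _ ⟨r, hr, rfl⟩
    intro hmem
    apply hr
    rw [hpq]
    exact hmem
  have h₂ : ∀ s ∈ q.primeCompl, IsUnit (algebraMap S S'' s) := by
    intro s hs
    by_contra hnu
    obtain ⟨n, hn, hsn⟩ := exists_max_ideal_of_mem_nonunits (mem_nonunits_iff.mpr hnu)
    have hmax : (n.comap f'').IsMaximal :=
      Ideal.isMaximal_comap_of_isIntegral_of_isMaximal' f'' hf''.to_isIntegral n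
    have hmax' : n.comap f'' = IsLocalRing.maximalIdeal R' := IsLocalRing.eq_maximalIdeal hmax
    have hq' : (n.comap (algebraMap S S'')).comap f = p := by
      rw [Ideal.comap_comap, ← hf''comp, ← Ideal.comap_comap, hmax']
      exact IsLocalization.AtPrime.under_maximalIdeal R' p
    have := huniq _ (Ideal.IsPrime.comap _) hq'
    apply hs
    rw [← this]
    exact hsn
  have hlocq : IsLocalization q.primeCompl S'' := IsLocalization.of_le (M.map f) _ h₁ h₂
  let e : S'' ≃ₐ[S] S' := IsLocalization.algEquiv q.primeCompl S'' S'
  have hge : g = (e : S'' →+* S').comp f'' := by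
    apply IsLocalization.ringHom_ext M
    rw [hg, RingHom.comp_assoc, hf''comp, ← RingHom.comp_assoc]
    congr 1
    ext s
    simp [e]
  rw [hge]
  exact RingHom.Finite.comp (RingHom.Finite.of_surjective _ e.surjective) hf''

end Groth.Agent.Lib.Helper4
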