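import Mathlib
import Groth.Agent.Lib.Helper4.NC4

/-!
# Germs of constant sections at a geometric point; sandwiched constant subsheaves (helper4)
-/

set_option linter.style.haveILetI false
set_option linter.unusedSectionVars false
set_option autoImplicit false
open CategoryTheory CategoryTheory.Limits AlgebraicGeometry Opposite
universe u

namespace Groth.Agent.Lib.Helper4.NC

variable (Λ : Type (u + 1)) [CommRing Λ] {X : Scheme.{u}} {Ω : Type u} [Field Ω] [IsSepClosed Ω]
  (ξ : Spec (CommRingCat.of Ω) ⟶ X)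

instance forgetPresFilt : PreservesFilteredColimitsOfSize.{u, u} (forget (ModuleCat.{u + 1} Λ)) :=
  preservesFilteredColimitsOfSize_shrink.{u, u + 1, u, u + 1} _

/-- The constant sheaf as an object of `EtModW.Mod`. -/
noncomputable abbrev KX (X : Scheme.{u}) (N : ModuleCat.{u + 1} Λ) : EtModW.Mod Λ X :=
  (constantSheaf X.smallEtaleTopology (ModuleCat.{u + 1} Λ)).obj N

/-- The unique point of the fibre over the terminal object. -/
noncomputable def topPt : (Scheme.pointSmallEtale ξ).fiber.obj (EtCoh.top X) :=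
  Over.homMk ξ (by simp)

lemma fiber_top_eq (x y : (Scheme.pointSmallEtale ξ).fiber.obj (EtCoh.top X)) : x = y := by
  haveI := (Scheme.pointSmallEtale ξ).uniqueFiberObj _ (EtCore.topIsTerminal X)
  exact Subsingleton.elim x y

/-- The germ of a section at a lift of the geometric point. -/
noncomputable def germ (G : EtModW.Mod Λ X) (W : X.Etale)
    (x : (Scheme.pointSmallEtale ξ).fiber.obj W) (s : G.obj.obj (op W)) :
    (EtModW.stalk Λ ξ).obj G :=
  ((Scheme.pointSmallEtale ξ).toPresheafFiber W x G.obj).hom s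

lemma germ_map (G : EtModW.Mod Λ X) {W W' : X.Etale} (f : W' ⟶ W)
    (x : (Scheme.pointSmallEtale ξ).fiber.obj W') (s : G.obj.obj (op W)) :
    germ Λ ξ G W' x ((G.obj.map f.op).hom s) =
      germ Λ ξ G W ((Scheme.pointSmallEtale ξ).fiber.map f x) s :=
  congrArg (fun φ : G.obj.obj (op W) ⟶ (Scheme.pointSmallEtale ξ).presheafFiber.obj G.obj =>
    φ.hom s) ((Scheme.pointSmallEtale ξ).toPresheafFiber_w f x G.obj)

lemma stalk_map_germ {G G' : EtModW.Mod Λ X} (φ : G ⟶ G') (W : X.Etale)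
    (x : (Scheme.pointSmallEtale ξ).fiber.obj W) (s : G.obj.obj (op W)) :
    ((EtModW.stalk Λ ξ).map φ).hom (germ Λ ξ G W x s) =
      germ Λ ξ G' W x ((φ.hom.app (op W)).hom s) :=
  congrArg (fun ψ : G.obj.obj (op W) ⟶ (Scheme.pointSmallEtale ξ).presheafFiber.obj G'.obj =>
    ψ.hom s) ((Scheme.pointSmallEtale ξ).toPresheafFiber_naturality φ.hom W x)

lemma exists_germ (G : EtModW.Mod Λ X) (τ : (EtModW.stalk Λ ξ).obj G) :
    ∃ (W : X.Etale) (x : (Scheme.pointSmallEtale ξ).fiber.obj W) (s : G.obj.obj (op W)),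
      germ Λ ξ G W x s = τ :=
  (Scheme.pointSmallEtale ξ).toPresheafFiber_jointly_surjective (P := G.obj) τ

lemma germ_eq_iff (G : EtModW.Mod Λ X) (W : X.Etale)
    (x : (Scheme.pointSmallEtale ξ).fiber.obj W) (s s' : G.obj.obj (op W)) :
    germ Λ ξ G W x s = germ Λ ξ G W x s' ↔
      ∃ (Y : X.Etale) (f : Y ⟶ W) (y : (Scheme.pointSmallEtale ξ).fiber.obj Y),
        (Scheme.pointSmallEtale ξ).fiber.map f y = x ∧
          (G.obj.map f.op).hom s = (G.obj.map f.op).hom s' :=
  (Scheme.pointSmallEtale ξ).toPresheafFiber_eq_iff' (P := G.obj) W x s s'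

/-- The germ of a constant. -/
noncomputable def gcst (N : ModuleCat.{u + 1} Λ) (n : N) :
    (EtModW.stalk Λ ξ).obj (KX Λ X N) :=
  germ Λ ξ (KX Λ X N) (EtCoh.top X) (topPt ξ)
    ((cst X.smallEtaleTopology N (EtCoh.top X)).hom n)

lemma germ_cst (N : ModuleCat.{u + 1} Λ) (W : X.Etale)
    (x : (Scheme.pointSmallEtale ξ).fiber.obj W) (n : N) :
    germ Λ ξ (KX Λ X N) W x ((cst X.smallEtaleTopology N W).hom n) =
      gcst Λ ξ N n := by
  let t : W ⟶ EtCoh.top X := (EtCore.topIsTerminal X).from W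
  rw [← cst_map X.smallEtaleTopology N t n, germ_map]
  unfold gcst
  rw [fiber_top_eq ξ ((Scheme.pointSmallEtale ξ).fiber.map t x) (topPt ξ)]

lemma exists_gcst (N : ModuleCat.{u + 1} Λ)
    (τ : (EtModW.stalk Λ ξ).obj (KX Λ X N)) : ∃ n : N, τ = gcst Λ ξ N n := by
  obtain ⟨W, x, s, rfl⟩ := exists_germ Λ ξ _ τ
  obtain ⟨S, hS, hSc⟩ := cst_locally X.smallEtaleTopology N W s
  obtain ⟨W', f, hf, x', rfl⟩ := (Scheme.pointSmallEtale ξ).jointly_surjective S hS x
  obtain ⟨n, hn⟩ := hSc f hf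
  refine ⟨n, ?_⟩
  rw [← germ_map, ← hn, germ_cst]

lemma gcst_injective (N : ModuleCat.{u + 1} Λ) (n n' : N)
    (h : gcst Λ ξ N n = gcst Λ ξ N n') : n = n' := by
  unfold gcst at h
  rw [germ_eq_iff] at h
  obtain ⟨Y, f, y, -, hy⟩ := h
  rw [cst_map, cst_map] at hy
  obtain ⟨S, hS, hSeq⟩ := cst_eq_locally X.smallEtaleTopology N Y n n' hy
  obtain ⟨Y', g, hg, -, -⟩ := (Scheme.pointSmallEtale ξ).jointly_surjective S hS y
  exact hSeq g hg

lemma constMap_cst {N N' : ModuleCat.{u + 1} Λ} (f : N ⟶ N') (W : X.Etale) (n : N) :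
    (((constantSheaf X.smallEtaleTopology (ModuleCat.{u + 1} Λ)).map f).hom.app (op W)).hom
      ((cst X.smallEtaleTopology N W).hom n) = (cst X.smallEtaleTopology N' W).hom (f.hom n) := by
  have h := toSheafify_naturality X.smallEtaleTopology
    ((Functor.const (X.Etale)ᵒᵖ).map f)
  have h2 := congrArg (fun φ : cstP N ⟶ sheafify X.smallEtaleTopology (cstP N') =>
    (φ.app (op W)).hom n) h
  exact h2.symm

lemma stalk_constMap_gcst {N N' : ModuleCat.{u + 1} Λ} (f : N ⟶ N') (n : N) :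
    ((EtModW.stalk Λ ξ).map
      ((constantSheaf X.smallEtaleTopology (ModuleCat.{u + 1} Λ)).map f)).hom (gcst Λ ξ N n) =
      gcst Λ ξ N' (f.hom n) := by
  unfold gcst
  rw [stalk_map_germ, constMap_cst]

/-- Any nonempty étale scheme over an irreducible scheme carries a lift of a generic geometric
point. -/
lemma exists_fiber_of_NE [IrreducibleSpace X] (hξ : ξ.base default = genericPoint ↥X)
    (W : X.Etale) (hW : NE W) : Nonempty ((Scheme.pointSmallEtale ξ).fiber.obj W) := by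
  obtain ⟨w⟩ := hW
  have o : IsOpen (Set.range W.hom.base) := W.hom.isOpenMap.isOpen_range
  have hg : genericPoint ↥X ∈ Set.range W.hom.base :=
    ((genericPoint_spec ↥X).mem_open_set_iff o).2 ⟨_, trivial, ⟨w, rfl⟩⟩
  obtain ⟨w', hw'⟩ := hg
  obtain ⟨x, -⟩ := Scheme.pointSmallEtaleFiberObjToPreimage_surjective ξ hξ W ⟨w', hw'⟩
  exact ⟨x⟩

theorem isIso_of_sandwich [IrreducibleSpace X] (hξ : ξ.base default = genericPoint ↥X)
    (M : Type (u + 1)) [AddCommGroup M] [Module Λ M] (M' : Submodule Λ M) (G : EtModW.Mod Λ X)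
    (a : KX Λ X (ModuleCat.of Λ M') ⟶ G) (b : G ⟶ KX Λ X (ModuleCat.of Λ M)) [Mono a] [Mono b]
    (hab : a ≫ b = (constantSheaf X.smallEtaleTopology (ModuleCat.{u + 1} Λ)).map
      (ModuleCat.ofHom M'.subtype))
    (hst : IsIso ((EtModW.stalk Λ ξ).map a)) : IsIso a := by
  haveI : Epi a := by
    rw [← Sheaf.isLocallySurjective_iff_epi' (A := ModuleCat.{u + 1} Λ)]
    constructor
    intro W s
    obtain ⟨S, hS, hSc⟩ := cst_locally X.smallEtaleTopology (ModuleCat.of Λ M) W
      ((b.hom.app (op W)).hom s)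
    refine X.smallEtaleTopology.superset_covering ?_ hS
    intro W' f hf
    obtain ⟨m, hm⟩ := hSc f hf
    have hnat : ((KX Λ X (ModuleCat.of Λ M)).obj.map f.op).hom ((b.hom.app (op W)).hom s) =
        (b.hom.app (op W')).hom ((G.obj.map f.op).hom s) :=
      (congrArg (fun φ : G.obj.obj (op W) ⟶ (KX Λ X (ModuleCat.of Λ M)).obj.obj (op W') => φ.hom s)
        (b.hom.naturality f.op)).symm
    rw [hnat] at hm
    by_cases hW' : NE W'
    · obtain ⟨x'⟩ := exists_fiber_of_NE ξ hξ W' hW'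
      let σ := germ Λ ξ G W' x' ((G.obj.map f.op).hom s)
      haveI := hst
      obtain ⟨τ, hτ⟩ : ∃ τ, ((EtModW.stalk Λ ξ).map a).hom τ = σ :=
        ⟨(inv ((EtModW.stalk Λ ξ).map a)).hom σ, by
          rw [← ModuleCat.comp_apply, IsIso.inv_hom_id]; rfl⟩
      obtain ⟨m', rfl⟩ := exists_gcst Λ ξ (ModuleCat.of Λ M') τ
      have h1 : ((EtModW.stalk Λ ξ).map b).hom σ = gcst Λ ξ (ModuleCat.of Λ M) m := by
        rw [stalk_map_germ, ← hm, germ_cst]
      have h2 : ((EtModW.stalk Λ ξ).map b).hom σ =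
          gcst Λ ξ (ModuleCat.of Λ M) (M'.subtype m') := by
        rw [← hτ, ← ModuleCat.comp_apply, ← Functor.map_comp, hab, stalk_constMap_gcst]
        rfl
      have hmm : m = M'.subtype m' := gcst_injective Λ ξ _ _ _ (h1.symm.trans h2)
      refine ⟨(cst X.smallEtaleTopology (ModuleCat.of Λ M') W').hom m', ?_⟩
      apply injective_app_of_mono X.smallEtaleTopology b W'
      rw [← hm, hmm]
      have h3 := constMap_cst Λ (X := X) (ModuleCat.ofHom M'.subtype) W' m'
      rw [← hab] at h3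
      exact h3
    · exact ⟨0, eq_of_bot_mem X.smallEtaleTopology G (bot_mem_of_not_NE W' hW') _ _⟩
  exact isIso_of_mono_of_epi a

end Groth.Agent.Lib.Helper4.NC
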