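import Mathlib
import Groth.Agent.Lib.Helper4.ST4
import Groth.Agent.Lib.Helper4.AR3
import Groth.Agent.Lib.Helper4.CM3

/-!
# AR-adic systems of finite type locally constant sheaves on a connected scheme (helper4)
-/

set_option linter.style.haveILetI false
set_option linter.unusedSectionVars false
set_option autoImplicit false
open CategoryTheory CategoryTheory.Limits AlgebraicGeometry Opposite
universe w v u

namespace Groth.Agent.Lib.Helper4.ST

open ARSys Groth.Agent.Lib27.ARSys Groth.Agent.Lib.Helper4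

section abstract

variable {C : Type u} [Category.{v} C] [Abelian C] {A : Type w} [CommRing A] [IsNoetherianRing A]
  [Linear A C] (P : ObjectProperty C) [WSerre.IsWeakSerre P]

lemma ι_map_smul (a : A) {M N : P.FullSubcategory} (ψ : M ⟶ N) :
    P.ι.map (a • ψ) = a • P.ι.map ψ := rfl

/-- A system in a weak Serre subcategory which is adic up to translation in the subcategory
is so in the ambient category, with adic model in the subcategory. -/
theorem exists_adic_of_isARAdic_lift (J : Ideal A) (F : PS C) (hF : ∀ n : ℕᵒᵖ, P (F.obj n))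
    (h : IsARAdic J (P.lift F hF)) :
    ∃ (Y : PS C) (v : Y ⟶ F), IsAdic J Y ∧ (∀ n : ℕ, P (Y.obj (op n))) ∧ IsARIso v := by
  obtain ⟨-, Y', u', hY', hu'⟩ := h
  have hJ : ∀ n : ℕ, (J ^ n).FG := fun n => IsNoetherian.noetherian _
  refine ⟨Y' ⋙ P.ι, Functor.whiskerRight u' P.ι, ⟨fun n => ?_, fun n m hnm => ?_⟩,
    fun n => (Y'.obj (op n)).property, CM.isARIso_whiskerRight P.ι u' hu'⟩
  · exact CM.killedBy_map_of_linear P.ι (fun a _ _ ψ => ι_map_smul P a ψ) _ (hY'.1 n)
  · exact AR.isQuot_map_of_rightExact P.ι (fun a _ _ ψ => ι_map_smul P a ψ) _ (hJ (n + 1)) _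
      (hY'.2 n m hnm)

end abstract

section ftlc

variable (Λ : Type (u + 1)) [CommRing Λ] {X : Scheme.{u}}

/-- A finite type locally constant sheaf of modules is constructible. -/
theorem isConstructible_of_isFTLocConst (F : EtModW.Mod Λ X) (hF : EtModW.IsFTLocConst Λ F) :
    EtModW.IsConstructible Λ F := by
  intro U hU
  refine ⟨1, fun _ => U.toScheme, fun _ => U.ι, fun _ => inferInstance, fun _ => ?_, ?_, ?_,
    fun _ => CM.isFTLocConst_pull Λ U.ι F hF⟩
  · have : (Subtype.val : ↥(U : Set X) → X) ⁻¹' Set.range U.ι = Set.univ := by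
      ext ⟨x, hx⟩
      simp only [Set.mem_preimage, Set.mem_univ, iff_true]
      rw [Scheme.Opens.range_ι]
      exact hx
    rw [this]
    exact Topology.IsConstructible.univ
  · intro i j hij
    exact (hij (Subsingleton.elim i j)).elim
  · rw [Set.iUnion_const, Scheme.Opens.range_ι]

variable [IsNoetherianRing Λ]

/-- Finite type locally constant sheaves of modules form a weak Serre subcategory. -/
instance isWeakSerre_isFTLocConst :
    WSerre.IsWeakSerre (fun E : EtModW.Mod Λ X => EtModW.IsFTLocConst Λ E) := by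
  refine
    { exists_zero := ?_
      kernels_le := ?_
      cokernels_le := ?_
      prop_X₂_of_shortExact := ?_ }
  · obtain ⟨Z, hZ⟩ : ∃ Z : EtModW.Mod Λ X, IsZero Z := ⟨_, isZero_zero _⟩
    exact ⟨Z, hZ, CM.isFTLocConst_of_isZero Λ hZ⟩
  · rintro _ ⟨f, k, hk, hA, hB⟩
    exact CM.isFTLocConst_of_iso Λ
      (IsLimit.conePointUniqueUpToIso (limit.isLimit (parallelPair f 0)) hk)
      (Groth.Agent.Lib.Helper2.LCSite.Et.ftLocConst_kernel_cokernel f hA hB).1
  · rintro _ ⟨f, k, hk, hA, hB⟩
    exact CM.isFTLocConst_of_iso Λ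
      (IsColimit.coconePointUniqueUpToIso (colimit.isColimit (parallelPair f 0)) hk)
      (Groth.Agent.Lib.Helper2.LCSite.Et.ftLocConst_kernel_cokernel f hA hB).2
  · intro T hT h₁ h₃
    exact Groth.Agent.Lib.Helper2.LCSite.Et.ftLocConst_extension T hT h₁ h₃

/-- On a connected scheme, a system of finite type locally constant sheaves one of whose stalk
systems is adic up to translation is adic up to translation, with constructible adic model. -/
theorem arc_of_stalk_of_isFTLocConst [PreconnectedSpace X] (I : Ideal Λ)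
    (F : PS (EtModW.Mod Λ X)) (hl : ∀ n : ℕ, EtModW.IsFTLocConst Λ (F.obj (op n)))
    (hk : TermKilled I F) {Ω : Type u} [Field Ω] [IsSepClosed Ω]
    (s : Spec (CommRingCat.of Ω) ⟶ X) (hs : IsARAdic I (F ⋙ EtModW.stalk Λ s)) :
    ∃ (Y : PS (EtModW.Mod Λ X)) (v : Y ⟶ F), IsAdic I Y ∧
      (∀ n : ℕ, EtModW.IsConstructible Λ (Y.obj (op n))) ∧ IsARIso v := by
  let P : ObjectProperty (EtModW.Mod Λ X) := fun E => EtModW.IsFTLocConst Λ E
  have hJ : I.FG := IsNoetherian.noetherian I
  have hF : ∀ n : ℕᵒᵖ, P (F.obj n) := fun n => hl n.unop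
  have kF' : TermKilled I (P.lift F hF) := by
    intro n a ha
    apply P.hom_ext
    exact hk n a ha
  have hz : ∀ M : P.FullSubcategory,
      (∀ _ : Unit, IsZero ((P.ι ⋙ EtModW.stalk Λ s).obj M)) → IsZero M := by
    intro M h
    have h1 : IsZero M.obj :=
      isZero_of_isFTLocConst_of_isZero_stalk Λ M.obj M.property s (h ())
    rw [IsZero.iff_id_eq_zero]
    apply P.ι.map_injective
    rw [CategoryTheory.Functor.map_id, Functor.map_zero]
    exact (IsZero.iff_id_eq_zero _).1 h1
  have hL : ∀ (_ : Unit) (a : Λ) {M N : P.FullSubcategory} (ψ : M ⟶ N),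
      (P.ι ⋙ EtModW.stalk Λ s).map (a • ψ) = a • (P.ι ⋙ EtModW.stalk Λ s).map ψ := by
    intro _ a M N ψ
    exact stalkM_map_smul Λ s a (P.ι.map ψ)
  have hQ : ∀ (_ : Unit) (I' : Ideal Λ) {B Q : P.FullSubcategory} (p : B ⟶ Q),
      IsQuot I' p → IsQuot I' ((P.ι ⋙ EtModW.stalk Λ s).map p) := by
    intro _ I' B Q p hp
    exact AR.isQuot_map_of_rightExact (P.ι ⋙ EtModW.stalk Λ s) (hL ()) I'
      (IsNoetherian.noetherian I') p hp
  have hAR : IsARAdic I (P.lift F hF) := by
    apply AR.isARAdic_of_forall_comp (ι := Unit) (fun _ => P.ι ⋙ EtModW.stalk Λ s) hz hL hQ I hJ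
      (P.lift F hF) kF'
    intro _
    exact hs
  obtain ⟨Y, v, hY, hYP, hv⟩ := exists_adic_of_isARAdic_lift P I F hF hAR
  exact ⟨Y, v, hY, fun n => isConstructible_of_isFTLocConst Λ _ (hYP n), hv⟩

end ftlc

end Groth.Agent.Lib.Helper4.ST
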