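import Mathlib
import Groth.Agent.Lib.Helper4.GR6

/-!
# An adic system of sheaves of modules with constructible zeroth term is constructible (helper4)
-/

set_option linter.style.haveILetI false
set_option linter.unusedSectionVars false
set_option autoImplicit false
open CategoryTheory CategoryTheory.Limits AlgebraicGeometry Opposite
universe u

namespace Groth.Agent.Lib.Helper4.GR

open ARSys Groth.Agent.Lib27.ARSys Groth.Agent.Lib.Helper4.NC Groth.Agent.Lib.Helper4.CM
  Groth.Agent.Lib.Helper22.Strata Set Topology TopologicalSpace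

variable (Λ : Type (u + 1)) [CommRing Λ] [IsNoetherianRing Λ] (I : Ideal Λ)

/-- On a locally Noetherian scheme, every affine open has a finite partition into constructible
locally closed strata on which all terms of an adic system with constructible zeroth term are
finite type locally constant. -/
theorem stIn_uniform_of_zero (X : Scheme.{u}) [IsLocallyNoetherian X]
    (F : ARSys.PS (EtModW.Mod Λ X)) (hF : ARSys.IsAdic I F)
    (h0 : EtModW.IsConstructible Λ (F.obj (op 0))) (V₀ : X.Opens) (hV₀ : IsAffineOpen V₀) :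
    StIn (fun T g => ∀ n : ℕ,
      EtModW.IsFTLocConst Λ ((EtModW.pull Λ g).obj (F.obj (op n)))) (V₀ : Set X) (V₀ : Set X) := by
  let P : MorProp X := fun T g => ∀ n : ℕ,
    EtModW.IsFTLocConst Λ ((EtModW.pull Λ g).obj (F.obj (op n)))
  have hP : P.Stable := by
    intro T T' h g hg n
    exact isFTLocConst_of_iso Λ ((pullCompM Λ h g).app (F.obj (op n))).symm
      (isFTLocConst_pull Λ h _ (hg n))
  have hloc : ∀ ⦃U Y : Scheme.{u}⦄ (g : U ⟶ X) (h' : Y ⟶ U), Etale h' →
      Function.Surjective h'.base → P (h' ≫ g) → P g := by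
    intro U Y g h' hh' hs hg n
    haveI := hh'
    apply isFTLocConst_of_pull_etale_surjective Λ h' hs
    exact isFTLocConst_of_iso Λ ((pullCompM Λ h' g).app (F.obj (op n))) (hg n)
  have hcore : ∀ (W : Scheme.{u}) (_ : IrreducibleSpace W) (g₁ : W ⟶ X)
      (M : ModuleCat.{u + 1} Λ) (_ : Module.Finite Λ M),
      Nonempty ((EtModW.pull Λ g₁).obj (F.obj (op 0)) ≅
        (constantSheaf W.smallEtaleTopology (ModuleCat.{u + 1} Λ)).obj M) →
      ∃ Y₀ : W.Etale, Nonempty Y₀.left ∧ P (Y₀.hom ≫ g₁) := by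
    rintro W hW g₁ M hM ⟨e⟩
    haveI := hW
    haveI := hM
    have hLin : ∀ (a : Λ) {A B : EtModW.Mod Λ X} (ψ : A ⟶ B),
        (EtModW.pull Λ g₁).map (a • ψ) = a • (EtModW.pull Λ g₁).map ψ :=
      fun a _ _ ψ => pullM_map_smul Λ g₁ a ψ
    have hR : ∀ (a : Λ) {A B : EtModW.Mod Λ W} (ψ : A ⟶ B),
        (EtModW.push Λ g₁).map (a • ψ) = a • (EtModW.push Λ g₁).map ψ :=
      fun _ _ _ _ => rfl
    have hG : ARSys.IsAdic I (F ⋙ EtModW.pull Λ g₁) :=
      ⟨fun n => killedBy_map_of_linear _ hLin _ (hF.1 n), fun n m h =>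
        DC.isQuot_map_of_adjunction (pullPushAdjM Λ g₁) hLin hR _ _ (hF.2 n m h)⟩
    obtain ⟨Y₀, hY₀, hlcc⟩ := exists_uniform_lcc Λ I (F ⋙ EtModW.pull Λ g₁) hG M e
    exact ⟨Y₀, hY₀, fun n => isFTLocConst_of_iso Λ
      ((pullCompM Λ Y₀.hom g₁).app (F.obj (op n))).symm (hlcc n)⟩
  exact stIn_of_const_core Λ (F.obj (op 0)) h0 P hP hloc hcore V₀ hV₀

/-- An adic system of sheaves of modules on a locally Noetherian scheme whose zeroth term is
constructible has all its terms constructible. -/
theorem isConstructible_of_isAdic_zero (X : Scheme.{u}) [IsLocallyNoetherian X]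
    (F : ARSys.PS (EtModW.Mod Λ X)) (hF : ARSys.IsAdic I F)
    (h0 : EtModW.IsConstructible Λ (F.obj (op 0))) (n : ℕ) :
    EtModW.IsConstructible Λ (F.obj (op n)) := by
  intro U hU
  rw [adaptedStrata_iff_M]
  exact StIn.mono_prop (fun T g h => h n) (stIn_uniform_of_zero Λ I X F hF h0 U hU)

end Groth.Agent.Lib.Helper4.GR
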