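import Mathlib.RingTheory.Regular.ProjectiveDimension
import Mathlib.RingTheory.Ideal.AssociatedPrime.Finiteness
import Mathlib.RingTheory.Ideal.Quotient.Operations

/-! Global dimension of a Noetherian local ring is bounded by the projective dimension of the
residue field (Ext-only proof, via Bass-type descending induction on primes). -/

set_option autoImplicit false
universe u

open CategoryTheory Abelian IsLocalRing

namespace Groth.Agent.Lib.Helper4

variable {A : Type u} [CommRing A]

/-- `Ext` out of a zero object vanishes. -/
theorem ext_subsingleton_of_subsingleton (N : ModuleCat.{u} A) [Subsingleton N]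
    (L : ModuleCat.{u} A) (i : ℕ) : Subsingleton (Ext N L i) := by
  have hz : Limits.IsZero N := ModuleCat.isZero_of_subsingleton N
  have := hz.hasProjectiveDimensionLT_zero
  exact HasProjectiveDimensionLT.subsingleton N 0 i (Nat.zero_le i) L

/-- Vanishing of `Ext` transfers along isomorphisms in the first variable. -/
theorem ext_subsingleton_of_iso {N N' : ModuleCat.{u} A} (e : N ≅ N') (L : ModuleCat.{u} A) (i : ℕ)
    (h : Subsingleton (Ext N' L i)) : Subsingleton (Ext N L i) := by
  refine ⟨fun x y => ?_⟩
  have key : ∀ z : Ext N L i, z = 0 := by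
    intro z
    have h1 : z = (Ext.mk₀ e.hom).comp ((Ext.mk₀ e.inv).comp z (zero_add i)) (zero_add i) := by
      rw [Ext.mk₀_comp_mk₀_assoc, e.hom_inv_id, Ext.mk₀_id_comp]
    rw [h1, Subsingleton.elim ((Ext.mk₀ e.inv).comp z (zero_add i)) 0, Ext.comp_zero]
  rw [key x, key y]

variable [IsNoetherianRing A]

/-- If `Ext^i(A/q, L) = 0` for `i > n` and all primes `q` in the support of a finite module `N`,
then `Ext^i(N, L) = 0` for `i > n`. -/
theorem ext_subsingleton_of_forall_prime (L : ModuleCat.{u} A) (n : ℕ)
    (N : Type u) [AddCommGroup N] [Module A N] [hN : Module.Finite A N]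
    (h : ∀ q : Ideal A, q.IsPrime → Module.annihilator A N ≤ q →
      ∀ i, n < i → Subsingleton (Ext (ModuleCat.of A (A ⧸ q)) L i)) :
    ∀ i, n < i → Subsingleton (Ext (ModuleCat.of A N) L i) := by
  induction hN using IsNoetherianRing.induction_on_isQuotientEquivQuotientPrime with
  | subsingleton N =>
    intro i _
    exact ext_subsingleton_of_subsingleton (ModuleCat.of A N) L i
  | quotient N p e =>
    intro i hi
    have hann : Module.annihilator A N ≤ p.asIdeal := by
      rw [e.annihilator_eq, Ideal.annihilator_quotient]
    exact ext_subsingleton_of_iso e.toModuleIso L i (h p.asIdeal p.isPrime hann i hi)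
  | exact N₁ N₂ N₃ f g hf hg hfg ih₁ ih₃ =>
    intro i hi
    have h₁ := ih₁ (fun q hq hle => h q hq
      ((LinearMap.annihilator_le_of_injective f hf).trans hle)) i hi
    have h₃ := ih₃ (fun q hq hle => h q hq
      ((LinearMap.annihilator_le_of_surjective g hg).trans hle)) i hi
    let S : ShortComplex (ModuleCat.{u} A) :=
      ShortComplex.mk (ModuleCat.ofHom f) (ModuleCat.ofHom g) (by
        ext x
        exact hfg.apply_apply_eq_zero x)
    have hS : S.ShortExact := ModuleCat.shortComplex_shortExact S hfg hf hg
    refine ⟨fun x y => ?_⟩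
    have key : ∀ z : Ext (ModuleCat.of A N₂) L i, z = 0 := by
      intro z
      obtain ⟨w, hw⟩ := Ext.contravariant_sequence_exact₂ hS L z (Subsingleton.elim _ _)
      rw [← hw, Subsingleton.elim w 0, Ext.comp_zero]
    rw [key x, key y]

variable [IsLocalRing A]

/-- Descending induction on primes: if `Ext^i(k, L) = 0` for `i > n` then `Ext^i(A/p, L) = 0` for
all primes `p` and `i > n` (`L` finite). -/
theorem ext_quotient_prime_subsingleton (L : ModuleCat.{u} A) [Module.Finite A L] (n : ℕ)
    (hk : ∀ i, n < i → Subsingleton (Ext (ModuleCat.of A (ResidueField A)) L i))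
    (p : Ideal A) (hp : p.IsPrime) :
    ∀ i, n < i → Subsingleton (Ext (ModuleCat.of A (A ⧸ p)) L i) := by
  induction p using WellFoundedGT.induction with
  | ind p ih =>
    intro i hi
    by_cases hpm : p = maximalIdeal A
    · subst hpm
      exact hk i hi
    have hlt : p < maximalIdeal A := lt_of_le_of_ne (IsLocalRing.le_maximalIdeal hp.ne_top) hpm
    obtain ⟨x, hxm, hxp⟩ := Set.exists_of_ssubset hlt
    let M : ModuleCat.{u} A := ModuleCat.of A (A ⧸ p)
    have reg : IsSMulRegular M x := by
      intro a b hab
      have : Ideal.Quotient.mk p x * a = Ideal.Quotient.mk p x * b := hab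
      have hx0 : Ideal.Quotient.mk p x ≠ 0 := by
        rwa [Ne, Ideal.Quotient.eq_zero_iff_mem]
      have hdom : IsDomain (A ⧸ p) := Ideal.Quotient.isDomain p
      exact mul_left_cancel₀ hx0 this
    let S := M.smulShortComplex x
    have hS : S.ShortExact := reg.smulShortComplex_shortExact
    have hfin : Module.Finite A (QuotSMulTop x M) := inferInstance
    have zero : Subsingleton (Ext S.X₃ L (i + 1)) := by
      refine ext_subsingleton_of_forall_prime L n (QuotSMulTop x M) (fun q hq hle => ?_) (i + 1)
        (by omega)
      have hpq : p ≤ q := by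
        refine le_trans ?_ hle
        have h1 : Module.annihilator A (A ⧸ p) ≤ Module.annihilator A (QuotSMulTop x M) :=
          LinearMap.annihilator_le_of_surjective _ (Submodule.mkQ_surjective _)
        rwa [Ideal.annihilator_quotient] at h1
      have hxq : x ∈ q := hle (QuotSMulTop.mem_annihilator M x)
      exact ih q (lt_of_le_of_ne hpq (fun h => hxp (h ▸ hxq))) hq
    have exac := Ext.contravariant_sequence_exact₁' hS L i (i + 1) (add_comm 1 i)
    have epi := exac.epi_f ((@AddCommGrpCat.isZero_of_subsingleton _ zero).eq_zero_of_tgt _)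
    have hSf : S.f = x • 𝟙 M := rfl
    simp only [S, hSf, AddCommGrpCat.epi_iff_surjective, AddCommGrpCat.hom_ofHom] at epi
    by_contra! ntr
    have hxj : x ∈ (Module.annihilator A (Ext M L i)).jacobson :=
      (IsLocalRing.maximalIdeal_le_jacobson _) hxm
    absurd Submodule.top_ne_pointwise_smul_of_mem_jacobson_annihilator hxj
    rw [eq_comm, eq_top_iff]
    intro y hy
    rcases epi y with ⟨z, hz⟩
    have hz' : x • z = y := by
      rw [← hz]
      change x • z = (Ext.mk₀ (x • 𝟙 M)).comp z (zero_add i)
      rw [Ext.mk₀_smul, Ext.smul_comp, Ext.mk₀_id_comp]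
      rfl
    rw [← hz']
    exact Submodule.smul_mem_pointwise_smul _ _ ⊤ trivial

/-- If the residue field of a Noetherian local ring has projective dimension `≤ n`, so does
every finite module. -/
theorem hasProjectiveDimensionLT_of_residueField_of_finite (n : ℕ)
    (hk : HasProjectiveDimensionLT (ModuleCat.of A (ResidueField A)) (n + 1))
    (M : Type u) [AddCommGroup M] [Module A M] [Module.Finite A M] :
    HasProjectiveDimensionLT (ModuleCat.of A M) (n + 1) := by
  apply ModuleCat.hasProjectiveDimensionLT_of_forall_finite
  intro L hL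
  refine ext_subsingleton_of_forall_prime L n M (fun q hq _ => ?_) (n + 1) (Nat.lt_succ_self n)
  exact ext_quotient_prime_subsingleton L n
    (fun i hi => HasProjectiveDimensionLT.subsingleton _ (n + 1) i hi L) q hq

end Groth.Agent.Lib.Helper4
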