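import Mathlib
import Groth.Prelude.Def_ProEtS
import Groth.Agent.Lib.Helper4.PE2

/-!
# Uniqueness of extensions of morphisms to weakly étale schemes from a closed subscheme
containing all closed points
-/

set_option autoImplicit false
set_option linter.style.haveILetI false
set_option linter.unusedSectionVars false
universe u

namespace Groth.Agent.Lib.Helper4.HSch

open CategoryTheory CategoryTheory.Limits AlgebraicGeometry Opposite Groth.Agent.Lib.Helper4.PE

/-- every point of a quasi-compact scheme specializes to a closed point -/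
theorem exists_closed_specializes {W : Scheme.{u}} [CompactSpace W] (w : W) :
    ∃ x : W, IsClosed ({x} : Set W) ∧ w ⤳ x := by
  obtain ⟨x, hx, hcl⟩ := IsClosed.exists_closed_singleton (isClosed_closure (s := ({w} : Set W)))
    ⟨w, subset_closure rfl⟩
  exact ⟨x, hcl, specializes_iff_mem_closure.mpr hx⟩

/-- a flat morphism whose range contains all closed points of a quasi-compact target is
surjective -/
theorem surjective_of_flat_of_closedPoints {E W : Scheme.{u}} [CompactSpace W] (q : E ⟶ W)
    [Flat q] (h : ∀ w : W, IsClosed ({w} : Set W) → w ∈ Set.range q.base) : Surjective q := by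
  refine ⟨fun w => ?_⟩
  obtain ⟨x, hx, hwx⟩ := exists_closed_specializes w
  obtain ⟨y, rfl⟩ := h x hx
  obtain ⟨y', -, hy'⟩ := Flat.generalizingMap q hwx
  exact ⟨y', hy'⟩

/-- (Uq) -/
theorem hom_ext_of_closedPoints {W T X V : Scheme.{u}} [IsAffine W] (th : T ⟶ X) [WeaklyEtale th]
    (ι : V ⟶ W) (hι : ∀ w : W, IsClosed ({w} : Set W) → w ∈ Set.range ι.base)
    (a a' : W ⟶ T) (hX : a ≫ th = a' ≫ th) (hV : ι ≫ a = ι ≫ a') : a = a' := by
  let Δ := pullback.diagonal th
  let aa : W ⟶ pullback th th := pullback.lift a a' hX
  let q : pullback aa Δ ⟶ W := pullback.fst aa Δ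
  haveI : WeaklyEtale Δ := inferInstance
  haveI : WeaklyEtale q := inferInstance
  haveI : IsImmersion q := MorphismProperty.pullback_fst _ _ (inferInstance : IsImmersion Δ)
  -- the two composites agree
  have hq : q ≫ a = q ≫ a' := by
    have h1 : q ≫ aa = pullback.snd aa Δ ≫ Δ := pullback.condition
    have h2 := congrArg (fun m => m ≫ pullback.fst th th) h1
    have h3 := congrArg (fun m => m ≫ pullback.snd th th) h1
    simp only [Category.assoc, aa, Δ, pullback.lift_fst, pullback.lift_snd,
      pullback.diagonal_fst, pullback.diagonal_snd] at h2 h3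
    rw [h2, h3]
  -- `ι` factors through `q`
  let ℓ : V ⟶ pullback aa Δ := pullback.lift ι (ι ≫ a) (by
    apply pullback.hom_ext
    · simp only [Category.assoc, aa, Δ, pullback.lift_fst, pullback.diagonal_fst,
        Category.comp_id]
    · simp only [Category.assoc, aa, Δ, pullback.lift_snd, pullback.diagonal_snd,
        Category.comp_id, hV])
  have hℓ : ℓ ≫ q = ι := pullback.lift_fst _ _ _
  have hrange : ∀ w : W, IsClosed ({w} : Set W) → w ∈ Set.range q.base := by
    intro w hw
    obtain ⟨v, rfl⟩ := hι w hw
    refine ⟨ℓ.base v, ?_⟩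
    rw [← Scheme.Hom.comp_apply, hℓ]
  haveI : Surjective q := surjective_of_flat_of_closedPoints q hrange
  haveI : IsClosedImmersion q := by
    apply IsClosedImmersion.of_isPreimmersion
    rw [(Surjective.surj (f := q)).range_eq]
    exact isClosed_univ
  haveI : IsAffine (pullback aa Δ) := isAffine_of_isAffineHom q
  haveI : IsIso q := by
    apply IsClosedImmersion.isIso_of_injective_of_isAffine
    letI := q.appTop.hom.toAlgebra
    obtain ⟨-, hff⟩ := weaklyEtale_ff_appTop q
    exact FaithfulSMul.algebraMap_injective Γ(W, ⊤) Γ(pullback aa Δ, ⊤)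
  exact (cancel_epi q).mp hq

end Groth.Agent.Lib.Helper4.HSch
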