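import Mathlib
import Groth.Prelude.Def_PBC

/-!
# Uniqueness of lifts of maps from weakly étale algebras along a radical ideal
-/

set_option autoImplicit false
set_option linter.style.haveILetI false
set_option linter.unusedSectionVars false
universe u

open TensorProduct

namespace Groth.Agent.Lib.Helper4.HensWc

/-- a pure ideal contained in the Jacobson radical is zero -/
theorem eq_bot_of_pure_of_le_jacobson {B : Type*} [CommRing B] (K : Ideal B) [K.Pure]
    (hK : K ≤ Ideal.jacobson ⊥) : K = ⊥ := by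
  rw [eq_bot_iff]
  intro x hx
  obtain ⟨y, hy, hxy⟩ := Ideal.exists_eq_mul_of_pure hx
  have h1 : IsUnit (1 - y) := by
    have h2 := (Ideal.mem_jacobson_bot.mp (hK hy)) (-1)
    have h3 : y * -1 + 1 = 1 - y := by ring
    rwa [h3] at h2
  have h4 : x * (1 - y) = 0 := by
    rw [mul_sub, mul_one, ← hxy, sub_self]
  exact (h1.mul_left_eq_zero).mp h4

variable {B : Type u} [CommRing B] (J : Ideal B) {E : Type u} [CommRing E] [Algebra B E]

/-- the coequalizer ideal of two algebra maps from a weakly étale algebra is pure -/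
theorem pure_coeq [Algebra.WeaklyEtale B E] (τ τ' : E →ₐ[B] B) :
    (Ideal.map (Algebra.TensorProduct.productMap τ τ').toRingHom
      (RingHom.ker (Algebra.TensorProduct.lmul' B (S := E)))).Pure := by
  letI algEE : Algebra (E ⊗[B] E) E := (Algebra.TensorProduct.lmul' B (S := E)).toRingHom.toAlgebra
  letI algEEB : Algebra (E ⊗[B] E) B := (Algebra.TensorProduct.productMap τ τ').toRingHom.toAlgebra
  haveI : Module.Flat (E ⊗[B] E) E := Algebra.WeaklyEtale.flat_lmul' B E
  have hsurj : Function.Surjective (Algebra.TensorProduct.lmul' B (S := E)) := fun e =>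
    ⟨e ⊗ₜ 1, by simp⟩
  let IΔ : Ideal (E ⊗[B] E) := RingHom.ker (Algebra.TensorProduct.lmul' B (S := E))
  -- `(E ⊗ E) ⧸ IΔ ≃ E` as `E ⊗ E`-modules
  let e1 : ((E ⊗[B] E) ⧸ IΔ) ≃ₗ[E ⊗[B] E] E :=
    { (RingHom.quotientKerEquivOfSurjective
        (f := (Algebra.TensorProduct.lmul' B (S := E)).toRingHom) hsurj).toAddEquiv with
      map_smul' := fun r x => by
        obtain ⟨x, rfl⟩ := Ideal.Quotient.mk_surjective x
        change (Algebra.TensorProduct.lmul' B (S := E)) (r * x) =
          (Algebra.TensorProduct.lmul' B (S := E)) r * (Algebra.TensorProduct.lmul' B (S := E)) x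
        rw [map_mul] }
  haveI : Module.Flat (E ⊗[B] E) ((E ⊗[B] E) ⧸ IΔ) := Module.Flat.of_linearEquiv e1
  haveI : Module.Flat B (B ⊗[E ⊗[B] E] ((E ⊗[B] E) ⧸ IΔ)) := inferInstance
  let e2 := Algebra.TensorProduct.quotIdealMapEquivTensorQuot B IΔ
  exact Module.Flat.of_linearEquiv e2.toLinearEquiv

theorem coeq_le [Algebra.WeaklyEtale B E] (τ τ' : E →ₐ[B] B)
    (h : ∀ e, Ideal.Quotient.mk J (τ e) = Ideal.Quotient.mk J (τ' e)) :
    Ideal.map (Algebra.TensorProduct.productMap τ τ').toRingHom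
      (RingHom.ker (Algebra.TensorProduct.lmul' B (S := E))) ≤ J := by
  rw [Ideal.map_le_iff_le_comap]
  have h1 : RingHom.ker (Algebra.TensorProduct.lmul' B (S := E)) = KaehlerDifferential.ideal B E :=
    rfl
  rw [h1, ← KaehlerDifferential.span_range_eq_ideal, Ideal.span_le]
  rintro _ ⟨s, rfl⟩
  change (Algebra.TensorProduct.productMap τ τ') (1 ⊗ₜ s - s ⊗ₜ 1) ∈ J
  rw [map_sub, Algebra.TensorProduct.productMap_apply_tmul,
    Algebra.TensorProduct.productMap_apply_tmul, map_one, map_one, one_mul, mul_one]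
  rw [← Ideal.Quotient.eq]
  exact (h s).symm

/-- (A2) uniqueness of lifts -/
theorem lift_unique [Algebra.WeaklyEtale B E] (hJ : J ≤ Ideal.jacobson ⊥) (τ τ' : E →ₐ[B] B)
    (h : ∀ e, Ideal.Quotient.mk J (τ e) = Ideal.Quotient.mk J (τ' e)) : τ = τ' := by
  haveI := pure_coeq τ τ'
  have h1 := eq_bot_of_pure_of_le_jacobson _ ((coeq_le J τ τ' h).trans hJ)
  ext s
  have h2 : (Algebra.TensorProduct.productMap τ τ') (1 ⊗ₜ s - s ⊗ₜ 1) ∈
      Ideal.map (Algebra.TensorProduct.productMap τ τ').toRingHom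
        (RingHom.ker (Algebra.TensorProduct.lmul' B (S := E))) := by
    apply Ideal.mem_map_of_mem
    rw [RingHom.mem_ker]
    simp
  rw [h1, Ideal.mem_bot, map_sub, Algebra.TensorProduct.productMap_apply_tmul,
    Algebra.TensorProduct.productMap_apply_tmul, map_one, map_one, one_mul, mul_one,
    sub_eq_zero] at h2
  exact h2.symm

end Groth.Agent.Lib.Helper4.HensWc
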