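import Mathlib
import Groth.Prelude.Def_PBC
import Groth.Agent.S0523

/-!
# A w-contractible ring is henselian along any ideal contained in its Jacobson radical
-/

set_option autoImplicit false
set_option linter.style.haveILetI false
set_option linter.unusedSectionVars false
universe u

open TensorProduct

namespace Groth.Agent.Lib.Helper4.HensWc

theorem le_of_le_jacobson {B : Type*} [CommRing B] {J : Ideal B} (hJ : J ≤ Ideal.jacobson ⊥)
    (m : Ideal B) [hm : m.IsMaximal] : J ≤ m :=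
  hJ.trans (sInf_le ⟨bot_le, hm⟩)

set_option maxHeartbeats 1000000 in
/-- (A3) -/
theorem henselianRing_of_isWContractible (B : Type u) [CommRing B] (J : Ideal B)
    (hJ : J ≤ Ideal.jacobson ⊥) (hwc : EtPBC.IsWContractible B) : HenselianRing B J := by
  refine (Groth.Agent.S0523.result B J).mpr ?_
  intro D _ _ _ σ
  let e₀ : D ⊗[B] D := Algebra.FormallyUnramified.elem B D
  let Ψ : D ⊗[B] D →ₐ[B] D ⊗[B] (B ⧸ J) := Algebra.TensorProduct.map (AlgHom.id B D) σ
  let eb : D ⊗[B] (B ⧸ J) := Ψ e₀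
  obtain ⟨f, hf⟩ := Algebra.TensorProduct.includeLeft_surjective (R := B) (T := B ⧸ J) B D
    Ideal.Quotient.mk_surjective eb
  have hf' : f ⊗ₜ[B] (1 : B ⧸ J) = eb := hf
  let μ : D ⊗[B] (B ⧸ J) →ₐ[B] B ⧸ J :=
    Algebra.TensorProduct.productMap σ (AlgHom.id B (B ⧸ J))
  have hμΨ : μ.comp Ψ = σ.comp (Algebra.TensorProduct.lmul' B (S := D)) := by
    apply Algebra.TensorProduct.ext'
    intro a b
    simp [μ, Ψ]
  have hμeb : μ eb = 1 := by
    have h1 := congrArg (fun m => m e₀) hμΨ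
    simp only [AlgHom.comp_apply] at h1
    rw [Algebra.FormallyUnramified.lmul_elem, map_one] at h1
    exact h1
  have hσf : σ f = 1 := by
    have h1 : μ (f ⊗ₜ[B] (1 : B ⧸ J)) = σ f := by simp [μ]
    rw [← h1, hf', hμeb]
  have hkey : ∀ x : D, (x ⊗ₜ[B] (1 : B ⧸ J)) * eb = ((1 : D) ⊗ₜ[B] σ x) * eb := by
    intro x
    have h1 := Algebra.FormallyUnramified.one_tmul_mul_elem (R := B) (S := D) x
    have h2 := congrArg Ψ h1
    rw [map_mul, map_mul] at h2
    have h3 : Ψ ((1 : D) ⊗ₜ x) = (1 : D) ⊗ₜ[B] σ x := by simp [Ψ]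
    have h4 : Ψ (x ⊗ₜ (1 : D)) = x ⊗ₜ[B] (1 : B ⧸ J) := by simp [Ψ]
    rw [h3, h4] at h2
    exact h2.symm
  -- the localization
  let Df := Localization.Away f
  haveI : Algebra.Etale B Df := inferInstance
  have hff : Module.FaithfullyFlat B Df := by
    refine ⟨?_⟩
    intro m hm htop
    have hJm : J ≤ m := le_of_le_jacobson hJ m
    let σm : D →ₐ[B] B ⧸ m := (Ideal.Quotient.factorₐ B hJm).comp σ
    have hu : ∀ y : Submonoid.powers f, IsUnit (σm y) := by
      rintro ⟨_, n, rfl⟩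
      have : σm f = 1 := by
        change Ideal.Quotient.factorₐ B hJm (σ f) = 1
        rw [hσf, map_one]
      simp [this]
    let ρ : Df →ₐ[B] B ⧸ m := IsLocalization.liftAlgHom (M := Submonoid.powers f) (f := σm) hu
    have hρ : ∀ x ∈ m • (⊤ : Submodule B Df), ρ x = 0 := by
      intro x hx
      refine Submodule.smul_induction_on hx ?_ ?_
      · intro a ha d _
        rw [map_smul, Algebra.smul_def, Ideal.Quotient.algebraMap_eq,
          Ideal.Quotient.eq_zero_iff_mem.mpr ha, zero_mul]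
      · intro x y hx hy
        rw [map_add, hx, hy, add_zero]
    have h1 : ρ 1 = 0 := hρ 1 (by rw [htop]; exact Submodule.mem_top)
    rw [map_one] at h1
    haveI : Nontrivial (B ⧸ m) := Ideal.Quotient.nontrivial_iff.mpr hm.ne_top
    exact one_ne_zero h1
  obtain ⟨τ'⟩ := hwc Df hff inferInstance
  let τ : D →ₐ[B] B := τ'.comp (IsScalarTower.toAlgHom B D Df)
  refine ⟨τ, ?_⟩
  let θ : D →ₐ[B] B ⧸ J := (Ideal.Quotient.mkₐ B J).comp τ
  change θ = σ
  let Θ : D ⊗[B] (B ⧸ J) →ₐ[B] B ⧸ J :=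
    Algebra.TensorProduct.productMap θ (AlgHom.id B (B ⧸ J))
  have hΘeb : Θ eb = θ f := by
    rw [← hf']
    simp [Θ]
  have hθf : IsUnit (θ f) := by
    have h1 : IsUnit (algebraMap D Df f) := IsLocalization.Away.algebraMap_isUnit f
    have h2 : θ f = (Ideal.Quotient.mkₐ B J) (τ' (algebraMap D Df f)) := rfl
    rw [h2]
    exact (h1.map τ').map (Ideal.Quotient.mkₐ B J)
  ext x
  have h1 := congrArg Θ (hkey x)
  rw [map_mul, map_mul, hΘeb] at h1
  have h2 : Θ (x ⊗ₜ[B] (1 : B ⧸ J)) = θ x := by simp [Θ]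
  have h3 : Θ ((1 : D) ⊗ₜ[B] σ x) = σ x := by simp [Θ]
  rw [h2, h3] at h1
  exact hθf.mul_left_injective h1

end Groth.Agent.Lib.Helper4.HensWc
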