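import Mathlib
import Groth.Prelude.Def_Hensel
import Groth.Agent.Lib.Helper4.HenselEtale
import Groth.Agent.Lib.Helper4.EtRetr1
import Groth.Agent.Lib.Helper4.HznQF

/-!
# Finite subalgebras of a local algebra over a henselian local ring
-/

set_option autoImplicit false
set_option linter.unusedSectionVars false
universe u

namespace Groth.Agent.Lib.Helper4.StrictSub

open IsLocalRing

/-- A nontrivial finite algebra over a henselian local ring with only trivial idempotents is
local. -/
theorem isLocalRing_of_finite_of_idempotents (R D : Type u) [CommRing R] [HenselianLocalRing R]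
    [CommRing D] [Nontrivial D] [Algebra R D] [Module.Finite R D]
    (h01 : ∀ e : D, IsIdempotentElem e → e = 0 ∨ e = 1) : IsLocalRing D := by
  classical
  obtain ⟨𝔫₀, h𝔫₀⟩ := Ideal.exists_maximal D
  refine IsLocalRing.of_unique_max_ideal ⟨𝔫₀, h𝔫₀, fun 𝔫 h𝔫 => ?_⟩
  obtain ⟨n, ε, hε, hlast, huniq⟩ := exists_idempotents_of_finite_of_henselian (R := R) D
  have h01' : ∀ i, ε i = 0 ∨ ε i = 1 := fun i => h01 _ (hε.idem i)
  obtain ⟨i, hi⟩ : ∃ i, ε i = 1 := by
    by_contra hall
    push Not at hall
    have h0 : ∑ i, ε i = 0 := Finset.sum_eq_zero fun i _ => (h01' i).resolve_right (hall i)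
    rw [hε.complete] at h0
    exact one_ne_zero h0
  have hi' : i ≠ Fin.last n := fun h => by
    rw [h, hlast] at hi
    exact zero_ne_one hi
  obtain ⟨j, rfl⟩ : ∃ j : Fin n, i = j.castSucc := ⟨i.castPred hi', by simp⟩
  exact huniq j _ _ h𝔫 h𝔫₀
    (by rw [hi]; exact fun h => h𝔫.ne_top ((Ideal.eq_top_iff_one _).mpr h))
    (by rw [hi]; exact fun h => h𝔫₀.ne_top ((Ideal.eq_top_iff_one _).mpr h))

section Sub

variable (A S : Type u) [CommRing A] [HenselianLocalRing A] [CommRing S] [IsLocalRing S]
  [Algebra A S] [IsLocalHom (algebraMap A S)] (D : Subalgebra A S) [Module.Finite A D]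

theorem isLocalRing_sub : IsLocalRing D := by
  refine isLocalRing_of_finite_of_idempotents A D fun e he => ?_
  have he' : IsIdempotentElem (e : S) := by
    have := congrArg Subtype.val he.eq
    exact this
  rcases EtRetr.eq_zero_or_eq_one_of_isIdempotentElem he' with h | h
  · left; exact Subtype.ext h
  · right; exact Subtype.ext h

theorem isLocalHom_algebraMap_sub : IsLocalHom (algebraMap A D) := ⟨fun a ha => by
  have h1 : IsUnit (algebraMap A S a) := by
    have := ha.map (algebraMap D S)
    rwa [← IsScalarTower.algebraMap_apply] at this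
  exact isUnit_of_map_unit (algebraMap A S) a h1⟩

theorem isLocalHom_sub_val [IsLocalRing D] : IsLocalHom (algebraMap D S) := by
  have hint : Algebra.IsIntegral A D := inferInstance
  have hP : ((maximalIdeal S).comap (algebraMap D S)).IsPrime := Ideal.comap_isPrime _ _
  have h1 : ((maximalIdeal S).comap (algebraMap D S)).comap (algebraMap A D) = maximalIdeal A := by
    rw [Ideal.comap_comap, ← IsScalarTower.algebraMap_eq]
    exact IsLocalRing.maximalIdeal_comap (algebraMap A S)
  have hmax : ((maximalIdeal S).comap (algebraMap D S)).IsMaximal :=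
    Ideal.isMaximal_of_isIntegral_of_isMaximal_comap _ (h1 ▸ maximalIdeal.isMaximal A)
  have h2 := IsLocalRing.eq_maximalIdeal hmax
  refine ⟨fun d hd => ?_⟩
  by_contra hnu
  have h3 : d ∈ maximalIdeal D := (mem_maximalIdeal d).mpr hnu
  rw [← h2, Ideal.mem_comap] at h3
  exact ((mem_maximalIdeal _).mp h3) hd

theorem henselian_sub [IsLocalRing D] : HenselianLocalRing D :=
  Hzn.henselianLocalRing_of_isIntegral A D

end Sub

end Groth.Agent.Lib.Helper4.StrictSub
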