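import Mathlib
import Groth.Prelude.Def_Hensel
import Groth.Prelude.Def_EssEt
import Groth.Agent.Lib.Helper4.StrictSub1
import Groth.Agent.Lib.Helper4.HzsSub3
import Groth.Agent.Lib.Helper4.HznQF

/-!
# Arbitrary subalgebras of the strict henselization of a henselian local ring
-/

set_option autoImplicit false
set_option linter.unusedSectionVars false
universe u

namespace Groth.Agent.Lib.Helper4.StrictInt

open IsLocalRing

/-- Over a henselian local ring, an essentially étale local algebra is finite. -/
theorem finite_of_essEtale (A E : Type u) [CommRing A] [HenselianLocalRing A] [CommRing E]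
    [Algebra A E] (hE : EGA4loc.IsEssentiallyEtale A E) : Module.Finite A E := by
  obtain ⟨C, _, _, q, _, hCet, hq, ⟨e⟩⟩ := hE
  have hQ : (maximalIdeal A).map (algebraMap A C) ≤ q := by
    rw [Ideal.map_le_iff_le_comap, hq]
  have hqf : Algebra.QuasiFinite A C := inferInstance
  have hfinL : Module.Finite A (Localization.AtPrime q) :=
    Hzn.finite_localization_of_quasiFiniteAt A C q hQ
  exact Module.Finite.equiv e.symm.toLinearEquiv

section

variable (A S : Type u) [CommRing A] [HenselianLocalRing A] [CommRing S] [IsLocalRing S]
  [Algebra A S] [IsLocalHom (algebraMap A S)] [hS : Hensel.IsStrictHenselization A S]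

/-- The strict henselization of a henselian local ring is integral over it. -/
theorem isIntegral_strictHenselization : Algebra.IsIntegral A S := by
  refine ⟨fun s => ?_⟩
  obtain ⟨E, hsE, hEloc, hElh, hE⟩ := Hzs.exists_essEtale_subalgebra A S {s}
  have hfin : Module.Finite A E := finite_of_essEtale A E hE
  have hs : s ∈ E := hsE (by simp)
  have h1 : IsIntegral A (⟨s, hs⟩ : E) := Algebra.IsIntegral.isIntegral _
  exact h1.map E.val

variable (D : Subalgebra A S)

theorem isUnit_iff_isUnit_val (x : D) : IsUnit x ↔ IsUnit (x : S) := by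
  constructor
  · intro h
    exact h.map D.val
  · intro h
    have hint := isIntegral_strictHenselization A S
    let D₀ : Subalgebra A S := Algebra.adjoin A {(x : S)}
    have hfin : Module.Finite A D₀ :=
      Algebra.finite_adjoin_simple_of_isIntegral (Algebra.IsIntegral.isIntegral (x : S))
    have hle : D₀ ≤ D := Algebra.adjoin_le (Set.singleton_subset_iff.mpr x.2)
    have hloc : IsLocalRing D₀ := StrictSub.isLocalRing_sub A S D₀
    have hlh : IsLocalHom (algebraMap D₀ S) := StrictSub.isLocalHom_sub_val A S D₀
    let x₀ : D₀ := ⟨(x : S), Algebra.subset_adjoin (Set.mem_singleton _)⟩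
    have hx₀ : IsUnit x₀ := hlh.map_nonunit x₀ h
    obtain ⟨y, hy⟩ := hx₀.exists_right_inv
    have hy' : (x : S) * (y : S) = 1 := congrArg Subtype.val hy
    refine isUnit_iff_exists_inv.mpr ⟨⟨(y : S), hle y.2⟩, ?_⟩
    exact Subtype.ext hy'

theorem isLocalRing_sub : IsLocalRing D := by
  refine IsLocalRing.of_nonunits_add ?_
  intro a b ha hb
  rw [mem_nonunits_iff, isUnit_iff_isUnit_val] at ha hb ⊢
  have ha' : (a : S) ∈ nonunits S := ha
  have hb' : (b : S) ∈ nonunits S := hb
  exact IsLocalRing.nonunits_add ha' hb'

theorem isLocalHom_sub_val : IsLocalHom (algebraMap D S) :=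
  ⟨fun x hx => (isUnit_iff_isUnit_val A S D x).mpr hx⟩

theorem isIntegral_sub : Algebra.IsIntegral A D := by
  have hint := isIntegral_strictHenselization A S
  refine ⟨fun x => ?_⟩
  have h1 : IsIntegral A (x : S) := Algebra.IsIntegral.isIntegral _
  exact (isIntegral_algHom_iff D.val Subtype.val_injective).mp h1

theorem henselian_sub [IsLocalRing D] : HenselianLocalRing D := by
  have := isIntegral_sub A S D
  exact Hzn.henselianLocalRing_of_isIntegral A D

theorem isIntegral_over_sub : Algebra.IsIntegral D S := by
  have hint := isIntegral_strictHenselization A S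
  exact Algebra.IsIntegral.tower_top (R := A)

end

end Groth.Agent.Lib.Helper4.StrictInt
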