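import Mathlib
import Groth.Prelude.Def_Hensel
import Groth.Prelude.Def_EssEt
import Groth.Agent.Lib.Helper4.StrictInt1
import Groth.Agent.Lib.Helper4.EssEtale
import Groth.Agent.Lib.Helper4.HzsUnibr
import Groth.Agent.Lib.Helper4.HzsProps

/-!
# Primes of `S ⊗[A] S` for a strict henselization `S` of a henselian local ring `A`:
modulo any prime, the two copies of `S` have the same image.
-/

set_option autoImplicit false
set_option linter.unusedSectionVars false
universe u

namespace Groth.Agent.Lib.Helper4.StrictInt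

open IsLocalRing TensorProduct

/-- An element separable over a separably closed field lies in it. -/
theorem mem_range_of_isSeparable {K Ω : Type*} [Field K] [Field Ω] [Algebra K Ω] [IsSepClosed K]
    (y : Ω) (hy : IsSeparable K y) : y ∈ (algebraMap K Ω).range := by
  have hsep : Algebra.IsSeparable K (IntermediateField.adjoin K {y}) :=
    (IntermediateField.isSeparable_adjoin_simple_iff_isSeparable K Ω).mpr hy
  obtain ⟨c, hc⟩ := IsSepClosed.algebraMap_surjective K (IntermediateField.adjoin K {y})
    (IntermediateField.AdjoinSimple.gen K y)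
  refine ⟨c, ?_⟩
  have := congrArg (algebraMap (IntermediateField.adjoin K {y}) Ω) hc
  rw [← IsScalarTower.algebraMap_apply] at this
  rw [this]
  exact IntermediateField.AdjoinSimple.algebraMap_gen K y

section

variable (A S : Type u) [CommRing A] [HenselianLocalRing A] [CommRing S] [IsLocalRing S]
  [Algebra A S] [IsLocalHom (algebraMap A S)] [hS : Hensel.IsStrictHenselization A S]

/-- Modulo a prime of `S ⊗[A] S`, every `1 ⊗ s` is congruent to some `s' ⊗ 1`. -/
theorem exists_sub_mem_left (P : Ideal (S ⊗[A] S)) [hP : P.IsPrime] (s : S) :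
    ∃ s' : S, (1 : S) ⊗ₜ[A] s - s' ⊗ₜ[A] (1 : S) ∈ P := by
  classical
  have hSh : HenselianLocalRing S := hS.henselian
  have hcS : IsSepClosure (ResidueField A) (ResidueField S) := hS.isSepClosure
  have hscS : IsSepClosed (ResidueField S) := hcS.sep_closed
  have hsepS : Algebra.IsSeparable (ResidueField A) (ResidueField S) := hcS.separable
  have hintAS : Algebra.IsIntegral A S := isIntegral_strictHenselization A S
  -- the quotient
  have hdom : IsDomain ((S ⊗[A] S) ⧸ P) := Ideal.Quotient.isDomain P
  have hint : Algebra.IsIntegral S ((S ⊗[A] S) ⧸ P) :=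
    Algebra.IsIntegral.of_surjective (Ideal.Quotient.mkₐ S P) Ideal.Quotient.mk_surjective
  have hloc : IsLocalRing ((S ⊗[A] S) ⧸ P) := Unibr.isLocalRing_of_isDomain_of_isIntegral S _
  have hlh : IsLocalHom (algebraMap S ((S ⊗[A] S) ⧸ P)) := by
    have hmax : ((maximalIdeal ((S ⊗[A] S) ⧸ P)).comap
        (algebraMap S ((S ⊗[A] S) ⧸ P))).IsMaximal :=
      Ideal.isMaximal_comap_of_isIntegral_of_isMaximal _
    have h2 := IsLocalRing.eq_maximalIdeal hmax
    refine ⟨fun x hx => ?_⟩
    by_contra hnu
    have h3 : x ∈ maximalIdeal S := (mem_maximalIdeal x).mpr hnu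
    rw [← h2, Ideal.mem_comap] at h3
    exact ((mem_maximalIdeal _).mp h3) hx
  have hlhA : IsLocalHom (algebraMap A ((S ⊗[A] S) ⧸ P)) := by
    rw [IsScalarTower.algebraMap_eq A S ((S ⊗[A] S) ⧸ P)]
    exact RingHom.isLocalHom_comp _ _
  -- the other copy of `S`
  let r' : S →ₐ[A] (S ⊗[A] S) ⧸ P :=
    (Ideal.Quotient.mkₐ A P).comp (Algebra.TensorProduct.includeRight : S →ₐ[A] S ⊗[A] S)
  have hr' : ∀ x : S, r' x = Ideal.Quotient.mk P ((1 : S) ⊗ₜ[A] x) := fun x => rfl
  have hr'max : ∀ x ∈ maximalIdeal S, r' x ∈ maximalIdeal ((S ⊗[A] S) ⧸ P) := by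
    intro x hx
    rw [← Hzs.map_maximalIdeal_of_isStrictHenselization A S] at hx
    have hle : (maximalIdeal A).map (algebraMap A S) ≤
        (maximalIdeal ((S ⊗[A] S) ⧸ P)).comap r'.toRingHom := by
      rw [Ideal.map_le_iff_le_comap]
      intro a ha
      rw [Ideal.mem_comap, Ideal.mem_comap]
      change r' (algebraMap A S a) ∈ _
      rw [r'.commutes]
      exact ((mem_maximalIdeal _).mpr
        (fun hu => ((mem_maximalIdeal a).mp ha) (hlhA.map_nonunit a hu)))
    exact hle hx
  -- an essentially étale subalgebra containing `s`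
  obtain ⟨E, hsE, hEloc, hElh, hE⟩ := Hzs.exists_essEtale_subalgebra A S {s}
  have hsE' : s ∈ E := hsE (by simp)
  have hlhAE : IsLocalHom (algebraMap A E) := Hzs.isLocalHom_of_essEtale hE
  let α : E →ₐ[A] (S ⊗[A] S) ⧸ P := r'.comp E.val
  have hαmax : ∀ x ∈ maximalIdeal E, α x ∈ maximalIdeal ((S ⊗[A] S) ⧸ P) := by
    intro x hx
    apply hr'max
    change algebraMap E S x ∈ maximalIdeal S
    exact ((mem_maximalIdeal _).mpr
      (fun hu => ((mem_maximalIdeal x).mp hx) (hElh.map_nonunit x hu)))
  let ρ : E →+* ResidueField ((S ⊗[A] S) ⧸ P) := (residue _).comp α.toRingHom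
  have hρ : ∀ x ∈ maximalIdeal E, ρ x = 0 := fun x hx =>
    (residue_eq_zero_iff _).mpr (hαmax x hx)
  let ρbar : ResidueField E →+* ResidueField ((S ⊗[A] S) ⧸ P) :=
    Ideal.Quotient.lift (maximalIdeal E) ρ hρ
  have hρbar : ∀ x : E, ρbar (residue E x) = residue _ (α x) := fun x => rfl
  -- `ρbar` is a map of `k`-algebras
  let ρalg : ResidueField E →ₐ[ResidueField A] ResidueField ((S ⊗[A] S) ⧸ P) :=
    { ρbar with
      commutes' := fun c => by
        obtain ⟨a, rfl⟩ := residue_surjective c
        change ρbar (algebraMap (ResidueField A) (ResidueField E) (residue A a)) = _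
        rw [ResidueField.algebraMap_residue, hρbar, α.commutes, ResidueField.algebraMap_residue] }
  have hsepE : Algebra.IsSeparable (ResidueField A) (ResidueField E) :=
    Algebra.isSeparable_tower_bot_of_isSeparable _ (ResidueField E) (ResidueField S)
  have hrange : ∀ x : ResidueField E, ρbar x ∈
      (algebraMap (ResidueField S) (ResidueField ((S ⊗[A] S) ⧸ P))).range := by
    intro x
    apply mem_range_of_isSeparable
    have h1 : IsSeparable (ResidueField A) x := Algebra.IsSeparable.isSeparable _ x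
    have h2 : IsSeparable (ResidueField A) (ρalg x) :=
      IsSeparable.map ρalg ρalg.toRingHom.injective h1
    exact h2.tower_top (ResidueField S)
  let ι := algebraMap (ResidueField S) (ResidueField ((S ⊗[A] S) ⧸ P))
  have hιinj : Function.Injective ι := ι.injective
  let eι : ResidueField S ≃+* ι.range := RingEquiv.ofBijective ι.rangeRestrict
    ⟨fun x y h => hιinj (congrArg Subtype.val h), ι.rangeRestrict_surjective⟩
  let τ : ResidueField E →+* ResidueField S :=
    (eι.symm : ι.range →+* ResidueField S).comp (ρbar.codRestrict ι.range hrange)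
  have hτ : ∀ x, ι (τ x) = ρbar x := by
    intro x
    have h1 : eι (τ x) = ρbar.codRestrict ι.range hrange x := eι.apply_symm_apply _
    exact congrArg Subtype.val h1
  have hτcomp : τ.comp (ResidueField.map (algebraMap A E)) =
      ResidueField.map (algebraMap A S) := by
    ext c
    obtain ⟨a, rfl⟩ := residue_surjective c
    apply hιinj
    change ι (τ (residue E (algebraMap A E a))) = ι (residue S (algebraMap A S a))
    rw [hτ, hρbar, α.commutes]
    change _ = algebraMap (ResidueField S) _ (residue S (algebraMap A S a))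
    rw [ResidueField.algebraMap_residue, ← IsScalarTower.algebraMap_apply]
  obtain ⟨ψ', hψ'⟩ := EssEtale.exists_lift hE S τ hτcomp
  let β : E →ₐ[A] (S ⊗[A] S) ⧸ P := (IsScalarTower.toAlgHom A S ((S ⊗[A] S) ⧸ P)).comp ψ'
  have hαβ : α = β := by
    refine EssEtale.algHom_ext hE α β fun x => ?_
    rw [← residue_eq_zero_iff, map_sub, sub_eq_zero, ← hρbar, ← hτ, ← hψ']
    change algebraMap (ResidueField S) _ (residue S (ψ' x)) =
      residue _ (algebraMap S ((S ⊗[A] S) ⧸ P) (ψ' x))
    rw [ResidueField.algebraMap_residue]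
  refine ⟨ψ' ⟨s, hsE'⟩, ?_⟩
  have h1 := congrArg (fun f => f (⟨s, hsE'⟩ : E)) hαβ
  change Ideal.Quotient.mk P ((1 : S) ⊗ₜ[A] s) =
    Ideal.Quotient.mk P (algebraMap S (S ⊗[A] S) (ψ' ⟨s, hsE'⟩)) at h1
  rw [Algebra.TensorProduct.algebraMap_apply, Algebra.algebraMap_self, RingHom.id_apply] at h1
  exact Ideal.Quotient.eq.mp h1

end

end Groth.Agent.Lib.Helper4.StrictInt
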