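import Mathlib
import Groth.Agent.Lib.Helper4.StrictInt2
import Groth.Agent.Lib.Helper4.Sq3

/-!
# Algebraic extensions of separably closed fields are separably closed
-/

set_option autoImplicit false
set_option linter.style.haveILetI false
set_option linter.unusedSectionVars false
universe u

namespace Groth.Agent.Lib.Helper4.WcFin

/-- An algebraic extension of a separably closed field is separably closed. -/
theorem isSepClosed_of_isAlgebraic (k K : Type u) [Field k] [Field K] [Algebra k K]
    [IsSepClosed k] [Algebra.IsAlgebraic k K] : IsSepClosed K := by
  let L := SeparableClosure K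
  haveI : Algebra.IsAlgebraic K L := inferInstance
  haveI : Algebra.IsAlgebraic k L := Algebra.IsAlgebraic.trans k K L
  haveI : IsPurelyInseparable k L := by
    rw [isPurelyInseparable_iff]
    intro x
    exact ⟨(Algebra.IsAlgebraic.isAlgebraic x).isIntegral,
      fun hx => StrictInt.mem_range_of_isSeparable x hx⟩
  haveI : IsPurelyInseparable K L := IsPurelyInseparable.tower_top k K L
  have hbij : Function.Bijective (algebraMap K L) :=
    IsPurelyInseparable.bijective_algebraMap_of_isSeparable K L
  let e : K ≃+* L := RingEquiv.ofBijective (algebraMap K L) hbij
  exact Sq.isSepClosed_of_ringEquiv e.symm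

end Groth.Agent.Lib.Helper4.WcFin
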