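import Mathlib
import Groth.Prelude.Def_EtBase
import Groth.Agent.Lib.Helper4.WcFin1
import Groth.Agent.Lib.Helper4.HznQF

/-!
# Local rings of finite algebras over rings with strictly henselian local rings
-/

set_option autoImplicit false
set_option linter.style.haveILetI false
set_option linter.unusedSectionVars false
universe u

namespace Groth.Agent.Lib.Helper4.WcFin

open IsLocalRing

set_option maxHeartbeats 1000000 in
set_option synthInstance.maxHeartbeats 200000 in
theorem isStrictlyHenselian_atPrime_of_finite (A B : Type u) [CommRing A] [CommRing B]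
    [Algebra A B] [Module.Finite A B] (n : Ideal B) [hn : n.IsPrime]
    (h : EtCoh.IsStrictlyHenselianLocalRing
      (Localization.AtPrime (n.comap (algebraMap A B)))) :
    EtCoh.IsStrictlyHenselianLocalRing (Localization.AtPrime n) := by
  let m : Ideal A := n.comap (algebraMap A B)
  let Am := Localization.AtPrime m
  obtain ⟨hH, hS⟩ := h
  haveI : HenselianLocalRing Am := hH
  haveI : IsSepClosed (ResidueField Am) := hS
  let M : Submonoid B := Algebra.algebraMapSubmonoid B m.primeCompl
  let C := Localization M
  haveI : Module.Finite Am C := inferInstance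
  have hdisj : Disjoint (M : Set B) (n : Set B) := by
    rw [Set.disjoint_left]
    rintro _ ⟨a, ha, rfl⟩ hmem
    exact ha hmem
  let Q : Ideal C := n.map (algebraMap B C)
  haveI hQp : Q.IsPrime := IsLocalization.isPrime_of_isPrime_disjoint M C n hn hdisj
  have hQn : Q.comap (algebraMap B C) = n := IsLocalization.under_map_of_isPrime_disjoint M C hn hdisj
  -- `C_Q` is the localization of `B` at `n`
  haveI hloc : IsLocalization.AtPrime (Localization.AtPrime Q) n := by
    have key : ∀ (n' : Ideal B) (hn' : n'.IsPrime), n' = n →
        @IsLocalization.AtPrime _ _ (Localization.AtPrime Q) _ _ n' hn' →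
        IsLocalization.AtPrime (Localization.AtPrime Q) n := by
      intro n' hn' heq h
      subst heq
      exact h
    exact key _ inferInstance hQn
      (IsLocalization.isLocalization_isLocalization_atPrime_isLocalization M
        (Localization.AtPrime Q) Q)
  let e : Localization.AtPrime n ≃ₐ[B] Localization.AtPrime Q :=
    IsLocalization.algEquiv n.primeCompl _ _
  -- `C_Q` is finite over `Am`
  haveI : Algebra.FiniteType Am C := inferInstance
  have hmQ : (maximalIdeal Am).map (algebraMap Am C) ≤ Q := by
    rw [← Localization.AtPrime.map_eq_maximalIdeal, Ideal.map_map,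
      ← IsScalarTower.algebraMap_eq, IsScalarTower.algebraMap_eq A B C, ← Ideal.map_map]
    exact Ideal.map_mono Ideal.map_comap_le
  haveI : Algebra.QuasiFiniteAt Am Q := inferInstance
  haveI hfin : Module.Finite Am (Localization.AtPrime Q) :=
    Hzn.finite_localization_of_quasiFiniteAt Am C Q hmQ
  haveI : Algebra.IsIntegral Am (Localization.AtPrime Q) := inferInstance
  haveI hHQ : HenselianLocalRing (Localization.AtPrime Q) :=
    Hzn.henselianLocalRing_of_isIntegral Am (Localization.AtPrime Q)
  -- residue field
  haveI hlh : IsLocalHom (algebraMap Am (Localization.AtPrime Q)) :=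
    Hzn.isLocalHom_algebraMap_atPrime Am C Q hmQ
  haveI : Algebra.IsAlgebraic (ResidueField Am) (ResidueField (Localization.AtPrime Q)) := by
    haveI : Module.Finite (ResidueField Am) (ResidueField (Localization.AtPrime Q)) :=
      inferInstance
    infer_instance
  haveI hSQ : IsSepClosed (ResidueField (Localization.AtPrime Q)) :=
    isSepClosed_of_isAlgebraic (ResidueField Am) _
  exact Sq.isStrictlyHenselian_of_ringEquiv e.symm.toRingEquiv ⟨hHQ, hSQ⟩

end Groth.Agent.Lib.Helper4.WcFin
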