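import Mathlib

/-!
# Primes of a tensor product over a pair of primes with the same contraction
-/

set_option autoImplicit false
set_option linter.style.haveILetI false
set_option linter.unusedSectionVars false
universe u

namespace Groth.Agent.Lib.Helper4.QfED

open TensorProduct CategoryTheory AlgebraicGeometry

theorem exists_prime_over_pair {R S T : Type u} [CommRing R] [CommRing S] [CommRing T]
    [Algebra R S] [Algebra R T] (q₁ : PrimeSpectrum S) (q₂ : PrimeSpectrum T)
    (h : PrimeSpectrum.comap (algebraMap R S) q₁ = PrimeSpectrum.comap (algebraMap R T) q₂) :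
    ∃ Q : PrimeSpectrum (S ⊗[R] T),
      PrimeSpectrum.comap (Algebra.TensorProduct.includeLeftRingHom : S →+* S ⊗[R] T) Q = q₁ ∧
      PrimeSpectrum.comap
        (Algebra.TensorProduct.includeRight : T →ₐ[R] S ⊗[R] T).toRingHom Q = q₂ := by
  let f : Spec (CommRingCat.of S) ⟶ Spec (CommRingCat.of R) :=
    Spec.map (CommRingCat.ofHom (algebraMap R S))
  let g : Spec (CommRingCat.of T) ⟶ Spec (CommRingCat.of R) :=
    Spec.map (CommRingCat.ofHom (algebraMap R T))
  obtain ⟨z, hz1, hz2⟩ := Scheme.Pullback.exists_preimage_pullback (f := f) (g := g)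
    (q₁ : Spec (CommRingCat.of S)) (q₂ : Spec (CommRingCat.of T)) h
  refine ⟨(pullbackSpecIso R S T).hom.base z, ?_, ?_⟩
  · have := congrArg (fun φ => φ.base z) (pullbackSpecIso_hom_fst R S T)
    simp only [Scheme.Hom.comp_base, TopCat.comp_app] at this
    exact this.trans hz1
  · have := congrArg (fun φ => φ.base z) (pullbackSpecIso_hom_snd R S T)
    simp only [Scheme.Hom.comp_base, TopCat.comp_app] at this
    exact this.trans hz2

end Groth.Agent.Lib.Helper4.QfED
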