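import Mathlib
import Groth.Agent.Lib.Helper28.SepClosedConn

/-!
# Algebra maps out of a finite algebra with a single prime over a separably closed field
-/

set_option autoImplicit false
set_option linter.style.haveILetI false
set_option linter.unusedSectionVars false
universe u

namespace Groth.Agent.Lib.Helper4.QfED

open TensorProduct

/-- Two algebra maps from a finite algebra with exactly one prime over a separably closed field into
a domain coincide. -/
theorem algHom_eq_of_subsingleton_spec {k : Type u} [Field k] [IsSepClosed k] {F : Type u}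
    [CommRing F] [Algebra k F] [Module.Finite k F] [Nonempty (PrimeSpectrum F)]
    [Subsingleton (PrimeSpectrum F)] {Ω : Type*} [CommRing Ω] [IsDomain Ω] [Algebra k Ω]
    (ψ₁ ψ₂ : F →ₐ[k] Ω) : ψ₁ = ψ₂ := by
  haveI : ConnectedSpace (PrimeSpectrum F) := ⟨inferInstance⟩
  haveI : ConnectedSpace (PrimeSpectrum (F ⊗[k] F)) :=
    Groth.Agent.Lib.Helper28.connectedSpace_tensor_of_isSepClosed
  haveI : Module.Finite k (F ⊗[k] F) := inferInstance
  haveI : IsArtinianRing (F ⊗[k] F) := IsArtinianRing.of_finite k _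
  haveI : Subsingleton (PrimeSpectrum (F ⊗[k] F)) := PreconnectedSpace.trivial_of_discrete
  let θ₁ : F ⊗[k] F →ₐ[k] Ω := Algebra.TensorProduct.lift ψ₁ ψ₂ (fun _ _ => Commute.all _ _)
  let θ₂ : F ⊗[k] F →ₐ[k] Ω := ψ₁.comp (Algebra.TensorProduct.lmul' k)
  have hker : RingHom.ker θ₁.toRingHom = RingHom.ker θ₂.toRingHom := by
    have h := Subsingleton.elim
      (⟨RingHom.ker θ₁.toRingHom, RingHom.ker_isPrime _⟩ : PrimeSpectrum (F ⊗[k] F))
      ⟨RingHom.ker θ₂.toRingHom, RingHom.ker_isPrime _⟩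
    exact congrArg PrimeSpectrum.asIdeal h
  ext x
  have h2 : (x ⊗ₜ[k] (1 : F) - (1 : F) ⊗ₜ[k] x) ∈ RingHom.ker θ₂.toRingHom := by
    rw [RingHom.mem_ker]
    change ψ₁ (Algebra.TensorProduct.lmul' k (x ⊗ₜ[k] (1 : F) - (1 : F) ⊗ₜ[k] x)) = 0
    rw [map_sub, Algebra.TensorProduct.lmul'_apply_tmul, Algebra.TensorProduct.lmul'_apply_tmul,
      mul_one, one_mul, sub_self, map_zero]
  rw [← hker, RingHom.mem_ker] at h2
  change θ₁ (x ⊗ₜ[k] (1 : F) - (1 : F) ⊗ₜ[k] x) = 0 at h2
  rw [map_sub, Algebra.TensorProduct.lift_tmul, Algebra.TensorProduct.lift_tmul, map_one,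
    map_one, mul_one, one_mul, sub_eq_zero] at h2
  exact h2

end Groth.Agent.Lib.Helper4.QfED
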