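import Mathlib
import Groth.Agent.Lib.Helper4.QfED1

/-!
# Primes of `B ⊗[A] B` over a prime of `A` with separably closed residue field over which `B`
has a single prime contain the diagonal ideal
-/

set_option autoImplicit false
set_option linter.style.haveILetI false
set_option linter.unusedSectionVars false
universe u

namespace Groth.Agent.Lib.Helper4.QfED

open TensorProduct

set_option maxHeartbeats 1000000 in
theorem kaehlerIdeal_le_of_unique_prime {A B : Type u} [CommRing A] [CommRing B] [Algebra A B]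
    (p : Ideal A) [p.IsPrime] [IsSepClosed p.ResidueField]
    [Module.Finite p.ResidueField (p.Fiber B)]
    (huniq : ∀ q₁ q₂ : PrimeSpectrum B, q₁.asIdeal.comap (algebraMap A B) = p →
      q₂.asIdeal.comap (algebraMap A B) = p → q₁ = q₂)
    (Q : Ideal (B ⊗[A] B)) [Q.IsPrime] (hQ : Q.comap (algebraMap A (B ⊗[A] B)) = p) :
    KaehlerDifferential.ideal A B ≤ Q := by
  let k := p.ResidueField
  let F := p.Fiber B
  let pp : PrimeSpectrum A := ⟨p, inferInstance⟩
  let e := PrimeSpectrum.preimageEquivFiber A B pp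
  -- the fibre ring has exactly one prime
  haveI hne : Nonempty (PrimeSpectrum F) := by
    let q : PrimeSpectrum B :=
      ⟨Q.comap (Algebra.TensorProduct.includeLeftRingHom : B →+* B ⊗[A] B), inferInstance⟩
    have hq : PrimeSpectrum.comap (algebraMap A B) q = pp := by
      apply PrimeSpectrum.ext
      change (Q.comap (Algebra.TensorProduct.includeLeftRingHom : B →+* B ⊗[A] B)).comap
        (algebraMap A B) = p
      rw [Ideal.comap_comap, ← hQ]
      rfl
    exact ⟨e ⟨q, hq⟩⟩
  haveI hss : Subsingleton (PrimeSpectrum F) := by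
    refine ⟨fun x y => ?_⟩
    apply e.symm.injective
    apply Subtype.ext
    apply huniq
    · exact congrArg PrimeSpectrum.asIdeal (e.symm x).2
    · exact congrArg PrimeSpectrum.asIdeal (e.symm y).2
  -- the target field
  let C := B ⊗[A] B
  let Ω := FractionRing (C ⧸ Q)
  haveI : IsScalarTower A C Ω := inferInstance
  have hkerC : ∀ c : C, algebraMap C Ω c = 0 ↔ c ∈ Q := by
    intro c
    rw [IsScalarTower.algebraMap_apply C (C ⧸ Q) Ω c, Ideal.Quotient.algebraMap_eq,
      map_eq_zero_iff _ (IsFractionRing.injective (C ⧸ Q) Ω), Ideal.Quotient.eq_zero_iff_mem]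
  have hkerA : ∀ a : A, algebraMap A Ω a = 0 ↔ a ∈ p := by
    intro a
    rw [IsScalarTower.algebraMap_apply A C Ω a, hkerC, ← hQ, Ideal.mem_comap]
  have h1 : p ≤ RingHom.ker (algebraMap A Ω) := fun a ha => (hkerA a).mpr ha
  have h2 : p.primeCompl ≤ (IsUnit.submonoid Ω).comap (algebraMap A Ω) := by
    intro a ha
    change IsUnit (algebraMap A Ω a)
    rw [isUnit_iff_ne_zero]
    exact fun h0 => ha ((hkerA a).mp h0)
  letI algk : Algebra k Ω := (Ideal.ResidueField.lift p (algebraMap A Ω) h1 h2).toAlgebra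
  haveI : IsScalarTower A k Ω := IsScalarTower.of_algebraMap_eq (fun a =>
    (Ideal.ResidueField.lift_algebraMap p (algebraMap A Ω) h1 h2 a).symm)
  let φ₁ : B →ₐ[A] Ω := (IsScalarTower.toAlgHom A C Ω).comp Algebra.TensorProduct.includeLeft
  let φ₂ : B →ₐ[A] Ω := (IsScalarTower.toAlgHom A C Ω).comp Algebra.TensorProduct.includeRight
  let ψ₁ : F →ₐ[k] Ω := Algebra.TensorProduct.lift (Algebra.ofId k Ω) φ₁
    (fun _ _ => Commute.all _ _)
  let ψ₂ : F →ₐ[k] Ω := Algebra.TensorProduct.lift (Algebra.ofId k Ω) φ₂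
    (fun _ _ => Commute.all _ _)
  have hψ : ψ₁ = ψ₂ := algHom_eq_of_subsingleton_spec ψ₁ ψ₂
  have hφ : ∀ b : B, φ₁ b = φ₂ b := by
    intro b
    have h3 : ψ₁ ((1 : k) ⊗ₜ[A] b) = φ₁ b := by
      change Algebra.TensorProduct.lift _ _ _ _ = _
      rw [Algebra.TensorProduct.lift_tmul, map_one, one_mul]
    have h4 : ψ₂ ((1 : k) ⊗ₜ[A] b) = φ₂ b := by
      change Algebra.TensorProduct.lift _ _ _ _ = _
      rw [Algebra.TensorProduct.lift_tmul, map_one, one_mul]
    rw [← h3, ← h4, hψ]
  rw [← KaehlerDifferential.span_range_eq_ideal, Ideal.span_le]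
  rintro _ ⟨b, rfl⟩
  change (1 : B) ⊗ₜ[A] b - b ⊗ₜ[A] (1 : B) ∈ Q
  rw [← hkerC, map_sub, sub_eq_zero]
  exact (hφ b).symm

end Groth.Agent.Lib.Helper4.QfED
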