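import Mathlib

/-!
# Topological lemmas on extremally disconnected spaces and constructible sets
-/

set_option autoImplicit false
set_option linter.style.haveILetI false
set_option linter.unusedSectionVars false
universe u

namespace Groth.Agent.Lib.Helper4.QfED

open Topology

theorem isClopen_of_isConstructible {X : Type*} [TopologicalSpace X] [CompactSpace X] [T2Space X]
    {s : Set X} (hs : IsConstructible s) : IsClopen s := by
  induction hs using IsConstructible.empty_union_induction with
  | open_retrocompact U hUopen hUcomp =>
    refine ⟨?_, hUopen⟩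
    have h := hUcomp isCompact_univ isOpen_univ
    rw [Set.inter_univ] at h
    exact h.isClosed
  | union s hs t ht hs' ht' => exact hs'.union ht'
  | compl s hs hs' => exact hs'.compl

theorem extremallyDisconnected_subtype_of_isOpen {X : Type*} [TopologicalSpace X]
    [ExtremallyDisconnected X] {U : Set X} (hU : IsOpen U) : ExtremallyDisconnected U := by
  refine ⟨fun W hW => ?_⟩
  have h1 : IsOpen (Subtype.val '' W) := hU.isOpenMap_subtype_val W hW
  have h2 := ExtremallyDisconnected.open_closure _ h1
  rw [Topology.IsInducing.subtypeVal.closure_eq_preimage_closure_image]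
  exact h2.preimage continuous_subtype_val

theorem extremallyDisconnected_of_finite_clopen_cover {X : Type*} [TopologicalSpace X]
    {ι : Type*} [Finite ι] (D : ι → Set X) (hD : ∀ i, IsClopen (D i))
    (hcov : ⋃ i, D i = Set.univ) (hED : ∀ i, ExtremallyDisconnected (D i)) :
    ExtremallyDisconnected X := by
  refine ⟨fun O hO => ?_⟩
  have h1 : O = ⋃ i, O ∩ D i := by
    rw [← Set.inter_iUnion, hcov, Set.inter_univ]
  rw [h1, closure_iUnion_of_finite]
  refine isOpen_iUnion (fun i => ?_)
  haveI := hED i
  let W : Set (D i) := Subtype.val ⁻¹' O
  have hW : IsOpen W := hO.preimage continuous_subtype_val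
  have h2 : IsOpen (closure W) := ExtremallyDisconnected.open_closure W hW
  have h3 : Subtype.val '' W = O ∩ D i := by
    rw [Subtype.image_preimage_coe, Set.inter_comm]
  have h4 : closure (O ∩ D i) = Subtype.val '' closure W := by
    rw [← h3]
    exact (hD i).1.isClosedEmbedding_subtypeVal.closure_image_eq W
  rw [h4]
  exact (hD i).2.isOpenMap_subtype_val _ h2

end Groth.Agent.Lib.Helper4.QfED
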