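import Mathlib
import Groth.Agent.Lib.Helper4.QfED2
import Groth.Agent.Lib.Helper4.QfED3
import Groth.Agent.Lib.Helper4.QfED4

/-!
# Quasi-finite finitely presented algebras over rings with Hausdorff spectrum and separably closed
residue fields are locally injective on spectra
-/

set_option autoImplicit false
set_option linter.style.haveILetI false
set_option linter.unusedSectionVars false
universe u

namespace Groth.Agent.Lib.Helper4.QfED

open TensorProduct Topology

variable (A B : Type u) [CommRing A] [CommRing B] [Algebra A B]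

set_option maxHeartbeats 2000000 in
set_option synthInstance.maxHeartbeats 200000 in
theorem exists_basicOpen_injOn [Algebra.QuasiFinite A B] [Algebra.FinitePresentation A B]
    (hres : ∀ p : PrimeSpectrum A, IsSepClosed p.asIdeal.ResidueField)
    [T2Space (PrimeSpectrum A)] (q : PrimeSpectrum B) :
    ∃ g : B, q ∈ PrimeSpectrum.basicOpen g ∧
      Set.InjOn (PrimeSpectrum.comap (algebraMap A B)) (PrimeSpectrum.basicOpen g : Set _) := by
  let pI : Ideal A := q.asIdeal.comap (algebraMap A B)
  haveI : pI.IsPrime := inferInstance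
  haveI : q.asIdeal.LiesOver pI := ⟨rfl⟩
  obtain ⟨g₁, hg₁q, hg₁⟩ := Ideal.exists_not_mem_forall_mem_of_ne_of_liesOver pI q.asIdeal
  let B' := Localization.Away g₁
  haveI : Algebra.FinitePresentation B B' := IsLocalization.Away.finitePresentation g₁
  haveI : Algebra.FinitePresentation A B' := Algebra.FinitePresentation.trans A B B'
  haveI : Algebra.QuasiFinite A B' := inferInstance
  -- uniqueness of the prime of `B'` over `pI`
  have huniq : ∀ q₁ q₂ : PrimeSpectrum B', q₁.asIdeal.comap (algebraMap A B') = pI →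
      q₂.asIdeal.comap (algebraMap A B') = pI → q₁ = q₂ := by
    have key : ∀ q₁ : PrimeSpectrum B', q₁.asIdeal.comap (algebraMap A B') = pI →
        PrimeSpectrum.comap (algebraMap B B') q₁ = q := by
      intro q₁ h₁
      by_contra hne
      have hlo : (q₁.asIdeal.comap (algebraMap B B')).LiesOver pI := by
        refine ⟨?_⟩
        change pI = (q₁.asIdeal.comap (algebraMap B B')).comap (algebraMap A B)
        rw [Ideal.comap_comap, ← IsScalarTower.algebraMap_eq, h₁]
      have hmem := hg₁ (q₁.asIdeal.comap (algebraMap B B')) inferInstance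
        (fun h => hne (PrimeSpectrum.ext h)) hlo
      have hunit : IsUnit (algebraMap B B' g₁) := IsLocalization.Away.algebraMap_isUnit g₁
      exact q₁.2.ne_top (Ideal.eq_top_of_isUnit_mem _ hmem hunit)
    intro q₁ q₂ h₁ h₂
    apply PrimeSpectrum.localization_comap_injective B' (Submonoid.powers g₁)
    rw [key q₁ h₁, key q₂ h₂]
  -- the off-diagonal locus
  let C := B' ⊗[A] B'
  let I : Ideal C := KaehlerDifferential.ideal A B'
  have hI : I.FG := KaehlerDifferential.ideal_fg A B'
  let E : Set (PrimeSpectrum C) := (PrimeSpectrum.zeroLocus (I : Set C))ᶜ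
  have hE : IsConstructible E :=
    (PrimeSpectrum.isRetrocompact_zeroLocus_compl_of_fg hI).isConstructible
      (PrimeSpectrum.isClosed_zeroLocus _).isOpen_compl
  haveI : Algebra.FinitePresentation A C := Algebra.FinitePresentation.trans A B' C
  have himg : IsClopen (PrimeSpectrum.comap (algebraMap A C) '' E) :=
    isClopen_of_isConstructible (PrimeSpectrum.isConstructible_comap_image
      (RingHom.finitePresentation_algebraMap.mpr inferInstance) hE)
  let pp : PrimeSpectrum A := ⟨pI, inferInstance⟩
  have hp : pp ∉ PrimeSpectrum.comap (algebraMap A C) '' E := by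
    rintro ⟨Q, hQE, hQ⟩
    haveI := hres pp
    have hQ' : Q.asIdeal.comap (algebraMap A C) = pI := congrArg PrimeSpectrum.asIdeal hQ
    exact hQE (kaehlerIdeal_le_of_unique_prime pI huniq Q.asIdeal hQ')
  obtain ⟨_, ⟨_, ⟨f, rfl⟩, rfl⟩, hpf, hfT⟩ := PrimeSpectrum.isBasis_basic_opens.exists_subset_of_mem_open
    (show pp ∈ (PrimeSpectrum.comap (algebraMap A C) '' E)ᶜ from hp) himg.compl.isOpen
  refine ⟨g₁ * algebraMap A B f, ?_, ?_⟩
  · change g₁ * algebraMap A B f ∉ q.asIdeal
    intro h
    rcases q.2.mem_or_mem h with h | h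
    · exact hg₁q h
    · exact hpf h
  · intro q₁ hq₁ q₂ hq₂ h12
    have hq₁' : g₁ ∉ q₁.asIdeal ∧ algebraMap A B f ∉ q₁.asIdeal := by
      constructor
      · exact fun h => hq₁ (q₁.asIdeal.mul_mem_right _ h)
      · exact fun h => hq₁ (q₁.asIdeal.mul_mem_left _ h)
    have hq₂' : g₁ ∉ q₂.asIdeal := fun h => hq₂ (q₂.asIdeal.mul_mem_right _ h)
    have hr := PrimeSpectrum.localization_away_comap_range B' g₁
    obtain ⟨q₁', rfl⟩ : q₁ ∈ Set.range (PrimeSpectrum.comap (algebraMap B B')) := by
      rw [hr]; exact hq₁'.1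
    obtain ⟨q₂', rfl⟩ : q₂ ∈ Set.range (PrimeSpectrum.comap (algebraMap B B')) := by
      rw [hr]; exact hq₂'
    congr 1
    have h12' : PrimeSpectrum.comap (algebraMap A B') q₁' =
        PrimeSpectrum.comap (algebraMap A B') q₂' := by
      rw [IsScalarTower.algebraMap_eq A B B', PrimeSpectrum.comap_comp]
      exact h12
    obtain ⟨Q, hQ1, hQ2⟩ := exists_prime_over_pair q₁' q₂' h12'
    have hQA : PrimeSpectrum.comap (algebraMap A C) Q = PrimeSpectrum.comap (algebraMap A B') q₁' := by
      rw [← hQ1]
      rfl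
    have hQE : Q ∉ E := by
      intro hQE
      have h1 : PrimeSpectrum.comap (algebraMap A C) Q ∈
          (PrimeSpectrum.comap (algebraMap A C) '' E)ᶜ := by
        apply hfT
        rw [hQA]
        change f ∉ (q₁'.asIdeal.comap (algebraMap A B'))
        rw [IsScalarTower.algebraMap_eq A B B', ← Ideal.comap_comap]
        exact hq₁'.2
      exact h1 ⟨Q, hQE, rfl⟩
    have hIQ : I ≤ Q.asIdeal := by
      by_contra h
      exact hQE h
    apply PrimeSpectrum.ext
    ext b
    have hb : (1 : B') ⊗ₜ[A] b - b ⊗ₜ[A] (1 : B') ∈ Q.asIdeal :=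
      hIQ (KaehlerDifferential.one_smul_sub_smul_one_mem_ideal A b)
    rw [← hQ1, ← hQ2]
    change b ⊗ₜ[A] (1 : B') ∈ Q.asIdeal ↔ (1 : B') ⊗ₜ[A] b ∈ Q.asIdeal
    constructor
    · intro h
      have := Q.asIdeal.add_mem hb h
      rwa [sub_add_cancel] at this
    · intro h
      have := Q.asIdeal.sub_mem h hb
      rwa [sub_sub_cancel] at this

end Groth.Agent.Lib.Helper4.QfED
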