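import Mathlib
import Groth.Agent.Lib.Helper4.QfED5
import Groth.Agent.S0701

/-!
# Quasi-finite finitely presented algebras over extremally disconnected Hausdorff spectra with
separably closed residue fields have extremally disconnected spectra
-/

set_option autoImplicit false
set_option linter.style.haveILetI false
set_option linter.unusedSectionVars false
universe u

namespace Groth.Agent.Lib.Helper4.QfED

open TensorProduct Topology

variable (A B : Type u) [CommRing A] [CommRing B] [Algebra A B]

theorem isProfinite_of_quasiFinite [Algebra.QuasiFinite A B]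
    [T2Space (PrimeSpectrum A)] [TotallyDisconnectedSpace (PrimeSpectrum A)] :
    ProEtW.IsProfinite (PrimeSpectrum B) := by
  apply Groth.Agent.S0701.result A B
  intro q q' h hle
  apply PrimeSpectrum.ext
  exact Algebra.QuasiFinite.eq_of_le_of_under_eq (R := A) q.asIdeal q'.asIdeal hle h

set_option maxHeartbeats 1000000 in
theorem extremallyDisconnected_of_quasiFinite [Algebra.QuasiFinite A B]
    [Algebra.FinitePresentation A B]
    (hres : ∀ p : PrimeSpectrum A, IsSepClosed p.asIdeal.ResidueField)
    [T2Space (PrimeSpectrum A)] [ExtremallyDisconnected (PrimeSpectrum A)] :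
    ExtremallyDisconnected (PrimeSpectrum B) := by
  haveI : TotallyDisconnectedSpace (PrimeSpectrum A) := inferInstance
  obtain ⟨-, hT2, -⟩ := isProfinite_of_quasiFinite A B
  haveI := hT2
  choose g hg hinj using exists_basicOpen_injOn A B hres
  -- finite subcover
  have hcov : (Set.univ : Set (PrimeSpectrum B)) ⊆
      ⋃ q, (PrimeSpectrum.basicOpen (g q) : Set (PrimeSpectrum B)) :=
    fun q _ => Set.mem_iUnion.mpr ⟨q, hg q⟩
  obtain ⟨t, ht⟩ := isCompact_univ.elim_finite_subcover
    (fun q => (PrimeSpectrum.basicOpen (g q) : Set (PrimeSpectrum B)))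
    (fun q => (PrimeSpectrum.basicOpen (g q)).2) hcov
  let D : t → Set (PrimeSpectrum B) := fun i => (PrimeSpectrum.basicOpen (g i.1) : Set _)
  have hD : ∀ i, IsClopen (D i) := fun i =>
    ⟨(PrimeSpectrum.isCompact_basicOpen (g i.1)).isClosed, (PrimeSpectrum.basicOpen (g i.1)).2⟩
  have hDcov : ⋃ i, D i = Set.univ := by
    rw [Set.eq_univ_iff_forall]
    intro x
    obtain ⟨i, hi, hx⟩ := Set.mem_iUnion₂.mp (ht (Set.mem_univ x))
    exact Set.mem_iUnion.mpr ⟨⟨i, hi⟩, hx⟩
  refine extremallyDisconnected_of_finite_clopen_cover D hD hDcov (fun i => ?_)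
  -- each piece is homeomorphic to a clopen subset of `Spec A`
  let φ : D i → PrimeSpectrum A := fun x => PrimeSpectrum.comap (algebraMap A B) x.1
  have hφc : Continuous φ := (PrimeSpectrum.continuous_comap (algebraMap A B)).comp
    continuous_subtype_val
  have hφi : Function.Injective φ := fun x y h => Subtype.ext (hinj i.1 x.2 y.2 h)
  haveI : CompactSpace (D i) :=
    isCompact_iff_compactSpace.mp (PrimeSpectrum.isCompact_basicOpen (g i.1))
  have hemb : IsClosedEmbedding φ := hφc.isClosedEmbedding hφi
  have hrange : Set.range φ = PrimeSpectrum.comap (algebraMap A B) '' D i := by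
    ext x
    constructor
    · rintro ⟨y, rfl⟩
      exact ⟨y.1, y.2, rfl⟩
    · rintro ⟨y, hy, rfl⟩
      exact ⟨⟨y, hy⟩, rfl⟩
  have hopen : IsOpen (Set.range φ) := by
    rw [hrange]
    exact (isClopen_of_isConstructible (PrimeSpectrum.isConstructible_comap_image
      (RingHom.finitePresentation_algebraMap.mpr inferInstance)
      PrimeSpectrum.isConstructible_basicOpen)).2
  haveI : ExtremallyDisconnected (Set.range φ) := extremallyDisconnected_subtype_of_isOpen hopen
  exact extremallyDisconnected_of_homeo hemb.isEmbedding.toHomeomorph.symm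

end Groth.Agent.Lib.Helper4.QfED
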