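import Mathlib
import Groth.Prelude.Def_ProEtW
import Groth.Prelude.Def_EtBase
import Groth.Agent.Lib.Helper12.HensInt

/-!
# The spectrum of a finite algebra over a w-local ring with henselian local rings is w-local
-/

set_option autoImplicit false
set_option linter.style.haveILetI false
set_option linter.unusedSectionVars false
universe u

namespace Groth.Agent.Lib.Helper4.WcFin

open IsLocalRing

theorem closedPoints_eq_preimage (A B : Type u) [CommRing A] [CommRing B] [Algebra A B]
    [Algebra.IsIntegral A B] :
    ProEtW.closedPoints (PrimeSpectrum B) =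
      PrimeSpectrum.comap (algebraMap A B) ⁻¹' ProEtW.closedPoints (PrimeSpectrum A) := by
  ext q
  simp only [ProEtW.closedPoints, Set.mem_setOf_eq, Set.mem_preimage]
  rw [PrimeSpectrum.isClosed_singleton_iff_isMaximal, PrimeSpectrum.isClosed_singleton_iff_isMaximal]
  constructor
  · intro hq
    haveI := hq
    exact Ideal.isMaximal_comap_of_isIntegral_of_isMaximal (R := A) q.asIdeal
  · intro hq
    exact Ideal.isMaximal_of_isIntegral_of_isMaximal_comap q.asIdeal hq

set_option maxHeartbeats 1000000 in
set_option synthInstance.maxHeartbeats 200000 in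
/-- Key: over a maximal ideal `m` of `A` with henselian local ring, a prime `x` of the finite
algebra `B` is contained in at most one maximal ideal lying over `m`. -/
theorem unique_maximal_over (A B : Type u) [CommRing A] [CommRing B] [Algebra A B]
    [Module.Finite A B] (m : Ideal A) [hm : m.IsMaximal]
    [HenselianLocalRing (Localization.AtPrime m)]
    (x : Ideal B) [hx : x.IsPrime] (y y' : Ideal B) (hy : y.IsMaximal) (hy' : y'.IsMaximal)
    (hxy : x ≤ y) (hxy' : x ≤ y') (hym : y.comap (algebraMap A B) = m)
    (hym' : y'.comap (algebraMap A B) = m) : y = y' := by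
  let S := B ⧸ x
  let Am := Localization.AtPrime m
  let M : Submonoid S := Algebra.algebraMapSubmonoid S m.primeCompl
  let T := Localization M
  haveI : Module.Finite A S :=
    Module.Finite.of_surjective (Ideal.Quotient.mkₐ A x).toLinearMap Ideal.Quotient.mk_surjective
  haveI : Module.Finite Am T := inferInstance
  have hmk : ∀ a : A, algebraMap A S a = Ideal.Quotient.mk x (algebraMap A B a) := fun a => rfl
  have hM0 : M ≤ nonZeroDivisors S := by
    rintro _ ⟨a, ha, rfl⟩
    apply mem_nonZeroDivisors_of_ne_zero
    intro h0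
    apply ha
    rw [hmk, Ideal.Quotient.eq_zero_iff_mem] at h0
    rw [← hym]
    exact hxy h0
  haveI : IsDomain T := IsLocalization.isDomain_localization hM0
  haveI : IsLocalRing T := Groth.Agent.Lib.Helper12.HensInt.isLocalRing_of_isDomain_of_finite Am T
  let N : Ideal B := ((maximalIdeal T).comap (algebraMap S T)).comap (Ideal.Quotient.mk x)
  have hN : N ≠ ⊤ := by
    intro h
    have h1 : (1 : B) ∈ N := h ▸ Submodule.mem_top
    have h2 : (algebraMap S T) (Ideal.Quotient.mk x 1) ∈ maximalIdeal T := h1
    rw [map_one, map_one] at h2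
    exact (maximalIdeal.isMaximal T).ne_top ((Ideal.eq_top_iff_one _).mpr h2)
  have key : ∀ z : Ideal B, z.IsMaximal → x ≤ z → z.comap (algebraMap A B) = m → z = N := by
    intro z hz hxz hzm
    have hker : RingHom.ker (Ideal.Quotient.mk x) ≤ z := by
      rw [Ideal.mk_ker]; exact hxz
    let zb : Ideal S := z.map (Ideal.Quotient.mk x)
    haveI hzb : zb.IsPrime :=
      Ideal.map_isPrime_of_surjective Ideal.Quotient.mk_surjective hker
    have hzc : zb.comap (Ideal.Quotient.mk x) = z := by
      rw [Ideal.comap_map_of_surjective _ Ideal.Quotient.mk_surjective]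
      exact sup_eq_left.mpr hker
    have hdisj : Disjoint (M : Set S) (zb : Set S) := by
      rw [Set.disjoint_left]
      rintro _ ⟨a, ha, rfl⟩ hmem
      apply ha
      rw [← hzm, ← hzc]
      exact hmem
    haveI hzT : (zb.map (algebraMap S T)).IsPrime :=
      IsLocalization.isPrime_of_isPrime_disjoint M T zb hzb hdisj
    have hle : zb.map (algebraMap S T) ≤ maximalIdeal T :=
      IsLocalRing.le_maximalIdeal hzT.ne_top
    have hzN : z ≤ N := by
      intro b hb
      apply hle
      exact Ideal.mem_map_of_mem _ (Ideal.mem_map_of_mem _ hb)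
    exact hz.eq_of_le hN hzN
  rw [key y hy hxy hym, key y' hy' hxy' hym']

theorem isWLocal_of_finite (A B : Type u) [CommRing A] [CommRing B] [Algebra A B]
    [Module.Finite A B] (hW : ProEtW.IsWLocal (PrimeSpectrum A))
    (hH : ∀ (m : Ideal A) [m.IsMaximal], HenselianLocalRing (Localization.AtPrime m)) :
    ProEtW.IsWLocal (PrimeSpectrum B) := by
  obtain ⟨hs, h0, hu⟩ := hW
  refine ⟨inferInstance, ?_, ?_⟩
  · have := closedPoints_eq_preimage A B
    unfold ProEtW.closedPoints at this
    rw [this]
    exact h0.preimage (PrimeSpectrum.continuous_comap _)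
  · intro x
    obtain ⟨M, hM, hxM⟩ := Ideal.exists_le_maximal x.asIdeal x.isPrime.ne_top
    let y : PrimeSpectrum B := ⟨M, hM.isPrime⟩
    have hy : IsClosed ({y} : Set (PrimeSpectrum B)) :=
      (PrimeSpectrum.isClosed_singleton_iff_isMaximal _).mpr hM
    have hxy : x ⤳ y := (PrimeSpectrum.le_iff_specializes x y).mp hxM
    refine ⟨y, ⟨hy, hxy⟩, ?_⟩
    rintro y' ⟨hy', hxy'⟩
    have hM' : y'.asIdeal.IsMaximal := (PrimeSpectrum.isClosed_singleton_iff_isMaximal _).mp hy'
    let f := PrimeSpectrum.comap (algebraMap A B)
    have hf : Continuous f := PrimeSpectrum.continuous_comap _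
    have hcy : IsClosed ({f y} : Set (PrimeSpectrum A)) := by
      rw [PrimeSpectrum.isClosed_singleton_iff_isMaximal]
      haveI := hM
      exact Ideal.isMaximal_comap_of_isIntegral_of_isMaximal (R := A) M
    have hcy' : IsClosed ({f y'} : Set (PrimeSpectrum A)) := by
      rw [PrimeSpectrum.isClosed_singleton_iff_isMaximal]
      haveI := hM'
      exact Ideal.isMaximal_comap_of_isIntegral_of_isMaximal (R := A) y'.asIdeal
    have heq : f y' = f y :=
      (hu (f x)).unique ⟨hcy', hxy'.map hf⟩ ⟨hcy, hxy.map hf⟩
    haveI hm : (f y).asIdeal.IsMaximal := (PrimeSpectrum.isClosed_singleton_iff_isMaximal _).mp hcy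
    haveI := hH (f y).asIdeal
    have := unique_maximal_over A B (f y).asIdeal x.asIdeal y'.asIdeal y.asIdeal hM' hM
      ((PrimeSpectrum.le_iff_specializes x y').mpr hxy') hxM
      (congrArg PrimeSpectrum.asIdeal heq) rfl
    exact PrimeSpectrum.ext this

end Groth.Agent.Lib.Helper4.WcFin
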