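import Mathlib
import Groth.Prelude.Def_ProEtW
import Groth.Prelude.Def_EtBase
import Groth.Agent.Lib.Helper4.WcFin3
import Groth.Agent.Lib.Helper4.QfED6
import Groth.Agent.Lib.Helper4.WLocRetr1
import Groth.Agent.Lib.Helper4.Sq3

/-!
# Connected components of the spectrum of a finite f.p. algebra over a w-contractible ring
-/

set_option autoImplicit false
set_option linter.style.haveILetI false
set_option linter.unusedSectionVars false
universe u

namespace Groth.Agent.Lib.Helper4.WcFin

open IsLocalRing TensorProduct Groth.Agent.Lib.Helper4.LocSec Groth.Agent.Lib.Helper4.WLocRetr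

/-- `Spec (R ⧸ I) ≃ₜ V(I)`. -/
noncomputable def homeoQuot (R : Type u) [CommRing R] (I : Ideal R) :
    PrimeSpectrum (R ⧸ I) ≃ₜ ↥(PrimeSpectrum.zeroLocus (I : Set R)) :=
  ((PrimeSpectrum.isClosedEmbedding_comap_of_surjective (R ⧸ I) (Ideal.Quotient.mk I)
    Ideal.Quotient.mk_surjective).isEmbedding.toHomeomorph).trans
    (Homeomorph.setCongr (by
      rw [_root_.range_comap_of_surjective _ _ Ideal.Quotient.mk_surjective, Ideal.mk_ker]))

theorem zeroLocus_vanishingIdeal_closedPoints (A : Type u) [CommRing A]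
    (hW : ProEtW.IsWLocal (PrimeSpectrum A)) :
    PrimeSpectrum.zeroLocus
      (PrimeSpectrum.vanishingIdeal (ProEtW.closedPoints (PrimeSpectrum A)) : Set A) =
      ProEtW.closedPoints (PrimeSpectrum A) := by
  rw [PrimeSpectrum.zeroLocus_vanishingIdeal_eq_closure]
  exact hW.2.1.closure_eq

/-- For a w-local ring `A`, `Spec (A ⧸ I) ≃ₜ π₀ (Spec A)` where `I` is the vanishing ideal of the
closed points. -/
theorem exists_homeo_quot_connectedComponents (A : Type u) [CommRing A]
    (hW : ProEtW.IsWLocal (PrimeSpectrum A)) :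
    Nonempty (PrimeSpectrum
      (A ⧸ PrimeSpectrum.vanishingIdeal (ProEtW.closedPoints (PrimeSpectrum A))) ≃ₜ
      _root_.ConnectedComponents (PrimeSpectrum A)) := by
  obtain ⟨e, -⟩ := exists_homeo_closedPoints hW
  exact ⟨((homeoQuot A _).trans
    (Homeomorph.setCongr (zeroLocus_vanishingIdeal_closedPoints A hW))).trans e⟩

/-- residue fields of `A ⧸ I` when `V(I)` consists of maximal ideals with separably closed residue
fields. -/
theorem isSepClosed_residueField_quot (A : Type u) [CommRing A] (I : Ideal A)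
    (hI : ∀ m : Ideal A, m.IsPrime → I ≤ m → m.IsMaximal)
    (hS : ∀ (m : Ideal A) [m.IsMaximal], I ≤ m → IsSepClosed m.ResidueField)
    (p : PrimeSpectrum (A ⧸ I)) : IsSepClosed p.asIdeal.ResidueField := by
  let m : Ideal A := p.asIdeal.comap (Ideal.Quotient.mk I)
  have hIm : I ≤ m := by
    intro a ha
    change Ideal.Quotient.mk I a ∈ p.asIdeal
    rw [Ideal.Quotient.eq_zero_iff_mem.mpr ha]
    exact zero_mem _
  haveI hm : m.IsMaximal := hI m inferInstance hIm
  haveI := hS m hIm
  have hpm : m.map (Ideal.Quotient.mk I) = p.asIdeal :=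
    Ideal.map_comap_of_surjective _ Ideal.Quotient.mk_surjective _
  haveI hp : p.asIdeal.IsMaximal := by
    rcases Ideal.map_eq_top_or_isMaximal_of_surjective (Ideal.Quotient.mk I)
      Ideal.Quotient.mk_surjective hm with h | h
    · exact absurd (hpm ▸ h) p.isPrime.ne_top
    · exact hpm ▸ h
  let e1 : m.ResidueField ≃+* A ⧸ m :=
    (RingEquiv.ofBijective _ (Ideal.bijective_algebraMap_quotient_residueField m)).symm
  let e2 : (A ⧸ m) ≃+* (A ⧸ I) ⧸ m.map (Ideal.Quotient.mk I) :=
    (DoubleQuot.quotQuotEquivQuotOfLE hIm).symm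
  let e3 : ((A ⧸ I) ⧸ m.map (Ideal.Quotient.mk I)) ≃+* (A ⧸ I) ⧸ p.asIdeal :=
    Ideal.quotEquivOfEq hpm
  let e4 : ((A ⧸ I) ⧸ p.asIdeal) ≃+* p.asIdeal.ResidueField :=
    RingEquiv.ofBijective _ (Ideal.bijective_algebraMap_quotient_residueField p.asIdeal)
  exact Sq.isSepClosed_of_ringEquiv (((e1.trans e2).trans e3).trans e4)

end Groth.Agent.Lib.Helper4.WcFin
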