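import Mathlib
import Groth.Prelude.Def_ProEtW
import Groth.Prelude.Def_EtBase
import Groth.Agent.Lib.Helper4.WcFin4
import Groth.Agent.Lib.Helper4.WcFin2
import Groth.Agent.Lib.Helper20.SpecTop

/-!
# Finite finitely presented algebras over w-contractible rings
-/

set_option autoImplicit false
set_option linter.style.haveILetI false
set_option linter.unusedSectionVars false
universe u

namespace Groth.Agent.Lib.Helper4.WcFin

open IsLocalRing TensorProduct Groth.Agent.Lib.Helper4.LocSec Groth.Agent.Lib.Helper4.WLocRetr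
open Groth.Agent.Lib.Helper20.SpecTop

set_option maxHeartbeats 1000000 in
set_option synthInstance.maxHeartbeats 200000 in
theorem extremallyDisconnected_connectedComponents_of_finite (A B : Type u) [CommRing A]
    [CommRing B] [Algebra A B] [Module.Finite A B] [Algebra.FinitePresentation A B]
    (hWA : ProEtW.IsWLocal (PrimeSpectrum A))
    (hEDA : ExtremallyDisconnected (_root_.ConnectedComponents (PrimeSpectrum A)))
    (hSHA : ∀ (m : Ideal A) [m.IsMaximal],
      EtCoh.IsStrictlyHenselianLocalRing (Localization.AtPrime m))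
    (hWB : ProEtW.IsWLocal (PrimeSpectrum B)) :
    ExtremallyDisconnected (_root_.ConnectedComponents (PrimeSpectrum B)) := by
  let IA : Ideal A := PrimeSpectrum.vanishingIdeal (ProEtW.closedPoints (PrimeSpectrum A))
  have hIA0 := zeroLocus_vanishingIdeal_closedPoints A hWA
  obtain ⟨eA⟩ := exists_homeo_quot_connectedComponents A hWA
  haveI := hWA.1
  haveI : T2Space (_root_.ConnectedComponents (PrimeSpectrum A)) := t2Space_connectedComponents
  haveI : T2Space (PrimeSpectrum (A ⧸ IA)) := eA.symm.t2Space
  haveI : ExtremallyDisconnected (PrimeSpectrum (A ⧸ IA)) := extremallyDisconnected_of_homeo eA.symm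
  have hres : ∀ p : PrimeSpectrum (A ⧸ IA), IsSepClosed p.asIdeal.ResidueField := by
    refine isSepClosed_residueField_quot A IA ?_ ?_
    · intro m hm hle
      have : (⟨m, hm⟩ : PrimeSpectrum A) ∈ PrimeSpectrum.zeroLocus (IA : Set A) := hle
      rw [hIA0] at this
      exact (PrimeSpectrum.isClosed_singleton_iff_isMaximal _).mp this
    · intro m hm _
      obtain ⟨_, hS⟩ := hSHA m
      exact hS
  haveI hEDBb : ExtremallyDisconnected (PrimeSpectrum ((A ⧸ IA) ⊗[A] B)) :=
    QfED.extremallyDisconnected_of_quasiFinite (A ⧸ IA) ((A ⧸ IA) ⊗[A] B) hres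
  let e1 : PrimeSpectrum ((A ⧸ IA) ⊗[A] B) ≃ₜ
      PrimeSpectrum (B ⧸ IA.map (algebraMap A B)) :=
    PrimeSpectrum.homeomorphOfRingEquiv
      (Algebra.TensorProduct.quotIdealMapEquivQuotTensor B IA).symm.toRingEquiv
  have hcl : PrimeSpectrum.zeroLocus ((IA.map (algebraMap A B) : Ideal B) : Set B) =
      ProEtW.closedPoints (PrimeSpectrum B) := by
    rw [closedPoints_eq_preimage A B, ← hIA0, PrimeSpectrum.preimage_comap_zeroLocus,
      Ideal.map, PrimeSpectrum.zeroLocus_span]
  obtain ⟨eB, -⟩ := exists_homeo_closedPoints hWB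
  let e2 : PrimeSpectrum (B ⧸ IA.map (algebraMap A B)) ≃ₜ
      _root_.ConnectedComponents (PrimeSpectrum B) :=
    ((homeoQuot B _).trans (Homeomorph.setCongr hcl)).trans eB
  exact extremallyDisconnected_of_homeo (e1.trans e2)

theorem isWContractible_of_finite (A B : Type u) [CommRing A] [CommRing B]
    [Algebra A B] [Module.Finite A B] [Algebra.FinitePresentation A B]
    (hWA : ProEtW.IsWLocal (PrimeSpectrum A))
    (hEDA : ExtremallyDisconnected (_root_.ConnectedComponents (PrimeSpectrum A)))
    (hSHA : ∀ (m : Ideal A) [m.IsMaximal],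
      EtCoh.IsStrictlyHenselianLocalRing (Localization.AtPrime m)) :
    ProEtW.IsWLocal (PrimeSpectrum B) ∧
      ExtremallyDisconnected (_root_.ConnectedComponents (PrimeSpectrum B)) ∧
      ∀ (n : Ideal B) [n.IsMaximal],
        EtCoh.IsStrictlyHenselianLocalRing (Localization.AtPrime n) := by
  have hWB : ProEtW.IsWLocal (PrimeSpectrum B) :=
    isWLocal_of_finite A B hWA (fun m _ => (hSHA m).choose)
  refine ⟨hWB, extremallyDisconnected_connectedComponents_of_finite A B hWA hEDA hSHA hWB, ?_⟩
  intro n hn
  haveI : (n.comap (algebraMap A B)).IsMaximal :=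
    Ideal.isMaximal_comap_of_isIntegral_of_isMaximal (R := A) n
  exact isStrictlyHenselian_atPrime_of_finite A B n (hSHA _)

end Groth.Agent.Lib.Helper4.WcFin
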