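import Mathlib
import Groth.Prelude.Def_ProEtW
import Groth.Prelude.Def_EtBase
import Groth.Agent.Lib.Helper4.WcFin6

/-!
# Quotients of w-contractible rings by ideals in the Jacobson radical
-/

set_option autoImplicit false
set_option linter.style.haveILetI false
set_option linter.unusedSectionVars false
universe u

namespace Groth.Agent.Lib.Helper4.WcFin

open IsLocalRing TensorProduct Groth.Agent.Lib.Helper4.LocSec Groth.Agent.Lib.Helper4.WLocRetr
open Groth.Agent.Lib.Helper20.SpecTop Topology

set_option maxHeartbeats 1000000 in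
theorem extremallyDisconnected_connectedComponents_of_surjective' (A B : Type u) [CommRing A]
    [CommRing B] [Algebra A B] (hsurj : Function.Surjective (algebraMap A B))
    (hopen : IsOpen ((Subtype.val : TB A → PrimeSpectrum A) ⁻¹'
      (Set.range (PrimeSpectrum.comap (algebraMap A B)))))
    (hWA : ProEtW.IsWLocal (PrimeSpectrum A))
    (hEDA : ExtremallyDisconnected (_root_.ConnectedComponents (PrimeSpectrum A)))
    (hWB : ProEtW.IsWLocal (PrimeSpectrum B)) :
    ExtremallyDisconnected (_root_.ConnectedComponents (PrimeSpectrum B)) := by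
  haveI : Module.Finite A B := Module.Finite.of_surjective (Algebra.linearMap A B) hsurj
  obtain ⟨eA, -⟩ := exists_homeo_closedPoints hWA
  obtain ⟨eB, -⟩ := exists_homeo_closedPoints hWB
  haveI : ExtremallyDisconnected (TB A) := extremallyDisconnected_of_homeo eA.symm
  obtain ⟨hcA, hT2A, -⟩ := profinite_closedPoints hWA
  haveI := hcA
  haveI := hT2A
  let f := PrimeSpectrum.comap (algebraMap A B)
  have hf : IsClosedEmbedding f := PrimeSpectrum.isClosedEmbedding_comap_of_surjective _ _ hsurj
  let S : Set (TB A) := {t | t.1 ∈ Set.range f}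
  have hSopen : IsOpen S := hopen
  haveI : ExtremallyDisconnected S := QfED.extremallyDisconnected_subtype_of_isOpen hSopen
  have hmem : ∀ t : TB B, f t.1 ∈ ProEtW.closedPoints (PrimeSpectrum A) := by
    intro t
    have h1 : t.1 ∈ PrimeSpectrum.comap (algebraMap A B) ⁻¹'
        ProEtW.closedPoints (PrimeSpectrum A) := (closedPoints_eq_preimage A B) ▸ t.2
    exact h1
  let g : TB B → S := fun t => ⟨⟨f t.1, hmem t⟩, ⟨t.1, rfl⟩⟩
  have hg_emb : IsEmbedding g := by
    have h1 : IsEmbedding (fun t : TB B => f t.1) := hf.isEmbedding.comp IsEmbedding.subtypeVal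
    have h2 : IsEmbedding (fun t : TB B => (⟨f t.1, hmem t⟩ : TB A)) := h1.codRestrict _ _
    exact h2.codRestrict S (fun t => ⟨t.1, rfl⟩)
  have hg_surj : Function.Surjective g := by
    rintro ⟨⟨x, hx⟩, ⟨q, hq⟩⟩
    have hq' : f q = x := hq
    subst hq'
    refine ⟨⟨q, ?_⟩, rfl⟩
    rw [closedPoints_eq_preimage A B]
    exact hx
  let e : TB B ≃ₜ S := hg_emb.toHomeomorphOfSurjective hg_surj
  exact extremallyDisconnected_of_homeo (e.symm.trans eB)

theorem isWContractible_of_surjective' (A B : Type u) [CommRing A] [CommRing B] [Algebra A B]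
    (hsurj : Function.Surjective (algebraMap A B))
    (hopen : IsOpen ((Subtype.val : TB A → PrimeSpectrum A) ⁻¹'
      (Set.range (PrimeSpectrum.comap (algebraMap A B)))))
    (h : EtPBC.IsWContractible A) : EtPBC.IsWContractible B := by
  haveI : Module.Finite A B := Module.Finite.of_surjective (Algebra.linearMap A B) hsurj
  obtain ⟨hWA, hEDA, hSHA⟩ := Wc.of_isWContractible A h
  have hWB : ProEtW.IsWLocal (PrimeSpectrum B) :=
    isWLocal_of_finite A B hWA (fun m _ => (hSHA m).choose)
  refine Wc.isWContractible_of B hWB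
    (extremallyDisconnected_connectedComponents_of_surjective' A B hsurj hopen hWA hEDA hWB) ?_
  intro n hn
  haveI : (n.comap (algebraMap A B)).IsMaximal :=
    Ideal.isMaximal_comap_of_isIntegral_of_isMaximal (R := A) n
  exact isStrictlyHenselian_atPrime_of_finite A B n (hSHA _)

/-- (A5) -/
theorem isWContractible_quotient_of_le_jacobson (B : Type u) [CommRing B] (J : Ideal B)
    (hJ : J ≤ Ideal.jacobson ⊥) (h : EtPBC.IsWContractible B) : EtPBC.IsWContractible (B ⧸ J) := by
  refine isWContractible_of_surjective' B (B ⧸ J) Ideal.Quotient.mk_surjective ?_ h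
  have h1 : (Subtype.val : TB B → PrimeSpectrum B) ⁻¹'
      (Set.range (PrimeSpectrum.comap (algebraMap B (B ⧸ J)))) = Set.univ := by
    rw [Set.eq_univ_iff_forall]
    rintro ⟨x, hx⟩
    have hmax : x.asIdeal.IsMaximal := (PrimeSpectrum.isClosed_singleton_iff_isMaximal x).mp hx
    have hJx : J ≤ x.asIdeal := hJ.trans (sInf_le ⟨bot_le, hmax⟩)
    change x ∈ Set.range (PrimeSpectrum.comap (algebraMap B (B ⧸ J)))
    rw [Ideal.Quotient.algebraMap_eq, _root_.range_comap_of_surjective _ _
      Ideal.Quotient.mk_surjective, Ideal.mk_ker]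
    exact hJx
  rw [h1]
  exact isOpen_univ

end Groth.Agent.Lib.Helper4.WcFin
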