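import Mathlib
import Groth.Prelude.Def_PBC
import Groth.Agent.Lib.Helper4.HensWc1
import Groth.Agent.Lib.Helper4.HensWc2
import Groth.Agent.Lib.Helper4.HznWE
import Groth.Agent.Lib.Helper4.IndEtColim
import Groth.Agent.Lib.Helper4.HenselPairE
import Groth.Agent.Lib.Helper4.WcFin7
import Groth.Agent.Lib.Helper10.IndEtale
import Groth.Agent.S0176
import Groth.Agent.S0733

/-!
# Lifting maps from weakly étale algebras over a henselian pair with w-contractible quotient
-/

set_option autoImplicit false
set_option linter.style.haveILetI false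
set_option linter.unusedSectionVars false
universe u

open TensorProduct CategoryTheory CategoryTheory.Limits

namespace Groth.Agent.Lib.Helper4.HensWc

open Groth.Agent.Lib.Helper4.IndEt Groth.Agent.Lib.Helper10.IndEtale
  Groth.Agent.Lib.Helper4.HenselPair

variable {B : Type u} [CommRing B] (J : Ideal B)

/-- uniqueness of lifts, ring hom form on an object of `Under B` -/
theorem lift_unique_ringHom (hJ : J ≤ Ideal.jacobson ⊥) (X : Under (CommRingCat.of B))
    (hX : letI := X.hom.hom.toAlgebra; Algebra.WeaklyEtale B X.right) (t t' : X.right →+* B)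
    (ht : ∀ b, t (X.hom b) = b) (ht' : ∀ b, t' (X.hom b) = b)
    (h : ∀ y, Ideal.Quotient.mk J (t y) = Ideal.Quotient.mk J (t' y)) : t = t' := by
  letI := X.hom.hom.toAlgebra
  haveI : Algebra.WeaklyEtale B X.right := hX
  let τ : X.right →ₐ[B] B := { t with commutes' := ht }
  let τ' : X.right →ₐ[B] B := { t' with commutes' := ht' }
  have h1 : τ = τ' := lift_unique J hJ τ τ' h
  ext y
  exact congrArg (fun m => m y) h1

set_option maxHeartbeats 1000000 in
/-- (A4) existence of lifts -/
theorem exists_lift_of_weaklyEtale [HenselianRing B J] (hwc : EtPBC.IsWContractible (B ⧸ J))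
    (E : Type u) [CommRing E] [Algebra B E] [Algebra.WeaklyEtale B E] (σ : E →ₐ[B] B ⧸ J) :
    ∃ τ : E →ₐ[B] B, (Ideal.Quotient.mkₐ B J).comp τ = σ := by
  have hJ : J ≤ Ideal.jacobson ⊥ := HenselianRing.jac
  obtain ⟨D, _, algED, algBD, tower, hff, hED, hBD⟩ := Groth.Agent.S0176.result B E
  -- Step 1: extend `σ` to `D`
  letI algEBJ : Algebra E (B ⧸ J) := σ.toRingHom.toAlgebra
  haveI : IsScalarTower B E (B ⧸ J) := .of_algebraMap_eq (fun b => (σ.commutes b).symm)
  have hind : EtPBC.IsIndEtale (B ⧸ J) ((B ⧸ J) ⊗[E] D) := Groth.Agent.S0733.result E D (B ⧸ J) hED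
  haveI : Algebra.WeaklyEtale (B ⧸ J) ((B ⧸ J) ⊗[E] D) := weaklyEtale_of_isIndEtale _ _ hind
  obtain ⟨ρ⟩ := hwc ((B ⧸ J) ⊗[E] D) inferInstance inferInstance
  let σ'0 : D →+* B ⧸ J := ρ.toRingHom.comp
    (Algebra.TensorProduct.includeRight (R := E) (A := B ⧸ J) (B := D)).toRingHom
  have hσ'0 : ∀ d : D, σ'0 d = ρ ((1 : B ⧸ J) ⊗ₜ[E] d) := fun d => rfl
  have hσ'E : ∀ e : E, σ'0 (algebraMap E D e) = σ e := by
    intro e
    rw [hσ'0]
    have h1 : (1 : B ⧸ J) ⊗ₜ[E] (algebraMap E D e) =
        algebraMap (B ⧸ J) ((B ⧸ J) ⊗[E] D) (σ e) := by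
      rw [Algebra.TensorProduct.algebraMap_apply, Algebra.algebraMap_eq_smul_one e,
        ← TensorProduct.smul_tmul]
      congr 1
      rw [Algebra.smul_def, mul_one]
      rfl
    rw [h1, ρ.commutes]
    rfl
  let σ' : D →ₐ[B] B ⧸ J :=
    { σ'0 with
      commutes' := fun b => by
        change σ'0 (algebraMap B D b) = _
        rw [IsScalarTower.algebraMap_apply B E D, hσ'E, σ.commutes] }
  -- Step 2: lift `σ'` along the étale stages
  obtain ⟨Jc, _, _, pres, hpres⟩ := ind_of_isIndEtale B D hBD
  have key : ∀ j, ∃ τj : (pres.diag.obj j).right →+* B,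
      (∀ b, τj ((pres.diag.obj j).hom b) = b) ∧
      ∀ y, Ideal.Quotient.mk J (τj y) = σ' ((pres.ι.app j).right y) := by
    intro j
    letI := (pres.diag.obj j).hom.hom.toAlgebra
    haveI : Algebra.Etale B (pres.diag.obj j).right := hpres j
    let σj : (pres.diag.obj j).right →ₐ[B] B ⧸ J :=
      { σ'.toRingHom.comp (pres.ι.app j).right.hom with
        commutes' := fun b => by
          change σ' ((pres.ι.app j).right ((pres.diag.obj j).hom b)) = _
          rw [under_w_apply]
          exact σ'.commutes b }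
    obtain ⟨τj, hτj⟩ := exists_lift_of_etale J σj
    exact ⟨τj.toRingHom, τj.commutes, fun y => congrArg (fun m => m y) hτj⟩
  choose t ht1 ht2 using key
  have hcompat : ∀ {j k : Jc} (u : j ⟶ k), (t k).comp (pres.diag.map u).right.hom = t j := by
    intro j k u
    apply lift_unique_ringHom J hJ (pres.diag.obj j)
    · letI := (pres.diag.obj j).hom.hom.toAlgebra
      haveI : Algebra.Etale B (pres.diag.obj j).right := hpres j
      infer_instance
    · intro b
      change t k ((pres.diag.map u).right ((pres.diag.obj j).hom b)) = b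
      rw [under_w_apply, ht1]
    · exact ht1 j
    · intro y
      change Ideal.Quotient.mk J (t k ((pres.diag.map u).right y)) = _
      rw [ht2, ht2]
      congr 1
      exact congrArg (fun m => m.right y) (pres.cocone.w u)
  let s : Cocone pres.diag :=
    { pt := mkU B B
      ι :=
        { app := fun j => Under.homMk (CommRingCat.ofHom (t j)) (by
            ext b
            exact ht1 j b)
          naturality := fun j k u => by
            ext y
            exact congrArg (fun m => m y) (hcompat u) } }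
  let τ'0 : mkU B D ⟶ mkU B B := pres.isColimit.desc s
  have hτ'0 : ∀ j y, τ'0.right ((pres.ι.app j).right y) = t j y := fun j y =>
    congrArg (fun m => m.right y) (pres.isColimit.fac s j)
  let τ' : D →ₐ[B] B :=
    { τ'0.right.hom with
      commutes' := fun b => under_w_apply τ'0 b }
  have hτ' : ∀ d : D, Ideal.Quotient.mk J (τ' d) = σ' d := by
    intro d
    obtain ⟨j, y, rfl⟩ := under_exists_rep pres.diag pres.cocone pres.isColimit d
    change Ideal.Quotient.mk J (τ'0.right ((pres.ι.app j).right y)) = _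
    rw [hτ'0, ht2]
  refine ⟨τ'.comp (IsScalarTower.toAlgHom B E D), ?_⟩
  ext e
  change Ideal.Quotient.mk J (τ' (algebraMap E D e)) = σ e
  rw [hτ']
  exact hσ'E e

/-- (H-alg) -/
theorem existsUnique_lift_of_isWContractible (hJ : J ≤ Ideal.jacobson ⊥)
    (hwc : EtPBC.IsWContractible B)
    (E : Type u) [CommRing E] [Algebra B E] [Algebra.WeaklyEtale B E] (σ : E →ₐ[B] B ⧸ J) :
    ∃! τ : E →ₐ[B] B, (Ideal.Quotient.mkₐ B J).comp τ = σ := by
  haveI := henselianRing_of_isWContractible B J hJ hwc
  obtain ⟨τ, hτ⟩ := exists_lift_of_weaklyEtale J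
    (Groth.Agent.Lib.Helper4.WcFin.isWContractible_quotient_of_le_jacobson B J hJ hwc) E σ
  refine ⟨τ, hτ, fun τ' hτ' => ?_⟩
  apply lift_unique J hJ
  intro e
  have h1 := congrArg (fun m => m e) hτ
  have h2 := congrArg (fun m => m e) hτ'
  exact h2.trans h1.symm

end Groth.Agent.Lib.Helper4.HensWc
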