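import Mathlib
import Groth.Prelude.Def_ProEtS
import Groth.Agent.Lib.Helper4.HSch1
import Groth.Agent.Lib.Helper4.HensWc3

/-!
# Extending sections of affine weakly étale morphisms from a closed subscheme containing all
closed points of a w-contractible affine scheme
-/

set_option autoImplicit false
set_option linter.style.haveILetI false
set_option linter.unusedSectionVars false
universe u

namespace Groth.Agent.Lib.Helper4.HSch

open CategoryTheory CategoryTheory.Limits AlgebraicGeometry Opposite Groth.Agent.Lib.Helper4.PE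

/-- the kernel of restriction to a subscheme containing all closed points lies in the radical -/
theorem ker_appTop_le_jacobson {W V : Scheme.{u}} [IsAffine W] (ι : V ⟶ W)
    (hι : ∀ w : W, IsClosed ({w} : Set W) → w ∈ Set.range ι.base) :
    RingHom.ker ι.appTop.hom ≤ Ideal.jacobson ⊥ := by
  refine le_sInf ?_
  rintro m ⟨-, hm⟩
  intro f hf
  rw [RingHom.mem_ker] at hf
  by_contra hfm
  let pm : PrimeSpectrum Γ(W, ⊤) := ⟨m, hm.isPrime⟩
  let x : W := W.isoSpec.inv.base pm
  have hxpm : W.toSpecΓ.base x = pm := by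
    change (W.isoSpec.inv ≫ W.toSpecΓ).base pm = pm
    rw [Scheme.isoSpec_inv_toSpecΓ]
    rfl
  have hxcl : IsClosed ({x} : Set W) := by
    have h1 : IsClosed ({pm} : Set (PrimeSpectrum Γ(W, ⊤))) :=
      (PrimeSpectrum.isClosed_singleton_iff_isMaximal pm).mpr hm
    have h2 : ({x} : Set W) = W.toSpecΓ.base ⁻¹' {pm} := by
      ext y
      simp only [Set.mem_singleton_iff, Set.mem_preimage]
      constructor
      · rintro rfl
        exact hxpm
      · intro hy
        have hinj : Function.Injective W.toSpecΓ.base :=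
          (Scheme.homeoOfIso W.isoSpec).injective
        exact hinj (hy.trans hxpm.symm)
    rw [h2]
    exact h1.preimage W.toSpecΓ.base.hom.continuous
  obtain ⟨v, hv⟩ := hι x hxcl
  have hx : x ∈ W.basicOpen f := by
    rw [← Scheme.toSpecΓ_preimage_basicOpen]
    change W.toSpecΓ.base x ∈ PrimeSpectrum.basicOpen f
    rw [hxpm]
    exact hfm
  have hv' : v ∈ ι ⁻¹ᵁ (W.basicOpen f) := by
    change ι.base v ∈ W.basicOpen f
    rw [hv]
    exact hx
  rw [Scheme.preimage_basicOpen] at hv'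
  have h0 : ι.app ⊤ f = 0 := hf
  rw [h0, Scheme.basicOpen_zero] at hv'
  exact hv'

set_option maxHeartbeats 1000000 in
/-- (ExS-aff) -/
theorem exists_section_affine {W V T : Scheme.{u}} [IsAffine W] [IsAffine T]
    (hwc : EtPBC.IsWContractible Γ(W, ⊤)) (ι : V ⟶ W) [IsClosedImmersion ι]
    (hι : ∀ w : W, IsClosed ({w} : Set W) → w ∈ Set.range ι.base)
    (p : T ⟶ W) [WeaklyEtale p] (g : V ⟶ T) (hg : g ≫ p = ι) :
    ∃ s : W ⟶ T, s ≫ p = 𝟙 W ∧ ι ≫ s = g := by
  letI := p.appTop.hom.toAlgebra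
  have h1 : WeaklyEtale (Spec.map p.appTop) :=
    (MorphismProperty.arrow_mk_iso_iff @WeaklyEtale (arrowIsoSpecΓOfIsAffine p)).mp inferInstance
  have h3 := (Groth.Agent.Lib.Helper3.WeaklyEtaleStalk.weaklyEtale_SpecMap_iff p.appTop).mp h1
  haveI hwe : Algebra.WeaklyEtale Γ(W, ⊤) Γ(T, ⊤) := ⟨h3.1, h3.2⟩
  have hK := ker_appTop_le_jacobson ι hι
  have hsurj : Function.Surjective ι.appTop.hom :=
    (IsClosedImmersion.isAffine_surjective_of_isAffine ι).2
  let e : (Γ(W, ⊤) ⧸ RingHom.ker ι.appTop.hom) ≃+* Γ(V, ⊤) :=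
    RingHom.quotientKerEquivOfSurjective hsurj
  have he : ∀ y, e (Ideal.Quotient.mk _ y) = ι.appTop.hom y := fun y => rfl
  have hcomp : ∀ b, g.appTop.hom (p.appTop.hom b) = ι.appTop.hom b := by
    intro b
    have h4 : (g ≫ p).appTop = ι.appTop := by rw [hg]
    rw [Scheme.Hom.comp_appTop] at h4
    exact congrArg (fun m => m.hom b) h4
  let σ : Γ(T, ⊤) →ₐ[Γ(W, ⊤)] Γ(W, ⊤) ⧸ RingHom.ker ι.appTop.hom :=
    { e.symm.toRingHom.comp g.appTop.hom with
      commutes' := fun b => by
        change e.symm (g.appTop.hom (p.appTop.hom b)) = _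
        rw [hcomp, ← he, RingEquiv.symm_apply_apply]
        rfl }
  obtain ⟨τ, hτ, -⟩ := Groth.Agent.Lib.Helper4.HensWc.existsUnique_lift_of_isWContractible
    (RingHom.ker ι.appTop.hom) hK hwc Γ(T, ⊤) σ
  let ψ : Γ(T, ⊤) ⟶ Γ(W, ⊤) := CommRingCat.ofHom τ.toRingHom
  have hψ1 : p.appTop ≫ ψ = 𝟙 _ := by
    ext a
    exact τ.commutes a
  have hψ2 : ψ ≫ ι.appTop = g.appTop := by
    ext x
    change ι.appTop.hom (τ x) = g.appTop.hom x
    rw [← he]
    have h5 : Ideal.Quotient.mk (RingHom.ker ι.appTop.hom) (τ x) = σ x :=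
      congrArg (fun m => m x) hτ
    rw [h5]
    change e (e.symm (g.appTop.hom x)) = _
    rw [RingEquiv.apply_symm_apply]
  haveI : IsAffine V := (IsClosedImmersion.isAffine_surjective_of_isAffine ι).1
  refine ⟨W.toSpecΓ ≫ Spec.map ψ ≫ T.isoSpec.inv, ?_, ?_⟩
  · rw [← cancel_mono W.toSpecΓ]
    simp only [Category.assoc, Category.id_comp]
    rw [Scheme.toSpecΓ_naturality, ← Scheme.isoSpec_hom T, Iso.inv_hom_id_assoc, ← Spec.map_comp,
      hψ1, Spec.map_id, Category.comp_id]
  · rw [← cancel_mono T.isoSpec.hom]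
    simp only [Category.assoc, Iso.inv_hom_id, Category.comp_id]
    rw [Scheme.toSpecΓ_naturality_assoc, ← Spec.map_comp, hψ2, Scheme.isoSpec_hom,
      Scheme.toSpecΓ_naturality]

end Groth.Agent.Lib.Helper4.HSch
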