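import Mathlib
import Groth.Prelude.Def_ProEtS
import Groth.Agent.Lib.Helper4.HSch2
import Groth.Agent.Lib.Helper4.PE4
import Groth.Agent.Lib.Helper4.PE5
import Groth.Agent.Lib.Helper4.PE7

/-!
# Extending sections of weakly étale morphisms from a closed subscheme containing all closed
points of a w-contractible affine scheme: general source
-/

set_option autoImplicit false
set_option linter.style.haveILetI false
set_option linter.unusedSectionVars false
universe u

namespace Groth.Agent.Lib.Helper4.HSch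

open CategoryTheory CategoryTheory.Limits AlgebraicGeometry Opposite Groth.Agent.Lib.Helper4.PE

/-- Gluing morphisms out of a pairwise disjoint open cover of a scheme. -/
theorem existsUnique_glue_disjoint {V Y : Scheme.{u}} {ι : Type*} (O : ι → V.Opens)
    (hdisj : ∀ k l, k ≠ l → Disjoint (O k : Set V) (O l))
    (hcov : (⋃ k, (O k : Set V)) = Set.univ) (m : ∀ k, (O k : Scheme) ⟶ Y) :
    ∃! f : V ⟶ Y, ∀ k, (O k).ι ≫ f = m k := by
  classical
  have hcov' : TopologicalSpace.IsOpenCover O := by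
    apply TopologicalSpace.Opens.ext
    rw [TopologicalSpace.Opens.coe_iSup, hcov]
    rfl
  let 𝒰 : V.OpenCover := V.openCoverOfIsOpenCover O hcov'
  have hf : ∀ k l, pullback.fst (𝒰.f k) (𝒰.f l) ≫ m k =
      pullback.snd (𝒰.f k) (𝒰.f l) ≫ m l := by
    intro k l
    by_cases hkl : k = l
    · subst hkl
      have h1 : pullback.fst (𝒰.f k) (𝒰.f k) = pullback.snd (𝒰.f k) (𝒰.f k) := by
        rw [← cancel_mono (𝒰.f k)]
        exact pullback.condition
      rw [h1]
    · haveI : IsEmpty ↑(pullback (𝒰.f k) (𝒰.f l)) := by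
        refine ⟨fun z => ?_⟩
        have h3 : pullback.fst (𝒰.f k) (𝒰.f l) ≫ (O k).ι =
            pullback.snd (𝒰.f k) (𝒰.f l) ≫ (O l).ι := pullback.condition
        have h4 : ((pullback.fst (𝒰.f k) (𝒰.f l) ≫ (O k).ι).base z) ∈ (O k : Set V) := by
          rw [Scheme.Hom.comp_apply]
          exact ((pullback.fst (𝒰.f k) (𝒰.f l)).base z).2
        have h5 : ((pullback.fst (𝒰.f k) (𝒰.f l) ≫ (O k).ι).base z) ∈ (O l : Set V) := by
          rw [h3, Scheme.Hom.comp_apply]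
          exact ((pullback.snd (𝒰.f k) (𝒰.f l)).base z).2
        exact (Set.disjoint_iff.mp (hdisj k l hkl)) ⟨h4, h5⟩
      exact isInitialOfIsEmpty.hom_ext _ _
  let f₀ : V ⟶ Y := 𝒰.glueMorphisms m hf
  have hf₀ : ∀ k, (O k).ι ≫ f₀ = m k := fun k => 𝒰.ι_glueMorphisms _ hf k
  refine ⟨f₀, hf₀, fun f' hf' => ?_⟩
  refine 𝒰.hom_ext _ _ (fun k => ?_)
  change (O k).ι ≫ f' = (O k).ι ≫ f₀
  rw [hf₀ k, hf' k]

/-- open covers of w-contractible affine schemes are refined by finite clopen partitions -/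
theorem exists_clopen_partition_refining {V : Scheme.{u}} [IsAffine V]
    (hV : EtPBC.IsWContractible Γ(V, ⊤)) {ι : Type*} (O : ι → V.Opens)
    (hO : (⋃ α, (O α : Set V)) = Set.univ) :
    ∃ (n : ℕ) (Wk : Fin n → V.Opens), (∀ k, IsClopen (Wk k : Set V)) ∧
      (∀ k l, k ≠ l → Disjoint (Wk k : Set V) (Wk l)) ∧ (⋃ k, (Wk k : Set V)) = Set.univ ∧
      ∀ k, ∃ α, Wk k ≤ O α := by
  let U : V.ProEt := ProEtS.topP V
  haveI : IsAffine U.left := inferInstanceAs (IsAffine V)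
  have hU : EtPBC.IsWContractible Γ(U.left, ⊤) := hV
  have hpart := partitionProp_of_isWContractible U hU
  obtain ⟨n, Wk, hcl, hdisj, hcov, hmem⟩ := hpart _ (ofArrows_opn_mem (U := U) O hO)
  refine ⟨n, Wk, hcl, fun k l hkl => hdisj hkl, hcov, fun k => ?_⟩
  obtain ⟨Z, a, b, ⟨α⟩, hab⟩ := hmem k
  refine ⟨α, ?_⟩
  intro x hx
  have h1 := congrArg (fun m => m.left) hab
  have h2 : a.left ≫ (O α).ι = (Wk k).ι := h1
  have h3 : ((Wk k).ι.base ⟨x, hx⟩ : V) = x := rfl
  rw [← h3, ← h2]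
  exact ((a.left.base ⟨x, hx⟩)).2

set_option maxHeartbeats 1000000 in
/-- (ExS) -/
theorem exists_section {W V T : Scheme.{u}} [IsAffine W]
    (hwc : EtPBC.IsWContractible Γ(W, ⊤)) (ι : V ⟶ W) [IsClosedImmersion ι]
    (hι : ∀ w : W, IsClosed ({w} : Set W) → w ∈ Set.range ι.base)
    (p : T ⟶ W) [WeaklyEtale p] (g : V ⟶ T) (hg : g ≫ p = ι) :
    ∃ s : W ⟶ T, s ≫ p = 𝟙 W ∧ ι ≫ s = g := by
  haveI : IsAffine V := (IsClosedImmersion.isAffine_surjective_of_isAffine ι).1
  have hsurj : Function.Surjective ι.appTop.hom :=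
    (IsClosedImmersion.isAffine_surjective_of_isAffine ι).2
  have hVwc : EtPBC.IsWContractible Γ(V, ⊤) :=
    isWContractible_of_ringEquiv (RingHom.quotientKerEquivOfSurjective hsurj)
      (Groth.Agent.Lib.Helper4.WcFin.isWContractible_quotient_of_le_jacobson _ _
        (ker_appTop_le_jacobson ι hι) hwc)
  let 𝒰 := T.affineCover
  let O : 𝒰.I₀ → V.Opens := fun α => g ⁻¹ᵁ (𝒰.f α).opensRange
  have hO : (⋃ α, (O α : Set V)) = Set.univ := by
    rw [Set.eq_univ_iff_forall]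
    intro v
    obtain ⟨α, y, hy⟩ := 𝒰.exists_eq (g.base v)
    exact Set.mem_iUnion.mpr ⟨α, ⟨y, hy⟩⟩
  obtain ⟨n, Wk, hcl, hdisj, hcov, href⟩ := exists_clopen_partition_refining hVwc O hO
  choose α hα using href
  let c : (∐ (fun k : Fin n => 𝒰.X (α k))) ⟶ T := Sigma.desc (fun k => 𝒰.f (α k))
  haveI : IsAffine (∐ (fun k : Fin n => 𝒰.X (α k))) := inferInstance
  haveI : WeaklyEtale (c ≫ p) := by
    have h1 : c ≫ p = Sigma.desc (fun k => 𝒰.f (α k) ≫ p) := by
      apply Sigma.hom_ext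
      intro k
      simp only [c, Sigma.ι_desc, Sigma.ι_desc_assoc]
    rw [h1]
    exact IsZariskiLocalAtSource.sigmaDesc (fun k => inferInstance)
  have hlift : ∀ k, ∃ m : (Wk k : Scheme) ⟶ 𝒰.X (α k), m ≫ 𝒰.f (α k) = (Wk k).ι ≫ g := by
    intro k
    refine ⟨IsOpenImmersion.lift (𝒰.f (α k)) ((Wk k).ι ≫ g) ?_, IsOpenImmersion.lift_fac _ _ _⟩
    rintro _ ⟨x, rfl⟩
    have hx : (Wk k).ι.base x ∈ (Wk k : Set V) := by
      rw [← Scheme.Opens.range_ι]
      exact ⟨x, rfl⟩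
    have h1 : (Wk k).ι.base x ∈ O (α k) := hα k hx
    exact h1
  choose m hm using hlift
  obtain ⟨g'', hg'', -⟩ := existsUnique_glue_disjoint Wk hdisj hcov
    (fun k => m k ≫ Sigma.ι (fun k : Fin n => 𝒰.X (α k)) k)
  have hg''c : g'' ≫ c = g := by
    obtain ⟨g0, -, hu⟩ := existsUnique_glue_disjoint Wk hdisj hcov (fun k => (Wk k).ι ≫ g)
    rw [hu g (fun k => rfl)]
    apply hu
    intro k
    rw [← Category.assoc, hg'' k, Category.assoc]
    simp only [c, Sigma.ι_desc]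
    exact hm k
  obtain ⟨s'', hs1, hs2⟩ := exists_section_affine hwc ι hι (c ≫ p) g''
    (by rw [← Category.assoc, hg''c, hg])
  exact ⟨s'' ≫ c, by rw [Category.assoc]; exact hs1, by rw [← Category.assoc, hs2, hg''c]⟩

/-- (Ex) extension of morphisms over a base -/
theorem exists_extension {W T X V : Scheme.{u}} [IsAffine W]
    (hwc : EtPBC.IsWContractible Γ(W, ⊤)) (wh : W ⟶ X) (th : T ⟶ X) [WeaklyEtale th]
    (ι : V ⟶ W) [IsClosedImmersion ι]
    (hι : ∀ w : W, IsClosed ({w} : Set W) → w ∈ Set.range ι.base)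
    (g : V ⟶ T) (hg : g ≫ th = ι ≫ wh) :
    ∃ a : W ⟶ T, a ≫ th = wh ∧ ι ≫ a = g := by
  obtain ⟨s, hs1, hs2⟩ := exists_section hwc ι hι (pullback.fst wh th)
    (pullback.lift ι g hg.symm) (pullback.lift_fst _ _ _)
  refine ⟨s ≫ pullback.snd wh th, ?_, ?_⟩
  · rw [Category.assoc, ← pullback.condition, ← Category.assoc, hs1, Category.id_comp]
  · rw [← Category.assoc, hs2, pullback.lift_snd]

end Groth.Agent.Lib.Helper4.HSch
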