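import Mathlib
import Groth.Prelude.Def_ProEtS
import Groth.Agent.Lib.Helper4.HSch3
import Groth.Agent.Lib.Helper4.PE8

/-!
# Henselian-type lifting in the small pro-étale site along a closed immersion
-/

set_option autoImplicit false
set_option linter.style.haveILetI false
set_option linter.unusedSectionVars false
universe u

namespace Groth.Agent.Lib.Helper4.HSch

open CategoryTheory CategoryTheory.Limits AlgebraicGeometry Opposite Groth.Agent.Lib.Helper4.PE

variable {X Z : Scheme.{u}} (i : Z ⟶ X) [IsClosedImmersion i]

/-- the closed points of `W` lie over `Z` -/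
def ClosedPointsOver (W : X.ProEt) : Prop :=
  ∀ w : W.left, IsClosed ({w} : Set W.left) → W.hom.base w ∈ Set.range i.base

set_option backward.isDefEq.respectTransparency.types false in
theorem closedPoints_mem_range_fst (W : X.ProEt) (hZ : ClosedPointsOver i W) :
    ∀ w : W.left, IsClosed ({w} : Set W.left) → w ∈ Set.range (pullback.fst W.hom i).base := by
  intro w hw
  rw [Scheme.Pullback.range_fst]
  exact hZ w hw

set_option backward.isDefEq.respectTransparency.types false in
set_option maxHeartbeats 1000000 in
/-- (H-sch) -/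
theorem existsUnique_lift (W : X.ProEt) [IsAffine W.left]
    (hwc : EtPBC.IsWContractible Γ(W.left, ⊤)) (hZ : ClosedPointsOver i W) (T : X.ProEt)
    (a : (ProEtS.bcP i).obj W ⟶ (ProEtS.bcP i).obj T) :
    ∃! ã : W ⟶ T, (ProEtS.bcP i).map ã = a := by
  let ι : ((ProEtS.bcP i).obj W).left ⟶ W.left := pullback.fst W.hom i
  haveI : IsClosedImmersion ι := inferInstanceAs (IsClosedImmersion (pullback.fst W.hom i))
  have hι := closedPoints_mem_range_fst i W hZ
  let qT : ((ProEtS.bcP i).obj T).left ⟶ T.left := pullback.fst T.hom i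
  let g : ((ProEtS.bcP i).obj W).left ⟶ T.left := a.left ≫ qT
  have haw : a.left ≫ pullback.snd T.hom i = pullback.snd W.hom i := MorphismProperty.Over.w a
  have hg : g ≫ T.hom = ι ≫ W.hom := by
    change (a.left ≫ pullback.fst T.hom i) ≫ T.hom = pullback.fst W.hom i ≫ W.hom
    calc (a.left ≫ pullback.fst T.hom i) ≫ T.hom
        = a.left ≫ (pullback.fst T.hom i ≫ T.hom) := Category.assoc _ _ _
      _ = a.left ≫ (pullback.snd T.hom i ≫ i) :=
          congrArg (fun m => a.left ≫ m) pullback.condition
      _ = (a.left ≫ pullback.snd T.hom i) ≫ i := (Category.assoc _ _ _).symm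
      _ = pullback.snd W.hom i ≫ i := congrArg (fun m => m ≫ i) haw
      _ = pullback.fst W.hom i ≫ W.hom := pullback.condition.symm
  haveI : WeaklyEtale T.hom := T.prop
  have hmapfst : ∀ b : W ⟶ T, ((ProEtS.bcP i).map b).left ≫ qT = ι ≫ b.left := by
    intro b
    exact pullback.lift_fst _ _ _
  obtain ⟨a₀, ha1, ha2⟩ := exists_extension hwc W.hom T.hom ι hι g hg
  refine ⟨MorphismProperty.Over.homMk a₀ ha1, ?_, ?_⟩
  · apply MorphismProperty.Over.Hom.ext
    apply pullback.hom_ext
    · have := hmapfst (MorphismProperty.Over.homMk a₀ ha1)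
      exact this.trans ha2
    · have h1 := MorphismProperty.Over.w ((ProEtS.bcP i).map (MorphismProperty.Over.homMk a₀ ha1 :
        W ⟶ T))
      exact h1.trans haw.symm
  · intro b hb
    apply MorphismProperty.Over.Hom.ext
    change b.left = a₀
    apply hom_ext_of_closedPoints T.hom ι hι
    · rw [ha1]
      exact MorphismProperty.Over.w b
    · rw [ha2, ← hmapfst b, hb]

end Groth.Agent.Lib.Helper4.HSch
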