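import Mathlib
import Groth.Prelude.Def_ProEtS
import Groth.Agent.Lib.Helper4.PELan1

/-!
# Elements of the left Kan extension along base change of pro-étale sites (abelian groups)
-/

set_option autoImplicit false
set_option linter.style.haveILetI false
set_option linter.unusedSectionVars false
universe u

namespace Groth.Agent.Lib.Helper4.PEAb

open CategoryTheory CategoryTheory.Limits AlgebraicGeometry Opposite

variable {X Y : Scheme.{u}} (f : X ⟶ Y)

variable (G : Y.ProEtᵒᵖ ⥤ AddCommGrpCat.{u + 1})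

/-- the left Kan extension presheaf -/
noncomputable abbrev P : X.ProEtᵒᵖ ⥤ AddCommGrpCat.{u + 1} := (ProEtS.bcP f).op.lan.obj G

/-- the unit -/
noncomputable abbrev η : G ⟶ (ProEtS.bcP f).op ⋙ P f G := (ProEtS.bcP f).op.lanUnit.app G

/-- the element of the Kan extension represented by a triple -/
noncomputable def rep {V : X.ProEt} (T : Y.ProEt) (a : V ⟶ (ProEtS.bcP f).obj T)
    (s : G.obj (op T)) : (P f G).obj (op V) :=
  (P f G).map a.op ((η f G).app (op T) s)

theorem rep_map {V V' : X.ProEt} (g : V' ⟶ V) (T : Y.ProEt) (a : V ⟶ (ProEtS.bcP f).obj T)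
    (s : G.obj (op T)) : (P f G).map g.op (rep f G T a s) = rep f G T (g ≫ a) s := by
  unfold rep
  rw [op_comp, Functor.map_comp]
  rfl

theorem rep_comp {V : X.ProEt} {T T' : Y.ProEt} (p : T' ⟶ T) (a : V ⟶ (ProEtS.bcP f).obj T')
    (s : G.obj (op T)) :
    rep f G T (a ≫ (ProEtS.bcP f).map p) s = rep f G T' a (G.map p.op s) := by
  unfold rep
  have h1 := ConcreteCategory.congr_hom ((η f G).naturality p.op) s
  change (η f G).app (op T') (G.map p.op s) =
    (P f G).map ((ProEtS.bcP f).map p).op ((η f G).app (op T) s) at h1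
  rw [h1, op_comp, Functor.map_comp]
  rfl

instance (V : X.ProEt) : IsFiltered (CostructuredArrow (ProEtS.bcP f).op (op V)) := by
  haveI := PELan.representablyFlat_bcP f
  infer_instance

instance (V : X.ProEt) : PreservesColimitsOfShape (CostructuredArrow (ProEtS.bcP f).op (op V))
    (forget AddCommGrpCat.{u + 1}) := by
  haveI : PreservesFilteredColimitsOfSize.{u, u + 1} (forget AddCommGrpCat.{u + 1}) :=
    preservesFilteredColimitsOfSize_shrink.{u + 1, u + 1, u, u + 1} _
  exact PreservesFilteredColimitsOfSize.preserves_filtered_colimits _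

theorem exists_rep {V : X.ProEt} (x : (P f G).obj (op V)) :
    ∃ (T : Y.ProEt) (a : V ⟶ (ProEtS.bcP f).obj T) (s : G.obj (op T)), rep f G T a s = x := by
  let e := (ProEtS.bcP f).op.leftKanExtensionObjIsoColimit G (op V)
  obtain ⟨c, s, hs⟩ := Concrete.colimit_exists_rep
    (CostructuredArrow.proj (ProEtS.bcP f).op (op V) ⋙ G) (e.hom x)
  refine ⟨c.left.unop, c.hom.unop, s, ?_⟩
  have h1 := ConcreteCategory.congr_hom
    ((ProEtS.bcP f).op.ι_leftKanExtensionObjIsoColimit_inv G (op V) c) s
  have h2 : e.inv (e.hom x) = x := ConcreteCategory.congr_hom e.hom_inv_id x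
  rw [← h2, ← hs]
  exact h1.symm

theorem rep_eq_iff {V : X.ProEt} (T T' : Y.ProEt) (a : V ⟶ (ProEtS.bcP f).obj T)
    (a' : V ⟶ (ProEtS.bcP f).obj T') (s : G.obj (op T)) (s' : G.obj (op T')) :
    rep f G T a s = rep f G T' a' s' ↔
      ∃ (T'' : Y.ProEt) (b : V ⟶ (ProEtS.bcP f).obj T'') (p : T'' ⟶ T) (p' : T'' ⟶ T'),
        b ≫ (ProEtS.bcP f).map p = a ∧ b ≫ (ProEtS.bcP f).map p' = a' ∧
          G.map p.op s = G.map p'.op s' := by
  constructor
  · intro h
    let e := (ProEtS.bcP f).op.leftKanExtensionObjIsoColimit G (op V)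
    let c : CostructuredArrow (ProEtS.bcP f).op (op V) := CostructuredArrow.mk (Y := op T) a.op
    let c' : CostructuredArrow (ProEtS.bcP f).op (op V) := CostructuredArrow.mk (Y := op T') a'.op
    have h1 : e.hom (rep f G T a s) =
        colimit.ι (CostructuredArrow.proj (ProEtS.bcP f).op (op V) ⋙ G) c s :=
      ConcreteCategory.congr_hom
        ((ProEtS.bcP f).op.ι_leftKanExtensionObjIsoColimit_hom G (op V) c) s
    have h2 : e.hom (rep f G T' a' s') =
        colimit.ι (CostructuredArrow.proj (ProEtS.bcP f).op (op V) ⋙ G) c' s' :=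
      ConcreteCategory.congr_hom
        ((ProEtS.bcP f).op.ι_leftKanExtensionObjIsoColimit_hom G (op V) c') s'
    have h3 : colimit.ι (CostructuredArrow.proj (ProEtS.bcP f).op (op V) ⋙ G) c s =
        colimit.ι (CostructuredArrow.proj (ProEtS.bcP f).op (op V) ⋙ G) c' s' := by
      rw [← h1, ← h2, h]
    obtain ⟨d, u, u', hu⟩ := (Concrete.colimit_rep_eq_iff_exists
      (CostructuredArrow.proj (ProEtS.bcP f).op (op V) ⋙ G) (i := c) (j := c') s s').mp h3
    refine ⟨d.left.unop, d.hom.unop, u.left.unop, u'.left.unop, ?_, ?_, hu⟩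
    · have := CostructuredArrow.w u
      exact congrArg Quiver.Hom.unop this
    · have := CostructuredArrow.w u'
      exact congrArg Quiver.Hom.unop this
  · rintro ⟨T'', b, p, p', rfl, rfl, h⟩
    rw [rep_comp, rep_comp, h]

end Groth.Agent.Lib.Helper4.PEAb
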