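import Mathlib
import Groth.Prelude.Def_ProEtS
import Groth.Agent.Lib.Helper4.PE9

/-!
# Finite coproducts in the small pro-étale site, presented by clopen partitions
-/

set_option autoImplicit false
set_option linter.style.haveILetI false
set_option linter.unusedSectionVars false
universe u

namespace Groth.Agent.Lib.Helper4.PECoprod

open CategoryTheory CategoryTheory.Limits AlgebraicGeometry Opposite Groth.Agent.Lib.Helper4.PE

variable {X : Scheme.{u}}

set_option backward.isDefEq.respectTransparency.types false in
/-- A finite family of objects of the small pro-étale site has a coproduct, in which the summands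
sit as pairwise disjoint clopen subschemes. -/
theorem exists_coprod {n : ℕ} (T : Fin n → X.ProEt) :
    ∃ (S : X.ProEt) (O : Fin n → S.left.Opens) (e : ∀ k, T k ≅ opn S (O k)),
      (∀ k l, k ≠ l → Disjoint (O k : Set S.left) (O l)) ∧
      (⋃ k, (O k : Set S.left)) = Set.univ := by
  let g : Fin n → Scheme.{u} := fun k => (T k).left
  let h : (∐ g) ⟶ X := Sigma.desc (fun k => (T k).hom)
  haveI hh : WeaklyEtale h :=
    IsZariskiLocalAtSource.sigmaDesc (P := @WeaklyEtale) (fun k => (T k).prop)
  let S : X.ProEt := Scheme.ProEt.mk h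
  let O : Fin n → S.left.Opens := fun k => (Sigma.ι g k).opensRange
  have hι : ∀ k, Sigma.ι g k ≫ h = (T k).hom := fun k => Sigma.ι_desc _ _
  refine ⟨S, O, fun k => ?_, ?_, ?_⟩
  · refine MorphismProperty.Over.isoMk (Sigma.ι g k).isoOpensRange ?_
    have h1 : (Sigma.ι g k).isoOpensRange.hom ≫ (Sigma.ι g k).opensRange.ι = Sigma.ι g k :=
      Scheme.Hom.isoOpensRange_hom_ι _
    exact (Category.assoc _ _ _).symm.trans ((congrArg (fun t => t ≫ h) h1).trans (hι k))
  · intro k l hkl
    have := disjoint_opensRange_sigmaι g k l hkl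
    rw [← TopologicalSpace.Opens.coe_disjoint] at this
    exact this
  · rw [Set.eq_univ_iff_forall]
    intro x
    obtain ⟨k, y, hy⟩ := (sigmaOpenCover g).exists_eq x
    exact Set.mem_iUnion.mpr ⟨k, y, hy⟩

end Groth.Agent.Lib.Helper4.PECoprod
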