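import Mathlib
import Groth.Prelude.Def_ProEtS
import Groth.Agent.Lib.Helper4.PELan1
import Groth.Agent.Lib.Helper4.PECoprod
import Groth.Agent.Lib.Helper4.PEGlue1
import Groth.Agent.Lib.Helper4.PE5

/-!
# The left Kan extension of a sheaf along base change glues over finite clopen partitions
-/

set_option autoImplicit false
set_option linter.style.haveILetI false
set_option linter.unusedSectionVars false
universe u

namespace Groth.Agent.Lib.Helper4.PELan

open CategoryTheory CategoryTheory.Limits AlgebraicGeometry Opposite Groth.Agent.Lib.Helper4.PE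

variable {X Y : Scheme.{u}} (f : X ⟶ Y)

/-- coproducts in the small pro-étale site, in the form needed below -/
theorem exists_coprod' {n : ℕ} (T : Fin n → Y.ProEt) :
    ∃ (S : Y.ProEt) (i : ∀ k, T k ⟶ S),
      (∀ (S' : Y.ProEt) (p : ∀ k, T k ⟶ S'), ∃ q : S ⟶ S', ∀ k, i k ≫ q = p k) ∧
      (∀ (F : Sheaf (Scheme.ProEt.topology Y) (Type (u + 1))) (s : ∀ k, F.obj.obj (op (T k))),
        ∃ t : F.obj.obj (op S), ∀ k, F.obj.map (i k).op t = s k) ∧
      (∀ (F : Sheaf (Scheme.ProEt.topology Y) (Type (u + 1))) (t t' : F.obj.obj (op S)),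
        (∀ k, F.obj.map (i k).op t = F.obj.map (i k).op t') → t = t') := by
  obtain ⟨S, O, e, hdisj, hcov⟩ := PECoprod.exists_coprod T
  refine ⟨S, fun k => (e k).hom ≫ opnι S (O k), ?_, ?_, ?_⟩
  · intro S' p
    obtain ⟨q, hq, -⟩ := existsUnique_desc O hdisj hcov S' (fun k => (e k).inv ≫ p k)
    refine ⟨q, fun k => ?_⟩
    rw [Category.assoc, hq k, Iso.hom_inv_id_assoc]
  · intro F s
    obtain ⟨t, ht, -⟩ := exists_glue F O hdisj hcov (fun k => F.obj.map (e k).inv.op (s k))
    refine ⟨t, fun k => ?_⟩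
    rw [op_comp, Functor.map_comp]
    change F.obj.map (e k).hom.op (F.obj.map (opnι S (O k)).op t) = s k
    rw [ht k]
    change (F.obj.map (e k).inv.op ≫ F.obj.map (e k).hom.op) (s k) = s k
    rw [← Functor.map_comp, ← op_comp, Iso.hom_inv_id, op_id, F.obj.map_id]
    rfl
  · intro F t t' h
    obtain ⟨t0, -, ht0⟩ := exists_glue F O hdisj hcov (fun k => F.obj.map (opnι S (O k)).op t)
    rw [ht0 t (fun k => rfl)]
    symm
    apply ht0 t'
    intro k
    symm
    have h1 := h k
    rw [op_comp, Functor.map_comp] at h1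
    change F.obj.map (e k).hom.op (F.obj.map (opnι S (O k)).op t) =
      F.obj.map (e k).hom.op (F.obj.map (opnι S (O k)).op t') at h1
    have h2 := congrArg (F.obj.map (e k).inv.op) h1
    change (F.obj.map (e k).hom.op ≫ F.obj.map (e k).inv.op) _ =
      (F.obj.map (e k).hom.op ≫ F.obj.map (e k).inv.op) _ at h2
    rw [← Functor.map_comp, ← op_comp, Iso.inv_hom_id, op_id, F.obj.map_id] at h2
    exact h2

set_option maxHeartbeats 1000000 in
theorem glueT_lan (F : Sheaf (Scheme.ProEt.topology Y) (Type (u + 1))) (V : X.ProEt) :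
    PEGlue.GlueT (P f F.obj) V := by
  intro n O hcl hdisj hcov x
  choose T a s hx using fun k => exists_rep f F.obj (x k)
  obtain ⟨S, i, hdesc, hglue, hsep⟩ := exists_coprod' T
  obtain ⟨b, hb, -⟩ := existsUnique_desc O hdisj hcov ((ProEtS.bcP f).obj S)
    (fun k => a k ≫ (ProEtS.bcP f).map (i k))
  obtain ⟨t, ht⟩ := hglue F s
  refine ⟨rep f F.obj S b t, fun k => ?_, ?_⟩
  · rw [rep_map, hb k, rep_comp, ht k, hx k]
  · intro y hy
    obtain ⟨T', a', s', rfl⟩ := exists_rep f F.obj y
    -- the restrictions agree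
    have h1 : ∀ k, rep f F.obj T' (opnι V (O k) ≫ a') s' =
        rep f F.obj S (opnι V (O k) ≫ b) t := by
      intro k
      rw [← rep_map, hy k, ← rep_map]
      rw [rep_map, hb k, rep_comp, ht k, hx k]
    choose T'' c p p' hp hp' hs using fun k => (rep_eq_iff f F.obj _ _ _ _ _ _).mp (h1 k)
    obtain ⟨S'', i'', hdesc'', hglue'', hsep''⟩ := exists_coprod' T''
    obtain ⟨q, hq⟩ := hdesc'' T' p
    obtain ⟨q', hq'⟩ := hdesc'' S p'
    obtain ⟨d, hd, hdu⟩ := existsUnique_desc O hdisj hcov ((ProEtS.bcP f).obj S'')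
      (fun k => c k ≫ (ProEtS.bcP f).map (i'' k))
    -- uniqueness of descent to identify the two maps
    have e1 : d ≫ (ProEtS.bcP f).map q = a' := by
      obtain ⟨m, -, hmu⟩ := existsUnique_desc O hdisj hcov ((ProEtS.bcP f).obj T')
        (fun k => opnι V (O k) ≫ a')
      rw [hmu a' (fun k => rfl)]
      apply hmu
      intro k
      rw [← Category.assoc, hd k, Category.assoc, ← Functor.map_comp, hq k, hp k]
    have e2 : d ≫ (ProEtS.bcP f).map q' = b := by
      obtain ⟨m, -, hmu⟩ := existsUnique_desc O hdisj hcov ((ProEtS.bcP f).obj S)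
        (fun k => opnι V (O k) ≫ b)
      rw [hmu b (fun k => rfl)]
      apply hmu
      intro k
      rw [← Category.assoc, hd k, Category.assoc, ← Functor.map_comp, hq' k, hp' k]
    have e3 : F.obj.map q.op s' = F.obj.map q'.op t := by
      apply hsep'' F
      intro k
      change (F.obj.map q.op ≫ F.obj.map (i'' k).op) s' = (F.obj.map q'.op ≫ F.obj.map (i'' k).op) t
      rw [← Functor.map_comp, ← Functor.map_comp, ← op_comp, ← op_comp, hq k, hq' k]
      exact hs k
    rw [← e1, ← e2, rep_comp, rep_comp, e3]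

end Groth.Agent.Lib.Helper4.PELan
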