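import Mathlib
import Groth.Prelude.Def_ProEtS
import Groth.Agent.Lib.Helper4.PEAb1
import Groth.Agent.Lib.Helper4.PEAb2
import Groth.Agent.Lib.Helper4.PELan2

/-!
# The left Kan extension of an abelian sheaf along base change glues over finite clopen partitions
-/

set_option autoImplicit false
set_option linter.style.haveILetI false
set_option linter.unusedSectionVars false
universe u

namespace Groth.Agent.Lib.Helper4.PEAb

open CategoryTheory CategoryTheory.Limits AlgebraicGeometry Opposite Groth.Agent.Lib.Helper4.PE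

variable {X Y : Scheme.{u}} (f : X ⟶ Y)

/-- the underlying sheaf of types of an abelian sheaf -/
noncomputable abbrev toT (F : ProEtS.AbP Y) : Sheaf (Scheme.ProEt.topology Y) (Type (u + 1)) :=
  (sheafCompose (Scheme.ProEt.topology Y) (forget AddCommGrpCat.{u + 1})).obj F

set_option maxHeartbeats 1000000 in
theorem glueA_lan (F : ProEtS.AbP Y) (V : X.ProEt) : GlueA (P f F.obj) V := by
  intro n O hcl hdisj hcov x
  choose T a s hx using fun k => exists_rep f F.obj (x k)
  obtain ⟨S, i, hdesc, hglue, hsep⟩ := PELan.exists_coprod' T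
  obtain ⟨b, hb, -⟩ := existsUnique_desc O hdisj hcov ((ProEtS.bcP f).obj S)
    (fun k => a k ≫ (ProEtS.bcP f).map (i k))
  obtain ⟨t, ht⟩ := hglue (toT F) s
  have ht' : ∀ k, F.obj.map (i k).op t = s k := ht
  refine ⟨rep f F.obj S b t, fun k => ?_, ?_⟩
  · rw [rep_map, hb k, rep_comp, ht' k, hx k]
  · intro y hy
    obtain ⟨T', a', s', rfl⟩ := exists_rep f F.obj y
    -- the restrictions agree
    have h1 : ∀ k, rep f F.obj T' (opnι V (O k) ≫ a') s' =
        rep f F.obj S (opnι V (O k) ≫ b) t := by
      intro k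
      rw [← rep_map, hy k, ← rep_map]
      rw [rep_map, hb k, rep_comp, ht' k, hx k]
    choose T'' c p p' hp hp' hs using fun k => (rep_eq_iff f F.obj _ _ _ _ _ _).mp (h1 k)
    obtain ⟨S'', i'', hdesc'', hglue'', hsep''⟩ := PELan.exists_coprod' T''
    obtain ⟨q, hq⟩ := hdesc'' T' p
    obtain ⟨q', hq'⟩ := hdesc'' S p'
    obtain ⟨d, hd, hdu⟩ := existsUnique_desc O hdisj hcov ((ProEtS.bcP f).obj S'')
      (fun k => c k ≫ (ProEtS.bcP f).map (i'' k))
    -- uniqueness of descent to identify the two maps
    have e1 : d ≫ (ProEtS.bcP f).map q = a' := by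
      obtain ⟨m, -, hmu⟩ := existsUnique_desc O hdisj hcov ((ProEtS.bcP f).obj T')
        (fun k => opnι V (O k) ≫ a')
      rw [hmu a' (fun k => rfl)]
      apply hmu
      intro k
      rw [← Category.assoc, hd k, Category.assoc, ← Functor.map_comp, hq k, hp k]
    have e2 : d ≫ (ProEtS.bcP f).map q' = b := by
      obtain ⟨m, -, hmu⟩ := existsUnique_desc O hdisj hcov ((ProEtS.bcP f).obj S)
        (fun k => opnι V (O k) ≫ b)
      rw [hmu b (fun k => rfl)]
      apply hmu
      intro k
      rw [← Category.assoc, hd k, Category.assoc, ← Functor.map_comp, hq' k, hp' k]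
    have e3 : F.obj.map q.op s' = F.obj.map q'.op t := by
      apply hsep'' (toT F)
      intro k
      change (F.obj.map q.op ≫ F.obj.map (i'' k).op) s' = (F.obj.map q'.op ≫ F.obj.map (i'' k).op) t
      rw [← Functor.map_comp, ← Functor.map_comp, ← op_comp, ← op_comp, hq k, hq' k]
      exact hs k
    rw [← e1, ← e2, rep_comp, rep_comp, e3]

/-- sections of `f⁻¹F` (as `sheafify (Lan F)`) over a weakly contractible affine `V` are the
sections of the presheaf pullback -/
theorem toSheafify_lan_bijective (F : ProEtS.AbP Y) (V : X.ProEt) [IsAffine V.left]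
    (hV : ProEtS.IsWC V) :
    Function.Bijective ((toSheafify (Scheme.ProEt.topology X) (P f F.obj)).app (op V)) :=
  toSheafify_bijective_of_glueA _ V hV (glueA_lan f F V)

end Groth.Agent.Lib.Helper4.PEAb
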