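import Mathlib
import Groth.Prelude.Def_ProEtS
import Groth.Agent.Lib.Helper4.HSch4
import Groth.Agent.Lib.Helper4.PEAb3

/-!
# The unit `F → i_* i⁻¹ F` on henselian weakly contractible affines
-/

set_option autoImplicit false
set_option linter.style.haveILetI false
set_option linter.unusedSectionVars false
universe u

namespace Groth.Agent.Lib.Helper4.HSch

open CategoryTheory CategoryTheory.Limits AlgebraicGeometry Opposite Groth.Agent.Lib.Helper4.PE

variable {X Z : Scheme.{u}} (i : Z ⟶ X) [IsClosedImmersion i]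

set_option maxHeartbeats 1000000 in
theorem lanUnit_bijective (F : ProEtS.AbP X) (W : X.ProEt) [IsAffine W.left]
    (hwc : EtPBC.IsWContractible Γ(W.left, ⊤)) (hZ : ClosedPointsOver i W) :
    Function.Bijective ((PEAb.η i F.obj).app (op W)) := by
  have hrep : ∀ s, (PEAb.η i F.obj).app (op W) s = PEAb.rep i F.obj W (𝟙 _) s := by
    intro s
    unfold PEAb.rep
    rw [op_id, (PEAb.P i F.obj).map_id]
    rfl
  have hone : ∀ b : W ⟶ W, (ProEtS.bcP i).map b = 𝟙 _ → b = 𝟙 W := by
    intro b hb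
    obtain ⟨u, -, hu⟩ := existsUnique_lift i W hwc hZ W (𝟙 _)
    rw [hu b hb, hu (𝟙 W) ((ProEtS.bcP i).map_id W)]
  constructor
  · intro s s' h
    rw [hrep, hrep] at h
    obtain ⟨T'', b, p, p', hp, hp', hs⟩ := (PEAb.rep_eq_iff i F.obj _ _ _ _ _ _).mp h
    obtain ⟨bt, hbt, -⟩ := existsUnique_lift i W hwc hZ T'' b
    have h1 : bt ≫ p = 𝟙 W := hone _ (by rw [Functor.map_comp, hbt, hp])
    have h2 : bt ≫ p' = 𝟙 W := hone _ (by rw [Functor.map_comp, hbt, hp'])
    have e1 : F.obj.map bt.op (F.obj.map p.op s) = s := by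
      change (F.obj.map p.op ≫ F.obj.map bt.op) s = s
      rw [← Functor.map_comp, ← op_comp, h1, op_id, F.obj.map_id]
      rfl
    have e2 : F.obj.map bt.op (F.obj.map p'.op s') = s' := by
      change (F.obj.map p'.op ≫ F.obj.map bt.op) s' = s'
      rw [← Functor.map_comp, ← op_comp, h2, op_id, F.obj.map_id]
      rfl
    rw [← e1, ← e2, hs]
  · intro x
    obtain ⟨T, a, s, rfl⟩ := PEAb.exists_rep i F.obj x
    obtain ⟨at', hat, -⟩ := existsUnique_lift i W hwc hZ T a
    refine ⟨F.obj.map at'.op s, ?_⟩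
    rw [hrep, ← PEAb.rep_comp, hat, Category.id_comp]

end Groth.Agent.Lib.Helper4.HSch
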