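import Mathlib
import Groth.Prelude.Def_ProEtS
import Groth.Agent.Lib.Helper4.HSch5

/-!
# The unit `F → i_* i⁻¹ F` of the abstract adjunction on henselian weakly contractible affines
-/

set_option autoImplicit false
set_option linter.style.haveILetI false
set_option linter.unusedSectionVars false
universe u

namespace Groth.Agent.Lib.Helper4.HSch

open CategoryTheory CategoryTheory.Limits AlgebraicGeometry Opposite Groth.Agent.Lib.Helper4.PE

variable {X Z : Scheme.{u}} (i : Z ⟶ X)

/-- the constructed adjunction -/
noncomputable abbrev adj' [ProEtS.PCont i] :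
    Functor.sheafPullbackConstruction.sheafPullback (ProEtS.bcP i) AddCommGrpCat.{u + 1}
      (Scheme.ProEt.topology X) (Scheme.ProEt.topology Z) ⊣ ProEtS.pushP i :=
  Functor.sheafPullbackConstruction.sheafAdjunctionContinuous (ProEtS.bcP i) AddCommGrpCat.{u + 1}
    (Scheme.ProEt.topology X) (Scheme.ProEt.topology Z)

theorem unit'_hom [ProEtS.PCont i] (F : ProEtS.AbP X) : ((adj' i).unit.app F).hom =
    (ProEtS.bcP i).op.lanUnit.app F.obj ≫
      Functor.whiskerLeft (ProEtS.bcP i).op
        (toSheafify (Scheme.ProEt.topology Z) ((ProEtS.bcP i).op.lan.obj F.obj)) := by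
  have h := Adjunction.map_restrictFullyFaithful_unit_app
    (L := Functor.sheafPullbackConstruction.sheafPullback (ProEtS.bcP i) AddCommGrpCat.{u + 1}
    (Scheme.ProEt.topology X) (Scheme.ProEt.topology Z)) (R := ProEtS.pushP i)
    (adj := ((ProEtS.bcP i).op.lanAdjunction AddCommGrpCat.{u + 1}).comp
      (sheafificationAdjunction (Scheme.ProEt.topology Z) AddCommGrpCat.{u + 1}))
    (hiC := fullyFaithfulSheafToPresheaf (Scheme.ProEt.topology X) AddCommGrpCat.{u + 1})
    (hiD := Functor.FullyFaithful.id _) (comm1 := Iso.refl _) (comm2 := Iso.refl _) F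
  simp at h
  exact h

variable [IsClosedImmersion i]

set_option backward.isDefEq.respectTransparency.types false in
theorem isWC_bcP_of_closedPointsOver (W : X.ProEt) [IsAffine W.left]
    (hwc : EtPBC.IsWContractible Γ(W.left, ⊤)) (hZ : ClosedPointsOver i W) :
    IsAffine ((ProEtS.bcP i).obj W).left ∧
      EtPBC.IsWContractible Γ(((ProEtS.bcP i).obj W).left, ⊤) := by
  let ι : ((ProEtS.bcP i).obj W).left ⟶ W.left := pullback.fst W.hom i
  haveI : IsClosedImmersion ι := inferInstanceAs (IsClosedImmersion (pullback.fst W.hom i))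
  have hι := closedPoints_mem_range_fst i W hZ
  obtain ⟨haff, hsurj⟩ := IsClosedImmersion.isAffine_surjective_of_isAffine ι
  have hsurj' : Function.Surjective ι.appTop.hom := hsurj
  exact ⟨haff, isWContractible_of_ringEquiv (RingHom.quotientKerEquivOfSurjective hsurj')
      (Groth.Agent.Lib.Helper4.WcFin.isWContractible_quotient_of_le_jacobson _ _
        (ker_appTop_le_jacobson ι hι) hwc)⟩

set_option maxHeartbeats 1000000 in
/-- (U) -/
theorem unit_bijective [ProEtS.PCont i] (F : ProEtS.AbP X) (W : X.ProEt) [IsAffine W.left]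
    (hwc : EtPBC.IsWContractible Γ(W.left, ⊤)) (hZ : ClosedPointsOver i W) :
    Function.Bijective (((ProEtS.pullPushAdjP i).unit.app F).hom.app (op W)) := by
  obtain ⟨haff, hVwc⟩ := isWC_bcP_of_closedPointsOver i W hwc hZ
  haveI := haff
  have hVWC : ProEtS.IsWC ((ProEtS.bcP i).obj W) := isWC_of_isWContractible _ hVwc
  -- the constructed unit is bijective
  have h1 : Function.Bijective (((adj' i).unit.app F).hom.app (op W)) := by
    rw [unit'_hom]
    have h2 := lanUnit_bijective i F W hwc hZ
    have h3 := PEAb.toSheafify_lan_bijective i F ((ProEtS.bcP i).obj W) hVWC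
    exact h3.comp h2
  -- compare with the abstract unit
  have h4 := Adjunction.unit_leftAdjointUniq_hom_app (ProEtS.pullPushAdjP i) (adj' i) F
  have h5 : ((adj' i).unit.app F).hom.app (op W) =
      ((ProEtS.pullPushAdjP i).unit.app F).hom.app (op W) ≫
        ((ProEtS.pushP i).map (((ProEtS.pullPushAdjP i).leftAdjointUniq (adj' i)).hom.app F)).hom.app
          (op W) := by
    rw [← h4]
    rfl
  have h6 : Function.Bijective (((ProEtS.pushP i).map
      (((ProEtS.pullPushAdjP i).leftAdjointUniq (adj' i)).hom.app F)).hom.app (op W)) := by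
    have : IsIso (((ProEtS.pushP i).map
      (((ProEtS.pullPushAdjP i).leftAdjointUniq (adj' i)).hom.app F)).hom.app (op W)) := by
      have h7 : IsIso ((ProEtS.pushP i).map
        (((ProEtS.pullPushAdjP i).leftAdjointUniq (adj' i)).hom.app F)) := inferInstance
      have h8 : IsIso ((sheafToPresheaf _ _).map ((ProEtS.pushP i).map
        (((ProEtS.pullPushAdjP i).leftAdjointUniq (adj' i)).hom.app F))) := inferInstance
      exact (NatIso.isIso_app_of_isIso _ _)
    exact ConcreteCategory.bijective_of_isIso _
  rw [h5] at h1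
  have h9 : Function.Bijective ((((ProEtS.pushP i).map
      (((ProEtS.pullPushAdjP i).leftAdjointUniq (adj' i)).hom.app F)).hom.app (op W)) ∘
      (((ProEtS.pullPushAdjP i).unit.app F).hom.app (op W))) := h1
  exact ⟨(Function.Injective.of_comp_iff h6.1 _).mp h9.1,
    (Function.Surjective.of_comp_iff' h6 _).mp h9.2⟩

end Groth.Agent.Lib.Helper4.HSch
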