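import Mathlib
import Groth.Prelude.Def_PBC
import Groth.Agent.Lib.Helper4.HensWc3
import Groth.Agent.Lib.Helper4.PE7

/-!
# The lifting property for weakly étale algebras along a ring map
-/

set_option autoImplicit false
set_option linter.style.haveILetI false
set_option linter.unusedSectionVars false
universe u

open TensorProduct CategoryTheory

namespace Groth.Agent.Lib.Helper4.HensWc

/-- lifting property for weakly étale algebras along a ring map -/
def WELift {B Cq : Type u} [CommRing B] [CommRing Cq] (π : B →+* Cq) : Prop :=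
  ∀ (E : Type u) [CommRing E] [Algebra B E] [Algebra.WeaklyEtale B E] (σ : E →+* Cq),
    σ.comp (algebraMap B E) = π → ∃ τ : E →ₐ[B] B, π.comp τ.toRingHom = σ

theorem weLift_of_henselian {B Cq : Type u} [CommRing B] [CommRing Cq] (π : B →+* Cq)
    (hπ : Function.Surjective π) [HenselianRing B (RingHom.ker π)]
    (hwc : EtPBC.IsWContractible Cq) : WELift π := by
  intro E _ _ _ σ hσ
  let e : (B ⧸ RingHom.ker π) ≃+* Cq := RingHom.quotientKerEquivOfSurjective hπ
  have he : ∀ y, e (Ideal.Quotient.mk _ y) = π y := fun y => rfl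
  have hwc' : EtPBC.IsWContractible (B ⧸ RingHom.ker π) :=
    Groth.Agent.Lib.Helper4.PE.isWContractible_of_ringEquiv e.symm hwc
  let σ' : E →ₐ[B] B ⧸ RingHom.ker π :=
    { e.symm.toRingHom.comp σ with
      commutes' := fun b => by
        change e.symm (σ (algebraMap B E b)) = _
        have h1 : σ (algebraMap B E b) = π b := congrArg (fun m => m b) hσ
        rw [h1, ← he, RingEquiv.symm_apply_apply]
        rfl }
  obtain ⟨τ, hτ⟩ := exists_lift_of_weaklyEtale (RingHom.ker π) hwc' E σ'
  refine ⟨τ, ?_⟩
  ext x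
  change π (τ x) = σ x
  rw [← he]
  have h5 : Ideal.Quotient.mk (RingHom.ker π) (τ x) = σ' x := congrArg (fun m => m x) hτ
  rw [h5]
  change e (e.symm (σ x)) = _
  rw [RingEquiv.apply_symm_apply]

theorem weLift_of_isWContractible {B Cq : Type u} [CommRing B] [CommRing Cq] (π : B →+* Cq)
    (hπ : Function.Surjective π) (hK : RingHom.ker π ≤ Ideal.jacobson ⊥)
    (hwcB : EtPBC.IsWContractible B) : WELift π := by
  haveI := henselianRing_of_isWContractible B (RingHom.ker π) hK hwcB
  have hwc : EtPBC.IsWContractible Cq :=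
    Groth.Agent.Lib.Helper4.PE.isWContractible_of_ringEquiv
      (RingHom.quotientKerEquivOfSurjective hπ)
      (Groth.Agent.Lib.Helper4.WcFin.isWContractible_quotient_of_le_jacobson B _ hK hwcB)
  exact weLift_of_henselian π hπ hwc

/-- weak étaleness is invariant under precomposition with a ring isomorphism -/
theorem weaklyEtale_of_ringEquiv {B B' E : Type u} [CommRing B] [CommRing B'] [CommRing E]
    [Algebra B' E] [Algebra.WeaklyEtale B' E] (e : B ≃+* B') :
    letI : Algebra B E := ((algebraMap B' E).comp e.toRingHom).toAlgebra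
    Algebra.WeaklyEtale B E := by
  letI algBB' : Algebra B B' := e.toRingHom.toAlgebra
  letI algBE : Algebra B E := ((algebraMap B' E).comp e.toRingHom).toAlgebra
  haveI tower := IsScalarTower.of_algebraMap_eq (R := B) (S := B') (A := E) (fun _ => rfl)
  have hbij : Function.Bijective (algebraMap B B') := e.bijective
  haveI h1 : IsLocalization (⊥ : Submonoid B) B := IsLocalization.self (by
    intro x hx
    rw [Submonoid.mem_bot] at hx
    rw [hx]
    exact isUnit_one)
  haveI : IsLocalization (⊥ : Submonoid B) B' :=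
    IsLocalization.isLocalization_of_algEquiv (⊥ : Submonoid B)
      (AlgEquiv.ofBijective (Algebra.ofId B B') hbij)
  haveI w1 : Algebra.WeaklyEtale B B' :=
    Groth.Agent.Lib.Helper4.WEtBasic.weaklyEtale_of_isLocalization (⊥ : Submonoid B)
  exact Algebra.WeaklyEtale.trans B B' E

theorem WELift.of_iso {B B' Cq Cq' : Type u} [CommRing B] [CommRing B'] [CommRing Cq]
    [CommRing Cq'] (π : B →+* Cq) (π' : B' →+* Cq') (e₁ : B ≃+* B') (e₂ : Cq ≃+* Cq')
    (hcomm : ∀ b, π' (e₁ b) = e₂ (π b)) (h : WELift π) : WELift π' := by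
  intro E _ _ _ σ' hσ'
  letI algBE : Algebra B E := ((algebraMap B' E).comp e₁.toRingHom).toAlgebra
  haveI : Algebra.WeaklyEtale B E := weaklyEtale_of_ringEquiv e₁
  have halg : ∀ b, algebraMap B E b = algebraMap B' E (e₁ b) := fun b => rfl
  let σ : E →+* Cq := e₂.symm.toRingHom.comp σ'
  have hσ : σ.comp (algebraMap B E) = π := by
    ext b
    change e₂.symm (σ' (algebraMap B' E (e₁ b))) = π b
    have h1 : σ' (algebraMap B' E (e₁ b)) = π' (e₁ b) := congrArg (fun m => m (e₁ b)) hσ'
    rw [h1, hcomm, RingEquiv.symm_apply_apply]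
  obtain ⟨τ, hτ⟩ := h E σ hσ
  let τ' : E →ₐ[B'] B' :=
    { e₁.toRingHom.comp τ.toRingHom with
      commutes' := fun b' => by
        change e₁ (τ (algebraMap B' E b')) = b'
        have h2 : algebraMap B' E b' = algebraMap B E (e₁.symm b') := by
          rw [halg, RingEquiv.apply_symm_apply]
        rw [h2, τ.commutes]
        exact e₁.apply_symm_apply b' }
  refine ⟨τ', ?_⟩
  ext x
  change π' (e₁ (τ x)) = σ' x
  rw [hcomm]
  have h3 : π (τ x) = σ x := congrArg (fun m => m x) hτ
  rw [h3]
  change e₂ (e₂.symm (σ' x)) = _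
  rw [RingEquiv.apply_symm_apply]

end Groth.Agent.Lib.Helper4.HensWc
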