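import Mathlib
import Groth.Prelude.Def_ProEtS
import Groth.Agent.Lib.Helper4.HSch6
import Groth.Agent.Lib.Helper4.HensWc4

/-!
# Henselian-type lifting in the small pro-étale site along a closed immersion: objects with
the weakly étale lifting property
-/

set_option autoImplicit false
set_option linter.style.haveILetI false
set_option linter.unusedSectionVars false
universe u

namespace Groth.Agent.Lib.Helper4.HSch

open CategoryTheory CategoryTheory.Limits AlgebraicGeometry Opposite Groth.Agent.Lib.Helper4.PE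
  Groth.Agent.Lib.Helper4.HensWc

set_option maxHeartbeats 1000000 in
theorem exists_section_affine' {W V T : Scheme.{u}} [IsAffine W] [IsAffine T]
    (ι : V ⟶ W) (hlift : WELift ι.appTop.hom)
    (p : T ⟶ W) [WeaklyEtale p] (g : V ⟶ T) (hg : g ≫ p = ι) :
    ∃ s : W ⟶ T, s ≫ p = 𝟙 W ∧ ι ≫ s = g := by
  letI := p.appTop.hom.toAlgebra
  have h1 : WeaklyEtale (Spec.map p.appTop) :=
    (MorphismProperty.arrow_mk_iso_iff @WeaklyEtale (arrowIsoSpecΓOfIsAffine p)).mp inferInstance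
  have h3 := (Groth.Agent.Lib.Helper3.WeaklyEtaleStalk.weaklyEtale_SpecMap_iff p.appTop).mp h1
  haveI hwe : Algebra.WeaklyEtale Γ(W, ⊤) Γ(T, ⊤) := ⟨h3.1, h3.2⟩
  have hcomp : g.appTop.hom.comp (algebraMap Γ(W, ⊤) Γ(T, ⊤)) = ι.appTop.hom := by
    have h4 : (g ≫ p).appTop = ι.appTop := by rw [hg]
    rw [Scheme.Hom.comp_appTop] at h4
    exact congrArg (fun m => m.hom) h4
  obtain ⟨τ, hτ⟩ := hlift Γ(T, ⊤) g.appTop.hom hcomp
  let ψ : Γ(T, ⊤) ⟶ Γ(W, ⊤) := CommRingCat.ofHom τ.toRingHom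
  have hψ1 : p.appTop ≫ ψ = 𝟙 _ := by
    ext a
    exact τ.commutes a
  have hψ2 : ψ ≫ ι.appTop = g.appTop := by
    ext x
    exact congrArg (fun m => m x) hτ
  refine ⟨W.toSpecΓ ≫ Spec.map ψ ≫ T.isoSpec.inv, ?_, ?_⟩
  · rw [← cancel_mono W.toSpecΓ]
    simp only [Category.assoc, Category.id_comp]
    rw [Scheme.toSpecΓ_naturality, ← Scheme.isoSpec_hom T, Iso.inv_hom_id_assoc, ← Spec.map_comp,
      hψ1, Spec.map_id, Category.comp_id]
  · rw [← cancel_mono T.isoSpec.hom]
    simp only [Category.assoc, Iso.inv_hom_id, Category.comp_id]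
    rw [Scheme.toSpecΓ_naturality_assoc, ← Spec.map_comp, hψ2, Scheme.isoSpec_hom,
      Scheme.toSpecΓ_naturality]

set_option maxHeartbeats 1000000 in
theorem exists_section' {W V T : Scheme.{u}} [IsAffine W] [IsAffine V]
    (hVwc : EtPBC.IsWContractible Γ(V, ⊤)) (ι : V ⟶ W) (hlift : WELift ι.appTop.hom)
    (p : T ⟶ W) [WeaklyEtale p] (g : V ⟶ T) (hg : g ≫ p = ι) :
    ∃ s : W ⟶ T, s ≫ p = 𝟙 W ∧ ι ≫ s = g := by
  let 𝒰 := T.affineCover
  let O : 𝒰.I₀ → V.Opens := fun α => g ⁻¹ᵁ (𝒰.f α).opensRange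
  have hO : (⋃ α, (O α : Set V)) = Set.univ := by
    rw [Set.eq_univ_iff_forall]
    intro v
    obtain ⟨α, y, hy⟩ := 𝒰.exists_eq (g.base v)
    exact Set.mem_iUnion.mpr ⟨α, ⟨y, hy⟩⟩
  obtain ⟨n, Wk, hcl, hdisj, hcov, href⟩ := exists_clopen_partition_refining hVwc O hO
  choose α hα using href
  let c : (∐ (fun k : Fin n => 𝒰.X (α k))) ⟶ T := Sigma.desc (fun k => 𝒰.f (α k))
  haveI : IsAffine (∐ (fun k : Fin n => 𝒰.X (α k))) := inferInstance
  haveI : WeaklyEtale (c ≫ p) := by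
    have h1 : c ≫ p = Sigma.desc (fun k => 𝒰.f (α k) ≫ p) := by
      apply Sigma.hom_ext
      intro k
      simp only [c, Sigma.ι_desc, Sigma.ι_desc_assoc]
    rw [h1]
    exact IsZariskiLocalAtSource.sigmaDesc (fun k => inferInstance)
  have hlift' : ∀ k, ∃ m : (Wk k : Scheme) ⟶ 𝒰.X (α k), m ≫ 𝒰.f (α k) = (Wk k).ι ≫ g := by
    intro k
    refine ⟨IsOpenImmersion.lift (𝒰.f (α k)) ((Wk k).ι ≫ g) ?_, IsOpenImmersion.lift_fac _ _ _⟩
    rintro _ ⟨x, rfl⟩
    have hx : (Wk k).ι.base x ∈ (Wk k : Set V) := by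
      rw [← Scheme.Opens.range_ι]
      exact ⟨x, rfl⟩
    have h1 : (Wk k).ι.base x ∈ O (α k) := hα k hx
    exact h1
  choose m hm using hlift'
  obtain ⟨g'', hg'', -⟩ := existsUnique_glue_disjoint Wk hdisj hcov
    (fun k => m k ≫ Sigma.ι (fun k : Fin n => 𝒰.X (α k)) k)
  have hg''c : g'' ≫ c = g := by
    obtain ⟨g0, -, hu⟩ := existsUnique_glue_disjoint Wk hdisj hcov (fun k => (Wk k).ι ≫ g)
    rw [hu g (fun k => rfl)]
    apply hu
    intro k
    rw [← Category.assoc, hg'' k, Category.assoc]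
    simp only [c, Sigma.ι_desc]
    exact hm k
  obtain ⟨s'', hs1, hs2⟩ := exists_section_affine' ι hlift (c ≫ p) g''
    (by rw [← Category.assoc, hg''c, hg])
  exact ⟨s'' ≫ c, by rw [Category.assoc]; exact hs1, by rw [← Category.assoc, hs2, hg''c]⟩

theorem exists_extension' {W T X V : Scheme.{u}} [IsAffine W] [IsAffine V]
    (hVwc : EtPBC.IsWContractible Γ(V, ⊤)) (wh : W ⟶ X) (th : T ⟶ X) [WeaklyEtale th]
    (ι : V ⟶ W) (hlift : WELift ι.appTop.hom)
    (g : V ⟶ T) (hg : g ≫ th = ι ≫ wh) :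
    ∃ a : W ⟶ T, a ≫ th = wh ∧ ι ≫ a = g := by
  obtain ⟨s, hs1, hs2⟩ := exists_section' hVwc ι hlift (pullback.fst wh th)
    (pullback.lift ι g hg.symm) (pullback.lift_fst _ _ _)
  refine ⟨s ≫ pullback.snd wh th, ?_, ?_⟩
  · rw [Category.assoc, ← pullback.condition, ← Category.assoc, hs1, Category.id_comp]
  · rw [← Category.assoc, hs2, pullback.lift_snd]

variable {X Z : Scheme.{u}} (i : Z ⟶ X)

/-- objects of `X.ProEt` which are henselian along `Z` with w-contractible restriction -/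
structure Good (W : X.ProEt) : Prop where
  aff : IsAffine W.left
  affZ : IsAffine ((ProEtS.bcP i).obj W).left
  wcZ : EtPBC.IsWContractible Γ(((ProEtS.bcP i).obj W).left, ⊤)
  closed : ClosedPointsOver i W
  lift : WELift (pullback.fst W.hom i).appTop.hom

variable [IsClosedImmersion i]

set_option backward.isDefEq.respectTransparency.types false in
set_option maxHeartbeats 1000000 in
theorem Good.existsUnique_lift {W : X.ProEt} (hG : Good i W) (T : X.ProEt)
    (a : (ProEtS.bcP i).obj W ⟶ (ProEtS.bcP i).obj T) :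
    ∃! ã : W ⟶ T, (ProEtS.bcP i).map ã = a := by
  haveI := hG.aff
  haveI := hG.affZ
  let ι : ((ProEtS.bcP i).obj W).left ⟶ W.left := pullback.fst W.hom i
  have hι := closedPoints_mem_range_fst i W hG.closed
  let qT : ((ProEtS.bcP i).obj T).left ⟶ T.left := pullback.fst T.hom i
  let g : ((ProEtS.bcP i).obj W).left ⟶ T.left := a.left ≫ qT
  have haw : a.left ≫ pullback.snd T.hom i = pullback.snd W.hom i := MorphismProperty.Over.w a
  have hg : g ≫ T.hom = ι ≫ W.hom := by
    change (a.left ≫ pullback.fst T.hom i) ≫ T.hom = pullback.fst W.hom i ≫ W.hom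
    calc (a.left ≫ pullback.fst T.hom i) ≫ T.hom
        = a.left ≫ (pullback.fst T.hom i ≫ T.hom) := Category.assoc _ _ _
      _ = a.left ≫ (pullback.snd T.hom i ≫ i) :=
          congrArg (fun m => a.left ≫ m) pullback.condition
      _ = (a.left ≫ pullback.snd T.hom i) ≫ i := (Category.assoc _ _ _).symm
      _ = pullback.snd W.hom i ≫ i := congrArg (fun m => m ≫ i) haw
      _ = pullback.fst W.hom i ≫ W.hom := pullback.condition.symm
  haveI : WeaklyEtale T.hom := T.prop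
  have hmapfst : ∀ b : W ⟶ T, ((ProEtS.bcP i).map b).left ≫ qT = ι ≫ b.left := by
    intro b
    exact pullback.lift_fst _ _ _
  obtain ⟨a₀, ha1, ha2⟩ := exists_extension' (W := W.left) (T := T.left) (X := X)
    (V := ((ProEtS.bcP i).obj W).left) hG.wcZ W.hom T.hom ι hG.lift g hg
  refine ⟨MorphismProperty.Over.homMk a₀ ha1, ?_, ?_⟩
  · apply MorphismProperty.Over.Hom.ext
    apply pullback.hom_ext
    · have := hmapfst (MorphismProperty.Over.homMk a₀ ha1)
      exact this.trans ha2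
    · have h1 := MorphismProperty.Over.w ((ProEtS.bcP i).map (MorphismProperty.Over.homMk a₀ ha1 :
        W ⟶ T))
      exact h1.trans haw.symm
  · intro b hb
    apply MorphismProperty.Over.Hom.ext
    change b.left = a₀
    apply hom_ext_of_closedPoints T.hom ι hι
    · rw [ha1]
      exact MorphismProperty.Over.w b
    · rw [ha2, ← hmapfst b, hb]

end Groth.Agent.Lib.Helper4.HSch
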