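import Mathlib
import Groth.Prelude.Def_ProEtS
import Groth.Agent.Lib.Helper4.HSch7

/-!
# The unit `F → i_* i⁻¹ F` on good objects
-/

set_option autoImplicit false
set_option linter.style.haveILetI false
set_option linter.unusedSectionVars false
universe u

namespace Groth.Agent.Lib.Helper4.HSch

open CategoryTheory CategoryTheory.Limits AlgebraicGeometry Opposite Groth.Agent.Lib.Helper4.PE

variable {X Z : Scheme.{u}} (i : Z ⟶ X) [IsClosedImmersion i]

set_option maxHeartbeats 1000000 in
theorem Good.lanUnit_bijective (F : ProEtS.AbP X) {W : X.ProEt} (hG : Good i W) :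
    Function.Bijective ((PEAb.η i F.obj).app (op W)) := by
  have hrep : ∀ s, (PEAb.η i F.obj).app (op W) s = PEAb.rep i F.obj W (𝟙 _) s := by
    intro s
    unfold PEAb.rep
    rw [op_id, (PEAb.P i F.obj).map_id]
    rfl
  have hone : ∀ b : W ⟶ W, (ProEtS.bcP i).map b = 𝟙 _ → b = 𝟙 W := by
    intro b hb
    obtain ⟨u, -, hu⟩ := hG.existsUnique_lift i W (𝟙 _)
    rw [hu b hb, hu (𝟙 W) ((ProEtS.bcP i).map_id W)]
  constructor
  · intro s s' h
    rw [hrep, hrep] at h
    obtain ⟨T'', b, p, p', hp, hp', hs⟩ := (PEAb.rep_eq_iff i F.obj _ _ _ _ _ _).mp h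
    obtain ⟨bt, hbt, -⟩ := hG.existsUnique_lift i T'' b
    have h1 : bt ≫ p = 𝟙 W := hone _ (by rw [Functor.map_comp, hbt, hp])
    have h2 : bt ≫ p' = 𝟙 W := hone _ (by rw [Functor.map_comp, hbt, hp'])
    have e1 : F.obj.map bt.op (F.obj.map p.op s) = s := by
      change (F.obj.map p.op ≫ F.obj.map bt.op) s = s
      rw [← Functor.map_comp, ← op_comp, h1, op_id, F.obj.map_id]
      rfl
    have e2 : F.obj.map bt.op (F.obj.map p'.op s') = s' := by
      change (F.obj.map p'.op ≫ F.obj.map bt.op) s' = s'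
      rw [← Functor.map_comp, ← op_comp, h2, op_id, F.obj.map_id]
      rfl
    rw [← e1, ← e2, hs]
  · intro x
    obtain ⟨T, a, s, rfl⟩ := PEAb.exists_rep i F.obj x
    obtain ⟨at', hat, -⟩ := hG.existsUnique_lift i T a
    refine ⟨F.obj.map at'.op s, ?_⟩
    rw [hrep, ← PEAb.rep_comp, hat, Category.id_comp]

set_option maxHeartbeats 1000000 in
/-- (U) for good objects -/
theorem Good.unit_bijective [ProEtS.PCont i] (F : ProEtS.AbP X) {W : X.ProEt} (hG : Good i W) :
    Function.Bijective (((ProEtS.pullPushAdjP i).unit.app F).hom.app (op W)) := by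
  haveI := hG.affZ
  have hVWC : ProEtS.IsWC ((ProEtS.bcP i).obj W) := isWC_of_isWContractible _ hG.wcZ
  have h1 : Function.Bijective (((adj' i).unit.app F).hom.app (op W)) := by
    rw [unit'_hom]
    have h2 := hG.lanUnit_bijective i F
    have h3 := PEAb.toSheafify_lan_bijective i F ((ProEtS.bcP i).obj W) hVWC
    exact h3.comp h2
  have h4 := Adjunction.unit_leftAdjointUniq_hom_app (ProEtS.pullPushAdjP i) (adj' i) F
  have h5 : ((adj' i).unit.app F).hom.app (op W) =
      ((ProEtS.pullPushAdjP i).unit.app F).hom.app (op W) ≫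
        ((ProEtS.pushP i).map (((ProEtS.pullPushAdjP i).leftAdjointUniq (adj' i)).hom.app F)).hom.app
          (op W) := by
    rw [← h4]
    rfl
  have h6 : Function.Bijective (((ProEtS.pushP i).map
      (((ProEtS.pullPushAdjP i).leftAdjointUniq (adj' i)).hom.app F)).hom.app (op W)) := by
    have : IsIso (((ProEtS.pushP i).map
      (((ProEtS.pullPushAdjP i).leftAdjointUniq (adj' i)).hom.app F)).hom.app (op W)) := by
      have h7 : IsIso ((ProEtS.pushP i).map
        (((ProEtS.pullPushAdjP i).leftAdjointUniq (adj' i)).hom.app F)) := inferInstance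
      have h8 : IsIso ((sheafToPresheaf _ _).map ((ProEtS.pushP i).map
        (((ProEtS.pullPushAdjP i).leftAdjointUniq (adj' i)).hom.app F))) := inferInstance
      exact (NatIso.isIso_app_of_isIso _ _)
    exact ConcreteCategory.bijective_of_isIso _
  rw [h5] at h1
  have h9 : Function.Bijective ((((ProEtS.pushP i).map
      (((ProEtS.pullPushAdjP i).leftAdjointUniq (adj' i)).hom.app F)).hom.app (op W)) ∘
      (((ProEtS.pullPushAdjP i).unit.app F).hom.app (op W))) := h1
  exact ⟨(Function.Injective.of_comp_iff h6.1 _).mp h9.1,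
    (Function.Surjective.of_comp_iff' h6 _).mp h9.2⟩

end Groth.Agent.Lib.Helper4.HSch
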