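import Mathlib
import Groth.Prelude.Def_ProEtS
import Groth.Prelude.Def_PBC
import Groth.Agent.Lib.Helper4.HSch8
import Groth.Agent.Lib.Helper4.WEtIndEt
import Groth.Agent.Lib.Helper4.PE7
import Groth.Agent.S7178

/-!
# Towards a basis of the pro-étale site of a closed subscheme by henselian objects: algebra
-/

set_option autoImplicit false
set_option linter.style.haveILetI false
set_option linter.unusedSectionVars false
universe u

namespace Groth.Agent.Lib.Helper4.HSch

open CategoryTheory CategoryTheory.Limits AlgebraicGeometry Opposite Groth.Agent.Lib.Helper4.PE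
  Groth.Agent.Lib.Helper4.HensWc

theorem isPushout_of_surjective {A C Ab D : CommRingCat.{u}} (f : A ⟶ C) (π : A ⟶ Ab)
    (ψ : C ⟶ D) (δ : Ab ⟶ D) (comm : f ≫ ψ = π ≫ δ) (hπ : Function.Surjective π.hom)
    (hψ : Function.Surjective ψ.hom)
    (hker : RingHom.ker ψ.hom ≤ (RingHom.ker π.hom).map f.hom) :
    IsPushout f π ψ δ := by
  have hle : ∀ s : PushoutCocone f π, RingHom.ker ψ.hom ≤ RingHom.ker s.inl.hom := by
    intro s
    refine hker.trans ?_
    rw [Ideal.map_le_iff_le_comap]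
    intro x hx
    rw [Ideal.mem_comap, RingHom.mem_ker]
    have h1 : s.inl.hom (f.hom x) = s.inr.hom (π.hom x) := by
      have := s.condition
      exact congrArg (fun m => m.hom x) this
    rw [h1, (RingHom.mem_ker).mp hx, map_zero]
  refine ⟨⟨comm⟩, ⟨PushoutCocone.IsColimit.mk _
    (fun s => CommRingCat.ofHom (ψ.hom.liftOfSurjective hψ ⟨s.inl.hom, hle s⟩)) ?_ ?_ ?_⟩⟩
  · intro s
    ext x
    exact RingHom.liftOfSurjective_comp_apply ψ.hom hψ ⟨s.inl.hom, hle s⟩ x
  · intro s
    ext y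
    obtain ⟨x, rfl⟩ := hπ y
    have h1 : δ.hom (π.hom x) = ψ.hom (f.hom x) := by
      exact (congrArg (fun m => m.hom x) comm).symm
    change (ψ.hom.liftOfSurjective hψ ⟨s.inl.hom, hle s⟩) (δ.hom (π.hom x)) = _
    rw [h1, RingHom.liftOfSurjective_comp_apply]
    exact congrArg (fun m => m.hom x) s.condition
  · intro s m hm1 hm2
    ext y
    obtain ⟨x, rfl⟩ := hψ y
    change m.hom (ψ.hom x) = (ψ.hom.liftOfSurjective hψ ⟨s.inl.hom, hle s⟩) (ψ.hom x)
    rw [RingHom.liftOfSurjective_comp_apply]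
    exact congrArg (fun k => k.hom x) hm1

theorem surjective_of_isClosedImmersion_SpecMap {R S : CommRingCat.{u}} (f : R ⟶ S)
    [IsClosedImmersion (Spec.map f)] : Function.Surjective f.hom := by
  have h := (IsClosedImmersion.isAffine_surjective_of_isAffine (Spec.map f)).2
  have h1 := Scheme.ΓSpecIso_naturality f
  have h2 : f = (Scheme.ΓSpecIso R).inv ≫ (Spec.map f).appTop ≫ (Scheme.ΓSpecIso S).hom := by
    rw [h1, Iso.inv_hom_id_assoc]
  rw [h2]
  simp only [CommRingCat.hom_comp, RingHom.coe_comp]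
  exact ((ConcreteCategory.bijective_of_isIso (Scheme.ΓSpecIso S).hom).2.comp h).comp
    (ConcreteCategory.bijective_of_isIso (Scheme.ΓSpecIso R).inv).2

set_option maxHeartbeats 1000000 in
theorem exists_hens_lift_alg {A Ab Rb : Type u} [CommRing A] [CommRing Ab] [CommRing Rb]
    (π : A →+* Ab) (hπ : Function.Surjective π) (ρ : Ab →+* Rb)
    (hρ : letI := ρ.toAlgebra; Algebra.WeaklyEtale Ab Rb) :
    ∃ (C D : Type u) (_ : CommRing C) (_ : CommRing D) (f : A →+* C) (ψ : C →+* D)
      (d : Rb →+* D),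
      ψ.comp f = d.comp (ρ.comp π) ∧ (letI := f.toAlgebra; Algebra.WeaklyEtale A C) ∧
      Function.Surjective ψ ∧ RingHom.ker ψ = (RingHom.ker π).map f ∧
      HenselianRing C (RingHom.ker ψ) ∧ EtPBC.IsWContractible D ∧
      (letI := d.toAlgebra; Module.FaithfullyFlat Rb D) := by
  letI algAbRb := ρ.toAlgebra
  haveI := hρ
  obtain ⟨D, instD, algD, hff, hEt, hWc⟩ := WcCover.exists_wContractible_cover Rb
  haveI hweRD : Algebra.WeaklyEtale Rb D := IndEt.weaklyEtale_of_isIndEtale _ _ hEt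
  let e₀ : (A ⧸ RingHom.ker π) ≃+* Ab := RingHom.quotientKerEquivOfSurjective hπ
  have he₀ : ∀ a, e₀ (Ideal.Quotient.mk _ a) = π a := fun a => rfl
  letI algAbD : Algebra Ab D := ((algebraMap Rb D).comp ρ).toAlgebra
  haveI : IsScalarTower Ab Rb D := .of_algebraMap_eq (fun _ => rfl)
  haveI : Algebra.WeaklyEtale Ab D := Algebra.WeaklyEtale.trans Ab Rb D
  letI algQD : Algebra (A ⧸ RingHom.ker π) D :=
    ((algebraMap Ab D).comp e₀.toRingHom).toAlgebra
  haveI : Algebra.WeaklyEtale (A ⧸ RingHom.ker π) D := weaklyEtale_of_ringEquiv e₀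
  have hInd : EtPBC.IsIndEtale (A ⧸ RingHom.ker π) D :=
    IndEtLift.isIndEtale_of_weaklyEtale_of_isWContractible _ _ hWc
  obtain ⟨C, instC, algC, hC, hHens, ⟨e⟩⟩ :=
    IndEtLift.exists_lift_henselian A (RingHom.ker π) D hInd
  let ψ : C →+* D := e.toRingEquiv.toRingHom.comp (Ideal.Quotient.mk _)
  have hψ : ∀ c, ψ c = e (Ideal.Quotient.mk _ c) := fun c => rfl
  have hker : RingHom.ker ψ = (RingHom.ker π).map (algebraMap A C) := by
    ext c
    rw [RingHom.mem_ker, hψ, EmbeddingLike.map_eq_zero_iff, Ideal.Quotient.eq_zero_iff_mem]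
  have halg : RingHom.toAlgebra (algebraMap A C) = algC := Algebra.algebra_ext _ _ (fun _ => rfl)
  have halg' : RingHom.toAlgebra (algebraMap Rb D) = algD :=
    Algebra.algebra_ext _ _ (fun _ => rfl)
  refine ⟨C, D, instC, instD, algebraMap A C, ψ, algebraMap Rb D, ?_, ?_, ?_, hker, ?_, hWc, ?_⟩
  · ext a
    change e (Ideal.Quotient.mk _ (algebraMap A C a)) = algebraMap Rb D (ρ (π a))
    have h1 : (Ideal.Quotient.mk ((RingHom.ker π).map (algebraMap A C))) (algebraMap A C a) =
        algebraMap (A ⧸ RingHom.ker π) (C ⧸ (RingHom.ker π).map (algebraMap A C))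
          (Ideal.Quotient.mk _ a) := rfl
    rw [h1, e.commutes]
    rfl
  · change @Algebra.WeaklyEtale A C _ _ (RingHom.toAlgebra (algebraMap A C))
    rw [halg]
    exact IndEt.weaklyEtale_of_isIndEtale _ _ hC
  · intro y
    obtain ⟨q, hq⟩ := e.surjective y
    obtain ⟨c, rfl⟩ := Ideal.Quotient.mk_surjective q
    exact ⟨c, hq⟩
  · rw [hker]
    exact hHens
  · change @Module.FaithfullyFlat Rb D _ _ (RingHom.toAlgebra (algebraMap Rb D)).toModule
    rw [halg']
    exact hff

end Groth.Agent.Lib.Helper4.HSch
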