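import Mathlib
import Groth.Prelude.Def_ProEtS
import Groth.Prelude.Def_PBC
import Groth.Agent.Lib.Helper4.HBasis1

/-!
# Towards a basis of the pro-étale site of a closed subscheme by henselian objects: the core
construction
-/

set_option autoImplicit false
set_option linter.style.haveILetI false
set_option linter.unusedSectionVars false
universe u

namespace Groth.Agent.Lib.Helper4.HSch

open CategoryTheory CategoryTheory.Limits AlgebraicGeometry Opposite Groth.Agent.Lib.Helper4.PE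
  Groth.Agent.Lib.Helper4.HensWc

set_option backward.isDefEq.respectTransparency.types false in
set_option maxHeartbeats 2000000 in
theorem exists_good_core {X Z : Scheme.{u}} (i : Z ⟶ X) [IsClosedImmersion i]
    (A Ab Rb : CommRingCat.{u}) (jA : Spec A ⟶ X) [IsOpenImmersion jA]
    (jAb : Spec Ab ⟶ Z) [IsOpenImmersion jAb] (π : A ⟶ Ab)
    (hpb : IsPullback (Spec.map π) jAb jA i)
    (ρ : Ab ⟶ Rb) [WeaklyEtale (Spec.map ρ)] :
    ∃ (W : X.ProEt) (q : ((ProEtS.bcP i).obj W).left ⟶ Spec Rb), Good i W ∧ Surjective q ∧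
      QuasiCompact q ∧ q ≫ Spec.map ρ ≫ jAb = ((ProEtS.bcP i).obj W).hom := by
  haveI : IsClosedImmersion (Spec.map π) :=
    MorphismProperty.of_isPullback (P := @IsClosedImmersion) hpb.flip inferInstance
  have hπ := surjective_of_isClosedImmersion_SpecMap π
  have hρ := (Groth.Agent.S7178.weaklyEtale_SpecMap_iff ρ).mp inferInstance
  obtain ⟨C, D, instC, instD, f, ψ, d, hcomm, hfwe, hψsurj, hker, hHens, hWc, hff⟩ :=
    exists_hens_lift_alg π.hom hπ ρ.hom hρ
  let fC : A ⟶ CommRingCat.of C := CommRingCat.ofHom f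
  let ψC : CommRingCat.of C ⟶ CommRingCat.of D := CommRingCat.ofHom ψ
  let dC : Rb ⟶ CommRingCat.of D := CommRingCat.ofHom d
  have hcommC : fC ≫ ψC = π ≫ ρ ≫ dC := by
    ext a
    exact congrArg (fun m => m a) hcomm
  haveI hfCwe : WeaklyEtale (Spec.map fC) :=
    (Groth.Agent.S7178.weaklyEtale_SpecMap_iff fC).mpr hfwe
  have hpo : IsPushout fC π ψC (ρ ≫ dC) :=
    isPushout_of_surjective fC π ψC (ρ ≫ dC) hcommC hπ hψsurj (le_of_eq hker)
  have hpb1 : IsPullback (Spec.map ψC) (Spec.map (ρ ≫ dC)) (Spec.map fC) (Spec.map π) :=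
    isPullback_SpecMap_of_isPushout _ _ _ _ hpo
  have hpb2 : IsPullback (Spec.map ψC) (Spec.map (ρ ≫ dC) ≫ jAb) (Spec.map fC ≫ jA) i :=
    hpb1.paste_vert hpb
  haveI : WeaklyEtale (Spec.map fC ≫ jA) := inferInstance
  let W : X.ProEt := Scheme.ProEt.mk (Spec.map fC ≫ jA)
  let e : Spec (.of D) ≅ pullback (Spec.map fC ≫ jA) i := hpb2.isoPullback
  have he1 : e.hom ≫ pullback.fst (Spec.map fC ≫ jA) i = Spec.map ψC :=
    hpb2.isoPullback_hom_fst
  have he2 : e.hom ≫ pullback.snd (Spec.map fC ≫ jA) i = Spec.map (ρ ≫ dC) ≫ jAb :=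
    hpb2.isoPullback_hom_snd
  have he1' : e.inv ≫ Spec.map ψC = pullback.fst (Spec.map fC ≫ jA) i := by
    rw [← he1, Iso.inv_hom_id_assoc]
  let q : pullback (Spec.map fC ≫ jA) i ⟶ Spec Rb := e.inv ≫ Spec.map dC
  haveI hsurj_d : Surjective (Spec.map dC) := by
    have h3 : dC.hom.FaithfullyFlat := hff
    exact ((flat_and_surjective_SpecMap_iff dC).mpr h3).2
  haveI hqsurj : Surjective q := inferInstanceAs (Surjective (e.inv ≫ Spec.map dC))
  haveI hqqc : QuasiCompact q := inferInstanceAs (QuasiCompact (e.inv ≫ Spec.map dC))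
  haveI hZaff : IsAffine (pullback (Spec.map fC ≫ jA) i) := IsAffine.of_isIso e.inv
  -- the ring isomorphism `D ≃ Γ(pullback)`
  haveI : IsIso e.inv.appTop := inferInstanceAs (IsIso (e.inv.app ⊤))
  let e₂ : D ≃+* Γ(pullback (Spec.map fC ≫ jA) i, ⊤) :=
    (Scheme.ΓSpecIso (.of D)).symm.commRingCatIsoToRingEquiv.trans
      (asIso e.inv.appTop).commRingCatIsoToRingEquiv
  let e₁ : C ≃+* Γ(Spec (.of C), ⊤) := (Scheme.ΓSpecIso (.of C)).symm.commRingCatIsoToRingEquiv
  have hcomm12 : ∀ c, (pullback.fst (Spec.map fC ≫ jA) i).appTop.hom (e₁ c) = e₂ (ψ c) := by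
    intro c
    have h1 : (pullback.fst (Spec.map fC ≫ jA) i).appTop =
        (Spec.map ψC).appTop ≫ e.inv.appTop := by
      rw [← Scheme.Hom.comp_appTop, he1']
    have h2 := Scheme.ΓSpecIso_inv_naturality ψC
    have h3 : (Spec.map ψC).appTop.hom ((Scheme.ΓSpecIso (.of C)).inv.hom c) =
        (Scheme.ΓSpecIso (.of D)).inv.hom (ψ c) :=
      (congrArg (fun m => m.hom c) h2).symm
    rw [h1]
    change e.inv.appTop.hom ((Spec.map ψC).appTop.hom ((Scheme.ΓSpecIso (.of C)).inv.hom c)) = _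
    rw [h3]
    rfl
  refine ⟨W, q, ⟨inferInstanceAs (IsAffine (Spec (.of C))), hZaff, ?_, ?_, ?_⟩, hqsurj, hqqc, ?_⟩
  · exact isWContractible_of_ringEquiv e₂ hWc
  · -- closed points
    intro w hw
    let w' : PrimeSpectrum C := w
    have hw' : w'.asIdeal.IsMaximal := (PrimeSpectrum.isClosed_singleton_iff_isMaximal w').mp hw
    have hmem : w' ∈ Set.range (PrimeSpectrum.comap ψ) := by
      rw [range_comap_of_surjective _ _ hψsurj, PrimeSpectrum.mem_zeroLocus]
      intro x hx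
      have h1 : x ∈ Ideal.jacobson (⊥ : Ideal C) := hHens.jac hx
      rw [Ideal.jacobson, Ideal.mem_sInf] at h1
      exact h1 ⟨bot_le, hw'⟩
    obtain ⟨y, hy⟩ := hmem
    refine ⟨(Spec.map (ρ ≫ dC) ≫ jAb).base y, ?_⟩
    have h2 : (Spec.map ψC ≫ Spec.map fC ≫ jA) = (Spec.map (ρ ≫ dC) ≫ jAb) ≫ i := hpb2.w
    have h3 : ((Spec.map (ρ ≫ dC) ≫ jAb) ≫ i).base y = (Spec.map ψC ≫ Spec.map fC ≫ jA).base y := by
      rw [h2]
    rw [← Scheme.Hom.comp_apply, h3, Scheme.Hom.comp_apply]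
    change (Spec.map fC ≫ jA).base ((Spec.map ψC).base y) = (Spec.map fC ≫ jA).base w
    congr 1
  · exact WELift.of_iso ψ (pullback.fst (Spec.map fC ≫ jA) i).appTop.hom e₁ e₂ hcomm12
      (weLift_of_henselian ψ hψsurj hWc)
  · change (e.inv ≫ Spec.map dC) ≫ Spec.map ρ ≫ jAb = pullback.snd (Spec.map fC ≫ jA) i
    rw [← cancel_epi e.hom, he2]
    simp only [Category.assoc, Iso.hom_inv_id_assoc, Spec.map_comp]

end Groth.Agent.Lib.Helper4.HSch
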