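import Mathlib
import Groth.Prelude.Def_ProEtS
import Groth.Prelude.Def_PBC
import Groth.Agent.Lib.Helper4.HBasis2

/-!
# A basis of the pro-étale site of a closed subscheme by restrictions of henselian objects
-/

set_option autoImplicit false
set_option linter.style.haveILetI false
set_option linter.unusedSectionVars false
universe u

namespace Groth.Agent.Lib.Helper4.HSch

open CategoryTheory CategoryTheory.Limits AlgebraicGeometry Opposite Groth.Agent.Lib.Helper4.PE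
  Groth.Agent.Lib.Helper4.HensWc

set_option backward.isDefEq.respectTransparency.types false in
set_option maxHeartbeats 2000000 in
theorem exists_good_over {X Z : Scheme.{u}} (i : Z ⟶ X) [IsClosedImmersion i] (V' : Z.ProEt)
    (O' : V'.left.Opens) (hO' : IsAffineOpen O') (O : X.Opens) (hO : IsAffineOpen O)
    (hle : O' ≤ V'.hom ⁻¹ᵁ (i ⁻¹ᵁ O)) :
    ∃ (W : X.ProEt) (g' : (ProEtS.bcP i).obj W ⟶ opn V' O'), Good i W ∧ Surjective g'.left ∧
      QuasiCompact g'.left := by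
  have hpre : IsAffineOpen (i ⁻¹ᵁ O) := hO.preimage i
  let π : Γ(X, O) ⟶ Γ(Z, i ⁻¹ᵁ O) := i.appLE O (i ⁻¹ᵁ O) le_rfl
  have hπ : Spec.map π ≫ hO.fromSpec = hpre.fromSpec ≫ i :=
    IsAffineOpen.SpecMap_appLE_fromSpec i hO hpre le_rfl
  have hpb : IsPullback (Spec.map π) hpre.fromSpec hO.fromSpec i := by
    apply IsOpenImmersion.isPullback _ _ _ _ hπ.symm
    rw [hO.opensRange_fromSpec, hpre.opensRange_fromSpec]
  let ρ : Γ(Z, i ⁻¹ᵁ O) ⟶ Γ(V'.left, O') := V'.hom.appLE (i ⁻¹ᵁ O) O' hle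
  have hρ : Spec.map ρ ≫ hpre.fromSpec = hO'.fromSpec ≫ V'.hom :=
    IsAffineOpen.SpecMap_appLE_fromSpec V'.hom hpre hO' hle
  haveI : WeaklyEtale V'.hom := V'.prop
  haveI : WeaklyEtale (Spec.map ρ ≫ hpre.fromSpec) := by
    rw [hρ]
    infer_instance
  haveI : WeaklyEtale (Spec.map ρ) := WeaklyEtale.of_comp (Spec.map ρ) hpre.fromSpec
  obtain ⟨W, q, hG, hqs, hqc, hq⟩ := exists_good_core i Γ(X, O) Γ(Z, i ⁻¹ᵁ O) Γ(V'.left, O')
    hO.fromSpec hpre.fromSpec π hpb ρ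
  haveI : IsAffine (O' : Scheme) := hO'
  have hw : (q ≫ hO'.isoSpec.inv) ≫ (opn V' O').hom = ((ProEtS.bcP i).obj W).hom := by
    change (q ≫ hO'.isoSpec.inv) ≫ (O'.ι ≫ V'.hom) = _
    rw [← hq, Category.assoc, ← Category.assoc hO'.isoSpec.inv, hO'.isoSpec_inv_ι, ← hρ]
  refine ⟨W, MorphismProperty.Over.homMk (q ≫ hO'.isoSpec.inv) hw, hG, ?_, ?_⟩
  · change Surjective (q ≫ hO'.isoSpec.inv)
    infer_instance
  · change QuasiCompact (q ≫ hO'.isoSpec.inv)
    infer_instance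

set_option maxHeartbeats 2000000 in
/-- (B1): every object of the small pro-étale site of `Z` is covered by restrictions of good
objects of the small pro-étale site of `X`. -/
theorem exists_good_cover {X Z : Scheme.{u}} (i : Z ⟶ X) [IsClosedImmersion i] (V' : Z.ProEt) :
    ∃ (κ : Type u) (W : κ → X.ProEt) (g : ∀ k, (ProEtS.bcP i).obj (W k) ⟶ V'),
      Sieve.generate (Presieve.ofArrows (fun k => (ProEtS.bcP i).obj (W k)) g) ∈
        Scheme.ProEt.topology Z V' ∧ ∀ k, Good i (W k) := by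
  let κ : Type u := { p : V'.left.affineOpens × X.affineOpens //
    p.1.1 ≤ V'.hom ⁻¹ᵁ (i ⁻¹ᵁ p.2.1) }
  let Oc : κ → V'.left.Opens := fun k => k.1.1.1
  have hOc : (⋃ k, (Oc k : Set V'.left)) = Set.univ := by
    rw [Set.eq_univ_iff_forall]
    intro x
    obtain ⟨_, ⟨O, hO, rfl⟩, hxO, -⟩ := X.isBasis_affineOpens.exists_subset_of_mem_open
      (Set.mem_univ (i.base (V'.hom.base x))) isOpen_univ
    have hx : x ∈ V'.hom ⁻¹ᵁ (i ⁻¹ᵁ O) := hxO
    obtain ⟨_, ⟨O', hO', rfl⟩, hxO', hsub⟩ :=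
      V'.left.isBasis_affineOpens.exists_subset_of_mem_open hx (V'.hom ⁻¹ᵁ (i ⁻¹ᵁ O)).2
    exact Set.mem_iUnion.mpr ⟨⟨(⟨O', hO'⟩, ⟨O, hO⟩), hsub⟩, hxO'⟩
  choose W g' hG hs hq using fun k : κ =>
    exists_good_over i V' k.1.1.1 k.1.1.2 k.1.2.1 k.1.2.2 k.2
  refine ⟨κ, W, fun k => g' k ≫ opnι V' (Oc k), ?_, hG⟩
  refine ofArrows_comp_mem Oc hOc (fun k => (ProEtS.bcP i).obj (W k)) g' (fun k => ?_)
  haveI := hs k
  haveI := hq k
  exact singleton_mem (g' k)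

end Groth.Agent.Lib.Helper4.HSch
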