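import Mathlib
import Groth.Prelude.Def_ProEtS
import Groth.Prelude.Def_PBC
import Groth.Agent.Lib.Helper4.PE8

/-!
# Checking isomorphisms and limit preservation on the basis of w-contractible affine objects
-/

set_option autoImplicit false
set_option linter.style.haveILetI false
set_option linter.unusedSectionVars false
universe u

namespace Groth.Agent.Lib.Helper4.PEBasis

open CategoryTheory CategoryTheory.Limits AlgebraicGeometry Opposite Groth.Agent.Lib.Helper4.PE

variable {X : Scheme.{u}}

/-- A morphism of abelian pro-étale sheaves that is bijective on sections over all affine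
w-contractible objects is an isomorphism. -/
theorem isIso_of_bijective {F G : ProEtS.AbP X} (φ : F ⟶ G)
    (h : ∀ W : X.ProEt, IsAffine W.left → EtPBC.IsWContractible Γ(W.left, ⊤) →
      Function.Bijective (φ.hom.app (op W))) : IsIso φ := by
  rw [← Sheaf.isLocallyBijective_iff_isIso (A := AddCommGrpCat.{u + 1})]
  constructor
  · constructor
    intro V x y hxy
    obtain ⟨ι, W, g, hcov, hW⟩ := exists_wc_cover V.unop
    refine (Scheme.ProEt.topology X).superset_covering ?_ hcov
    rintro Y _ ⟨T, a, b, ⟨i⟩, rfl⟩
    apply Sieve.downward_closed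
    change F.obj.map (g i).op x = F.obj.map (g i).op y
    apply (h (W i) (hW i).1 (hW i).2).1
    have h1 := NatTrans.naturality_apply φ.hom (g i).op x
    have h2 := NatTrans.naturality_apply φ.hom (g i).op y
    rw [h1, h2, hxy]
  · constructor
    intro V s
    obtain ⟨ι, W, g, hcov, hW⟩ := exists_wc_cover V
    refine (Scheme.ProEt.topology X).superset_covering ?_ hcov
    rintro Y _ ⟨T, a, b, ⟨i⟩, rfl⟩
    apply Sieve.downward_closed
    obtain ⟨t, ht⟩ := (h (W i) (hW i).1 (hW i).2).2 (G.obj.map (g i).op s)
    exact ⟨t, ht⟩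

/-- the sections functor -/
noncomputable abbrev ev (W : X.ProEt) : ProEtS.AbP X ⥤ AddCommGrpCat.{u + 1} :=
  (sheafSections (Scheme.ProEt.topology X) AddCommGrpCat.{u + 1}).obj (op W)

instance (W : X.ProEt) (J : Type u) [SmallCategory J] : PreservesLimitsOfShape J (ev W) :=
  inferInstanceAs (PreservesLimitsOfShape J
    (sheafToPresheaf (Scheme.ProEt.topology X) AddCommGrpCat.{u + 1} ⋙
      (evaluation _ _).obj (op W)))

/-- A functor to abelian pro-étale sheaves preserves limits of a given shape as soon as its
compositions with the sections functors over affine w-contractible objects do. -/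
theorem preservesLimitsOfShape_of_ev {C : Type*} [Category C] (J : Type u) [SmallCategory J]
    (G : C ⥤ ProEtS.AbP X)
    (h : ∀ W : X.ProEt, IsAffine W.left → EtPBC.IsWContractible Γ(W.left, ⊤) →
      PreservesLimitsOfShape J (G ⋙ ev W)) : PreservesLimitsOfShape J G := by
  constructor
  intro K
  constructor
  intro c hc
  let φ : G.obj c.pt ⟶ limit (K ⋙ G) := limit.lift (K ⋙ G) (G.mapCone c)
  suffices hφ : IsIso φ by
    haveI : IsIso ((limit.isLimit (K ⋙ G)).lift (G.mapCone c)) := hφ
    exact ⟨IsLimit.ofPointIso (limit.isLimit (K ⋙ G))⟩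
  apply isIso_of_bijective
  intro W hW hwc
  haveI := h W hW hwc
  have h1 : IsLimit ((G ⋙ ev W).mapCone c) := isLimitOfPreserves (G ⋙ ev W) hc
  have h2 : IsLimit ((ev W).mapCone (limit.cone (K ⋙ G))) :=
    isLimitOfPreserves (ev W) (limit.isLimit (K ⋙ G))
  let f : (G ⋙ ev W).mapCone c ⟶ (ev W).mapCone (limit.cone (K ⋙ G)) :=
    { hom := (ev W).map φ
      w := by
        intro k
        change (ev W).map φ ≫ (ev W).map (limit.π (K ⋙ G) k) = (ev W).map (G.map (c.π.app k))
        rw [← Functor.map_comp, limit.lift_π]
        rfl }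
  haveI : IsIso f := IsLimit.hom_isIso h1 h2 f
  haveI : IsIso ((ev W).map φ) := (Cone.forget _).map_isIso f
  exact ConcreteCategory.bijective_of_isIso ((ev W).map φ)

end Groth.Agent.Lib.Helper4.PEBasis
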