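import Mathlib
import Groth.Prelude.Def_ProEtS
import Groth.Prelude.Def_PBC
import Groth.Agent.Lib.Helper4.PEBasis

/-!
# Checking isomorphisms and limit preservation on an arbitrary basis of the pro-étale site
-/

set_option autoImplicit false
set_option linter.style.haveILetI false
set_option linter.unusedSectionVars false
universe u

namespace Groth.Agent.Lib.Helper4.PEBasis

open CategoryTheory CategoryTheory.Limits AlgebraicGeometry Opposite Groth.Agent.Lib.Helper4.PE

variable {X : Scheme.{u}}

/-- a class of objects such that every object admits a covering by objects of the class -/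
def IsBasis (B : X.ProEt → Prop) : Prop :=
  ∀ V : X.ProEt, ∃ (ι : Type u) (W : ι → X.ProEt) (g : ∀ k, W k ⟶ V),
    Sieve.generate (Presieve.ofArrows W g) ∈ Scheme.ProEt.topology X V ∧ ∀ k, B (W k)

theorem isIso_of_bijective' {B : X.ProEt → Prop} (hB : IsBasis B) {F G : ProEtS.AbP X}
    (φ : F ⟶ G) (h : ∀ W : X.ProEt, B W → Function.Bijective (φ.hom.app (op W))) : IsIso φ := by
  rw [← Sheaf.isLocallyBijective_iff_isIso (A := AddCommGrpCat.{u + 1})]
  constructor
  · constructor
    intro V x y hxy
    obtain ⟨ι, W, g, hcov, hW⟩ := hB V.unop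
    refine (Scheme.ProEt.topology X).superset_covering ?_ hcov
    rintro Y _ ⟨T, a, b, ⟨i⟩, rfl⟩
    apply Sieve.downward_closed
    change F.obj.map (g i).op x = F.obj.map (g i).op y
    apply (h (W i) (hW i)).1
    have h1 := NatTrans.naturality_apply φ.hom (g i).op x
    have h2 := NatTrans.naturality_apply φ.hom (g i).op y
    rw [h1, h2, hxy]
  · constructor
    intro V s
    obtain ⟨ι, W, g, hcov, hW⟩ := hB V
    refine (Scheme.ProEt.topology X).superset_covering ?_ hcov
    rintro Y _ ⟨T, a, b, ⟨i⟩, rfl⟩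
    apply Sieve.downward_closed
    obtain ⟨t, ht⟩ := (h (W i) (hW i)).2 (G.obj.map (g i).op s)
    exact ⟨t, ht⟩

theorem preservesLimitsOfShape_of_ev' {B : X.ProEt → Prop} (hB : IsBasis B)
    {C : Type*} [Category C] (J : Type u) [SmallCategory J]
    (G : C ⥤ ProEtS.AbP X)
    (h : ∀ W : X.ProEt, B W → PreservesLimitsOfShape J (G ⋙ ev W)) :
    PreservesLimitsOfShape J G := by
  constructor
  intro K
  constructor
  intro c hc
  let φ : G.obj c.pt ⟶ limit (K ⋙ G) := limit.lift (K ⋙ G) (G.mapCone c)
  suffices hφ : IsIso φ by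
    haveI : IsIso ((limit.isLimit (K ⋙ G)).lift (G.mapCone c)) := hφ
    exact ⟨IsLimit.ofPointIso (limit.isLimit (K ⋙ G))⟩
  apply isIso_of_bijective' hB
  intro W hW
  haveI := h W hW
  have h1 : IsLimit ((G ⋙ ev W).mapCone c) := isLimitOfPreserves (G ⋙ ev W) hc
  have h2 : IsLimit ((ev W).mapCone (limit.cone (K ⋙ G))) :=
    isLimitOfPreserves (ev W) (limit.isLimit (K ⋙ G))
  let f : (G ⋙ ev W).mapCone c ⟶ (ev W).mapCone (limit.cone (K ⋙ G)) :=
    { hom := (ev W).map φ
      w := by
        intro k
        change (ev W).map φ ≫ (ev W).map (limit.π (K ⋙ G) k) = (ev W).map (G.map (c.π.app k))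
        rw [← Functor.map_comp, limit.lift_π]
        rfl }
  haveI : IsIso f := IsLimit.hom_isIso h1 h2 f
  haveI : IsIso ((ev W).map φ) := (Cone.forget _).map_isIso f
  exact ConcreteCategory.bijective_of_isIso ((ev W).map φ)

end Groth.Agent.Lib.Helper4.PEBasis
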