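import Mathlib
import Groth.Prelude.Def_ProEtS
import Groth.Prelude.Def_PBC
import Groth.Agent.Lib.Helper4.HBasis3
import Groth.Agent.Lib.Helper4.PEBasis2

/-!
# The counit `i⁻¹ i_* F → F` for a closed immersion, and limits
-/

set_option autoImplicit false
set_option linter.style.haveILetI false
set_option linter.unusedSectionVars false
universe u

namespace Groth.Agent.Lib.Helper4.HSch

open CategoryTheory CategoryTheory.Limits AlgebraicGeometry Opposite Groth.Agent.Lib.Helper4.PE
  Groth.Agent.Lib.Helper4.PEBasis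

variable {X Z : Scheme.{u}} (i : Z ⟶ X) [IsClosedImmersion i]

/-- restrictions of good objects -/
def GoodImage (V : Z.ProEt) : Prop := ∃ W : X.ProEt, Good i W ∧ V = (ProEtS.bcP i).obj W

theorem isBasis_goodImage : IsBasis (GoodImage i) := by
  intro V
  obtain ⟨κ, W, g, hcov, hG⟩ := exists_good_cover i V
  exact ⟨κ, fun k => (ProEtS.bcP i).obj (W k), g, hcov, fun k => ⟨W k, hG k, rfl⟩⟩

theorem counit_bijective [ProEtS.PCont i] (F : ProEtS.AbP Z) {W : X.ProEt} (hG : Good i W) :
    Function.Bijective
      (((ProEtS.pullPushAdjP i).counit.app F).hom.app (op ((ProEtS.bcP i).obj W))) := by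
  have h1 := hG.unit_bijective i ((ProEtS.pushP i).obj F)
  have h2 := (ProEtS.pullPushAdjP i).right_triangle_components F
  have h3 : ∀ x, ((ProEtS.pullPushAdjP i).counit.app F).hom.app (op ((ProEtS.bcP i).obj W))
      (((ProEtS.pullPushAdjP i).unit.app ((ProEtS.pushP i).obj F)).hom.app (op W) x) = x := by
    intro x
    have h4 := congrArg (fun m => m.hom.app (op W) x) h2
    exact h4
  constructor
  · intro a b hab
    obtain ⟨a', rfl⟩ := h1.2 a
    obtain ⟨b', rfl⟩ := h1.2 b
    rw [h3, h3] at hab
    rw [hab]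
  · intro x
    exact ⟨_, h3 x⟩

theorem isIso_counit [ProEtS.PCont i] (F : ProEtS.AbP Z) :
    IsIso ((ProEtS.pullPushAdjP i).counit.app F) := by
  apply isIso_of_bijective' (isBasis_goodImage i)
  rintro V ⟨W, hG, rfl⟩
  exact counit_bijective i F hG

end Groth.Agent.Lib.Helper4.HSch
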