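import Mathlib
import Groth.Prelude.Def_ProEtS
import Groth.Prelude.Def_PBC
import Groth.Agent.Lib.Helper4.HBasis4

/-!
# `i⁻¹` preserves limits for a closed immersion `i`
-/

set_option autoImplicit false
set_option linter.style.haveILetI false
set_option linter.unusedSectionVars false
universe u

namespace Groth.Agent.Lib.Helper4.HSch

open CategoryTheory CategoryTheory.Limits AlgebraicGeometry Opposite Groth.Agent.Lib.Helper4.PE
  Groth.Agent.Lib.Helper4.PEBasis

variable {X Z : Scheme.{u}} (i : Z ⟶ X) [IsClosedImmersion i]

set_option maxHeartbeats 1000000 in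
theorem preservesLimitsOfShape_pullP [ProEtS.PCont i] (J : Type u) [SmallCategory J] :
    PreservesLimitsOfShape J (ProEtS.pullP i) := by
  apply preservesLimitsOfShape_of_ev' (isBasis_goodImage i)
  rintro V ⟨W, hG, rfl⟩
  let α : ev W ⟶ ProEtS.pullP i ⋙ ev ((ProEtS.bcP i).obj W) :=
    { app := fun F => ((ProEtS.pullPushAdjP i).unit.app F).hom.app (op W)
      naturality := by
        intro F F' φ
        have h1 := (ProEtS.pullPushAdjP i).unit.naturality φ
        have h2 := congrArg (fun m => m.hom.app (op W)) h1
        exact h2 }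
  haveI : ∀ F, IsIso (α.app F) := fun F =>
    (ConcreteCategory.isIso_iff_bijective _).mpr (hG.unit_bijective i F)
  haveI : IsIso α := NatIso.isIso_of_isIso_app α
  exact preservesLimitsOfShape_of_natIso (asIso α)

end Groth.Agent.Lib.Helper4.HSch
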