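import Mathlib
import Groth.Agent.Lib.Helper4.HenselPairK

/-!
# Clopen lifting along a map and idempotent lifting (ring level)
-/

set_option autoImplicit false
set_option linter.style.haveILetI false
set_option linter.unusedSectionVars false
universe u

namespace Groth.Agent.Lib.Helper4.HC

open AlgebraicGeometry CategoryTheory Limits TensorProduct

/-- Clopen lifting property of a map: every clopen subset of the source is the preimage of exactly
one clopen subset of the target. -/
def CL {P Y : Type*} [TopologicalSpace P] [TopologicalSpace Y] (q : P → Y) : Prop :=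
  ∀ V : Set P, IsClopen V → ∃! U : Set Y, IsClopen U ∧ q ⁻¹' U = V

theorem CL_congr {P Y P' Y' : Type*} [TopologicalSpace P] [TopologicalSpace Y]
    [TopologicalSpace P'] [TopologicalSpace Y'] (q : P → Y) (q' : P' → Y')
    (a : P ≃ₜ P') (b : Y ≃ₜ Y') (h : ∀ x, q' (a x) = b (q x)) (hq : CL q) : CL q' := by
  intro V' hV'
  obtain ⟨U, ⟨hU, hUV⟩, huniq⟩ := hq (a ⁻¹' V') (hV'.preimage a.continuous)
  refine ⟨b.symm ⁻¹' U, ⟨hU.preimage b.symm.continuous, ?_⟩, ?_⟩
  · ext x'
    obtain ⟨x, rfl⟩ := a.surjective x'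
    simp only [Set.mem_preimage, h, Homeomorph.symm_apply_apply]
    have := Set.ext_iff.mp hUV x
    simpa using this
  · rintro U' ⟨hU', hU'V⟩
    have := huniq (b ⁻¹' U') ⟨hU'.preimage b.continuous, ?_⟩
    · rw [← this]
      ext y
      simp
    · ext x
      simp only [Set.mem_preimage, ← h]
      have := Set.ext_iff.mp hU'V (a x)
      simpa using this

theorem comap_preimage_basicOpen {B C : Type*} [CommRing B] [CommRing C] (ψ : B →+* C) (e : B) :
    PrimeSpectrum.comap ψ ⁻¹' (PrimeSpectrum.basicOpen e : Set (PrimeSpectrum B)) =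
      (PrimeSpectrum.basicOpen (ψ e) : Set (PrimeSpectrum C)) := by
  ext p
  simp [PrimeSpectrum.mem_basicOpen]

theorem CL_comap_iff {B C : Type*} [CommRing B] [CommRing C] (ψ : B →+* C) :
    CL (PrimeSpectrum.comap ψ) ↔
      Set.BijOn ψ {e : B | IsIdempotentElem e} {e : C | IsIdempotentElem e} := by
  have key := comap_preimage_basicOpen ψ
  constructor
  · intro h
    refine ⟨fun e he => he.map ψ, ?_, ?_⟩
    · intro e₁ he₁ e₂ he₂ h12
      have hV : IsClopen (PrimeSpectrum.basicOpen (ψ e₁) : Set (PrimeSpectrum C)) :=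
        PrimeSpectrum.isClopen_iff.mpr ⟨_, he₁.map ψ, rfl⟩
      obtain ⟨U, -, huniq⟩ := h _ hV
      have h1 := huniq (PrimeSpectrum.basicOpen e₁)
        ⟨PrimeSpectrum.isClopen_iff.mpr ⟨_, he₁, rfl⟩, key e₁⟩
      have h2 := huniq (PrimeSpectrum.basicOpen e₂)
        ⟨PrimeSpectrum.isClopen_iff.mpr ⟨_, he₂, rfl⟩, by rw [key e₂, h12]⟩
      exact PrimeSpectrum.basicOpen_injOn_isIdempotentElem he₁ he₂
        (SetLike.coe_injective (h1.trans h2.symm))
    · intro c hc
      have hV : IsClopen (PrimeSpectrum.basicOpen c : Set (PrimeSpectrum C)) :=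
        PrimeSpectrum.isClopen_iff.mpr ⟨_, hc, rfl⟩
      obtain ⟨U, ⟨hU, hUV⟩, -⟩ := h _ hV
      obtain ⟨e, he, rfl⟩ := PrimeSpectrum.isClopen_iff.mp hU
      refine ⟨e, he, ?_⟩
      rw [key] at hUV
      exact PrimeSpectrum.basicOpen_injOn_isIdempotentElem (he.map ψ) hc
        (SetLike.coe_injective hUV)
  · intro h V hV
    obtain ⟨c, hc, rfl⟩ := PrimeSpectrum.isClopen_iff.mp hV
    obtain ⟨e, he, rfl⟩ := h.surjOn hc
    refine ⟨PrimeSpectrum.basicOpen e, ⟨PrimeSpectrum.isClopen_iff.mpr ⟨_, he, rfl⟩, key e⟩, ?_⟩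
    rintro U ⟨hU, hUV⟩
    obtain ⟨e', he', rfl⟩ := PrimeSpectrum.isClopen_iff.mp hU
    rw [key] at hUV
    have := PrimeSpectrum.basicOpen_injOn_isIdempotentElem (he'.map ψ) (he.map ψ)
      (SetLike.coe_injective hUV)
    rw [h.injOn he' he this]

theorem bijOn_idempotent_ringEquiv {C C' : Type*} [CommRing C] [CommRing C'] (σ : C ≃+* C') :
    Set.BijOn σ {e : C | IsIdempotentElem e} {e : C' | IsIdempotentElem e} := by
  refine ⟨fun e he => he.map σ, fun _ _ _ _ h => σ.injective h, fun c hc => ?_⟩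
  refine ⟨σ.symm c, ?_, by simp⟩
  exact hc.map σ.symm

/-- The idempotent-lifting bijection for `B → B ⧸ I B` is equivalent to that for
`B → B ⊗[A] (A ⧸ I)`. -/
theorem bijOn_includeLeft_iff {A B : Type*} [CommRing A] [CommRing B] [Algebra A B] (I : Ideal A) :
    Set.BijOn (Algebra.TensorProduct.includeLeftRingHom : B →+* B ⊗[A] (A ⧸ I))
        {e : B | IsIdempotentElem e} {e | IsIdempotentElem e} ↔
      Set.BijOn (Ideal.Quotient.mk (Ideal.map (algebraMap A B) I))
        {e : B | IsIdempotentElem e} {e | IsIdempotentElem e} := by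
  let σ : (B ⧸ I.map (algebraMap A B)) ≃+* B ⊗[A] (A ⧸ I) :=
    (Algebra.TensorProduct.quotIdealMapEquivTensorQuot B I).toRingEquiv
  have hσ : ∀ b : B, σ (Ideal.Quotient.mk _ b) = Algebra.TensorProduct.includeLeftRingHom b := by
    intro b
    rfl
  constructor
  · intro h
    have h2 := (bijOn_idempotent_ringEquiv σ.symm).comp h
    refine h2.congr ?_
    intro b _
    simp only [Function.comp_apply, ← hσ, RingEquiv.symm_apply_apply]
  · intro h
    have h2 := (bijOn_idempotent_ringEquiv σ).comp h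
    refine h2.congr ?_
    intro b _
    simp only [Function.comp_apply, hσ]

end Groth.Agent.Lib.Helper4.HC
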