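import Mathlib
import Groth.Agent.Lib.Helper4.HC1

/-!
# Clopen lifting along the first projection of a base change (scheme level)
-/

set_option autoImplicit false
set_option linter.style.haveILetI false
set_option linter.unusedSectionVars false
universe u

namespace Groth.Agent.Lib.Helper4.HC

open AlgebraicGeometry CategoryTheory Limits TensorProduct

/-- The clopen lifting property of `pullback.fst g i` only depends on `g` up to isomorphism of the
source. -/
theorem CL_fst_of_iso {Y Y' S S₀ : Scheme.{u}} (e : Y ≅ Y') (g : Y ⟶ S) (g' : Y' ⟶ S)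
    (h : e.hom ≫ g' = g) (i : S₀ ⟶ S) (hCL : CL (pullback.fst g' i).base) :
    CL (pullback.fst g i).base := by
  let m : pullback g i ⟶ pullback g' i :=
    pullback.map g i g' i e.hom (𝟙 _) (𝟙 _) (by simp [h]) (by simp)
  haveI : IsIso m := by
    dsimp only [m]
    infer_instance
  have hm : m ≫ pullback.fst g' i = pullback.fst g i ≫ e.hom := by
    exact pullback.lift_fst _ _ _
  refine CL_congr (pullback.fst g' i).base (pullback.fst g i).base
    (Scheme.homeoOfIso (asIso m)).symm (Scheme.homeoOfIso e).symm ?_ hCL
  intro x
  apply (Scheme.homeoOfIso e).injective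
  rw [Homeomorph.apply_symm_apply]
  have h1 : (pullback.fst g i ≫ e.hom).base ((Scheme.homeoOfIso (asIso m)).symm x) =
      (pullback.fst g' i).base x := by
    rw [← hm]
    change (pullback.fst g' i).base (m.base ((Scheme.homeoOfIso (asIso m)).symm x)) = _
    congr 1
    exact (Scheme.homeoOfIso (asIso m)).apply_symm_apply x
  exact h1

/-- Clopen lifting along the base change of `Spec B → Spec A` to `Spec (A ⧸ I)` is equivalent to
unique lifting of idempotents along `B → B ⧸ I B`. -/
theorem CL_fst_SpecMap_iff (A B : Type u) [CommRing A] [CommRing B] [Algebra A B] (I : Ideal A) :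
    CL (pullback.fst (Spec.map (CommRingCat.ofHom (algebraMap A B)))
      (Spec.map (CommRingCat.ofHom (Ideal.Quotient.mk I)))).base ↔
      Set.BijOn (Ideal.Quotient.mk (Ideal.map (algebraMap A B) I))
        {e : B | IsIdempotentElem e} {e | IsIdempotentElem e} := by
  rw [← bijOn_includeLeft_iff, ← CL_comap_iff]
  let E := pullbackSpecIso A B (A ⧸ I)
  have hE : E.hom ≫ Spec.map (CommRingCat.ofHom
      (Algebra.TensorProduct.includeLeftRingHom : B →+* B ⊗[A] (A ⧸ I))) =
      pullback.fst (Spec.map (CommRingCat.ofHom (algebraMap A B)))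
        (Spec.map (CommRingCat.ofHom (algebraMap A (A ⧸ I)))) :=
    pullbackSpecIso_hom_fst A B (A ⧸ I)
  constructor
  · intro h
    refine CL_congr _ _ (Scheme.homeoOfIso E) (Homeomorph.refl _) ?_ h
    intro x
    have := congrArg (fun f => f.base x) hE
    exact this
  · intro h
    refine CL_congr _ _ (Scheme.homeoOfIso E).symm (Homeomorph.refl _) ?_ h
    intro x
    have hx : E.hom.base ((Scheme.homeoOfIso E).symm x) = x :=
      (Scheme.homeoOfIso E).apply_symm_apply x
    have := congrArg (fun f => f.base ((Scheme.homeoOfIso E).symm x)) hE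
    simp only [Scheme.Hom.comp_base, TopCat.comp_app] at this
    rw [hx] at this
    exact this.symm

end Groth.Agent.Lib.Helper4.HC
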