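import Mathlib
import Groth.Agent.Lib.Helper4.HC2
import Groth.Agent.Lib.Helper4.HC3
import Groth.Agent.Lib.Helper4.HC4

/-!
# Henselian couples: the kernel of restriction is in the Jacobson radical
-/

set_option autoImplicit false
set_option linter.style.haveILetI false
set_option linter.unusedSectionVars false
universe u

namespace Groth.Agent.Lib.Helper4.HC

open AlgebraicGeometry CategoryTheory Limits TensorProduct TopologicalSpace

variable {X X₀ : Scheme.{u}} (i : X₀ ⟶ X)

theorem ker_le_jacobson
    (hX : ∀ (Y : Scheme.{u}) (g : Y ⟶ X), IsFinite g → CL (pullback.fst g i).base) :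
    RingHom.ker i.appTop.hom ≤ Ideal.jacobson ⊥ := by
  intro b hb
  rw [Ideal.mem_jacobson_bot]
  intro c
  set u : Γ(X, ⊤) := b * c + 1 with hu
  apply isUnit_of_basicOpen_eq_top
  -- every point of `X₀` maps into `D(u)`
  have hpre : i ⁻¹ᵁ (X.basicOpen u) = ⊤ := by
    rw [Scheme.preimage_basicOpen_top]
    have h1 : i.appTop.hom u = 1 := by
      rw [hu, map_add, map_mul, map_one, (RingHom.mem_ker).mp hb, zero_mul, zero_add]
    change X₀.basicOpen (i.appTop.hom u) = ⊤
    rw [h1, Scheme.basicOpen_one]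
  let Zc : Closeds X := ⟨((X.basicOpen u : Set X))ᶜ, (X.basicOpen u).2.isClosed_compl⟩
  let I := Scheme.IdealSheafData.vanishingIdeal Zc
  let ι : I.subscheme ⟶ X := I.subschemeι
  have hrange : Set.range ι = ((X.basicOpen u : Set X))ᶜ := by
    rw [Scheme.IdealSheafData.range_subschemeι, Scheme.IdealSheafData.coe_support_vanishingIdeal]
    rfl
  have hempty : IsEmpty ↥(pullback ι i) := by
    constructor
    intro z
    have h1 : ι ((pullback.fst ι i) z) = i ((pullback.snd ι i) z) := by
      rw [← Scheme.Hom.comp_apply, ← Scheme.Hom.comp_apply, pullback.condition]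
    have h2 : ι ((pullback.fst ι i) z) ∈ ((X.basicOpen u : Set X))ᶜ := by
      rw [← hrange]
      exact ⟨_, rfl⟩
    have h3 : (pullback.snd ι i) z ∈ i ⁻¹ᵁ (X.basicOpen u) := by
      rw [hpre]
      trivial
    rw [h1] at h2
    exact h2 h3
  obtain ⟨U, -, huniq⟩ := hX _ ι inferInstance ∅ isClopen_empty
  have h1 := huniq ∅ ⟨isClopen_empty, by simp⟩
  have h2 := huniq Set.univ ⟨isClopen_univ, Set.eq_empty_of_isEmpty _⟩
  have h3 : (Set.univ : Set ↥I.subscheme) = ∅ := h2.trans h1.symm
  have h4 : Set.range ι = ∅ := by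
    rw [Set.range_eq_empty_iff]
    exact Set.univ_eq_empty_iff.mp h3
  rw [hrange, Set.compl_empty_iff] at h4
  exact SetLike.coe_injective (by simpa using h4)

end Groth.Agent.Lib.Helper4.HC
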