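import Mathlib
import Groth.Agent.Lib.Helper4.HC5

/-!
# Henselian couples: idempotent lifting for finite flat algebras over the ring of global sections
-/

set_option autoImplicit false
set_option linter.style.haveILetI false
set_option linter.unusedSectionVars false
universe u

namespace Groth.Agent.Lib.Helper4.HC

open AlgebraicGeometry CategoryTheory Limits TensorProduct TopologicalSpace

variable {X X₀ : Scheme.{u}} (i : X₀ ⟶ X)

theorem exists_idempotent_lift_of_flat [IsClosedImmersion i] [CompactSpace X]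
    [QuasiSeparatedSpace X]
    (hX : ∀ (Y : Scheme.{u}) (g : Y ⟶ X), IsFinite g → CL (pullback.fst g i).base)
    (C : Type u) [CommRing C] [Algebra Γ(X, ⊤) C] [Module.Finite Γ(X, ⊤) C]
    [Module.Flat Γ(X, ⊤) C]
    (β : C) (hβ : β * β - β ∈ (RingHom.ker i.appTop.hom).map (algebraMap Γ(X, ⊤) C)) :
    ∃ e : C, IsIdempotentElem e ∧
      e - β ∈ (RingHom.ker i.appTop.hom).map (algebraMap Γ(X, ⊤) C) := by
  let B : CommRingCat.{u} := Γ(X, ⊤)
  let φ : B ⟶ CommRingCat.of C := CommRingCat.ofHom (algebraMap Γ(X, ⊤) C)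
  let f : Spec (CommRingCat.of C) ⟶ Spec B := Spec.map φ
  let p : X ⟶ Spec B := X.toSpecΓ
  have hφfin : φ.hom.Finite := RingHom.finite_algebraMap.mpr inferInstance
  have hφflat : φ.hom.Flat := RingHom.flat_algebraMap_iff.mpr inferInstance
  haveI : IsFinite f := (IsFinite.SpecMap_iff φ).mpr hφfin
  haveI : Flat f := (Flat.SpecMap_iff).mpr hφflat
  let g : pullback p f ⟶ X := pullback.fst p f
  let q : pullback p f ⟶ Spec (CommRingCat.of C) := pullback.snd p f
  haveI : IsFinite g := by
    dsimp only [g]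
    infer_instance
  have H : IsPullback g q p f := IsPullback.of_hasPullback p f
  have P1 : IsPushout p.appTop f.appTop g.appTop q.appTop := isPushout_appTop_of_flat H
  have hp : p.appTop = (Scheme.ΓSpecIso B).hom := Scheme.toSpecΓ_appTop X
  haveI : IsIso p.appTop := by
    rw [hp]
    infer_instance
  haveI hq : IsIso q.appTop := P1.isIso_inr_of_isIso
  -- the base change to `X₀`
  let g₀ : pullback g i ⟶ pullback p f := pullback.fst g i
  let s₀ : pullback g i ⟶ X₀ := pullback.snd g i
  have H₀ : IsPullback s₀ (g₀ ≫ q) (i ≫ p) f :=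
    ((IsPullback.of_hasPullback g i).paste_horiz H.flip).flip
  haveI : CompactSpace X₀ := QuasiCompact.compactSpace_of_compactSpace i
  haveI : QuasiSeparatedSpace X₀ := quasiSeparatedSpace_of_quasiSeparated i
  have P0 : IsPushout (i ≫ p).appTop f.appTop s₀.appTop (g₀ ≫ q).appTop :=
    isPushout_appTop_of_flat H₀
  haveI : CompactSpace ↥(pullback g i) := QuasiCompact.compactSpace_of_compactSpace s₀
  have hfflat : f.appTop.hom.Flat := Scheme.Hom.flat_appTop f
  -- the comparison maps
  let γC := Scheme.ΓSpecIso (CommRingCat.of C)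
  let γB := Scheme.ΓSpecIso B
  let ψ : C →+* Γ(pullback p f, ⊤) := q.appTop.hom.comp γC.inv.hom
  let θ : C →+* Γ(pullback g i, ⊤) := g₀.appTop.hom.comp ψ
  have hψbij : Function.Bijective ψ := by
    have h1 : Function.Bijective q.appTop.hom := ConcreteCategory.bijective_of_isIso q.appTop
    have h2 : Function.Bijective γC.inv.hom := ConcreteCategory.bijective_of_isIso γC.inv
    exact h1.comp h2
  have hnat : f.appTop ≫ γC.hom = γB.hom ≫ φ := Scheme.ΓSpecIso_naturality φ
  -- `θ` kills `J C`
  have hθJ : (RingHom.ker i.appTop.hom).map (algebraMap Γ(X, ⊤) C) ≤ RingHom.ker θ := by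
    have hcomp : φ ≫ γC.inv ≫ q.appTop ≫ g₀.appTop = i.appTop ≫ s₀.appTop := by
      have e1 : φ ≫ γC.inv = γB.inv ≫ f.appTop := Scheme.ΓSpecIso_inv_naturality φ
      have e2 : f.appTop ≫ q.appTop ≫ g₀.appTop = ((g₀ ≫ q) ≫ f).appTop := by
        simp only [Scheme.Hom.comp_appTop, Category.assoc]
      have e3 : ((g₀ ≫ q) ≫ f).appTop = p.appTop ≫ i.appTop ≫ s₀.appTop := by
        rw [← H₀.w]
        simp only [Scheme.Hom.comp_appTop, Category.assoc]
      rw [← Category.assoc, e1, Category.assoc, e2, e3, hp]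
      simp [γB]
    rw [Ideal.map_le_iff_le_comap]
    intro b hb
    rw [Ideal.mem_comap, RingHom.mem_ker]
    have h1 := congrArg (fun m => m.hom b) hcomp
    simp only [CommRingCat.hom_comp, RingHom.comp_apply] at h1
    have h2 : i.appTop.hom b = 0 := (RingHom.mem_ker).mp hb
    rw [h2, map_zero] at h1
    exact h1
  -- the kernel of `θ` is contained in `J C`
  have hkerθ : ∀ c : C, θ c = 0 →
      c ∈ (RingHom.ker i.appTop.hom).map (algebraMap Γ(X, ⊤) C) := by
    intro c hc
    have h1 : (g₀ ≫ q).appTop.hom (γC.inv.hom c) = 0 := by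
      rw [Scheme.Hom.comp_appTop]
      exact hc
    have h2 := mem_map_ker_of_isPushout P0 hfflat (γC.inv.hom c) h1
    have h3 : γC.hom.hom (γC.inv.hom c) ∈
        Ideal.map γC.hom.hom (Ideal.map f.appTop.hom (RingHom.ker (i ≫ p).appTop.hom)) :=
      Ideal.mem_map_of_mem _ h2
    have h4 : γC.hom.hom (γC.inv.hom c) = c := by
      have := congrArg (fun m => m.hom c) γC.inv_hom_id
      simpa using this
    rw [h4, Ideal.map_map] at h3
    have h5 : γC.hom.hom.comp f.appTop.hom = φ.hom.comp γB.hom.hom := by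
      have := congrArg (fun m => m.hom) hnat
      simpa using this
    rw [h5, ← Ideal.map_map] at h3
    refine Ideal.map_mono ?_ h3
    rw [Ideal.map_le_iff_le_comap]
    intro x hx
    rw [Ideal.mem_comap, RingHom.mem_ker]
    have h6 : (i ≫ p).appTop.hom x = 0 := (RingHom.mem_ker).mp hx
    rw [Scheme.Hom.comp_appTop, hp] at h6
    exact h6
  -- the idempotent downstairs
  have hβ₀ : IsIdempotentElem (θ β) := by
    have h1 : θ (β * β - β) = 0 := (RingHom.mem_ker).mp (hθJ hβ)
    rw [map_sub, map_mul, sub_eq_zero] at h1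
    exact h1
  let V : Set ↥(pullback g i) := ((pullback g i).basicOpen (θ β) : Set _)
  have hV : IsClopen V := isClopen_basicOpen_of_isIdempotentElem _ hβ₀
  obtain ⟨U, ⟨hU, hUV⟩, -⟩ := hX _ g inferInstance V hV
  obtain ⟨e', he', he'U⟩ := exists_idempotent_basicOpen_eq U hU
  obtain ⟨e, rfl⟩ := hψbij.2 e'
  have he : IsIdempotentElem e := by
    apply hψbij.1
    rw [map_mul]
    exact he'
  refine ⟨e, he, hkerθ _ ?_⟩
  rw [map_sub, sub_eq_zero]
  refine idempotent_eq_of_basicOpen_eq _ _ (he.map θ) hβ₀ ?_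
  have h1 : g₀ ⁻¹ᵁ ((pullback p f).basicOpen (ψ e)) = (pullback g i).basicOpen (θ e) :=
    Scheme.preimage_basicOpen_top g₀ (ψ e)
  rw [← h1]
  apply SetLike.coe_injective
  change g₀.base ⁻¹' ((pullback p f).basicOpen (ψ e) : Set _) = V
  rw [he'U]
  exact hUV

end Groth.Agent.Lib.Helper4.HC
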