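import Mathlib
import Groth.Agent.Lib.Helper4.HC7
import Groth.Agent.Lib.Helper12.HensRad
import Groth.Agent.S17959

/-!
# A henselian couple proper over a Noetherian ring is proper over a henselian pair
-/

set_option autoImplicit false
set_option linter.style.haveILetI false
set_option linter.unusedSectionVars false
universe u

namespace Groth.Agent.Lib.Helper4.HC

open AlgebraicGeometry CategoryTheory Limits TensorProduct TopologicalSpace

/-- The base change square of rings `A → B`, `A → A ⧸ I`, `B → B ⧸ I B`, `A ⧸ I → B ⧸ I B` is a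
pushout. -/
theorem isPushout_quotient {A B : Type u} [CommRing A] [CommRing B] (ρ : A →+* B) (I : Ideal A) :
    IsPushout (CommRingCat.ofHom ρ) (CommRingCat.ofHom (Ideal.Quotient.mk I))
      (CommRingCat.ofHom (Ideal.Quotient.mk (I.map ρ)))
      (CommRingCat.ofHom (Ideal.quotientMap (I.map ρ) ρ Ideal.le_comap_map)) := by
  letI : Algebra A B := ρ.toAlgebra
  have h0 := CommRingCat.isPushout_tensorProduct A B (A ⧸ I)
  let σ : (B ⧸ I.map (algebraMap A B)) ≃+* B ⊗[A] (A ⧸ I) :=
    (Algebra.TensorProduct.quotIdealMapEquivTensorQuot B I).toRingEquiv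
  refine h0.of_iso (Iso.refl _) (Iso.refl _) (Iso.refl _) σ.symm.toCommRingCatIso ?_ ?_ ?_ ?_
  · simp only [Iso.refl_hom, Category.comp_id, Category.id_comp]
  · simp only [Iso.refl_hom, Category.comp_id, Category.id_comp]
  · simp only [Iso.refl_hom, Category.id_comp]
    ext b
    change σ.symm (b ⊗ₜ[A] (1 : A ⧸ I)) = Ideal.Quotient.mk _ b
    apply σ.injective
    rw [RingEquiv.apply_symm_apply]
    rfl
  · simp only [Iso.refl_hom, Category.id_comp]
    apply CommRingCat.hom_ext
    apply Ideal.Quotient.ringHom_ext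
    ext a
    change σ.symm ((1 : B) ⊗ₜ[A] (Ideal.Quotient.mk I a)) = Ideal.Quotient.mk _ (ρ a)
    apply σ.injective
    rw [RingEquiv.apply_symm_apply]
    change (1 : B) ⊗ₜ[A] (Ideal.Quotient.mk I a) = (ρ a) ⊗ₜ[A] (1 : A ⧸ I)
    have h1 : Ideal.Quotient.mk I a = a • (1 : A ⧸ I) := by
      rw [Algebra.smul_def, mul_one]
      rfl
    have h2 : ρ a = a • (1 : B) := by
      rw [Algebra.smul_def, mul_one]
      rfl
    rw [h1, h2, TensorProduct.smul_tmul]

theorem exists_proper_over_henselian_pair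
    (A : Type u) [CommRing A] [IsNoetherianRing A] (I : Ideal A) {X : Scheme.{u}}
    (f : X ⟶ Spec (CommRingCat.of A)) [IsProper f]
    (hX : ∀ (Y : Scheme.{u}) (g : Y ⟶ X), IsFinite g →
      CL (pullback.fst g (pullback.fst f
        (Spec.map (CommRingCat.ofHom (Ideal.Quotient.mk I))))).base) :
    ∃ (A' : Type u) (_ : CommRing A') (I' : Ideal A') (_ : HenselianRing A' I')
      (_ : IsNoetherianRing A')
      (f' : X ⟶ Spec (CommRingCat.of A')) (_ : IsProper f')
      (t : pullback f (Spec.map (CommRingCat.ofHom (Ideal.Quotient.mk I))) ⟶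
        Spec (CommRingCat.of (A' ⧸ I'))),
      IsPullback (pullback.fst f (Spec.map (CommRingCat.ofHom (Ideal.Quotient.mk I)))) t f'
        (Spec.map (CommRingCat.ofHom (Ideal.Quotient.mk I'))) := by
  let mk : Spec (CommRingCat.of (A ⧸ I)) ⟶ Spec (CommRingCat.of A) :=
    Spec.map (CommRingCat.ofHom (Ideal.Quotient.mk I))
  haveI : IsClosedImmersion mk :=
    IsClosedImmersion.spec_of_surjective _ Ideal.Quotient.mk_surjective
  let i : pullback f mk ⟶ X := pullback.fst f mk
  let sn : pullback f mk ⟶ Spec (CommRingCat.of (A ⧸ I)) := pullback.snd f mk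
  haveI : IsClosedImmersion i := by
    dsimp only [i]
    infer_instance
  haveI : CompactSpace X := (quasiCompact_iff_compactSpace f).mp inferInstance
  haveI : QuasiSeparatedSpace X := (quasiSeparated_iff_quasiSeparatedSpace f).mp inferInstance
  let γA := Scheme.ΓSpecIso (CommRingCat.of A)
  let ρ : A →+* Γ(X, ⊤) := f.appTop.hom.comp γA.inv.hom
  have hfin : ρ.Finite := finite_toGlobal_of_isProper A f
  have hNoeth : IsNoetherianRing Γ(X, ⊤) := by
    letI : Algebra A Γ(X, ⊤) := ρ.toAlgebra
    haveI : Module.Finite A Γ(X, ⊤) := hfin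
    exact IsNoetherianRing.of_finite A Γ(X, ⊤)
  have hHens : HenselianRing (Γ(X, ⊤) : Type u) (RingHom.ker i.appTop.hom) :=
    Groth.Agent.S17959.result i hX
  -- the ideal `I Γ(X)` lies in the kernel of restriction
  have hle : I.map ρ ≤ RingHom.ker i.appTop.hom := by
    rw [Ideal.map_le_iff_le_comap]
    intro a ha
    rw [Ideal.mem_comap, RingHom.mem_ker]
    have e1 : f.appTop ≫ i.appTop = mk.appTop ≫ sn.appTop := by
      rw [← Scheme.Hom.comp_appTop, ← Scheme.Hom.comp_appTop, pullback.condition]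
    have e2 : CommRingCat.ofHom (Ideal.Quotient.mk I) ≫
        (Scheme.ΓSpecIso (CommRingCat.of (A ⧸ I))).inv = γA.inv ≫ mk.appTop :=
      Scheme.ΓSpecIso_inv_naturality _
    have e3 : γA.inv ≫ f.appTop ≫ i.appTop = CommRingCat.ofHom (Ideal.Quotient.mk I) ≫
        (Scheme.ΓSpecIso (CommRingCat.of (A ⧸ I))).inv ≫ sn.appTop := by
      rw [e1, ← Category.assoc, ← e2, Category.assoc]
    have e4 := congrArg (fun m => m.hom a) e3
    simp only [CommRingCat.hom_comp, RingHom.comp_apply, CommRingCat.hom_ofHom] at e4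
    have e5 : Ideal.Quotient.mk I a = 0 := Ideal.Quotient.eq_zero_iff_mem.mpr ha
    rw [e5, map_zero, map_zero] at e4
    exact e4
  haveI := hHens
  have hHens' : HenselianRing (Γ(X, ⊤) : Type u) (I.map ρ) :=
    Groth.Agent.Lib.Helper12.HensRad.henselianRing_of_le _ _ hle
  -- the factorisation of `f`
  let f' : X ⟶ Spec (CommRingCat.of (Γ(X, ⊤) : Type u)) := X.toSpecΓ
  have hfac : f = f' ≫ Spec.map (CommRingCat.ofHom ρ) :=
    Groth.Agent.Lib.Helper22.eq_toSpecΓ_comp X (CommRingCat.of A) f
  haveI : IsProper (f' ≫ Spec.map (CommRingCat.ofHom ρ)) := by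
    rw [← hfac]
    infer_instance
  haveI hf'prop : IsProper f' := IsProper.of_comp f' (Spec.map (CommRingCat.ofHom ρ))
  -- the bottom square
  have hbot := isPullback_SpecMap_of_isPushout _ _ _ _ (isPushout_quotient ρ I)
  have hbig : IsPullback i sn (f' ≫ Spec.map (CommRingCat.ofHom ρ)) mk := by
    rw [← hfac]
    exact IsPullback.of_hasPullback f mk
  exact ⟨(Γ(X, ⊤) : Type u), inferInstance, I.map ρ, hHens', hNoeth, f', hf'prop, _,
    IsPullback.of_bot' hbig hbot⟩

end Groth.Agent.Lib.Helper4.HC
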