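import Mathlib
import Groth.Prelude.Def_Hens2
import Groth.Agent.Lib.Helper12.HzPairQuot

/-!
# Henselizations of pairs `(R, IR)` over a base `(A, I)`: truncations
-/

set_option autoImplicit false

namespace Groth.Agent.Lib.Helper4.HzPairEt

universe u
open Groth.Agent.Lib.Helper12.HzPair

variable (A : Type u) [CommRing A] (I : Ideal A)
  (R : Type u) [CommRing R] [Algebra A R]
  (B : Type u) [CommRing B] [Algebra R B] [Algebra A B] [IsScalarTower A R B]

theorem map_pow_map (r : ℕ) :
    ((I.map (algebraMap A R)) ^ r).map (algebraMap R B) = (I ^ r).map (algebraMap A B) := by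
  rw [← Ideal.map_pow, Ideal.map_map, ← IsScalarTower.algebraMap_eq]

/-- The truncation `R/I^r R → B/I^r B` as an `A/I^r`-algebra map. -/
noncomputable def truncMap (r : ℕ) :
    (R ⧸ (I ^ r).map (algebraMap A R)) →ₐ[A ⧸ I ^ r] (B ⧸ (I ^ r).map (algebraMap A B)) :=
  { toRingHom := Ideal.quotientMap ((I ^ r).map (algebraMap A B)) (algebraMap R B) (by
      rw [← Ideal.map_le_iff_le_comap, Ideal.map_map, ← IsScalarTower.algebraMap_eq])
    commutes' := by
      intro x
      obtain ⟨a, rfl⟩ := Ideal.Quotient.mk_surjective x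
      show Ideal.quotientMap _ (algebraMap R B) _ (Ideal.Quotient.mk _ (algebraMap A R a)) =
        Ideal.Quotient.mk _ (algebraMap A B a)
      rw [Ideal.quotientMap_mk, ← IsScalarTower.algebraMap_apply] }

theorem truncMap_mk (r : ℕ) (x : R) :
    truncMap A I R B r (Ideal.Quotient.mk _ x) = Ideal.Quotient.mk _ (algebraMap R B x) := rfl

variable {A I R B}

theorem truncMap_bijective (hB : Hens2.IsPairHenselization R (I.map (algebraMap A R)) B) (r : ℕ) :
    Function.Bijective (truncMap A I R B r) := by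
  constructor
  · rw [injective_iff_map_eq_zero]
    intro x hx
    obtain ⟨a, rfl⟩ := Ideal.Quotient.mk_surjective x
    rw [truncMap_mk, Ideal.Quotient.eq_zero_iff_mem, ← map_pow_map A I R B r] at hx
    have := mem_pow_of_isPairHenselization hB r hx
    rw [← Ideal.map_pow] at this
    exact Ideal.Quotient.eq_zero_iff_mem.mpr this
  · intro y
    obtain ⟨b, rfl⟩ := Ideal.Quotient.mk_surjective y
    obtain ⟨x, hx⟩ := ((flat_and_bijective_of_isPairHenselization hB).2 r).2 (Ideal.Quotient.mk _ b)
    obtain ⟨a, rfl⟩ := Ideal.Quotient.mk_surjective x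
    refine ⟨Ideal.Quotient.mk _ a, ?_⟩
    rw [Ideal.quotientMap_mk, Ideal.Quotient.eq, map_pow_map A I R B r] at hx
    rw [truncMap_mk, Ideal.Quotient.eq]
    exact hx

theorem flat_of_isPairHenselization [Module.Flat A R]
    (hB : Hens2.IsPairHenselization R (I.map (algebraMap A R)) B) : Module.Flat A B := by
  have := (flat_and_bijective_of_isPairHenselization hB).1
  exact Module.Flat.trans A R B

theorem etale_trunc [Algebra.Etale A R]
    (hB : Hens2.IsPairHenselization R (I.map (algebraMap A R)) B) (r : ℕ) :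
    Algebra.Etale (A ⧸ I ^ r) (B ⧸ (I ^ r).map (algebraMap A B)) := by
  have h1 : Algebra.Etale (A ⧸ I ^ r) (R ⧸ (I ^ r).map (algebraMap A R)) :=
    Algebra.Etale.of_equiv (Algebra.TensorProduct.quotIdealMapEquivQuotTensor R (I ^ r)).symm
  exact Algebra.Etale.of_equiv (AlgEquiv.ofBijective _ (truncMap_bijective hB r))

theorem smooth_trunc [Algebra.Smooth A R]
    (hB : Hens2.IsPairHenselization R (I.map (algebraMap A R)) B) (r : ℕ) :
    Algebra.Smooth (A ⧸ I ^ r) (B ⧸ (I ^ r).map (algebraMap A B)) := by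
  have h1 : Algebra.Smooth (A ⧸ I ^ r) (R ⧸ (I ^ r).map (algebraMap A R)) :=
    Algebra.Smooth.of_equiv (Algebra.TensorProduct.quotIdealMapEquivQuotTensor R (I ^ r)).symm
  exact Algebra.Smooth.of_equiv (AlgEquiv.ofBijective _ (truncMap_bijective hB r))


section One

variable (A : Type u) [CommRing A] (I : Ideal A)
  (R : Type u) [CommRing R] [Algebra A R]
  (B : Type u) [CommRing B] [Algebra R B] [Algebra A B] [IsScalarTower A R B]

/-- The reduction `R/IR → B/IB` as an `A`-algebra map. -/
noncomputable def redMap :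
    (R ⧸ I.map (algebraMap A R)) →ₐ[A] (B ⧸ I.map (algebraMap A B)) :=
  Ideal.quotientMapₐ (I.map (algebraMap A B)) (IsScalarTower.toAlgHom A R B) (by
    rw [← Ideal.map_le_iff_le_comap]
    show (I.map (algebraMap A R)).map (algebraMap R B) ≤ _
    rw [Ideal.map_map, ← IsScalarTower.algebraMap_eq])

theorem redMap_mk (x : R) :
    redMap A I R B (Ideal.Quotient.mk _ x) = Ideal.Quotient.mk _ (algebraMap R B x) := rfl

variable {A I R B}

theorem redMap_bijective (hB : Hens2.IsPairHenselization R (I.map (algebraMap A R)) B) :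
    Function.Bijective (redMap A I R B) := by
  have hmap : ((I.map (algebraMap A R)) ^ 1).map (algebraMap R B) = I.map (algebraMap A B) := by
    rw [pow_one, Ideal.map_map, ← IsScalarTower.algebraMap_eq]
  constructor
  · rw [injective_iff_map_eq_zero]
    intro x hx
    obtain ⟨a, rfl⟩ := Ideal.Quotient.mk_surjective x
    rw [redMap_mk, Ideal.Quotient.eq_zero_iff_mem, ← hmap] at hx
    have := mem_pow_of_isPairHenselization hB 1 hx
    rw [pow_one] at this
    exact Ideal.Quotient.eq_zero_iff_mem.mpr this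
  · intro y
    obtain ⟨b, rfl⟩ := Ideal.Quotient.mk_surjective y
    obtain ⟨x, hx⟩ := ((flat_and_bijective_of_isPairHenselization hB).2 1).2 (Ideal.Quotient.mk _ b)
    obtain ⟨a, rfl⟩ := Ideal.Quotient.mk_surjective x
    refine ⟨Ideal.Quotient.mk _ a, ?_⟩
    rw [Ideal.quotientMap_mk, Ideal.Quotient.eq, hmap] at hx
    rw [redMap_mk, Ideal.Quotient.eq]
    exact hx

end One

end Groth.Agent.Lib.Helper4.HzPairEt
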