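import Mathlib
import Groth.Prelude.Def_Hens2
import Groth.Agent.Lib.Helper4.HzPairFin
import Groth.Agent.Lib.Helper4.HzPairEt

/-!
# Finite henselian-finitely-presented algebras
-/

set_option autoImplicit false

namespace Groth.Agent.Lib.Helper4.HzPairFin

universe u
open Groth.Agent.Lib.Helper4.HenselPair Groth.Agent.Lib.Helper12

variable {A : Type u} [CommRing A] {I : Ideal A} [HenselianRing A I]
  {R : Type u} [CommRing R] [Algebra A R] [Algebra.FinitePresentation A R]
  {B : Type u} [CommRing B] [Algebra R B] [Algebra A B] [IsScalarTower A R B]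

omit [HenselianRing A I] in
theorem finite_of_ringHom_finite
    (hfin : (Ideal.quotientMap (I.map (algebraMap A B)) (algebraMap A B) Ideal.le_comap_map).Finite) :
    Module.Finite A (B ⧸ I.map (algebraMap A B)) := by
  let f := Ideal.quotientMap (I.map (algebraMap A B)) (algebraMap A B) Ideal.le_comap_map
  let _ : Algebra (A ⧸ I) (B ⧸ I.map (algebraMap A B)) := f.toAlgebra
  have h1 : Module.Finite (A ⧸ I) (B ⧸ I.map (algebraMap A B)) := hfin
  have : IsScalarTower A (A ⧸ I) (B ⧸ I.map (algebraMap A B)) :=
    IsScalarTower.of_algebraMap_eq fun a => rfl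
  exact Module.Finite.trans (A ⧸ I) _

theorem finite_and_finitePresentation
    (hB : Hens2.IsPairHenselization R (I.map (algebraMap A R)) B)
    (hfin : Module.Finite A (B ⧸ I.map (algebraMap A B))) :
    Module.Finite A B ∧ Algebra.FinitePresentation A B := by
  have hfinR : Module.Finite A (R ⧸ I.map (algebraMap A R)) := by
    let e := LinearEquiv.ofBijective (HzPairEt.redMap A I R B).toLinearMap
      (HzPairEt.redMap_bijective hB)
    exact Module.Finite.equiv e.symm
  obtain ⟨e, he, hfinQ, hQ⟩ := exists_finite_quotient_isPairHenselization A I R hfinR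
  obtain ⟨eqv⟩ := HensCRT.nonempty_algEquiv_of_isPairHenselization (I.map (algebraMap A R)) B
    (R ⧸ Ideal.span {1 - e}) hB hQ
  let eqvA : B ≃ₐ[A] (R ⧸ Ideal.span {1 - e}) := eqv.restrictScalars A
  have hfp : Algebra.FinitePresentation A (R ⧸ Ideal.span {1 - e}) :=
    Algebra.FinitePresentation.quotient ⟨{1 - e}, by simp⟩
  exact ⟨Module.Finite.equiv eqvA.symm.toLinearEquiv, Algebra.FinitePresentation.equiv eqvA.symm⟩

theorem surjective_of_quotient_surjective
    (hB : Hens2.IsPairHenselization R (I.map (algebraMap A R)) B)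
    (hsurj : Function.Surjective
      (Ideal.quotientMap (I.map (algebraMap A B)) (algebraMap A B) Ideal.le_comap_map)) :
    Function.Surjective (algebraMap A B) := by
  have hfinq : Module.Finite A (B ⧸ I.map (algebraMap A B)) := by
    refine Module.Finite.of_surjective (Algebra.linearMap A (B ⧸ I.map (algebraMap A B))) ?_
    intro y
    obtain ⟨x, hx⟩ := hsurj y
    obtain ⟨a, rfl⟩ := Ideal.Quotient.mk_surjective x
    exact ⟨a, hx⟩
  obtain ⟨hfinB, -⟩ := finite_and_finitePresentation hB hfinq
  let N : Submodule A B := LinearMap.range (Algebra.linearMap A B)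
  have key : (⊤ : Submodule A B) ≤ N ⊔ I • (⊤ : Submodule A B) := by
    intro b _
    obtain ⟨x, hx⟩ := hsurj (Ideal.Quotient.mk _ b)
    obtain ⟨a, rfl⟩ := Ideal.Quotient.mk_surjective x
    rw [Ideal.quotientMap_mk, Ideal.Quotient.eq] at hx
    have h2 : algebraMap A B a - b ∈ I • (⊤ : Submodule A B) := by
      rw [Ideal.smul_top_eq_map]
      exact hx
    have : b = algebraMap A B a + -(algebraMap A B a - b) := by ring
    rw [this]
    exact Submodule.add_mem_sup ⟨a, rfl⟩ (Submodule.neg_mem _ h2)
  have h3 := Submodule.le_of_le_smul_of_le_jacobson_bot (Module.Finite.fg_top)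
    (HenselianRing.jac (R := A) (I := I)) key
  intro b
  obtain ⟨a, ha⟩ := h3 (Submodule.mem_top : b ∈ ⊤)
  exact ⟨a, ha⟩

end Groth.Agent.Lib.Helper4.HzPairFin
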