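import Mathlib
import Groth.Prelude.Def_Hens2
import Groth.Agent.Lib.Helper4.HzPairBase

/-!
# Maps from finitely presented algebras into a henselization factor through an étale neighbourhood
-/

set_option autoImplicit false
universe u

namespace Groth.Agent.Lib.Helper4.HzPairBase

open Groth.Agent.Lib.Helper12 Groth.Agent.Lib.Helper12.HzPair

/-- kill finitely many elements of a neighbourhood that die in the henselization. -/
theorem exists_nbhd_kill_finset {S C : Type u} [CommRing S] [CommRing C] [Algebra S C] (K : Ideal S)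
    (hC : Hens2.IsPairHenselization S K C) {E : Type u} [CommRing E] [Algebra S E]
    (hE : IsNbhd K E) (φ : E →ₐ[S] C) (T : Finset E) (hT : ∀ t ∈ T, φ t = 0) :
    ∃ (E' : Type u) (_ : CommRing E') (_ : Algebra S E'), IsNbhd K E' ∧
      ∃ θ : E →ₐ[S] E', ∀ t ∈ T, θ t = 0 := by
  classical
  induction T using Finset.induction_on with
  | empty =>
    exact ⟨E, inferInstance, inferInstance, hE, AlgHom.id S E, fun t ht => by simp at ht⟩
  | insert a T _ ih =>
    obtain ⟨E', _, _, hE', θ, hθ⟩ := ih (fun t ht => hT t (Finset.mem_insert_of_mem ht))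
    obtain ⟨⟨⟨φ'⟩, -⟩⟩ := nonempty_unique_algHom C hC hE'
    have hφ' : φ'.comp θ = φ := algHom_eq_of_nbhd hE hC.1.jac _ _
    have h0 : φ' (θ a) = 0 := by
      have := DFunLike.congr_fun hφ' a
      rw [AlgHom.comp_apply] at this
      rw [this]
      exact hT a (Finset.mem_insert_self a T)
    obtain ⟨E'', _, _, hE'', θ', hθ'⟩ := exists_nbhd_kill C hC hE' φ' (θ a) h0
    refine ⟨E'', inferInstance, inferInstance, hE'', θ'.comp θ, fun t ht => ?_⟩
    rcases Finset.mem_insert.mp ht with rfl | ht
    · exact hθ'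
    · rw [AlgHom.comp_apply, hθ t ht, map_zero]

/-- An `A`-algebra map from a finitely presented `A`-algebra into the henselization of `(S, K)`
factors through an étale neighbourhood of `(S, K)`. -/
theorem exists_factor {A S C R : Type u} [CommRing A] [CommRing S] [CommRing C] [CommRing R]
    [Algebra A S] [Algebra S C] [Algebra A C] [IsScalarTower A S C] [Algebra A R]
    [Algebra.FinitePresentation A R] (K : Ideal S) (hC : Hens2.IsPairHenselization S K C)
    (g : R →ₐ[A] C) :
    ∃ (E : Type u) (_ : CommRing E) (_ : Algebra S E) (_ : Algebra A E) (_ : IsScalarTower A S E),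
      IsNbhd K E ∧ ∃ (ψ : E →ₐ[S] C) (g' : R →ₐ[A] E), ∀ r, ψ (g' r) = g r := by
  classical
  obtain ⟨n, f, hf, Tf, hTf⟩ := Algebra.FinitePresentation.out (R := A) (A := R)
  -- a common neighbourhood for the images of the variables
  obtain ⟨E₁, _, _, hE₁, ψ₁, hψ₁⟩ := exists_common_nbhd K hC
    (Finset.univ.image fun i : Fin n => g (f (MvPolynomial.X i)))
  have hψ₁' : ∀ i : Fin n, ∃ s : E₁, ψ₁ s = g (f (MvPolynomial.X i)) := fun i =>
    hψ₁ _ (Finset.mem_image_of_mem _ (Finset.mem_univ i))
  choose s hs using hψ₁'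
  let _ : Algebra A E₁ := ((algebraMap S E₁).comp (algebraMap A S)).toAlgebra
  have _ : IsScalarTower A S E₁ := IsScalarTower.of_algebraMap_eq (fun _ => rfl)
  let h₁ : MvPolynomial (Fin n) A →ₐ[A] E₁ := MvPolynomial.aeval s
  have hcomp : (ψ₁.restrictScalars A).comp h₁ = g.comp f := by
    apply MvPolynomial.algHom_ext
    intro i
    simp only [AlgHom.comp_apply, h₁, MvPolynomial.aeval_X]
    exact hs i
  have hkill : ∀ t ∈ Tf.image h₁, ψ₁ t = 0 := by
    intro t ht
    obtain ⟨x, hx, rfl⟩ := Finset.mem_image.mp ht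
    have h1 := DFunLike.congr_fun hcomp x
    simp only [AlgHom.comp_apply, AlgHom.restrictScalars_apply] at h1
    rw [h1]
    have hx' : x ∈ RingHom.ker f.toRingHom := hTf ▸ Ideal.subset_span hx
    have : f x = 0 := hx'
    rw [this, map_zero]
  obtain ⟨E', _, _, hE', θ, hθ⟩ := exists_nbhd_kill_finset K hC hE₁ ψ₁ (Tf.image h₁) hkill
  let _ : Algebra A E' := ((algebraMap S E').comp (algebraMap A S)).toAlgebra
  have _ : IsScalarTower A S E' := IsScalarTower.of_algebraMap_eq (fun _ => rfl)
  obtain ⟨⟨⟨ψ'⟩, -⟩⟩ := nonempty_unique_algHom C hC hE'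
  have hψ' : ψ'.comp θ = ψ₁ := algHom_eq_of_nbhd hE₁ hC.1.jac _ _
  let h' : MvPolynomial (Fin n) A →ₐ[A] E' := (θ.restrictScalars A).comp h₁
  have hker : ∀ x ∈ RingHom.ker f.toRingHom, h' x = 0 := by
    intro x hx
    have hle : RingHom.ker f.toRingHom ≤ RingHom.ker h'.toRingHom := by
      rw [← hTf, Ideal.span_le]
      intro t ht
      show h' t = 0
      exact hθ _ (Finset.mem_image_of_mem _ ht)
    exact hle hx
  let g' : R →ₐ[A] E' :=
    (Ideal.Quotient.liftₐ (RingHom.ker f.toRingHom) h' hker).comp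
      (Ideal.quotientKerAlgEquivOfSurjective hf).symm.toAlgHom
  refine ⟨E', inferInstance, inferInstance, inferInstance, inferInstance, hE', ψ', g', fun r => ?_⟩
  obtain ⟨x, rfl⟩ := hf r
  have e1 : g' (f x) = h' x := by
    show Ideal.Quotient.liftₐ (RingHom.ker f.toRingHom) h' hker
      ((Ideal.quotientKerAlgEquivOfSurjective hf).symm (f x)) = h' x
    have : (Ideal.quotientKerAlgEquivOfSurjective hf).symm (f x) =
        Ideal.Quotient.mk _ x := by
      rw [AlgEquiv.symm_apply_eq]
      rfl
    rw [this]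
    rfl
  rw [e1]
  show ψ' (θ (h₁ x)) = g (f x)
  have h2 := DFunLike.congr_fun hψ' (h₁ x)
  rw [AlgHom.comp_apply] at h2
  rw [h2]
  exact DFunLike.congr_fun hcomp x

end Groth.Agent.Lib.Helper4.HzPairBase
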