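import Mathlib
import Groth.Prelude.Def_Hens2
import Groth.Agent.S17609
import Groth.Agent.Lib.Helper4.HzPairFin2
import Groth.Agent.Lib.Helper4.HzPairEt

/-!
# Surjections of henselian finitely presented algebras that are isomorphisms modulo `I`
-/

set_option autoImplicit false
universe u

namespace Groth.Agent.Lib.Helper4.HEtApprox

open Groth.Agent.Lib.Helper4 Groth.Agent.Lib.Helper12

variable {A : Type u} [CommRing A] (I : Ideal A) [HenselianRing A I]
  {R : Type u} [CommRing R] [Algebra A R] [Algebra.FinitePresentation A R]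
  {H : Type u} [CommRing H] [Algebra R H] [Algebra A H] [IsScalarTower A R H]
  {R₀ : Type u} [CommRing R₀] [Algebra A R₀] [Algebra.FinitePresentation A R₀]
  {B : Type u} [CommRing B] [Algebra R₀ B] [Algebra A B] [IsScalarTower A R₀ B]
  [Algebra H B] [IsScalarTower A H B]

omit [HenselianRing A I] in
theorem mem_smul_top_of_mem_map {M : Type u} [CommRing M] [Algebra A M] (n : ℕ) {h : M}
    (hh : h ∈ I.map (algebraMap A M)) :
    (Ideal.Quotient.mk ((I ^ n).map (algebraMap A M)) h) ∈
      (I.map (Ideal.Quotient.mk (I ^ n))) •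
        (⊤ : Submodule (A ⧸ I ^ n) (M ⧸ (I ^ n).map (algebraMap A M))) := by
  suffices h : ∀ c : M, (Ideal.Quotient.mk ((I ^ n).map (algebraMap A M)) (c * h)) ∈
      (I.map (Ideal.Quotient.mk (I ^ n))) •
        (⊤ : Submodule (A ⧸ I ^ n) (M ⧸ (I ^ n).map (algebraMap A M))) by
    simpa using h 1
  rw [Ideal.map, ← Ideal.submodule_span_eq] at hh
  induction hh using Submodule.span_induction with
  | mem x hx =>
    obtain ⟨a, ha, rfl⟩ := hx
    intro c
    have : Ideal.Quotient.mk ((I ^ n).map (algebraMap A M)) (c * algebraMap A M a) =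
        (Ideal.Quotient.mk (I ^ n) a) • (Ideal.Quotient.mk ((I ^ n).map (algebraMap A M)) c) := by
      rw [Algebra.smul_def, mul_comm, map_mul]
      rfl
    rw [this]
    exact Submodule.smul_mem_smul (Ideal.mem_map_of_mem _ ha) Submodule.mem_top
  | zero => intro c; simp
  | add x y _ _ hx hy => intro c; rw [mul_add, map_add]; exact add_mem (hx c) (hy c)
  | smul d x _ hx =>
    intro c
    rw [smul_eq_mul, ← mul_assoc]
    exact hx (c * d)

theorem main (hH : Hens2.IsPairHenselization R (I.map (algebraMap A R)) H)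
    (hB : Hens2.IsPairHenselization R₀ (I.map (algebraMap A R₀)) B)
    (h1s : ∀ b : B, ∃ h : H, b - algebraMap H B h ∈ I.map (algebraMap A B))
    (h1i : ∀ h : H, algebraMap H B h ∈ I.map (algebraMap A B) → h ∈ I.map (algebraMap A H))
    (hflat : ∀ n : ℕ, 1 ≤ n → Module.Flat (A ⧸ I ^ n) (B ⧸ (I ^ n).map (algebraMap A B))) :
    Function.Surjective (algebraMap H B) ∧ (RingHom.ker (algebraMap H B)).FG ∧
      ∀ n : ℕ, RingHom.ker (algebraMap H B) ≤ (I ^ n).map (algebraMap A H) := by
  have hHh : HenselianRing H (I.map (algebraMap A H)) := by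
    have := hH.1
    rwa [Ideal.map_map, ← IsScalarTower.algebraMap_eq] at this
  obtain ⟨T, _, _, _, _, hfpT, hT⟩ := Groth.Agent.S17609.result A I R H hH R₀ B hB
  have hidB : (I.map (algebraMap A H)).map (algebraMap H B) = I.map (algebraMap A B) := by
    rw [Ideal.map_map, ← IsScalarTower.algebraMap_eq]
  have hsurjq : Function.Surjective
      (Ideal.quotientMap ((I.map (algebraMap A H)).map (algebraMap H B)) (algebraMap H B)
        Ideal.le_comap_map) := by
    intro y
    obtain ⟨b, rfl⟩ := Ideal.Quotient.mk_surjective y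
    obtain ⟨h, hh⟩ := h1s b
    refine ⟨Ideal.Quotient.mk _ h, ?_⟩
    rw [Ideal.quotientMap_mk]
    refine (Ideal.Quotient.eq.mpr ?_).symm
    rw [hidB]
    exact hh
  have hsurj : Function.Surjective (algebraMap H B) :=
    HzPairFin.surjective_of_quotient_surjective (I := I.map (algebraMap A H)) hT hsurjq
  have hfinq : Module.Finite H (B ⧸ (I.map (algebraMap A H)).map (algebraMap H B)) := by
    refine Module.Finite.of_surjective (Algebra.linearMap H _) ?_
    intro y
    obtain ⟨b, rfl⟩ := Ideal.Quotient.mk_surjective y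
    obtain ⟨h, rfl⟩ := hsurj b
    exact ⟨h, rfl⟩
  obtain ⟨-, hfpB⟩ := HzPairFin.finite_and_finitePresentation (I := I.map (algebraMap A H)) hT hfinq
  refine ⟨hsurj, ?_, ?_⟩
  · have := Algebra.FinitePresentation.ker_fG_of_surjective (Algebra.ofId H B) hsurj
    exact this
  · intro n
    rcases Nat.eq_zero_or_pos n with rfl | hn
    · rw [pow_zero, Ideal.one_eq_top, Ideal.map_top]
      exact le_top
    have _ := hflat n hn
    let f : (H ⧸ (I ^ n).map (algebraMap A H)) →ₗ[A ⧸ I ^ n] (B ⧸ (I ^ n).map (algebraMap A B)) :=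
      (HzPairEt.truncMap A I H B n).toLinearMap
    have hf : ∀ h : H, f (Ideal.Quotient.mk _ h) = Ideal.Quotient.mk _ (algebraMap H B h) :=
      fun h => HzPairEt.truncMap_mk A I H B n h
    have hfsurj : Function.Surjective f := by
      intro y
      obtain ⟨b, rfl⟩ := Ideal.Quotient.mk_surjective y
      obtain ⟨h, rfl⟩ := hsurj b
      exact ⟨Ideal.Quotient.mk _ h, hf h⟩
    have hker := LinearMap.ker_inf_smul_top_eq_smul_of_flat
      (I.map (Ideal.Quotient.mk (I ^ n))) f hfsurj
    have hle : LinearMap.ker f ≤ (I.map (Ideal.Quotient.mk (I ^ n))) •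
        (⊤ : Submodule (A ⧸ I ^ n) (H ⧸ (I ^ n).map (algebraMap A H))) := by
      intro y hy
      obtain ⟨h, rfl⟩ := Ideal.Quotient.mk_surjective y
      rw [LinearMap.mem_ker, hf, Ideal.Quotient.eq_zero_iff_mem] at hy
      have h2 : (I ^ n).map (algebraMap A B) ≤ I.map (algebraMap A B) :=
        Ideal.map_mono (Ideal.pow_le_self (Nat.pos_iff_ne_zero.mp hn))
      exact mem_smul_top_of_mem_map I n (h1i h (h2 hy))
    have hK : LinearMap.ker f = (I.map (Ideal.Quotient.mk (I ^ n))) • LinearMap.ker f := by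
      rw [← hker]
      exact (inf_eq_left.mpr hle).symm
    have hpow : ∀ k : ℕ, LinearMap.ker f = (I.map (Ideal.Quotient.mk (I ^ n))) ^ k • LinearMap.ker f := by
      intro k
      induction k with
      | zero => rw [pow_zero, Ideal.one_eq_top, Submodule.top_smul]
      | succ k ih => rw [pow_succ, Submodule.mul_smul, ← hK, ← ih]
    have hbot : LinearMap.ker f = ⊥ := by
      rw [hpow n, ← Ideal.map_pow, Ideal.map_quotient_self, Submodule.bot_smul]
    intro x hx
    have hx' : algebraMap H B x = 0 := hx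
    have : Ideal.Quotient.mk ((I ^ n).map (algebraMap A H)) x ∈ LinearMap.ker f := by
      rw [LinearMap.mem_ker, hf, hx', map_zero]
    rw [hbot, Submodule.mem_bot, Ideal.Quotient.eq_zero_iff_mem] at this
    exact this

end Groth.Agent.Lib.Helper4.HEtApprox
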