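import Mathlib
import Groth.Agent.Lib.Helper4.HzPairEt

/-!
# h-formally smooth / étale maps versus smooth / étale truncations
-/

set_option autoImplicit false
universe u

namespace Groth.Agent.Lib.Helper4.HForm

section Res

variable {A : Type u} [CommRing A] (K : Ideal A) {B : Type u} [CommRing B] [Algebra A B]
variable (C : Type u) [CommRing C] [Algebra A C] [Algebra (A ⧸ K) C] [IsScalarTower A (A ⧸ K) C]

/-- restriction of an `A/K`-algebra map out of `B/KB` to `B`. -/
noncomputable def res (f : (B ⧸ K.map (algebraMap A B)) →ₐ[A ⧸ K] C) : B →ₐ[A] C :=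
  (f.restrictScalars A).comp (Ideal.Quotient.mkₐ A (K.map (algebraMap A B)))

theorem res_apply (f : (B ⧸ K.map (algebraMap A B)) →ₐ[A ⧸ K] C) (b : B) :
    res K C f b = f (Ideal.Quotient.mk _ b) := rfl

theorem res_injective : Function.Injective (res (B := B) K C) := by
  intro f g hfg
  ext x
  obtain ⟨b, rfl⟩ := Ideal.Quotient.mk_surjective x
  exact DFunLike.congr_fun hfg b

theorem algebraMap_eq_zero_of_mem {a : A} (ha : a ∈ K) : algebraMap A C a = 0 := by
  rw [IsScalarTower.algebraMap_apply A (A ⧸ K) C, Ideal.Quotient.algebraMap_eq,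
    Ideal.Quotient.eq_zero_iff_mem.mpr ha, map_zero]

theorem res_surjective : Function.Surjective (res (B := B) K C) := by
  intro v
  have hv : K.map (algebraMap A B) ≤ RingHom.ker v.toRingHom := by
    rw [Ideal.map_le_iff_le_comap]
    intro a ha
    rw [Ideal.mem_comap, RingHom.mem_ker]
    show v (algebraMap A B a) = 0
    rw [v.commutes, algebraMap_eq_zero_of_mem K C ha]
  let v1 : (B ⧸ K.map (algebraMap A B)) →ₐ[A] C :=
    Ideal.Quotient.liftₐ (K.map (algebraMap A B)) v (fun x hx => hv hx)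
  refine ⟨AlgHom.extendScalarsOfSurjective (R := A) (S := A ⧸ K) Ideal.Quotient.mk_surjective v1, ?_⟩
  ext b
  rfl

theorem res_comp {E : Type u} [CommRing E] [Algebra A E] [Algebra (A ⧸ K) E]
    [IsScalarTower A (A ⧸ K) E] (p : E →ₐ[A ⧸ K] C)
    (f : (B ⧸ K.map (algebraMap A B)) →ₐ[A ⧸ K] E) :
    res K C (p.comp f) = (p.restrictScalars A).comp (res K E f) := rfl

end Res

section Main

variable {A : Type u} [CommRing A] (I : Ideal A) (B : Type u) [CommRing B] [Algebra A B]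

/-- the existence part of the h-formal lifting property. -/
def HSmooth : Prop :=
  ∀ (E C : Type u) [CommRing E] [CommRing C] [Algebra A E] [Algebra A C] (N : ℕ), 1 ≤ N →
    (I ^ N).map (algebraMap A E) = ⊥ → (I ^ N).map (algebraMap A C) = ⊥ →
    ∀ (p : E →ₐ[A] C), Function.Surjective p → (∃ M : ℕ, 1 ≤ M ∧ RingHom.ker p ^ M = ⊥) →
    ∀ u : B →ₐ[A] C, ∃ v : B →ₐ[A] E, p.comp v = u

/-- the unique existence h-formal lifting property. -/
def HEtale : Prop :=
  ∀ (E C : Type u) [CommRing E] [CommRing C] [Algebra A E] [Algebra A C] (N : ℕ), 1 ≤ N →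
    (I ^ N).map (algebraMap A E) = ⊥ → (I ^ N).map (algebraMap A C) = ⊥ →
    ∀ (p : E →ₐ[A] C), Function.Surjective p → (∃ M : ℕ, 1 ≤ M ∧ RingHom.ker p ^ M = ⊥) →
    ∀ u : B →ₐ[A] C, ∃! v : B →ₐ[A] E, p.comp v = u

variable {I B}

theorem formallySmooth_of_hSmooth (H : HSmooth I B) (r : ℕ) (hr : 1 ≤ r) :
    Algebra.FormallySmooth (A ⧸ I ^ r) (B ⧸ (I ^ r).map (algebraMap A B)) := by
  refine Algebra.FormallySmooth.of_comp_surjective fun C _ _ J hJ f => ?_
  let _ : Algebra A C := ((algebraMap (A ⧸ I ^ r) C).comp (Ideal.Quotient.mk (I ^ r))).toAlgebra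
  have _ : IsScalarTower A (A ⧸ I ^ r) C := IsScalarTower.of_algebraMap_eq (fun _ => rfl)
  have hE : (I ^ r).map (algebraMap A C) = ⊥ := by
    rw [eq_bot_iff, Ideal.map_le_iff_le_comap]
    intro a ha
    rw [Ideal.mem_comap, Ideal.mem_bot]
    exact algebraMap_eq_zero_of_mem (I ^ r) C ha
  have hC : (I ^ r).map (algebraMap A (C ⧸ J)) = ⊥ := by
    rw [eq_bot_iff, Ideal.map_le_iff_le_comap]
    intro a ha
    rw [Ideal.mem_comap, Ideal.mem_bot]
    exact algebraMap_eq_zero_of_mem (I ^ r) (C ⧸ J) ha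
  obtain ⟨v, hv⟩ := H C (C ⧸ J) r hr hE hC (Ideal.Quotient.mkₐ A J)
    (Ideal.Quotient.mkₐ_surjective A J) ⟨2, by norm_num, by
      have : RingHom.ker (Ideal.Quotient.mkₐ A J) = J := Ideal.Quotient.mkₐ_ker A J
      rw [this]; exact hJ⟩ (res (I ^ r) (C ⧸ J) f)
  obtain ⟨v', rfl⟩ := res_surjective (I ^ r) C v
  refine ⟨v', ?_⟩
  apply res_injective (I ^ r) (C ⧸ J)
  rw [res_comp]
  exact hv

theorem hSmooth_of_formallySmooth
    (H : ∀ r : ℕ, 1 ≤ r → Algebra.FormallySmooth (A ⧸ I ^ r) (B ⧸ (I ^ r).map (algebraMap A B))) :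
    HSmooth I B := by
  intro E C _ _ _ _ N hN hE hC p hp ⟨M, _, hM⟩ u
  have := H N hN
  let _ : Algebra (A ⧸ I ^ N) E := (Ideal.Quotient.lift (I ^ N) (algebraMap A E) (fun a ha => by
    have : algebraMap A E a ∈ (I ^ N).map (algebraMap A E) := Ideal.mem_map_of_mem _ ha
    rwa [hE, Ideal.mem_bot] at this)).toAlgebra
  have _ : IsScalarTower A (A ⧸ I ^ N) E := IsScalarTower.of_algebraMap_eq (fun _ => rfl)
  let _ : Algebra (A ⧸ I ^ N) C := (Ideal.Quotient.lift (I ^ N) (algebraMap A C) (fun a ha => by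
    have : algebraMap A C a ∈ (I ^ N).map (algebraMap A C) := Ideal.mem_map_of_mem _ ha
    rwa [hC, Ideal.mem_bot] at this)).toAlgebra
  have _ : IsScalarTower A (A ⧸ I ^ N) C := IsScalarTower.of_algebraMap_eq (fun _ => rfl)
  let p' : E →ₐ[A ⧸ I ^ N] C :=
    AlgHom.extendScalarsOfSurjective (R := A) (S := A ⧸ I ^ N) Ideal.Quotient.mk_surjective p
  obtain ⟨f, rfl⟩ := res_surjective (I ^ N) C u
  have hnil : IsNilpotent (RingHom.ker (p' : E →+* C)) := ⟨M, hM⟩
  refine ⟨res (I ^ N) E (Algebra.FormallySmooth.liftOfSurjective f p' hp hnil), ?_⟩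
  have := Algebra.FormallySmooth.comp_liftOfSurjective f p' hp hnil
  conv_rhs => rw [← this]
  rfl

theorem formallyEtale_of_hEtale (H : HEtale I B) (r : ℕ) (hr : 1 ≤ r) :
    Algebra.FormallyEtale (A ⧸ I ^ r) (B ⧸ (I ^ r).map (algebraMap A B)) := by
  have hS : HSmooth I B := fun E C _ _ _ _ N hN hE hC p hp hM u =>
    (H E C N hN hE hC p hp hM u).exists
  have := formallySmooth_of_hSmooth hS r hr
  rw [Algebra.FormallyEtale.iff_formallyUnramified_and_formallySmooth]
  refine ⟨?_, this⟩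
  rw [Algebra.FormallyUnramified.iff_comp_injective]
  intro C _ _ J hJ f g hfg
  let _ : Algebra A C := ((algebraMap (A ⧸ I ^ r) C).comp (Ideal.Quotient.mk (I ^ r))).toAlgebra
  have _ : IsScalarTower A (A ⧸ I ^ r) C := IsScalarTower.of_algebraMap_eq (fun _ => rfl)
  have hE : (I ^ r).map (algebraMap A C) = ⊥ := by
    rw [eq_bot_iff, Ideal.map_le_iff_le_comap]
    intro a ha
    rw [Ideal.mem_comap, Ideal.mem_bot]
    exact algebraMap_eq_zero_of_mem (I ^ r) C ha
  have hC : (I ^ r).map (algebraMap A (C ⧸ J)) = ⊥ := by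
    rw [eq_bot_iff, Ideal.map_le_iff_le_comap]
    intro a ha
    rw [Ideal.mem_comap, Ideal.mem_bot]
    exact algebraMap_eq_zero_of_mem (I ^ r) (C ⧸ J) ha
  obtain ⟨v, -, hv⟩ := H C (C ⧸ J) r hr hE hC (Ideal.Quotient.mkₐ A J)
    (Ideal.Quotient.mkₐ_surjective A J) ⟨2, by norm_num, by
      have : RingHom.ker (Ideal.Quotient.mkₐ A J) = J := Ideal.Quotient.mkₐ_ker A J
      rw [this]; exact hJ⟩ (res (I ^ r) (C ⧸ J) ((Ideal.Quotient.mkₐ _ J).comp f))
  apply res_injective (I ^ r) C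
  rw [hv (res (I ^ r) C f) rfl, hv (res (I ^ r) C g) (by rw [hfg]; rfl)]

theorem hEtale_of_formallyEtale
    (H : ∀ r : ℕ, 1 ≤ r → Algebra.FormallyEtale (A ⧸ I ^ r) (B ⧸ (I ^ r).map (algebraMap A B))) :
    HEtale I B := by
  intro E C _ _ _ _ N hN hE hC p hp hM u
  have hS : HSmooth I B := hSmooth_of_formallySmooth (fun r hr => by
    have := H r hr
    infer_instance)
  obtain ⟨v, hv⟩ := hS E C N hN hE hC p hp hM u
  refine ⟨v, hv, fun w hw => ?_⟩
  obtain ⟨M, _, hM⟩ := hM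
  have := H N hN
  let _ : Algebra (A ⧸ I ^ N) E := (Ideal.Quotient.lift (I ^ N) (algebraMap A E) (fun a ha => by
    have : algebraMap A E a ∈ (I ^ N).map (algebraMap A E) := Ideal.mem_map_of_mem _ ha
    rwa [hE, Ideal.mem_bot] at this)).toAlgebra
  have _ : IsScalarTower A (A ⧸ I ^ N) E := IsScalarTower.of_algebraMap_eq (fun _ => rfl)
  obtain ⟨v', rfl⟩ := res_surjective (I ^ N) E v
  obtain ⟨w', rfl⟩ := res_surjective (I ^ N) E w
  congr 1
  refine Algebra.FormallyUnramified.ext' (R := A ⧸ I ^ N) p.toRingHom ⟨M, hM⟩ w' v' ?_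
  intro x
  obtain ⟨b, rfl⟩ := Ideal.Quotient.mk_surjective x
  have := DFunLike.congr_fun (hw.trans hv.symm) b
  exact this

end Main

section Hz

variable {A : Type u} [CommRing A] {I : Ideal A}
  {R : Type u} [CommRing R] [Algebra A R]
  {B : Type u} [CommRing B] [Algebra R B] [Algebra A B] [IsScalarTower A R B]

theorem fp_trunc [Algebra.FinitePresentation A R]
    (hB : Hens2.IsPairHenselization R (I.map (algebraMap A R)) B) (r : ℕ) :
    Algebra.FinitePresentation (A ⧸ I ^ r) (B ⧸ (I ^ r).map (algebraMap A B)) := by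
  have h1 : Algebra.FinitePresentation (A ⧸ I ^ r) (R ⧸ (I ^ r).map (algebraMap A R)) :=
    Algebra.FinitePresentation.equiv
      (Algebra.TensorProduct.quotIdealMapEquivQuotTensor R (I ^ r)).symm
  exact Algebra.FinitePresentation.equiv
    (AlgEquiv.ofBijective _ (HzPairEt.truncMap_bijective hB r))

end Hz

end Groth.Agent.Lib.Helper4.HForm
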