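import Mathlib
import Groth.Prelude.Def_ProEtS
import Groth.Agent.Lib.Helper4.HSch8
import Groth.Agent.Lib.Helper4.PELan2

/-!
# The unit `F → i_* i⁻¹ F` on good objects, for sheaves of sets
-/

set_option autoImplicit false
set_option linter.style.haveILetI false
set_option linter.unusedSectionVars false
universe u

namespace Groth.Agent.Lib.Helper4.HSch

open CategoryTheory CategoryTheory.Limits AlgebraicGeometry Opposite Groth.Agent.Lib.Helper4.PE

variable {X Z : Scheme.{u}} (i : Z ⟶ X)

/-- sheaves of sets on the pro-étale site -/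
abbrev ShT (X : Scheme.{u}) : Type (u + 2) := Sheaf (Scheme.ProEt.topology X) (Type (u + 1))

/-- pullback of sheaves of sets -/
noncomputable abbrev pullT [ProEtS.PCont i] : ShT X ⥤ ShT Z :=
  (ProEtS.bcP i).sheafPullback (Type (u + 1)) (Scheme.ProEt.topology X) (Scheme.ProEt.topology Z)

/-- pushforward of sheaves of sets -/
noncomputable abbrev pushT [ProEtS.PCont i] : ShT Z ⥤ ShT X :=
  (ProEtS.bcP i).sheafPushforwardContinuous (Type (u + 1)) (Scheme.ProEt.topology X)
    (Scheme.ProEt.topology Z)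

/-- the adjunction -/
noncomputable abbrev adjT [ProEtS.PCont i] : pullT i ⊣ pushT i :=
  (ProEtS.bcP i).sheafAdjunctionContinuous (Type (u + 1)) (Scheme.ProEt.topology X)
    (Scheme.ProEt.topology Z)

/-- the constructed adjunction -/
noncomputable abbrev adjT' [ProEtS.PCont i] :
    Functor.sheafPullbackConstruction.sheafPullback (ProEtS.bcP i) (Type (u + 1))
      (Scheme.ProEt.topology X) (Scheme.ProEt.topology Z) ⊣ pushT i :=
  Functor.sheafPullbackConstruction.sheafAdjunctionContinuous (ProEtS.bcP i) (Type (u + 1))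
    (Scheme.ProEt.topology X) (Scheme.ProEt.topology Z)

theorem unitT'_hom [ProEtS.PCont i] (F : ShT X) : ((adjT' i).unit.app F).hom =
    (ProEtS.bcP i).op.lanUnit.app F.obj ≫
      Functor.whiskerLeft (ProEtS.bcP i).op
        (toSheafify (Scheme.ProEt.topology Z) ((ProEtS.bcP i).op.lan.obj F.obj)) := by
  have h := Adjunction.map_restrictFullyFaithful_unit_app
    (L := Functor.sheafPullbackConstruction.sheafPullback (ProEtS.bcP i) (Type (u + 1))
    (Scheme.ProEt.topology X) (Scheme.ProEt.topology Z)) (R := pushT i)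
    (adj := ((ProEtS.bcP i).op.lanAdjunction (Type (u + 1))).comp
      (sheafificationAdjunction (Scheme.ProEt.topology Z) (Type (u + 1))))
    (hiC := fullyFaithfulSheafToPresheaf (Scheme.ProEt.topology X) (Type (u + 1)))
    (hiD := Functor.FullyFaithful.id _) (comm1 := Iso.refl _) (comm2 := Iso.refl _) F
  simp at h
  exact h

variable [IsClosedImmersion i]

set_option maxHeartbeats 1000000 in
theorem Good.lanUnit_bijectiveT (F : ShT X) {W : X.ProEt} (hG : Good i W) :
    Function.Bijective ((PELan.η i F.obj).app (op W)) := by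
  have hrep : ∀ s, (PELan.η i F.obj).app (op W) s = PELan.rep i F.obj W (𝟙 _) s := by
    intro s
    unfold PELan.rep
    rw [op_id, (PELan.P i F.obj).map_id]
    rfl
  have hone : ∀ b : W ⟶ W, (ProEtS.bcP i).map b = 𝟙 _ → b = 𝟙 W := by
    intro b hb
    obtain ⟨u, -, hu⟩ := hG.existsUnique_lift i W (𝟙 _)
    rw [hu b hb, hu (𝟙 W) ((ProEtS.bcP i).map_id W)]
  constructor
  · intro s s' h
    rw [hrep, hrep] at h
    obtain ⟨T'', b, p, p', hp, hp', hs⟩ := (PELan.rep_eq_iff i F.obj _ _ _ _ _ _).mp h
    obtain ⟨bt, hbt, -⟩ := hG.existsUnique_lift i T'' b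
    have h1 : bt ≫ p = 𝟙 W := hone _ (by rw [Functor.map_comp, hbt, hp])
    have h2 : bt ≫ p' = 𝟙 W := hone _ (by rw [Functor.map_comp, hbt, hp'])
    have e1 : F.obj.map bt.op (F.obj.map p.op s) = s := by
      change (F.obj.map p.op ≫ F.obj.map bt.op) s = s
      rw [← Functor.map_comp, ← op_comp, h1, op_id, F.obj.map_id]
      rfl
    have e2 : F.obj.map bt.op (F.obj.map p'.op s') = s' := by
      change (F.obj.map p'.op ≫ F.obj.map bt.op) s' = s'
      rw [← Functor.map_comp, ← op_comp, h2, op_id, F.obj.map_id]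
      rfl
    rw [← e1, ← e2, hs]
  · intro x
    obtain ⟨T, a, s, rfl⟩ := PELan.exists_rep i F.obj x
    obtain ⟨at', hat, -⟩ := hG.existsUnique_lift i T a
    refine ⟨F.obj.map at'.op s, ?_⟩
    rw [hrep, ← PELan.rep_comp, hat, Category.id_comp]

end Groth.Agent.Lib.Helper4.HSch
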