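import Mathlib
import Groth.Prelude.Def_ProEtS
import Groth.Agent.Lib.Helper4.HSchT1

/-!
# The unit `F → i_* i⁻¹ F` on good objects, for sheaves of sets (continued)
-/

set_option autoImplicit false
set_option linter.style.haveILetI false
set_option linter.unusedSectionVars false
universe u

namespace Groth.Agent.Lib.Helper4.HSch

open CategoryTheory CategoryTheory.Limits AlgebraicGeometry Opposite Groth.Agent.Lib.Helper4.PE

variable {X Z : Scheme.{u}} (i : Z ⟶ X) [IsClosedImmersion i]

set_option maxHeartbeats 1000000 in
/-- (U) for good objects, sheaves of sets -/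
theorem Good.unit_bijectiveT [ProEtS.PCont i] (F : ShT X) {W : X.ProEt} (hG : Good i W) :
    Function.Bijective (((adjT i).unit.app F).hom.app (op W)) := by
  haveI := hG.affZ
  have hVWC : ProEtS.IsWC ((ProEtS.bcP i).obj W) := isWC_of_isWContractible _ hG.wcZ
  have h1 : Function.Bijective (((adjT' i).unit.app F).hom.app (op W)) := by
    rw [unitT'_hom]
    have h2 := hG.lanUnit_bijectiveT i F
    have h3 := PEGlue.toSheafify_bijective_of_glueT _ ((ProEtS.bcP i).obj W) hVWC
      (PELan.glueT_lan i F ((ProEtS.bcP i).obj W))
    exact h3.comp h2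
  have h4 := Adjunction.unit_leftAdjointUniq_hom_app (adjT i) (adjT' i) F
  have h5 : ((adjT' i).unit.app F).hom.app (op W) =
      ((adjT i).unit.app F).hom.app (op W) ≫
        ((pushT i).map (((adjT i).leftAdjointUniq (adjT' i)).hom.app F)).hom.app
          (op W) := by
    rw [← h4]
    rfl
  have h6 : Function.Bijective (((pushT i).map
      (((adjT i).leftAdjointUniq (adjT' i)).hom.app F)).hom.app (op W)) := by
    have : IsIso (((pushT i).map
      (((adjT i).leftAdjointUniq (adjT' i)).hom.app F)).hom.app (op W)) := by
      have h7 : IsIso ((pushT i).map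
        (((adjT i).leftAdjointUniq (adjT' i)).hom.app F)) := inferInstance
      have h8 : IsIso ((sheafToPresheaf _ _).map ((pushT i).map
        (((adjT i).leftAdjointUniq (adjT' i)).hom.app F))) := inferInstance
      exact (NatIso.isIso_app_of_isIso _ _)
    exact (isIso_iff_bijective _).mp this
  rw [h5] at h1
  have h9 : Function.Bijective ((((pushT i).map
      (((adjT i).leftAdjointUniq (adjT' i)).hom.app F)).hom.app (op W)) ∘
      (((adjT i).unit.app F).hom.app (op W))) := h1
  exact ⟨(Function.Injective.of_comp_iff h6.1 _).mp h9.1,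
    (Function.Surjective.of_comp_iff' h6 _).mp h9.2⟩

end Groth.Agent.Lib.Helper4.HSch
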