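import Mathlib
import Groth.Prelude.Def_ProEtS
import Groth.Agent.Lib.Helper4.HSchT2
import Groth.Agent.Lib.Helper4.HBasis3

/-!
# The category of good objects as a dense subsite of the pro-étale site of the closed subscheme
-/

set_option autoImplicit false
set_option linter.style.haveILetI false
set_option linter.unusedSectionVars false
universe u

namespace Groth.Agent.Lib.Helper4.HSch

open CategoryTheory CategoryTheory.Limits AlgebraicGeometry Opposite Groth.Agent.Lib.Helper4.PE

variable {X Z : Scheme.{u}} (i : Z ⟶ X) [IsClosedImmersion i]

/-- the property of being good -/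
def goodProp : ObjectProperty X.ProEt := fun W => Good i W

/-- the category of good objects -/
abbrev GoodCat := (goodProp i).FullSubcategory

/-- inclusion of the good objects -/
abbrev gι : GoodCat i ⥤ X.ProEt := (goodProp i).ι

/-- restriction of good objects to the closed subscheme -/
noncomputable abbrev gb : GoodCat i ⥤ Z.ProEt := gι i ⋙ ProEtS.bcP i

instance : (gb i).Full where
  map_surjective {W T} a := by
    obtain ⟨ã, h, -⟩ := W.property.existsUnique_lift i T.obj a
    exact ⟨ObjectProperty.homMk ã, h⟩

instance : (gb i).Faithful where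
  map_injective {W T} a a' h := by
    obtain ⟨ã, -, hu⟩ := W.property.existsUnique_lift i T.obj ((gb i).map a)
    apply ObjectProperty.hom_ext
    rw [hu a.hom rfl, hu a'.hom h.symm]

instance : (gb i).IsCoverDense (Scheme.ProEt.topology Z) where
  is_cover V := by
    obtain ⟨κ, W, g, hcov, hG⟩ := exists_good_cover i V
    refine (Scheme.ProEt.topology Z).superset_covering ?_ hcov
    rintro Y _ ⟨T, a, _, ⟨k⟩, rfl⟩
    exact ⟨⟨⟨W k, hG k⟩, a, g k, rfl⟩⟩

end Groth.Agent.Lib.Helper4.HSch
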