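import Mathlib
import Groth.Prelude.Def_ProEtS
import Groth.Agent.Lib.Helper4.HSchT3

/-!
# The left adjoint of `i⁻¹` on pro-étale sheaves of sets for a closed immersion `i`
-/

set_option autoImplicit false
set_option linter.style.haveILetI false
set_option linter.unusedSectionVars false
universe u

namespace Groth.Agent.Lib.Helper4.HSch

open CategoryTheory CategoryTheory.Limits AlgebraicGeometry Opposite Groth.Agent.Lib.Helper4.PE

variable {X Z : Scheme.{u}} (i : Z ⟶ X) [IsClosedImmersion i] [ProEtS.PCont i]

/-- restriction of the unit to good objects -/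
noncomputable def uIso (B : ShT X) :
    (gι i).op ⋙ B.obj ≅ (gb i).op ⋙ ((pullT i).obj B).obj :=
  NatIso.ofComponents
    (fun W => Equiv.toIso (Equiv.ofBijective (((adjT i).unit.app B).hom.app (op W.unop.obj))
      (W.unop.property.unit_bijectiveT i B)))
    (by
      intro W W' f
      exact ((adjT i).unit.app B).hom.naturality f.unop.hom.op)

theorem uIso_hom_app (B : ShT X) (W : (GoodCat i)ᵒᵖ) :
    (uIso i B).hom.app W = ((adjT i).unit.app B).hom.app (op W.unop.obj) := rfl

theorem uIso_naturality {B B' : ShT X} (g : B ⟶ B') :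
    Functor.whiskerLeft (gι i).op g.hom ≫ (uIso i B').hom =
      (uIso i B).hom ≫ Functor.whiskerLeft (gb i).op ((pullT i).map g).hom := by
  ext W x
  have h1 := (adjT i).unit.naturality g
  have h2 := congrArg (fun m => m.hom.app (op W.unop.obj) x) h1
  exact h2

/-- the presheaf whose sheafification is `i_! A` -/
noncomputable abbrev Qpre (A : ShT Z) : X.ProEtᵒᵖ ⥤ Type (u + 1) :=
  (gι i).op.lan.obj ((gb i).op ⋙ A.obj)

/-- the object `i_! A` -/
noncomputable abbrev Lobj (A : ShT Z) : ShT X :=
  (presheafToSheaf (Scheme.ProEt.topology X) (Type (u + 1))).obj (Qpre i A)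

/-- morphisms of sheaves are morphisms of the underlying presheaves -/
def sheafHomEquiv {C : Type*} [Category C] {J : GrothendieckTopology C} {A : Type*} [Category A]
    (F G : Sheaf J A) : (F.obj ⟶ G.obj) ≃ (F ⟶ G) where
  toFun f := ⟨f⟩
  invFun f := f.hom
  left_inv _ := rfl
  right_inv _ := rfl

/-- the hom-set bijection -/
noncomputable def homEquivL (A : ShT Z) (B : ShT X) :
    (Lobj i A ⟶ B) ≃ (A ⟶ (pullT i).obj B) :=
  ((sheafificationAdjunction (Scheme.ProEt.topology X) (Type (u + 1))).homEquiv (Qpre i A) B).trans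
    ((((gι i).op.lanAdjunction (Type (u + 1))).homEquiv ((gb i).op ⋙ A.obj) B.obj).trans
      ((uIso i B).homToEquiv.trans
        ((Functor.IsCoverDense.restrictHomEquivHom (G := gb i) (ℱ := A.obj)
          (ℱ' := (pullT i).obj B)).trans (sheafHomEquiv A ((pullT i).obj B)))))

theorem homEquivL_naturality (A : ShT Z) {B B' : ShT X} (g : B ⟶ B') (h : Lobj i A ⟶ B) :
    homEquivL i A B' (h ≫ g) = homEquivL i A B h ≫ (pullT i).map g := by
  unfold homEquivL
  simp only [Equiv.trans_apply]
  rw [Adjunction.homEquiv_naturality_right, Adjunction.homEquiv_naturality_right]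
  apply Sheaf.hom_ext
  change Functor.IsCoverDense.restrictHomEquivHom (G := gb i) _ =
    Functor.IsCoverDense.restrictHomEquivHom (G := gb i) _ ≫ ((pullT i).map g).hom
  rw [← Functor.IsCoverDense.restrictHomEquivHom_naturality_right]
  congr 1
  change (_ ≫ Functor.whiskerLeft (gι i).op g.hom) ≫ (uIso i B').hom = _
  rw [Category.assoc, uIso_naturality]
  rfl

theorem isRightAdjoint_pullT : (pullT i).IsRightAdjoint :=
  (Adjunction.adjunctionOfEquivLeft (fun A B => homEquivL i A B)
    (fun A B B' g h => homEquivL_naturality i A g h)).isRightAdjoint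

end Groth.Agent.Lib.Helper4.HSch
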