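import Mathlib

/-!
# Elements of the base in principal ideals of an integral extension domain
-/

set_option autoImplicit false
set_option linter.unusedSectionVars false
universe u
open IsLocalRing TensorProduct

namespace Groth.Agent.Lib.Helper4.HensExc

/-- In a domain `T` integral over `A`, every non-zero principal ideal contains the image of an
element of `A` which is non-zero in `T`. -/
theorem exists_algebraMap_eq_mul {A T : Type*} [CommRing A] [CommRing T] [IsDomain T]
    [Algebra A T] (e : T) (he : e ≠ 0) (hint : IsIntegral A e) :
    ∃ a : A, algebraMap A T a ≠ 0 ∧ ∃ s : T, algebraMap A T a = e * s := by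
  have key : ∀ n : ℕ, ∀ P : Polynomial A, P.natDegree ≤ n →
      (∃ i, algebraMap A T (P.coeff i) ≠ 0) → Polynomial.aeval e P = 0 →
      ∃ a : A, algebraMap A T a ≠ 0 ∧ ∃ s : T, algebraMap A T a = e * s := by
    intro n
    induction n with
    | zero =>
      intro P hdeg ⟨i, hi⟩ hP
      exfalso
      rw [Polynomial.eq_C_of_natDegree_le_zero hdeg] at hP hi
      rw [Polynomial.aeval_C] at hP
      rw [Polynomial.coeff_C] at hi
      split_ifs at hi with h
      · exact hi hP
      · exact hi (map_zero _)
    | succ n ih =>
      intro P hdeg ⟨i, hi⟩ hP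
      have hdecomp : Polynomial.aeval e P =
          Polynomial.aeval e P.divX * e + algebraMap A T (P.coeff 0) := by
        conv_lhs => rw [← Polynomial.divX_mul_X_add P]
        rw [map_add, map_mul, Polynomial.aeval_X, Polynomial.aeval_C]
      by_cases h0 : algebraMap A T (P.coeff 0) = 0
      · have h1 : Polynomial.aeval e P.divX * e = 0 := by
          rw [hdecomp, h0, add_zero] at hP
          exact hP
        have h2 : Polynomial.aeval e P.divX = 0 := (mul_eq_zero.mp h1).resolve_right he
        refine ih P.divX ?_ ?_ h2
        · rw [Polynomial.natDegree_divX_eq_natDegree_tsub_one]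
          omega
        · cases i with
          | zero => exact absurd h0 hi
          | succ j => exact ⟨j, by rw [Polynomial.coeff_divX]; exact hi⟩
      · refine ⟨P.coeff 0, h0, -Polynomial.aeval e P.divX, ?_⟩
        rw [hdecomp] at hP
        have : algebraMap A T (P.coeff 0) = -(Polynomial.aeval e P.divX * e) :=
          eq_neg_of_add_eq_zero_right hP
        rw [this]
        ring
  obtain ⟨P, hPm, hP⟩ := hint
  refine key P.natDegree P le_rfl ⟨P.natDegree, ?_⟩ hP
  rw [Polynomial.Monic.coeff_natDegree hPm, map_one]
  exact one_ne_zero

end Groth.Agent.Lib.Helper4.HensExc
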