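import Mathlib
import Groth.Agent.Lib.Helper4.HensExc1
import Groth.Agent.Lib.Helper18.Nag9

/-!
# The intersection of a finitely generated subfield with an integral extension domain
-/

set_option autoImplicit false
set_option linter.unusedSectionVars false
universe u
open IsLocalRing TensorProduct

namespace Groth.Agent.Lib.Helper4.HensExc

section Inter

variable {A T K : Type u} [CommRing A] [CommRing T] [IsDomain T] [Algebra A T]
  [Algebra.IsIntegral A T] [Field K] [Algebra T K] [IsFractionRing T K] [Algebra A K]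
  [IsScalarTower A T K] (t : Finset K) (D' : Subalgebra A T)
  (hD' : (D' : Set T) = (algebraMap T K) ⁻¹'
    (Subfield.closure (Set.range (algebraMap A K) ∪ (t : Set K)) : Set K))

include hD' in
theorem mem_iff (x : T) : x ∈ D' ↔
    algebraMap T K x ∈ Subfield.closure (Set.range (algebraMap A K) ∪ (t : Set K)) := by
  have : x ∈ (D' : Set T) ↔ x ∈ (algebraMap T K) ⁻¹'
      (Subfield.closure (Set.range (algebraMap A K) ∪ (t : Set K)) : Set K) := by rw [hD']
  exact this

include hD' in
/-- Every element of the subfield is a quotient of elements of `D'`. -/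
theorem exists_frac (l : K)
    (hl : l ∈ Subfield.closure (Set.range (algebraMap A K) ∪ (t : Set K))) :
    ∃ a ∈ D', ∃ b ∈ D', algebraMap T K b ≠ 0 ∧ l * algebraMap T K b = algebraMap T K a := by
  obtain ⟨e₁, e₂, rfl⟩ := IsLocalization.exists_mk'_eq (nonZeroDivisors T) l
  have he₂ : (e₂ : T) ≠ 0 := nonZeroDivisors.ne_zero e₂.2
  obtain ⟨a₂, ha₂, s, hs⟩ := exists_algebraMap_eq_mul (A := A) (e₂ : T) he₂
    (Algebra.IsIntegral.isIntegral _)
  have hinj : Function.Injective (algebraMap T K) := IsFractionRing.injective T K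
  have h1 : IsLocalization.mk' K e₁ e₂ * algebraMap T K (algebraMap A T a₂) =
      algebraMap T K (e₁ * s) := by
    rw [hs, map_mul, ← mul_assoc, IsLocalization.mk'_spec, map_mul]
  refine ⟨e₁ * s, ?_, algebraMap A T a₂, D'.algebraMap_mem a₂, ?_, h1⟩
  · rw [mem_iff t D' hD', ← h1]
    refine Subfield.mul_mem _ hl (Subfield.subset_closure (Or.inl ⟨a₂, ?_⟩))
    rw [IsScalarTower.algebraMap_apply A T K]
  · intro h0
    exact ha₂ (hinj (h0.trans (map_zero _).symm))

include hD' in
set_option maxHeartbeats 1000000 in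
set_option synthInstance.maxHeartbeats 200000 in
/-- The intersection `D'` is a finite `A`-module. -/
theorem finite_inter (hQE : EGA4.IsQuasiExcellent A) : Module.Finite A D' := by
  classical
  have hAN : IsNoetherianRing A := hQE.1
  have hinjTK : Function.Injective (algebraMap T K) := IsFractionRing.injective T K
  -- numerators and denominators
  have hch : ∀ τ : K, ∃ p : T × T, p.2 ≠ 0 ∧ τ * algebraMap T K p.2 = algebraMap T K p.1 := by
    intro τ
    obtain ⟨e₁, e₂, rfl⟩ := IsLocalization.exists_mk'_eq (nonZeroDivisors T) τ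
    exact ⟨(e₁, e₂), nonZeroDivisors.ne_zero e₂.2, IsLocalization.mk'_spec _ _ _⟩
  choose nd hnd0 hnd using hch
  -- the finite subalgebra
  obtain ⟨E₀, hE₀⟩ : ∃ E₀ : Subalgebra A T, E₀ = Algebra.adjoin A
      ((t.image (fun τ => (nd τ).1) ∪ t.image (fun τ => (nd τ).2) : Finset T) : Set T) :=
    ⟨_, rfl⟩
  have hfinE₀ : Module.Finite A E₀ := by
    rw [hE₀]
    exact Module.Finite.iff_fg.mpr (fg_adjoin_of_finite (Finset.finite_toSet _)
      (fun x _ => Algebra.IsIntegral.isIntegral x))
  have hnum : ∀ τ ∈ t, (nd τ).1 ∈ E₀ := by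
    intro τ hτ
    rw [hE₀]
    refine Algebra.subset_adjoin ?_
    rw [Finset.mem_coe, Finset.mem_union]
    exact Or.inl (Finset.mem_image_of_mem _ hτ)
  have hden : ∀ τ ∈ t, (nd τ).2 ∈ E₀ := by
    intro τ hτ
    rw [hE₀]
    refine Algebra.subset_adjoin ?_
    rw [Finset.mem_coe, Finset.mem_union]
    exact Or.inr (Finset.mem_image_of_mem _ hτ)
  have hN1 : Module.Finite E₀ (integralClosure E₀ (FractionRing E₀)) :=
    Groth.Agent.Lib.Helper18.Nag.isN1_of_finite_of_isQuasiExcellent A hQE E₀
  have hE₀K : ∀ x : E₀, algebraMap E₀ K x = algebraMap T K (x : T) := fun _ => rfl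
  have hinjE₀K : Function.Injective (algebraMap E₀ K) := by
    intro x y hxy
    rw [hE₀K, hE₀K] at hxy
    exact Subtype.ext (hinjTK hxy)
  have hfaith : FaithfulSMul E₀ K := (faithfulSMul_iff_algebraMap_injective E₀ K).mpr hinjE₀K
  let _ : Algebra (FractionRing E₀) K := FractionRing.liftAlgebra E₀ K
  have htowF : IsScalarTower E₀ (FractionRing E₀) K :=
    FractionRing.isScalarTower_liftAlgebra E₀ K
  have hAFK : ∀ a : A, algebraMap (FractionRing E₀) K (algebraMap A (FractionRing E₀) a) =
      algebraMap A K a := by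
    intro a
    rw [IsScalarTower.algebraMap_apply A E₀ (FractionRing E₀),
      ← IsScalarTower.algebraMap_apply E₀ (FractionRing E₀) K, hE₀K,
      IsScalarTower.algebraMap_apply A T K]
    rfl
  -- the subfield lies in the image of the fraction field of `E₀`
  have hL : ∀ l ∈ Subfield.closure (Set.range (algebraMap A K) ∪ (t : Set K)),
      ∃ z : FractionRing E₀, algebraMap (FractionRing E₀) K z = l := by
    have hle : Subfield.closure (Set.range (algebraMap A K) ∪ (t : Set K)) ≤
        (algebraMap (FractionRing E₀) K).fieldRange := by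
      rw [Subfield.closure_le]
      rintro x (⟨a, rfl⟩ | hx)
      · exact ⟨algebraMap A (FractionRing E₀) a, hAFK a⟩
      · have hx' : x ∈ t := hx
        have h2 : algebraMap T K (nd x).2 ≠ 0 := fun h0 =>
          hnd0 x (hinjTK (h0.trans (map_zero _).symm))
        refine ⟨algebraMap E₀ (FractionRing E₀) ⟨(nd x).1, hnum x hx'⟩ /
          algebraMap E₀ (FractionRing E₀) ⟨(nd x).2, hden x hx'⟩, ?_⟩
        rw [map_div₀, ← IsScalarTower.algebraMap_apply E₀ (FractionRing E₀) K,
          ← IsScalarTower.algebraMap_apply E₀ (FractionRing E₀) K, hE₀K, hE₀K,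
          div_eq_iff h2]
        exact (hnd x).symm
    exact fun l hl => hle hl
  -- the linear maps
  have hfinI : Module.Finite A (integralClosure E₀ (FractionRing E₀)) :=
    Module.Finite.trans E₀ _
  let φ : integralClosure E₀ (FractionRing E₀) →ₗ[A] K :=
    { toFun := fun z => algebraMap (FractionRing E₀) K (z : FractionRing E₀)
      map_add' := fun x y => by
        rw [Subalgebra.coe_add, map_add]
      map_smul' := fun a z => by
        rw [RingHom.id_apply, Subalgebra.coe_smul, Algebra.smul_def, map_mul, hAFK,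
          Algebra.smul_def] }
  let ψ : D' →ₗ[A] K :=
    (IsScalarTower.toAlgHom A T K).toLinearMap.comp D'.val.toLinearMap
  have hψ : ∀ d : D', ψ d ∈ LinearMap.range φ := by
    intro d
    have h1 : algebraMap T K (d : T) ∈
        Subfield.closure (Set.range (algebraMap A K) ∪ (t : Set K)) :=
      (mem_iff t D' hD' _).mp d.2
    obtain ⟨z, hz⟩ := hL _ h1
    have h2 : IsIntegral A (algebraMap T K (d : T)) :=
      (Algebra.IsIntegral.isIntegral (R := A) (d : T)).map (IsScalarTower.toAlgHom A T K)
    have htowAE : IsScalarTower A E₀ K := IsScalarTower.of_algebraMap_eq (fun a => by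
      rw [hE₀K, IsScalarTower.algebraMap_apply A T K]
      rfl)
    have h3 : IsIntegral E₀ (algebraMap T K (d : T)) := h2.tower_top
    have h4 : IsIntegral E₀ z := by
      rw [← isIntegral_algHom_iff (IsScalarTower.toAlgHom E₀ (FractionRing E₀) K)
        (algebraMap (FractionRing E₀) K).injective]
      change IsIntegral E₀ (algebraMap (FractionRing E₀) K z)
      rw [hz]
      exact h3
    exact ⟨⟨z, h4⟩, hz⟩
  have hfinM : Module.Finite A (LinearMap.range φ) := Module.Finite.range φ
  let ψ' : D' →ₗ[A] LinearMap.range φ := ψ.codRestrict _ hψ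
  have hψ' : Function.Injective ψ' := by
    intro x y hxy
    have h1 : ψ x = ψ y := congrArg Subtype.val hxy
    exact Subtype.ext (hinjTK h1)
  exact Module.Finite.of_injective ψ' hψ'

end Inter

end Groth.Agent.Lib.Helper4.HensExc
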