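import Mathlib
import Groth.Prelude.Def_Hens2
import Groth.Agent.Lib.Helper4.DLimRing

/-!
# Filtered colimits of henselizations of pairs
-/

set_option autoImplicit false
universe u

namespace Groth.Agent.Lib.Helper4.DLim

theorem isPairHenselization_directLimit {ι : Type u} [Preorder ι] [IsDirectedOrder ι] [Nonempty ι]
    (G : ι → Type u) [∀ i, CommRing (G i)] (f : ∀ i j : ι, i ≤ j → (G i →+* G j))
    [DirectedSystem G (fun i j h => f i j h)] (I : ∀ i, Ideal (G i))
    (hI : ∀ (i j : ι) (h : i ≤ j), (I i).map (f i j h) ≤ I j)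
    (B : ι → Type u) [∀ i, CommRing (B i)] [∀ i, Algebra (G i) (B i)]
    (hB : ∀ i, Hens2.IsPairHenselization (G i) (I i) (B i))
    (g : ∀ i j : ι, i ≤ j → (B i →+* B j)) [DirectedSystem B (fun i j h => g i j h)]
    (hg : ∀ (i j : ι) (h : i ≤ j),
      (g i j h).comp (algebraMap (G i) (B i)) = (algebraMap (G j) (B j)).comp (f i j h))
    [Algebra (DirectLimit G f) (DirectLimit B g)]
    (halg : ∀ (i : ι) (x : G i),
      algebraMap (DirectLimit G f) (DirectLimit B g) (DirectLimit.Ring.of G f i x) =
        DirectLimit.Ring.of B g i (algebraMap (G i) (B i) x)) :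
    Hens2.IsPairHenselization (DirectLimit G f) (⨆ i, (I i).map (DirectLimit.Ring.of G f i))
      (DirectLimit B g) := by
  have halg' : ∀ i, (algebraMap (DirectLimit G f) (DirectLimit B g)).comp (DirectLimit.Ring.of G f i) =
      (DirectLimit.Ring.of B g i).comp (algebraMap (G i) (B i)) := fun i => RingHom.ext (halg i)
  let I' : ∀ i, Ideal (B i) := fun i => (I i).map (algebraMap (G i) (B i))
  have hI' : ∀ (i j : ι) (h : i ≤ j), (I' i).map (g i j h) ≤ I' j := by
    intro i j h
    change ((I i).map (algebraMap (G i) (B i))).map (g i j h) ≤ (I j).map (algebraMap (G j) (B j))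
    rw [Ideal.map_map, hg, ← Ideal.map_map]
    exact Ideal.map_mono (hI i j h)
  have hH : ∀ i, HenselianRing (B i) (I' i) := fun i => (hB i).1
  have key : (⨆ i, (I i).map (DirectLimit.Ring.of G f i)).map
      (algebraMap (DirectLimit G f) (DirectLimit B g)) =
      ⨆ i, (I' i).map (DirectLimit.Ring.of B g i) := by
    rw [Ideal.map_iSup]
    congr 1
    ext i : 1
    rw [Ideal.map_map, halg', ← Ideal.map_map]
  refine ⟨?_, ?_⟩
  · rw [key]
    exact henselianRing_directLimit g I' hI'
  · intro C _ J φ hC hφ
    have hφi : ∀ i, (I i).map (φ.comp (DirectLimit.Ring.of G f i)) ≤ J := by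
      intro i
      rw [← Ideal.map_map]
      exact (Ideal.map_mono (le_iSup (fun i => (I i).map (DirectLimit.Ring.of G f i)) i)).trans hφ
    have hex := fun i => (hB i).2 C J (φ.comp (DirectLimit.Ring.of G f i)) hC (hφi i)
    choose γ hγ hγuniq using hex
    have hcompat : ∀ i j (h : i ≤ j), (γ j).comp (g i j h) = γ i := by
      intro i j h
      apply hγuniq
      rw [RingHom.comp_assoc, hg, ← RingHom.comp_assoc, hγ, RingHom.comp_assoc]
      congr 1
      ext x
      exact DirectLimit.Ring.of_f h x
    let Γ : DirectLimit B g →+* C := DirectLimit.Ring.lift B g C γ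
      (fun i j h x => congrArg (fun m => m x) (hcompat i j h))
    refine ⟨Γ, ?_, ?_⟩
    · apply DirectLimit.Ring.hom_ext
      intro i
      rw [RingHom.comp_assoc, halg', ← RingHom.comp_assoc]
      change (γ i).comp _ = _
      exact hγ i
    · intro Γ' hΓ'
      apply DirectLimit.Ring.hom_ext
      intro i
      change _ = γ i
      apply hγuniq
      rw [RingHom.comp_assoc, ← halg', ← RingHom.comp_assoc, hΓ']

end Groth.Agent.Lib.Helper4.DLim
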