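import Mathlib
import Groth.Prelude.Def_Hensel
import Groth.Agent.Lib.Helper4.HznProps
import Groth.Agent.Lib.Helper4.HzsTensor

/-!
# Henselization versus strict henselization in a tower `D → D^h → S`
-/

set_option autoImplicit false
set_option linter.unusedSectionVars false
universe u

namespace Groth.Agent.Lib.Helper4.HensUn

open IsLocalRing

/-- Lifting a ring map through an injective ring map whose range contains its range. -/
theorem exists_ringHom_comp_eq {E Dh S : Type*} [CommRing E] [CommRing Dh] [CommRing S]
    (θ : Dh →+* S) (hθ : Function.Injective θ) (φ : E →+* S)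
    (h : ∀ e, φ e ∈ Set.range θ) : ∃ j : E →+* Dh, ∀ e, θ (j e) = φ e := by
  choose j₀ hj₀ using h
  refine ⟨{ toFun := j₀
            map_one' := hθ (by rw [hj₀, map_one, map_one])
            map_mul' := fun x y => hθ (by rw [hj₀, map_mul, map_mul, hj₀, hj₀])
            map_zero' := hθ (by rw [hj₀, map_zero, map_zero])
            map_add' := fun x y => hθ (by rw [hj₀, map_add, map_add, hj₀, hj₀]) }, hj₀⟩

section Tower

variable (D Dh S : Type u) [CommRing D] [IsLocalRing D] [CommRing Dh] [IsLocalRing Dh]
  [Algebra D Dh] [IsLocalHom (algebraMap D Dh)] [hDh : Hensel.IsHenselization D Dh]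
  [CommRing S] [IsLocalRing S] [Algebra D S] [IsLocalHom (algebraMap D S)]
  [Algebra Dh S] [IsScalarTower D Dh S]

include hDh in
/-- The map from a henselization to a local algebra dominating the base is local. -/
theorem isLocalHom_of_tower : IsLocalHom (algebraMap Dh S) := by
  constructor
  intro x hx
  by_contra hnu
  have h1 : x ∈ maximalIdeal Dh := (mem_maximalIdeal x).mpr hnu
  rw [← Hzn.map_maximalIdeal_of_isHenselization D Dh] at h1
  have hle : (maximalIdeal D).map (algebraMap D Dh) ≤
      (maximalIdeal S).comap (algebraMap Dh S) := by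
    rw [Ideal.map_le_iff_le_comap]
    intro a ha
    rw [Ideal.mem_comap, Ideal.mem_comap, ← IsScalarTower.algebraMap_apply]
    exact ((mem_maximalIdeal _).mpr
      (fun hu => ((mem_maximalIdeal a).mp ha) (isUnit_of_map_unit (algebraMap D S) a hu)))
  exact ((mem_maximalIdeal _).mp (hle h1)) hx

include hDh in
/-- A strict henselization of `D` is one of the henselization of `D`. -/
theorem isStrictHenselization_henselization [IsLocalHom (algebraMap Dh S)]
    [hS : Hensel.IsStrictHenselization D S] : Hensel.IsStrictHenselization Dh S := by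
  have hι : (algebraMap Dh S).comp (algebraMap D Dh) = algebraMap D S :=
    (IsScalarTower.algebraMap_eq D Dh S).symm
  refine Hzs.isStrictHenselization_of_factor (B := D) (Bh := S) (D := Dh) (algebraMap D Dh) hι ?_
  intro T _ _ f hf τ g _ hg _
  have hfl : IsLocalHom (f.comp (algebraMap D Dh)) := RingHom.isLocalHom_comp f (algebraMap D Dh)
  obtain ⟨g₀, -, huniq⟩ := Hensel.IsHenselization.universal (R := D) (S := Dh) T
    (f.comp (algebraMap D Dh)) hfl
  have h1 : g.comp (algebraMap Dh S) = g₀ := by
    apply huniq
    rw [RingHom.comp_assoc, hι, hg]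
  have h2 : f = g₀ := huniq f rfl
  rw [h1, h2]

include hDh in
/-- A strict henselization of the henselization of `D` is one of `D`. -/
theorem isStrictHenselization_of_henselization [IsLocalHom (algebraMap Dh S)]
    [hS : Hensel.IsStrictHenselization Dh S] : Hensel.IsStrictHenselization D S := by
  have hH : HenselianLocalRing S := hS.henselian
  have hDhH : HenselianLocalRing Dh := hDh.henselian
  have hbij := Hzn.bijective_residueField_map_of_isHenselization D Dh
  have hsep1 : Algebra.IsSeparable (ResidueField D) (ResidueField Dh) := by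
    refine ⟨fun x => ?_⟩
    obtain ⟨y, rfl⟩ := hbij.2 x
    exact isSeparable_algebraMap y
  have hsep2 : Algebra.IsSeparable (ResidueField Dh) (ResidueField S) := hS.isSepClosure.separable
  have hsc : IsSepClosed (ResidueField S) := hS.isSepClosure.sep_closed
  have hsep : Algebra.IsSeparable (ResidueField D) (ResidueField S) :=
    Algebra.IsSeparable.trans (ResidueField D) (ResidueField Dh) (ResidueField S)
  refine ⟨hH, ⟨hsc, hsep⟩, ?_⟩
  intro T _ _ f hf τ hτ
  -- extend `f` to the henselization
  obtain ⟨f', hf', hf'uniq⟩ := hDh.universal T f hf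
  have hf'loc : IsLocalHom f' := by
    constructor
    intro x hx
    by_contra hnu
    have h1 : x ∈ maximalIdeal Dh := (mem_maximalIdeal x).mpr hnu
    rw [← Hzn.map_maximalIdeal_of_isHenselization D Dh] at h1
    have hle : (maximalIdeal D).map (algebraMap D Dh) ≤ (maximalIdeal T).comap f' := by
      rw [Ideal.map_le_iff_le_comap]
      intro a ha
      rw [Ideal.mem_comap, Ideal.mem_comap]
      have h2 : f' (algebraMap D Dh a) = f a := RingHom.congr_fun hf' a
      rw [h2]
      exact ((mem_maximalIdeal _).mpr
        (fun hu => ((mem_maximalIdeal a).mp ha) (isUnit_of_map_unit f a hu)))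
    exact ((mem_maximalIdeal _).mp (hle h1)) hx
  have hτ' : τ.comp (ResidueField.map (algebraMap Dh S)) = ResidueField.map f' := by
    refine RingHom.ext fun x => ?_
    obtain ⟨y, rfl⟩ := hbij.2 x
    obtain ⟨d, rfl⟩ := residue_surjective y
    have h1 := RingHom.congr_fun hτ (residue D d)
    simp only [RingHom.comp_apply, ResidueField.map_residue] at h1 ⊢
    rw [← IsScalarTower.algebraMap_apply D Dh S]
    rw [h1]
    exact congrArg (residue T) (RingHom.congr_fun hf' d).symm
  obtain ⟨g, ⟨hg1, hg2⟩, hguniq⟩ := hS.universal T f' τ hτ'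
  refine ⟨g, ⟨?_, hg2⟩, ?_⟩
  · rw [IsScalarTower.algebraMap_eq D Dh S, ← RingHom.comp_assoc, hg1, hf']
  · rintro g' ⟨hg'1, hg'2⟩
    apply hguniq
    refine ⟨?_, hg'2⟩
    apply hf'uniq
    rw [RingHom.comp_assoc, ← IsScalarTower.algebraMap_eq D Dh S, hg'1]

end Tower

end Groth.Agent.Lib.Helper4.HensUn
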