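import Mathlib
import Groth.Prelude.Def_Hensel
import Groth.Prelude.Def_EssEt
import Groth.Agent.Lib.Helper4.EssFTDescent
import Groth.Agent.Lib.Helper4.HzsSub

/-!
# Essentially étale local subalgebras of a strict henselization inside a unit-closed subalgebra
-/

set_option autoImplicit false
set_option linter.unusedSectionVars false
universe u

namespace Groth.Agent.Lib.Helper4.HensUn

open IsLocalRing TensorProduct

section M

variable {A S : Type u} [CommRing A] [IsLocalRing A] [CommRing S] [IsLocalRing S] [Algebra A S]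
  [IsLocalHom (algebraMap A S)]

/-- A subalgebra closed under inverses in `S`. -/
def UnitClosed (R : Subalgebra A S) : Prop := ∀ x ∈ R, ∀ y : S, x * y = 1 → y ∈ R

/-- The family of essentially étale local subalgebras contained in `R`. -/
def EssSub (R E : Subalgebra A S) : Prop :=
  E ≤ R ∧ ∃ _ : IsLocalRing E, EGA4loc.IsEssentiallyEtale A E

/-- An essentially étale local subalgebra of a local algebra `S` (with local structure map) is
dominated by `S`. -/
theorem isLocalHom_val_of_essEtale (E : Subalgebra A S) [IsLocalRing E]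
    (hE : EGA4loc.IsEssentiallyEtale A E) : IsLocalHom (algebraMap E S) := by
  have hlocAE : IsLocalHom (algebraMap A E) := Hzs.isLocalHom_of_essEtale hE
  have hm := EssEtale.map_maximalIdeal hE
  constructor
  intro x hx
  by_contra hnu
  have h1 : x ∈ maximalIdeal E := (mem_maximalIdeal x).mpr hnu
  rw [← hm] at h1
  have h2 : algebraMap E S x ∈ ((maximalIdeal A).map (algebraMap A E)).map (algebraMap E S) :=
    Ideal.mem_map_of_mem _ h1
  rw [Ideal.map_map, ← IsScalarTower.algebraMap_eq] at h2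
  have h3 := IsLocalRing.map_maximalIdeal_le (algebraMap A S) h2
  exact (mem_maximalIdeal _).mp h3 hx

/-- If `x u = c` with `u, c` in a local subalgebra dominated by `S` and `u` a unit of `S`, then
`x` lies in the subalgebra. -/
theorem mem_of_mul_eq (E : Subalgebra A S) [IsLocalRing E] [hloc : IsLocalHom (algebraMap E S)]
    {x u c : S} (hu : u ∈ E) (hc : c ∈ E) (hunit : IsUnit u) (h : x * u = c) : x ∈ E := by
  have h1 : IsUnit (⟨u, hu⟩ : E) := hloc.map_nonunit ⟨u, hu⟩ hunit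
  obtain ⟨w, hw⟩ := isUnit_iff_exists_inv.mp h1
  have hw' : u * (w : S) = 1 := congrArg Subtype.val hw
  have h2 : x = c * (w : S) := by
    rw [← h, mul_assoc, hw', mul_one]
  rw [h2]
  exact E.mul_mem hc w.2

variable [hS : Hensel.IsStrictHenselization A S]

/-- **Lemma M**: an étale algebra mapping into `R` gives an essentially étale local subalgebra of
`R` containing its image. -/
theorem exists_essSub_of_etale (R : Subalgebra A S) (hR : UnitClosed R) (C : Type u) [CommRing C]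
    [Algebra A C] [Algebra.Etale A C] (π : C →ₐ[A] S) (hπ : ∀ c, π c ∈ R) :
    ∃ E : Subalgebra A S, EssSub R E ∧ ∀ c, π c ∈ E := by
  obtain ⟨hl, hlh, hE⟩ := Hzs.range_props (EssFT.liftS π) (EssFT.liftS_injective π)
    (EssFT.isLocalHom_liftS π) (EssFT.essEtaleS π)
  refine ⟨(EssFT.liftS π).range, ⟨?_, hl, hE⟩, fun c => ⟨algebraMap C _ c, EssFT.liftS_algebraMap π c⟩⟩
  rintro _ ⟨z, rfl⟩
  obtain ⟨c, s, rfl⟩ := IsLocalization.exists_mk'_eq (EssFT.pk π).primeCompl z
  have h1 := EssFT.liftS_mk' π c s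
  have h2 : IsUnit (π (s : C)) := (EssFT.not_mem_pk π).mp s.2
  obtain ⟨v, hv⟩ := isUnit_iff_exists_inv.mp h2
  have hvR : v ∈ R := hR _ (hπ s) v hv
  have h3 : EssFT.liftS π (IsLocalization.mk' (EssFT.LocS π) c s) = π c * v := by
    rw [← h1, mul_assoc, hv, mul_one]
  show EssFT.liftS π (IsLocalization.mk' (EssFT.LocS π) c s) ∈ R
  rw [h3]
  exact R.mul_mem (hπ c) hvR

/-- An étale chart of an essentially étale local subalgebra. -/
theorem exists_etale_chart (E : Subalgebra A S) [IsLocalRing E]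
    (hE : EGA4loc.IsEssentiallyEtale A E) :
    ∃ (C : Type u) (_ : CommRing C) (_ : Algebra A C) (_ : Algebra.Etale A C) (ι : C →ₐ[A] S),
      (∀ c, ι c ∈ E) ∧ ∀ x ∈ E, ∃ c u : C, IsUnit (ι u) ∧ x * ι u = ι c := by
  obtain ⟨C, _, _, q, hq, hC, hqA, ⟨e⟩⟩ := hE
  let ι : C →ₐ[A] S :=
    E.val.comp (e.symm.toAlgHom.comp (IsScalarTower.toAlgHom A C (Localization.AtPrime q)))
  have hι : ∀ c : C, ι c = ((e.symm (algebraMap C (Localization.AtPrime q) c) : E) : S) :=
    fun c => rfl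
  refine ⟨C, inferInstance, inferInstance, hC, ι, fun c => ?_, fun x hx => ?_⟩
  · rw [hι]; exact Subtype.property _
  · obtain ⟨c, u, hcu⟩ := IsLocalization.exists_mk'_eq q.primeCompl (e ⟨x, hx⟩)
    refine ⟨c, (u : C), ?_, ?_⟩
    · have h1 : IsUnit (algebraMap C (Localization.AtPrime q) (u : C)) :=
        IsLocalization.map_units _ u
      have h2 : IsUnit (e.symm (algebraMap C (Localization.AtPrime q) (u : C))) := h1.map e.symm
      rw [hι]
      exact h2.map E.val
    · have h2 : e ⟨x, hx⟩ * algebraMap C (Localization.AtPrime q) (u : C) =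
          algebraMap C (Localization.AtPrime q) c := by
        rw [← hcu, IsLocalization.mk'_spec]
      have h3 := congrArg e.symm h2
      rw [map_mul, e.symm_apply_apply] at h3
      rw [hι, hι]
      exact congrArg Subtype.val h3

/-- **Directedness.** -/
theorem exists_essSub_ge (R : Subalgebra A S) (hR : UnitClosed R) (E₁ E₂ : Subalgebra A S)
    (h₁ : EssSub R E₁) (h₂ : EssSub R E₂) :
    ∃ E₃ : Subalgebra A S, EssSub R E₃ ∧ E₁ ≤ E₃ ∧ E₂ ≤ E₃ := by
  obtain ⟨hR₁, hl₁, hE₁⟩ := h₁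
  obtain ⟨hR₂, hl₂, hE₂⟩ := h₂
  obtain ⟨C₁, _, _, hC₁, ι₁, hι₁, hx₁⟩ := exists_etale_chart E₁ hE₁
  obtain ⟨C₂, _, _, hC₂, ι₂, hι₂, hx₂⟩ := exists_etale_chart E₂ hE₂
  have hC₃ : Algebra.Etale A (C₁ ⊗[A] C₂) := Algebra.Etale.comp A C₁ (C₁ ⊗[A] C₂)
  let π : C₁ ⊗[A] C₂ →ₐ[A] S := Algebra.TensorProduct.productMap ι₁ ι₂
  have hπ : ∀ z, π z ∈ R := by
    intro z
    induction z using TensorProduct.induction_on with
    | zero => rw [map_zero]; exact R.zero_mem
    | tmul c₁ c₂ =>
      rw [Algebra.TensorProduct.productMap_apply_tmul]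
      exact R.mul_mem (hR₁ (hι₁ c₁)) (hR₂ (hι₂ c₂))
    | add x y hx hy => rw [map_add]; exact R.add_mem hx hy
  obtain ⟨E₃, hE₃, hπE⟩ := exists_essSub_of_etale R hR (C₁ ⊗[A] C₂) π hπ
  obtain ⟨hR₃, hl₃, hE₃'⟩ := hE₃
  have hloc₃ : IsLocalHom (algebraMap E₃ S) := isLocalHom_val_of_essEtale E₃ hE₃'
  have hπ₁ : ∀ c, ι₁ c ∈ E₃ := fun c => by
    have := hπE (c ⊗ₜ[A] (1 : C₂))
    rwa [Algebra.TensorProduct.productMap_apply_tmul, map_one, mul_one] at this
  have hπ₂ : ∀ c, ι₂ c ∈ E₃ := fun c => by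
    have := hπE ((1 : C₁) ⊗ₜ[A] c)
    rwa [Algebra.TensorProduct.productMap_apply_tmul, map_one, one_mul] at this
  refine ⟨E₃, ⟨hR₃, hl₃, hE₃'⟩, fun x hx => ?_, fun x hx => ?_⟩
  · obtain ⟨c, u, hu, hxu⟩ := hx₁ x hx
    exact mem_of_mul_eq E₃ (hπ₁ u) (hπ₁ c) hu hxu
  · obtain ⟨c, u, hu, hxu⟩ := hx₂ x hx
    exact mem_of_mul_eq E₃ (hπ₂ u) (hπ₂ c) hu hxu

/-- **Lemma L'**: adjoining a simple root of a monic polynomial. -/
theorem exists_essSub_root (R : Subalgebra A S) (hR : UnitClosed R) (E : Subalgebra A S)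
    (hE : EssSub R E) (f : Polynomial E) (hf : f.Monic) (a : S) (haR : a ∈ R)
    (hfa : Polynomial.aeval a f = 0)
    (hu : IsUnit (Polynomial.aeval a (Polynomial.derivative f))) :
    ∃ E' : Subalgebra A S, EssSub R E' ∧ E ≤ E' ∧ a ∈ E' := by
  obtain ⟨hER, hl, hEet⟩ := hE
  have hlocES : IsLocalHom (algebraMap E S) := isLocalHom_val_of_essEtale E hEet
  have hlocAE : IsLocalHom (algebraMap A E) := Hzs.isLocalHom_of_essEtale hEet
  have hES : Hensel.IsStrictHenselization E S := Hzs.isStrictHenselization_of_essEtale hEet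
  let P : StandardEtalePair E := ⟨f, hf, Polynomial.derivative f, ⟨1, 0, 1, by ring⟩⟩
  let π : P.Ring →ₐ[E] S := P.lift a ⟨hfa, hu⟩
  -- `R` as an `E`-subalgebra
  let RE : Subalgebra E S := { R.toSubsemiring with algebraMap_mem' := fun e => hER e.2 }
  have hRE : UnitClosed RE := fun x hx y hxy => hR x hx y hxy
  have hmapR : P.HasMap (⟨a, haR⟩ : RE) := by
    constructor
    · apply Subtype.ext
      rw [Polynomial.aeval_subalgebra_coe]
      exact hfa
    · obtain ⟨v, hv⟩ := isUnit_iff_exists_inv.mp hu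
      have hmem : Polynomial.aeval a P.g ∈ RE := by
        rw [← Polynomial.aeval_subalgebra_coe P.g RE ⟨a, haR⟩]
        exact Subtype.property _
      have hvR : v ∈ RE := hRE _ hmem v hv
      refine isUnit_iff_exists_inv.mpr ⟨⟨v, hvR⟩, Subtype.ext ?_⟩
      rw [Subalgebra.coe_mul, Polynomial.aeval_subalgebra_coe]
      exact hv
  let π' : P.Ring →ₐ[E] RE := P.lift ⟨a, haR⟩ hmapR
  have hππ' : RE.val.comp π' = π := by
    apply StandardEtalePair.hom_ext
    rw [AlgHom.comp_apply, StandardEtalePair.lift_X, StandardEtalePair.lift_X]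
    rfl
  have hπ : ∀ c, π c ∈ RE := fun c => by
    rw [← hππ']
    exact (π' c).2
  obtain ⟨E'E, ⟨hE'R, hl', hE'et⟩, hπE'⟩ := exists_essSub_of_etale RE hRE P.Ring π hπ
  -- back to `A`
  have hetA : EGA4loc.IsEssentiallyEtale A E'E := Hzs.essEtale_comp hEet hE'et
  let e : E'E ≃ₐ[A] (E'E.restrictScalars A) :=
    { toFun := fun x => ⟨x.1, x.2⟩
      invFun := fun x => ⟨x.1, x.2⟩
      left_inv := fun _ => rfl
      right_inv := fun _ => rfl
      map_mul' := fun _ _ => rfl
      map_add' := fun _ _ => rfl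
      commutes' := fun _ => rfl }
  have hl'' : IsLocalRing (E'E.restrictScalars A) := e.toRingEquiv.isLocalRing
  refine ⟨E'E.restrictScalars A, ⟨fun x hx => hE'R hx, hl'', Hzs.essEtale_of_algEquiv e hetA⟩,
    fun x hx => ?_, ?_⟩
  · exact E'E.algebraMap_mem ⟨x, hx⟩
  · have := hπE' P.X
    rwa [StandardEtalePair.lift_X] at this

end M

end Groth.Agent.Lib.Helper4.HensUn
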