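import Mathlib
import Groth.Prelude.Def_Hensel
import Groth.Prelude.Def_EssEt
import Groth.Agent.Lib.Helper4.HensUn2
import Groth.Agent.Lib.Helper4.HzsTensor

/-!
# The union of the essentially étale local subalgebras contained in a henselian subalgebra
-/

set_option autoImplicit false
set_option linter.unusedSectionVars false
universe u

namespace Groth.Agent.Lib.Helper4.HensUn

open IsLocalRing TensorProduct

section H

variable {A S : Type u} [CommRing A] [IsLocalRing A] [CommRing S] [IsLocalRing S] [Algebra A S]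
  [IsLocalHom (algebraMap A S)] [hS : Hensel.IsStrictHenselization A S]
  (R : Subalgebra A S) (hR : UnitClosed R)

include hR in
theorem exists_essSub : ∃ E : Subalgebra A S, EssSub R E := by
  obtain ⟨E, hE, -⟩ := exists_essSub_of_etale R hR A (Algebra.ofId A S)
    (fun a => R.algebraMap_mem a)
  exact ⟨E, hE⟩

/-- The union of all essentially étale local subalgebras contained in `R`. -/
def unionSub : Subalgebra A S where
  carrier := {x | ∃ E : Subalgebra A S, EssSub R E ∧ x ∈ E}
  mul_mem' := by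
    rintro x y ⟨E₁, h₁, hx⟩ ⟨E₂, h₂, hy⟩
    obtain ⟨E₃, h₃, h13, h23⟩ := exists_essSub_ge R hR E₁ E₂ h₁ h₂
    exact ⟨E₃, h₃, E₃.mul_mem (h13 hx) (h23 hy)⟩
  add_mem' := by
    rintro x y ⟨E₁, h₁, hx⟩ ⟨E₂, h₂, hy⟩
    obtain ⟨E₃, h₃, h13, h23⟩ := exists_essSub_ge R hR E₁ E₂ h₁ h₂
    exact ⟨E₃, h₃, E₃.add_mem (h13 hx) (h23 hy)⟩
  algebraMap_mem' := by
    intro a
    obtain ⟨E, hE⟩ := exists_essSub R hR
    exact ⟨E, hE, E.algebraMap_mem a⟩

theorem mem_unionSub {x : S} :
    x ∈ unionSub R hR ↔ ∃ E : Subalgebra A S, EssSub R E ∧ x ∈ E := Iff.rfl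

theorem unionSub_le : unionSub R hR ≤ R := by
  rintro x ⟨E, hE, hx⟩
  exact hE.1 hx

theorem le_unionSub (E : Subalgebra A S) (hE : EssSub R E) : E ≤ unionSub R hR :=
  fun x hx => ⟨E, hE, hx⟩

theorem exists_essSub_finset (t : Finset S) (ht : ∀ x ∈ t, x ∈ unionSub R hR) :
    ∃ E : Subalgebra A S, EssSub R E ∧ ∀ x ∈ t, x ∈ E := by
  classical
  induction t using Finset.induction_on with
  | empty =>
    obtain ⟨E, hE⟩ := exists_essSub R hR
    exact ⟨E, hE, fun x hx => absurd hx (Finset.notMem_empty x)⟩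
  | insert a t hat ih =>
    obtain ⟨E₁, hE₁, h₁⟩ := ih (fun x hx => ht x (Finset.mem_insert_of_mem hx))
    obtain ⟨E₂, hE₂, h₂⟩ := ht a (Finset.mem_insert_self a t)
    obtain ⟨E₃, hE₃, h13, h23⟩ := exists_essSub_ge R hR E₁ E₂ hE₁ hE₂
    refine ⟨E₃, hE₃, fun x hx => ?_⟩
    rcases Finset.mem_insert.mp hx with rfl | hx
    · exact h23 h₂
    · exact h13 (h₁ x hx)

theorem isUnit_unionSub (x : unionSub R hR) (hx : IsUnit (x : S)) : IsUnit x := by
  obtain ⟨E, hE, hxE⟩ := x.2
  obtain ⟨hER, hl, hEet⟩ := hE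
  have hloc : IsLocalHom (algebraMap E S) := isLocalHom_val_of_essEtale E hEet
  have h1 : IsUnit (⟨(x : S), hxE⟩ : E) := hloc.map_nonunit ⟨(x : S), hxE⟩ hx
  obtain ⟨w, hw⟩ := isUnit_iff_exists_inv.mp h1
  have hw' : (x : S) * (w : S) = 1 := congrArg Subtype.val hw
  exact isUnit_iff_exists_inv.mpr
    ⟨⟨(w : S), ⟨E, ⟨hER, hl, hEet⟩, w.2⟩⟩, Subtype.ext hw'⟩

instance isLocalHom_unionSub : IsLocalHom (algebraMap (unionSub R hR) S) :=
  ⟨fun x hx => isUnit_unionSub R hR x hx⟩

instance isLocalRing_unionSub : IsLocalRing (unionSub R hR) := by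
  refine IsLocalRing.of_nonunits_add ?_
  intro a b ha hb hab
  have ha' : (a : S) ∈ nonunits S := fun h => ha (isUnit_unionSub R hR a h)
  have hb' : (b : S) ∈ nonunits S := fun h => hb (isUnit_unionSub R hR b h)
  have hab' : IsUnit ((a + b : unionSub R hR) : S) := hab.map (unionSub R hR).val
  exact IsLocalRing.nonunits_add ha' hb' hab'

/-- `S` is a strict henselization of the union. -/
theorem isStrictHenselization_unionSub : Hensel.IsStrictHenselization (unionSub R hR) S := by
  have hι : (algebraMap (unionSub R hR) S).comp (algebraMap A (unionSub R hR)) = algebraMap A S :=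
    (IsScalarTower.algebraMap_eq A (unionSub R hR) S).symm
  refine Hzs.isStrictHenselization_of_factor (B := A) (Bh := S) (D := unionSub R hR)
    (algebraMap A (unionSub R hR)) hι ?_
  intro T _ _ f hf τ g hτ hg hres
  refine RingHom.ext fun x => ?_
  obtain ⟨E, hE, hxE⟩ := x.2
  have hEH : E ≤ unionSub R hR := le_unionSub R hR E hE
  obtain ⟨hER, hl, hEet⟩ := hE
  let _ : Algebra A T := (g.comp (algebraMap A S)).toAlgebra
  let ψ : E →ₐ[A] T := { g.comp (algebraMap E S) with commutes' := fun a => rfl }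
  let ψ' : E →ₐ[A] T :=
    { f.comp (Subalgebra.inclusion hEH).toRingHom with
      commutes' := fun a => by
        have h1 := RingHom.congr_fun hg a
        simp only [RingHom.comp_apply] at h1
        show f ((Subalgebra.inclusion hEH) (algebraMap A E a)) = g (algebraMap A S a)
        rw [h1, AlgHom.commutes] }
  have hψψ' : ψ = ψ' := by
    refine EssEtale.algHom_ext hEet ψ ψ' fun e => ?_
    rw [← residue_eq_zero_iff, map_sub, sub_eq_zero]
    show residue T (g (algebraMap E S e)) = residue T (f (Subalgebra.inclusion hEH e))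
    rw [hres]
    have h2 := RingHom.congr_fun hτ (residue (unionSub R hR) (Subalgebra.inclusion hEH e))
    simp only [RingHom.comp_apply, ResidueField.map_residue] at h2
    rw [← h2]
    rfl
  have := AlgHom.congr_fun hψψ' ⟨(x : S), hxE⟩
  exact this

end H

end Groth.Agent.Lib.Helper4.HensUn
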