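import Mathlib
import Groth.Prelude.Def_Hensel
import Groth.Prelude.Def_EssEt
import Groth.Agent.Lib.Helper4.HensUn3

/-!
# The union of essentially étale local subalgebras of a henselian subalgebra is henselian
-/

set_option autoImplicit false
set_option linter.unusedSectionVars false
universe u

namespace Groth.Agent.Lib.Helper4.HensUn

open IsLocalRing TensorProduct Polynomial

section H

variable {A S : Type u} [CommRing A] [IsLocalRing A] [CommRing S] [IsLocalRing S] [Algebra A S]
  [IsLocalHom (algebraMap A S)] [hS : Hensel.IsStrictHenselization A S]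
  (R : Subalgebra A S) [hRh : HenselianLocalRing R] [hRl : IsLocalHom (algebraMap R S)]

theorem unitClosed_of_isLocalHom : UnitClosed R := by
  intro x hx y hxy
  have h1 : IsUnit (algebraMap R S ⟨x, hx⟩) := isUnit_iff_exists_inv.mpr ⟨y, hxy⟩
  have h2 : IsUnit (⟨x, hx⟩ : R) := hRl.map_nonunit _ h1
  obtain ⟨w, hw⟩ := isUnit_iff_exists_inv.mp h2
  have hw' : x * (w : S) = 1 := congrArg Subtype.val hw
  have h3 : y = (w : S) := by
    calc y = y * (x * (w : S)) := by rw [hw', mul_one]
      _ = (x * y) * (w : S) := by ring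
      _ = (w : S) := by rw [hxy, one_mul]
  rw [h3]
  exact w.2

theorem mem_maximalIdeal_of_val_mem {x : R} (hx : (x : S) ∈ maximalIdeal S) :
    x ∈ maximalIdeal R := by
  rw [mem_maximalIdeal, mem_nonunits_iff]
  intro hu
  exact (mem_maximalIdeal _).mp hx (hu.map (algebraMap R S))

theorem val_mem_maximalIdeal {x : R} (hx : x ∈ maximalIdeal R) : (x : S) ∈ maximalIdeal S := by
  rw [mem_maximalIdeal, mem_nonunits_iff]
  intro hu
  exact (mem_maximalIdeal _).mp hx (hRl.map_nonunit x hu)

variable (hR : UnitClosed R)

/-- **Lemma N**: a simple root modulo the maximal ideal, of a monic polynomial over a member of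
the family, lifts to a root in the union. -/
theorem exists_root_unionSub (E : Subalgebra A S) (hE : EssSub R E) (f : Polynomial E)
    (hf : f.Monic) (a₀ : S) (ha₀ : a₀ ∈ R) (h₁ : aeval a₀ f ∈ maximalIdeal S)
    (h₂ : IsUnit (aeval a₀ (derivative f))) :
    ∃ a ∈ unionSub R hR, aeval a f = 0 ∧ a - a₀ ∈ maximalIdeal S := by
  let jER : E →ₐ[A] R := Subalgebra.inclusion hE.1
  let _ : Algebra E R := jER.toRingHom.toAlgebra
  have htow : IsScalarTower E R S := IsScalarTower.of_algebraMap_eq (fun e => rfl)
  have hev : ∀ (g : Polynomial E) (x : R), algebraMap R S (eval x (g.map (algebraMap E R))) =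
      aeval (x : S) g := by
    intro g x
    rw [eval_map_algebraMap, ← aeval_algebraMap_apply]
    rfl
  set a₀' : R := ⟨a₀, ha₀⟩ with ha₀'
  have h₁' : eval a₀' (f.map (algebraMap E R)) ∈ maximalIdeal R := by
    apply mem_maximalIdeal_of_val_mem
    have := hev f a₀'
    rw [show ((eval a₀' (f.map (algebraMap E R)) : R) : S) =
      algebraMap R S (eval a₀' (f.map (algebraMap E R))) from rfl, this]
    exact h₁
  have h₂' : IsUnit (eval a₀' (derivative (f.map (algebraMap E R)))) := by
    rw [derivative_map]
    apply hRl.map_nonunit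
    rw [hev]
    exact h₂
  obtain ⟨a', ha', haa₀⟩ := HenselianLocalRing.is_henselian (f.map (algebraMap E R))
    (hf.map _) a₀' h₁' h₂'
  have hroot : aeval (a' : S) f = 0 := by
    rw [← hev, ha'.eq_zero, map_zero]
  have hunit : IsUnit (aeval (a' : S) (derivative f)) := by
    rw [← hev, ← derivative_map]
    apply IsUnit.map
    have hdvd := sub_dvd_eval_sub a' a₀' (derivative (f.map (algebraMap E R)))
    have hmem : eval a' (derivative (f.map (algebraMap E R))) -
        eval a₀' (derivative (f.map (algebraMap E R))) ∈ maximalIdeal R :=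
      Ideal.mem_of_dvd _ hdvd haa₀
    by_contra hnu
    have h3 : eval a' (derivative (f.map (algebraMap E R))) ∈ maximalIdeal R :=
      (mem_maximalIdeal _).mpr hnu
    have h4 := (maximalIdeal R).sub_mem h3 hmem
    rw [sub_sub_cancel] at h4
    exact (mem_maximalIdeal _).mp h4 h₂'
  obtain ⟨E', hE', -, haE'⟩ := exists_essSub_root R hR E hE f hf (a' : S) a'.2 hroot hunit
  refine ⟨(a' : S), ⟨E', hE', haE'⟩, hroot, ?_⟩
  have := val_mem_maximalIdeal R haa₀
  exact this

/-- Residue fields: every element of `R` is congruent to an element of the union. -/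
theorem exists_sub_mem_unionSub (y : S) (hy : y ∈ R) :
    ∃ h ∈ unionSub R hR, h - y ∈ maximalIdeal S := by
  have hsepS : Algebra.IsSeparable (ResidueField A) (ResidueField S) := hS.isSepClosure.separable
  obtain ⟨E₀, hE₀⟩ := exists_essSub R hR
  set ybar : ResidueField S := residue S y with hybar
  have hsep : (minpoly (ResidueField A) ybar).Separable := Algebra.IsSeparable.isSeparable _ ybar
  have hmonic : (minpoly (ResidueField A) ybar).Monic :=
    minpoly.monic (Algebra.IsSeparable.isIntegral _ ybar)
  have hlifts : minpoly (ResidueField A) ybar ∈ lifts (residue A) := by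
    rw [lifts_iff_coeff_lifts]
    intro n
    exact residue_surjective _
  obtain ⟨p, hp, -, hpm⟩ := lifts_and_natDegree_eq_and_monic hlifts hmonic
  have hres : ∀ g : Polynomial A, residue S (aeval y g) = aeval ybar (g.map (residue A)) := by
    intro g
    have h1 : residue S (aeval y g) = aeval ybar g :=
      (aeval_algHom_apply (IsScalarTower.toAlgHom A S (ResidueField S)) y g).symm
    rw [h1]
    exact (aeval_map_algebraMap (ResidueField A) ybar g).symm
  have htowE : ∀ g : Polynomial A, aeval y (g.map (algebraMap A E₀)) = aeval y g :=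
    fun g => aeval_map_algebraMap E₀ y g
  have h₁ : aeval y (p.map (algebraMap A E₀)) ∈ maximalIdeal S := by
    rw [htowE, ← residue_eq_zero_iff, hres, hp, minpoly.aeval]
  have h₂ : IsUnit (aeval y (derivative (p.map (algebraMap A E₀)))) := by
    rw [derivative_map, htowE]
    rw [← residue_ne_zero_iff_isUnit, hres, ← derivative_map, hp]
    exact hsep.aeval_derivative_ne_zero (minpoly.aeval _ _)
  obtain ⟨a, haH, -, haa₀⟩ := exists_root_unionSub R hR E₀ hE₀ (p.map (algebraMap A E₀))
    (hpm.map _) y hy h₁ h₂
  exact ⟨a, haH, haa₀⟩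

end H

end Groth.Agent.Lib.Helper4.HensUn
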