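import Mathlib
import Groth.Prelude.Def_Hensel
import Groth.Prelude.Def_EssEt
import Groth.Agent.Lib.Helper4.HensUn4

/-!
# The union is henselian
-/

set_option autoImplicit false
set_option linter.unusedSectionVars false
universe u

namespace Groth.Agent.Lib.Helper4.HensUn

open IsLocalRing TensorProduct Polynomial

section H

variable {A S : Type u} [CommRing A] [IsLocalRing A] [CommRing S] [IsLocalRing S] [Algebra A S]
  [IsLocalHom (algebraMap A S)] [hS : Hensel.IsStrictHenselization A S]
  (R : Subalgebra A S) [hRh : HenselianLocalRing R] [hRl : IsLocalHom (algebraMap R S)]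
  (hR : UnitClosed R)

theorem henselian_unionSub : HenselianLocalRing (unionSub R hR) := by
  classical
  refine { toIsLocalRing := isLocalRing_unionSub R hR, is_henselian := ?_ }
  intro f hf a₀ h₁ h₂
  -- a member of the family containing the coefficients and `a₀`
  let t : Finset S := (f.support.image (fun i => ((f.coeff i : unionSub R hR) : S))) ∪ {(a₀ : S)}
  have ht : ∀ x ∈ t, x ∈ unionSub R hR := by
    intro x hx
    rcases Finset.mem_union.mp hx with hx | hx
    · obtain ⟨i, -, rfl⟩ := Finset.mem_image.mp hx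
      exact (f.coeff i).2
    · rw [Finset.mem_singleton] at hx
      rw [hx]
      exact a₀.2
  obtain ⟨E, hE, htE⟩ := exists_essSub_finset R hR t ht
  have hEH : E ≤ unionSub R hR := le_unionSub R hR E hE
  let jE : E →ₐ[A] unionSub R hR := Subalgebra.inclusion hEH
  let _ : Algebra E (unionSub R hR) := jE.toRingHom.toAlgebra
  have htow : IsScalarTower E (unionSub R hR) S := IsScalarTower.of_algebraMap_eq (fun e => rfl)
  have hlifts : f ∈ lifts (algebraMap E (unionSub R hR)) := by
    rw [lifts_iff_coeff_lifts]
    intro n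
    by_cases hn : n ∈ f.support
    · have hmem : ((f.coeff n : unionSub R hR) : S) ∈ E :=
        htE _ (Finset.mem_union_left _ (Finset.mem_image_of_mem _ hn))
      exact ⟨⟨_, hmem⟩, Subtype.ext rfl⟩
    · rw [notMem_support_iff.mp hn]
      exact ⟨0, map_zero _⟩
  obtain ⟨fE, hfE, -, hfEm⟩ := lifts_and_natDegree_eq_and_monic hlifts hf
  have hev : ∀ (g : Polynomial E) (x : unionSub R hR),
      algebraMap (unionSub R hR) S (eval x (g.map (algebraMap E (unionSub R hR)))) =
        aeval (x : S) g := by
    intro g x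
    rw [eval_map_algebraMap, ← aeval_algebraMap_apply]
    rfl
  have hval_mem : ∀ x : unionSub R hR, x ∈ maximalIdeal (unionSub R hR) →
      (x : S) ∈ maximalIdeal S := by
    intro x hx
    rw [mem_maximalIdeal, mem_nonunits_iff]
    intro hu
    exact (mem_maximalIdeal _).mp hx (isUnit_unionSub R hR x hu)
  have h₁' : aeval (a₀ : S) fE ∈ maximalIdeal S := by
    rw [← hev, hfE]
    exact hval_mem _ h₁
  have h₂' : IsUnit (aeval (a₀ : S) (derivative fE)) := by
    rw [← hev, ← derivative_map, hfE]
    exact h₂.map _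
  obtain ⟨a, haH, haroot, haa₀⟩ := exists_root_unionSub R hR E hE fE hfEm (a₀ : S)
    (unionSub_le R hR a₀.2) h₁' h₂'
  refine ⟨⟨a, haH⟩, ?_, ?_⟩
  · have h3 := hev fE ⟨a, haH⟩
    rw [hfE] at h3
    have h4 : algebraMap (unionSub R hR) S (eval ⟨a, haH⟩ f) = 0 := by
      rw [h3]; exact haroot
    exact Subtype.ext h4
  · rw [mem_maximalIdeal, mem_nonunits_iff]
    intro hu
    have h5 : IsUnit (((⟨a, haH⟩ - a₀ : unionSub R hR)) : S) := hu.map (unionSub R hR).val
    exact (mem_maximalIdeal _).mp haa₀ h5

end H

end Groth.Agent.Lib.Helper4.HensUn
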