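import Mathlib
import Groth.Prelude.Def_Hensel
import Groth.Prelude.Def_EssEt
import Groth.Agent.Lib.Helper4.HensUn5
import Groth.Agent.Lib.Helper4.FEtGal2
import Groth.Agent.Lib.Helper4.EssEtDescent

/-!
# A henselian subalgebra `R` of `S = A^sh` with `S = R^sh` is a union of essentially étale local
`A`-subalgebras
-/

set_option autoImplicit false
set_option linter.unusedSectionVars false
universe u

namespace Groth.Agent.Lib.Helper4.HensUn

open IsLocalRing TensorProduct Polynomial

section H

variable {A S : Type u} [CommRing A] [IsLocalRing A] [CommRing S] [IsLocalRing S] [Algebra A S]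
  [IsLocalHom (algebraMap A S)] [hS : Hensel.IsStrictHenselization A S]
  (R : Subalgebra A S) [hRh : HenselianLocalRing R] [hRl : IsLocalHom (algebraMap R S)]
  [hRS : Hensel.IsStrictHenselization R S]
  (hR : UnitClosed R)

set_option maxHeartbeats 1600000 in
set_option synthInstance.maxHeartbeats 400000 in
/-- **Descent**: `R` is contained in the union. -/
theorem le_unionSub_of_strict : R ≤ unionSub R hR := by
  intro x hx
  have hHh : HenselianLocalRing (unionSub R hR) := henselian_unionSub R hR
  have hHS : Hensel.IsStrictHenselization (unionSub R hR) S := isStrictHenselization_unionSub R hR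
  obtain ⟨B, _, _, hBloc, hBlh, hBfin, hBet, -, ψ, hψloc, hxψ⟩ :=
    FEtGal.exists_finiteEtale_galois (unionSub R hR) S {x}
  obtain ⟨b, hb⟩ : ∃ b, ψ b = x := hxψ (by simp)
  -- `R` as an algebra over the union
  let j : unionSub R hR →ₐ[A] R := Subalgebra.inclusion (unionSub_le R hR)
  let _ : Algebra (unionSub R hR) R := j.toRingHom.toAlgebra
  have htow : IsScalarTower (unionSub R hR) R S := IsScalarTower.of_algebraMap_eq (fun _ => rfl)
  have hjloc : IsLocalHom (algebraMap (unionSub R hR) R) := by
    constructor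
    intro h hh
    have h1 : IsUnit ((h : unionSub R hR) : S) := hh.map (algebraMap R S)
    exact isUnit_unionSub R hR h h1
  have hflatB : Module.Flat (unionSub R hR) B := inferInstance
  have hffB : Module.FaithfullyFlat (unionSub R hR) B := Module.FaithfullyFlat.of_flat_of_isLocalHom
  have hmB : (maximalIdeal (unionSub R hR)).map (algebraMap (unionSub R hR) B) = maximalIdeal B :=
    Algebra.FormallyUnramified.map_maximalIdeal
  -- the tensor product
  let μ : R ⊗[unionSub R hR] B →ₐ[R] S :=
    Algebra.TensorProduct.lift (Algebra.ofId R S) ψ (fun _ _ => Commute.all _ _)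
  have hμ : ∀ (r : R) (b : B), μ (r ⊗ₜ[unionSub R hR] b) = (r : S) * ψ b := fun r b =>
    Algebra.TensorProduct.lift_tmul _ _ _ r b
  let χ : R ⊗[unionSub R hR] B →+* ResidueField S := (residue S).comp μ.toRingHom
  have hχ : ∀ t, χ t = residue S (μ t) := fun t => rfl
  have hint : Algebra.IsIntegral R (R ⊗[unionSub R hR] B) := inferInstance
  -- representatives
  have hrep : ∀ t : R ⊗[unionSub R hR] B, ∃ b : B,
      t - (1 : R) ⊗ₜ[unionSub R hR] b ∈
        (maximalIdeal R).map (algebraMap R (R ⊗[unionSub R hR] B)) := by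
    intro t
    induction t using TensorProduct.induction_on with
    | zero => exact ⟨0, by simp⟩
    | tmul r b =>
      obtain ⟨h, hhH, hh⟩ := exists_sub_mem_unionSub R hR (r : S) r.2
      have h1 : r - algebraMap (unionSub R hR) R ⟨h, hhH⟩ ∈ maximalIdeal R := by
        apply mem_maximalIdeal_of_val_mem
        have h2 : ((r - algebraMap (unionSub R hR) R ⟨h, hhH⟩ : R) : S) = -(h - (r : S)) := by
          rw [Subalgebra.coe_sub, neg_sub]
          rfl
        rw [h2]
        exact neg_mem hh
      refine ⟨(⟨h, hhH⟩ : unionSub R hR) • b, ?_⟩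
      have h3 : r ⊗ₜ[unionSub R hR] b - (1 : R) ⊗ₜ[unionSub R hR] ((⟨h, hhH⟩ : unionSub R hR) • b) =
          algebraMap R (R ⊗[unionSub R hR] B) (r - algebraMap (unionSub R hR) R ⟨h, hhH⟩) *
            ((1 : R) ⊗ₜ[unionSub R hR] b) := by
        rw [Algebra.TensorProduct.algebraMap_apply, Algebra.algebraMap_self, RingHom.id_apply,
          Algebra.TensorProduct.tmul_mul_tmul, mul_one, one_mul, TensorProduct.sub_tmul,
          ← TensorProduct.smul_tmul, Algebra.smul_def, mul_one]
      rw [h3]
      exact Ideal.mul_mem_right _ _ (Ideal.mem_map_of_mem _ h1)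
    | add x y hx hy =>
      obtain ⟨s, hs⟩ := hx
      obtain ⟨t, ht⟩ := hy
      refine ⟨s + t, ?_⟩
      have : x + y - (1 : R) ⊗ₜ[unionSub R hR] (s + t) =
          (x - (1 : R) ⊗ₜ[unionSub R hR] s) + (y - (1 : R) ⊗ₜ[unionSub R hR] t) := by
        rw [TensorProduct.tmul_add]; ring
      rw [this]
      exact Ideal.add_mem _ hs ht
  -- the kernel of `χ`
  have hle : (maximalIdeal R).map (algebraMap R (R ⊗[unionSub R hR] B)) ≤ RingHom.ker χ := by
    rw [Ideal.map_le_iff_le_comap]
    intro r hr
    rw [Ideal.mem_comap, RingHom.mem_ker, hχ, AlgHom.commutes, residue_eq_zero_iff]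
    exact val_mem_maximalIdeal R hr
  have hone : ∀ b : B, b ∈ maximalIdeal B → (1 : R) ⊗ₜ[unionSub R hR] b ∈
      (maximalIdeal R).map (algebraMap R (R ⊗[unionSub R hR] B)) := by
    intro b hb
    rw [← hmB] at hb
    have h4 : (1 : R) ⊗ₜ[unionSub R hR] b =
        (Algebra.TensorProduct.includeRight : B →ₐ[unionSub R hR] R ⊗[unionSub R hR] B) b := rfl
    rw [h4]
    have h5 := Ideal.mem_map_of_mem
      (Algebra.TensorProduct.includeRight :
        B →ₐ[unionSub R hR] R ⊗[unionSub R hR] B).toRingHom hb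
    rw [Ideal.map_map] at h5
    have h6 : (Algebra.TensorProduct.includeRight :
        B →ₐ[unionSub R hR] R ⊗[unionSub R hR] B).toRingHom.comp
          (algebraMap (unionSub R hR) B) =
        (algebraMap R (R ⊗[unionSub R hR] B)).comp (algebraMap (unionSub R hR) R) := by
      refine RingHom.ext fun r => ?_
      change (1 : R) ⊗ₜ[unionSub R hR] (algebraMap (unionSub R hR) B r) =
        (algebraMap (unionSub R hR) R r) ⊗ₜ[unionSub R hR] (1 : B)
      rw [Algebra.algebraMap_eq_smul_one, Algebra.algebraMap_eq_smul_one,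
        TensorProduct.smul_tmul]
    rw [h6, ← Ideal.map_map] at h5
    refine Ideal.map_mono ?_ h5
    exact ((local_hom_TFAE (algebraMap (unionSub R hR) R)).out 0 2).mp hjloc
  have hker : RingHom.ker χ = (maximalIdeal R).map (algebraMap R (R ⊗[unionSub R hR] B)) := by
    apply le_antisymm _ hle
    intro t ht
    obtain ⟨b, hb'⟩ := hrep t
    have h1 : χ ((1 : R) ⊗ₜ[unionSub R hR] b) = 0 := by
      have h2 := hle hb'
      rw [RingHom.mem_ker, map_sub, RingHom.mem_ker.mp ht, zero_sub, neg_eq_zero] at h2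
      exact h2
    rw [hχ, hμ, OneMemClass.coe_one, one_mul, residue_eq_zero_iff] at h1
    have h3 : b ∈ maximalIdeal B := by
      rw [mem_maximalIdeal, mem_nonunits_iff]
      intro hu
      exact (mem_maximalIdeal _).mp h1 (hu.map ψ)
    have h4 := hone b h3
    have h5 : t = (t - (1 : R) ⊗ₜ[unionSub R hR] b) + (1 : R) ⊗ₜ[unionSub R hR] b := by ring
    rw [h5]
    exact Ideal.add_mem _ hb' h4
  have hχmax : (RingHom.ker χ).IsMaximal := by
    have hp : (RingHom.ker χ).IsPrime := RingHom.ker_isPrime χ
    apply Ideal.isMaximal_of_isIntegral_of_isMaximal_comap (R := R)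
    have h1 : (RingHom.ker χ).comap (algebraMap R (R ⊗[unionSub R hR] B)) = maximalIdeal R := by
      ext r
      rw [Ideal.mem_comap, RingHom.mem_ker, hχ, AlgHom.commutes, residue_eq_zero_iff]
      exact ⟨fun h => mem_maximalIdeal_of_val_mem R h, fun h => val_mem_maximalIdeal R h⟩
    rw [h1]
    infer_instance
  have hmax : ((maximalIdeal R).map (algebraMap R (R ⊗[unionSub R hR] B))).IsMaximal := by
    rw [← hker]; exact hχmax
  have hTloc : IsLocalRing (R ⊗[unionSub R hR] B) :=
    EssEtD.isLocalRing_of_finite_of_isMaximal_map R _ hmax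
  have hmT : (maximalIdeal R).map (algebraMap R (R ⊗[unionSub R hR] B)) =
      maximalIdeal (R ⊗[unionSub R hR] B) := IsLocalRing.eq_maximalIdeal hmax
  have hRTloc : IsLocalHom (algebraMap R (R ⊗[unionSub R hR] B)) :=
    ((local_hom_TFAE (algebraMap R (R ⊗[unionSub R hR] B))).out 0 2).mpr hmT.le
  have hTet : EGA4loc.IsEssentiallyEtale R (R ⊗[unionSub R hR] B) :=
    FEtGal.essEtale_of_etale R (R ⊗[unionSub R hR] B)
  let _ : Algebra (R ⊗[unionSub R hR] B) S := μ.toRingHom.toAlgebra
  have htow2 : IsScalarTower R (R ⊗[unionSub R hR] B) S :=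
    IsScalarTower.of_algebraMap_eq (fun r => (μ.commutes r).symm)
  have hTSloc : IsLocalHom (algebraMap (R ⊗[unionSub R hR] B) S) := by
    constructor
    intro t ht
    by_contra hnu
    have h1 : t ∈ maximalIdeal (R ⊗[unionSub R hR] B) := (mem_maximalIdeal t).mpr hnu
    rw [← hmT, ← hker, RingHom.mem_ker, hχ, residue_eq_zero_iff] at h1
    exact (mem_maximalIdeal _).mp h1 ht
  have hTS : Hensel.IsStrictHenselization (R ⊗[unionSub R hR] B) S :=
    Hzs.isStrictHenselization_of_essEtale hTet
  have hffT : Module.FaithfullyFlat (R ⊗[unionSub R hR] B) S :=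
    Hzs.faithfullyFlat_of_isStrictHenselization (R ⊗[unionSub R hR] B) S
  have hμinj : Function.Injective μ := FaithfulSMul.algebraMap_injective (R ⊗[unionSub R hR] B) S
  -- the descent
  have heq : (⟨x, hx⟩ : R) ⊗ₜ[unionSub R hR] (1 : B) = (1 : R) ⊗ₜ[unionSub R hR] b := by
    apply hμinj
    rw [hμ, hμ, map_one, mul_one, OneMemClass.coe_one, one_mul, hb]
  let q := Submodule.mkQ (LinearMap.range (Algebra.linearMap (unionSub R hR) R))
  have h1 := congrArg (q.rTensor B) heq
  rw [LinearMap.rTensor_tmul, LinearMap.rTensor_tmul] at h1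
  have hq1 : q (1 : R) = 0 := by
    rw [Submodule.mkQ_apply, Submodule.Quotient.mk_eq_zero]
    exact ⟨1, by simp⟩
  rw [hq1, TensorProduct.zero_tmul] at h1
  have h2 := congrArg (TensorProduct.comm (unionSub R hR) _ B) h1
  rw [TensorProduct.comm_tmul, map_zero] at h2
  have h3 : TensorProduct.mk (unionSub R hR) B _ 1 (q ⟨x, hx⟩) =
      TensorProduct.mk (unionSub R hR) B _ 1 0 := by
    rw [map_zero]; exact h2
  have h4 := Module.FaithfullyFlat.tensorProduct_mk_injective (A := unionSub R hR) (B := B) _ h3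
  rw [Submodule.mkQ_apply, Submodule.Quotient.mk_eq_zero] at h4
  obtain ⟨h, hh⟩ := h4
  have h5 : ((h : unionSub R hR) : S) = x := congrArg Subtype.val hh
  rw [← h5]
  exact h.2

end H

end Groth.Agent.Lib.Helper4.HensUn
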