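import Mathlib
import Groth.Prelude.Def_Hensel
import Groth.Prelude.Def_EssEt
import Groth.Agent.Lib.Helper4.HensUn1
import Groth.Agent.Lib.Helper4.HensUn6
import Groth.Agent.Lib.Helper4.HzsNoethSub

/-!
# A henselian local algebra inside `S = A^sh` of which `S` is a strict henselization is a directed
union of essentially étale local `A`-subalgebras, and conversely
-/

set_option autoImplicit false
set_option linter.unusedSectionVars false
universe u

namespace Groth.Agent.Lib.Helper4.HensUn

open IsLocalRing TensorProduct Polynomial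

section U

variable {A S : Type u} [CommRing A] [IsLocalRing A] [CommRing S] [IsLocalRing S] [Algebra A S]
  [IsLocalHom (algebraMap A S)] [hS : Hensel.IsStrictHenselization A S]

/-- **Theorem U.** -/
theorem exists_essEtale_sub_of_finset (R : Subalgebra A S) [hRh : HenselianLocalRing R]
    [hRl : IsLocalHom (algebraMap R S)] [hRS : Hensel.IsStrictHenselization R S]
    (t : Finset S) (ht : ∀ x ∈ t, x ∈ R) :
    ∃ E : Subalgebra A S, (∀ x ∈ t, x ∈ E) ∧ E ≤ R ∧
      ∃ _ : IsLocalRing E, EGA4loc.IsEssentiallyEtale A E := by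
  have hR := unitClosed_of_isLocalHom R
  obtain ⟨E, hE, htE⟩ := exists_essSub_finset R hR t
    (fun x hx => le_unionSub_of_strict R hR (ht x hx))
  exact ⟨E, htE, hE.1, hE.2⟩

variable (A S) (Dh : Type u) [CommRing Dh] [IsLocalRing Dh] [Algebra A Dh] [Algebra Dh S]
  [IsScalarTower A Dh S] [hθl : IsLocalHom (algebraMap Dh S)]

/-- If the image of `Dh → S` is a union of essentially étale local subalgebras, then `S` is a
strict henselization of `Dh`. -/
theorem isStrictHenselization_of_union
    (hinj : Function.Injective (algebraMap Dh S))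
    (hE : ∀ s : Finset S, (s : Set S) ⊆ Set.range (algebraMap Dh S) →
      ∃ E : Subalgebra A S, (s : Set S) ⊆ (E : Set S) ∧
        (E : Set S) ⊆ Set.range (algebraMap Dh S) ∧
        ∃ _ : IsLocalRing E, EGA4loc.IsEssentiallyEtale A E) :
    Hensel.IsStrictHenselization Dh S := by
  classical
  have hι : (algebraMap Dh S).comp (algebraMap A Dh) = algebraMap A S :=
    (IsScalarTower.algebraMap_eq A Dh S).symm
  refine Hzs.isStrictHenselization_of_factor (B := A) (Bh := S) (D := Dh) (algebraMap A Dh) hι ?_
  intro T _ _ f hf τ g hτ hg hres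
  refine RingHom.ext fun y => ?_
  obtain ⟨E, hsE, hER, hl, hEet⟩ := hE {algebraMap Dh S y} (by
    intro z hz
    rw [Finset.coe_singleton, Set.mem_singleton_iff] at hz
    exact ⟨y, hz.symm⟩)
  have hyE : algebraMap Dh S y ∈ E := hsE (by simp)
  obtain ⟨j, hj⟩ := exists_ringHom_comp_eq (algebraMap Dh S) hinj (algebraMap E S)
    (fun e => hER e.2)
  let _ : Algebra A T := (g.comp (algebraMap A S)).toAlgebra
  let ψ : E →ₐ[A] T := { g.comp (algebraMap E S) with commutes' := fun a => rfl }
  let ψ' : E →ₐ[A] T :=
    { f.comp j with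
      commutes' := fun a => by
        have h1 : j (algebraMap A E a) = algebraMap A Dh a := by
          apply hinj
          rw [hj, ← IsScalarTower.algebraMap_apply A Dh S]
          rfl
        show f (j (algebraMap A E a)) = g (algebraMap A S a)
        rw [h1]
        exact (RingHom.congr_fun hg a).symm }
  have hψψ' : ψ = ψ' := by
    refine EssEtale.algHom_ext hEet ψ ψ' fun e => ?_
    rw [← residue_eq_zero_iff, map_sub, sub_eq_zero]
    show residue T (g (algebraMap E S e)) = residue T (f (j e))
    rw [hres]
    have h2 := RingHom.congr_fun hτ (residue Dh (j e))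
    simp only [RingHom.comp_apply, ResidueField.map_residue] at h2
    rw [← h2, hj]
  have h3 := AlgHom.congr_fun hψψ' ⟨_, hyE⟩
  have h4 : j ⟨_, hyE⟩ = y := hinj (hj _)
  have h5 : g (algebraMap Dh S y) = f (j ⟨_, hyE⟩) := h3
  rw [h4] at h5
  exact h5

/-- If `S` is a strict henselization of the henselian local ring `Dh` (injecting into `S`), the
image of `Dh` is a directed union of essentially étale local `A`-subalgebras. -/
theorem exists_essEtale_sub_range [hDhh : HenselianLocalRing Dh]
    [hDhS : Hensel.IsStrictHenselization Dh S]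
    (hinj : Function.Injective (algebraMap Dh S))
    (s : Finset S) (hs : (s : Set S) ⊆ Set.range (algebraMap Dh S)) :
    ∃ E : Subalgebra A S, (s : Set S) ⊆ (E : Set S) ∧
      (E : Set S) ⊆ Set.range (algebraMap Dh S) ∧
      ∃ _ : IsLocalRing E, EGA4loc.IsEssentiallyEtale A E := by
  let θ : Dh →ₐ[A] S := IsScalarTower.toAlgHom A Dh S
  have hθ : ∀ y, θ y = algebraMap Dh S y := fun y => rfl
  let e : Dh ≃ₐ[A] θ.range := AlgEquiv.ofInjective θ hinj
  have he : ∀ y, ((e y : θ.range) : S) = algebraMap Dh S y := fun y => rfl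
  have hRloc : IsLocalRing θ.range := e.toRingEquiv.isLocalRing
  have hRh : HenselianLocalRing θ.range := Hzs.henselian_of_ringEquiv' e.toRingEquiv
  have hRl : IsLocalHom (algebraMap θ.range S) := by
    constructor
    rintro ⟨_, y, rfl⟩ hu
    have hu' : IsUnit (algebraMap Dh S y) := hu
    exact (hθl.map_nonunit y hu').map e
  have hRS : Hensel.IsStrictHenselization θ.range S := by
    have hι : (algebraMap θ.range S).comp (e : Dh →+* θ.range) = algebraMap Dh S := by
      refine RingHom.ext fun y => ?_
      exact he y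
    refine Hzs.isStrictHenselization_of_factor (B := Dh) (Bh := S) (D := θ.range)
      (e : Dh →+* θ.range) hι ?_
    intro T _ _ f hf τ g hτ hg hres
    refine RingHom.ext fun r => ?_
    obtain ⟨y, rfl⟩ := e.surjective r
    have h1 : g (algebraMap Dh S y) = f (e y) := RingHom.congr_fun hg y
    show g (algebraMap θ.range S (e y)) = f (e y)
    rw [← h1]
    exact congrArg g (he y)
  obtain ⟨E, hsE, hER, hl, hEet⟩ := exists_essEtale_sub_of_finset θ.range s (by
    intro x hx
    obtain ⟨y, hy⟩ := hs hx
    exact ⟨y, hy⟩)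
  refine ⟨E, fun x hx => hsE x hx, ?_, hl, hEet⟩
  intro x hx
  obtain ⟨y, hy⟩ := hER hx
  exact ⟨y, hy⟩

end U

end Groth.Agent.Lib.Helper4.HensUn
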