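import Mathlib
import Groth.Agent.Lib.Helper4.HenselPairU

/-!
# Lifting coprime monic factorizations over a henselian pair
-/

set_option autoImplicit false
universe u

namespace Groth.Agent.Lib.Helper4.HenselPair

open Polynomial

/-- If `A ⧸ I` is trivial and `I` lies in the Jacobson radical then `A` is trivial. -/
theorem subsingleton_of_subsingleton_quotient {A : Type u} [CommRing A] (I : Ideal A)
    (hI : I ≤ Ideal.jacobson ⊥) [Subsingleton (A ⧸ I)] : Subsingleton A := by
  have h1 : (1 : A) ∈ I := by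
    rw [← Ideal.Quotient.eq_zero_iff_mem]
    exact Subsingleton.elim _ _
  have h2 := (Ideal.mem_jacobson_bot.mp (hI h1)) (-1)
  have h3 : (1 : A) * -1 + 1 = 0 := by ring
  rw [h3] at h2
  exact (subsingleton_iff_zero_eq_one.mp (isUnit_zero_iff.mp h2)) |> fun h => h

/-- **Hensel's lemma for coprime monic factorizations** over a henselian pair. -/
theorem exists_monic_factor_lift {A : Type u} [CommRing A] (I : Ideal A) [HenselianRing A I]
    (f : A[X]) (hf : f.Monic) (g₀ h₀ : (A ⧸ I)[X]) (hg₀ : g₀.Monic) (hh₀ : h₀.Monic)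
    (hcop : IsCoprime g₀ h₀) (hfac : f.map (Ideal.Quotient.mk I) = g₀ * h₀) :
    ∃ g h : A[X], g.Monic ∧ h.Monic ∧ f = g * h ∧ g.map (Ideal.Quotient.mk I) = g₀ ∧
      h.map (Ideal.Quotient.mk I) = h₀ := by
  classical
  rcases subsingleton_or_nontrivial (A ⧸ I) with hsub | hnt
  · have : Subsingleton A := subsingleton_of_subsingleton_quotient I HenselianRing.jac
    exact ⟨1, 1, monic_one, monic_one, Subsingleton.elim _ _, Subsingleton.elim _ _,
      Subsingleton.elim _ _⟩
  set m := g₀.natDegree with hm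
  set k := h₀.natDegree with hk
  have hdeg : f.natDegree = m + k := by
    rw [← hf.natDegree_map (Ideal.Quotient.mk I), hfac, hg₀.natDegree_mul hh₀]
  let p : MonicDegreeEq A (m + k) := MonicDegreeEq.mk f hf hdeg
  let q₁ : MonicDegreeEq (A ⧸ I) m := MonicDegreeEq.mk g₀ hg₀ rfl
  let q₂ : MonicDegreeEq (A ⧸ I) k := MonicDegreeEq.mk h₀ hh₀ rfl
  have hq : (q₁, q₂).1.1 * (q₁, q₂).2.1 = p.1.map (algebraMap A (A ⧸ I)) ∧
      IsCoprime (q₁, q₂).1.1 (q₁, q₂).2.1 := ⟨hfac.symm, hcop⟩
  let σ : UniversalCoprimeFactorizationRing m k rfl p →ₐ[A] A ⧸ I :=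
    (UniversalCoprimeFactorizationRing.homEquiv (A ⧸ I) m k rfl p).symm ⟨(q₁, q₂), hq⟩
  obtain ⟨τ, hτ⟩ := exists_lift_of_etale I σ
  set r := UniversalCoprimeFactorizationRing.homEquiv A m k rfl p τ with hr
  have h1 := UniversalCoprimeFactorizationRing.homEquiv_comp_fst A m k rfl p τ (Ideal.Quotient.mkₐ A I)
  have h2 := UniversalCoprimeFactorizationRing.homEquiv_comp_snd A m k rfl p τ (Ideal.Quotient.mkₐ A I)
  rw [hτ] at h1 h2
  have h3 : UniversalCoprimeFactorizationRing.homEquiv (A ⧸ I) m k rfl p σ = ⟨(q₁, q₂), hq⟩ :=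
    Equiv.apply_symm_apply _ _
  rw [h3] at h1 h2
  refine ⟨r.1.1.1, r.1.2.1, r.1.1.monic, r.1.2.monic, ?_, ?_, ?_⟩
  · have := r.2.1
    rw [this]
    simp [p]
  · have := congrArg Subtype.val h1
    exact this.symm
  · have := congrArg Subtype.val h2
    exact this.symm

end Groth.Agent.Lib.Helper4.HenselPair
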