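import Mathlib
import Groth.Agent.Lib.Helper4.HenselPairR
import Groth.Agent.Lib.Helper11.Gabber

/-!
# Transferring idempotent lifting along surjections with kernel nilpotent modulo `I`;
Gabber-type criterion via `A[T]/(p)` with `p ≡ (T² - T)^m`
-/

set_option autoImplicit false
universe u

namespace Groth.Agent.Lib.Helper4.HenselPair

open Polynomial

/-- If idempotents lift along `B → B/IB`, and `π : B → B'` is a surjection whose kernel is
nilpotent (of bounded exponent) modulo `I B`, then idempotents lift along `B' → B'/IB'`. -/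
theorem idempotent_lift_of_surjective_of_nilpotent {A : Type u} {B B' : Type u} [CommRing A]
    [CommRing B] [CommRing B'] [Algebra A B] [Algebra A B'] (I : Ideal A) (π : B →ₐ[A] B')
    (hπ : Function.Surjective π) (n : ℕ)
    (hker : ∀ y : B, π y = 0 → y ^ n ∈ I.map (algebraMap A B))
    (hB : Set.SurjOn (Ideal.Quotient.mk (I.map (algebraMap A B)))
      {e : B | IsIdempotentElem e} {e | IsIdempotentElem e})
    (β : B') (hβ : β * β - β ∈ I.map (algebraMap A B')) :
    ∃ e : B', IsIdempotentElem e ∧ e - β ∈ I.map (algebraMap A B') := by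
  set J := I.map (algebraMap A B) with hJ
  set J' := I.map (algebraMap A B') with hJ'
  have hJmap : J.map (π : B →+* B') = J' := by
    rw [hJ, Ideal.map_map]
    have h2 : (π : B →+* B').comp (algebraMap A B) = algebraMap A B' := π.comp_algebraMap
    rw [h2]
  obtain ⟨β₁, rfl⟩ := hπ β
  obtain ⟨i, hiJ, hi⟩ : ∃ i ∈ J, π i = π β₁ * π β₁ - π β₁ := by
    rw [← hJmap] at hβ
    obtain ⟨i, hiJ, hi⟩ := (Ideal.mem_map_iff_of_surjective (π : B →+* B') hπ).mp hβ
    exact ⟨i, hiJ, hi⟩
  have hnil : (β₁ * β₁ - β₁ - i) ^ n ∈ J := by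
    apply hker
    rw [map_sub, map_sub, map_mul, hi, sub_self]
  set x : B ⧸ J := Ideal.Quotient.mk J β₁ with hx
  have hxn : (x * x - x) ^ n = 0 := by
    have h1 : x * x - x = Ideal.Quotient.mk J (β₁ * β₁ - β₁ - i) := by
      rw [map_sub, map_sub, map_mul, Ideal.Quotient.eq_zero_iff_mem.mpr hiJ, sub_zero]
    rw [h1, ← map_pow]
    exact Ideal.Quotient.eq_zero_iff_mem.mpr hnil
  -- lift modulo the nilpotent element
  obtain ⟨e', he', hxe'⟩ : ∃ e' : B ⧸ J, IsIdempotentElem e' ∧
      e' - x ∈ Ideal.span ({x * x - x} : Set (B ⧸ J)) := by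
    set K : Ideal (B ⧸ J) := Ideal.span ({x * x - x} : Set (B ⧸ J)) with hK
    have hkerK : ∀ y ∈ RingHom.ker (Ideal.Quotient.mk K), IsNilpotent y := by
      intro y hy
      rw [Ideal.mk_ker, hK, Ideal.mem_span_singleton'] at hy
      obtain ⟨c, rfl⟩ := hy
      exact ⟨n, by rw [mul_pow, hxn, mul_zero]⟩
    have hidem : IsIdempotentElem (Ideal.Quotient.mk K x) := by
      change _ * _ = _
      rw [← map_mul, Ideal.Quotient.eq]
      exact Ideal.mem_span_singleton_self _
    obtain ⟨e', he', hxe'⟩ := exists_isIdempotentElem_eq_of_ker_isNilpotent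
      (Ideal.Quotient.mk K) hkerK _ ⟨x, rfl⟩ hidem
    exact ⟨e', he', Ideal.Quotient.eq.mp hxe'⟩
  obtain ⟨e₁, he₁, he₁e'⟩ := hB he'
  refine ⟨π e₁, he₁.map π, ?_⟩
  obtain ⟨c, hc⟩ := Ideal.mem_span_singleton'.mp hxe'
  obtain ⟨c₁, rfl⟩ := Ideal.Quotient.mk_surjective c
  have h3 : e₁ - β₁ - c₁ * (β₁ * β₁ - β₁) ∈ J := by
    rw [← Ideal.Quotient.eq_zero_iff_mem, map_sub, map_sub, map_mul, map_sub, map_mul, he₁e', ← hx,
      hc, sub_self]
  have h4 : π (e₁ - β₁ - c₁ * (β₁ * β₁ - β₁)) ∈ J' := by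
    rw [← hJmap]
    exact Ideal.mem_map_of_mem _ h3
  have h5 : π e₁ - π β₁ = π (e₁ - β₁ - c₁ * (β₁ * β₁ - β₁)) + π c₁ * (π β₁ * π β₁ - π β₁) := by
    simp only [map_sub, map_mul]
    ring
  rw [h5]
  exact J'.add_mem h4 (J'.mul_mem_left _ hβ)

theorem gabber_aux1 {R : Type*} [CommRing R] (x : R) (k : ℕ) :
    x ^ (k + 1) * (x - 1) * (x - 1) ^ k = (x ^ 2 - x) ^ (k + 1) := by
  have h : x ^ 2 - x = x * (x - 1) := by ring
  rw [h]
  generalize x - 1 = y
  ring

theorem gabber_aux2 {R : Type*} [CommRing R] (x : R) (k : ℕ) :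
    (x ^ (k + 1) * (x - 1)) ^ (k + 1) - x ^ (k + 1) * (x - 1) * (x - 1) ^ k * x ^ ((k + 1) * k) =
      0 := by
  generalize x - 1 = y
  ring

/-- **Gabber-type criterion**: if `I ⊆ rad A` and idempotents lift along `B → B/IB` for the
algebras `B = A[T]/(p)` with `p` monic congruent to `(T² - T)^m`, then `(A, I)` is henselian. -/
theorem henselianRing_of_idempotent_lift_adjoinRoot (A : Type u) [CommRing A]
    (I : Ideal A) (hI : I ≤ Ideal.jacobson ⊥)
    (h : ∀ (m : ℕ) (p : Polynomial A), p.Monic →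
      Polynomial.map (Ideal.Quotient.mk I) p =
        Polynomial.map (Ideal.Quotient.mk I) ((Polynomial.X ^ 2 - Polynomial.X) ^ m) →
      Set.SurjOn (Ideal.Quotient.mk (Ideal.map (algebraMap A (AdjoinRoot p)) I))
        {e : AdjoinRoot p | IsIdempotentElem e} {e | IsIdempotentElem e}) :
    HenselianRing A I := by
  apply Groth.Agent.Lib.Helper11.henselianRing_of_gabberCrit
  refine ⟨hI, fun n hn q hq hqI => ?_⟩
  obtain ⟨k, rfl⟩ : ∃ k, n = k + 1 := ⟨n - 1, by omega⟩
  set F : A[X] := X ^ (k + 1) * (X - 1) + q with hF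
  have hFm : F.Monic := Groth.Agent.Lib.Helper11.gabber_poly_monic (k + 1) q hq
  have hqmap : q.map (Ideal.Quotient.mk I) = 0 := by
    ext j
    rw [Polynomial.coeff_map, Polynomial.coeff_zero]
    exact Ideal.Quotient.eq_zero_iff_mem.mpr (hqI j)
  have hFmap : F.map (Ideal.Quotient.mk I) = X ^ (k + 1) * (X - 1) := by
    rw [hF, Polynomial.map_add, hqmap, add_zero]
    simp
  -- the auxiliary polynomial `p`
  set p : A[X] := F * (X - 1) ^ k with hp
  have hX1 : (X - 1 : A[X]).Monic := by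
    have : (X - 1 : A[X]) = X - C 1 := by simp
    rw [this]
    exact monic_X_sub_C 1
  have hpm : p.Monic := hFm.mul (hX1.pow k)
  have hpmap : p.map (Ideal.Quotient.mk I) =
      Polynomial.map (Ideal.Quotient.mk I) ((X ^ 2 - X) ^ (k + 1)) := by
    rw [hp, Polynomial.map_mul, hFmap, Polynomial.map_pow, Polynomial.map_pow, Polynomial.map_sub,
      Polynomial.map_sub, Polynomial.map_pow, Polynomial.map_X, Polynomial.map_one]
    exact gabber_aux1 X k
  have hsurj := h (k + 1) p hpm hpmap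
  -- the projection `A[T]/(p) → A[T]/(F)`
  have hroot : Polynomial.eval₂ (Algebra.ofId A (AdjoinRoot F) : A →+* AdjoinRoot F)
      (AdjoinRoot.root F) p = 0 := by
    have h1 : Polynomial.eval₂ (Algebra.ofId A (AdjoinRoot F) : A →+* AdjoinRoot F)
        (AdjoinRoot.root F) p = AdjoinRoot.mk F p := by
      change Polynomial.aeval (AdjoinRoot.root F) p = _
      rw [AdjoinRoot.aeval_eq]
    rw [h1, hp, map_mul, AdjoinRoot.mk_self, zero_mul]
  let π : AdjoinRoot p →ₐ[A] AdjoinRoot F :=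
    AdjoinRoot.liftAlgHom p (Algebra.ofId A (AdjoinRoot F)) (AdjoinRoot.root F) hroot
  have hπmk : ∀ P : A[X], π (AdjoinRoot.mk p P) = AdjoinRoot.mk F P := by
    intro P
    change AdjoinRoot.liftAlgHom p _ _ hroot (AdjoinRoot.mk p P) = _
    rw [AdjoinRoot.liftAlgHom_mk]
    change Polynomial.aeval (AdjoinRoot.root F) P = _
    rw [AdjoinRoot.aeval_eq]
  have hπsurj : Function.Surjective π := by
    intro y
    obtain ⟨P, rfl⟩ := AdjoinRoot.mk_surjective y
    exact ⟨AdjoinRoot.mk p P, hπmk P⟩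
  -- `F^(k+1) ≡ p * X^((k+1)k)` modulo `I`
  have hFpow : F ^ (k + 1) - p * X ^ ((k + 1) * k) ∈ I.map (C : A →+* A[X]) := by
    have h1 : F ^ (k + 1) - p * X ^ ((k + 1) * k) ∈
        RingHom.ker (Polynomial.mapRingHom (Ideal.Quotient.mk I)) := by
      rw [RingHom.mem_ker, Polynomial.coe_mapRingHom, Polynomial.map_sub, Polynomial.map_pow,
        Polynomial.map_mul, Polynomial.map_pow, Polynomial.map_X, hp, Polynomial.map_mul, hFmap,
        Polynomial.map_pow, Polynomial.map_sub, Polynomial.map_X, Polynomial.map_one]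
      exact gabber_aux2 X k
    rwa [Polynomial.ker_mapRingHom, Ideal.mk_ker] at h1
  have hker : ∀ y : AdjoinRoot p, π y = 0 →
      y ^ (k + 1) ∈ I.map (algebraMap A (AdjoinRoot p)) := by
    intro y hy
    obtain ⟨P, rfl⟩ := AdjoinRoot.mk_surjective y
    rw [hπmk, AdjoinRoot.mk_eq_zero] at hy
    obtain ⟨w, rfl⟩ := hy
    have h1 : AdjoinRoot.mk p (F * w) ^ (k + 1) =
        AdjoinRoot.mk p (F ^ (k + 1) - p * X ^ ((k + 1) * k)) * AdjoinRoot.mk p (w ^ (k + 1)) := by
      rw [← map_pow, ← map_mul, mul_pow, sub_mul, map_sub, mul_assoc p, map_mul _ p,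
        AdjoinRoot.mk_self, zero_mul, sub_zero]
    rw [h1]
    refine Ideal.mul_mem_right _ _ ?_
    have h2 : I.map (algebraMap A (AdjoinRoot p)) =
        (I.map (C : A →+* A[X])).map (AdjoinRoot.mk p) := by
      rw [Ideal.map_map]
      rfl
    rw [h2]
    exact Ideal.mem_map_of_mem _ hFpow
  -- apply the root-lifting lemma at `b₀ = 1`
  have h0 : F.eval 1 ∈ I := by
    have h1 : F.eval 1 = q.eval 1 := by simp [hF]
    rw [h1]
    exact Groth.Agent.Lib.Helper11.eval_mem_of_coeff_mem I q hqI 1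
  have hu : IsUnit (Ideal.Quotient.mk I (F.derivative.eval 1)) := by
    have h1 : Ideal.Quotient.mk I (F.derivative.eval 1) =
        ((F.map (Ideal.Quotient.mk I)).derivative).eval 1 := by
      rw [Polynomial.derivative_map, Polynomial.eval_map]
      have h2 := Polynomial.eval₂_at_apply (p := F.derivative) (Ideal.Quotient.mk I) (1 : A)
      rw [map_one] at h2
      exact h2.symm
    rw [h1, hFmap]
    simp [Polynomial.derivative_mul]
  obtain ⟨b, hb, hb1⟩ := exists_root_of_idempotent_lift I hI F hFm 1 h0 hu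
    (fun β hβ => idempotent_lift_of_surjective_of_nilpotent I π hπsurj (k + 1) hker hsurj β hβ)
  exact ⟨b, hb1, hb⟩

end Groth.Agent.Lib.Helper4.HenselPair
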