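import Mathlib
import Groth.Agent.Lib.Helper4.HenselPairS
import Groth.Agent.Lib.Helper4.HenselPairQ

/-!
# Unramified algebras over strictly henselian local rings (Stacks 04GL)
-/

set_option autoImplicit false
universe u v w

namespace Groth.Agent.Lib.Helper4.HenselPair

open Groth.Agent.Lib.Helper4

/-- A local ring which is finite and unramified over a local ring with separably closed residue
field is a quotient of it. -/
theorem surjective_algebraMap_of_finite_unramified (R C : Type u) [CommRing R] [IsLocalRing R]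
    [IsSepClosed (IsLocalRing.ResidueField R)] [CommRing C] [IsLocalRing C] [Algebra R C]
    [Module.Finite R C] [Algebra.FormallyUnramified R C] :
    Function.Surjective (algebraMap R C) := by
  have hloc : IsLocalHom (algebraMap R C) := by
    refine ((IsLocalRing.local_hom_TFAE (algebraMap R C)).out 0 4).mpr ?_
    have hmax : ((IsLocalRing.maximalIdeal C).comap (algebraMap R C)).IsMaximal :=
      Ideal.isMaximal_comap_of_isIntegral_of_isMaximal (R := R) _
    exact IsLocalRing.eq_maximalIdeal hmax
  have hmap : (IsLocalRing.maximalIdeal R).map (algebraMap R C) = IsLocalRing.maximalIdeal C :=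
    Algebra.FormallyUnramified.map_maximalIdeal
  have hres : Function.Surjective (algebraMap (IsLocalRing.ResidueField R)
      (IsLocalRing.ResidueField C)) := IsSepClosed.algebraMap_surjective _ _
  -- Nakayama
  let N : Submodule R C := LinearMap.range (Algebra.linearMap R C)
  have hle : (⊤ : Submodule R C) ≤ N ⊔ (IsLocalRing.maximalIdeal R) • (⊤ : Submodule R C) := by
    intro x _
    obtain ⟨y, hy⟩ := hres (IsLocalRing.residue C x)
    obtain ⟨a, rfl⟩ := IsLocalRing.residue_surjective y
    have h1 : x - algebraMap R C a ∈ IsLocalRing.maximalIdeal C := by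
      rw [← IsLocalRing.residue_eq_zero_iff, map_sub, sub_eq_zero, ← hy]
      rfl
    rw [← hmap] at h1
    have h1' : x - algebraMap R C a ∈ (IsLocalRing.maximalIdeal R) • (⊤ : Submodule R C) := by
      rw [Ideal.smul_top_eq_map]
      exact h1
    have h2 : x = algebraMap R C a + (x - algebraMap R C a) := by ring
    rw [h2]
    exact Submodule.add_mem _ (Submodule.mem_sup_left ⟨a, rfl⟩) (Submodule.mem_sup_right h1')
  have hJ : IsLocalRing.maximalIdeal R ≤ Ideal.jacobson ⊥ := by
    rw [IsLocalRing.jacobson_eq_maximalIdeal ⊥ bot_ne_top]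
  have hN : (⊤ : Submodule R C) ≤ N :=
    Submodule.le_of_le_smul_of_le_jacobson_bot Module.Finite.fg_top hJ hle
  intro x
  obtain ⟨a, ha⟩ := hN (Submodule.mem_top : x ∈ ⊤)
  exact ⟨a, ha⟩

/-- **Stacks 04GL**: an unramified algebra over a strictly henselian local ring is a finite product
of quotients of the base times an algebra with empty closed fibre. -/
theorem unramified_split (R : Type u) [CommRing R] [HenselianLocalRing R]
    [IsSepClosed (IsLocalRing.ResidueField R)] (S : Type u) [CommRing S] [Algebra R S]
    [Algebra.Unramified R S] :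
    ∃ (ι : Type u) (_ : Fintype ι) (A : ι → Type u) (_ : ∀ i, CommRing (A i))
      (_ : ∀ i, Algebra R (A i)) (B : Type u) (_ : CommRing B) (_ : Algebra R B),
      (∀ i, Function.Surjective (algebraMap R (A i))) ∧
      Ideal.map (algebraMap R B) (IsLocalRing.maximalIdeal R) = ⊤ ∧
      Nonempty (S ≃ₐ[R] ((∀ i, A i) × B)) := by
  classical
  obtain ⟨e, he, ⟨S', hS', hex⟩, h1e⟩ := exists_idempotent_quasiFinite_split R S
  -- the finite part
  have hfin : Module.Finite R (S ⧸ Ideal.span ({1 - e} : Set S)) := by
    have hfin' : Module.Finite R S' := ⟨(Submodule.fg_top _).mpr hS'⟩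
    let φ : S' →ₗ[R] S ⧸ Ideal.span ({1 - e} : Set S) :=
      (Ideal.Quotient.mkₐ R (Ideal.span ({1 - e} : Set S))).toLinearMap.comp S'.val.toLinearMap
    refine Module.Finite.of_surjective φ fun y => ?_
    obtain ⟨x, rfl⟩ := Ideal.Quotient.mk_surjective y
    refine ⟨⟨e * x, hex x⟩, ?_⟩
    change Ideal.Quotient.mk _ (e * x) = Ideal.Quotient.mk _ x
    rw [Ideal.Quotient.eq, Ideal.mem_span_singleton]
    exact ⟨-x, by ring⟩
  have htop : Ideal.map (algebraMap R (S ⧸ Ideal.span ({e} : Set S)))
      (IsLocalRing.maximalIdeal R) = ⊤ := by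
    rw [Ideal.eq_top_iff_one]
    have h1 : Ideal.Quotient.mk (Ideal.span ({e} : Set S)) (1 - e) ∈
        Ideal.map (algebraMap R (S ⧸ Ideal.span ({e} : Set S))) (IsLocalRing.maximalIdeal R) := by
      rw [IsScalarTower.algebraMap_eq R S (S ⧸ Ideal.span ({e} : Set S)), ← Ideal.map_map]
      exact Ideal.mem_map_of_mem _ h1e
    have h2 : Ideal.Quotient.mk (Ideal.span ({e} : Set S)) (1 - e) = 1 := by
      rw [map_sub, map_one, sub_eq_self, Ideal.Quotient.eq_zero_iff_mem]
      exact Ideal.mem_span_singleton_self e
    rwa [h2] at h1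
  -- decompose the finite part into local rings
  obtain ⟨ι, hι, C, hC, hCloc, ⟨θ⟩⟩ :=
    exists_pi_isLocalRing_of_finite_of_henselian (R := R) (S ⧸ Ideal.span ({1 - e} : Set S))
  let algC : ∀ i, Algebra R (C i) := fun i =>
    ((Pi.evalRingHom C i).comp ((θ : _ →+* ∀ i, C i).comp
      (algebraMap R (S ⧸ Ideal.span ({1 - e} : Set S))))).toAlgebra
  let θa : (S ⧸ Ideal.span ({1 - e} : Set S)) ≃ₐ[R] (∀ i, C i) :=
    { θ with
      commutes' := fun r => by
        funext i
        rfl }
  have hsurjC : ∀ i, Function.Surjective (algebraMap R (C i)) := by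
    intro i
    let pr : (S ⧸ Ideal.span ({1 - e} : Set S)) →ₐ[R] C i :=
      (Pi.evalAlgHom R C i).comp θa.toAlgHom
    have hpr : Function.Surjective pr := by
      intro c
      refine ⟨θa.symm (Pi.single i c), ?_⟩
      change (θa (θa.symm (Pi.single i c))) i = c
      rw [θa.apply_symm_apply, Pi.single_eq_same]
    have h1 : Module.Finite R (C i) := Module.Finite.of_surjective pr.toLinearMap hpr
    have h2 : Algebra.FormallyUnramified R (S ⧸ Ideal.span ({1 - e} : Set S)) :=
      Algebra.FormallyUnramified.of_surjective (Ideal.Quotient.mkₐ R _)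
        Ideal.Quotient.mk_surjective
    have h3 : Algebra.FormallyUnramified R (C i) :=
      Algebra.FormallyUnramified.of_surjective pr hpr
    exact surjective_algebraMap_of_finite_unramified R (C i)
  have hsum : (1 - e) + e = 1 := by ring
  have hmul : (1 - e) * e = 0 := by rw [sub_mul, one_mul, he.eq, sub_self]
  let ψ := AlgEquiv.prodQuotientOfIsIdempotentElem R he.one_sub he hsum hmul
  exact ⟨ι, hι, C, hC, algC, S ⧸ Ideal.span ({e} : Set S), inferInstance, inferInstance, hsurjC,
    htop, ⟨ψ.trans (AlgEquiv.prodCongr θa AlgEquiv.refl)⟩⟩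

end Groth.Agent.Lib.Helper4.HenselPair
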