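import Mathlib
import Groth.Prelude.Def_Hens2
import Groth.Agent.Lib.Helper4.HzPairBase

/-!
# Descent of a finitely presented algebra over a henselization to an étale neighbourhood
-/

set_option autoImplicit false
universe u

namespace Groth.Agent.Lib.Helper4.HzPairBase

open Groth.Agent.Lib.Helper12 Groth.Agent.Lib.Helper12.HzPair

/-- Let `B` be a henselization of `(R, K)`, `S` a finitely presented `B`-algebra and `C` a
henselization of `(S, K S)`. Then there are an étale neighbourhood `E` of `(R, K)` and a finitely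
presented `E`-algebra `S₀` mapping to `C` such that `C` is a henselization of `(S₀, K S₀)`. -/
theorem exists_descent {R B S C : Type u} [CommRing R] [CommRing B] [CommRing S] [CommRing C]
    [Algebra R B] [Algebra B S] [Algebra S C] [Algebra.FinitePresentation B S]
    (K : Ideal R) (hB : Hens2.IsPairHenselization R K B)
    (hC : Hens2.IsPairHenselization S ((K.map (algebraMap R B)).map (algebraMap B S)) C) :
    ∃ (E : Type u) (_ : CommRing E) (_ : Algebra R E) (S₀ : Type u) (_ : CommRing S₀)
      (_ : Algebra E S₀) (_ : Algebra S₀ C), IsNbhd K E ∧ Algebra.FinitePresentation E S₀ ∧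
      (∀ r : R, algebraMap S₀ C (algebraMap E S₀ (algebraMap R E r)) =
        algebraMap S C (algebraMap B S (algebraMap R B r))) ∧
      Hens2.IsPairHenselization S₀ ((K.map (algebraMap R E)).map (algebraMap E S₀)) C := by
  classical
  obtain ⟨k, p, hp, Tg, hTg⟩ := Algebra.FinitePresentation.out (R := B) (A := S)
  -- a neighbourhood containing all coefficients
  obtain ⟨E, _, _, hE, ψ, hψ⟩ := exists_common_nbhd K hB (Tg.biUnion fun g => g.coeffs)
  have hlift : ∀ g ∈ Tg, ∃ g' : MvPolynomial (Fin k) E, MvPolynomial.map ψ.toRingHom g' = g := by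
    intro g hg
    have : g ∈ Set.range (MvPolynomial.map (σ := Fin k) ψ.toRingHom) := by
      rw [MvPolynomial.mem_range_map_iff_coeffs_subset]
      intro c hc
      exact hψ c (Finset.mem_biUnion.mpr ⟨g, hg, hc⟩)
    exact this
  choose! lift hlift' using hlift
  let J₀ : Ideal (MvPolynomial (Fin k) E) := Ideal.span (lift '' (Tg : Set _))
  have hJ₀fg : J₀.FG := ⟨Tg.image lift, by simp [J₀]⟩
  let _ : Algebra E B := ψ.toRingHom.toAlgebra
  have _ : IsScalarTower R E B := IsScalarTower.of_algebraMap_eq (fun r => (ψ.commutes r).symm)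
  have hEB := of_nbhd K hE hB
  let q₀ : MvPolynomial (Fin k) E →+* S := p.toRingHom.comp (MvPolynomial.map ψ.toRingHom)
  have hq₀ : ∀ x ∈ J₀, q₀ x = 0 := by
    intro x hx
    have hle : J₀ ≤ RingHom.ker q₀ := by
      rw [Ideal.span_le]
      rintro _ ⟨g, hg, rfl⟩
      show p (MvPolynomial.map ψ.toRingHom (lift g)) = 0
      rw [hlift' g hg]
      have : g ∈ RingHom.ker p.toRingHom := hTg ▸ Ideal.subset_span hg
      exact this
    exact hle hx
  let q : (MvPolynomial (Fin k) E ⧸ J₀) →+* S := Ideal.Quotient.lift J₀ q₀ hq₀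
  have hqC : ∀ e : E, q (Ideal.Quotient.mk J₀ (MvPolynomial.C e)) = algebraMap B S (ψ e) := by
    intro e
    show p (MvPolynomial.map ψ.toRingHom (MvPolynomial.C e)) = _
    rw [MvPolynomial.map_C]
    exact p.commutes (ψ e)
  have hqX : ∀ i : Fin k, q (Ideal.Quotient.mk J₀ (MvPolynomial.X i)) = p (MvPolynomial.X i) := by
    intro i
    show p (MvPolynomial.map ψ.toRingHom (MvPolynomial.X i)) = _
    rw [MvPolynomial.map_X]
  let _ : Algebra (MvPolynomial (Fin k) E ⧸ J₀) C := ((algebraMap S C).comp q).toAlgebra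
  have halg : ∀ x, algebraMap (MvPolynomial (Fin k) E ⧸ J₀) C x = algebraMap S C (q x) :=
    fun x => rfl
  refine ⟨E, inferInstance, inferInstance, MvPolynomial (Fin k) E ⧸ J₀, inferInstance,
    inferInstance, inferInstance, hE, Algebra.FinitePresentation.quotient hJ₀fg, ?_, ?_⟩
  · intro r
    rw [halg]
    show algebraMap S C (q (Ideal.Quotient.mk J₀ (MvPolynomial.C (algebraMap R E r)))) = _
    rw [hqC, ψ.commutes]
  -- the ideals agree
  have hideal : (((K.map (algebraMap R E)).map (algebraMap E (MvPolynomial (Fin k) E ⧸ J₀))).map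
      (algebraMap (MvPolynomial (Fin k) E ⧸ J₀) C)) =
      (((K.map (algebraMap R B)).map (algebraMap B S)).map (algebraMap S C)) := by
    rw [Ideal.map_map, Ideal.map_map, Ideal.map_map, Ideal.map_map]
    congr 1
    ext r
    simp only [RingHom.comp_apply]
    rw [halg]
    show algebraMap S C (q (Ideal.Quotient.mk J₀ (MvPolynomial.C (algebraMap R E r)))) = _
    rw [hqC, ψ.commutes]
  obtain ⟨hC1, hC2⟩ := hC
  refine ⟨by rw [hideal]; exact hC1, fun D _ J f₀ hJ hf₀J => ?_⟩
  -- the induced map on `E`
  let ε : E →+* D := f₀.comp ((Ideal.Quotient.mk J₀).comp MvPolynomial.C)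
  have hεJ : ((K.map (algebraMap R E))).map ε ≤ J := by
    have : ε = f₀.comp (algebraMap E (MvPolynomial (Fin k) E ⧸ J₀)) := rfl
    rw [this, ← Ideal.map_map]
    exact hf₀J
  obtain ⟨β, hβ, hβu⟩ := hEB.2 D J ε hJ hεJ
  have hβ' : ∀ e : E, β (ψ e) = ε e := fun e => congrArg (fun φ => φ e) hβ
  let y : Fin k → D := fun i => f₀ (Ideal.Quotient.mk J₀ (MvPolynomial.X i))
  let F : MvPolynomial (Fin k) B →+* D := MvPolynomial.eval₂Hom β y
  have hFmap : ∀ x : MvPolynomial (Fin k) E,
      F (MvPolynomial.map ψ.toRingHom x) = f₀ (Ideal.Quotient.mk J₀ x) := by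
    intro x
    have : F.comp (MvPolynomial.map ψ.toRingHom) = f₀.comp (Ideal.Quotient.mk J₀) := by
      apply MvPolynomial.ringHom_ext
      · intro e
        simp only [RingHom.comp_apply, MvPolynomial.map_C, F, MvPolynomial.eval₂Hom_C]
        exact hβ' e
      · intro i
        simp only [RingHom.comp_apply, MvPolynomial.map_X, F, MvPolynomial.eval₂Hom_X']
        rfl
    exact congrArg (fun φ => φ x) this
  have hFker : ∀ x ∈ RingHom.ker p.toRingHom, F x = 0 := by
    intro x hx
    have hle : RingHom.ker p.toRingHom ≤ RingHom.ker F := by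
      rw [← hTg, Ideal.span_le]
      intro g hg
      show F g = 0
      rw [← hlift' g hg, hFmap]
      have : Ideal.Quotient.mk J₀ (lift g) = 0 :=
        Ideal.Quotient.eq_zero_iff_mem.mpr (Ideal.subset_span ⟨g, hg, rfl⟩)
      rw [this, map_zero]
    exact hle hx
  obtain ⟨f, hfp⟩ : ∃ f : S →+* D, ∀ x, f (p x) = F x := by
    let e₀ : (MvPolynomial (Fin k) B ⧸ RingHom.ker p.toRingHom) ≃+* S :=
      RingHom.quotientKerEquivOfSurjective hp
    refine ⟨(Ideal.Quotient.lift (RingHom.ker p.toRingHom) F hFker).comp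
      (e₀.symm : S →+* _), fun x => ?_⟩
    show Ideal.Quotient.lift (RingHom.ker p.toRingHom) F hFker (e₀.symm (p x)) = F x
    have : e₀.symm (p x) = Ideal.Quotient.mk _ x := by
      rw [RingEquiv.symm_apply_eq]
      rfl
    rw [this]
    rfl
  have hfq : f.comp q = f₀ := by
    apply Ideal.Quotient.ringHom_ext
    apply MvPolynomial.ringHom_ext
    · intro e
      simp only [RingHom.comp_apply]
      rw [hqC, ← p.commutes, hfp]
      simp only [F, MvPolynomial.algebraMap_eq, MvPolynomial.eval₂Hom_C]
      exact hβ' e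
    · intro i
      simp only [RingHom.comp_apply]
      rw [hqX, hfp]
      simp only [F, MvPolynomial.eval₂Hom_X']
      rfl
  have hfJ : (((K.map (algebraMap R B)).map (algebraMap B S))).map f ≤ J := by
    rw [Ideal.map_map, Ideal.map_map]
    have : (f.comp (algebraMap B S)).comp (algebraMap R B) =
        (f₀.comp (algebraMap E (MvPolynomial (Fin k) E ⧸ J₀))).comp (algebraMap R E) := by
      ext r
      simp only [RingHom.comp_apply]
      have h5 : q (algebraMap E (MvPolynomial (Fin k) E ⧸ J₀) (algebraMap R E r)) =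
          algebraMap B S (algebraMap R B r) := by
        show q (Ideal.Quotient.mk J₀ (MvPolynomial.C (algebraMap R E r))) = _
        rw [hqC, ψ.commutes]
      rw [← hfq, RingHom.comp_apply, h5]
    rw [this, ← Ideal.map_map, ← Ideal.map_map]
    exact hf₀J
  obtain ⟨γ, hγ, hγu⟩ := hC2 D J f hJ hfJ
  refine ⟨γ, ?_, fun γ' hγ' => ?_⟩
  · show γ.comp ((algebraMap S C).comp q) = f₀
    rw [← RingHom.comp_assoc, hγ, hfq]
  · have hγ'' : γ'.comp ((algebraMap S C).comp q) = f₀ := hγ'
    apply hγu
    -- `f' := γ' ∘ algebraMap S C` agrees with `f`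
    have hsurj : Function.Surjective p.toRingHom := hp
    refine RingHom.cancel_right hsurj |>.mp ?_
    apply MvPolynomial.ringHom_ext
    · intro b
      have h1 : ((γ'.comp (algebraMap S C)).comp (algebraMap B S)) = β := by
        apply hβu
        ext e
        simp only [RingHom.comp_apply]
        show γ' (algebraMap S C (algebraMap B S (ψ e))) = ε e
        rw [← hqC]
        exact congrArg (fun φ => φ (Ideal.Quotient.mk J₀ (MvPolynomial.C e))) hγ''
      simp only [RingHom.comp_apply]
      have e1 : p.toRingHom (MvPolynomial.C b) = algebraMap B S b := p.commutes b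
      rw [e1]
      have e2 : f (algebraMap B S b) = β b := by
        rw [← e1]
        show f (p (MvPolynomial.C b)) = _
        rw [hfp]
        simp only [F, MvPolynomial.eval₂Hom_C]
      rw [e2]
      exact congrArg (fun φ => φ b) h1
    · intro i
      simp only [RingHom.comp_apply]
      show γ' (algebraMap S C (p (MvPolynomial.X i))) = f (p (MvPolynomial.X i))
      rw [hfp, ← hqX]
      simp only [F, MvPolynomial.eval₂Hom_X']
      exact congrArg (fun φ => φ (Ideal.Quotient.mk J₀ (MvPolynomial.X i))) hγ''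

end Groth.Agent.Lib.Helper4.HzPairBase
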