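import Mathlib
import Groth.Prelude.Def_Hens2
import Groth.Agent.Lib.Helper12.HzPairNbhd

/-!
# Shrinking to a principal open neighbourhood of `V(J)`
-/

set_option autoImplicit false

namespace Groth.Agent.Lib.Helper4.NbhdShrink

universe u
open Groth.Agent.Lib.Helper12.HzPair

theorem exists_basicOpen_subset_of_zeroLocus_subset {R : Type*} [CommRing R] (J : Ideal R)
    (U : Set (PrimeSpectrum R)) (hU : IsOpen U) (hJU : PrimeSpectrum.zeroLocus (J : Set R) ⊆ U) :
    ∃ f : R, f - 1 ∈ J ∧ (PrimeSpectrum.basicOpen f : Set (PrimeSpectrum R)) ⊆ U := by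
  obtain ⟨K, hK⟩ := (PrimeSpectrum.isClosed_iff_zeroLocus_ideal _).mp hU.isClosed_compl
  have hempty : PrimeSpectrum.zeroLocus ((K ⊔ J : Ideal R) : Set R) = ∅ := by
    rw [PrimeSpectrum.zeroLocus_sup, ← hK]
    ext p
    simp only [Set.mem_inter_iff, Set.mem_compl_iff, Set.mem_empty_iff_false, iff_false, not_and
      ]
    intro hp hpJ
    exact absurd (hJU hpJ) hp
  have htop : K ⊔ J = ⊤ := PrimeSpectrum.zeroLocus_empty_iff_eq_top.mp hempty
  have h1 : (1 : R) ∈ K ⊔ J := by rw [htop]; trivial
  obtain ⟨k, hk, j, hj, hkj⟩ := Submodule.mem_sup.mp h1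
  refine ⟨k, ?_, ?_⟩
  · have : k - 1 = -j := by rw [← hkj]; ring
    rw [this]
    exact J.neg_mem hj
  · intro p hp
    by_contra hpU
    have hpK : p ∈ PrimeSpectrum.zeroLocus (K : Set R) := by rw [← hK]; exact hpU
    exact hp (hpK hk)

/-- Localising at an element congruent to `1` modulo `J` does not change the quotient by `J`. -/
theorem bijective_quotientMap_away {R : Type u} [CommRing R] (J : Ideal R) (f : R)
    (hf : f - 1 ∈ J) :
    Function.Bijective (Ideal.quotientMap (J.map (algebraMap R (Localization.Away f)))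
      (algebraMap R (Localization.Away f)) Ideal.le_comap_map) := by
  have h0 : IsNbhd J R := isNbhd_self (I := J)
  have hfM : f ∈ M J R := by
    rw [mem_M]
    simpa using hf
  have h1 : IsNbhd J (Localization.Away f) := h0.away hfM
  exact (isNbhd_iff_bijective (Localization.Away f)).mp h1

end Groth.Agent.Lib.Helper4.NbhdShrink
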