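import Mathlib

/-!
# Smoothness at a prime from flatness of the local ring and smoothness of the fibre
-/

set_option autoImplicit false
universe u

namespace Groth.Agent.Lib.Helper4.SmoothAtFlat

open TensorProduct

/-- Flatness over `A` descends along a faithfully flat ring map `R' → B'`. -/
theorem flat_of_faithfullyFlat_of_flat (A R' B' : Type u) [CommRing A] [CommRing R'] [CommRing B']
    [Algebra A R'] [Algebra R' B'] [Algebra A B'] [IsScalarTower A R' B']
    [Module.FaithfullyFlat R' B'] [Module.Flat A B'] : Module.Flat A R' := by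
  rw [Module.Flat.iff_lTensor_preserves_injective_linearMap]
  intro N P _ _ _ _ f hf
  have h1 : Function.Injective (f.lTensor B') :=
    Module.Flat.lTensor_preserves_injective_linearMap f hf
  let g : R' ⊗[A] N →ₗ[R'] R' ⊗[A] P := AlgebraTensorModule.lTensor R' R' f
  have hg : ⇑g = ⇑(f.lTensor R') := rfl
  rw [← hg, ← Module.FaithfullyFlat.lTensor_injective_iff_injective R' B']
  have key := AlgebraTensorModule.lTensor_comp_cancelBaseChange (R := A) (A := R') (B := R')
    (M := B') f
  intro x y hxy
  apply (AlgebraTensorModule.cancelBaseChange A R' R' B' N).injective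
  apply h1
  have e1 := LinearMap.congr_fun key x
  have e2 := LinearMap.congr_fun key y
  simp only [LinearMap.coe_comp, Function.comp_apply, LinearEquiv.coe_coe] at e1 e2
  have e3 : (AlgebraTensorModule.lTensor R' B' g) x = (AlgebraTensorModule.lTensor R' B' g) y := hxy
  have e1' : (f.lTensor B') (AlgebraTensorModule.cancelBaseChange A R' R' B' N x) =
      AlgebraTensorModule.cancelBaseChange A R' R' B' P ((AlgebraTensorModule.lTensor R' B' g) x) := e1
  have e2' : (f.lTensor B') (AlgebraTensorModule.cancelBaseChange A R' R' B' N y) =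
      AlgebraTensorModule.cancelBaseChange A R' R' B' P ((AlgebraTensorModule.lTensor R' B' g) y) := e2
  rw [e1', e2', e3]

open IsLocalRing Algebra in
/-- Variant of `Algebra.IsSmoothAt.of_formallySmooth_fiber` where flatness is only assumed for the
local rings. -/
theorem isSmoothAt_of_flat_of_formallySmooth_fiber {R S : Type u} [CommRing R] [CommRing S]
    [Algebra R S] [Algebra.FinitePresentation R S] (p : Ideal R) (q : Ideal S)
    [p.IsPrime] [q.IsPrime] [q.LiesOver p] [Algebra.FormallySmooth p.ResidueField (p.Fiber S)]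
    (hflat : letI := Localization.AtPrime.algebraOfLiesOver p q
      Module.Flat (Localization.AtPrime p) (Localization.AtPrime q)) :
    Algebra.IsSmoothAt R q := by
  let Rp := Localization.AtPrime p
  let Sp := Localization (Algebra.algebraMapSubmonoid S p.primeCompl)
  let Sq := Localization.AtPrime q
  let := Localization.AtPrime.algebraOfLiesOver p q
  have hflat' : Module.Flat Rp Sq := hflat
  let f : Sp →ₐ[S] Sq := IsLocalization.liftAlgHom (M := Algebra.algebraMapSubmonoid S p.primeCompl)
        (f := Algebra.ofId _ _) (by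
      rintro ⟨_, x, hx, rfl⟩
      simpa using! IsLocalization.map_units (M := q.primeCompl) Sq ⟨algebraMap _ _ x,
        by simp_all [q.over_def p]⟩)
  algebraize [f.toRingHom]
  have : IsScalarTower R Sp Sq := .to₁₃₄ _ S _ _
  have : IsScalarTower Rp Sp Sq := .of_algebraMap_eq' <| by
    apply IsLocalization.ringHom_ext p.primeCompl
    simp only [RingHom.comp_assoc, ← IsScalarTower.algebraMap_eq]
  have : IsLocalization (Algebra.algebraMapSubmonoid Sp q.primeCompl) Sq :=
    .isLocalization_of_submonoid_le _ _ (Algebra.algebraMapSubmonoid S p.primeCompl) _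
    (by rintro _ ⟨x, hx, rfl⟩; simp_all [q.over_def p])
  have : Algebra.FinitePresentation Rp Sp := by
    have : Algebra.IsPushout R Rp S Sp :=
      .symm <| Algebra.isPushout_of_isLocalization p.primeCompl _ _ _
    exact .equiv (Algebra.IsPushout.equiv R Rp S Sp)
  have : Algebra.FormallySmooth (ResidueField Rp) ((ResidueField Rp) ⊗[Rp] Sq) := by
    let : Algebra S ((ResidueField Rp) ⊗[R] S) := Algebra.TensorProduct.rightAlgebra
    have : Algebra.FormallySmooth (ResidueField Rp) (((ResidueField Rp) ⊗[R] S) ⊗[S] Sq) :=
      .comp _ ((ResidueField Rp) ⊗[R] S) _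
    let e : (ResidueField Rp) ⊗[R] S ≃ₐ[S] S ⊗[R] (ResidueField Rp) :=
      { __ := Algebra.TensorProduct.comm _ _ _, commutes' _ := rfl }
    let e' : ((ResidueField Rp) ⊗[R] S) ⊗[S] Sq ≃ₐ[R] (ResidueField Rp) ⊗[Rp] Sq :=
      ((Algebra.TensorProduct.comm _ _ _).restrictScalars R).trans <|
      ((Algebra.TensorProduct.congr (.refl (R := S)) e).restrictScalars R).trans <|
      ((Algebra.TensorProduct.cancelBaseChange _ _ S _ _).restrictScalars R).trans <|
      (Algebra.TensorProduct.comm _ _ _).trans (Algebra.TensorProduct.equivOfCompatibleSMul ..)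
    have : e'.toAlgHom.comp (IsScalarTower.toAlgHom R p.ResidueField _) =
        IsScalarTower.toAlgHom _ _ _ := by ext
    let e'' : ((ResidueField Rp) ⊗[R] S) ⊗[S] Sq ≃ₐ[ResidueField Rp] (ResidueField Rp) ⊗[Rp] Sq :=
      { __ := e', commutes' r := congr($this r) }
    exact .of_equiv e''
  have := Algebra.FormallySmooth.of_formallySmooth_residueField_tensor
    (R := Rp) (S := Sq) (P := Sp) (Algebra.algebraMapSubmonoid _ q.primeCompl)
  exact .comp R Rp Sq

end Groth.Agent.Lib.Helper4.SmoothAtFlat
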