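import Mathlib
import Groth.Prelude.Def_Hens2
import Groth.Agent.Lib.Helper4.SmoothAtFlat
import Groth.Agent.Lib.Helper4.HzPairEt
import Groth.Agent.Lib.Helper4.NbhdShrink
import Groth.Agent.Lib.Helper4.HzPairBase

/-!
# If the henselization of `(R₀, K R₀)` is flat with smooth reduction, `R₀` is smooth along `V(K R₀)`
-/

set_option autoImplicit false
universe u

namespace Groth.Agent.Lib.Helper4.HzSmoothAlong

open TensorProduct Groth.Agent.Lib.Helper12.HzPair

variable {A : Type u} [CommRing A] (K : Ideal A)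
  {R₀ : Type u} [CommRing R₀] [Algebra A R₀] [Algebra.FinitePresentation A R₀]
  {B : Type u} [CommRing B] [Algebra R₀ B] [Algebra A B] [IsScalarTower A R₀ B]

omit [Algebra.FinitePresentation A R₀] in
/-- the reduction of `R₀` is smooth -/
theorem smooth_quotient (hB : Hens2.IsPairHenselization R₀ (K.map (algebraMap A R₀)) B)
    [hsm : Algebra.Smooth (A ⧸ K) (B ⧸ K.map (algebraMap A B))] :
    Algebra.Smooth (A ⧸ K) (R₀ ⧸ K.map (algebraMap A R₀)) := by
  let e : (R₀ ⧸ K.map (algebraMap A R₀)) ≃ₐ[A] (B ⧸ K.map (algebraMap A B)) :=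
    AlgEquiv.ofBijective (HzPairEt.redMap A K R₀ B) (HzPairEt.redMap_bijective hB)
  let e' : (R₀ ⧸ K.map (algebraMap A R₀)) ≃ₐ[A ⧸ K] (B ⧸ K.map (algebraMap A B)) :=
    AlgEquiv.extendScalarsOfSurjective Ideal.Quotient.mk_surjective e
  exact Algebra.Smooth.of_equiv e'.symm

omit [Algebra.FinitePresentation A R₀] in
/-- the fibres over primes containing `K` are smooth -/
theorem formallySmooth_fiber [Algebra.Smooth (A ⧸ K) (R₀ ⧸ K.map (algebraMap A R₀))]
    (p : Ideal A) [p.IsPrime] (hKp : K ≤ p) :
    Algebra.FormallySmooth p.ResidueField (p.Fiber R₀) := by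
  let _ : Algebra (A ⧸ K) p.ResidueField :=
    (Ideal.Quotient.lift K (algebraMap A p.ResidueField) (fun a ha => by
      rw [Ideal.algebraMap_residueField_eq_zero]
      exact hKp ha)).toAlgebra
  have _ : IsScalarTower A (A ⧸ K) p.ResidueField := IsScalarTower.of_algebraMap_eq (fun _ => rfl)
  have h1 : Algebra.FormallySmooth (A ⧸ K) ((A ⧸ K) ⊗[A] R₀) :=
    Algebra.FormallySmooth.of_equiv (Algebra.TensorProduct.quotIdealMapEquivQuotTensor R₀ K)
  have h2 : Algebra.FormallySmooth p.ResidueField
      (p.ResidueField ⊗[A ⧸ K] ((A ⧸ K) ⊗[A] R₀)) := inferInstance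
  exact Algebra.FormallySmooth.of_equiv
    (Algebra.TensorProduct.cancelBaseChange A (A ⧸ K) p.ResidueField p.ResidueField R₀)

omit [Algebra.FinitePresentation A R₀] in
/-- a prime of `B` over a prime of `R₀` containing `K R₀`. -/
theorem exists_prime_liesOver (hB : Hens2.IsPairHenselization R₀ (K.map (algebraMap A R₀)) B)
    (P : Ideal R₀) [P.IsPrime] (hKP : K.map (algebraMap A R₀) ≤ P) :
    ∃ Q : Ideal B, Q.IsPrime ∧ Q.LiesOver P := by
  let e : (R₀ ⧸ K.map (algebraMap A R₀)) ≃ₐ[A] (B ⧸ K.map (algebraMap A B)) :=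
    AlgEquiv.ofBijective (HzPairEt.redMap A K R₀ B) (HzPairEt.redMap_bijective hB)
  let Pbar : Ideal (R₀ ⧸ K.map (algebraMap A R₀)) := P.map (Ideal.Quotient.mk _)
  have hPbar : Pbar.IsPrime := Ideal.map_isPrime_of_surjective Ideal.Quotient.mk_surjective
    (by rw [Ideal.mk_ker]; exact hKP)
  let es : (B ⧸ K.map (algebraMap A B)) →+* (R₀ ⧸ K.map (algebraMap A R₀)) :=
    e.symm.toAlgHom.toRingHom
  let Q : Ideal B := (Pbar.comap es).comap (Ideal.Quotient.mk (K.map (algebraMap A B)))
  have hQ : Q.IsPrime := Ideal.comap_isPrime _ _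
  refine ⟨Q, hQ, ⟨?_⟩⟩
  ext x
  rw [Ideal.under_def, Ideal.mem_comap, Ideal.mem_comap, Ideal.mem_comap]
  have h1 : es (Ideal.Quotient.mk (K.map (algebraMap A B)) (algebraMap R₀ B x)) =
      Ideal.Quotient.mk _ x := by
    show e.symm _ = _
    rw [AlgEquiv.symm_apply_eq]
    rfl
  rw [h1]
  constructor
  · intro hx
    exact Ideal.mem_map_of_mem _ hx
  · intro hx
    have := Ideal.mem_comap.mpr hx
    rwa [Ideal.comap_map_of_surjective _ Ideal.Quotient.mk_surjective, ← RingHom.ker_eq_comap_bot,
      Ideal.mk_ker, sup_eq_left.mpr hKP] at this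

/-- `R₀` is smooth over `A` at every prime containing `K R₀`. -/
theorem isSmoothAt (hB : Hens2.IsPairHenselization R₀ (K.map (algebraMap A R₀)) B)
    [Module.Flat A B] [Algebra.Smooth (A ⧸ K) (B ⧸ K.map (algebraMap A B))]
    (P : Ideal R₀) [P.IsPrime] (hKP : K.map (algebraMap A R₀) ≤ P) :
    Algebra.IsSmoothAt A P := by
  have hsm := smooth_quotient K hB
  obtain ⟨Q, hQ, hQP⟩ := exists_prime_liesOver K hB P hKP
  let p : Ideal A := P.under A
  have hp : p.IsPrime := inferInstance
  have hPp : P.LiesOver p := ⟨rfl⟩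
  have hQp : Q.LiesOver p := Ideal.LiesOver.trans Q P p
  have hKp : K ≤ p := by
    intro a ha
    exact hKP (Ideal.mem_map_of_mem _ ha)
  have hfib := formallySmooth_fiber (R₀ := R₀) K p hKp
  have hflatRB : Module.Flat R₀ B := (flat_and_bijective_of_isPairHenselization hB).1
  let _ := Localization.AtPrime.algebraOfLiesOver p P
  let _ := Localization.AtPrime.algebraOfLiesOver P Q
  let _ := Localization.AtPrime.algebraOfLiesOver p Q
  have h1 : Module.Flat (Localization.AtPrime P) (Localization.AtPrime Q) := inferInstance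
  have h2 : Module.Flat (Localization.AtPrime p) (Localization.AtPrime Q) := inferInstance
  have hloc : IsLocalHom (algebraMap (Localization.AtPrime P) (Localization.AtPrime Q)) :=
    Localization.isLocalHom_localRingHom _ _ _ _
  have h3 : Module.FaithfullyFlat (Localization.AtPrime P) (Localization.AtPrime Q) :=
    Module.FaithfullyFlat.of_flat_of_isLocalHom
  have h4 : Module.Flat (Localization.AtPrime p) (Localization.AtPrime P) :=
    SmoothAtFlat.flat_of_faithfullyFlat_of_flat (Localization.AtPrime p) (Localization.AtPrime P)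
      (Localization.AtPrime Q)
  exact SmoothAtFlat.isSmoothAt_of_flat_of_formallySmooth_fiber p P h4

/-- there is a smooth localization of `R₀` of which `B` is still the henselization. -/
theorem exists_smooth_away (hB : Hens2.IsPairHenselization R₀ (K.map (algebraMap A R₀)) B)
    [Module.Flat A B] [Algebra.Smooth (A ⧸ K) (B ⧸ K.map (algebraMap A B))] :
    ∃ (g : R₀) (_ : Algebra (Localization.Away g) B)
      (_ : IsScalarTower A (Localization.Away g) B),
      Algebra.Smooth A (Localization.Away g) ∧
      Hens2.IsPairHenselization (Localization.Away g)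
        (K.map (algebraMap A (Localization.Away g))) B := by
  have hsub : PrimeSpectrum.zeroLocus ((K.map (algebraMap A R₀) : Ideal R₀) : Set R₀) ⊆
      Algebra.smoothLocus A R₀ := by
    intro P hP
    have := P.isPrime
    exact isSmoothAt K hB P.asIdeal ((PrimeSpectrum.mem_zeroLocus _ _).mp hP)
  obtain ⟨g, hg1, hgU⟩ := NbhdShrink.exists_basicOpen_subset_of_zeroLocus_subset
    (K.map (algebraMap A R₀)) _ Algebra.isOpen_smoothLocus hsub
  have hsmooth : Algebra.Smooth A (Localization.Away g) :=
    Algebra.basicOpen_subset_smoothLocus_iff_smooth.mp hgU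
  -- `g` becomes a unit in `B`
  have hjac := hB.1.jac
  have hgB : IsUnit (algebraMap R₀ B g) := by
    have h1 : algebraMap R₀ B g - 1 ∈ (K.map (algebraMap A R₀)).map (algebraMap R₀ B) := by
      have := Ideal.mem_map_of_mem (algebraMap R₀ B) hg1
      rwa [map_sub, map_one] at this
    have h2 := Ideal.mem_jacobson_bot.mp (hjac h1) 1
    rw [mul_one, sub_add_cancel] at h2
    exact h2
  let ψ : Localization.Away g →+* B := IsLocalization.Away.lift g hgB
  let _ : Algebra (Localization.Away g) B := ψ.toAlgebra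
  have htower₀ : IsScalarTower R₀ (Localization.Away g) B := IsScalarTower.of_algebraMap_eq (fun x => by
    show algebraMap R₀ B x = ψ (algebraMap R₀ (Localization.Away g) x)
    rw [IsLocalization.Away.lift_eq])
  have htower : IsScalarTower A (Localization.Away g) B := IsScalarTower.of_algebraMap_eq (fun a => by
    rw [IsScalarTower.algebraMap_apply A R₀ (Localization.Away g),
      ← IsScalarTower.algebraMap_apply R₀ (Localization.Away g) B,
      ← IsScalarTower.algebraMap_apply A R₀ B])
  refine ⟨g, inferInstance, htower, hsmooth, ?_⟩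
  have hnb : IsNbhd (K.map (algebraMap A R₀)) (Localization.Away g) := by
    refine (isNbhd_self (I := K.map (algebraMap A R₀))).away ?_
    rw [mem_M]
    simpa using hg1
  have h5 := HzPairBase.of_nbhd (K.map (algebraMap A R₀)) hnb hB
  rwa [Ideal.map_map, ← IsScalarTower.algebraMap_eq] at h5

end Groth.Agent.Lib.Helper4.HzSmoothAlong
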