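import Mathlib
import Groth.Prelude.Def_Hens2
import Groth.Agent.Lib.Helper4.HzPairBase
import Groth.Agent.Lib.Helper12.HzPairQuot

/-!
# Vanishing in tensor products with a henselization descends to an étale neighbourhood
-/

set_option autoImplicit false
universe u

namespace Groth.Agent.Lib.Helper4.HzPairBase

open Groth.Agent.Lib.Helper12 Groth.Agent.Lib.Helper12.HzPair
open TensorProduct

/-- If `z ∈ E ⊗ N` dies in `Ah ⊗ N` (`Ah` the henselization of `(A, I)`, `E` an étale
neighbourhood), then `u • z = 0` for some `u ≡ 1 mod I E`. -/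
theorem exists_smul_eq_zero_of_rTensor_eq_zero {A E Ah : Type u} [CommRing A] [CommRing E]
    [CommRing Ah] [Algebra A E] [Algebra A Ah] (I : Ideal A)
    (hAh : Hens2.IsPairHenselization A I Ah) (hE : IsNbhd I E) (ψ : E →ₐ[A] Ah)
    (N : Type u) [AddCommGroup N] [Module A N] (z : E ⊗[A] N)
    (hz : (ψ.toLinearMap.rTensor N) z = 0) :
    ∃ u : E, u - 1 ∈ I.map (algebraMap A E) ∧ u • z = 0 := by
  classical
  let _ : Algebra E Ah := ψ.toRingHom.toAlgebra
  have _ : IsScalarTower A E Ah := IsScalarTower.of_algebraMap_eq fun a => (ψ.commutes a).symm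
  have hAhE := of_nbhd I hE hAh
  obtain ⟨hflat, hbij⟩ := flat_and_bijective_of_isPairHenselization hAhE
  have hbij1 := hbij 1
  -- the vanishing in `(E ⊗ N) ⊗[E] Ah`
  have hvan : z ⊗ₜ[E] (1 : Ah) = 0 := by
    have key : ∀ w : E ⊗[A] N,
        (TensorProduct.AlgebraTensorModule.cancelBaseChange A E E Ah N)
          ((1 : Ah) ⊗ₜ[E] w) = (ψ.toLinearMap.rTensor N) w := by
      intro w
      induction w using TensorProduct.induction_on with
      | zero => simp
      | tmul x n =>
        simp only [TensorProduct.AlgebraTensorModule.cancelBaseChange_tmul, LinearMap.rTensor_tmul,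
          AlgHom.toLinearMap_apply]
        congr 1
        rw [Algebra.smul_def, mul_one]
        rfl
      | add x y hx hy => rw [tmul_add, map_add, hx, hy, map_add]
    have h1 : (1 : Ah) ⊗ₜ[E] z = 0 := by
      apply (TensorProduct.AlgebraTensorModule.cancelBaseChange A E E Ah N).injective
      rw [key, hz, map_zero]
    have := congrArg (TensorProduct.comm E Ah (E ⊗[A] N)) h1
    simpa using this
  have hinj : Function.Injective
      (LinearMap.rTensor Ah (Submodule.span E (Set.range fun _ : Unit => z)).subtype) :=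
    Module.Flat.rTensor_preserves_injective_linearMap _ (Submodule.subtype_injective _)
  have hsum : ∑ i : Unit, (fun _ : Unit => z) i ⊗ₜ[E] (fun _ : Unit => (1 : Ah)) i = 0 := by
    simpa using hvan
  obtain ⟨k, a, y, h1, h2⟩ :=
    TensorProduct.vanishesTrivially_of_sum_tmul_eq_zero_of_rTensor_injective E hinj hsum
  have h1' : (1 : Ah) = ∑ j, a () j • y j := h1 ()
  have h2' : ∀ j, a () j • z = 0 := fun j => by simpa using h2 j
  -- lift the `y j` modulo `I`
  have hlift : ∀ j, ∃ y' : E, algebraMap E Ah y' - y j ∈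
      (I.map (algebraMap A E)).map (algebraMap E Ah) := by
    intro j
    obtain ⟨q, hq⟩ := hbij1.2 (Ideal.Quotient.mk _ (y j))
    obtain ⟨y', rfl⟩ := Ideal.Quotient.mk_surjective q
    refine ⟨y', ?_⟩
    rw [Ideal.quotientMap_mk, Ideal.Quotient.eq, pow_one] at hq
    exact hq
  choose y' hy' using hlift
  refine ⟨∑ j, a () j * y' j, ?_, ?_⟩
  · -- injectivity of `E/IE → Ah/IAh`
    have hmem : algebraMap E Ah (∑ j, a () j * y' j - 1) ∈
        (I.map (algebraMap A E)).map (algebraMap E Ah) := by
      rw [map_sub, map_one, h1', map_sum, ← Finset.sum_sub_distrib]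
      refine Ideal.sum_mem _ fun j _ => ?_
      rw [map_mul, Algebra.smul_def, ← mul_sub]
      exact Ideal.mul_mem_left _ _ (hy' j)
    have h0 : Ideal.quotientMap (((I.map (algebraMap A E)) ^ 1).map (algebraMap E Ah))
        (algebraMap E Ah) Ideal.le_comap_map (Ideal.Quotient.mk _ (∑ j, a () j * y' j - 1)) = 0 := by
      rw [Ideal.quotientMap_mk, Ideal.Quotient.eq_zero_iff_mem, pow_one]
      exact hmem
    have h00 := hbij1.1 (h0.trans (map_zero _).symm)
    rw [Ideal.Quotient.eq_zero_iff_mem, pow_one] at h00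
    exact h00
  · rw [Finset.sum_smul]
    refine Finset.sum_eq_zero fun j _ => ?_
    rw [mul_comm, mul_smul, h2', smul_zero]

end Groth.Agent.Lib.Helper4.HzPairBase
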