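import Mathlib
import Groth.Prelude.Def_Hensel
import Groth.Agent.Lib.Helper4.HzsBC1
import Groth.Agent.Lib.Helper4.HzsTensor

/-!
# Strict henselization and base change: `B^sh ⊗_{A^sh} C^sh ≅ (B ⊗_A C)^sh` when `B^sh` is
integral over `A^sh`.
-/

set_option autoImplicit false
set_option linter.unusedSectionVars false
set_option maxHeartbeats 1000000
universe u

namespace Groth.Agent.Lib.Helper4.Hzs

open IsLocalRing TensorProduct

section BC

variable (A B C : Type u) [CommRing A] [CommRing B]
    [CommRing C] [Algebra A B] [Algebra A C]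
    (pA : Ideal A) [pA.IsPrime] (pB : Ideal B) [pB.IsPrime] [pB.LiesOver pA]
    (pC : Ideal C) [pC.IsPrime] [pC.LiesOver pA]
    (pD : Ideal (B ⊗[A] C)) [pD.IsPrime] [pD.LiesOver pB]
    (hDC : pD.comap (Algebra.TensorProduct.includeRight : C →ₐ[A] B ⊗[A] C).toRingHom = pC)
    (Ash : Type u) [CommRing Ash] [IsLocalRing Ash] [Algebra (Localization.AtPrime pA) Ash]
    [IsLocalHom (algebraMap (Localization.AtPrime pA) Ash)]
    [hAsh : Hensel.IsStrictHenselization (Localization.AtPrime pA) Ash] [Algebra A Ash]
    [IsScalarTower A (Localization.AtPrime pA) Ash]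
    (Bsh : Type u) [CommRing Bsh] [IsLocalRing Bsh] [Algebra (Localization.AtPrime pB) Bsh]
    [IsLocalHom (algebraMap (Localization.AtPrime pB) Bsh)]
    [hBsh : Hensel.IsStrictHenselization (Localization.AtPrime pB) Bsh] [Algebra B Bsh]
    [IsScalarTower B (Localization.AtPrime pB) Bsh] [Algebra A Bsh] [IsScalarTower A B Bsh]
    [Algebra Ash Bsh] [IsScalarTower A Ash Bsh] [IsLocalHom (algebraMap Ash Bsh)]
    (Csh : Type u) [CommRing Csh] [IsLocalRing Csh] [Algebra (Localization.AtPrime pC) Csh]
    [IsLocalHom (algebraMap (Localization.AtPrime pC) Csh)]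
    [hCsh : Hensel.IsStrictHenselization (Localization.AtPrime pC) Csh] [Algebra C Csh]
    [IsScalarTower C (Localization.AtPrime pC) Csh] [Algebra A Csh] [IsScalarTower A C Csh]
    [Algebra Ash Csh] [IsScalarTower A Ash Csh] [IsLocalHom (algebraMap Ash Csh)]
    (Dsh : Type u) [CommRing Dsh] [IsLocalRing Dsh] [Algebra (Localization.AtPrime pD) Dsh]
    [IsLocalHom (algebraMap (Localization.AtPrime pD) Dsh)]
    [hDsh : Hensel.IsStrictHenselization (Localization.AtPrime pD) Dsh] [Algebra (B ⊗[A] C) Dsh]
    [IsScalarTower (B ⊗[A] C) (Localization.AtPrime pD) Dsh]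
    [Algebra Bsh Dsh] [IsLocalHom (algebraMap Bsh Dsh)] [Algebra B Dsh] [IsScalarTower B Bsh Dsh]
    [IsScalarTower B (B ⊗[A] C) Dsh]
    [Algebra Csh Dsh] [IsLocalHom (algebraMap Csh Dsh)]
    (hC : ∀ c : C, algebraMap Csh Dsh (algebraMap C Csh c) = algebraMap (B ⊗[A] C) Dsh (1 ⊗ₜ[A] c))
    [Algebra Ash Dsh] [IsScalarTower Ash Bsh Dsh] [IsScalarTower Ash Csh Dsh]

/-- `Φ' : C^sh ⊗_{A^sh} B^sh → D^sh`. -/
noncomputable abbrev bcΦ : Csh ⊗[Ash] Bsh →ₐ[Ash] Dsh :=
  Algebra.TensorProduct.lift (IsScalarTower.toAlgHom Ash Csh Dsh) (IsScalarTower.toAlgHom Ash Bsh Dsh)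
    (fun _ _ => Commute.all _ _)

theorem bcJ_aux1 (a : A) : (1 : Csh) ⊗ₜ[Ash] (algebraMap B Bsh (algebraMap A B a)) =
    algebraMap A (Csh ⊗[Ash] Bsh) a := by
  rw [← IsScalarTower.algebraMap_apply A B Bsh, IsScalarTower.algebraMap_apply A Ash Bsh,
    Algebra.TensorProduct.algebraMap_apply, IsScalarTower.algebraMap_apply A Ash Csh,
    Algebra.algebraMap_eq_smul_one (A := Bsh),
    Algebra.algebraMap_eq_smul_one (A := Csh), TensorProduct.smul_tmul]

theorem bcJ_aux2 (a : A) : algebraMap Csh (Csh ⊗[Ash] Bsh) (algebraMap C Csh (algebraMap A C a)) =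
    algebraMap A (Csh ⊗[Ash] Bsh) a := by
  rw [← IsScalarTower.algebraMap_apply A C Csh, Algebra.TensorProduct.algebraMap_apply,
    Algebra.TensorProduct.algebraMap_apply, Algebra.algebraMap_self, RingHom.id_apply]

/-- `D = B ⊗_A C → C^sh ⊗_{A^sh} B^sh`. -/
noncomputable def bcJ : B ⊗[A] C →+* Csh ⊗[Ash] Bsh :=
  (Algebra.TensorProduct.lift
    ({ (Algebra.TensorProduct.includeRight : Bsh →ₐ[Ash] Csh ⊗[Ash] Bsh).toRingHom.comp
          (algebraMap B Bsh) with
        commutes' := fun a => bcJ_aux1 A B Ash Bsh Csh a } : B →ₐ[A] Csh ⊗[Ash] Bsh)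
    ({ (algebraMap Csh (Csh ⊗[Ash] Bsh)).comp (algebraMap C Csh) with
        commutes' := fun a => bcJ_aux2 A C Ash Bsh Csh a } : C →ₐ[A] Csh ⊗[Ash] Bsh)
    (fun _ _ => Commute.all _ _)).toRingHom

theorem bcJ_tmul (b : B) (c : C) :
    bcJ A B C Ash Bsh Csh (b ⊗ₜ[A] c) = (algebraMap C Csh c) ⊗ₜ[Ash] (algebraMap B Bsh b) := by
  unfold bcJ
  simp only [AlgHom.toRingHom_eq_coe, RingHom.coe_coe, Algebra.TensorProduct.lift_tmul]
  change ((1 : Csh) ⊗ₜ[Ash] (algebraMap B Bsh b)) * ((algebraMap C Csh c) ⊗ₜ[Ash] (1 : Bsh)) = _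
  rw [Algebra.TensorProduct.tmul_mul_tmul, one_mul, mul_one]

include hC in
theorem bcΦ_comp_bcJ (d : B ⊗[A] C) :
    bcΦ Ash Bsh Csh Dsh (bcJ A B C Ash Bsh Csh d) = algebraMap (B ⊗[A] C) Dsh d := by
  induction d using TensorProduct.induction_on with
  | zero => simp
  | tmul b c =>
    rw [bcJ_tmul, Algebra.TensorProduct.lift_tmul]
    change algebraMap Csh Dsh (algebraMap C Csh c) * algebraMap Bsh Dsh (algebraMap B Bsh b) = _
    rw [hC, ← IsScalarTower.algebraMap_apply B Bsh Dsh,
      IsScalarTower.algebraMap_apply B (B ⊗[A] C) Dsh, ← map_mul,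
      Algebra.TensorProduct.algebraMap_apply, Algebra.algebraMap_self, RingHom.id_apply,
      Algebra.TensorProduct.tmul_mul_tmul, one_mul, mul_one]
  | add x y hx hy => rw [map_add, map_add, map_add, hx, hy]


include hDC hC hAsh hBsh hCsh hDsh in
theorem bijective_bcΦ [hint : Algebra.IsIntegral Ash Bsh] :
    Function.Bijective (bcΦ Ash Bsh Csh Dsh) := by
  -- Step 2
  have hscA : IsSepClosed (ResidueField Ash) := hAsh.isSepClosure.sep_closed
  have hscC : IsSepClosed (ResidueField Csh) := hCsh.isSepClosure.sep_closed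
  have hHC : HenselianLocalRing Csh := hCsh.henselian
  have hintres := isIntegral_residueField_of_isIntegral Ash Bsh
  have hpi : IsPurelyInseparable (ResidueField Ash) (ResidueField Bsh) := inferInstance
  have hEloc : IsLocalRing (Csh ⊗[Ash] Bsh) := bc_isLocalRing Ash Bsh Csh
  have hEH : HenselianLocalRing (Csh ⊗[Ash] Bsh) := bc_henselian Ash Bsh Csh
  have hEsc : IsSepClosed (ResidueField (Csh ⊗[Ash] Bsh)) := bc_isSepClosed Ash Bsh Csh
  have hlocC : IsLocalHom (algebraMap Csh (Csh ⊗[Ash] Bsh)) := bc_isLocalHom_left Ash Bsh Csh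
  have hlocB := bc_isLocalHom_right Ash Bsh Csh
  -- Step 3
  have hΦC : ∀ c : Csh, bcΦ Ash Bsh Csh Dsh (algebraMap Csh (Csh ⊗[Ash] Bsh) c) =
      algebraMap Csh Dsh c := by
    intro c
    rw [Algebra.TensorProduct.algebraMap_apply, Algebra.algebraMap_self, RingHom.id_apply,
      Algebra.TensorProduct.lift_tmul, map_one, mul_one]
    rfl
  have hΦB : ∀ b : Bsh, bcΦ Ash Bsh Csh Dsh ((1 : Csh) ⊗ₜ[Ash] b) = algebraMap Bsh Dsh b := by
    intro b
    rw [Algebra.TensorProduct.lift_tmul, map_one, one_mul]
    rfl
  have hΦloc : IsLocalHom (bcΦ Ash Bsh Csh Dsh).toRingHom := by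
    apply ((local_hom_TFAE (bcΦ Ash Bsh Csh Dsh).toRingHom).out 0 4).mpr
    set 𝔮 := (maximalIdeal Dsh).comap (bcΦ Ash Bsh Csh Dsh).toRingHom with h𝔮
    have hprime : 𝔮.IsPrime := Ideal.comap_isPrime _ _
    have h1 : 𝔮.comap (algebraMap Csh (Csh ⊗[Ash] Bsh)) = maximalIdeal Csh := by
      rw [h𝔮, Ideal.comap_comap]
      have h2 : (bcΦ Ash Bsh Csh Dsh).toRingHom.comp (algebraMap Csh (Csh ⊗[Ash] Bsh)) =
          algebraMap Csh Dsh := RingHom.ext hΦC
      rw [h2]
      exact ((local_hom_TFAE (algebraMap Csh Dsh)).out 0 4).mp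
        (inferInstance : IsLocalHom (algebraMap Csh Dsh))
    have hmax : 𝔮.IsMaximal :=
      Ideal.isMaximal_of_isIntegral_of_isMaximal_comap 𝔮 (h1 ▸ maximalIdeal.isMaximal Csh)
    exact IsLocalRing.eq_maximalIdeal hmax
  -- Step 4
  have hunit : ∀ y : pD.primeCompl, IsUnit (bcJ A B C Ash Bsh Csh y) := by
    intro y
    apply hΦloc.map_nonunit
    change IsUnit (bcΦ Ash Bsh Csh Dsh (bcJ A B C Ash Bsh Csh y))
    rw [bcΦ_comp_bcJ A B C Ash Bsh Csh Dsh hC,
      IsScalarTower.algebraMap_apply (B ⊗[A] C) (Localization.AtPrime pD) Dsh]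
    exact (IsLocalization.map_units (M := pD.primeCompl) (Localization.AtPrime pD) y).map _
  obtain ⟨jD₀, hjD₀⟩ : ∃ jD₀ : Localization.AtPrime pD →+* Csh ⊗[Ash] Bsh,
      ∀ d, jD₀ (algebraMap (B ⊗[A] C) (Localization.AtPrime pD) d) = bcJ A B C Ash Bsh Csh d :=
    ⟨IsLocalization.lift (M := pD.primeCompl) (g := bcJ A B C Ash Bsh Csh) hunit,
      fun d => IsLocalization.lift_eq _ d⟩
  have hΦj : (bcΦ Ash Bsh Csh Dsh).toRingHom.comp jD₀ = algebraMap (Localization.AtPrime pD) Dsh := by
    apply IsLocalization.ringHom_ext pD.primeCompl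
    refine RingHom.ext fun d => ?_
    simp only [RingHom.comp_apply]
    rw [hjD₀]
    change bcΦ Ash Bsh Csh Dsh (bcJ A B C Ash Bsh Csh d) = _
    rw [bcΦ_comp_bcJ A B C Ash Bsh Csh Dsh hC,
      ← IsScalarTower.algebraMap_apply (B ⊗[A] C) (Localization.AtPrime pD) Dsh]
  have hjloc : IsLocalHom jD₀ := by
    have h1 : IsLocalHom ((bcΦ Ash Bsh Csh Dsh).toRingHom.comp jD₀) := by rw [hΦj]; infer_instance
    exact isLocalHom_of_comp jD₀ (bcΦ Ash Bsh Csh Dsh).toRingHom
  let _ : Algebra (Localization.AtPrime pD) (Csh ⊗[Ash] Bsh) := jD₀.toAlgebra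
  have : IsLocalHom (algebraMap (Localization.AtPrime pD) (Csh ⊗[Ash] Bsh)) := hjloc
  -- the maps from `B_pB`, `C_pC` to `D_pD`
  obtain ⟨ιB, hιB, hιBloc⟩ : ∃ ιB : Localization.AtPrime pB →+* Localization.AtPrime pD,
      (∀ b : B, ιB (algebraMap B _ b) = algebraMap (B ⊗[A] C) _ (b ⊗ₜ[A] (1 : C))) ∧
        IsLocalHom ιB := by
    refine ⟨Localization.localRingHom pB pD (algebraMap B (B ⊗[A] C)) (pD.over_def pB), ?_,
      Localization.isLocalHom_localRingHom _ _ _ _⟩
    intro b
    rw [Localization.localRingHom_to_map, Algebra.TensorProduct.algebraMap_apply,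
      Algebra.algebraMap_self, RingHom.id_apply]
  obtain ⟨ιC, hιC, hιCloc⟩ : ∃ ιC : Localization.AtPrime pC →+* Localization.AtPrime pD,
      (∀ c : C, ιC (algebraMap C _ c) = algebraMap (B ⊗[A] C) _ ((1 : B) ⊗ₜ[A] c)) ∧
        IsLocalHom ιC := by
    refine ⟨Localization.localRingHom pC pD
      (Algebra.TensorProduct.includeRight : C →ₐ[A] B ⊗[A] C).toRingHom hDC.symm, ?_,
      Localization.isLocalHom_localRingHom _ _ _ _⟩
    intro c
    rw [Localization.localRingHom_to_map]
    rfl
  let inclB : Bsh →+* Csh ⊗[Ash] Bsh :=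
    (Algebra.TensorProduct.includeRight : Bsh →ₐ[Ash] Csh ⊗[Ash] Bsh).toRingHom
  let inclC : Csh →+* Csh ⊗[Ash] Bsh := algebraMap Csh _
  have hinclB : ∀ b, inclB b = (1 : Csh) ⊗ₜ[Ash] b := fun b => rfl
  have hinclC : ∀ c, inclC c = c ⊗ₜ[Ash] (1 : Bsh) := fun c => by
    change algebraMap Csh (Csh ⊗[Ash] Bsh) c = _
    rw [Algebra.TensorProduct.algebraMap_apply, Algebra.algebraMap_self, RingHom.id_apply]
  have hmulincl : ∀ c b, inclC c * inclB b = c ⊗ₜ[Ash] b := fun c b => by
    rw [hinclB, hinclC, Algebra.TensorProduct.tmul_mul_tmul, mul_one, one_mul]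
  have hinclA : ∀ x : Ash, inclB (algebraMap Ash Bsh x) = inclC (algebraMap Ash Csh x) := by
    intro x
    rw [hinclB, hinclC, Algebra.algebraMap_eq_smul_one (A := Bsh),
      Algebra.algebraMap_eq_smul_one (A := Csh), TensorProduct.smul_tmul]
  have hjB : ∀ x : Localization.AtPrime pB, jD₀ (ιB x) = inclB (algebraMap _ Bsh x) := by
    intro x
    have h1 : jD₀.comp ιB = inclB.comp (algebraMap (Localization.AtPrime pB) Bsh) := by
      apply IsLocalization.ringHom_ext pB.primeCompl
      refine RingHom.ext fun b => ?_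
      simp only [RingHom.comp_apply]
      rw [hιB, hjD₀, bcJ_tmul, map_one,
        ← IsScalarTower.algebraMap_apply B (Localization.AtPrime pB) Bsh, hinclB]
    exact congrArg (fun m => m x) h1
  have hjC : ∀ x : Localization.AtPrime pC, jD₀ (ιC x) = inclC (algebraMap _ Csh x) := by
    intro x
    have h1 : jD₀.comp ιC = inclC.comp (algebraMap (Localization.AtPrime pC) Csh) := by
      apply IsLocalization.ringHom_ext pC.primeCompl
      refine RingHom.ext fun c => ?_
      simp only [RingHom.comp_apply]
      rw [hιC, hjD₀, bcJ_tmul, map_one,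
        ← IsScalarTower.algebraMap_apply C (Localization.AtPrime pC) Csh, hinclC]
    exact congrArg (fun m => m x) h1
  have hlocB' : IsLocalHom inclB := hlocB
  have hlocC' : IsLocalHom inclC := hlocC
  have hE : Hensel.IsStrictHenselization (Localization.AtPrime pD) (Csh ⊗[Ash] Bsh) := by
    refine ⟨hEH, ?_, ?_⟩
    · -- separable closure
      have hsB : ∀ b : Bsh, IsSeparable (ResidueField (Localization.AtPrime pD))
          (residue (Csh ⊗[Ash] Bsh) (inclB b)) := by
        intro b
        have hsep : Algebra.IsSeparable (ResidueField (Localization.AtPrime pB)) (ResidueField Bsh) :=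
          hBsh.isSepClosure.separable
        have h1 : IsSeparable (ResidueField (Localization.AtPrime pB)) (residue Bsh b) :=
          Algebra.IsSeparable.isSeparable _ _
        have hsq : (ResidueField.map inclB).comp
            (algebraMap (ResidueField (Localization.AtPrime pB)) (ResidueField Bsh)) =
            (algebraMap (ResidueField (Localization.AtPrime pD))
              (ResidueField (Csh ⊗[Ash] Bsh))).comp (ResidueField.map ιB) := by
          refine RingHom.ext fun y => ?_
          obtain ⟨x, rfl⟩ := residue_surjective y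
          change residue _ (inclB (algebraMap _ Bsh x)) = residue _ (jD₀ (ιB x))
          rw [hjB]
        have h2 : IsSeparable (ResidueField (Localization.AtPrime pD))
            (ResidueField.map inclB (residue Bsh b)) :=
          isSeparable_of_square (ResidueField.map ιB) (ResidueField.map inclB) hsq h1
        exact h2
      have hsC : ∀ c : Csh, IsSeparable (ResidueField (Localization.AtPrime pD))
          (residue (Csh ⊗[Ash] Bsh) (inclC c)) := by
        intro c
        have hsep : Algebra.IsSeparable (ResidueField (Localization.AtPrime pC)) (ResidueField Csh) :=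
          hCsh.isSepClosure.separable
        have h1 : IsSeparable (ResidueField (Localization.AtPrime pC)) (residue Csh c) :=
          Algebra.IsSeparable.isSeparable _ _
        have hsq : (ResidueField.map inclC).comp
            (algebraMap (ResidueField (Localization.AtPrime pC)) (ResidueField Csh)) =
            (algebraMap (ResidueField (Localization.AtPrime pD))
              (ResidueField (Csh ⊗[Ash] Bsh))).comp (ResidueField.map ιC) := by
          refine RingHom.ext fun y => ?_
          obtain ⟨x, rfl⟩ := residue_surjective y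
          change residue _ (inclC (algebraMap _ Csh x)) = residue _ (jD₀ (ιC x))
          rw [hjC]
        have h2 : IsSeparable (ResidueField (Localization.AtPrime pD))
            (ResidueField.map inclC (residue Csh c)) :=
          isSeparable_of_square (ResidueField.map ιC) (ResidueField.map inclC) hsq h1
        exact h2
      have hsepE : Algebra.IsSeparable (ResidueField (Localization.AtPrime pD))
          (ResidueField (Csh ⊗[Ash] Bsh)) := by
        refine ⟨fun x => ?_⟩
        obtain ⟨e, rfl⟩ := residue_surjective x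
        induction e using TensorProduct.induction_on with
        | zero =>
          rw [map_zero, ← map_zero (algebraMap (ResidueField (Localization.AtPrime pD)) _)]
          exact isSeparable_algebraMap _
        | tmul c b =>
          rw [← hmulincl, map_mul]
          exact Field.isSeparable_mul (hsC c) (hsB b)
        | add x y hx hy =>
          rw [map_add]
          exact Field.isSeparable_add hx hy
      exact ⟨hEsc, hsepE⟩
    · -- universal property
      intro T _ _ f _ τ hτ
      have hτ' : ∀ d : Localization.AtPrime pD,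
          τ (residue (Csh ⊗[Ash] Bsh) (jD₀ d)) = residue T (f d) := by
        intro d
        exact congrArg (fun m => m (residue _ d)) hτ
      -- `g_B`
      have hfB : IsLocalHom (f.comp ιB) := RingHom.isLocalHom_comp f ιB
      let τB : ResidueField Bsh →+* ResidueField T := τ.comp (ResidueField.map inclB)
      have hτB : τB.comp (ResidueField.map (algebraMap (Localization.AtPrime pB) Bsh)) =
          ResidueField.map (f.comp ιB) := by
        refine RingHom.ext fun y => ?_
        obtain ⟨x, rfl⟩ := residue_surjective y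
        change τ (residue _ (inclB (algebraMap _ Bsh x))) = residue T (f (ιB x))
        rw [← hjB, hτ']
      obtain ⟨gB, ⟨hgB1, hgB2⟩, hgBuniq⟩ := hBsh.universal T (f.comp ιB) τB hτB
      have hgB1' : ∀ x, gB (algebraMap (Localization.AtPrime pB) Bsh x) = f (ιB x) :=
        fun x => congrArg (fun m => m x) hgB1
      -- `g_C`
      have hfC : IsLocalHom (f.comp ιC) := RingHom.isLocalHom_comp f ιC
      let τC : ResidueField Csh →+* ResidueField T := τ.comp (ResidueField.map inclC)
      have hτC : τC.comp (ResidueField.map (algebraMap (Localization.AtPrime pC) Csh)) =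
          ResidueField.map (f.comp ιC) := by
        refine RingHom.ext fun y => ?_
        obtain ⟨x, rfl⟩ := residue_surjective y
        change τ (residue _ (inclC (algebraMap _ Csh x))) = residue T (f (ιC x))
        rw [← hjC, hτ']
      obtain ⟨gC, ⟨hgC1, hgC2⟩, hgCuniq⟩ := hCsh.universal T (f.comp ιC) τC hτC
      have hgC1' : ∀ x, gC (algebraMap (Localization.AtPrime pC) Csh x) = f (ιC x) :=
        fun x => congrArg (fun m => m x) hgC1
      have hgBloc : IsLocalHom gB := isLocalHom_of_residue_compat gB τB hgB2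
      have hgCloc : IsLocalHom gC := isLocalHom_of_residue_compat gC τC hgC2
      -- agreement on `A^sh`
      let a₁ : Ash →+* T := gB.comp (algebraMap Ash Bsh)
      let a₂ : Ash →+* T := gC.comp (algebraMap Ash Csh)
      have ha₂loc : IsLocalHom a₂ := RingHom.isLocalHom_comp gC (algebraMap Ash Csh)
      have hloc : IsLocalHom (a₂.comp (algebraMap (Localization.AtPrime pA) Ash)) :=
        RingHom.isLocalHom_comp _ _
      have h12 : a₁.comp (algebraMap (Localization.AtPrime pA) Ash) =
          a₂.comp (algebraMap (Localization.AtPrime pA) Ash) := by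
        apply IsLocalization.ringHom_ext pA.primeCompl
        refine RingHom.ext fun a => ?_
        simp only [RingHom.comp_apply]
        rw [← IsScalarTower.algebraMap_apply A (Localization.AtPrime pA) Ash]
        change gB (algebraMap Ash Bsh (algebraMap A Ash a)) =
          gC (algebraMap Ash Csh (algebraMap A Ash a))
        rw [← IsScalarTower.algebraMap_apply A Ash Bsh, ← IsScalarTower.algebraMap_apply A Ash Csh,
          IsScalarTower.algebraMap_apply A B Bsh, IsScalarTower.algebraMap_apply A C Csh,
          IsScalarTower.algebraMap_apply B (Localization.AtPrime pB) Bsh,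
          IsScalarTower.algebraMap_apply C (Localization.AtPrime pC) Csh, hgB1', hgC1', hιB, hιC]
        congr 2
        rw [Algebra.algebraMap_eq_smul_one, Algebra.algebraMap_eq_smul_one, TensorProduct.smul_tmul]
      have hτ₀ : (ResidueField.map a₂).comp
          (ResidueField.map (algebraMap (Localization.AtPrime pA) Ash)) =
          ResidueField.map (a₂.comp (algebraMap (Localization.AtPrime pA) Ash)) :=
        (ResidueField.map_comp (algebraMap (Localization.AtPrime pA) Ash) a₂).symm
      have hc₂ : ∀ x : Ash, residue T (a₂ x) = ResidueField.map a₂ (residue Ash x) := fun x => rfl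
      have hc₁ : ∀ x : Ash, residue T (a₁ x) = ResidueField.map a₂ (residue Ash x) := by
        intro x
        change residue T (gB (algebraMap Ash Bsh x)) = residue T (gC (algebraMap Ash Csh x))
        rw [hgB2, hgC2]
        change τ (residue _ (inclB (algebraMap Ash Bsh x))) =
          τ (residue _ (inclC (algebraMap Ash Csh x)))
        rw [hinclA]
      have ha : a₁ = a₂ :=
        (hAsh.universal T (a₂.comp (algebraMap (Localization.AtPrime pA) Ash)) (ResidueField.map a₂)
          hτ₀).unique ⟨h12, hc₁⟩ ⟨rfl, hc₂⟩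
      -- the map `g`
      let _ : Algebra Ash T := a₂.toAlgebra
      let gC' : Csh →ₐ[Ash] T := { gC with commutes' := fun x => rfl }
      let gB' : Bsh →ₐ[Ash] T := { gB with commutes' := fun x => congrArg (fun m => m x) ha }
      let g : Csh ⊗[Ash] Bsh →ₐ[Ash] T :=
        Algebra.TensorProduct.lift gC' gB' (fun _ _ => Commute.all _ _)
      have hg : ∀ c b, g (c ⊗ₜ[Ash] b) = gC c * gB b := fun c b =>
        Algebra.TensorProduct.lift_tmul _ _ _ _ _
      refine ⟨g.toRingHom, ⟨?_, ?_⟩, ?_⟩
      · apply IsLocalization.ringHom_ext pD.primeCompl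
        refine RingHom.ext fun d => ?_
        simp only [RingHom.comp_apply]
        change g (jD₀ (algebraMap _ _ d)) = f (algebraMap _ _ d)
        rw [hjD₀]
        induction d using TensorProduct.induction_on with
        | zero => simp
        | tmul b c =>
          rw [bcJ_tmul, hg, IsScalarTower.algebraMap_apply C (Localization.AtPrime pC) Csh,
            IsScalarTower.algebraMap_apply B (Localization.AtPrime pB) Bsh, hgB1', hgC1', hιB, hιC,
            ← map_mul, ← map_mul, Algebra.TensorProduct.tmul_mul_tmul, one_mul, mul_one]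
        | add x y hx hy => rw [map_add, map_add, map_add, map_add, hx, hy]
      · intro e
        change residue T (g e) = τ (residue _ e)
        induction e using TensorProduct.induction_on with
        | zero => simp
        | tmul c b =>
          rw [hg, map_mul, hgC2, hgB2, ← hmulincl, map_mul, map_mul]
          rfl
        | add x y hx hy => rw [map_add, map_add, map_add, map_add, hx, hy]
      · rintro g' ⟨hg'1, hg'2⟩
        have hg'1' : ∀ d, g' (jD₀ d) = f d := fun d => congrArg (fun m => m d) hg'1
        have hB' : g'.comp inclB = gB := by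
          apply hgBuniq
          refine ⟨?_, fun x => hg'2 (inclB x)⟩
          refine RingHom.ext fun x => ?_
          simp only [RingHom.comp_apply]
          rw [← hjB, hg'1']
        have hC' : g'.comp inclC = gC := by
          apply hgCuniq
          refine ⟨?_, fun x => hg'2 (inclC x)⟩
          refine RingHom.ext fun x => ?_
          simp only [RingHom.comp_apply]
          rw [← hjC, hg'1']
        refine RingHom.ext fun e => ?_
        induction e using TensorProduct.induction_on with
        | zero => simp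
        | tmul c b =>
          change g' (c ⊗ₜ[Ash] b) = g (c ⊗ₜ[Ash] b)
          rw [hg, ← hmulincl, map_mul, ← hB', ← hC']
          rfl
        | add x y hx hy => rw [map_add, map_add, hx, hy]
  exact bijective_of_isStrictHenselization (Localization.AtPrime pD) (Csh ⊗[Ash] Bsh) Dsh
    (bcΦ Ash Bsh Csh Dsh).toRingHom hΦj


include hDC hC hAsh hBsh hCsh hDsh in
/-- Final form: `B^sh ⊗_{A^sh} C^sh → D^sh` is bijective when `B^sh` is integral over `A^sh`. -/
theorem bijective_lift_of_isIntegral [hint : Algebra.IsIntegral Ash Bsh] :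
    Function.Bijective (Algebra.TensorProduct.lift (IsScalarTower.toAlgHom Ash Bsh Dsh)
      (IsScalarTower.toAlgHom Ash Csh Dsh) (fun _ _ => Commute.all _ _)) := by
  have h := bijective_bcΦ A B C pA pB pC pD hDC Ash Bsh Csh Dsh hC
  have heq : Algebra.TensorProduct.lift (IsScalarTower.toAlgHom Ash Bsh Dsh)
      (IsScalarTower.toAlgHom Ash Csh Dsh) (fun _ _ => Commute.all _ _) =
      (bcΦ Ash Bsh Csh Dsh).comp (Algebra.TensorProduct.comm Ash Bsh Csh).toAlgHom := by
    apply Algebra.TensorProduct.ext'
    intro b c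
    simp only [AlgHom.comp_apply, Algebra.TensorProduct.lift_tmul, AlgEquiv.toAlgHom_eq_coe,
      AlgHom.coe_coe, Algebra.TensorProduct.comm_tmul]
    exact mul_comm _ _
  rw [heq]
  exact h.comp (Algebra.TensorProduct.comm Ash Bsh Csh).bijective

end BC

end Groth.Agent.Lib.Helper4.Hzs
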