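import Mathlib
import Groth.Prelude.Def_Hensel
import Groth.Agent.Lib.Helper4.HznQF

/-!
# Strict henselization of a local algebra as a localization of `B ⊗_A A^sh`
-/

set_option autoImplicit false
set_option linter.unusedSectionVars false
universe u

namespace Groth.Agent.Lib.Helper4.Hzs

open IsLocalRing TensorProduct

section LocalTensor

variable (A B : Type u) [CommRing A] [IsLocalRing A] [CommRing B] [IsLocalRing B] [Algebra A B]
  (Ah : Type u) [CommRing Ah] [IsLocalRing Ah] [Algebra A Ah] [IsLocalHom (algebraMap A Ah)]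
  (Bh : Type u) [CommRing Bh] [IsLocalRing Bh] [Algebra B Bh] [IsLocalHom (algebraMap B Bh)]
  [Algebra A Bh] [IsScalarTower A B Bh] (g : Ah →ₐ[A] Bh)

/-- `B ⊗_A A^sh → B^sh`. -/
noncomputable abbrev lΦ : B ⊗[A] Ah →ₐ[B] Bh :=
  Algebra.TensorProduct.lift (Algebra.ofId B Bh) g (fun _ _ => Commute.all _ _)

/-- The prime `Q` of `B ⊗_A A^sh`. -/
noncomputable abbrev lQ : Ideal (B ⊗[A] Ah) := Ideal.comap (lΦ A B Ah Bh g) (maximalIdeal Bh)

theorem lΦ_unit (y : (lQ A B Ah Bh g).primeCompl) :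
    IsUnit ((lΦ A B Ah Bh g : B ⊗[A] Ah →+* Bh) y) := by
  have := y.2
  exact IsLocalRing.notMem_maximalIdeal.mp this

/-- the map `(B ⊗_A A^sh)_Q → B^sh` -/
noncomputable def lψ : Localization.AtPrime (lQ A B Ah Bh g) →+* Bh :=
  IsLocalization.lift (M := (lQ A B Ah Bh g).primeCompl)
    (g := (lΦ A B Ah Bh g : B ⊗[A] Ah →+* Bh)) (lΦ_unit A B Ah Bh g)

theorem lψ_algebraMap (d : B ⊗[A] Ah) :
    lψ A B Ah Bh g (algebraMap _ _ d) = lΦ A B Ah Bh g d :=
  IsLocalization.lift_eq _ d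

theorem isLocalHom_lψ : IsLocalHom (lψ A B Ah Bh g) := by
  refine ⟨fun x hx => ?_⟩
  obtain ⟨a, s, rfl⟩ := IsLocalization.exists_mk'_eq (lQ A B Ah Bh g).primeCompl x
  have h1 : lψ A B Ah Bh g (IsLocalization.mk' _ a s) * lΦ A B Ah Bh g s = lΦ A B Ah Bh g a := by
    rw [← lψ_algebraMap, ← lψ_algebraMap, ← map_mul, IsLocalization.mk'_spec]
  have h2 : IsUnit (lΦ A B Ah Bh g a) := by
    rw [← h1]; exact hx.mul (lΦ_unit A B Ah Bh g s)
  rw [IsLocalization.AtPrime.isUnit_mk'_iff]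
  intro ha
  exact (IsLocalRing.mem_maximalIdeal _).mp ha h2

theorem algebraMap_B_loc (b : B) :
    algebraMap B (Localization.AtPrime (lQ A B Ah Bh g)) b =
      algebraMap (B ⊗[A] Ah) _ (b ⊗ₜ[A] (1 : Ah)) := by
  rw [IsScalarTower.algebraMap_apply B (B ⊗[A] Ah) (Localization.AtPrime (lQ A B Ah Bh g)),
    Algebra.TensorProduct.algebraMap_apply, Algebra.algebraMap_self, RingHom.id_apply]

theorem lψ_comp_algebraMap :
    (lψ A B Ah Bh g).comp (algebraMap B (Localization.AtPrime (lQ A B Ah Bh g))) =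
      algebraMap B Bh := by
  ext b
  rw [RingHom.comp_apply, algebraMap_B_loc, lψ_algebraMap, Algebra.TensorProduct.lift_tmul, map_one,
    mul_one]
  rfl

theorem lψ_one_tmul (a : Ah) :
    lψ A B Ah Bh g (algebraMap _ _ ((1 : B) ⊗ₜ[A] a)) = g a := by
  rw [lψ_algebraMap, Algebra.TensorProduct.lift_tmul, map_one, one_mul]

variable [hAh : Hensel.IsStrictHenselization A Ah]

include hAh in
theorem l_hdet (hgloc : IsLocalHom g) (T : Type u) [CommRing T] [HenselianLocalRing T]
    (f : Localization.AtPrime (lQ A B Ah Bh g) →+* T) [hf : IsLocalHom f]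
    (τ : ResidueField Bh →+* ResidueField T) (g' : Bh →+* T)
    (hτ : τ.comp (@ResidueField.map _ _ _ _ _ _ (lψ A B Ah Bh g) (isLocalHom_lψ A B Ah Bh g)) =
      ResidueField.map f)
    (hg' : g'.comp (algebraMap B Bh) =
      f.comp (algebraMap B (Localization.AtPrime (lQ A B Ah Bh g))))
    (hg'τ : ∀ x : Bh, residue T (g' x) = τ (residue Bh x)) :
    g'.comp (lψ A B Ah Bh g) = f := by
  have hψloc := isLocalHom_lψ A B Ah Bh g
  -- agreement on `b ⊗ 1`
  have hS : ∀ b : B, g' (algebraMap B Bh b) = f (algebraMap _ _ (b ⊗ₜ[A] (1 : Ah))) := by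
    intro b
    have := congrArg (fun m => m b) hg'
    simp only [RingHom.comp_apply] at this
    rw [algebraMap_B_loc] at this
    exact this
  -- agreement on `1 ⊗ a`
  let a₁ : Ah →+* T := g'.comp (g : Ah →+* Bh)
  let a₂ : Ah →+* T := (f.comp (algebraMap (B ⊗[A] Ah) (Localization.AtPrime (lQ A B Ah Bh g)))).comp
    (Algebra.TensorProduct.includeRight : Ah →ₐ[A] B ⊗[A] Ah).toRingHom
  have h12 : a₁.comp (algebraMap A Ah) = a₂.comp (algebraMap A Ah) := by
    ext r
    change g' (g (algebraMap A Ah r)) =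
      f (algebraMap _ _ ((1 : B) ⊗ₜ[A] (algebraMap A Ah r)))
    rw [g.commutes, IsScalarTower.algebraMap_apply A B Bh, hS]
    congr 2
    rw [Algebra.algebraMap_eq_smul_one, Algebra.algebraMap_eq_smul_one, TensorProduct.smul_tmul]
  have ha₂loc : IsLocalHom a₂ := by
    refine ⟨fun x hx => ?_⟩
    have h1 : IsUnit (algebraMap (B ⊗[A] Ah) (Localization.AtPrime (lQ A B Ah Bh g))
        ((1 : B) ⊗ₜ[A] x)) := hf.map_nonunit _ hx
    have h2 := h1.map (lψ A B Ah Bh g)
    rw [lψ_one_tmul] at h2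
    exact hgloc.map_nonunit x h2
  have hloc : IsLocalHom (a₂.comp (algebraMap A Ah)) := RingHom.isLocalHom_comp _ _
  have hτ₀ : (ResidueField.map a₂).comp (ResidueField.map (algebraMap A Ah)) =
      ResidueField.map (a₂.comp (algebraMap A Ah)) :=
    (ResidueField.map_comp (algebraMap A Ah) a₂).symm
  have hc₂ : ∀ x : Ah, residue T (a₂ x) = ResidueField.map a₂ (residue Ah x) := fun x => rfl
  have hc₁ : ∀ x : Ah, residue T (a₁ x) = ResidueField.map a₂ (residue Ah x) := by
    intro x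
    change residue T (g' (g x)) = residue T (a₂ x)
    rw [hg'τ, ← lψ_one_tmul A B Ah Bh g]
    have h5 := congrArg (fun m => m (residue _ (algebraMap (B ⊗[A] Ah)
      (Localization.AtPrime (lQ A B Ah Bh g)) ((1 : B) ⊗ₜ[A] x)))) hτ
    exact h5
  have ha : a₁ = a₂ :=
    (hAh.universal T (a₂.comp (algebraMap A Ah)) (ResidueField.map a₂)
      hτ₀).unique ⟨h12, hc₁⟩ ⟨rfl, hc₂⟩
  -- conclude
  apply IsLocalization.ringHom_ext (lQ A B Ah Bh g).primeCompl
  refine RingHom.ext fun d => ?_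
  simp only [RingHom.comp_apply]
  rw [lψ_algebraMap]
  induction d using TensorProduct.induction_on with
  | zero => simp
  | tmul b a =>
    have h1 : b ⊗ₜ[A] a = (b ⊗ₜ[A] (1 : Ah)) * ((1 : B) ⊗ₜ[A] a) := by
      rw [Algebra.TensorProduct.tmul_mul_tmul, mul_one, one_mul]
    rw [h1, map_mul, map_mul, map_mul, map_mul]
    congr 1
    · rw [Algebra.TensorProduct.lift_tmul, map_one, mul_one]
      exact hS b
    · rw [Algebra.TensorProduct.lift_tmul, map_one, one_mul]
      exact congrArg (fun m => m a) ha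
  | add x y hx hy => rw [map_add, map_add, map_add, map_add, hx, hy]

variable [hBh : Hensel.IsStrictHenselization B Bh]

include hAh hBh in
/-- `B^sh` is a strict henselization of `(B ⊗_A A^sh)_Q`. -/
theorem isStrictHenselization_local_tensor (hgloc : IsLocalHom g) :
    @Hensel.IsStrictHenselization (Localization.AtPrime (lQ A B Ah Bh g)) Bh _ _ _ _
      (lψ A B Ah Bh g).toAlgebra (isLocalHom_lψ A B Ah Bh g) := by
  let _ : Algebra (Localization.AtPrime (lQ A B Ah Bh g)) Bh := (lψ A B Ah Bh g).toAlgebra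
  have : IsLocalHom (algebraMap (Localization.AtPrime (lQ A B Ah Bh g)) Bh) :=
    isLocalHom_lψ A B Ah Bh g
  exact isStrictHenselization_of_factor
    (algebraMap B (Localization.AtPrime (lQ A B Ah Bh g))) (lψ_comp_algebraMap A B Ah Bh g)
    (fun T _ _ f _ τ g' hτ hg' hg'τ => l_hdet A B Ah Bh g hgloc T f τ g' hτ hg' hg'τ)

include hAh hBh in
/-- For `B` finite over `A`, the map `(B ⊗_A A^sh)_Q → B^sh` is bijective and `Q` is maximal. -/
theorem bijective_lψ_of_finite [Module.Finite A B] (hgloc : IsLocalHom g) :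
    (lQ A B Ah Bh g).IsMaximal ∧ Function.Bijective (lψ A B Ah Bh g) := by
  have hHAh : HenselianLocalRing Ah := hAh.henselian
  let _ : Algebra Ah (B ⊗[A] Ah) := Algebra.TensorProduct.rightAlgebra
  have hfinC : Module.Finite Ah (B ⊗[A] Ah) :=
    Module.Finite.equiv (Algebra.TensorProduct.commRight A Ah B).toLinearEquiv
  have hQle : (maximalIdeal Ah).map (algebraMap Ah (B ⊗[A] Ah)) ≤ lQ A B Ah Bh g := by
    rw [Ideal.map_le_iff_le_comap]
    intro a ha
    change lΦ A B Ah Bh g ((1 : B) ⊗ₜ[A] a) ∈ maximalIdeal Bh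
    rw [Algebra.TensorProduct.lift_tmul, map_one, one_mul, mem_maximalIdeal, mem_nonunits_iff]
    intro h
    exact (mem_maximalIdeal _).mp ha (hgloc.map_nonunit a h)
  have hQmax : (lQ A B Ah Bh g).IsMaximal := by
    have h1 : (lQ A B Ah Bh g).comap (algebraMap Ah (B ⊗[A] Ah)) = maximalIdeal Ah :=
      ((maximalIdeal.isMaximal Ah).eq_of_le (Ideal.comap_ne_top _ Ideal.IsPrime.ne_top')
        (Ideal.map_le_iff_le_comap.mp hQle)).symm
    have : Algebra.IsIntegral Ah (B ⊗[A] Ah) := inferInstance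
    exact Ideal.isMaximal_of_isIntegral_of_isMaximal_comap _ (h1 ▸ maximalIdeal.isMaximal Ah)
  refine ⟨hQmax, ?_⟩
  have hqf : Algebra.QuasiFiniteAt Ah (lQ A B Ah Bh g) := inferInstance
  have hft : Algebra.FiniteType Ah (B ⊗[A] Ah) := inferInstance
  have hfinD : Module.Finite Ah (Localization.AtPrime (lQ A B Ah Bh g)) :=
    Hzn.finite_localization_of_quasiFiniteAt Ah (B ⊗[A] Ah) (lQ A B Ah Bh g) hQle
  have hDH : HenselianLocalRing (Localization.AtPrime (lQ A B Ah Bh g)) :=
    Hzn.henselianLocalRing_of_isIntegral Ah _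
  have hlocD : IsLocalHom (algebraMap Ah (Localization.AtPrime (lQ A B Ah Bh g))) :=
    Hzn.isLocalHom_algebraMap_atPrime Ah _ _ hQle
  have hscR : IsSepClosed (ResidueField Ah) := hAh.isSepClosure.sep_closed
  have hscD : IsSepClosed (ResidueField (Localization.AtPrime (lQ A B Ah Bh g))) :=
    Algebra.IsAlgebraic.isSepClosed (F := ResidueField Ah)
  let _ : Algebra (Localization.AtPrime (lQ A B Ah Bh g)) Bh := (lψ A B Ah Bh g).toAlgebra
  have : IsLocalHom (algebraMap (Localization.AtPrime (lQ A B Ah Bh g)) Bh) :=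
    isLocalHom_lψ A B Ah Bh g
  have : Hensel.IsStrictHenselization (Localization.AtPrime (lQ A B Ah Bh g)) Bh :=
    isStrictHenselization_local_tensor A B Ah Bh g hgloc
  exact Hzn.bijective_algebraMap_of_strictHenselian (Localization.AtPrime (lQ A B Ah Bh g)) Bh

end LocalTensor

end Groth.Agent.Lib.Helper4.Hzs
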