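import Mathlib
import Groth.Prelude.Def_Hensel
import Groth.Agent.Lib.Helper4.HzsUnibr
import Groth.Agent.Lib.Helper4.HznNormal
import Groth.Agent.Lib.Helper4.HznInt
import Groth.Agent.Lib.Helper4.HzsProps

/-!
# Abstract unibranch criteria: a local domain `R`, a normal integral extension `R'` inside `Frac R`
-/

set_option autoImplicit false
set_option linter.unusedSectionVars false
universe u

namespace Groth.Agent.Lib.Helper4.Unibr

open IsLocalRing TensorProduct

section Abs

variable (R : Type u) [CommRing R] [IsDomain R] [IsLocalRing R]
  (R' : Type u) [CommRing R'] [IsDomain R'] [Algebra R R'] [Algebra.IsIntegral R R']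

theorem abs_isLocalHom [IsLocalRing R'] : IsLocalHom (algebraMap R R') :=
  ((local_hom_TFAE (algebraMap R R')).out 0 4).mpr
    (IsLocalRing.eq_maximalIdeal
      (Ideal.isMaximal_comap_of_isIntegral_of_isMaximal (maximalIdeal R')))

section Hens

variable (S : Type u) [CommRing S] [IsLocalRing S] [Algebra R S] [IsLocalHom (algebraMap R S)]
  [Hensel.IsHenselization R S]

theorem abs_isDomain_of_isLocalRing (hinj : Function.Injective (algebraMap R R'))
    [IsIntegrallyClosed R'] [IsLocalRing R'] : IsDomain S := by
  have hlh := abs_isLocalHom R R'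
  obtain ⟨hDloc, hDlh, hDh⟩ := Hzn.isHenselization_tensor_of_integral_local R R' S
  have hnorm := (Hzn.normal_iff_of_isHenselization R' (R' ⊗[R] S)).mpr
    ⟨inferInstance, inferInstance⟩
  have hDdom := hnorm.1
  have hflat : Module.Flat R S := (Hzn.faithfullyFlat_of_isHenselization R S).toFlat
  have hinc := Algebra.TensorProduct.includeRight_injective (R := R) (A := R') (B := S) hinj
  exact hinc.isDomain (Algebra.TensorProduct.includeRight : S →ₐ[R] R' ⊗[R] S).toRingHom

end Hens

theorem abs_isLocalRing_tensor_of_isDomain (K : Type u) [Field K] [Algebra R K]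
    [IsFractionRing R K] [Algebra R' K] [IsScalarTower R R' K]
    (hinj : Function.Injective (algebraMap R' K))
    (T : Type u) [CommRing T] [Algebra R T] [IsDomain T]
    [HenselianLocalRing T] [Module.FaithfullyFlat R T] : IsLocalRing (T ⊗[R] R') := by
  have hdomD : IsDomain (T ⊗[R] R') :=
    isDomain_tensor_of_isFractionRing R T R' K (FaithfulSMul.algebraMap_injective R T) hinj
  exact isLocalRing_of_isDomain_of_isIntegral T _

theorem abs_isLocalRing_of_tensor (T : Type u) [CommRing T] [Algebra R T]
    [Module.FaithfullyFlat R T] (h : IsLocalRing (T ⊗[R] R')) : IsLocalRing R' := by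
  have hlocD' : IsLocalRing (R' ⊗[R] T) :=
    (Algebra.TensorProduct.comm R T R').toRingEquiv.isLocalRing
  exact Module.FaithfullyFlat.isLocalRing R' (R' ⊗[R] T)

section Hens2

variable (S : Type u) [CommRing S] [IsLocalRing S] [Algebra R S] [IsLocalHom (algebraMap R S)]
  [Hensel.IsHenselization R S]

theorem abs_isLocalRing_of_isDomain (K : Type u) [Field K] [Algebra R K]
    [IsFractionRing R K] [Algebra R' K] [IsScalarTower R R' K]
    (hinj : Function.Injective (algebraMap R' K)) [IsDomain S] : IsLocalRing R' := by
  have hff := Hzn.faithfullyFlat_of_isHenselization R S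
  have hSh : HenselianLocalRing S := Hensel.IsHenselization.henselian R
  exact abs_isLocalRing_of_tensor R R' S (abs_isLocalRing_tensor_of_isDomain R R' K hinj S)

end Hens2

section Strict

variable (S : Type u) [CommRing S] [IsLocalRing S] [Algebra R S] [IsLocalHom (algebraMap R S)]
  [hS : Hensel.IsStrictHenselization R S]

theorem abs_isDomain_of_isLocalRing_strict (hinj : Function.Injective (algebraMap R R'))
    [IsIntegrallyClosed R'] [IsLocalRing R'] [IsLocalHom (algebraMap R R')]
    [IsPurelyInseparable (ResidueField R) (ResidueField R')] : IsDomain S := by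
  obtain ⟨hDloc, h2⟩ := isStrictHenselization_tensor_of_integral_local R R' S
  let _ : Algebra R' (S ⊗[R] R') := Algebra.TensorProduct.rightAlgebra
  obtain ⟨hDlh, hDh⟩ := h2
  have hnorm := (Hzs.normal_iff_of_isStrictHenselization R' (S ⊗[R] R')).mpr
    ⟨inferInstance, inferInstance⟩
  have hDdom := hnorm.1
  have hflat : Module.Flat R S := (Hzs.faithfullyFlat_of_isStrictHenselization R S).toFlat
  have hinc := Algebra.TensorProduct.includeLeft_injective (R := R) (S := R) (A := S)
    (B := R') hinj
  exact hinc.isDomain (Algebra.TensorProduct.includeLeft : S →ₐ[R] S ⊗[R] R').toRingHom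

theorem abs_isLocalRing_of_isDomain_strict (K : Type u) [Field K] [Algebra R K]
    [IsFractionRing R K] [Algebra R' K] [IsScalarTower R R' K]
    (hinj : Function.Injective (algebraMap R' K)) [IsDomain S] : IsLocalRing R' := by
  have hff := Hzs.faithfullyFlat_of_isStrictHenselization R S
  have hSh : HenselianLocalRing S := hS.henselian
  exact abs_isLocalRing_of_tensor R R' S (abs_isLocalRing_tensor_of_isDomain R R' K hinj S)

theorem abs_isPurelyInseparable_of_isDomain_strict (K : Type u) [Field K] [Algebra R K]
    [IsFractionRing R K] [Algebra R' K] [IsScalarTower R R' K]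
    (hinj : Function.Injective (algebraMap R' K)) [IsDomain S] [IsLocalRing R']
    [IsLocalHom (algebraMap R R')] :
    IsPurelyInseparable (ResidueField R) (ResidueField R') := by
  have hff := Hzs.faithfullyFlat_of_isStrictHenselization R S
  have hSh : HenselianLocalRing S := hS.henselian
  have hlocD := abs_isLocalRing_tensor_of_isDomain R R' K hinj S
  have hsc : IsSepClosed (ResidueField S) := hS.isSepClosure.sep_closed
  have hint2 := Hzs.isIntegral_residueField_of_isIntegral R R'
  have halg : Algebra.IsAlgebraic (ResidueField R) (ResidueField R') := inferInstance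
  have hsurj : Function.Surjective (Hzs.bcθ R R' S) := by
    intro z
    induction z using TensorProduct.induction_on with
    | zero => exact ⟨0, map_zero _⟩
    | tmul x y =>
      obtain ⟨s, rfl⟩ := residue_surjective x
      obtain ⟨b, rfl⟩ := residue_surjective y
      exact ⟨s ⊗ₜ b, Hzs.bcθ_tmul R R' S s b⟩
    | add x y hx hy =>
      obtain ⟨a, rfl⟩ := hx
      obtain ⟨b, rfl⟩ := hy
      exact ⟨a + b, map_add _ _ _⟩
  have hincl : Function.Injective (Algebra.TensorProduct.includeRight :
      ResidueField R' →ₐ[ResidueField R] ResidueField S ⊗[ResidueField R] ResidueField R') :=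
    Algebra.TensorProduct.includeRight_injective
      (algebraMap (ResidueField R) (ResidueField S)).injective
  have hnt : Nontrivial (ResidueField S ⊗[ResidueField R] ResidueField R') := hincl.nontrivial
  have hlocL : IsLocalRing (ResidueField S ⊗[ResidueField R] ResidueField R') :=
    IsLocalRing.of_surjective' (Hzs.bcθ R R' S).toRingHom hsurj
  exact isPurelyInseparable_of_isLocalRing_tensor _ (ResidueField S) _

end Strict

end Abs

end Groth.Agent.Lib.Helper4.Unibr
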