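import Mathlib
import Groth.Prelude.Def_Hensel
import Groth.Prelude.Def_CAlg2
import Groth.Agent.Lib.Helper4.HzsUnibr4
import Groth.Agent.Lib.Helper4.HznRed

/-!
# Reduction to the reduced case: unique minimal prime of the (strict) henselization
-/

set_option autoImplicit false
set_option linter.unusedSectionVars false
universe u

namespace Groth.Agent.Lib.Helper4.Unibr

open IsLocalRing TensorProduct CAlg2

section Red

variable (A : Type u) [CommRing A] (T : Type u) [CommRing T] [Algebra A T]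

/-- the map `T ⊗_A A_red → T/𝔮` for a prime `𝔮` -/
noncomputable def toQuotL (𝔮 : Ideal T) [𝔮.IsPrime] : T ⊗[A] red A →ₐ[A] T ⧸ 𝔮 :=
  Algebra.TensorProduct.lift (Ideal.Quotient.mkₐ A 𝔮)
    (Ideal.Quotient.liftₐ (nilradical A) (Algebra.ofId A (T ⧸ 𝔮)) (fun a ha => by
      have h1 : IsNilpotent (Algebra.ofId A (T ⧸ 𝔮) a) := (mem_nilradical.mp ha).map _
      exact h1.eq_zero))
    (fun _ _ => Commute.all _ _)

theorem toQuotL_tmul_one (𝔮 : Ideal T) [𝔮.IsPrime] (t : T) :
    toQuotL A T 𝔮 (t ⊗ₜ[A] (1 : red A)) = Ideal.Quotient.mk 𝔮 t := by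
  rw [toQuotL, Algebra.TensorProduct.lift_tmul, map_one, mul_one]
  rfl

theorem kerL_le (𝔮 : Ideal T) [𝔮.IsPrime] :
    RingHom.ker (Algebra.TensorProduct.includeLeft : T →ₐ[A] T ⊗[A] red A) ≤ 𝔮 := by
  intro t ht
  rw [RingHom.mem_ker] at ht
  have h1 := congrArg (toQuotL A T 𝔮) ht
  rw [map_zero] at h1
  change toQuotL A T 𝔮 (t ⊗ₜ[A] (1 : red A)) = 0 at h1
  rw [toQuotL_tmul_one] at h1
  exact Ideal.Quotient.eq_zero_iff_mem.mp h1

theorem includeLeft_surjective :
    Function.Surjective (Algebra.TensorProduct.includeLeft : T →ₐ[A] T ⊗[A] red A) := by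
  intro z
  induction z using TensorProduct.induction_on with
  | zero => exact ⟨0, map_zero _⟩
  | tmul t x =>
    obtain ⟨a, rfl⟩ := Ideal.Quotient.mk_surjective x
    refine ⟨a • t, ?_⟩
    change (a • t) ⊗ₜ[A] (1 : red A) = t ⊗ₜ[A] (Ideal.Quotient.mk (nilradical A) a)
    rw [TensorProduct.smul_tmul]
    congr 1
    rw [Algebra.smul_def, mul_one]
    rfl
  | add x y hx hy =>
    obtain ⟨a, rfl⟩ := hx
    obtain ⟨b, rfl⟩ := hy
    exact ⟨a + b, map_add _ _ _⟩

/-- the map `A_red ⊗_A T → T/𝔮` for a prime `𝔮` -/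
noncomputable def toQuotR (𝔮 : Ideal T) [𝔮.IsPrime] : red A ⊗[A] T →ₐ[A] T ⧸ 𝔮 :=
  Algebra.TensorProduct.lift
    (Ideal.Quotient.liftₐ (nilradical A) (Algebra.ofId A (T ⧸ 𝔮)) (fun a ha => by
      have h1 : IsNilpotent (Algebra.ofId A (T ⧸ 𝔮) a) := (mem_nilradical.mp ha).map _
      exact h1.eq_zero))
    (Ideal.Quotient.mkₐ A 𝔮)
    (fun _ _ => Commute.all _ _)

theorem toQuotR_one_tmul (𝔮 : Ideal T) [𝔮.IsPrime] (t : T) :
    toQuotR A T 𝔮 ((1 : red A) ⊗ₜ[A] t) = Ideal.Quotient.mk 𝔮 t := by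
  rw [toQuotR, Algebra.TensorProduct.lift_tmul, map_one, one_mul]
  rfl

theorem kerR_le (𝔮 : Ideal T) [𝔮.IsPrime] :
    RingHom.ker (Algebra.TensorProduct.includeRight : T →ₐ[A] red A ⊗[A] T) ≤ 𝔮 := by
  intro t ht
  rw [RingHom.mem_ker] at ht
  have h1 := congrArg (toQuotR A T 𝔮) ht
  rw [map_zero] at h1
  change toQuotR A T 𝔮 ((1 : red A) ⊗ₜ[A] t) = 0 at h1
  rw [toQuotR_one_tmul] at h1
  exact Ideal.Quotient.eq_zero_iff_mem.mp h1

theorem includeRight_surjective :
    Function.Surjective (Algebra.TensorProduct.includeRight : T →ₐ[A] red A ⊗[A] T) := by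
  intro z
  induction z using TensorProduct.induction_on with
  | zero => exact ⟨0, map_zero _⟩
  | tmul x t =>
    obtain ⟨a, rfl⟩ := Ideal.Quotient.mk_surjective x
    refine ⟨a • t, ?_⟩
    change (1 : red A) ⊗ₜ[A] (a • t) = (Ideal.Quotient.mk (nilradical A) a) ⊗ₜ[A] t
    rw [← TensorProduct.smul_tmul]
    congr 1
    rw [Algebra.smul_def, mul_one]
    rfl
  | add x y hx hy =>
    obtain ⟨a, rfl⟩ := hx
    obtain ⟨b, rfl⟩ := hy
    exact ⟨a + b, map_add _ _ _⟩

/-- A surjection `φ : T → S₀` whose kernel lies in every prime: if `S₀` is a domain then `T` has a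
unique minimal prime. -/
theorem existsUnique_minimalPrime_of_ker {S₀ : Type u} [CommRing S₀] [IsDomain S₀]
    (φ : T →+* S₀) (hker : ∀ (𝔮 : Ideal T) [𝔮.IsPrime], RingHom.ker φ ≤ 𝔮) :
    ∃! 𝔭 : Ideal T, 𝔭 ∈ minimalPrimes T := by
  have hP : (RingHom.ker φ).IsPrime := RingHom.ker_isPrime φ
  refine ⟨RingHom.ker φ, ⟨⟨hP, bot_le⟩, fun q hq _ => @hker q hq.1⟩, ?_⟩
  intro 𝔮 h𝔮
  have h1 : RingHom.ker φ ≤ 𝔮 := @hker 𝔮 h𝔮.1.1
  exact le_antisymm (h𝔮.2 ⟨hP, bot_le⟩ h1) h1

/-- Conversely: if `T` has a unique minimal prime, `S₀` is reduced and `φ` surjective with kernel in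
every prime, then `S₀` is a domain. -/
theorem isDomain_of_existsUnique_minimalPrime {S₀ : Type u} [CommRing S₀] [IsReduced S₀]
    (φ : T →+* S₀) (hφ : Function.Surjective φ)
    (hker : ∀ (𝔮 : Ideal T) [𝔮.IsPrime], RingHom.ker φ ≤ 𝔮)
    (h : ∃! 𝔭 : Ideal T, 𝔭 ∈ minimalPrimes T) : IsDomain S₀ := by
  obtain ⟨P, hP, hPu⟩ := h
  have hPp : P.IsPrime := hP.1.1
  have hnil : nilradical T = P := by
    have h1 : minimalPrimes T = {P} := by
      ext q
      simp only [Set.mem_singleton_iff]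
      exact ⟨fun hq => hPu q hq, fun hq => hq ▸ hP⟩
    have h2 : sInf (minimalPrimes T) = nilradical T := by
      rw [minimalPrimes, Ideal.sInf_minimalPrimes]
      rfl
    rw [← h2, h1, sInf_singleton]
  have hkerP : RingHom.ker φ = P := by
    refine le_antisymm (hker P) ?_
    rw [← hnil]
    intro x hx
    rw [RingHom.mem_ker]
    exact ((mem_nilradical.mp hx).map φ).eq_zero
  have : (RingHom.ker φ).IsPrime := hkerP ▸ hPp
  let e := RingHom.quotientKerEquivOfSurjective hφ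
  exact e.symm.injective.isDomain e.symm.toRingHom

theorem comap_nilradical_of_injective (hinj : Function.Injective (algebraMap A T)) :
    (nilradical T).comap (algebraMap A T) = nilradical A := by
  ext x
  rw [Ideal.mem_comap, mem_nilradical, mem_nilradical, IsNilpotent.map_iff hinj]

theorem isDomain_red_of_existsUnique_minimalPrime (hinj : Function.Injective (algebraMap A T))
    (h : ∃! 𝔭 : Ideal T, 𝔭 ∈ minimalPrimes T) : IsDomain (red A) := by
  obtain ⟨P, hP, hPu⟩ := h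
  have hPp : P.IsPrime := hP.1.1
  have hnil : nilradical T = P := by
    have h1 : minimalPrimes T = {P} := by
      ext q
      simp only [Set.mem_singleton_iff]
      exact ⟨fun hq => hPu q hq, fun hq => hq ▸ hP⟩
    have h2 : sInf (minimalPrimes T) = nilradical T := by
      rw [minimalPrimes, Ideal.sInf_minimalPrimes]
      rfl
    rw [← h2, h1, sInf_singleton]
  have h3 : (nilradical A).IsPrime := by
    rw [← comap_nilradical_of_injective A T hinj, hnil]
    exact Ideal.comap_isPrime _ _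
  exact Ideal.Quotient.isDomain _

end Red

end Groth.Agent.Lib.Helper4.Unibr
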