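import Mathlib
import Groth.Agent.Lib.Helper4.HenselPairE
import Groth.Agent.Lib.Helper4.HenselPairZ2

/-!
# Lifting an idempotent with finite factor to the integral closure (Stacks 09XE-type)

`A → B` of finite type, `B/IB = C₁ × C₂` with `C₁` finite over `A/I`.  Then there is `g` in the
integral closure `B'` of `A` in `B`, idempotent modulo `IB'`, lifting the idempotent, with
`B'_g ≅ B_g`.  Uses Zariski's main theorem.
-/

set_option autoImplicit false
universe u
open Groth.Agent.Lib.Helper4.HenselPair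

namespace Groth.Agent.Lib.Helper4.IntClosIdem

theorem quasiFiniteAt_of_finite_idempotent_quotient {A B : Type u} [CommRing A] [CommRing B]
    [Algebra A B] [Algebra.FiniteType A B] (I : Ideal A) (e : B ⧸ I.map (algebraMap A B))
    (he : IsIdempotentElem e)
    (hfin : Module.Finite A ((B ⧸ I.map (algebraMap A B)) ⧸ Ideal.span {1 - e}))
    (q : Ideal B) [q.IsPrime]
    (hq : (Ideal.span {1 - e}).comap (Ideal.Quotient.mk (I.map (algebraMap A B))) ≤ q) :
    Algebra.QuasiFiniteAt A q := by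
  have hw : Algebra.WeaklyQuasiFiniteAt A q := by
    rw [Algebra.weaklyQuasiFiniteAt_iff]
    set p := q.under A with hp
    let Bq := Localization.AtPrime q
    let T := Bq ⧸ p.map (algebraMap A Bq)
    have hJq : (I.map (algebraMap A B)) ≤ q := by
      refine le_trans ?_ hq
      intro x hx
      rw [Ideal.mem_comap, Ideal.Quotient.eq_zero_iff_mem.mpr hx]
      exact Ideal.zero_mem _
    have hIp : I ≤ p := by
      intro i hi
      exact hJq (Ideal.mem_map_of_mem _ hi)
    let f₀ : B →ₐ[A] T := (Ideal.Quotient.mkₐ A _).comp (IsScalarTower.toAlgHom A B Bq)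
    have hf₀J : ∀ x ∈ (I.map (algebraMap A B)), f₀ x = 0 := by
      have hle : (I.map (algebraMap A B)) ≤ RingHom.ker f₀.toRingHom := by
        rw [Ideal.map_le_iff_le_comap]
        intro i hi
        rw [Ideal.mem_comap, RingHom.mem_ker]
        show f₀ (algebraMap A B i) = 0
        rw [f₀.commutes]
        show algebraMap A T i = 0
        rw [IsScalarTower.algebraMap_apply A Bq T, Ideal.Quotient.algebraMap_eq,
          Ideal.Quotient.eq_zero_iff_mem]
        exact Ideal.mem_map_of_mem _ (hIp hi)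
      exact fun x hx => hle hx
    let f₁ : B ⧸ (I.map (algebraMap A B)) →ₐ[A] T := Ideal.Quotient.liftₐ (I.map (algebraMap A B)) f₀ hf₀J
    have hf₁ : ∀ b : B, f₁ (Ideal.Quotient.mk (I.map (algebraMap A B)) b) = f₀ b := fun b => rfl
    obtain ⟨et, het⟩ := Ideal.Quotient.mk_surjective e
    have hetq : et ∉ q := by
      intro h
      have h1 : 1 - et ∈ q := by
        apply hq
        rw [Ideal.mem_comap, map_sub, map_one, het]
        exact Ideal.mem_span_singleton_self _
      have : (1 : B) ∈ q := by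
        have := q.add_mem h1 h
        rwa [sub_add_cancel] at this
      exact (‹q.IsPrime›.ne_top) ((Ideal.eq_top_iff_one _).mpr this)
    have hunit : IsUnit (f₀ et) := by
      have h1 : IsUnit (algebraMap B Bq et) :=
        IsLocalization.map_units (M := q.primeCompl) Bq ⟨et, hetq⟩
      exact h1.map (Ideal.Quotient.mk _)
    have hf₁e : f₁ (1 - e) = 0 := by
      have h1 : f₁ e * f₁ (1 - e) = 0 := by
        rw [← map_mul, mul_sub, mul_one, he.eq, sub_self, map_zero]
      rw [← het, hf₁] at h1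
      exact hunit.mul_right_eq_zero.mp (by rw [← het]; exact h1)
    let f : ((B ⧸ (I.map (algebraMap A B))) ⧸ Ideal.span {1 - e}) →ₐ[A] T := Ideal.Quotient.liftₐ _ f₁ (by
      intro c hc
      obtain ⟨c', rfl⟩ := Ideal.mem_span_singleton'.mp hc
      rw [map_mul, hf₁e, mul_zero])
    have hf : ∀ b : B, f (Ideal.Quotient.mk _ (Ideal.Quotient.mk (I.map (algebraMap A B)) b)) = f₀ b := fun b => rfl
    refine Algebra.QuasiFinite.of_forall_exists_mul_mem_range f fun x => ?_
    obtain ⟨x, rfl⟩ := Ideal.Quotient.mk_surjective x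
    obtain ⟨b, ⟨s, hs⟩, rfl⟩ := IsLocalization.exists_mk'_eq q.primeCompl x
    refine ⟨Ideal.Quotient.mk _ (Ideal.Quotient.mk (I.map (algebraMap A B)) s), ?_, Ideal.Quotient.mk _ (Ideal.Quotient.mk (I.map (algebraMap A B)) b), ?_⟩
    · rw [hf]
      have h1 : IsUnit (algebraMap B Bq s) :=
        IsLocalization.map_units (M := q.primeCompl) Bq ⟨s, hs⟩
      exact h1.map (Ideal.Quotient.mk _)
    · rw [hf]
      show f₀ b = Ideal.Quotient.mk _ _ * Ideal.Quotient.mk _ (algebraMap B Bq s)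
      rw [← map_mul, IsLocalization.mk'_spec]
      rfl
  exact Algebra.QuasiFiniteAt.of_weaklyQuasiFiniteAt q

theorem exists_cover_element {A B : Type u} [CommRing A] [CommRing B] [Algebra A B]
    [Algebra.FiniteType A B] (𝔟 : Ideal B) (hint : Algebra.IsIntegral A (B ⧸ 𝔟))
    (hqf : ∀ (q : Ideal B) [q.IsPrime], 𝔟 ≤ q → Algebra.QuasiFiniteAt A q) :
    ∃ S' : Subalgebra A B, S'.toSubmodule.FG ∧ ∃ a₀ k₀ : S', a₀ + k₀ = 1 ∧ (k₀ : B) ∈ 𝔟 ∧
      ∀ x : B, ∃ N : ℕ, (a₀ : B) ^ N * x ∈ S' := by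
  classical
  obtain ⟨S', hS'fg, t, htS', htcover, htpow⟩ :=
    exists_finite_subalgebra_cover_of_quasiFiniteAt (R := A) 𝔟 hqf
  refine ⟨S', hS'fg, ?_⟩
  let PB : Submodule A B := S'.toSubmodule
  have hPB : ∀ b ∈ S', ∀ z ∈ PB, b * z ∈ PB := fun b hb z hz => S'.mul_mem hb hz
  let tS : Set S' := {s | (s : B) ∈ t}
  let 𝔞 : Ideal S' := Ideal.span tS
  let K : Ideal S' := 𝔟.comap (algebraMap S' B)
  have hKmem : ∀ s : S', s ∈ K ↔ (s : B) ∈ 𝔟 := fun s => Iff.rfl
  have hb : 𝔞 ⊔ K = ⊤ := by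
    by_contra hne
    obtain ⟨M, hM, hle⟩ := Ideal.exists_le_maximal _ hne
    have hint' : Algebra.IsIntegral S' (B ⧸ 𝔟) := Algebra.IsIntegral.tower_top (R := A)
    have hker : RingHom.ker (algebraMap S' (B ⧸ 𝔟)) ≤ M := by
      intro s hs
      refine hle (Ideal.mem_sup_right ?_)
      rw [hKmem]
      exact Ideal.Quotient.eq_zero_iff_mem.mp hs
    obtain ⟨Q, hQ, hQM⟩ := Ideal.exists_ideal_over_maximal_of_isIntegral M hker
    have h1 : Ideal.span (t : Set B) ⊔ 𝔟 ≤ Q.comap (Ideal.Quotient.mk 𝔟) := by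
      refine sup_le (Ideal.span_le.mpr fun r hr => ?_) ?_
      · have h2 : (⟨r, htS' r hr⟩ : S') ∈ M :=
          hle (Ideal.mem_sup_left (Ideal.subset_span hr))
        rw [← hQM] at h2
        exact h2
      · intro x hx
        rw [Ideal.mem_comap, Ideal.Quotient.eq_zero_iff_mem.mpr hx]
        exact Q.zero_mem
    rw [htcover] at h1
    exact hQ.ne_top (Ideal.comap_eq_top_iff.mp (top_le_iff.mp h1))
  obtain ⟨a₀, ha₀, k₀, hk₀, hak⟩ := Submodule.mem_sup.mp ((Ideal.eq_top_iff_one _).mp hb)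
  refine ⟨a₀, k₀, hak, (hKmem k₀).mp hk₀, fun x => ?_⟩
  have hle : 𝔞 ≤ (condIdeal S' PB hPB x).radical := by
    rw [Ideal.span_le]
    intro s hs
    obtain ⟨N, hN⟩ := htpow s hs x
    refine ⟨N, ?_⟩
    rw [mem_condIdeal]
    have h1 : ((s ^ N : S') : B) * x ∈ S' := by simpa using hN
    exact h1
  obtain ⟨N, hN⟩ := hle ha₀
  rw [mem_condIdeal] at hN
  have : (a₀ : B) ^ N * x ∈ PB := by simpa using hN
  exact ⟨N, this⟩

theorem exists_idempotent_lift_integralClosure (A B : Type u) [CommRing A] [CommRing B]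
    [Algebra A B] [Algebra.FiniteType A B] (I : Ideal A) (e : B ⧸ Ideal.map (algebraMap A B) I)
    (he : IsIdempotentElem e)
    (hfin : Module.Finite (A ⧸ I) ((B ⧸ Ideal.map (algebraMap A B) I) ⧸ Ideal.span {1 - e})) :
    ∃ g : integralClosure A B,
      IsIdempotentElem (Ideal.Quotient.mk (Ideal.map (algebraMap A (integralClosure A B)) I) g) ∧
      Ideal.Quotient.mk (Ideal.map (algebraMap A B) I) (g : B) = e ∧
      Function.Bijective (algebraMap (Localization.Away g)
        (Localization (Algebra.algebraMapSubmonoid B (Submonoid.powers g)))) := by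
  classical
  have hfinA : Module.Finite A ((B ⧸ Ideal.map (algebraMap A B) I) ⧸ Ideal.span {1 - e}) :=
    Module.Finite.trans (A ⧸ I) _
  -- the ideal `𝔟`
  let φ : B →ₐ[A] ((B ⧸ Ideal.map (algebraMap A B) I) ⧸ Ideal.span {1 - e}) :=
    (Ideal.Quotient.mkₐ A _).comp (Ideal.Quotient.mkₐ A _)
  have hφ : Function.Surjective φ :=
    Ideal.Quotient.mk_surjective.comp Ideal.Quotient.mk_surjective
  set 𝔟 : Ideal B := (Ideal.span {1 - e}).comap (Ideal.Quotient.mk (I.map (algebraMap A B)))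
    with h𝔟
  have h𝔟ker : 𝔟 = RingHom.ker φ.toRingHom := by
    ext x
    rw [h𝔟, Ideal.mem_comap, RingHom.mem_ker]
    exact Ideal.Quotient.eq_zero_iff_mem.symm
  have hint : Algebra.IsIntegral A (B ⧸ 𝔟) := by
    have h1 : Module.Finite A (B ⧸ RingHom.ker φ.toRingHom) :=
      Module.Finite.equiv (Ideal.quotientKerAlgEquivOfSurjective hφ).symm.toLinearEquiv
    rw [← h𝔟ker] at h1
    infer_instance
  have hqf : ∀ (q : Ideal B) [q.IsPrime], 𝔟 ≤ q → Algebra.QuasiFiniteAt A q :=
    fun q _ hq => quasiFiniteAt_of_finite_idempotent_quotient I e he hfinA q hq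
  obtain ⟨S', hS'fg, a₀, k₀, hak, hk₀, hpow⟩ := exists_cover_element 𝔟 hint hqf
  have hS'le : ∀ s ∈ S', s ∈ integralClosure A B := fun s hs =>
    IsIntegral.of_mem_of_fg S' hS'fg s hs
  -- elements of the integral closure
  let a : integralClosure A B := ⟨a₀, hS'le _ a₀.2⟩
  let k : integralClosure A B := ⟨k₀, hS'le _ k₀.2⟩
  have hak' : a + k = 1 := by
    apply Subtype.ext
    have := congrArg (fun s : S' => (s : B)) hak
    simpa using this
  have hpow' : ∀ x : B, ∃ N : ℕ, (a : B) ^ N * x ∈ integralClosure A B := by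
    intro x
    obtain ⟨N, hN⟩ := hpow x
    exact ⟨N, hS'le _ hN⟩
  -- (K1)
  have hK1 : ∀ y ∈ I.map (algebraMap A B), ∀ b : B, ∃ (M : ℕ) (z : integralClosure A B),
      z ∈ I.map (algebraMap A (integralClosure A B)) ∧ (z : B) = (a : B) ^ M * (b * y) := by
    intro y hy
    refine Submodule.span_induction ?_ ?_ ?_ ?_ hy
    · rintro _ ⟨i, hi, rfl⟩ b
      obtain ⟨N, hN⟩ := hpow' b
      refine ⟨N, algebraMap A _ i * ⟨_, hN⟩, Ideal.mul_mem_right _ _ (Ideal.mem_map_of_mem _ hi), ?_⟩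
      show algebraMap A B i * ((a : B) ^ N * b) = (a : B) ^ N * (b * algebraMap A B i)
      ring
    · intro b
      exact ⟨0, 0, Ideal.zero_mem _, by simp⟩
    · intro y₁ y₂ _ _ h₁ h₂ b
      obtain ⟨M₁, z₁, hz₁, e₁⟩ := h₁ b
      obtain ⟨M₂, z₂, hz₂, e₂⟩ := h₂ b
      refine ⟨M₁ + M₂, a ^ M₂ * z₁ + a ^ M₁ * z₂,
        Ideal.add_mem _ (Ideal.mul_mem_left _ _ hz₁) (Ideal.mul_mem_left _ _ hz₂), ?_⟩
      show (a : B) ^ M₂ * (z₁ : B) + (a : B) ^ M₁ * (z₂ : B) = _
      rw [e₁, e₂]
      ring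
    · intro c y _ h b
      obtain ⟨M, z, hz, e₁⟩ := h (b * c)
      refine ⟨M, z, hz, ?_⟩
      rw [e₁, smul_eq_mul]
      ring
  have hK1' : ∀ x : integralClosure A B, (x : B) ∈ I.map (algebraMap A B) →
      ∃ M : ℕ, a ^ M * x ∈ I.map (algebraMap A (integralClosure A B)) := by
    intro x hx
    obtain ⟨M, z, hz, e₁⟩ := hK1 _ hx 1
    refine ⟨M, ?_⟩
    have : a ^ M * x = z := by
      apply Subtype.ext
      rw [e₁, one_mul]
      rfl
    rw [this]
    exact hz
  -- the lift of `e`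
  obtain ⟨et, het⟩ := Ideal.Quotient.mk_surjective e
  obtain ⟨N, hN⟩ := hpow' et
  let h : integralClosure A B := ⟨_, hN⟩
  -- computations in `B ⧸ J`
  set mkJ := Ideal.Quotient.mk (I.map (algebraMap A B)) with hmkJ
  have hke : mkJ (k : B) * e = 0 := by
    have h1 : mkJ (k : B) ∈ Ideal.span {1 - e} := hk₀
    obtain ⟨c, hc⟩ := Ideal.mem_span_singleton'.mp h1
    rw [← hc, mul_assoc, sub_mul, one_mul, he.eq, sub_self, mul_zero]
  have hae : mkJ (a : B) * e = e := by
    have h1 : mkJ (a : B) + mkJ (k : B) = 1 := by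
      rw [← map_add]
      have := congrArg (fun s : integralClosure A B => (s : B)) hak'
      simp only [Subalgebra.coe_add, Subalgebra.coe_one] at this
      rw [this, map_one]
    have h2 : mkJ (a : B) = 1 - mkJ (k : B) := by rw [← h1]; ring
    rw [h2, sub_mul, one_mul, hke, sub_zero]
  have hapow : ∀ n : ℕ, mkJ (a : B) ^ n * e = e := by
    intro n
    induction n with
    | zero => simp
    | succ n ih => rw [pow_succ, mul_assoc, hae, ih]
  have hhe : mkJ (h : B) = e := by
    show mkJ ((a : B) ^ N * et) = e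
    rw [map_mul, map_pow, het, hapow]
  -- the two elements of `J ∩ B'`
  have hn : ((h * h - h : integralClosure A B) : B) ∈ I.map (algebraMap A B) := by
    rw [← Ideal.Quotient.eq_zero_iff_mem]
    show mkJ ((h : B) * (h : B) - (h : B)) = 0
    rw [map_sub, map_mul, hhe, he.eq, sub_self]
  have hkh : ((k * h : integralClosure A B) : B) ∈ I.map (algebraMap A B) := by
    rw [← Ideal.Quotient.eq_zero_iff_mem]
    show mkJ ((k : B) * (h : B)) = 0
    rw [map_mul, hhe, hke]
  obtain ⟨M₁, hM₁⟩ := hK1' _ hn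
  obtain ⟨M₂, hM₂⟩ := hK1' _ hkh
  set M := M₁ + M₂ + 1 with hM
  have hM₁' : a ^ M * (h * h - h) ∈ I.map (algebraMap A (integralClosure A B)) := by
    have : a ^ M * (h * h - h) = a ^ (M₂ + 1) * (a ^ M₁ * (h * h - h)) := by
      rw [hM]; ring
    rw [this]
    exact Ideal.mul_mem_left _ _ hM₁
  have hM₂' : a ^ M * (k * h) ∈ I.map (algebraMap A (integralClosure A B)) := by
    have : a ^ M * (k * h) = a ^ (M₁ + 1) * (a ^ M₂ * (k * h)) := by
      rw [hM]; ring
    rw [this]
    exact Ideal.mul_mem_left _ _ hM₂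
  obtain ⟨α, hα⟩ : ∃ α : integralClosure A B, 1 - a ^ M = k * α := by
    have h1 := sub_dvd_pow_sub_pow (a + k) a M
    rw [add_sub_cancel_left, hak', one_pow] at h1
    exact h1
  let g : integralClosure A B := a ^ M * h
  refine ⟨g, ?_, ?_, ?_⟩
  · -- idempotent mod `I B'`
    show _ * _ = _
    rw [← map_mul, Ideal.Quotient.eq]
    have hid : g * g - g = a ^ M * (a ^ M * (h * h - h)) - α * (a ^ M * (k * h)) := by
      show a ^ M * h * (a ^ M * h) - a ^ M * h = _
      linear_combination (-(a ^ M * h)) * hα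
    rw [hid]
    exact Ideal.sub_mem _ (Ideal.mul_mem_left _ _ hM₁') (Ideal.mul_mem_left _ _ hM₂')
  · show mkJ ((a : B) ^ M * (h : B)) = e
    rw [map_mul, map_pow, hhe, hapow]
  · constructor
    · exact localizationAlgebra_injective _ _ Subtype.val_injective
    · intro y
      obtain ⟨x, ⟨s, hs⟩, rfl⟩ :=
        IsLocalization.exists_mk'_eq (Algebra.algebraMapSubmonoid B (Submonoid.powers g)) y
      obtain ⟨s', ⟨m, rfl⟩, rfl⟩ := hs
      obtain ⟨n, hn'⟩ := hpow' x
      have hgx : (g : B) ^ n * x ∈ integralClosure A B := by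
        have h1 : (g : B) ^ n * x =
            ((h ^ n * a ^ ((M₁ + M₂) * n) : integralClosure A B) : B) * ((a : B) ^ n * x) := by
          show ((a : B) ^ M * (h : B)) ^ n * x = ((h : B) ^ n * (a : B) ^ ((M₁ + M₂) * n)) * _
          rw [hM, mul_pow, ← pow_mul]
          ring
        rw [h1]
        exact Subalgebra.mul_mem _ (Subtype.property _) hn'
      refine ⟨IsLocalization.mk' _ (⟨_, hgx⟩ : integralClosure A B)
        (⟨g ^ (n + m), n + m, rfl⟩ : Submonoid.powers g), ?_⟩
      rw [localizationAlgebraMap_def, IsLocalization.map_mk']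
      apply IsLocalization.mk'_eq_of_eq
      show (g : B) ^ (n + m) * x = (g : B) ^ m * ((g : B) ^ n * x)
      ring

end Groth.Agent.Lib.Helper4.IntClosIdem
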