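import Mathlib

namespace Groth.Agent.Lib.Helper4
open KaehlerDifferential TensorProduct

open scoped IntermediateField.algebraAdjoinAdjoin in
theorem formallyEtale_aeval_of_isSeparable {k F ι : Type*} [Field k] [Field F] [Algebra k F]
    {x : ι → F} (hx : AlgebraicIndependent k x)
    [Algebra.IsSeparable (IntermediateField.adjoin k (Set.range x)) F] :
    (MvPolynomial.aeval x : MvPolynomial ι k →ₐ[k] F).toRingHom.FormallyEtale := by
  have h1 : (hx.aevalEquiv : MvPolynomial ι k ≃+* Algebra.adjoin k (Set.range x)).toRingHom.FormallyEtale := by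
    unfold RingHom.FormallyEtale
    let _ := (hx.aevalEquiv : MvPolynomial ι k ≃+* Algebra.adjoin k (Set.range x)).toRingHom.toAlgebra
    exact Algebra.FormallyEtale.of_equiv
      (AlgEquiv.ofRingEquiv (f := (hx.aevalEquiv : MvPolynomial ι k ≃+* Algebra.adjoin k (Set.range x)))
        (fun x => rfl))
  have h2 : (algebraMap (Algebra.adjoin k (Set.range x))
      (IntermediateField.adjoin k (Set.range x))).FormallyEtale :=
    RingHom.formallyEtale_algebraMap.mpr
      (.of_isLocalization (nonZeroDivisors (Algebra.adjoin k (Set.range x))))
  have h3 : (algebraMap (IntermediateField.adjoin k (Set.range x)) F).FormallyEtale :=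
    RingHom.formallyEtale_algebraMap.mpr (Algebra.FormallyEtale.of_isSeparable _ F)
  have := (h1.comp h2).comp h3
  convert this using 1
  ext i <;> simp

/-- If `x` is algebraically independent over `k` and `F` is separable algebraic over `k(x)`,
then the `d (x i)` form a basis of `Ω[F⁄k]`. -/
theorem exists_basis_D_of_isSeparable {k F ι : Type*} [Field k] [Field F] [Algebra k F]
    {x : ι → F} (hx : AlgebraicIndependent k x)
    [Algebra.IsSeparable (IntermediateField.adjoin k (Set.range x)) F] :
    ∃ b : Module.Basis ι F Ω[F⁄k], ∀ i, b i = D k F (x i) := by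
  let φ := (MvPolynomial.aeval x : MvPolynomial ι k →ₐ[k] F)
  let _ : Algebra (MvPolynomial ι k) F := φ.toRingHom.toAlgebra
  have : IsScalarTower k (MvPolynomial ι k) F := .of_algebraMap_eq' φ.comp_algebraMap.symm
  have : Algebra.FormallyEtale (MvPolynomial ι k) F := formallyEtale_aeval_of_isSeparable hx
  let e := tensorKaehlerEquivOfFormallyEtale k (MvPolynomial ι k) F
  let b := ((mvPolynomialBasis k ι).baseChange F).map e
  refine ⟨b, fun i => ?_⟩
  have : algebraMap (MvPolynomial ι k) F (MvPolynomial.X i) = x i := by
    change φ (MvPolynomial.X i) = x i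
    simp [φ]
  simp [b, e, tensorKaehlerEquivOfFormallyEtale_apply, mapBaseChange_tmul, this]

/-- If the `d (x i)` span `Ω[F⁄k]` and `F` is essentially of finite type over `k`,
then `F` is separable over `k(x)`. -/
theorem isSeparable_of_span_D_eq_top {k F ι : Type*} [Field k] [Field F] [Algebra k F]
    [Algebra.EssFiniteType k F] (x : ι → F)
    (h : Submodule.span F (Set.range fun i : ι => D k F (x i)) = ⊤) :
    Algebra.IsSeparable (IntermediateField.adjoin k (Set.range x)) F := by
  set E := IntermediateField.adjoin k (Set.range x)
  have : Algebra.EssFiniteType E F := Algebra.EssFiniteType.of_comp k E F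
  have : Algebra.FormallyUnramified E F := by
    constructor
    have hsurj := KaehlerDifferential.map_surjective k E F
    have : ∀ y : Ω[F⁄k], KaehlerDifferential.map k E F F y = 0 := by
      intro y
      have hy : y ∈ Submodule.span F (Set.range fun i : ι => D k F (x i)) := by rw [h]; trivial
      induction hy using Submodule.span_induction with
      | mem y hy =>
        obtain ⟨i, rfl⟩ := hy
        rw [KaehlerDifferential.map_D]
        have : x i = algebraMap E F ⟨x i, IntermediateField.subset_adjoin _ _ ⟨i, rfl⟩⟩ := rfl
        rw [this, Algebra.algebraMap_self, RingHom.id_apply]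
        exact (D E F).map_algebraMap _
      | zero => simp
      | add a b _ _ ha hb => rw [map_add, ha, hb, add_zero]
      | smul a b _ hb => rw [map_smul, hb, smul_zero]
    refine ⟨fun a b => ?_⟩
    obtain ⟨a', rfl⟩ := hsurj a
    obtain ⟨b', rfl⟩ := hsurj b
    rw [this, this]
  exact Algebra.FormallyUnramified.isSeparable E F

end Groth.Agent.Lib.Helper4
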