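import Mathlib
import Groth.Prelude.Def_ProEtW
import Groth.Agent.Lib.Helper4.LocSec4

/-!
# Functoriality of `Sec S`
-/

set_option autoImplicit false
set_option linter.style.haveILetI false
set_option linter.unusedSectionVars false
universe u

namespace Groth.Agent.Lib.Helper4.LocSec

open Topology

section pull

variable {A B : Type u} [CommRing A] [CommRing B] (ψ : A →+* B)
variable {T T' : Type u} [TopologicalSpace T] [TopologicalSpace T']
variable {S : T → Submonoid A} {S' : T' → Submonoid B}
variable (τ : C(T', T)) (hτ : ∀ t', S (τ t') ≤ (S' t').comap ψ)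

/-- pointwise pullback of a section -/
noncomputable def pullFun (s : Sec S) : ∀ t', Localization (S' t') :=
  fun t' => IsLocalization.map (Localization (S' t')) ψ (hτ t') (s.1 (τ t'))

theorem isLocFrac_pullFun (s : Sec S) : IsLocFrac S' (pullFun ψ τ hτ s) := by
  intro t'₀
  obtain ⟨N, hN, htN, a, f, h⟩ := s.2 (τ t'₀)
  refine ⟨τ ⁻¹' N, hN.preimage τ.continuous, htN, ψ a, ψ f, fun t' ht' => ?_⟩
  obtain ⟨h1, h2⟩ := h (τ t') ht'
  refine ⟨hτ t' h1, ?_⟩
  have h3 := congrArg (IsLocalization.map (Localization (S' t')) ψ (hτ t')) h2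
  rw [map_mul, IsLocalization.map_eq, IsLocalization.map_eq] at h3
  exact h3

/-- pullback of sections along `τ`, over `ψ` -/
noncomputable def pull : Sec S →+* Sec S' where
  toFun s := ⟨pullFun ψ τ hτ s, isLocFrac_pullFun ψ τ hτ s⟩
  map_one' := by
    apply Sec.ext
    intro t'
    change IsLocalization.map (Localization (S' t')) ψ (hτ t') ((1 : Sec S).1 (τ t')) = 1
    rw [one_apply, map_one]
  map_mul' := by
    intro s s'
    apply Sec.ext
    intro t'
    change IsLocalization.map (Localization (S' t')) ψ (hτ t') ((s * s').1 (τ t')) =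
      IsLocalization.map (Localization (S' t')) ψ (hτ t') (s.1 (τ t')) *
      IsLocalization.map (Localization (S' t')) ψ (hτ t') (s'.1 (τ t'))
    rw [mul_apply, map_mul]
  map_zero' := by
    apply Sec.ext
    intro t'
    change IsLocalization.map (Localization (S' t')) ψ (hτ t') ((0 : Sec S).1 (τ t')) = 0
    rw [zero_apply, map_zero]
  map_add' := by
    intro s s'
    apply Sec.ext
    intro t'
    change IsLocalization.map (Localization (S' t')) ψ (hτ t') ((s + s').1 (τ t')) =
      IsLocalization.map (Localization (S' t')) ψ (hτ t') (s.1 (τ t')) +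
      IsLocalization.map (Localization (S' t')) ψ (hτ t') (s'.1 (τ t'))
    rw [add_apply, map_add]

theorem pull_apply (s : Sec S) (t' : T') :
    (pull ψ τ hτ s).1 t' = IsLocalization.map (Localization (S' t')) ψ (hτ t') (s.1 (τ t')) := rfl

theorem pull_algebraMap (a : A) :
    pull ψ τ hτ (algebraMap A (Sec S) a) = algebraMap B (Sec S') (ψ a) := by
  apply Sec.ext
  intro t'
  rw [pull_apply, algebraMap_apply, algebraMap_apply, IsLocalization.map_eq]

end pull

section pullP

variable {A B : Type u} [CommRing A] [CommRing B] (ψ : A →+* B)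
variable {T T' : Type u} [TopologicalSpace T] [TopologicalSpace T']
variable [CompactSpace T] [T2Space T] [TotallyDisconnectedSpace T]
variable [CompactSpace T'] [T2Space T'] [TotallyDisconnectedSpace T']
variable (P : T → PrimeSpectrum A) (P' : T' → PrimeSpectrum B)
variable (τ : C(T', T)) (hcomp : ∀ t', PrimeSpectrum.comap ψ (P' t') = P (τ t'))

include hcomp in
theorem hτ_of_hcomp : ∀ t', Sp P (τ t') ≤ (Sp P' t').comap ψ := by
  intro t' f hf
  change ψ f ∉ (P' t').asIdeal
  intro h
  apply hf
  change f ∈ (P (τ t')).asIdeal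
  rw [← hcomp t']
  exact h

theorem comap_pull_mpt (t' : T') :
    PrimeSpectrum.comap (pull ψ τ (hτ_of_hcomp ψ P P' τ hcomp)) (mpt P' t') = mpt P (τ t') := by
  apply PrimeSpectrum.ext
  ext s
  change (pull ψ τ (hτ_of_hcomp ψ P P' τ hcomp) s).1 t' ∈
    IsLocalRing.maximalIdeal (Localization (Sp P' t')) ↔
    s.1 (τ t') ∈ IsLocalRing.maximalIdeal (Localization (Sp P (τ t')))
  rw [pull_apply]
  have hIJ : (P (τ t')).asIdeal = (P' t').asIdeal.comap ψ := by
    rw [← hcomp t']
    rfl
  have hloc : IsLocalHom (Localization.localRingHom (P (τ t')).asIdeal (P' t').asIdeal ψ hIJ) :=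
    inferInstance
  have heq : (IsLocalization.map (Localization (Sp P' t')) ψ
      (hτ_of_hcomp ψ P P' τ hcomp t')) (s.1 (τ t')) =
      Localization.localRingHom (P (τ t')).asIdeal (P' t').asIdeal ψ hIJ (s.1 (τ t')) := rfl
  rw [heq]
  constructor
  · intro h
    by_contra hs
    have hu : IsUnit (s.1 (τ t')) := by
      by_contra hnu
      exact hs ((IsLocalRing.mem_maximalIdeal _).mpr hnu)
    have hu' := hu.map (Localization.localRingHom (P (τ t')).asIdeal (P' t').asIdeal ψ hIJ)
    exact (IsLocalRing.mem_maximalIdeal _).mp h hu'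
  · intro h
    rw [IsLocalRing.mem_maximalIdeal] at h ⊢
    intro hu
    exact h (hloc.map_nonunit _ hu)

end pullP

end Groth.Agent.Lib.Helper4.LocSec
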