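import Mathlib
import Groth.Prelude.Def_ProEtW
import Groth.Agent.Lib.Helper4.LocSec12
import Groth.Agent.Lib.Helper4.LocSec13
import Groth.Agent.Lib.Helper4.ConsTop

/-!
# The universal property of the w-localization
-/

set_option autoImplicit false
set_option linter.style.haveILetI false
set_option linter.unusedSectionVars false
universe u

namespace Groth.Agent.Lib.Helper4.LocSec

open Topology

section uniq

variable {A : Type u} [CommRing A] {T : Type u} [TopologicalSpace T]
variable [CompactSpace T] [T2Space T] [TotallyDisconnectedSpace T]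
variable (P : T → PrimeSpectrum A)
variable {B : Type u} [CommRing B] [Algebra A B]

omit [CompactSpace T] [T2Space T] [TotallyDisconnectedSpace T] in
theorem frac_identity {S : T → Submonoid A} (s : Sec S) (N : Set T) (hN : IsClopen N) (a f : A)
    (h : ∀ t ∈ N, f ∈ S t ∧ algebraMap A (Localization (S t)) f * s.1 t =
      algebraMap A (Localization (S t)) a) :
    algebraMap A (Sec S) f * s * ind N hN = algebraMap A (Sec S) a * ind N hN := by
  apply Sec.ext
  intro t
  rw [mul_apply, mul_apply, mul_apply, algebraMap_apply, algebraMap_apply]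
  by_cases ht : t ∈ N
  · rw [(h t ht).2]
  · rw [ind_apply_notMem hN ht, mul_zero, mul_zero]

theorem loc_eq (φ : Sec (Sp P) →ₐ[A] B) (x : PrimeSpectrum B) (t : T)
    (hx : PrimeSpectrum.comap φ.toRingHom x = mpt P t)
    (s : Sec (Sp P)) (N : Set T) (hN : IsClopen N) (htN : t ∈ N) (a f : A)
    (h : ∀ t ∈ N, f ∈ Sp P t ∧ algebraMap A (Localization (Sp P t)) f * s.1 t =
      algebraMap A (Localization (Sp P t)) a) :
    IsUnit (algebraMap B (Localization.AtPrime x.asIdeal) (algebraMap A B f)) ∧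
    algebraMap B (Localization.AtPrime x.asIdeal) (algebraMap A B f) *
      algebraMap B (Localization.AtPrime x.asIdeal) (φ s) =
      algebraMap B (Localization.AtPrime x.asIdeal) (algebraMap A B a) := by
  have hid := frac_identity s N hN a f h
  have hid2 := congrArg φ hid
  rw [map_mul, map_mul, map_mul, AlgHom.commutes, AlgHom.commutes] at hid2
  have hmem : ∀ y : Sec (Sp P), φ y ∈ x.asIdeal ↔ y ∈ (mpt P t).asIdeal := by
    intro y
    rw [← hx]
    rfl
  have hε : φ (ind N hN) ∉ x.asIdeal := by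
    rw [hmem, mem_mpt_iff, ind_apply_mem hN htN]
    exact fun h1 => (IsLocalRing.maximalIdeal.isMaximal _).ne_top ((Ideal.eq_top_iff_one _).mpr h1)
  have hεu : IsUnit (algebraMap B (Localization.AtPrime x.asIdeal) (φ (ind N hN))) :=
    (IsLocalization.AtPrime.isUnit_to_map_iff _ x.asIdeal _).mpr hε
  have hεε : ind (S := Sp P) N hN * ind N hN = ind N hN := by
    rw [ind_mul_ind]
    exact ind_congr _ _ (Set.inter_self N)
  have hε1 : algebraMap B (Localization.AtPrime x.asIdeal) (φ (ind N hN)) = 1 := by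
    apply hεu.mul_left_cancel
    rw [mul_one, ← map_mul, ← map_mul, hεε]
  have hf : algebraMap A B f ∉ x.asIdeal := by
    have h1 : φ (algebraMap A (Sec (Sp P)) f) ∉ x.asIdeal := by
      rw [hmem, mem_mpt_iff, algebraMap_apply]
      intro h2
      exact (IsLocalRing.mem_maximalIdeal _).mp h2 (isUnit_of_mem (S := Sp P) (h t htN).1)
    rwa [AlgHom.commutes] at h1
  refine ⟨(IsLocalization.AtPrime.isUnit_to_map_iff _ x.asIdeal _).mpr hf, ?_⟩
  have hid3 := congrArg (algebraMap B (Localization.AtPrime x.asIdeal)) hid2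
  rw [map_mul, map_mul, map_mul, hε1, mul_one, mul_one] at hid3
  exact hid3

variable (hP : ∀ a : A, IsClopen {t | a ∈ (P t).asIdeal})

include hP in
theorem algHom_ext_of_wLocal (hPinj : Function.Injective P)
    (φ₁ φ₂ : Sec (Sp P) →ₐ[A] B)
    (h₁ : ∀ x : PrimeSpectrum B, IsClosed ({x} : Set (PrimeSpectrum B)) →
      IsClosed ({PrimeSpectrum.comap φ₁.toRingHom x} : Set (PrimeSpectrum (Sec (Sp P)))))
    (h₂ : ∀ x : PrimeSpectrum B, IsClosed ({x} : Set (PrimeSpectrum B)) →
      IsClosed ({PrimeSpectrum.comap φ₂.toRingHom x} : Set (PrimeSpectrum (Sec (Sp P))))) :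
    φ₁ = φ₂ := by
  apply AlgHom.ext
  intro s
  rw [← sub_eq_zero]
  apply eq_zero_of_localization
  intro 𝔪 hmax
  let x : PrimeSpectrum B := ⟨𝔪, hmax.isPrime⟩
  have hxc : IsClosed ({x} : Set (PrimeSpectrum B)) :=
    (PrimeSpectrum.isClosed_singleton_iff_isMaximal x).mpr hmax
  have hc₁ : PrimeSpectrum.comap φ₁.toRingHom x ∈
      ProEtW.closedPoints (PrimeSpectrum (Sec (Sp P))) := h₁ x hxc
  have hc₂ : PrimeSpectrum.comap φ₂.toRingHom x ∈
      ProEtW.closedPoints (PrimeSpectrum (Sec (Sp P))) := h₂ x hxc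
  rw [closedPoints_eq_range P hP] at hc₁ hc₂
  obtain ⟨t₁, ht₁⟩ := hc₁
  obtain ⟨t₂, ht₂⟩ := hc₂
  have hcomm : ∀ φ : Sec (Sp P) →ₐ[A] B,
      PrimeSpectrum.comap (algebraMap A (Sec (Sp P))) (PrimeSpectrum.comap φ.toRingHom x) =
      PrimeSpectrum.comap (algebraMap A B) x := by
    intro φ
    apply PrimeSpectrum.ext
    ext a
    change φ (algebraMap A (Sec (Sp P)) a) ∈ x.asIdeal ↔ algebraMap A B a ∈ x.asIdeal
    rw [AlgHom.commutes]
  have hP₁ : P t₁ = PrimeSpectrum.comap (algebraMap A B) x := by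
    rw [← hcomm φ₁, ← ht₁, comap_mpt]
  have hP₂ : P t₂ = PrimeSpectrum.comap (algebraMap A B) x := by
    rw [← hcomm φ₂, ← ht₂, comap_mpt]
  have ht : t₁ = t₂ := hPinj (hP₁.trans hP₂.symm)
  subst ht
  obtain ⟨N, hN, htN, a, f, h⟩ := s.2 t₁
  obtain ⟨hu, e₁⟩ := loc_eq P φ₁ x t₁ ht₁.symm s N hN htN a f h
  obtain ⟨-, e₂⟩ := loc_eq P φ₂ x t₁ ht₂.symm s N hN htN a f h
  change algebraMap B (Localization.AtPrime x.asIdeal) (φ₁ s - φ₂ s) = 0
  rw [map_sub, sub_eq_zero]
  apply hu.mul_left_cancel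
  rw [e₁, e₂]

end uniq

section exist

variable {A : Type u} [CommRing A] {B : Type u} [CommRing B] [Algebra A B]

/-- the map from closed points of `Spec B` to the constructible spectrum of `A` -/
def tauFun (t' : TB B) : ConsTop.Cons A :=
  WithTopology.toTopology _ (PrimeSpectrum.comap (algebraMap A B) t'.1)

theorem continuous_tauFun [T2Space (TB B)] (hB : ProEtW.IsWLocal (PrimeSpectrum B)) :
    Continuous (tauFun (A := A) (B := B)) := by
  obtain ⟨hs, h0, hu⟩ := hB
  let f : TB B → PrimeSpectrum A := fun t' => PrimeSpectrum.comap (algebraMap A B) t'.1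
  have hf : Continuous f := (PrimeSpectrum.continuous_comap _).comp continuous_subtype_val
  have hc : ∀ s : Set (PrimeSpectrum A), IsOpen s → IsCompact s → IsCompact (f ⁻¹' s) := by
    intro s hso hsc
    have h1 : IsCompact (PrimeSpectrum.comap (algebraMap A B) ⁻¹' s) :=
      (WLocMisc.isSpectralMap_comap (algebraMap A B)).isCompact_preimage_of_isOpen hso hsc
    have : f ⁻¹' s = (Subtype.val : TB B → PrimeSpectrum B) ⁻¹'
        (PrimeSpectrum.comap (algebraMap A B) ⁻¹' s) := rfl
    rw [this]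
    apply Topology.IsInducing.isCompact_preimage Topology.IsInducing.subtypeVal
    · rw [Subtype.range_coe]
      exact h0
    · exact h1
  have h0' : Continuous[_, constructibleTopology (PrimeSpectrum A)] f := by
    apply continuous_generateFrom_iff.mpr
    rintro s (⟨ho, hc'⟩ | ⟨hcl, hc'⟩)
    · exact ho.preimage hf
    · have h2 := (hc sᶜ hcl.isOpen_compl hc').isClosed
      rw [Set.preimage_compl, isClosed_compl_iff] at h2
      exact h2
  exact @Continuous.comp (TB B) (PrimeSpectrum A) (ConsTop.Cons A) _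
    (constructibleTopology (PrimeSpectrum A)) _ _ _
    (WithTopology.continuous_toTopology _) h0'

variable [CompactSpace (TB B)] [T2Space (TB B)] [TotallyDisconnectedSpace (TB B)]

theorem exists_wLocal_algHom (hB : ProEtW.IsWLocal (PrimeSpectrum B)) :
    ∃ φ : Sec (Sp (ConsTop.toSpec (A := A))) →ₐ[A] B,
      ProEtW.IsWLocalMap (PrimeSpectrum.comap φ.toRingHom) := by
  let τ : C(TB B, ConsTop.Cons A) := ⟨tauFun, continuous_tauFun hB⟩
  have hcomp : ∀ t', PrimeSpectrum.comap (algebraMap A B) (PB B t') =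
      ConsTop.toSpec (τ t') := fun _ => rfl
  have hPA : ∀ a : A, IsClopen {t | a ∈ (ConsTop.toSpec (A := A) t).asIdeal} :=
    ConsTop.isClopen_zeroLocus
  let Ψ : Sec (Sp (ConsTop.toSpec (A := A))) →+* Sec (Sp (PB B)) :=
    pull (algebraMap A B) τ (hτ_of_hcomp (algebraMap A B) ConsTop.toSpec (PB B) τ hcomp)
  have hbij := bijective_algebraMap_sec hB
  let e : B ≃+* Sec (Sp (PB B)) := RingEquiv.ofBijective (algebraMap B (Sec (Sp (PB B)))) hbij
  have he : ∀ b, e b = algebraMap B (Sec (Sp (PB B))) b := fun _ => rfl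
  let φ₀ : Sec (Sp (ConsTop.toSpec (A := A))) →+* B := e.symm.toRingHom.comp Ψ
  have hcomm : ∀ a : A, φ₀ (algebraMap A _ a) = algebraMap A B a := by
    intro a
    change e.symm (Ψ (algebraMap A _ a)) = _
    rw [RingEquiv.symm_apply_eq, he]
    exact pull_algebraMap _ _ _ a
  let φ : Sec (Sp (ConsTop.toSpec (A := A))) →ₐ[A] B := { φ₀ with commutes' := hcomm }
  refine ⟨φ, WLocMisc.isSpectralMap_comap _, ?_⟩
  intro x hx
  let t' : TB B := ⟨x, hx⟩
  have h1 : PrimeSpectrum.comap e.symm.toRingHom x = mpt (PB B) t' := by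
    have h2 : PrimeSpectrum.comap (algebraMap B (Sec (Sp (PB B)))) (mpt (PB B) t') = x :=
      comap_mpt (PB B) t'
    rw [← h2]
    apply PrimeSpectrum.ext
    ext y
    change algebraMap B (Sec (Sp (PB B))) (e.symm y) ∈ (mpt (PB B) t').asIdeal ↔ _
    rw [← he, RingEquiv.apply_symm_apply]
  have h3 : PrimeSpectrum.comap φ.toRingHom x =
      PrimeSpectrum.comap Ψ (PrimeSpectrum.comap e.symm.toRingHom x) := rfl
  rw [h3, h1]
  have h4 := comap_pull_mpt (algebraMap A B) ConsTop.toSpec (PB B) τ hcomp t'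
  change PrimeSpectrum.comap Ψ (mpt (PB B) t') = _ at h4
  rw [h4]
  have h5 : mpt ConsTop.toSpec (τ t') ∈
      ProEtW.closedPoints (PrimeSpectrum (Sec (Sp (ConsTop.toSpec (A := A))))) := by
    rw [closedPoints_eq_range _ hPA]
    exact ⟨_, rfl⟩
  exact h5

end exist

end Groth.Agent.Lib.Helper4.LocSec
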