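import Mathlib
import Groth.Agent.Lib.Helper4.NC8

/-!
# Abelian-group versions of NC1/NC8 (helper4)
-/

set_option linter.style.haveILetI false
set_option linter.unusedSectionVars false
set_option autoImplicit false
open CategoryTheory CategoryTheory.Limits AlgebraicGeometry Opposite
universe w v' u' u

namespace Groth.Agent.Lib.Helper4.NCAb

open Groth.Agent.Lib.Helper4.NC (NE bot_mem_of_not_NE exists_fiber_of_NE)

section site
variable {C : Type u'} [Category.{v'} C] (J : GrothendieckTopology C)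
variable [HasWeakSheafify J (AddCommGrpCat.{w})] [J.WEqualsLocallyBijective (AddCommGrpCat.{w})]
  [J.HasSheafCompose (forget (AddCommGrpCat.{w}))]

/-- The constant presheaf. -/
abbrev cstP (M : AddCommGrpCat.{w}) : Cᵒᵖ ⥤ AddCommGrpCat.{w} := (Functor.const Cᵒᵖ).obj M

/-- The constant sheaf. -/
noncomputable abbrev KK (M : AddCommGrpCat.{w}) : Sheaf J (AddCommGrpCat.{w}) :=
  (constantSheaf J (AddCommGrpCat.{w})).obj M

/-- Constant sections of the constant sheaf. -/
noncomputable def cst (M : AddCommGrpCat.{w}) (W : C) : M ⟶ (KK J M).obj.obj (op W) :=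
  (toSheafify J (cstP M)).app (op W)

lemma cst_map (M : AddCommGrpCat.{w}) {W W' : C} (f : W' ⟶ W) (m : M) :
    ((KK J M).obj.map f.op).hom ((cst J M W).hom m) = (cst J M W').hom m := by
  have h := (toSheafify J (cstP M)).naturality f.op
  have h2 := congrArg (fun φ : (cstP M).obj (op W) ⟶ (sheafify J (cstP M)).obj (op W') =>
    φ.hom m) h
  exact h2.symm

/-- Sections of a constant sheaf are locally constant. -/
lemma cst_locally (M : AddCommGrpCat.{w}) (W : C) (t : (KK J M).obj.obj (op W)) :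
    ∃ S ∈ J W, ∀ ⦃W' : C⦄ (f : W' ⟶ W), S f →
      ∃ m : M, (cst J M W').hom m = ((KK J M).obj.map f.op).hom t := by
  refine ⟨Presheaf.imageSieve (toSheafify J (cstP M)) t,
    Presheaf.imageSieve_mem J (toSheafify J (cstP M)) t, ?_⟩
  intro W' f hf
  obtain ⟨m, hm⟩ := hf
  exact ⟨m, hm⟩

/-- Two constants with the same constant section are equal, locally. -/
lemma cst_eq_locally (M : AddCommGrpCat.{w}) (W : C) (m m' : M)
    (h : (cst J M W).hom m = (cst J M W).hom m') :
    ∃ S ∈ J W, ∀ ⦃W' : C⦄ (f : W' ⟶ W), S f → m = m' := by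
  refine ⟨Presheaf.equalizerSieve (F := cstP M) (X := op W) m m',
    Presheaf.equalizerSieve_mem J (toSheafify J (cstP M)) m m' h, ?_⟩
  intro W' f hf
  exact hf

/-- Monomorphisms of sheaves of modules are injective on sections. -/
lemma injective_app_of_mono {H K : Sheaf J (AddCommGrpCat.{w})} (b : H ⟶ K) [Mono b] (W : C) :
    Function.Injective (b.hom.app (op W)).hom := by
  haveI : Mono b.hom := (sheafToPresheaf J (AddCommGrpCat.{w})).map_mono b
  haveI : Mono (b.hom.app (op W)) := inferInstance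
  exact (AddCommGrpCat.mono_iff_injective _).1 inferInstance

/-- Sections of sheaves over an object covered by the empty sieve are unique. -/
lemma eq_of_bot_mem (H : Sheaf J (AddCommGrpCat.{w})) {W : C} (hW : ⊥ ∈ J W)
    (x y : H.obj.obj (op W)) : x = y :=
  (Sheaf.isSeparated H) W ⊥ hW x y (fun _ _ hf => hf.elim)


end site

variable {X : Scheme.{u}} {Ω : Type u} [Field Ω] [IsSepClosed Ω]
  (ξ : Spec (CommRingCat.of Ω) ⟶ X)

instance forgetPresFilt : PreservesFilteredColimitsOfSize.{u, u} (forget (AddCommGrpCat.{u + 1})) :=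
  preservesFilteredColimitsOfSize_shrink.{u, u + 1, u, u + 1} _

/-- The constant sheaf as an object of `EtModW.Mod`. -/
noncomputable abbrev KX (X : Scheme.{u}) (N : AddCommGrpCat.{u + 1}) : EtCoh.Ab X :=
  (constantSheaf X.smallEtaleTopology (AddCommGrpCat.{u + 1})).obj N

/-- The unique point of the fibre over the terminal object. -/
noncomputable def topPt : (Scheme.pointSmallEtale ξ).fiber.obj (EtCoh.top X) :=
  Over.homMk ξ (by simp)

lemma fiber_top_eq (x y : (Scheme.pointSmallEtale ξ).fiber.obj (EtCoh.top X)) : x = y := by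
  haveI := (Scheme.pointSmallEtale ξ).uniqueFiberObj _ (EtCore.topIsTerminal X)
  exact Subsingleton.elim x y

/-- The germ of a section at a lift of the geometric point. -/
noncomputable def germ (G : EtCoh.Ab X) (W : X.Etale)
    (x : (Scheme.pointSmallEtale ξ).fiber.obj W) (s : G.obj.obj (op W)) :
    (EtCoh.stalk ξ).obj G :=
  ((Scheme.pointSmallEtale ξ).toPresheafFiber W x G.obj).hom s

lemma germ_map (G : EtCoh.Ab X) {W W' : X.Etale} (f : W' ⟶ W)
    (x : (Scheme.pointSmallEtale ξ).fiber.obj W') (s : G.obj.obj (op W)) :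
    germ ξ G W' x ((G.obj.map f.op).hom s) =
      germ ξ G W ((Scheme.pointSmallEtale ξ).fiber.map f x) s :=
  congrArg (fun φ : G.obj.obj (op W) ⟶ (Scheme.pointSmallEtale ξ).presheafFiber.obj G.obj =>
    φ.hom s) ((Scheme.pointSmallEtale ξ).toPresheafFiber_w f x G.obj)

lemma stalk_map_germ {G G' : EtCoh.Ab X} (φ : G ⟶ G') (W : X.Etale)
    (x : (Scheme.pointSmallEtale ξ).fiber.obj W) (s : G.obj.obj (op W)) :
    ((EtCoh.stalk ξ).map φ).hom (germ ξ G W x s) =
      germ ξ G' W x ((φ.hom.app (op W)).hom s) :=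
  congrArg (fun ψ : G.obj.obj (op W) ⟶ (Scheme.pointSmallEtale ξ).presheafFiber.obj G'.obj =>
    ψ.hom s) ((Scheme.pointSmallEtale ξ).toPresheafFiber_naturality φ.hom W x)

lemma exists_germ (G : EtCoh.Ab X) (τ : (EtCoh.stalk ξ).obj G) :
    ∃ (W : X.Etale) (x : (Scheme.pointSmallEtale ξ).fiber.obj W) (s : G.obj.obj (op W)),
      germ ξ G W x s = τ :=
  (Scheme.pointSmallEtale ξ).toPresheafFiber_jointly_surjective (P := G.obj) τ

lemma germ_eq_iff (G : EtCoh.Ab X) (W : X.Etale)
    (x : (Scheme.pointSmallEtale ξ).fiber.obj W) (s s' : G.obj.obj (op W)) :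
    germ ξ G W x s = germ ξ G W x s' ↔
      ∃ (Y : X.Etale) (f : Y ⟶ W) (y : (Scheme.pointSmallEtale ξ).fiber.obj Y),
        (Scheme.pointSmallEtale ξ).fiber.map f y = x ∧
          (G.obj.map f.op).hom s = (G.obj.map f.op).hom s' :=
  (Scheme.pointSmallEtale ξ).toPresheafFiber_eq_iff' (P := G.obj) W x s s'

/-- The germ of a constant. -/
noncomputable def gcst (N : AddCommGrpCat.{u + 1}) (n : N) :
    (EtCoh.stalk ξ).obj (KX X N) :=
  germ ξ (KX X N) (EtCoh.top X) (topPt ξ)
    ((cst X.smallEtaleTopology N (EtCoh.top X)).hom n)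

lemma germ_cst (N : AddCommGrpCat.{u + 1}) (W : X.Etale)
    (x : (Scheme.pointSmallEtale ξ).fiber.obj W) (n : N) :
    germ ξ (KX X N) W x ((cst X.smallEtaleTopology N W).hom n) =
      gcst ξ N n := by
  let t : W ⟶ EtCoh.top X := (EtCore.topIsTerminal X).from W
  rw [← cst_map X.smallEtaleTopology N t n, germ_map]
  unfold gcst
  rw [fiber_top_eq ξ ((Scheme.pointSmallEtale ξ).fiber.map t x) (topPt ξ)]

lemma exists_gcst (N : AddCommGrpCat.{u + 1})
    (τ : (EtCoh.stalk ξ).obj (KX X N)) : ∃ n : N, τ = gcst ξ N n := by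
  obtain ⟨W, x, s, rfl⟩ := exists_germ ξ _ τ
  obtain ⟨S, hS, hSc⟩ := cst_locally X.smallEtaleTopology N W s
  obtain ⟨W', f, hf, x', rfl⟩ := (Scheme.pointSmallEtale ξ).jointly_surjective S hS x
  obtain ⟨n, hn⟩ := hSc f hf
  refine ⟨n, ?_⟩
  rw [← germ_map, ← hn, germ_cst]

lemma gcst_injective (N : AddCommGrpCat.{u + 1}) (n n' : N)
    (h : gcst ξ N n = gcst ξ N n') : n = n' := by
  unfold gcst at h
  rw [germ_eq_iff] at h
  obtain ⟨Y, f, y, -, hy⟩ := h
  rw [cst_map, cst_map] at hy
  obtain ⟨S, hS, hSeq⟩ := cst_eq_locally X.smallEtaleTopology N Y n n' hy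
  obtain ⟨Y', g, hg, -, -⟩ := (Scheme.pointSmallEtale ξ).jointly_surjective S hS y
  exact hSeq g hg

lemma constMap_cst {N N' : AddCommGrpCat.{u + 1}} (f : N ⟶ N') (W : X.Etale) (n : N) :
    (((constantSheaf X.smallEtaleTopology (AddCommGrpCat.{u + 1})).map f).hom.app (op W)).hom
      ((cst X.smallEtaleTopology N W).hom n) = (cst X.smallEtaleTopology N' W).hom (f.hom n) := by
  have h := toSheafify_naturality X.smallEtaleTopology
    ((Functor.const (X.Etale)ᵒᵖ).map f)
  have h2 := congrArg (fun φ : cstP N ⟶ sheafify X.smallEtaleTopology (cstP N') =>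
    (φ.app (op W)).hom n) h
  exact h2.symm

lemma stalk_constMap_gcst {N N' : AddCommGrpCat.{u + 1}} (f : N ⟶ N') (n : N) :
    ((EtCoh.stalk ξ).map
      ((constantSheaf X.smallEtaleTopology (AddCommGrpCat.{u + 1})).map f)).hom (gcst ξ N n) =
      gcst ξ N' (f.hom n) := by
  unfold gcst
  rw [stalk_map_germ, constMap_cst]

theorem isIso_of_sandwich [IrreducibleSpace X] (hξ : ξ.base default = genericPoint ↥X)
    (N' N : AddCommGrpCat.{u + 1}) (f : N' ⟶ N) (G : EtCoh.Ab X)
    (a : KX X N' ⟶ G) (b : G ⟶ KX X N) [Mono a] [Mono b]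
    (hab : a ≫ b = (constantSheaf X.smallEtaleTopology AddCommGrpCat.{u + 1}).map f)
    (hst : IsIso ((EtCoh.stalk ξ).map a)) : IsIso a := by
  haveI : Epi a := by
    rw [← Sheaf.isLocallySurjective_iff_epi' (A := AddCommGrpCat.{u + 1})]
    constructor
    intro W s
    obtain ⟨S, hS, hSc⟩ := cst_locally X.smallEtaleTopology N W
      ((b.hom.app (op W)).hom s)
    refine X.smallEtaleTopology.superset_covering ?_ hS
    intro W' g hg
    obtain ⟨m, hm⟩ := hSc g hg
    have hnat : ((KX X N).obj.map g.op).hom ((b.hom.app (op W)).hom s) =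
        (b.hom.app (op W')).hom ((G.obj.map g.op).hom s) :=
      (congrArg (fun φ : G.obj.obj (op W) ⟶ (KX X N).obj.obj (op W') => φ.hom s)
        (b.hom.naturality g.op)).symm
    rw [hnat] at hm
    by_cases hW' : NE W'
    · obtain ⟨x'⟩ := exists_fiber_of_NE ξ hξ W' hW'
      let σ := germ ξ G W' x' ((G.obj.map g.op).hom s)
      haveI := hst
      obtain ⟨τ, hτ⟩ : ∃ τ, ((EtCoh.stalk ξ).map a).hom τ = σ :=
        ⟨(inv ((EtCoh.stalk ξ).map a)).hom σ, by
          rw [← AddCommGrpCat.comp_apply, IsIso.inv_hom_id]; rfl⟩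
      obtain ⟨m', rfl⟩ := exists_gcst ξ N' τ
      have h1 : ((EtCoh.stalk ξ).map b).hom σ = gcst ξ N m := by
        rw [stalk_map_germ, ← hm, germ_cst]
      have h2 : ((EtCoh.stalk ξ).map b).hom σ = gcst ξ N (f.hom m') := by
        rw [← hτ, ← AddCommGrpCat.comp_apply, ← Functor.map_comp, hab, stalk_constMap_gcst]
      have hmm : m = f.hom m' := gcst_injective ξ _ _ _ (h1.symm.trans h2)
      refine ⟨(cst X.smallEtaleTopology N' W').hom m', ?_⟩
      apply injective_app_of_mono X.smallEtaleTopology b W'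
      rw [← hm, hmm]
      have h3 := constMap_cst (X := X) f W' m'
      rw [← hab] at h3
      exact h3
    · exact ⟨0, eq_of_bot_mem X.smallEtaleTopology G (bot_mem_of_not_NE W' hW') _ _⟩
  exact isIso_of_mono_of_epi a

end Groth.Agent.Lib.Helper4.NCAb
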