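import Mathlib
import Groth.Agent.Lib.Helper4.HC7
import Groth.Agent.Lib.Helper12.Fin8

/-!
# Finiteness of the relative normalization for a proper morphism to a locally Noetherian scheme
-/

set_option autoImplicit false
set_option linter.style.haveILetI false
set_option linter.unusedSectionVars false
universe u

namespace Groth.Agent.Lib.Helper4.NF

open AlgebraicGeometry CategoryTheory Limits TopologicalSpace
open Groth.Agent.Lib.Helper12.H12Fin Groth.Agent.Lib.Helper4.HC

/-- For a proper morphism to a locally Noetherian scheme, sections over the preimage of an affine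
open are a finite module over the sections over that open. -/
theorem finite_app_of_isProper {X S : Scheme.{u}} (f : X ⟶ S) [IsProper f] [IsLocallyNoetherian S]
    {V : S.Opens} (hV : IsAffineOpen V) : (f.app V).hom.Finite := by
  haveI : IsNoetherianRing ↑Γ(S, V) := IsLocallyNoetherian.component_noetherian ⟨V, hV⟩
  haveI := isProper_locG f hV
  have h := finite_toGlobal_of_isProper (↑Γ(S, V)) (locG f hV)
  have h2 : (f.app V).hom = ((f ⁻¹ᵁ V).topIso.hom.hom).comp
      ((locG f hV).appTop.hom.comp
        (Scheme.ΓSpecIso (CommRingCat.of ↑Γ(S, V))).inv.hom) := by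
    ext b
    have hb := toGlobal_locG f hV b
    change (f.app V).hom b = (f ⁻¹ᵁ V).topIso.hom.hom (Coh.toGlobal (locG f hV) b)
    rw [hb]
    have := congrArg (fun m => m.hom ((f.app V).hom b)) (f ⁻¹ᵁ V).topIso.inv_hom_id
    simpa using this.symm
  rw [h2]
  refine RingHom.Finite.comp ?_ h
  exact RingHom.Finite.of_surjective _
    ((ConcreteCategory.isIso_iff_bijective (f ⁻¹ᵁ V).topIso.hom).mp inferInstance).2

theorem isFinite_fromNormalization {X S : Scheme.{u}} (f : X ⟶ S) [IsProper f]
    [IsLocallyNoetherian S] : IsFinite f.fromNormalization := by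
  refine { finite_app := fun V hV => ?_ }
  haveI : IsNoetherianRing ↑Γ(S, V) := IsLocallyNoetherian.component_noetherian ⟨V, hV⟩
  rw [Scheme.Hom.fromNormalization_app f hV]
  letI : Algebra ↑Γ(S, V) ↑Γ(X, f ⁻¹ᵁ V) := (f.app V).hom.toAlgebra
  haveI hfin : Module.Finite ↑Γ(S, V) ↑Γ(X, f ⁻¹ᵁ V) := finite_app_of_isProper f hV
  haveI : IsNoetherian ↑Γ(S, V) ↑Γ(X, f ⁻¹ᵁ V) := isNoetherian_of_isNoetherianRing_of_finite _ _
  have h1 : (CommRingCat.ofHom (algebraMap ↑Γ(S, V)
      (integralClosure ↑Γ(S, V) ↑Γ(X, f ⁻¹ᵁ V)))).hom.Finite := by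
    rw [CommRingCat.hom_ofHom]
    apply RingHom.finite_algebraMap.mpr
    exact Module.Finite.of_injective
      ((integralClosure ↑Γ(S, V) ↑Γ(X, f ⁻¹ᵁ V)).val.toLinearMap) Subtype.val_injective
  rw [CommRingCat.hom_comp]
  refine RingHom.Finite.comp ?_ h1
  exact RingHom.Finite.of_surjective _
    ((ConcreteCategory.isIso_iff_bijective (f.normalizationObjIso hV).inv).mp inferInstance).2

end Groth.Agent.Lib.Helper4.NF
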