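import Mathlib
import Groth.Agent.Lib.Helper4.BrnchCount2

/-!
# The Jacobson radical of `A' ⊗ D` for a separable residue extension
-/

set_option autoImplicit false
set_option linter.unusedSectionVars false
universe u

namespace Groth.Agent.Lib.Helper4.NormSh

open TensorProduct IsLocalRing

/-- The tensor product of a field with a separable algebraic extension is reduced. -/
theorem isReduced_tensor_of_isSeparable (k F L : Type u) [Field k] [Field F] [Field L]
    [Algebra k F] [Algebra k L] [Algebra.IsSeparable k L] : IsReduced (F ⊗[k] L) := by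
  apply IsReduced.tensorProduct_of_flat_of_forall_fg
  intro B hB
  obtain ⟨s, rfl⟩ := hB
  have halg : ∀ x ∈ (s : Set L), IsAlgebraic k x := fun x _ =>
    (Algebra.IsSeparable.isIntegral k x).isAlgebraic
  have h1 := IntermediateField.adjoin_toSubalgebra_of_isAlgebraic halg
  rw [← h1]
  have h2 : Algebra.FormallyUnramified k (IntermediateField.adjoin k (s : Set L)) :=
    Algebra.FormallyUnramified.of_isSeparable k _
  have h3 : Module.Finite k (IntermediateField.adjoin k (s : Set L)) :=
    IntermediateField.finiteDimensional_adjoin (fun x _ => Algebra.IsSeparable.isIntegral k x)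
  show IsReduced (F ⊗[k] (IntermediateField.adjoin k (s : Set L)))
  exact Algebra.FormallyUnramified.isReduced_of_field F
    (F ⊗[k] (IntermediateField.adjoin k (s : Set L)))

section Jac

variable (A A' D : Type u) [CommRing A] [IsLocalRing A] [CommRing A'] [Algebra A A']
  [Algebra.IsIntegral A A'] [CommRing D] [IsLocalRing D] [Algebra A D]
  [IsLocalHom (algebraMap A D)]

/-- The residue field at a maximal ideal of `A'` tensored with the residue field of `D`
is reduced, when the residue extension of `D` over `A` is separable. -/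
theorem isReduced_tensor_quotient [Algebra.IsSeparable (ResidueField A) (ResidueField D)]
    (m' : Ideal A') [hm' : m'.IsMaximal] :
    IsReduced ((A' ⧸ m') ⊗[A] (ResidueField D)) := by
  have hover : m'.comap (algebraMap A A') = maximalIdeal A :=
    IsLocalRing.eq_maximalIdeal (Ideal.isMaximal_comap_of_isIntegral_of_isMaximal m')
  let _ : Field (A' ⧸ m') := Ideal.Quotient.field m'
  let φ : ResidueField A →+* A' ⧸ m' :=
    Ideal.Quotient.lift (maximalIdeal A) ((Ideal.Quotient.mk m').comp (algebraMap A A')) (by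
      intro a ha
      rw [← hover] at ha
      exact Ideal.Quotient.eq_zero_iff_mem.mpr ha)
  let _ : Algebra (ResidueField A) (A' ⧸ m') := φ.toAlgebra
  have : IsScalarTower A (ResidueField A) (A' ⧸ m') := IsScalarTower.of_algebraMap_eq (fun a => rfl)
  have hsurj : Function.Surjective (algebraMap A (ResidueField A)) := IsLocalRing.residue_surjective
  have hc1 : TensorProduct.CompatibleSMul A (ResidueField A) (A' ⧸ m') (ResidueField D) :=
    TensorProduct.CompatibleSMul.of_algebraMap_surjective _ _ hsurj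
  have hred : IsReduced ((A' ⧸ m') ⊗[ResidueField A] (ResidueField D)) :=
    isReduced_tensor_of_isSeparable (ResidueField A) (A' ⧸ m') (ResidueField D)
  let e : (A' ⧸ m') ⊗[ResidueField A] (ResidueField D) ≃ₐ[A] (A' ⧸ m') ⊗[A] (ResidueField D) :=
    Algebra.TensorProduct.equivOfCompatibleSMul A (ResidueField A) A (A' ⧸ m') (ResidueField D)
  exact isReduced_of_injective e.symm.toRingEquiv.toRingHom e.symm.injective

/-- The kernel of the residue map as an algebra map. -/
theorem ker_toAlgHom_residueField :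
    RingHom.ker (IsScalarTower.toAlgHom A D (ResidueField D)) = maximalIdeal D := by
  ext x
  rw [RingHom.mem_ker]
  exact IsLocalRing.residue_eq_zero_iff x

theorem jacobson_tensor_le_of_isMaximal [Algebra.IsSeparable (ResidueField A) (ResidueField D)]
    (m' : Ideal A') [hm' : m'.IsMaximal] :
    Ideal.jacobson (⊥ : Ideal (A' ⊗[A] D)) ≤
      m'.map (Algebra.TensorProduct.includeLeft : A' →ₐ[A] A' ⊗[A] D) ⊔
        (maximalIdeal D).map (Algebra.TensorProduct.includeRight : D →ₐ[A] A' ⊗[A] D) := by
  let ψ : A' ⊗[A] D →ₐ[A] (A' ⧸ m') ⊗[A] (ResidueField D) :=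
    Algebra.TensorProduct.map (Ideal.Quotient.mkₐ A m') (IsScalarTower.toAlgHom A D (ResidueField D))
  have hs1 : Function.Surjective (Ideal.Quotient.mkₐ A m') := Ideal.Quotient.mkₐ_surjective A m'
  have hs2 : Function.Surjective (IsScalarTower.toAlgHom A D (ResidueField D)) :=
    IsLocalRing.residue_surjective
  have hker : RingHom.ker ψ = m'.map (Algebra.TensorProduct.includeLeft : A' →ₐ[A] A' ⊗[A] D) ⊔
        (maximalIdeal D).map (Algebra.TensorProduct.includeRight : D →ₐ[A] A' ⊗[A] D) := by
    have := Algebra.TensorProduct.map_ker (Ideal.Quotient.mkₐ A m')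
      (IsScalarTower.toAlgHom A D (ResidueField D)) hs1 hs2
    have hk1 : RingHom.ker (Ideal.Quotient.mkₐ A m') = m' := by
      ext x
      rw [RingHom.mem_ker]
      exact Ideal.Quotient.eq_zero_iff_mem
    rw [hk1, ker_toAlgHom_residueField] at this
    exact this
  have hψs : Function.Surjective ψ := Algebra.TensorProduct.map_surjective _ _ hs1 hs2
  have hred : IsReduced ((A' ⧸ m') ⊗[A] (ResidueField D)) := isReduced_tensor_quotient A A' D m'
  have hdim : Ring.KrullDimLE 0 ((A' ⧸ m') ⊗[A] (ResidueField D)) := by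
    apply Ring.KrullDimLE.mk₀
    intro I hI
    let _ : Algebra (ResidueField D) ((A' ⧸ m') ⊗[A] (ResidueField D)) :=
      Algebra.TensorProduct.rightAlgebra
    have hint : Algebra.IsIntegral A (A' ⧸ m') :=
      Algebra.IsIntegral.of_surjective (Ideal.Quotient.mkₐ A m') hs1
    have hint2 : Algebra.IsIntegral (ResidueField D) ((A' ⧸ m') ⊗[A] (ResidueField D)) :=
      BrnchCount.isIntegral_rightAlgebra A (A' ⧸ m') (ResidueField D)
    have hp : (I.comap (algebraMap (ResidueField D) ((A' ⧸ m') ⊗[A] (ResidueField D)))).IsPrime :=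
      Ideal.comap_isPrime _ _
    exact Ideal.isMaximal_of_isIntegral_of_isMaximal_comap (R := ResidueField D) I
      (Ideal.isMaximal_of_isPrime _)
  have hjac : Ideal.jacobson (⊥ : Ideal ((A' ⧸ m') ⊗[A] (ResidueField D))) = ⊥ := by
    rw [Ideal.jacobson_eq_radical]
    exact nilradical_eq_zero _
  have h1 : Ideal.comap ψ.toRingHom (Ideal.jacobson ⊥) =
      Ideal.jacobson (Ideal.comap ψ.toRingHom ⊥) := Ideal.comap_jacobson_of_surjective hψs
  rw [hjac] at h1
  have h2 : Ideal.comap ψ.toRingHom ⊥ = RingHom.ker ψ := rfl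
  rw [← hker, ← h2, h1]
  exact Ideal.jacobson_mono bot_le

theorem inf_sup_le_mul_sup {P : Type*} [CommRing P] (X Y M : Ideal P) (h : X ⊔ Y = ⊤) :
    (X ⊔ M) ⊓ (Y ⊔ M) ≤ X * Y ⊔ M := by
  have hcop : (X ⊔ M) ⊔ (Y ⊔ M) = ⊤ := by
    apply top_le_iff.mp
    rw [← h]
    exact sup_le_sup le_sup_left le_sup_left
  rw [← Ideal.mul_eq_inf_of_coprime hcop, Ideal.sup_mul, Ideal.mul_sup, Ideal.mul_sup]
  exact sup_le (sup_le le_sup_left (le_sup_of_le_right Ideal.mul_le_right))
    (sup_le (le_sup_of_le_right Ideal.mul_le_left) (le_sup_of_le_right Ideal.mul_le_left))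

theorem iInf_map_sup_le (M : Ideal (A' ⊗[A] D)) (t : Finset (Ideal A'))
    (ht : ∀ m' ∈ t, m'.IsMaximal) :
    ⨅ m' ∈ t, (m'.map (Algebra.TensorProduct.includeLeft : A' →ₐ[A] A' ⊗[A] D) ⊔ M) ≤
      (t.inf id).map (Algebra.TensorProduct.includeLeft : A' →ₐ[A] A' ⊗[A] D) ⊔ M := by
  classical
  induction t using Finset.induction_on with
  | empty =>
    rw [Finset.inf_empty, Ideal.map_top, top_sup_eq]
    exact le_top
  | insert m' t hm't ih =>
    have hm' : m'.IsMaximal := ht m' (Finset.mem_insert_self _ _)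
    have ht' : ∀ n ∈ t, n.IsMaximal := fun n hn => ht n (Finset.mem_insert_of_mem hn)
    have ih' := ih ht'
    rw [Finset.iInf_insert, Finset.inf_insert, id]
    have hcop : m' ⊔ t.inf id = ⊤ := by
      by_contra hne
      have h1 : m' = m' ⊔ t.inf id := hm'.eq_of_le hne le_sup_left
      have h2 : t.inf id ≤ m' := by
        rw [h1]; exact le_sup_right
      obtain ⟨n, hn, hnm⟩ := (Ideal.IsPrime.inf_le' hm'.isPrime).mp h2
      have h3 : n = m' := (ht' n hn).eq_of_le hm'.ne_top hnm
      exact hm't (h3 ▸ hn)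
    have hcop' : m'.map (Algebra.TensorProduct.includeLeft : A' →ₐ[A] A' ⊗[A] D) ⊔
        (t.inf id).map (Algebra.TensorProduct.includeLeft : A' →ₐ[A] A' ⊗[A] D) = ⊤ := by
      rw [← Ideal.map_sup, hcop, Ideal.map_top]
    refine (inf_le_inf_left _ ih').trans ((inf_sup_le_mul_sup _ _ M hcop').trans ?_)
    refine sup_le_sup_right ?_ M
    rw [← Ideal.map_mul]
    exact Ideal.map_mono Ideal.mul_le_inf

/-- The Jacobson radical of `A' ⊗ D`. -/
theorem jacobson_tensor_eq [Algebra.IsSeparable (ResidueField A) (ResidueField D)]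
    (hfin : {m' : Ideal A' | m'.IsMaximal}.Finite) :
    Ideal.jacobson (⊥ : Ideal (A' ⊗[A] D)) =
      (Ideal.jacobson (⊥ : Ideal A')).map
          (Algebra.TensorProduct.includeLeft : A' →ₐ[A] A' ⊗[A] D) ⊔
        (maximalIdeal D).map (Algebra.TensorProduct.includeRight : D →ₐ[A] A' ⊗[A] D) := by
  apply le_antisymm
  · have h1 : Ideal.jacobson (⊥ : Ideal (A' ⊗[A] D)) ≤ ⨅ m' ∈ hfin.toFinset,
        (m'.map (Algebra.TensorProduct.includeLeft : A' →ₐ[A] A' ⊗[A] D) ⊔
          (maximalIdeal D).map (Algebra.TensorProduct.includeRight : D →ₐ[A] A' ⊗[A] D)) := by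
      refine le_iInf₂ fun m' hm' => ?_
      have : m'.IsMaximal := hfin.mem_toFinset.mp hm'
      exact jacobson_tensor_le_of_isMaximal A A' D m'
    refine h1.trans ((iInf_map_sup_le A A' D _ hfin.toFinset
      (fun m' hm' => hfin.mem_toFinset.mp hm')).trans ?_)
    refine sup_le_sup_right (Ideal.map_mono ?_) _
    refine le_sInf ?_
    rintro J ⟨-, hJ⟩
    exact Finset.inf_le (f := id) (hfin.mem_toFinset.mpr hJ)
  · refine le_sInf ?_
    rintro N ⟨-, hN⟩
    refine sup_le ?_ ?_
    · rw [Ideal.map_le_iff_le_comap]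
      have hmax := BrnchCount.isMaximal_comap_includeLeft A A' D N
      exact sInf_le ⟨bot_le, hmax⟩
    · rw [Ideal.map_le_iff_le_comap]
      have := BrnchCount.comap_includeRight_eq A A' D N
      exact this.ge

end Jac

end Groth.Agent.Lib.Helper4.NormSh
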