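import Mathlib
import Groth.Prelude.Def_Hensel
import Groth.Agent.Lib.Helper4.NormSh7
import Groth.Agent.Lib.Helper4.NormSh10

/-!
# If `S` is a strict henselization of `D`, the conditions on the normalizations hold
-/

set_option autoImplicit false
set_option linter.unusedSectionVars false
universe u

namespace Groth.Agent.Lib.Helper4.NormSh

open TensorProduct IsLocalRing

theorem comap_jacobson_bot_of_bijective {P Q : Type*} [CommRing P] [CommRing Q] (φ : P →+* Q)
    (h : Function.Bijective φ) :
    Ideal.comap φ (Ideal.jacobson ⊥) = Ideal.jacobson ⊥ := by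
  rw [Ideal.comap_jacobson_of_surjective h.2, ← RingHom.ker_eq_comap_bot,
    (RingHom.injective_iff_ker_eq_bot φ).mp h.1]

theorem ker_mk_comp {A P Q : Type*} [CommRing A] [CommRing P] [CommRing Q] [Algebra A P]
    [Algebra A Q] (φ : P →ₐ[A] Q) (J : Ideal Q) :
    RingHom.ker ((Ideal.Quotient.mkₐ A J).comp φ) = Ideal.comap φ.toRingHom J := by
  ext z
  rw [RingHom.mem_ker, Ideal.mem_comap]
  exact Ideal.Quotient.eq_zero_iff_mem

section Sh

variable (A S : Type u) [CommRing A] [IsLocalRing A] [IsReduced A] [IsNoetherianRing A]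
  [CommRing S] [IsLocalRing S] [Algebra A S] [IsLocalHom (algebraMap A S)]
  [hS : Hensel.IsStrictHenselization A S]
  (A' : Subalgebra A (FractionRing S))
  (hA' : ∀ x : FractionRing S, x ∈ A' ↔ (IsIntegral A x ∧
      ∃ a ∈ nonZeroDivisors A, ∃ b : A, algebraMap A (FractionRing S) a * x =
        algebraMap A (FractionRing S) b))
  (D : Subalgebra A S) [IsLocalRing D] [IsLocalHom (algebraMap D S)]
  (D' : Subalgebra A (FractionRing S))
  (hD' : ∀ x : FractionRing S, x ∈ D' ↔ (IsIntegral D x ∧
      ∃ a ∈ nonZeroDivisors A, ∃ d ∈ D, algebraMap A (FractionRing S) a * x =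
        algebraMap S (FractionRing S) d))
  (hle : A' ≤ D') (ι : D →ₐ[A] D')
  (hι : ∀ d : D, (ι d : FractionRing S) = algebraMap S (FractionRing S) d)

set_option synthInstance.maxHeartbeats 400000 in
set_option maxHeartbeats 2000000 in
include hA' hD' hι in
/-- **(II)**: if `S` is a strict henselization of `D`, the three conditions hold. -/
theorem cond_of_isStrictHenselization [hDS : Hensel.IsStrictHenselization D S] :
    {N : Ideal D' | N.IsMaximal}.Finite ∧
      Function.Surjective ((Ideal.Quotient.mkₐ A (Ideal.jacobson (⊥ : Ideal D'))).comp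
        (φt A S A' D D' hle ι)) ∧
      RingHom.ker ((Ideal.Quotient.mkₐ A (Ideal.jacobson (⊥ : Ideal D'))).comp
        (φt A S A' D D' hle ι)) =
        (Ideal.jacobson (⊥ : Ideal A')).map
            (Algebra.TensorProduct.includeLeft : A' →ₐ[A] A' ⊗[A] D) ⊔
          (maximalIdeal D).map
            (Algebra.TensorProduct.includeRight : D →ₐ[A] A' ⊗[A] D) := by
  have hlocA : IsLocalHom (algebraMap A D) := isLocalHom_algebraMap_sub A S D
  have hredD : IsReduced D := isReduced_sub A S D
  have hsep : Algebra.IsSeparable (ResidueField A) (ResidueField D) :=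
    isSeparable_residueField_sub A S D
  have hffD : Module.FaithfullyFlat D S := Hzs.faithfullyFlat_of_isStrictHenselization D S
  have hnoeth : IsNoetherianRing S :=
    (Hzs.isNoetherianRing_iff_of_isStrictHenselization A S).mp inferInstance
  have hminS : (minimalPrimes S).Finite := minimalPrimes.finite_of_isNoetherianRing S
  have hminA : (minimalPrimes A).Finite := minimalPrimes.finite_of_isNoetherianRing A
  have hminD : (minimalPrimes D).Finite := finite_minimalPrimes_sub A S D
  obtain ⟨ΘA, hΘA⟩ := exists_modelA A S A' hA'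
  obtain ⟨ΘD, hΘD⟩ := exists_modelD A S D D' hD' ι hι
  have hintA : Algebra.IsIntegral A A' := isIntegral_model A A' ΘA hΘA
  have hfinA' : {m' : Ideal A' | m'.IsMaximal}.Finite :=
    finite_maximal_of_finite_minimalPrimes A S A' ΘA hΘA hminA hminS
  have hfinD' : {N : Ideal D' | N.IsMaximal}.Finite := by
    let _ : Algebra D D' := ι.toRingHom.toAlgebra
    exact finite_maximal_of_finite_minimalPrimes D S D' ΘD hΘD hminD hminS
  have hφinj := φt_injective A S A' hA' D D' hle ι hι
  have hφsurj := φt_surjective A S A' hA' D D' hD' hle ι hι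
  refine ⟨hfinD', ?_, ?_⟩
  · intro y
    obtain ⟨y', rfl⟩ := Ideal.Quotient.mk_surjective y
    obtain ⟨z, rfl⟩ := hφsurj y'
    exact ⟨z, rfl⟩
  · have h1 := ker_mk_comp (A := A) (P := A' ⊗[A] D) (Q := D') (φt A S A' D D' hle ι)
      (Ideal.jacobson (⊥ : Ideal D'))
    have h2 := comap_jacobson_bot_of_bijective (P := A' ⊗[A] D) (Q := D')
      (φt A S A' D D' hle ι).toRingHom ⟨hφinj, hφsurj⟩
    exact h1.trans (h2.trans (jacobson_tensor_eq A A' D hfinA'))

end Sh

end Groth.Agent.Lib.Helper4.NormSh
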