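import Mathlib
import Groth.Prelude.Def_Models
import Groth.Agent.S2174
import Groth.Agent.S2176

set_option autoImplicit false
open Finset
open Models Models.NumericalType

namespace Groth.Agent.Lib.Helper4.NumType

theorem two_le_div_add_div (x y : ℚ) (hx : 0 < x) (hy : 0 < y) : 2 ≤ x / y + y / x := by
  rw [div_add_div _ _ hy.ne' hx.ne', le_div_iff₀ (mul_pos hy hx)]
  nlinarith [sq_nonneg (x - y)]

/-- weighted edge count: `Σ_{i ≠ j adjacent} d_j / d_i ≥ 2 e`. -/
theorem pair_sum {n : ℕ} (P : Fin n → Fin n → Prop) [DecidableRel P] (hP : ∀ i j, P i j → P j i)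
    (d : Fin n → ℚ) (hd : ∀ i, 0 < d i) :
    2 * ((univ.filter fun p : Fin n × Fin n => p.1 < p.2 ∧ P p.1 p.2).card : ℚ) ≤
      ∑ i, ∑ j ∈ univ.erase i, (if P i j then d j / d i else 0) := by
  classical
  have h1 : ∀ i, ∑ j ∈ univ.erase i, (if P i j then d j / d i else 0)
      = ∑ j, ((if i < j ∧ P i j then d j / d i else 0) +
          (if j < i ∧ P i j then d j / d i else 0)) := by
    intro i
    rw [← Finset.sum_erase (s := univ) (a := i) (f := fun j =>
      ((if i < j ∧ P i j then d j / d i else 0) + (if j < i ∧ P i j then d j / d i else 0)))]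
    · apply Finset.sum_congr rfl
      intro j hj
      have hji : j ≠ i := Finset.ne_of_mem_erase hj
      rcases lt_or_gt_of_ne hji with h | h
      · simp [h, not_lt.mpr h.le]
      · simp [h, not_lt.mpr h.le]
    · simp
  simp_rw [h1, Finset.sum_add_distrib]
  rw [Finset.sum_comm (f := fun i j => (if j < i ∧ P i j then d j / d i else 0))]
  rw [← Finset.sum_add_distrib]
  rw [Finset.card_filter, Nat.cast_sum, Fintype.sum_prod_type, Finset.mul_sum]
  apply Finset.sum_le_sum
  intro i _
  rw [← Finset.sum_add_distrib, Finset.mul_sum]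
  apply Finset.sum_le_sum
  intro j _
  by_cases hij : i < j ∧ P i j
  · have hji : i < j ∧ P j i := ⟨hij.1, hP _ _ hij.2⟩
    simp only [hij, hji, and_self, if_true]
    have := two_le_div_add_div (d j) (d i) (hd j) (hd i)
    simpa using this
  · have hji : ¬ (i < j ∧ P j i) := fun h => hij ⟨h.1, hP _ _ h.2⟩
    simp [hij, hji]

variable {n : ℕ} (T : NumericalType n)

theorem row_eq (i : Fin n) :
    T.m i * (-(T.a i i)) = ∑ j ∈ univ.erase i, T.a i j * T.m j := by
  have h0 := congrFun T.mulVec_m i
  simp only [Matrix.mulVec, dotProduct, Pi.zero_apply] at h0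
  rw [← Finset.add_sum_erase _ _ (Finset.mem_univ i)] at h0
  linarith

theorem nbr_le (i : Fin n) :
    ∑ j ∈ univ.erase i, (if 0 < T.a i j then T.m j * T.w j else 0) ≤
      ∑ j ∈ univ.erase i, T.a i j * T.m j := by
  apply Finset.sum_le_sum
  intro j hj
  have hji : j ≠ i := Finset.ne_of_mem_erase hj
  have h0 : 0 ≤ T.a i j := T.offDiag_nonneg i j (Ne.symm hji)
  have hm := T.m_pos j
  split_ifs with h
  · have hw : T.w j ∣ T.a i j := by
      have := T.w_dvd j i
      rwa [show T.a j i = T.a i j from (congrFun (congrFun T.symm i) j)] at this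
    have := Int.le_of_dvd h hw
    nlinarith
  · exact mul_nonneg h0 hm.le

/-- the integer term of `2g - 2`. -/
def term (i : Fin n) : ℤ := T.m i * (2 * (T.w i * (T.g i - 1)) - T.a i i)

theorem term_ge (i : Fin n) :
    ∑ j ∈ univ.erase i, (if 0 < T.a i j then T.m j * T.w j else 0) - 2 * (T.m i * T.w i) ≤
      term T i := by
  have h1 := nbr_le T i
  have h2 := row_eq T i
  have hg := T.g_nonneg i
  have hm := T.m_pos i
  have hw := T.w_pos i
  have : 0 ≤ T.m i * T.w i * T.g i := by positivity
  unfold term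
  nlinarith

theorem sum_term_eq :
    ∑ i, term T i = 2 * (∑ i, T.m i * T.w i * (T.g i - 1)) - ∑ i, T.m i * T.a i i := by
  unfold term
  rw [Finset.mul_sum, ← Finset.sum_sub_distrib]
  apply Finset.sum_congr rfl
  intro i _
  ring

theorem two_mul_edgeCount_le (hmin : T.IsMinimal) (hn : 1 < n) :
    2 * (T.edgeCount : ℤ) - 2 * n ≤ ∑ i, term T i := by
  classical
  set d : Fin n → ℚ := fun i => ((T.m i * T.w i : ℤ) : ℚ) with hd
  have hd1 : ∀ i, 1 ≤ d i := by
    intro i
    have : (1:ℤ) ≤ T.m i * T.w i := by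
      have := T.m_pos i; have := T.w_pos i; nlinarith
    simp only [hd]; exact_mod_cast this
  have hd0 : ∀ i, 0 < d i := fun i => lt_of_lt_of_le one_pos (hd1 i)
  have key : ∀ i, (∑ j ∈ univ.erase i, (if 0 < T.a i j then d j / d i else 0)) - 2 ≤
      ((term T i : ℤ) : ℚ) := by
    intro i
    have h0 : (0:ℚ) ≤ ((term T i : ℤ) : ℚ) := by
      exact_mod_cast Groth.Agent.S2176.term_nonneg T hmin hn i
    have h1 : (∑ j ∈ univ.erase i, (if 0 < T.a i j then d j else 0)) - 2 * d i ≤
        ((term T i : ℤ) : ℚ) := by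
      have := term_ge T i
      have h2 : (((∑ j ∈ univ.erase i, (if 0 < T.a i j then T.m j * T.w j else 0) -
          2 * (T.m i * T.w i) : ℤ)) : ℚ) ≤ ((term T i : ℤ) : ℚ) := by exact_mod_cast this
      refine le_trans (le_of_eq ?_) h2
      push_cast
      congr 1
      · apply Finset.sum_congr rfl
        intro j _
        split_ifs <;> simp [hd]
      · simp [hd]
    have h3 : (∑ j ∈ univ.erase i, (if 0 < T.a i j then d j / d i else 0)) - 2 =
        ((∑ j ∈ univ.erase i, (if 0 < T.a i j then d j else 0)) - 2 * d i) / d i := by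
      rw [sub_div, Finset.sum_div, mul_div_assoc, div_self (hd0 i).ne', mul_one]
      congr 1
      apply Finset.sum_congr rfl
      intro j _
      split_ifs <;> simp
    rw [h3]
    rcases le_or_gt 0 ((∑ j ∈ univ.erase i, (if 0 < T.a i j then d j else 0)) - 2 * d i) with h | h
    · exact le_trans (div_le_self h (hd1 i)) h1
    · exact le_trans (div_nonpos_of_nonpos_of_nonneg h.le (hd0 i).le) h0
  have hps := pair_sum (fun i j => 0 < T.a i j)
    (fun i j h => by rwa [show T.a j i = T.a i j from (congrFun (congrFun T.symm i) j)]) d hd0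
  have hsum : (∑ i, ((∑ j ∈ univ.erase i, (if 0 < T.a i j then d j / d i else 0)) - 2)) ≤
      ∑ i, ((term T i : ℤ) : ℚ) := Finset.sum_le_sum fun i _ => key i
  rw [Finset.sum_sub_distrib] at hsum
  simp only [Finset.sum_const, Finset.card_univ, Fintype.card_fin, nsmul_eq_mul] at hsum
  have hfin : ((2 * (T.edgeCount : ℤ) - 2 * n : ℤ) : ℚ) ≤ ((∑ i, term T i : ℤ) : ℚ) := by
    push_cast
    unfold NumericalType.edgeCount
    linarith
  exact_mod_cast hfin

end Groth.Agent.Lib.Helper4.NumType
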