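import Mathlib
import Groth.Agent.Lib.Helper4.PA2
import Groth.Agent.Lib.Helper4.CM1

/-!
# Compatibility of `ε⁻¹` with base change of sites (helper4)
-/

set_option linter.style.haveILetI false
set_option linter.unusedSectionVars false
set_option autoImplicit false
open CategoryTheory CategoryTheory.Limits AlgebraicGeometry Opposite
universe u

namespace Groth.Agent.Lib.Helper4.PA

variable (Λ : Type (u + 1)) [CommRing Λ] {X Y : Scheme.{u}} (f : X ⟶ Y)

/-- Base change commutes with the inclusion of the étale site into the pro-étale site. -/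
noncomputable def epsBcIso : ProEtS.eps Y ⋙ ProEtS.bcP f ≅ EtCoh.bc f ⋙ ProEtS.eps X :=
  NatIso.ofComponents (fun U => Iso.refl _) (by
    intro U V g
    rfl)

variable [ProEtS.EpsCont X] [ProEtS.EpsCont Y] [ProEtS.PCont f]

/-- Direct images commute with `ε_*`. -/
noncomputable def pushEpsIso :
    (ProEtS.eps X).sheafPushforwardContinuous (ModuleCat.{u + 1} Λ) X.smallEtaleTopology
        (Scheme.ProEt.topology X) ⋙ EtModW.push Λ f ≅
      (ProEtS.bcP f).sheafPushforwardContinuous (ModuleCat.{u + 1} Λ) (Scheme.ProEt.topology Y)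
        (Scheme.ProEt.topology X) ⋙
      (ProEtS.eps Y).sheafPushforwardContinuous (ModuleCat.{u + 1} Λ) Y.smallEtaleTopology
        (Scheme.ProEt.topology Y) :=
  haveI : (ProEtS.eps Y ⋙ ProEtS.bcP f).IsContinuous Y.smallEtaleTopology
      (Scheme.ProEt.topology X) :=
    Functor.isContinuous_comp (ProEtS.eps Y) (ProEtS.bcP f) Y.smallEtaleTopology
      (Scheme.ProEt.topology Y) (Scheme.ProEt.topology X)
  Functor.sheafPushforwardContinuousComp' (F := EtCoh.bc f) (G := ProEtS.eps X)
      (FG := ProEtS.eps Y ⋙ ProEtS.bcP f) (epsBcIso f).symm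
      (ModuleCat.{u + 1} Λ) Y.smallEtaleTopology X.smallEtaleTopology
      (Scheme.ProEt.topology X) ≪≫
    (Functor.sheafPushforwardContinuousComp' (F := ProEtS.eps Y) (G := ProEtS.bcP f)
      (FG := ProEtS.eps Y ⋙ ProEtS.bcP f) (Iso.refl _)
      (ModuleCat.{u + 1} Λ) Y.smallEtaleTopology (Scheme.ProEt.topology Y)
      (Scheme.ProEt.topology X)).symm

/-- Pullback of sheaves along `f` commutes with `ε⁻¹`. -/
noncomputable def pullEpsIso :
    EtModW.epsPullMod Λ Y ⋙ (ProEtS.bcP f).sheafPullback (ModuleCat.{u + 1} Λ)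
        (Scheme.ProEt.topology Y) (Scheme.ProEt.topology X) ≅
      EtModW.pull Λ f ⋙ EtModW.epsPullMod Λ X :=
  Adjunction.leftAdjointUniq
    (((ProEtS.eps Y).sheafAdjunctionContinuous (ModuleCat.{u + 1} Λ) Y.smallEtaleTopology
        (Scheme.ProEt.topology Y)).comp
      ((ProEtS.bcP f).sheafAdjunctionContinuous (ModuleCat.{u + 1} Λ) (Scheme.ProEt.topology Y)
        (Scheme.ProEt.topology X)))
    (((CM.pullPushAdjM Λ f).comp
      ((ProEtS.eps X).sheafAdjunctionContinuous (ModuleCat.{u + 1} Λ) X.smallEtaleTopology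
        (Scheme.ProEt.topology X))).ofNatIsoRight (pushEpsIso Λ f))

end Groth.Agent.Lib.Helper4.PA
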