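import Mathlib
import Groth.Agent.Lib.Helper4.PA3
import Groth.Agent.Lib.Helper4.DC17
import Groth.Agent.Lib.Helper4.MT6
import Groth.Agent.Lib.Helper4.GR6

/-!
# Lisse strata for adic pro-étale sheaves (helper4)
-/

set_option linter.style.haveILetI false
set_option linter.unusedSectionVars false
set_option autoImplicit false
open CategoryTheory CategoryTheory.Limits AlgebraicGeometry Opposite
universe u

namespace Groth.Agent.Lib.Helper4.PA

open Groth.Agent.Lib.Helper4.DC Groth.Agent.Lib.Helper4.MT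

variable (Λ : Type (u + 1)) [CommRing Λ] (I : Ideal Λ)

/-- The tower of an adic pro-étale sheaf comes from an adic system of constructible étale
sheaves. -/
theorem exists_adic_lift (X : Scheme.{u}) [ProEtS.EpsCont X] (F : EtModW.ModP Λ X)
    (Q : ℕᵒᵖ ⥤ EtModW.ModP Λ X) (p : (Functor.const ℕᵒᵖ).obj F ⟶ Q)
    (hp : ∀ n : ℕ, ARSys.IsQuot (I ^ (n + 1)) (p.app (op n)))
    (hE : ∀ n : ℕ, ∃ E : EtModW.Mod Λ X, EtModW.IsConstructible Λ E ∧
      Nonempty ((EtModW.epsPullMod Λ X).obj E ≅ Q.obj (op n))) :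
    ∃ G : ARSys.PS (EtModW.Mod Λ X), ARSys.IsAdic I G ∧
      (∀ n : ℕ, EtModW.IsConstructible Λ (G.obj (op n))) ∧
      Nonempty (G ⋙ EtModW.epsPullMod Λ X ≅ Q) := by
  have hLin : ∀ (a : Λ) {A B : EtModW.Mod Λ X} (ψ : A ⟶ B),
      (EtModW.epsPullMod Λ X).map (a • ψ) = a • (EtModW.epsPullMod Λ X).map ψ :=
    fun a _ _ ψ => epsPullMod_map_smul a ψ
  choose E hEc hEi using hE
  have i : ∀ n : ℕ, (EtModW.epsPullMod Λ X).obj (E n) ≅ Q.obj (op n) := fun n => (hEi n).some
  let t : ∀ n : ℕ, E (n + 1) ⟶ E n := fun n =>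
    (EtModW.epsPullMod Λ X).preimage
      ((i (n + 1)).hom ≫ Q.map (homOfLE (n.le_add_right 1)).op ≫ (i n).inv)
  let G : ARSys.PS (EtModW.Mod Λ X) := Functor.ofOpSequence t
  let τ : G ⋙ EtModW.epsPullMod Λ X ⟶ Q :=
    NatTrans.ofOpSequence (fun n => (i n).hom) (by
      intro n
      show (EtModW.epsPullMod Λ X).map (G.map (homOfLE (n.le_add_right 1)).op) ≫ (i n).hom =
        (i (n + 1)).hom ≫ Q.map (homOfLE (n.le_add_right 1)).op
      have : G.map (homOfLE (n.le_add_right 1)).op = t n :=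
        Functor.ofOpSequence_map_homOfLE_succ t n
      have ht : (EtModW.epsPullMod Λ X).map (t n) =
          (i (n + 1)).hom ≫ Q.map (homOfLE (n.le_add_right 1)).op ≫ (i n).inv :=
        Functor.map_preimage _ _
      have h2 : (EtModW.epsPullMod Λ X).map (G.map (homOfLE (n.le_add_right 1)).op) =
          (EtModW.epsPullMod Λ X).map (t n) := congrArg _ this
      have h3 := h2.trans ht
      refine (congrArg (· ≫ (i n).hom) h3).trans ?_
      show ((i (n + 1)).hom ≫ Q.map (homOfLE (n.le_add_right 1)).op ≫ (i n).inv) ≫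
              (i n).hom = _
      rw [Category.assoc, Category.assoc, Iso.inv_hom_id, Category.comp_id])
  let ν : G ⋙ EtModW.epsPullMod Λ X ≅ Q :=
    NatIso.ofComponents (fun k => i k.unop) (fun f => τ.naturality f)
  have hpw : ∀ (n m : ℕ) (h : n ≤ m), p.app (op m) ≫ ARSys.tr Q h = p.app (op n) := by
    intro n m h
    have := p.naturality (homOfLE h).op
    simp only [Functor.const_obj_obj, Functor.const_obj_map, Category.id_comp] at this
    exact this.symm
  have hQtr : ∀ (n m : ℕ) (h : n ≤ m), ARSys.IsQuot (I ^ (n + 1)) (ARSys.tr Q h) := by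
    intro n m h
    apply isQuot_of_comp (I ^ (n + 1)) (I ^ (m + 1)) (p.app (op m)) _ (hp m)
    rw [hpw n m h]
    exact hp n
  refine ⟨G, ⟨?_, ?_⟩, fun n => hEc n, ⟨ν⟩⟩
  · intro n
    apply killedBy_of_map (EtModW.epsPullMod Λ X) hLin
    exact killedBy_of_iso _ (i n).symm (hp n).1
  · intro n m h
    apply isQuot_of_map (EtModW.epsPullMod Λ X) hLin
    have hnat : (EtModW.epsPullMod Λ X).map (ARSys.tr G h) =
        (ν.app (op m)).hom ≫ ARSys.tr Q h ≫ (ν.app (op n)).inv := by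
      have := ν.hom.naturality (homOfLE h).op
      rw [← Category.assoc, Iso.eq_comp_inv]
      exact this
    rw [hnat]
    apply isQuot_iso_comp'
    exact isQuot_comp_iso' _ _ (ν.app (op n)).symm (hQtr n m h)

/-- **Lisse strata** for an adic pro-étale sheaf on a Noetherian scheme. -/
theorem exists_strata_lisse [IsNoetherianRing Λ] (X : Scheme.{u}) [IsNoetherian X]
    [∀ T : Scheme.{u}, ProEtS.EpsCont T] [∀ (T : Scheme.{u}) (g : T ⟶ X), ProEtS.PCont g]
    (F : EtModW.ModP Λ X) (Q : ℕᵒᵖ ⥤ EtModW.ModP Λ X) (p : (Functor.const ℕᵒᵖ).obj F ⟶ Q)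
    (hQ : ∀ n : ℕ, ARSys.IsQuot (I ^ (n + 1)) (p.app (op n)))
    (hc : ∀ n : ℕ, ∃ E : EtModW.Mod Λ X, EtModW.IsConstructible Λ E ∧
      Nonempty ((EtModW.epsPullMod Λ X).obj E ≅ Q.obj (op n))) :
    ∃ (m : ℕ) (T : Fin m → Scheme.{u}) (g : ∀ i, T i ⟶ X),
      (∀ i, IsImmersion (g i)) ∧
      Pairwise (fun i j => Disjoint (Set.range (fun t => (g i).base t))
        (Set.range (fun t => (g j).base t))) ∧
      (⋃ i, Set.range (fun t => (g i).base t)) = Set.univ ∧
      ∀ (i : Fin m) (n : ℕ), ∃ E : EtModW.Mod Λ (T i), EtModW.IsFTLocConst Λ E ∧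
          Nonempty ((EtModW.epsPullMod Λ (T i)).obj E ≅
            (((ProEtS.bcP (g i)).sheafPullback (ModuleCat.{u + 1} Λ) (Scheme.ProEt.topology X)
              (Scheme.ProEt.topology (T i)))).obj (Q.obj (op n))) := by
  obtain ⟨G, hG, hGc, ⟨ν⟩⟩ := exists_adic_lift Λ I X F Q p hQ hc
  obtain ⟨m, T, g, him, hdis, hun, hlcc⟩ := GR.exists_uniform_strata Λ I X G hG hGc
  refine ⟨m, T, g, him, hdis, hun, fun i n => ⟨(EtModW.pull Λ (g i)).obj (G.obj (op n)),
    hlcc i n, ⟨?_⟩⟩⟩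
  exact ((pullEpsIso Λ (g i)).app (G.obj (op n))).symm ≪≫
    ((ProEtS.bcP (g i)).sheafPullback (ModuleCat.{u + 1} Λ) (Scheme.ProEt.topology X)
      (Scheme.ProEt.topology (T i))).mapIso (ν.app (op n))

end Groth.Agent.Lib.Helper4.PA
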