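import Mathlib
import Groth.Prelude.Def_ProEtS
import Groth.Agent.Lib.Helper12.WEtField
import Groth.Agent.Lib.Helper4.PE3
import Groth.Agent.S1412

/-!
# Lifting geometric points along weakly étale morphisms
-/

set_option autoImplicit false
set_option linter.style.haveILetI false
set_option linter.unusedSectionVars false
universe u

namespace Groth.Agent.Lib.Helper4.PE

open CategoryTheory CategoryTheory.Limits AlgebraicGeometry Opposite TensorProduct

/-- residue field extensions of weakly étale local homomorphisms are separable algebraic -/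
theorem isSeparable_residueField_of_weaklyEtale (A B : Type u) [CommRing A] [CommRing B]
    [IsLocalRing A] [IsLocalRing B] [Algebra A B] [IsLocalHom (algebraMap A B)]
    [Algebra.WeaklyEtale A B] :
    Algebra.IsSeparable (IsLocalRing.ResidueField A) (IsLocalRing.ResidueField B) := by
  refine ⟨fun l => ?_⟩
  obtain ⟨b, rfl⟩ := IsLocalRing.residue_surjective l
  let K := IsLocalRing.ResidueField A
  let L := IsLocalRing.ResidueField B
  let χ : K ⊗[A] B →ₐ[K] L :=
    Algebra.TensorProduct.lift (Algebra.ofId K L) (IsScalarTower.toAlgHom A B L)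
      (fun _ _ => Commute.all _ _)
  have hz : Groth.Agent.Lib.Helper12.WEtField.IsSepElt K ((1 : K) ⊗ₜ[A] b) :=
    Groth.Agent.Lib.Helper12.WEtField.isSepElt_iff_isSeparable.mpr
      (Groth.Agent.Lib.Helper12.WEtField.isSeparable_of_weaklyEtale _)
  have hχ : χ ((1 : K) ⊗ₜ[A] b) = IsLocalRing.residue B b := by
    change Algebra.TensorProduct.lift _ _ _ _ = _
    rw [Algebra.TensorProduct.lift_tmul, map_one, one_mul]
    rfl
  have := hz.map χ
  rw [hχ] at this
  exact Groth.Agent.Lib.Helper12.WEtField.isSepElt_iff_isSeparable.mp this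

end Groth.Agent.Lib.Helper4.PE

namespace Groth.Agent.Lib.Helper4.PE

open CategoryTheory CategoryTheory.Limits AlgebraicGeometry Opposite

/-- Lifting a geometric point along a weakly étale morphism, through a prescribed point. -/
theorem exists_lift_geometric {V' U' : Scheme.{u}} (π : V' ⟶ U') [WeaklyEtale π] (v : V')
    {k : Type u} [Field k] [IsSepClosed k] (α : U'.residueField (π v) ⟶ .of k) :
    ∃ ζ : Spec (.of k) ⟶ V', ζ ≫ π = Spec.map α ≫ U'.fromSpecResidueField (π v) := by
  have h1 := (Groth.Agent.S1412.result π).mp inferInstance v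
  letI alg : Algebra (U'.presheaf.stalk (π v)) (V'.presheaf.stalk v) :=
    (π.stalkMap v).hom.toAlgebra
  haveI hfl : Module.Flat (U'.presheaf.stalk (π v)) (V'.presheaf.stalk v) := h1.1
  haveI hwe : Algebra.WeaklyEtale (U'.presheaf.stalk (π v)) (V'.presheaf.stalk v) :=
    ⟨hfl, h1.2⟩
  haveI hloc : IsLocalHom (algebraMap (U'.presheaf.stalk (π v)) (V'.presheaf.stalk v)) :=
    (inferInstance : IsLocalHom (π.stalkMap v).hom)
  haveI hsep : Algebra.IsSeparable (IsLocalRing.ResidueField (U'.presheaf.stalk (π v)))
      (IsLocalRing.ResidueField (V'.presheaf.stalk v)) :=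
    isSeparable_residueField_of_weaklyEtale _ _
  letI algk : Algebra (IsLocalRing.ResidueField (U'.presheaf.stalk (π v))) k :=
    α.hom.toAlgebra
  let β' : IsLocalRing.ResidueField (V'.presheaf.stalk v)
      →ₐ[IsLocalRing.ResidueField (U'.presheaf.stalk (π v))] k := IsSepClosed.lift
  let β : V'.residueField v ⟶ .of k := CommRingCat.ofHom β'.toRingHom
  have hβ : π.residueFieldMap v ≫ β = α := by
    ext x
    exact β'.commutes x
  refine ⟨Spec.map β ≫ V'.fromSpecResidueField v, ?_⟩
  rw [Category.assoc, ← Scheme.Hom.SpecMap_residueFieldMap_fromSpecResidueField,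
    ← Spec.map_comp_assoc, hβ]

end Groth.Agent.Lib.Helper4.PE
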