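import Mathlib
import Groth.Prelude.Def_ProEtS
import Groth.Agent.Lib.Helper4.PE10

/-!
# Geometric points lift along covering sieves of the small pro-étale site
-/

set_option autoImplicit false
set_option linter.style.haveILetI false
set_option linter.unusedSectionVars false
universe u

namespace Groth.Agent.Lib.Helper4.PE

open CategoryTheory CategoryTheory.Limits AlgebraicGeometry Opposite

variable {X : Scheme.{u}}

/-- geometric points lift along the sieve, after arbitrary base change -/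
def GeomLifts (k : Type u) [Field k] {U : X.ProEt} (R : Sieve U) : Prop :=
  ∀ (Y : X.ProEt) (f : Y ⟶ U) (ξ : Spec (CommRingCat.of k) ⟶ Y.left),
    ∃ (V : X.ProEt) (g : V ⟶ Y) (ξ' : Spec (CommRingCat.of k) ⟶ V.left),
      R.arrows (g ≫ f) ∧ ξ' ≫ g.left = ξ

variable (k : Type u) [Field k]

theorem geomLifts_top (U : X.ProEt) : GeomLifts k (⊤ : Sieve U) := by
  intro Y f ξ
  exact ⟨Y, 𝟙 Y, ξ, trivial, Category.comp_id _⟩

theorem geomLifts_pullback {U Y₀ : X.ProEt} (S : Sieve U) (f₀ : Y₀ ⟶ U) (h : GeomLifts k S) :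
    GeomLifts k (S.pullback f₀) := by
  intro Y f ξ
  obtain ⟨V, g, ξ', h1, h2⟩ := h Y (f ≫ f₀) ξ
  refine ⟨V, g, ξ', ?_, h2⟩
  simpa using h1

theorem geomLifts_transitive {U : X.ProEt} (S R : Sieve U) (hS : GeomLifts k S)
    (hR : ∀ ⦃Y : X.ProEt⦄ ⦃f : Y ⟶ U⦄, S.arrows f → GeomLifts k (R.pullback f)) :
    GeomLifts k R := by
  intro Y f ξ
  obtain ⟨V, g, ξ', h1, h2⟩ := hS Y f ξ
  obtain ⟨V', g', ξ'', h3, h4⟩ := hR h1 V (𝟙 V) ξ'
  refine ⟨V', g' ≫ g, ξ'', ?_, ?_⟩
  · simpa using h3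
  · change ξ'' ≫ g'.left ≫ g.left = ξ
    rw [reassoc_of% h4, h2]

theorem geomLifts_of [IsSepClosed k] {U : X.ProEt} (S : Presieve U)
    (hS : S ∈ Scheme.ProEt.precoverage X U) : GeomLifts k (Sieve.generate S) := by
  obtain ⟨ι, Yi, fi, rfl⟩ := S.exists_eq_ofArrows
  have h1 : (Presieve.ofArrows Yi fi).map (Scheme.ProEt.forget X ⋙ Over.forget X) ∈
    Scheme.proetalePrecoverage U.left := hS
  rw [Presieve.map_ofArrows] at h1
  obtain ⟨-, h3⟩ := h1
  let E : PreZeroHypercover U.left := ⟨ι, fun i => (Yi i).left, fun i => (fi i).left⟩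
  have h5 := (Scheme.presieve₀_mem_precoverage_iff (E := E)).mp h3
  have hWE : ∀ i, WeaklyEtale (fi i).left := h5.2
  intro Y f ξ
  obtain ⟨⟨u, α⟩, hξ₀⟩ : ∃ p : Σ x, U.left.residueField x ⟶ .of k,
      ξ ≫ f.left = (Scheme.SpecToEquivOfField k U.left).symm p :=
    ⟨_, (Equiv.symm_apply_apply _ _).symm⟩
  obtain ⟨i, v, rfl⟩ := h5.1 u
  haveI := hWE i
  obtain ⟨ζ, hζ⟩ := exists_lift_geometric (fi i).left v α
  have hcond : ξ ≫ f.left = ζ ≫ (fi i).left := by
    rw [hζ, hξ₀]
    rfl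
  let ξ' : Spec (CommRingCat.of k) ⟶ pullback f.left (fi i).left := pullback.lift ξ ζ hcond
  haveI : WeaklyEtale (pullback.fst f.left (fi i).left ≫ Y.hom) := inferInstance
  let V : X.ProEt := Scheme.ProEt.mk (pullback.fst f.left (fi i).left ≫ Y.hom)
  let g : V ⟶ Y := MorphismProperty.Over.homMk (pullback.fst f.left (fi i).left) rfl
  have ht : pullback.snd f.left (fi i).left ≫ (Yi i).hom =
      pullback.fst f.left (fi i).left ≫ Y.hom := by
    have e1 := MorphismProperty.Over.w (fi i)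
    have e2 := MorphismProperty.Over.w f
    have e3 := pullback.condition (f := f.left) (g := (fi i).left)
    rw [← e1, ← e2, reassoc_of% e3]
  let t : V ⟶ Yi i := MorphismProperty.Over.homMk (pullback.snd f.left (fi i).left) ht
  refine ⟨V, g, ξ', ⟨Yi i, t, fi i, ⟨i⟩, ?_⟩, pullback.lift_fst _ _ _⟩
  apply MorphismProperty.Over.Hom.ext
  exact (pullback.condition (f := f.left) (g := (fi i).left)).symm

/-- Geometric points lift along covering sieves. -/
theorem geomLifts_of_mem [IsSepClosed k] {U : X.ProEt} (R : Sieve U)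
    (hR : R ∈ Scheme.ProEt.topology X U) : GeomLifts k R := by
  have hR' : (Scheme.ProEt.precoverage X).Saturate U R := hR
  clear hR
  induction hR' with
  | of U S hS => exact geomLifts_of k S hS
  | top U => exact geomLifts_top k U
  | pullback U S hS Y f ih => exact geomLifts_pullback k S f ih
  | transitive U S R hS hR ih1 ih2 => exact geomLifts_transitive k S R ih1 (fun Y f hf => ih2 hf)

end Groth.Agent.Lib.Helper4.PE
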