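import Mathlib
import Groth.Prelude.Def_ProEtS
import Groth.Agent.Lib.Helper4.PE9

/-!
# Points of the small pro-étale site: clopen neighbourhoods of a point of an object
whose covering sieves contain clopen partitions
-/

set_option autoImplicit false
set_option linter.style.haveILetI false
set_option linter.unusedSectionVars false
universe u

namespace Groth.Agent.Lib.Helper4.PE

open CategoryTheory CategoryTheory.Limits AlgebraicGeometry Opposite

variable {S : Scheme.{u}}

/-- restriction between opens of an object -/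
noncomputable def res (W : S.ProEt) {N' N : W.left.Opens} (h : N' ≤ N) : opn W N' ⟶ opn W N :=
  MorphismProperty.Over.homMk (W.left.homOfLE h) (by
    change W.left.homOfLE h ≫ N.ι ≫ W.hom = N'.ι ≫ W.hom
    rw [← Category.assoc, Scheme.homOfLE_ι])

theorem res_opnι (W : S.ProEt) {N' N : W.left.Opens} (h : N' ≤ N) :
    res W h ≫ opnι W N = opnι W N' := by
  apply MorphismProperty.Over.Hom.ext
  exact Scheme.homOfLE_ι _ h

theorem res_refl (W : S.ProEt) (N : W.left.Opens) : res W (le_refl N) = 𝟙 _ := by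
  apply opnι_mono
  rw [res_opnι, Category.id_comp]

theorem res_trans (W : S.ProEt) {N₁ N₂ N₃ : W.left.Opens} (h₁ : N₁ ≤ N₂) (h₂ : N₂ ≤ N₃) :
    res W h₁ ≫ res W h₂ = res W (h₁.trans h₂) := by
  apply opnι_mono
  rw [Category.assoc, res_opnι, res_opnι, res_opnι]

/-- a morphism over `U` between opens of `U` is the restriction -/
theorem eq_res_of_comp_opnι (W : S.ProEt) {N' N : W.left.Opens} (g : opn W N' ⟶ opn W N)
    (hg : g ≫ opnι W N = opnι W N') : ∃ h : N' ≤ N, g = res W h := by
  have h : N' ≤ N := by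
    intro x hx
    have h1 : (g ≫ opnι W N).left = (opnι W N').left := by rw [hg]
    have h2 : g.left ≫ N.ι = N'.ι := h1
    have h3 : (g.left ≫ N.ι).base ⟨x, hx⟩ = x := by rw [h2]; rfl
    rw [Scheme.Hom.comp_apply] at h3
    rw [← h3]
    exact (g.left.base ⟨x, hx⟩).2
  refine ⟨h, ?_⟩
  apply opnι_mono
  rw [hg, res_opnι]

/-- clopen neighbourhoods of a point -/
structure Nbhd (W : S.ProEt) (z : W.left) where
  /-- the underlying open -/
  N : W.left.Opens
  isClopen : IsClopen (N : Set W.left)
  mem : z ∈ N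

variable (W : S.ProEt) (z : W.left)

/-- intersection of clopen neighbourhoods -/
def Nbhd.inf (N₁ N₂ : Nbhd W z) : Nbhd W z :=
  ⟨N₁.N ⊓ N₂.N, N₁.isClopen.inter N₂.isClopen, ⟨N₁.mem, N₂.mem⟩⟩

/-- the whole object as a neighbourhood -/
def Nbhd.top : Nbhd W z := ⟨⊤, isClopen_univ, trivial⟩

instance : Preorder (Nbhd W z) := Preorder.lift (fun N => N.N)

instance : Nonempty (Nbhd W z) := ⟨Nbhd.top W z⟩

instance : IsDirected (Nbhd W z) (· ≥ ·) :=
  ⟨fun a b => ⟨Nbhd.inf W z a b, (inf_le_left : a.N ⊓ b.N ≤ a.N),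
    (inf_le_right : a.N ⊓ b.N ≤ b.N)⟩⟩

instance : IsCofiltered (Nbhd W z) := isCofiltered_of_directed_ge_nonempty _

instance : InitiallySmall.{u + 1} (Nbhd W z) := by
  haveI : Small.{u + 1} (Nbhd W z) := small_succ _
  haveI : EssentiallySmall.{u + 1} (Nbhd W z) := essentiallySmall_of_small_of_locallySmall _
  exact initiallySmall_of_essentiallySmall _

/-- the functor from clopen neighbourhoods to the site -/
noncomputable def nbhdFunctor : Nbhd W z ⥤ S.ProEt where
  obj N := opn W N.N
  map h := res W (leOfHom h)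
  map_id N := res_refl W N.N
  map_comp f g := (res_trans W (leOfHom f) (leOfHom g)).symm

theorem nbhdFunctor_obj (N : Nbhd W z) : (nbhdFunctor W z).obj N = opn W N.N := rfl

theorem nbhdFunctor_map {N N' : Nbhd W z} (h : N ⟶ N') :
    (nbhdFunctor W z).map h = res W (leOfHom h) := rfl

instance : LocallySmall.{u + 1} S.ProEt := locallySmall_max.{u + 1}

/-- the complement of a clopen as an open -/
def Nbhd.compl (N : Nbhd W z) : W.left.Opens := ⟨(N.N : Set W.left)ᶜ, N.isClopen.compl.isOpen⟩

variable {W z}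

theorem nbhd_lift (hW : PartitionProp W) ⦃X : S.ProEt⦄ (R : Sieve X)
    (hR : R ∈ Scheme.ProEt.topology S X) ⦃U : Nbhd W z⦄ (f : (nbhdFunctor W z).obj U ⟶ X) :
    ∃ (Y : S.ProEt) (g : Y ⟶ X) (_ : R g) (V : Nbhd W z) (q : V ⟶ U)
      (a : (nbhdFunctor W z).obj V ⟶ Y), a ≫ g = (nbhdFunctor W z).map q ≫ f := by
  let J := Scheme.ProEt.topology S
  -- the auxiliary sieve on W
  let R' : Sieve W :=
    { arrows := fun T h => (∃ a : T ⟶ opn W U.N, a ≫ opnι W U.N = h ∧ R (a ≫ f)) ∨
        (∃ b : T ⟶ opn W (U.compl), b ≫ opnι W U.compl = h)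
      downward_closed := by
        rintro T T' h (⟨a, rfl, ha⟩ | ⟨b, rfl⟩) k
        · refine Or.inl ⟨k ≫ a, by rw [Category.assoc], ?_⟩
          rw [Category.assoc]
          exact R.downward_closed ha k
        · exact Or.inr ⟨k ≫ b, by rw [Category.assoc]⟩ }
  have hR' : R' ∈ Scheme.ProEt.topology S W := by
    let O : Bool → W.left.Opens := fun b => if b then U.N else U.compl
    have hO : (⋃ k, (O k : Set W.left)) = Set.univ := by
      rw [Set.eq_univ_iff_forall]
      intro x
      by_cases hx : x ∈ U.N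
      · exact Set.mem_iUnion.mpr ⟨true, hx⟩
      · exact Set.mem_iUnion.mpr ⟨false, hx⟩
    refine J.transitive (ofArrows_opn_mem O hO) _ ?_
    intro Y h hh
    obtain ⟨i, k, hk⟩ := (Sieve.mem_ofArrows_iff _ _ _).mp hh
    cases i with
    | true =>
      have h1 : R.pullback (k ≫ f) ∈ Scheme.ProEt.topology S Y := J.pullback_stable (k ≫ f) hR
      refine J.superset_covering ?_ h1
      intro T m hm
      refine Or.inl ⟨m ≫ k, ?_, ?_⟩
      · rw [hk, Category.assoc]
        rfl
      · rw [Category.assoc]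
        exact hm
    | false =>
      refine J.superset_covering ?_ (J.top_mem Y)
      intro T m _
      refine Or.inr ⟨m ≫ k, ?_⟩
      rw [hk, Category.assoc]
      rfl
  obtain ⟨n, P, hclopen, hdisj, hcov, hmem⟩ := hW R' hR'
  have hz : z ∈ (⋃ k, (P k : Set W.left)) := by rw [hcov]; trivial
  obtain ⟨k, hk⟩ := Set.mem_iUnion.mp hz
  rcases hmem k with ⟨a, ha, hRa⟩ | ⟨b, hb⟩
  · obtain ⟨hle, rfl⟩ := eq_res_of_comp_opnι W a ha
    let V : Nbhd W z := ⟨P k, hclopen k, hk⟩
    exact ⟨opn W (P k), res W hle ≫ f, hRa, V, homOfLE hle, 𝟙 _, Category.id_comp _⟩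
  · exfalso
    obtain ⟨hle, -⟩ := eq_res_of_comp_opnι W b hb
    exact hle hk U.mem

/-- the point of the small pro-étale site attached to a point of an object whose covering sieves
contain clopen partitions -/
noncomputable def pt (hW : PartitionProp W) (z : W.left) :
    GrothendieckTopology.Point.{u + 1} (Scheme.ProEt.topology S) :=
  GrothendieckTopology.Point.ofIsCofiltered (nbhdFunctor W z) (nbhd_lift hW)

end Groth.Agent.Lib.Helper4.PE
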