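import Mathlib
import Groth.Prelude.Def_ProEtS
import Groth.Agent.Lib.Helper4.PE12

/-!
# The small pro-étale site has enough points
-/

set_option autoImplicit false
set_option linter.style.haveILetI false
set_option linter.unusedSectionVars false
universe u

namespace Groth.Agent.Lib.Helper4.PE

open CategoryTheory CategoryTheory.Limits AlgebraicGeometry Opposite

variable {S : Scheme.{u}}

open GrothendieckTopology.Point in
/-- if the germ at `z` of `h : W ⟶ X` lifts to the sieve `R`, then `R.pullback h` contains a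
clopen neighbourhood of `z`. -/
theorem exists_nbhd_of_lift {W : S.ProEt} (hW : PartitionProp W) (z : W.left) {X : S.ProEt}
    (R : Sieve X) (h : W ⟶ X)
    (H : ∀ x : (pt hW z).fiber.obj X, ∃ (Y : S.ProEt) (g : Y ⟶ X) (_ : R g)
      (y : (pt hW z).fiber.obj Y), (pt hW z).fiber.map g y = x) :
    ∃ N : Nbhd W z, R (opnι W N.N ≫ h) := by
  obtain ⟨Y, g, hg, y, hy⟩ := H (ofIsCofiltered.fiberMk (p := nbhdFunctor W z)
    (U := Nbhd.top W z) (opnι W ⊤ ≫ h))
  obtain ⟨M, a, rfl⟩ := ofIsCofiltered.fiberMk_jointly_surjective (p := nbhdFunctor W z) y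
  have h1 : (pt hW z).fiber.map g (ofIsCofiltered.fiberMk a) =
      ofIsCofiltered.fiberMk (a ≫ g) :=
    ofIsCofiltered.fiber_map_fiberMk (nbhdFunctor W z) a g
  rw [h1] at hy
  have hle : M ≤ Nbhd.top W z := (le_top : M.N ≤ ⊤)
  have h2 : ofIsCofiltered.fiberMk.{u + 1} (p := nbhdFunctor W z) (U := Nbhd.top W z)
      (opnι W ⊤ ≫ h) =
      ofIsCofiltered.fiberMk.{u + 1} (p := nbhdFunctor W z) (U := M) (opnι W M.N ≫ h) := by
    rw [← ofIsCofiltered.fiberMk_map_comp (nbhdFunctor W z) (homOfLE hle) (opnι W ⊤ ≫ h)]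
    congr 1
    exact (Category.assoc _ _ _).symm.trans
      (congrArg (fun t => t ≫ h) (res_opnι W (leOfHom (homOfLE hle))))
  rw [h2] at hy
  obtain ⟨V, q, hq⟩ := ofIsCofiltered.exists_of_fiberMk_eq_fiberMk hy
  refine ⟨V, ?_⟩
  have h3 : (nbhdFunctor W z).map q ≫ opnι W M.N ≫ h = opnι W V.N ≫ h :=
    (Category.assoc _ _ _).symm.trans (congrArg (fun t => t ≫ h) (res_opnι W (leOfHom q)))
  rw [← h3, ← hq, ← Category.assoc]
  exact R.downward_closed hg _

/-- the index type of the conservative family of points -/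
def PtIdx (S : Scheme.{u}) : Type (u + 1) :=
  Σ W : {W : S.ProEt // PartitionProp W}, W.1.left

/-- the conservative family of points -/
noncomputable def ptFamily (S : Scheme.{u}) (i : PtIdx S) :
    GrothendieckTopology.Point.{u + 1} (Scheme.ProEt.topology S) :=
  pt i.1.2 i.2

theorem hasEnoughPoints (S : Scheme.{u}) :
    GrothendieckTopology.HasEnoughPoints.{u + 1} (Scheme.ProEt.topology S) := by
  refine ⟨ObjectProperty.ofObj (ptFamily S), ?_, ?_⟩
  · haveI : Small.{u + 1} (PtIdx S) := small_self _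
    infer_instance
  · apply ObjectProperty.IsConservativeFamilyOfPoints.mk'
    intro X R H
    let J := Scheme.ProEt.topology S
    obtain ⟨ι, V, g, hcov, hV⟩ := exists_wc_cover X
    refine J.transitive hcov _ ?_
    intro Y f hf
    obtain ⟨Z, m, b, hb, rfl⟩ := hf
    obtain ⟨i⟩ := hb
    rw [Sieve.pullback_comp]
    apply J.pullback_stable
    haveI := (hV i).1
    have hW : PartitionProp (V i) := partitionProp_of_isWContractible (V i) (hV i).2
    have key : ∀ z : (V i).left, ∃ N : Nbhd (V i) z, R (opnι (V i) N.N ≫ g i) := by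
      intro z
      apply exists_nbhd_of_lift hW z R (g i)
      exact H ⟨pt hW z, ObjectProperty.ofObj_apply (ptFamily S) ⟨⟨V i, hW⟩, z⟩⟩
    choose N hN using key
    have hO : (⋃ z, ((N z).N : Set (V i).left)) = Set.univ := by
      rw [Set.eq_univ_iff_forall]
      intro z
      exact Set.mem_iUnion.mpr ⟨z, (N z).mem⟩
    refine J.superset_covering ?_ (ofArrows_opn_mem (fun z => (N z).N) hO)
    intro T k hk
    obtain ⟨z, k', rfl⟩ := (Sieve.mem_ofArrows_iff _ _ _).mp hk
    change R ((k' ≫ opnι (V i) (N z).N) ≫ g i)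
    rw [Category.assoc]
    exact R.downward_closed (hN z) k'

end Groth.Agent.Lib.Helper4.PE
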