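import Mathlib
import Groth.Prelude.Def_ProEtS
import Groth.Agent.Lib.Helper4.PE9

/-!
# Finite quasi-compact jointly surjective families are coverings; sections of extension by zero
-/

set_option autoImplicit false
set_option linter.style.haveILetI false
set_option linter.unusedSectionVars false
universe u

namespace Groth.Agent.Lib.Helper4.PE

open CategoryTheory CategoryTheory.Limits AlgebraicGeometry Opposite

variable {X : Scheme.{u}}

/-- A finite jointly surjective family of quasi-compact morphisms generates a covering sieve. -/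
theorem finite_mem {V : X.ProEt} {ι : Type} [Finite ι] (W' : ι → X.ProEt) (g : ∀ k, W' k ⟶ V)
    (hqc : ∀ k, QuasiCompact (g k).left)
    (hsurj : ∀ v : V.left, ∃ k, v ∈ Set.range (g k).left.base) :
    Sieve.generate (Presieve.ofArrows W' g) ∈ Scheme.ProEt.topology X V := by
  apply Precoverage.generate_mem_toGrothendieck
  change (Presieve.ofArrows W' g).map (Scheme.ProEt.forget X ⋙ Over.forget X) ∈
    Scheme.proetalePrecoverage V.left
  rw [Presieve.map_ofArrows]
  change Presieve.ofArrows (fun k => (W' k).left) (fun k => (g k).left) ∈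
    Scheme.proetalePrecoverage V.left
  have hmem : Presieve.ofArrows (fun k => (W' k).left) (fun k => (g k).left) ∈
      Scheme.precoverage @WeaklyEtale V.left := by
    rw [Scheme.ofArrows_mem_precoverage_iff]
    exact ⟨hsurj, fun k => weaklyEtale_left (g k)⟩
  refine ⟨?_, hmem⟩
  let E : PreZeroHypercover V.left := ⟨ι, fun k => (W' k).left, fun k => (g k).left⟩
  let 𝒰 : Scheme.Cover (Scheme.precoverage @WeaklyEtale) V.left := ⟨E, hmem⟩
  haveI : ∀ i, QuasiCompact (𝒰.f i) := hqc
  haveI : Finite 𝒰.I₀ := ‹Finite ι›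
  have hq : QuasiCompactCover 𝒰.toPreZeroHypercover := QuasiCompactCover.of_finite
  exact (Scheme.presieve₀_mem_qcPrecoverage_iff (E := E)).mpr hq

/-- the left Kan extension presheaf vanishes on objects not mapping to the image of `compP j` -/
theorem lan_subsingleton {U : Scheme.{u}} (j : U ⟶ X) [WeaklyEtale j]
    (Q : U.ProEtᵒᵖ ⥤ AddCommGrpCat.{u + 1}) (T : X.ProEt)
    (hT : ∀ W : U.ProEt, IsEmpty (T ⟶ (ProEtS.compP j).obj W)) :
    Subsingleton (((ProEtS.compP j).op.lan.obj Q).obj (op T)) := by
  haveI : IsEmpty (CostructuredArrow (ProEtS.compP j).op (op T)) :=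
    ⟨fun a => (hT a.left.unop).false a.hom.unop⟩
  let e := (ProEtS.compP j).op.leftKanExtensionObjIsoColimit Q (op T)
  have hinit : IsInitial (colimit (CostructuredArrow.proj (ProEtS.compP j).op (op T) ⋙ Q)) :=
    (isColimitEquivIsInitialOfIsEmpty _ (colimit.cocone _)) (colimit.isColimit _)
  have hz : IsZero (colimit (CostructuredArrow.proj (ProEtS.compP j).op (op T) ⋙ Q)) :=
    (isZero_zero _).of_iso (hinit.uniqueUpToIso HasZeroObject.zeroIsInitial)
  have hz' : IsZero (((ProEtS.compP j).op.lan.obj Q).obj (op T)) := hz.of_iso e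
  exact AddCommGrpCat.subsingleton_of_isZero hz'

end Groth.Agent.Lib.Helper4.PE
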