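import Mathlib
import Groth.Prelude.Def_ProEtS
import Groth.Agent.Lib.Helper4.PE14

/-!
# Sections of extension by zero over affine objects all of whose points specialize into a
closed subscheme disjoint from the source
-/

set_option autoImplicit false
set_option linter.style.haveILetI false
set_option linter.unusedSectionVars false
universe u

namespace Groth.Agent.Lib.Helper4.PE

open CategoryTheory CategoryTheory.Limits AlgebraicGeometry Opposite

variable {X : Scheme.{u}}

set_option maxHeartbeats 1000000 in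
theorem sheafify_lan_subsingleton' {U : Scheme.{u}} (j : U ⟶ X) [WeaklyEtale j] (S : Set X)
    (hUZ : Disjoint (Set.range j.base) S)
    (V : X.ProEt) [IsAffine V.left]
    (hV : ∀ v : ↥V.left, ∃ z : ↥V.left, V.hom.base z ∈ S ∧ v ⤳ z)
    (Q : U.ProEtᵒᵖ ⥤ AddCommGrpCat.{u + 1}) :
    Subsingleton (((presheafToSheaf (Scheme.ProEt.topology X) AddCommGrpCat.{u + 1}).obj
      ((ProEtS.compP j).op.lan.obj Q)).obj.obj (op V)) := by
  let K := Scheme.ProEt.topology X
  let P : X.ProEtᵒᵖ ⥤ AddCommGrpCat.{u + 1} := (ProEtS.compP j).op.lan.obj Q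
  let Fs : Sheaf K AddCommGrpCat.{u + 1} := (presheafToSheaf K AddCommGrpCat.{u + 1}).obj P
  let η : P ⟶ Fs.obj := toSheafify K P
  have hzero : ∀ s : ToType (Fs.obj.obj (op V)), s = 0 := by
    intro s
    have hcov : Presheaf.imageSieve η s ∈ Scheme.ProEt.topology X V :=
      Presheaf.imageSieve_mem K η s
    obtain ⟨ι, hι, W', g, haff, hmem, hsurj⟩ := refines_of_mem _ hcov V (𝟙 V)
    haveI := hι
    let I' : Type := {k : ι // ∀ W : U.ProEt, IsEmpty (W' k ⟶ (ProEtS.compP j).obj W)}
    have hqc : ∀ k : I', QuasiCompact (g k.1).left := by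
      intro k
      haveI := haff k.1
      infer_instance
    have hsurj' : ∀ v : V.left, ∃ k : I', v ∈ Set.range (g k.1).left.base := by
      intro v
      obtain ⟨z, hz, hvz⟩ := hV v
      obtain ⟨k, w, hw⟩ := hsurj z
      have hk : ∀ W : U.ProEt, IsEmpty (W' k ⟶ (ProEtS.compP j).obj W) := by
        intro W
        refine ⟨fun a => ?_⟩
        have h1 : a.left ≫ W.hom ≫ j = (W' k).hom := MorphismProperty.Over.w a
        have h2 : (g k).left ≫ V.hom = (W' k).hom := MorphismProperty.Over.w (g k)
        have h3 : V.hom.base z = j.base (W.hom.base (a.left.base w)) := by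
          calc V.hom.base z = V.hom.base ((g k).left.base w) := by rw [hw]
            _ = ((g k).left ≫ V.hom).base w := rfl
            _ = (a.left ≫ W.hom ≫ j).base w := by rw [h2, h1]
            _ = _ := rfl
        exact Set.disjoint_left.mp hUZ ⟨_, h3.symm⟩ hz
      haveI : Flat (g k).left := by
        haveI := weaklyEtale_left (g k)
        infer_instance
      have hgen : GeneralizingMap (g k).left.base := Flat.generalizingMap (g k).left
      obtain ⟨w', -, hw'⟩ := hgen (a := w) (b := v) (by rw [hw]; exact hvz)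
      exact ⟨⟨k, hk⟩, w', hw'⟩
    have hcov' := finite_mem (fun k : I' => W' k.1) (fun k => g k.1) hqc hsurj'
    refine Sheaf.isSeparated Fs V _ hcov' s 0 ?_
    intro Y f hf
    obtain ⟨T, a, b, hb, rfl⟩ := hf
    obtain ⟨k⟩ := hb
    obtain ⟨t, ht⟩ := hmem k.1
    haveI : Subsingleton (P.obj (op (W' k.1))) := lan_subsingleton j Q (W' k.1) k.2
    have ht0 : t = 0 := Subsingleton.elim _ _
    rw [Category.comp_id] at ht
    have h1 : Fs.obj.map (g k.1).op s = 0 := by
      rw [← ht, ht0, map_zero]
    have h2 : Fs.obj.map (a ≫ g k.1).op s = Fs.obj.map a.op (Fs.obj.map (g k.1).op s) := by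
      rw [op_comp, Functor.map_comp]
      rfl
    rw [h2, h1, map_zero, map_zero]
  exact ⟨fun a b => (hzero a).trans (hzero b).symm⟩

theorem extZeroP_sections_subsingleton' {U : Scheme.{u}} (j : U ⟶ X) [WeaklyEtale j]
    (S : Set X)
    (hUZ : Disjoint (Set.range j.base) S) [ProEtS.JPCont j]
    (V : X.ProEt) [IsAffine V.left]
    (hV : ∀ v : ↥V.left, ∃ z : ↥V.left, V.hom.base z ∈ S ∧ v ⤳ z)
    (F : ProEtS.AbP U) :
    Subsingleton (ProEtS.sectP ((ProEtS.extZeroP j).obj F) V) := by
  let K := Scheme.ProEt.topology X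
  let J := Scheme.ProEt.topology U
  let e := Functor.sheafPullbackConstruction.sheafPullbackIso (ProEtS.compP j)
    AddCommGrpCat.{u + 1} J K
  let eV : ((ProEtS.extZeroP j).obj F).obj.obj (op V) ≅ _ :=
    ((sheafSections K AddCommGrpCat.{u + 1}).obj (op V)).mapIso (e.app F)
  have h := sheafify_lan_subsingleton' j S hUZ V hV F.obj
  exact @Equiv.subsingleton _ _ eV.addCommGroupIsoToAddEquiv.toEquiv h

end Groth.Agent.Lib.Helper4.PE
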