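import Mathlib
import Groth.Prelude.Def_ProEtS

/-!
# Open immersions and the small pro-étale site: the adjoint triple `j_! ⊣ j⁻¹ ⊣ j_*`
-/

set_option autoImplicit false
set_option linter.style.haveILetI false
set_option linter.unusedSectionVars false
universe u

namespace Groth.Agent.Lib.Helper4.PEOpen

open CategoryTheory CategoryTheory.Limits AlgebraicGeometry Opposite

variable {U X : Scheme.{u}} (j : U ⟶ X)

set_option backward.isDefEq.respectTransparency.types false in
/-- the adjunction between composition with `j` and base change along `j` -/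
noncomputable def adjS [hj : WeaklyEtale j] : ProEtS.compP j ⊣ ProEtS.bcP j :=
  MorphismProperty.Over.mapPullbackAdj (@WeaklyEtale) ⊤ j hj trivial

set_option backward.isDefEq.respectTransparency.types false in
theorem isIso_unit_adjS [hj : WeaklyEtale j] [Mono j] (A : U.ProEt) :
    IsIso ((adjS j).unit.app A) := by
  have hc : pullback.fst (A.hom ≫ j) j ≫ A.hom ≫ j = pullback.snd (A.hom ≫ j) j ≫ j :=
    pullback.condition
  let u : A.left ⟶ pullback (A.hom ≫ j) j := pullback.lift (𝟙 A.left) A.hom (by simp)
  have e1 : u ≫ pullback.fst (A.hom ≫ j) j = 𝟙 _ := pullback.lift_fst _ _ _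
  have e2 : u ≫ pullback.snd (A.hom ≫ j) j = A.hom := pullback.lift_snd _ _ _
  have h : IsIso u := by
    refine ⟨pullback.fst (A.hom ≫ j) j, e1, ?_⟩
    apply pullback.hom_ext
    · rw [Category.assoc, e1, Category.comp_id, Category.id_comp]
    · rw [← cancel_mono j, Category.assoc, Category.assoc, Category.id_comp, reassoc_of% e2, hc]
  have h2 : IsIso ((Scheme.ProEt.forget U ⋙ Over.forget U).map ((adjS j).unit.app A)) := h
  exact isIso_of_reflects_iso _ (Scheme.ProEt.forget U ⋙ Over.forget U)

instance [hj : WeaklyEtale j] [Mono j] : IsIso (adjS j).unit :=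
  haveI := isIso_unit_adjS j
  NatIso.isIso_of_isIso_app _

/-- the adjunction `j⁻¹ ⊣ j_*` where `j⁻¹` is restriction -/
noncomputable def restrPushAdj [WeaklyEtale j] [ProEtS.JPCont j] [ProEtS.PCont j] :
    ProEtS.restrP j ⊣ ProEtS.pushP j :=
  (adjS j).sheafPushforwardContinuous (E := AddCommGrpCat.{u + 1}) (Scheme.ProEt.topology U)
    (Scheme.ProEt.topology X)

theorem isIso_counit_restrPushAdj [WeaklyEtale j] [Mono j] [ProEtS.JPCont j] [ProEtS.PCont j] :
    IsIso (restrPushAdj j).counit := by
  haveI : ∀ P : ProEtS.AbP U, IsIso ((restrPushAdj j).counit.app P) := by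
    intro P
    haveI : IsIso ((sheafToPresheaf _ _).map ((restrPushAdj j).counit.app P)) := by
      change IsIso (((adjS j).op.whiskerLeft _).counit.app P.obj)
      haveI : ∀ Y, IsIso ((((adjS j).op.whiskerLeft AddCommGrpCat.{u + 1}).counit.app P.obj).app Y) := by
        intro Y
        rw [Adjunction.whiskerLeft_counit_app_app]
        haveI : IsIso ((adjS j).op.counit.app Y) := by
          haveI := isIso_unit_adjS j Y.unop
          change IsIso ((adjS j).unit.app Y.unop).op
          infer_instance
        infer_instance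
      exact NatIso.isIso_of_isIso_app _
    exact isIso_of_reflects_iso _ (sheafToPresheaf _ _)
  exact NatIso.isIso_of_isIso_app _

/-- the adjoint triple `j_! ⊣ j⁻¹ ⊣ j_*` -/
noncomputable def triple [WeaklyEtale j] [ProEtS.JPCont j] [ProEtS.PCont j] :
    Adjunction.Triple (ProEtS.extZeroP j) (ProEtS.restrP j) (ProEtS.pushP j) :=
  ⟨ProEtS.extZeroPAdj j, restrPushAdj j⟩

theorem isIso_unit_extZeroPAdj [WeaklyEtale j] [Mono j] [ProEtS.JPCont j] [ProEtS.PCont j] :
    IsIso (ProEtS.extZeroPAdj j).unit :=
  (triple j).isIso_unit_iff_isIso_counit.mpr (isIso_counit_restrPushAdj j)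

/-- `j⁻¹` as pullback along base change is restriction -/
noncomputable def pullPIsoRestrP [WeaklyEtale j] [ProEtS.JPCont j] [ProEtS.PCont j] :
    ProEtS.pullP j ≅ ProEtS.restrP j :=
  (ProEtS.pullPushAdjP j).leftAdjointUniq (restrPushAdj j)

theorem isIso_counit_pullPushAdjP [WeaklyEtale j] [Mono j] [ProEtS.JPCont j] [ProEtS.PCont j]
    (G : ProEtS.AbP U) : IsIso ((ProEtS.pullPushAdjP j).counit.app G) := by
  haveI := isIso_counit_restrPushAdj j
  have h := Adjunction.leftAdjointUniq_hom_app_counit (ProEtS.pullPushAdjP j) (restrPushAdj j) G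
  rw [← h]
  infer_instance

end Groth.Agent.Lib.Helper4.PEOpen
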