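import Mathlib
import Groth.Prelude.Def_ProEtW
import Groth.Agent.Lib.Helper20.SpecTop

/-!
# Splitting a w-local space along a quasi-compact open subset
-/

set_option autoImplicit false
set_option linter.style.haveILetI false
set_option linter.unusedSectionVars false
universe u

namespace Groth.Agent.Lib.Helper4.WLocSplit

open Topology Groth.Agent.Lib.Helper20.SpecTop

theorem exists_homeo_closedPoints' {Y : Type u} [TopologicalSpace Y] (hY : ProEtW.IsWLocal Y) :
    ∃ e : ↥(ProEtW.closedPoints Y) ≃ₜ _root_.ConnectedComponents Y,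
      ∀ t : ↥(ProEtW.closedPoints Y), e t = _root_.ConnectedComponents.mk t.1 := by
  obtain ⟨hs, h0, hu⟩ := hY
  haveI := hs
  haveI hc : CompactSpace ↥(ProEtW.closedPoints Y) := isCompact_iff_compactSpace.mp h0.isCompact
  have hbij := closedPoints_bijective_of_wLocal (X := Y) h0 hu
  haveI : T2Space (_root_.ConnectedComponents Y) := t2Space_connectedComponents
  let κ : ↥(ProEtW.closedPoints Y) → _root_.ConnectedComponents Y :=
    fun x => _root_.ConnectedComponents.mk x.1
  have hκ : Continuous κ :=
    _root_.ConnectedComponents.continuous_coe.comp continuous_subtype_val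
  have hκb : Function.Bijective κ := hbij
  let eq : ↥(ProEtW.closedPoints Y) ≃ _root_.ConnectedComponents Y := Equiv.ofBijective κ hκb
  have heq : Continuous eq := hκ
  exact ⟨heq.homeoOfEquivCompactToT2, fun _ => rfl⟩

theorem mk_eq_of_specializes {Y : Type*} [TopologicalSpace Y] {y z : Y} (h : y ⤳ z) :
    (_root_.ConnectedComponents.mk z : _root_.ConnectedComponents Y) =
      _root_.ConnectedComponents.mk y := by
  rw [ConnectedComponents.coe_eq_coe']
  have h1 : z ∈ closure ({y} : Set Y) := specializes_iff_mem_closure.mp h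
  have h2 : IsPreconnected (closure ({y} : Set Y)) := isPreconnected_singleton.closure
  exact h2.subset_connectedComponent (subset_closure rfl) h1

/-- In a w-local space, a quasi-compact open `T` contains a clopen subset `Y₂` such that every
point outside `Y₂` specializes to a point outside `T`. -/
theorem exists_clopen_split {Y : Type u} [TopologicalSpace Y] (hY : ProEtW.IsWLocal Y)
    (T : Set Y) (hTo : IsOpen T) (hTc : IsCompact T) :
    ∃ Y₂ : Set Y, IsClopen Y₂ ∧ Y₂ ⊆ T ∧ ∀ y, y ∉ Y₂ → ∃ z, z ∉ T ∧ y ⤳ z := by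
  obtain ⟨e, he⟩ := exists_homeo_closedPoints' hY
  obtain ⟨hs, h0, hu⟩ := hY
  haveI := hs
  haveI hc : CompactSpace ↥(ProEtW.closedPoints Y) := isCompact_iff_compactSpace.mp h0.isCompact
  haveI : T2Space (_root_.ConnectedComponents Y) := t2Space_connectedComponents
  haveI : T2Space ↥(ProEtW.closedPoints Y) := e.symm.t2Space
  let r : Y → ↥(ProEtW.closedPoints Y) := fun y => e.symm (_root_.ConnectedComponents.mk y)
  have hr : Continuous r := e.symm.continuous.comp _root_.ConnectedComponents.continuous_coe
  have hspec : ∀ y, y ⤳ (r y).1 := by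
    intro y
    obtain ⟨z, ⟨hz1, hz2⟩, -⟩ := hu y
    have h1 : e ⟨z, hz1⟩ = _root_.ConnectedComponents.mk y := by
      rw [he]
      exact mk_eq_of_specializes hz2
    have h2 : r y = ⟨z, hz1⟩ := by
      change e.symm _ = _
      rw [← h1, e.symm_apply_apply]
    rw [h2]
    exact hz2
  let S₂ : Set ↥(ProEtW.closedPoints Y) := Subtype.val ⁻¹' T
  have hS₂o : IsOpen S₂ := hTo.preimage continuous_subtype_val
  have h0' : IsClosed (ProEtW.closedPoints Y) := h0
  have hS₂c : IsClosed S₂ :=
    (h0'.isClosedEmbedding_subtypeVal.isCompact_preimage hTc).isClosed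
  refine ⟨r ⁻¹' S₂, ⟨hS₂c.preimage hr, hS₂o.preimage hr⟩, ?_, ?_⟩
  · intro y hy
    exact (hspec y).mem_open hTo hy
  · intro y hy
    exact ⟨(r y).1, hy, hspec y⟩

end Groth.Agent.Lib.Helper4.WLocSplit
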