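import Mathlib
import Groth.Prelude.Def_ProEtS
import Groth.Prelude.Def_PBC
import Groth.Agent.Lib.Helper4.PEOpen1
import Groth.Agent.Lib.Helper4.PEBasis
import Groth.Agent.Lib.Helper4.PE16
import Groth.Agent.Lib.Helper4.WLocSplit
import Groth.Agent.Lib.Helper4.WcCover
import Groth.Agent.Lib.Helper4.Wc3

/-!
# Extension by zero along a quasi-compact open immersion: sections over w-contractible objects
-/

set_option autoImplicit false
set_option linter.style.haveILetI false
set_option linter.unusedSectionVars false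
universe u

namespace Groth.Agent.Lib.Helper4.PEOpen

open CategoryTheory CategoryTheory.Limits AlgebraicGeometry Opposite Groth.Agent.Lib.Helper4.PE

variable {U X : Scheme.{u}} (j : U ⟶ X)

theorem exists_clopen_split [IsOpenImmersion j] [QuasiCompact j] (W : X.ProEt) [IsAffine W.left]
    (hwc : EtPBC.IsWContractible Γ(W.left, ⊤)) :
    ∃ Y₂ : W.left.Opens, IsClopen (Y₂ : Set W.left) ∧
      (Y₂ : Set W.left) ⊆ W.hom.base ⁻¹' Set.range j.base ∧
      ∀ y : W.left, y ∉ Y₂ → ∃ z : W.left, W.hom.base z ∈ (Set.range j.base)ᶜ ∧ y ⤳ z := by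
  obtain ⟨hWl, -, -⟩ := Wc.of_isWContractible _ hwc
  haveI : SpectralSpace ↥W.left := {}
  have hY : ProEtW.IsWLocal ↥W.left :=
    WcCover.isWLocal_of_homeomorph (Scheme.homeoOfIso W.left.isoSpec) hWl
  let T : Set W.left := W.hom.base ⁻¹' Set.range j.base
  have hTo : IsOpen T := j.isOpenEmbedding.isOpen_range.preimage W.hom.continuous
  have hTc : IsCompact T := by
    have h1 : Set.range (pullback.fst W.hom j).base = T := Scheme.Pullback.range_fst W.hom j
    rw [← h1]
    haveI : CompactSpace ↥((𝟭 Scheme).obj W.left) := inferInstanceAs (CompactSpace ↥W.left)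
    haveI : CompactSpace ↥(pullback W.hom j) :=
      QuasiCompact.compactSpace_of_compactSpace (pullback.fst W.hom j)
    exact isCompact_range (pullback.fst W.hom j).continuous
  obtain ⟨Y₂, hcl, hsub, hsp⟩ := WLocSplit.exists_clopen_split hY T hTo hTc
  exact ⟨⟨Y₂, hcl.isOpen⟩, hcl, hsub, fun y hy => hsp y hy⟩

theorem isAffine_opens_of_isClosed {Y : Scheme.{u}} (O : Y.Opens) (h : IsClosed (O : Set Y))
    [IsAffine Y] : IsAffine O.toScheme := by
  haveI : IsClosedImmersion O.ι := IsClosedImmersion.of_isPreimmersion _ (by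
      rw [Scheme.Opens.range_ι]; exact h)
  exact isAffine_of_isAffineHom O.ι

set_option maxHeartbeats 1000000 in
theorem bijective_res [WeaklyEtale j] [ProEtS.JPCont j] (W : X.ProEt) [IsAffine W.left]
    (Y₂ : W.left.Opens) (hcl : IsClopen (Y₂ : Set W.left))
    (hsp : ∀ y : W.left, y ∉ Y₂ → ∃ z : W.left, W.hom.base z ∈ (Set.range j.base)ᶜ ∧ y ⤳ z)
    (F : ProEtS.AbP U) :
    Function.Bijective (((ProEtS.extZeroP j).obj F).obj.map (opnι W Y₂).op) := by
  classical
  let Y₁ : W.left.Opens := ⟨(Y₂ : Set W.left)ᶜ, hcl.compl.isOpen⟩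
  haveI : IsAffine (opn W Y₁).left := isAffine_opens_of_isClosed Y₁ hcl.compl.isClosed
  have hsub : Subsingleton (((ProEtS.extZeroP j).obj F).obj.obj (op (opn W Y₁))) := by
    refine extZeroP_sections_subsingleton' j (Set.range j.base)ᶜ disjoint_compl_right
      (opn W Y₁) ?_ F
    intro v
    have hv : Y₁.ι.base v ∉ Y₂ := (show Y₁.ι.base v ∈ Y₁ from v.2)
    obtain ⟨z, hz, hvz⟩ := hsp (Y₁.ι.base v) hv
    have hz1 : z ∈ Y₁ := hvz.mem_closed hcl.compl.isClosed (show Y₁.ι.base v ∈ Y₁ from v.2)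
    refine ⟨⟨z, hz1⟩, hz, ?_⟩
    exact Y₁.ι.isOpenEmbedding.isInducing.specializes_iff.mp hvz
  let K := Scheme.ProEt.topology X
  let G := (ProEtS.extZeroP j).obj F
  let Gt : Sheaf K (Type (u + 1)) := (sheafCompose K (forget AddCommGrpCat.{u + 1})).obj G
  let Wk : Bool → W.left.Opens := fun b => cond b Y₂ Y₁
  have hdisj : ∀ k l, k ≠ l → Disjoint (Wk k : Set W.left) (Wk l) := by
    intro k l hkl
    cases k <;> cases l
    · exact absurd rfl hkl
    · exact disjoint_compl_left
    · exact disjoint_compl_right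
    · exact absurd rfl hkl
  have hcov : (⋃ k, (Wk k : Set W.left)) = Set.univ := by
    rw [Set.eq_univ_iff_forall]
    intro x
    by_cases hx : x ∈ Y₂
    · exact Set.mem_iUnion.mpr ⟨true, hx⟩
    · exact Set.mem_iUnion.mpr ⟨false, hx⟩
  constructor
  · intro a b hab
    obtain ⟨t, -, htu⟩ := exists_glue Gt Wk hdisj hcov
      (fun k => Gt.obj.map (opnι W (Wk k)).op a)
    have ha : a = t := htu a (fun k => rfl)
    have hb : b = t := by
      apply htu b
      intro k
      cases k
      · exact hsub.elim _ _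
      · exact hab.symm
    rw [ha, hb]
  · intro t₂
    let x : ∀ k, Gt.obj.obj (op (opn W (Wk k))) := fun k =>
      match k with
      | true => t₂
      | false => (0 : G.obj.obj (op (opn W Y₁)))
    obtain ⟨t, ht, -⟩ := exists_glue Gt Wk hdisj hcov x
    exact ⟨t, ht true⟩

end Groth.Agent.Lib.Helper4.PEOpen
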