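import Mathlib
import Groth.Prelude.Def_ProEtS
import Groth.Prelude.Def_PBC
import Groth.Agent.Lib.Helper4.PEOpen2
import Groth.Agent.Lib.Helper4.PECont

/-!
# Extension by zero along a quasi-compact open immersion preserves limits
-/

set_option autoImplicit false
set_option linter.style.haveILetI false
set_option linter.unusedSectionVars false
universe u

namespace Groth.Agent.Lib.Helper4.PEOpen

open CategoryTheory CategoryTheory.Limits AlgebraicGeometry Opposite Groth.Agent.Lib.Helper4.PE
open Groth.Agent.Lib.Helper4.PEBasis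

variable {U X : Scheme.{u}} (j : U ⟶ X)

set_option backward.isDefEq.respectTransparency.types false in
theorem isIso_counit_adjS [IsOpenImmersion j] (V : X.ProEt)
    (hV : Set.range V.hom.base ⊆ Set.range j.base) : IsIso ((adjS j).counit.app V) := by
  have h : IsIso (pullback.fst V.hom j) := by
    haveI : Epi (pullback.fst V.hom j).base := by
      rw [TopCat.epi_iff_surjective]
      intro x
      have : x ∈ Set.range (pullback.fst V.hom j).base := by
        rw [Scheme.Pullback.range_fst]
        exact hV ⟨x, rfl⟩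
      exact this
    exact IsOpenImmersion.isIso _
  have h2 : IsIso ((Scheme.ProEt.forget X ⋙ Over.forget X).map ((adjS j).counit.app V)) := h
  exact isIso_of_reflects_iso _ (Scheme.ProEt.forget X ⋙ Over.forget X)

end Groth.Agent.Lib.Helper4.PEOpen

namespace Groth.Agent.Lib.Helper4.PEOpen

open CategoryTheory CategoryTheory.Limits AlgebraicGeometry Opposite Groth.Agent.Lib.Helper4.PE
open Groth.Agent.Lib.Helper4.PEBasis

variable {U X : Scheme.{u}} (j : U ⟶ X)

/-- sections functor on `U` -/
noncomputable abbrev evU (V : U.ProEt) : ProEtS.AbP U ⥤ AddCommGrpCat.{u + 1} := ev V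

set_option backward.isDefEq.respectTransparency.types false in
set_option maxHeartbeats 1000000 in
theorem preservesLimitsOfShape_extZeroP_comp_ev [IsOpenImmersion j] [QuasiCompact j]
    [ProEtS.JPCont j] (J : Type u) [SmallCategory J] (W : X.ProEt) [IsAffine W.left]
    (hwc : EtPBC.IsWContractible Γ(W.left, ⊤)) :
    PreservesLimitsOfShape J (ProEtS.extZeroP j ⋙ ev W) := by
  haveI : ProEtS.PCont j := PECont.pCont j
  obtain ⟨Y₂, hcl, hsub, hsp⟩ := exists_clopen_split j W hwc
  let V₂ := opn W Y₂
  let V' : U.ProEt := (ProEtS.bcP j).obj V₂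
  have hV₂ : Set.range V₂.hom.base ⊆ Set.range j.base := by
    rintro _ ⟨v, rfl⟩
    exact hsub (show Y₂.ι.base v ∈ Y₂ from v.2)
  haveI hε : IsIso ((adjS j).counit.app V₂) := isIso_counit_adjS j V₂ hV₂
  let g : (ProEtS.compP j).obj V' ⟶ W := (adjS j).counit.app V₂ ≫ opnι W Y₂
  let α : ProEtS.extZeroP j ⋙ ev W ⟶ ProEtS.extZeroP j ⋙ ev ((ProEtS.compP j).obj V') :=
    Functor.whiskerLeft (ProEtS.extZeroP j) ((sheafSections _ _).map g.op)
  haveI hα : IsIso α := by
    haveI : ∀ F, IsIso (α.app F) := by
      intro F
      have h1 : α.app F = ((ProEtS.extZeroP j).obj F).obj.map (opnι W Y₂).op ≫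
          ((ProEtS.extZeroP j).obj F).obj.map ((adjS j).counit.app V₂).op := by
        change ((ProEtS.extZeroP j).obj F).obj.map g.op = _
        rw [← Functor.map_comp, ← op_comp]
      rw [h1]
      haveI : IsIso (((ProEtS.extZeroP j).obj F).obj.map (opnι W Y₂).op) :=
        (ConcreteCategory.isIso_iff_bijective _).mpr (bijective_res j W Y₂ hcl hsp F)
      infer_instance
    exact NatIso.isIso_of_isIso_app α
  let β : ev V' ⟶ ProEtS.extZeroP j ⋙ ev ((ProEtS.compP j).obj V') :=
    { app := fun F => ((ProEtS.extZeroPAdj j).unit.app F).hom.app (op V')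
      naturality := by
        intro F G φ
        have := congrArg (fun ψ => ψ.hom.app (op V')) ((ProEtS.extZeroPAdj j).unit.naturality φ)
        exact this }
  haveI hβ : IsIso β := by
    haveI := isIso_unit_extZeroPAdj j
    haveI : ∀ F, IsIso (β.app F) := by
      intro F
      exact inferInstanceAs (IsIso ((ev V').map ((ProEtS.extZeroPAdj j).unit.app F)))
    exact NatIso.isIso_of_isIso_app β
  exact preservesLimitsOfShape_of_natIso ((asIso β) ≪≫ (asIso α).symm)

theorem preservesLimitsOfShape_extZeroP [IsOpenImmersion j] [QuasiCompact j]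
    [ProEtS.JPCont j] (J : Type u) [SmallCategory J] :
    PreservesLimitsOfShape J (ProEtS.extZeroP j) :=
  preservesLimitsOfShape_of_ev J _ (fun W hW hwc =>
    haveI := hW
    preservesLimitsOfShape_extZeroP_comp_ev j J W hwc)

end Groth.Agent.Lib.Helper4.PEOpen
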