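import Mathlib
import Groth.Prelude.Def_ProEtS
import Groth.Agent.Lib.Helper4.PEOpen3
import Groth.Agent.Lib.Helper4.PEAb3

/-!
# Auxiliary facts for the open-closed decomposition sequence on the pro-étale site
-/

set_option autoImplicit false
set_option linter.style.haveILetI false
set_option linter.unusedSectionVars false
universe u

namespace Groth.Agent.Lib.Helper4.PEClosed

open CategoryTheory CategoryTheory.Limits AlgebraicGeometry Opposite Groth.Agent.Lib.Helper4.PE
  Groth.Agent.Lib.Helper4.PEOpen Groth.Agent.Lib.Helper4.PEAb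

variable {X : Scheme.{u}}

section twoPartition

variable (W : X.ProEt) (Y₂ : W.left.Opens) (hcl : IsClopen (Y₂ : Set W.left))

/-- the complementary open -/
def compl : W.left.Opens := ⟨(Y₂ : Set W.left)ᶜ, hcl.compl.isOpen⟩

/-- the two-piece partition -/
def Wk : Bool → W.left.Opens := fun b => cond b Y₂ (compl W Y₂ hcl)

theorem hdisj : ∀ k l, k ≠ l → Disjoint (Wk W Y₂ hcl k : Set W.left) (Wk W Y₂ hcl l) := by
  intro k l hkl
  cases k <;> cases l
  · exact absurd rfl hkl
  · exact disjoint_compl_left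
  · exact disjoint_compl_right
  · exact absurd rfl hkl

theorem hcov : (⋃ k, (Wk W Y₂ hcl k : Set W.left)) = Set.univ := by
  rw [Set.eq_univ_iff_forall]
  intro x
  by_cases hx : x ∈ Y₂
  · exact Set.mem_iUnion.mpr ⟨true, hx⟩
  · exact Set.mem_iUnion.mpr ⟨false, hx⟩

/-- separatedness over the two-piece partition -/
theorem sep2 (G : ProEtS.AbP X) (s t : G.obj.obj (op W))
    (h1 : G.obj.map (opnι W (compl W Y₂ hcl)).op s = G.obj.map (opnι W (compl W Y₂ hcl)).op t)
    (h2 : G.obj.map (opnι W Y₂).op s = G.obj.map (opnι W Y₂).op t) : s = t := by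
  obtain ⟨t0, -, htu⟩ := exists_glue (toT G) (Wk W Y₂ hcl) (hdisj W Y₂ hcl) (hcov W Y₂ hcl)
    (fun k => (toT G).obj.map (opnι W (Wk W Y₂ hcl k)).op s)
  have hs : s = t0 := htu s (fun k => rfl)
  have ht : t = t0 := by
    apply htu t
    intro k
    cases k
    · exact h1.symm
    · exact h2.symm
  rw [hs, ht]

/-- gluing over the two-piece partition -/
theorem glue2 (G : ProEtS.AbP X) (s₁ : G.obj.obj (op (opn W (compl W Y₂ hcl))))
    (s₂ : G.obj.obj (op (opn W Y₂))) :
    ∃ s : G.obj.obj (op W), G.obj.map (opnι W (compl W Y₂ hcl)).op s = s₁ ∧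
      G.obj.map (opnι W Y₂).op s = s₂ := by
  let x : ∀ k, (toT G).obj.obj (op (opn W (Wk W Y₂ hcl k))) := fun k =>
    match k with
    | true => s₂
    | false => s₁
  obtain ⟨t, ht, -⟩ := exists_glue (toT G) (Wk W Y₂ hcl) (hdisj W Y₂ hcl) (hcov W Y₂ hcl) x
  exact ⟨t, ht false, ht true⟩

end twoPartition

/-- abelian sheaves have at most one section over empty objects -/
theorem subsingleton_sections_of_isEmpty (G : ProEtS.AbP X) (T : X.ProEt) [IsEmpty T.left] :
    Subsingleton (G.obj.obj (op T)) :=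
  ⟨fun a b => subsingleton_of_isEmpty (toT G) T a b⟩

variable {Z U : Scheme.{u}} (i : Z ⟶ X) (j : U ⟶ X)

set_option backward.isDefEq.respectTransparency.types false in
/-- objects lying over the image of `j` have empty base change to `Z` -/
theorem isEmpty_bcP (hc : Set.range j.base = (Set.range i.base)ᶜ) (V : X.ProEt)
    (hV : Set.range V.hom.base ⊆ Set.range j.base) : IsEmpty ((ProEtS.bcP i).obj V).left := by
  refine ⟨fun z => ?_⟩
  have h1 : pullback.fst V.hom i ≫ V.hom = pullback.snd V.hom i ≫ i := pullback.condition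
  have h2 : (pullback.fst V.hom i ≫ V.hom).base z ∈ Set.range j.base := by
    rw [Scheme.Hom.comp_apply]
    exact hV ⟨_, rfl⟩
  have h3 : (pullback.fst V.hom i ≫ V.hom).base z ∈ Set.range i.base := by
    rw [h1, Scheme.Hom.comp_apply]
    exact ⟨_, rfl⟩
  rw [hc] at h2
  exact h2 h3

end Groth.Agent.Lib.Helper4.PEClosed
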