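import Mathlib
import Groth.Prelude.Def_ProEtS
import Groth.Agent.Lib.Helper4.PEClosed1
import Groth.Agent.Lib.Helper4.PECont

/-!
# The counit `j_! j⁻¹ F → F` over objects lying in the image of `j`, and the zero composite
-/

set_option autoImplicit false
set_option linter.style.haveILetI false
set_option linter.unusedSectionVars false
universe u

namespace Groth.Agent.Lib.Helper4.PEClosed

open CategoryTheory CategoryTheory.Limits AlgebraicGeometry Opposite Groth.Agent.Lib.Helper4.PE
  Groth.Agent.Lib.Helper4.PEOpen Groth.Agent.Lib.Helper4.PEAb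

variable {X Z U : Scheme.{u}} (i : Z ⟶ X) (j : U ⟶ X)

/-- `j⁻¹` of the counit is an isomorphism -/
theorem isIso_restrP_map_counit [IsOpenImmersion j] [ProEtS.JPCont j] (F : ProEtS.AbP X) :
    IsIso ((ProEtS.restrP j).map ((ProEtS.extZeroPAdj j).counit.app F)) := by
  haveI : ProEtS.PCont j := PECont.pCont j
  haveI := isIso_unit_extZeroPAdj j
  have h := (ProEtS.extZeroPAdj j).right_triangle_components F
  haveI : IsIso ((ProEtS.extZeroPAdj j).unit.app ((ProEtS.restrP j).obj F)) := inferInstance
  haveI : IsIso ((ProEtS.extZeroPAdj j).unit.app ((ProEtS.restrP j).obj F) ≫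
      (ProEtS.restrP j).map ((ProEtS.extZeroPAdj j).counit.app F)) := by
    rw [h]
    exact IsIso.id _
  exact IsIso.of_isIso_comp_left ((ProEtS.extZeroPAdj j).unit.app ((ProEtS.restrP j).obj F)) _

set_option maxHeartbeats 1000000 in
/-- (F4) the counit is bijective on sections over objects lying in the image of `j` -/
theorem counit_bijective_of_range_subset [IsOpenImmersion j] [ProEtS.JPCont j] (F : ProEtS.AbP X)
    (V₂ : X.ProEt) (hV₂ : Set.range V₂.hom.base ⊆ Set.range j.base) :
    Function.Bijective (((ProEtS.extZeroPAdj j).counit.app F).hom.app (op V₂)) := by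
  let ε := (ProEtS.extZeroPAdj j).counit.app F
  let V' : U.ProEt := (ProEtS.bcP j).obj V₂
  haveI hg : IsIso ((adjS j).counit.app V₂) := isIso_counit_adjS j V₂ hV₂
  let g : (ProEtS.compP j).obj V' ⟶ V₂ := (adjS j).counit.app V₂
  haveI : IsIso g := hg
  haveI := isIso_restrP_map_counit j F
  -- bijective over `compP j V'`
  have h1 : Function.Bijective (ε.hom.app (op ((ProEtS.compP j).obj V'))) := by
    have h2 : IsIso (((ProEtS.restrP j).map ε).hom.app (op V')) := by
      have h3 : IsIso ((sheafToPresheaf _ _).map ((ProEtS.restrP j).map ε)) := inferInstance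
      exact NatIso.isIso_app_of_isIso _ _
    exact ConcreteCategory.bijective_of_isIso (((ProEtS.restrP j).map ε).hom.app (op V'))
  -- transport along `g`
  have hnat := ε.hom.naturality g.op
  have hA : Function.Bijective (((ProEtS.restrP j ⋙ ProEtS.extZeroP j).obj F).obj.map g.op) :=
    ConcreteCategory.bijective_of_isIso _
  have hB : Function.Bijective (F.obj.map g.op) := ConcreteCategory.bijective_of_isIso _
  have h4 : ∀ x, F.obj.map g.op (ε.hom.app (op V₂) x) =
      ε.hom.app (op ((ProEtS.compP j).obj V'))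
        (((ProEtS.restrP j ⋙ ProEtS.extZeroP j).obj F).obj.map g.op x) := by
    intro x
    exact (ConcreteCategory.congr_hom hnat x).symm
  constructor
  · intro x y hxy
    apply hA.1
    apply h1.1
    rw [← h4, ← h4, hxy]
  · intro b
    obtain ⟨a', ha'⟩ := h1.2 (F.obj.map g.op b)
    obtain ⟨a, rfl⟩ := hA.2 a'
    refine ⟨a, hB.1 ?_⟩
    rw [h4, ha']

/-- sections of `j⁻¹ i_* G` vanish -/
theorem subsingleton_restrP_pushP [WeaklyEtale j] [ProEtS.JPCont j] [ProEtS.PCont i]
    (hc : Set.range j.base = (Set.range i.base)ᶜ)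
    (G : ProEtS.AbP Z) (V : U.ProEt) :
    Subsingleton (((ProEtS.restrP j).obj ((ProEtS.pushP i).obj G)).obj.obj (op V)) := by
  haveI : IsEmpty ((ProEtS.bcP i).obj ((ProEtS.compP j).obj V)).left := by
    apply isEmpty_bcP i j hc
    rintro _ ⟨v, rfl⟩
    change (V.hom ≫ j).base v ∈ _
    rw [Scheme.Hom.comp_apply]
    exact ⟨_, rfl⟩
  exact subsingleton_sections_of_isEmpty G ((ProEtS.bcP i).obj ((ProEtS.compP j).obj V))

/-- the composite `j_! j⁻¹ F → F → i_* i⁻¹ F` is zero -/
theorem counit_comp_unit_eq_zero [IsOpenImmersion j] [ProEtS.JPCont j] [ProEtS.PCont i]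
    (hc : Set.range j.base = (Set.range i.base)ᶜ) (F : ProEtS.AbP X) :
    (ProEtS.extZeroPAdj j).counit.app F ≫ (ProEtS.pullPushAdjP i).unit.app F = 0 := by
  apply ((ProEtS.extZeroPAdj j).homEquiv _ _).injective
  apply Sheaf.hom_ext
  ext V x
  have h := subsingleton_restrP_pushP i j hc ((ProEtS.pullP i).obj F) V.unop
  exact h.elim _ _

end Groth.Agent.Lib.Helper4.PEClosed
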