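import Mathlib
import Groth.Prelude.Def_ProEtS
import Groth.Prelude.Def_PBC
import Groth.Agent.Lib.Helper4.PEBasis
import Groth.Agent.Lib.Helper4.PEPush1

/-!
# Exactness of complexes of abelian pro-étale sheaves can be checked on sections over
w-contractible affines
-/

set_option autoImplicit false
set_option linter.style.haveILetI false
set_option linter.unusedSectionVars false
universe u

namespace Groth.Agent.Lib.Helper4.PEExact

open CategoryTheory CategoryTheory.Limits AlgebraicGeometry Opposite Groth.Agent.Lib.Helper4.PE
  Groth.Agent.Lib.Helper4.PEBasis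
open ZeroObject

variable {X : Scheme.{u}}

instance ev_additive (W : X.ProEt) : (ev W).Additive :=
  inferInstanceAs (sheafToPresheaf (Scheme.ProEt.topology X) AddCommGrpCat.{u + 1} ⋙
      (evaluation _ _).obj (op W)).Additive

instance ev_preservesFiniteLimits (W : X.ProEt) : PreservesFiniteLimits (ev W) :=
  inferInstanceAs (PreservesFiniteLimits
    (sheafToPresheaf (Scheme.ProEt.topology X) AddCommGrpCat.{u + 1} ⋙
      (evaluation _ _).obj (op W)))

theorem ev_preservesFiniteColimits (W : X.ProEt) (hW : ProEtS.IsWC W) :
    PreservesFiniteColimits (ev W) := by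
  apply Groth.Agent.Lib.Helper4.PEPush.preservesFiniteColimits_of_epi
  intro F G g hg
  rw [AddCommGrpCat.epi_iff_surjective]
  exact Groth.Agent.Lib.Helper4.PEPush.surjective_app_of_epi_of_isWC g W hW

/-- a sheaf all of whose sections over w-contractible affines vanish is zero -/
theorem isZero_of_subsingleton (H : ProEtS.AbP X)
    (h : ∀ W : X.ProEt, IsAffine W.left → EtPBC.IsWContractible Γ(W.left, ⊤) →
      Subsingleton (H.obj.obj (op W))) : IsZero H := by
  have hiso : IsIso (0 : H ⟶ 0) := by
    apply isIso_of_bijective
    intro W hW hwc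
    haveI := h W hW hwc
    have h0 : IsZero ((ev W).obj (0 : ProEtS.AbP X)) := Functor.map_isZero (ev W) (isZero_zero _)
    haveI : Subsingleton ((0 : ProEtS.AbP X).obj.obj (op W)) :=
      AddCommGrpCat.subsingleton_of_isZero h0
    constructor
    · intro a b _
      exact Subsingleton.elim _ _
    · intro b
      exact ⟨0, Subsingleton.elim _ _⟩
  exact IsZero.of_iso (isZero_zero _) (asIso (0 : H ⟶ 0))

/-- (E) exactness is detected on w-contractible affines -/
theorem exact_of_ev (S : ShortComplex (ProEtS.AbP X))
    (h : ∀ W : X.ProEt, IsAffine W.left → EtPBC.IsWContractible Γ(W.left, ⊤) →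
      (S.map (ev W)).Exact) : S.Exact := by
  rw [ShortComplex.exact_iff_isZero_homology]
  apply isZero_of_subsingleton
  intro W hW hwc
  haveI := hW
  haveI := ev_preservesFiniteColimits W (isWC_of_isWContractible W hwc)
  have h1 := (ShortComplex.exact_iff_isZero_homology _).mp (h W hW hwc)
  have h2 : IsZero ((ev W).obj S.homology) := IsZero.of_iso h1 (S.mapHomologyIso (ev W)).symm
  exact AddCommGrpCat.subsingleton_of_isZero h2

/-- (SE) short exactness is detected on w-contractible affines -/
theorem shortExact_of_sections (S : ShortComplex (ProEtS.AbP X))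
    (hinj : ∀ W : X.ProEt, IsAffine W.left → EtPBC.IsWContractible Γ(W.left, ⊤) →
      Function.Injective (S.f.hom.app (op W)))
    (hsurj : ∀ W : X.ProEt, IsAffine W.left → EtPBC.IsWContractible Γ(W.left, ⊤) →
      Function.Surjective (S.g.hom.app (op W)))
    (hex : ∀ W : X.ProEt, IsAffine W.left → EtPBC.IsWContractible Γ(W.left, ⊤) →
      ∀ b : S.X₂.obj.obj (op W), S.g.hom.app (op W) b = 0 → ∃ a, S.f.hom.app (op W) a = b) :
    S.ShortExact := by
  have hE : S.Exact := by
    apply exact_of_ev
    intro W hW hwc
    rw [ShortComplex.ab_exact_iff]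
    exact hex W hW hwc
  have hM : Mono S.f := by
    let S' : ShortComplex (ProEtS.AbP X) := ShortComplex.mk (0 : S.X₁ ⟶ S.X₁) S.f zero_comp
    have h1 : S'.Exact := by
      apply exact_of_ev
      intro W hW hwc
      rw [ShortComplex.ab_exact_iff]
      intro x hx
      refine ⟨0, ?_⟩
      have hx' : S.f.hom.app (op W) x = S.f.hom.app (op W) 0 := by
        rw [map_zero]
        exact hx
      rw [hinj W hW hwc hx']
      exact map_zero _
    exact (S'.exact_iff_mono rfl).mp h1
  have hEp : Epi S.g := by
    let S'' : ShortComplex (ProEtS.AbP X) := ShortComplex.mk S.g (0 : S.X₃ ⟶ S.X₃) comp_zero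
    have h1 : S''.Exact := by
      apply exact_of_ev
      intro W hW hwc
      rw [ShortComplex.ab_exact_iff]
      intro x _
      exact hsurj W hW hwc x
    exact (S''.exact_iff_epi rfl).mp h1
  exact ShortComplex.ShortExact.mk hE

end Groth.Agent.Lib.Helper4.PEExact
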