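import Mathlib
import Groth.Prelude.Def_ProEtS
import Groth.Prelude.Def_PBC
import Groth.Agent.Lib.Helper4.WcFin7
import Groth.Agent.Lib.Helper4.PEOpen2

/-!
# Clopen subschemes of w-contractible affine schemes are w-contractible
-/

set_option autoImplicit false
set_option linter.style.haveILetI false
set_option linter.unusedSectionVars false
universe u

namespace Groth.Agent.Lib.Helper4.WcClopen

open CategoryTheory CategoryTheory.Limits AlgebraicGeometry Opposite

/-- range of the map of spectra induced by a morphism of affine schemes -/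
theorem range_comap_appTop {P W : Scheme.{u}} [IsAffine P] [IsAffine W] (p : P ⟶ W) :
    Set.range (PrimeSpectrum.comap p.appTop.hom) = W.isoSpec.hom.base '' (Set.range p.base) := by
  have hnat : Spec.map p.appTop = P.isoSpec.inv ≫ p ≫ W.isoSpec.hom := by
    rw [← Scheme.isoSpec_hom_naturality, Iso.inv_hom_id_assoc]
  change Set.range (Spec.map p.appTop).base = _
  rw [hnat]
  ext x
  constructor
  · rintro ⟨y, rfl⟩
    exact ⟨p.base (P.isoSpec.inv.base y), ⟨_, rfl⟩, rfl⟩
  · rintro ⟨_, ⟨y, rfl⟩, rfl⟩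
    refine ⟨P.isoSpec.hom.base y, ?_⟩
    rw [← Scheme.Hom.comp_apply, Iso.hom_inv_id_assoc, Scheme.Hom.comp_apply]

theorem isWContractible_opens_of_isClopen {W : Scheme.{u}} [IsAffine W]
    (hwc : EtPBC.IsWContractible Γ(W, ⊤)) (O : W.Opens) (hO : IsClopen (O : Set W)) :
    ∃ _ : IsAffine O.toScheme, EtPBC.IsWContractible Γ(O.toScheme, ⊤) := by
  haveI : IsClosedImmersion O.ι := IsClosedImmersion.of_isPreimmersion _ (by
      rw [Scheme.Opens.range_ι]; exact hO.isClosed)
  obtain ⟨haff, hsurj⟩ := IsClosedImmersion.isAffine_surjective_of_isAffine O.ι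
  haveI := haff
  refine ⟨haff, ?_⟩
  letI : Algebra Γ(W, ⊤) Γ(O.toScheme, ⊤) := O.ι.appTop.hom.toAlgebra
  refine Groth.Agent.Lib.Helper4.WcFin.isWContractible_of_surjective' Γ(W, ⊤) Γ(O.toScheme, ⊤)
    hsurj ?_ hwc
  have h1 : IsOpen (Set.range (PrimeSpectrum.comap O.ι.appTop.hom)) := by
    rw [range_comap_appTop, Scheme.Opens.range_ι]
    exact (Scheme.homeoOfIso W.isoSpec).isOpenMap _ O.2
  exact h1.preimage continuous_subtype_val

end Groth.Agent.Lib.Helper4.WcClopen
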