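import Mathlib
import Groth.Prelude.Def_ProEtS
import Groth.Agent.Lib.Helper4.PEClosed2
import Groth.Agent.Lib.Helper4.PEExact
import Groth.Agent.Lib.Helper4.HSch6
import Groth.Agent.Lib.Helper4.WcClopen

/-!
# The open-closed decomposition sequence `0 → j_! j⁻¹ F → F → i_* i⁻¹ F → 0` is short exact
-/

set_option autoImplicit false
set_option linter.style.haveILetI false
set_option linter.unusedSectionVars false
universe u

namespace Groth.Agent.Lib.Helper4.PEClosed

open CategoryTheory CategoryTheory.Limits AlgebraicGeometry Opposite Groth.Agent.Lib.Helper4.PE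
  Groth.Agent.Lib.Helper4.PEOpen Groth.Agent.Lib.Helper4.PEAb

variable {X Z U : Scheme.{u}} (i : Z ⟶ X) (j : U ⟶ X)

set_option maxHeartbeats 2000000 in
theorem shortExact [IsClosedImmersion i] [IsOpenImmersion j] [QuasiCompact j]
    (hc : Set.range j.base = (Set.range i.base)ᶜ) [ProEtS.JPCont j] [ProEtS.PCont i]
    (F : ProEtS.AbP X) :
    (ShortComplex.mk _ _ (counit_comp_unit_eq_zero i j hc F)).ShortExact := by
  let ε := (ProEtS.extZeroPAdj j).counit.app F
  let η := (ProEtS.pullPushAdjP i).unit.app F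
  -- the data over a w-contractible affine
  have key : ∀ W : X.ProEt, IsAffine W.left → EtPBC.IsWContractible Γ(W.left, ⊤) →
      ∃ (Y₂ : W.left.Opens) (hcl : IsClopen (Y₂ : Set W.left)),
        Function.Bijective (ε.hom.app (op (opn W Y₂))) ∧
        Function.Bijective (((ProEtS.restrP j ⋙ ProEtS.extZeroP j).obj F).obj.map
          (opnι W Y₂).op) ∧
        Subsingleton (((ProEtS.restrP j ⋙ ProEtS.extZeroP j).obj F).obj.obj
          (op (opn W (compl W Y₂ hcl)))) ∧
        Function.Bijective (η.hom.app (op (opn W (compl W Y₂ hcl)))) ∧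
        Subsingleton (((ProEtS.pullP i ⋙ ProEtS.pushP i).obj F).obj.obj (op (opn W Y₂))) := by
    intro W hW hwc
    haveI := hW
    obtain ⟨Y₂, hcl, hsub, hsp⟩ := exists_clopen_split j W hwc
    refine ⟨Y₂, hcl, ?_, ?_, ?_, ?_, ?_⟩
    · apply counit_bijective_of_range_subset j F
      rintro _ ⟨v, rfl⟩
      exact hsub (show Y₂.ι.base v ∈ Y₂ from v.2)
    · exact bijective_res j W Y₂ hcl hsp ((ProEtS.restrP j).obj F)
    · haveI : IsAffine (opn W (compl W Y₂ hcl)).left :=
        isAffine_opens_of_isClosed (compl W Y₂ hcl) hcl.compl.isClosed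
      refine extZeroP_sections_subsingleton' j (Set.range j.base)ᶜ disjoint_compl_right
        (opn W (compl W Y₂ hcl)) ?_ ((ProEtS.restrP j).obj F)
      intro v
      have hv : (compl W Y₂ hcl).ι.base v ∉ Y₂ :=
        (show (compl W Y₂ hcl).ι.base v ∈ compl W Y₂ hcl from v.2)
      obtain ⟨z, hz, hvz⟩ := hsp ((compl W Y₂ hcl).ι.base v) hv
      have hz1 : z ∈ compl W Y₂ hcl := hvz.mem_closed hcl.compl.isClosed
        (show (compl W Y₂ hcl).ι.base v ∈ compl W Y₂ hcl from v.2)
      refine ⟨⟨z, hz1⟩, hz, ?_⟩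
      exact (compl W Y₂ hcl).ι.isOpenEmbedding.isInducing.specializes_iff.mp hvz
    · obtain ⟨haff₁, hwc₁⟩ := Groth.Agent.Lib.Helper4.WcClopen.isWContractible_opens_of_isClopen
        hwc (compl W Y₂ hcl) hcl.compl
      haveI : IsAffine (opn W (compl W Y₂ hcl)).left := haff₁
      refine Groth.Agent.Lib.Helper4.HSch.unit_bijective i F (opn W (compl W Y₂ hcl)) hwc₁ ?_
      intro w hw
      -- `w` is a closed point of the clopen piece, hence of `W`
      have hwcl : IsClosed ({(compl W Y₂ hcl).ι.base w} : Set W.left) := by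
        have hemb : Topology.IsClosedEmbedding (compl W Y₂ hcl).ι.base := by
          refine ⟨(compl W Y₂ hcl).ι.isOpenEmbedding.isEmbedding, ?_⟩
          rw [Scheme.Opens.range_ι]
          exact hcl.compl.isClosed
        have h := hemb.isClosedMap _ hw
        have e : (compl W Y₂ hcl).ι.base '' {w} = {(compl W Y₂ hcl).ι.base w} :=
          Set.image_singleton
        rw [← e]
        exact h
      have hv : (compl W Y₂ hcl).ι.base w ∉ Y₂ :=
        (show (compl W Y₂ hcl).ι.base w ∈ compl W Y₂ hcl from w.2)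
      obtain ⟨z, hz, hvz⟩ := hsp _ hv
      have hzw : z = (compl W Y₂ hcl).ι.base w := by
        have := hvz.mem_closed hwcl rfl
        exact this
      rw [hzw, hc, compl_compl] at hz
      change ((compl W Y₂ hcl).ι ≫ W.hom).base w ∈ Set.range i.base
      rw [Scheme.Hom.comp_apply]
      exact hz
    · haveI : IsEmpty ((ProEtS.bcP i).obj (opn W Y₂)).left := by
        apply isEmpty_bcP i j hc
        rintro _ ⟨v, rfl⟩
        exact hsub (show Y₂.ι.base v ∈ Y₂ from v.2)
      exact subsingleton_sections_of_isEmpty ((ProEtS.pullP i).obj F)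
        ((ProEtS.bcP i).obj (opn W Y₂))
  apply Groth.Agent.Lib.Helper4.PEExact.shortExact_of_sections
  · -- injectivity
    intro W hW hwc x y hxy
    obtain ⟨Y₂, hcl, hF4, hres, hF1, hF2, hF3⟩ := key W hW hwc
    apply hres.1
    apply hF4.1
    have h1 := ConcreteCategory.congr_hom (ε.hom.naturality (opnι W Y₂).op) x
    have h2 := ConcreteCategory.congr_hom (ε.hom.naturality (opnι W Y₂).op) y
    exact h1.trans ((congrArg (F.obj.map (opnι W Y₂).op) hxy).trans h2.symm)
  · -- surjectivity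
    intro W hW hwc t
    obtain ⟨Y₂, hcl, hF4, hres, hF1, hF2, hF3⟩ := key W hW hwc
    obtain ⟨b₁, hb₁⟩ := hF2.2
      (((ProEtS.pullP i ⋙ ProEtS.pushP i).obj F).obj.map (opnι W (compl W Y₂ hcl)).op t)
    obtain ⟨b, hb1, hb2⟩ := glue2 W Y₂ hcl F b₁ 0
    refine ⟨b, ?_⟩
    apply sep2 W Y₂ hcl ((ProEtS.pullP i ⋙ ProEtS.pushP i).obj F)
    · have h1 := ConcreteCategory.congr_hom (η.hom.naturality (opnι W (compl W Y₂ hcl)).op) b
      refine h1.symm.trans ?_
      change η.hom.app (op (opn W (compl W Y₂ hcl))) (F.obj.map (opnι W (compl W Y₂ hcl)).op b) = _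
      rw [hb1, hb₁]
    · exact hF3.elim _ _
  · -- exactness
    intro W hW hwc b hb
    obtain ⟨Y₂, hcl, hF4, hres, hF1, hF2, hF3⟩ := key W hW hwc
    have hb1 : F.obj.map (opnι W (compl W Y₂ hcl)).op b = 0 := by
      apply hF2.1
      have h1 := ConcreteCategory.congr_hom (η.hom.naturality (opnι W (compl W Y₂ hcl)).op) b
      rw [map_zero]
      refine h1.trans ?_
      change ((ProEtS.pullP i ⋙ ProEtS.pushP i).obj F).obj.map (opnι W (compl W Y₂ hcl)).op
        (η.hom.app (op W) b) = 0
      rw [hb, map_zero]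
    obtain ⟨a₂, ha₂⟩ := hF4.2 (F.obj.map (opnι W Y₂).op b)
    obtain ⟨a, ha⟩ := hres.2 a₂
    refine ⟨a, ?_⟩
    apply sep2 W Y₂ hcl F
    · have h1 := ConcreteCategory.congr_hom (ε.hom.naturality (opnι W (compl W Y₂ hcl)).op) a
      refine h1.symm.trans ?_
      change ε.hom.app (op (opn W (compl W Y₂ hcl)))
        (((ProEtS.restrP j ⋙ ProEtS.extZeroP j).obj F).obj.map (opnι W (compl W Y₂ hcl)).op a) = _
      rw [hF1.elim (((ProEtS.restrP j ⋙ ProEtS.extZeroP j).obj F).obj.map
        (opnι W (compl W Y₂ hcl)).op a) 0, map_zero, hb1]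
    · have h1 := ConcreteCategory.congr_hom (ε.hom.naturality (opnι W Y₂).op) a
      refine h1.symm.trans ?_
      change ε.hom.app (op (opn W Y₂))
        (((ProEtS.restrP j ⋙ ProEtS.extZeroP j).obj F).obj.map (opnι W Y₂).op a) = _
      rw [ha, ha₂]

end Groth.Agent.Lib.Helper4.PEClosed
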