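import Mathlib
import Groth.Prelude.Def_ProEtS
import Groth.Prelude.Def_EtCore
import Groth.Agent.Lib.Helper4.PEM3
import Groth.Agent.Lib.Helper5.ExtDerived

/-!
# Comparison of étale and pro-étale cohomology
-/

set_option autoImplicit false
set_option linter.style.haveILetI false
set_option linter.unusedSectionVars false
universe u

namespace Groth.Agent.Lib.Helper4.PEM

open CategoryTheory CategoryTheory.Limits AlgebraicGeometry Opposite Abelian
  Groth.Agent.Lib.Helper4.PEC Groth.Agent.Lib.Helper22.DimShift Groth.Agent.Lib.Helper5.ExtDer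

variable (X : Scheme.{u}) [ProEtS.EpsCont X]

/-- the constant sheaf `ℤ` on the small étale site -/
noncomputable abbrev Zet : EtCoh.Ab X :=
  (constantSheaf X.smallEtaleTopology AddCommGrpCat.{u + 1}).obj
    (AddCommGrpCat.of (ULift.{u + 1} ℤ))

/-- the constant sheaf `ℤ` on the pro-étale site -/
noncomputable abbrev Zpro : ProEtS.AbP X :=
  (constantSheaf (Scheme.ProEt.topology X) AddCommGrpCat.{u + 1}).obj
    (AddCommGrpCat.of (ULift.{u + 1} ℤ))

/-- `ε⁻¹` of a constant sheaf is constant -/
noncomputable def pullConstIso :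
    constantSheaf X.smallEtaleTopology AddCommGrpCat.{u + 1} ⋙ ProEtS.epsPull X ≅
      constantSheaf (Scheme.ProEt.topology X) AddCommGrpCat.{u + 1} :=
  let adj₁ := (constantSheafAdj X.smallEtaleTopology AddCommGrpCat.{u + 1}
    (EtCore.topIsTerminal X)).comp (ProEtS.epsAdj X)
  let r : ProEtS.epsPush X ⋙ (sheafSections X.smallEtaleTopology AddCommGrpCat.{u + 1}).obj
      (op (EtCoh.top X)) ≅
      (sheafSections (Scheme.ProEt.topology X) AddCommGrpCat.{u + 1}).obj (op (topP X)) :=
    NatIso.ofComponents (fun G => Iso.refl _) (fun f => by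
      simp only [Iso.refl_hom, Category.comp_id, Category.id_comp]
      rfl)
  (adj₁.ofNatIsoRight r).leftAdjointUniq
    (constantSheafAdj (Scheme.ProEt.topology X) AddCommGrpCat.{u + 1} (topPIsTerminal X))

/-- global sections on the pro-étale site are global sections of the direct image -/
noncomputable def gammaIso :
    ProEtS.epsPush X ⋙ preadditiveCoyoneda.obj (op (Zet X)) ≅
      preadditiveCoyoneda.obj (op (Zpro X)) :=
  NatIso.ofComponents
    (fun G => ((ProEtS.epsAdj X).homAddEquiv (Zet X) G).symm.toAddCommGrpIso) (fun {G G'} f => by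
      ext x
      exact (ProEtS.epsAdj X).homEquiv_naturality_right_symm x f) ≪≫
    preadditiveCoyoneda.mapIso
      ((pullConstIso X).app (AddCommGrpCat.of (ULift.{u + 1} ℤ))).symm.op

set_option maxHeartbeats 1000000 in
theorem nonempty_H_addEquiv (F : EtCoh.Ab X) (i : ℕ) :
    Nonempty (EtCoh.H X F i ≃+ ProEtS.HP X ((ProEtS.epsPull X).obj F) i) := by
  have : PreservesLimits (ProEtS.epsPush X) := (ProEtS.epsAdj X).rightAdjoint_preservesLimits
  have hG : ∀ I : ProEtS.AbP X, Injective I → Injective ((ProEtS.epsPush X).obj I) :=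
    fun I hI => Injective.injective_of_adjoint (ProEtS.epsAdj X) I
  obtain ⟨e1⟩ := nonempty_rightDerived_comp_iso (ProEtS.epsPush X)
    (preadditiveCoyoneda.obj (op (Zet X))) (preadditiveCoyoneda.obj (op (Zpro X)))
    (gammaIso X) hG i ((ProEtS.epsPull X).obj F) (fun q => isZero_RepsPush_epsPull q F)
  haveI := Groth.Agent.Lib.Helper4.PEps.isIso_unit F
  let e0 : ((preadditiveCoyoneda.obj (op (Zet X))).rightDerived i).obj F ≅
      ((preadditiveCoyoneda.obj (op (Zet X))).rightDerived i).obj
        ((ProEtS.epsPush X).obj ((ProEtS.epsPull X).obj F)) :=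
    ((preadditiveCoyoneda.obj (op (Zet X))).rightDerived i).mapIso
      (asIso ((ProEtS.epsAdj X).unit.app F))
  let e2 := (extIso (Zet X) i).app F
  let e3 := (extIso (Zpro X) i).app ((ProEtS.epsPull X).obj F)
  exact ⟨(e2.symm ≪≫ e0 ≪≫ e1 ≪≫ e3).addCommGroupIsoToAddEquiv⟩

end Groth.Agent.Lib.Helper4.PEM
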