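import Mathlib
import Groth.Prelude.Def_ProEtS
import Groth.Agent.Lib.Helper4.PEC11
import Groth.Agent.Lib.Helper4.PE14
import Groth.Agent.Lib.Helper22.ColimCohU.ExtInd
import Groth.Agent.Lib.Helper18.FunctorialInjective

/-!
# Pro-étale cohomology of a qcqs scheme commutes with filtered colimits
-/

set_option autoImplicit false
set_option linter.style.haveILetI false
set_option linter.unusedSectionVars false
universe w₂ w₁ u

namespace Groth.Agent.Lib.Helper4.PEQ

open CategoryTheory CategoryTheory.Limits AlgebraicGeometry Opposite Abelian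
  Groth.Agent.Lib.Helper22.CechU Groth.Agent.Lib.Helper22.CechU.Site
  Groth.Agent.Lib.Helper22.ColimCohU Groth.Agent.Lib.Helper4.PELim Groth.Agent.Lib.Helper4.PE
  Groth.Agent.Lib.Helper4.PEC

variable {X : Scheme.{u}}

/-- Pro-étale `X`-schemes whose underlying scheme is quasi-compact and quasi-separated. -/
def Bq (X : Scheme.{u}) : Set X.ProEt :=
  {U | CompactSpace U.left ∧ QuasiSeparatedSpace U.left}

lemma Bq_of_iso {U V : X.ProEt} (e : U ≅ V) (hU : U ∈ Bq X) : V ∈ Bq X := by
  obtain ⟨h1, h2⟩ := hU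
  let i : V.left ≅ U.left := (US X).mapIso e.symm
  exact ⟨QuasiCompact.compactSpace_of_compactSpace i.hom,
    quasiSeparatedSpace_of_quasiSeparated i.hom⟩

lemma Bq_pullback {A B U : X.ProEt} (f : A ⟶ U) (g : B ⟶ U) (hA : A ∈ Bq X) (hB : B ∈ Bq X)
    (hU : U ∈ Bq X) : pullback f g ∈ Bq X := by
  obtain ⟨a1, a2⟩ := hA
  obtain ⟨b1, b2⟩ := hB
  obtain ⟨u1, u2⟩ := hU
  let i : (pullback f g).left ≅ pullback f.left g.left := PreservesPullback.iso (US X) f g
  have h1 : CompactSpace ↥(pullback f.left g.left) := inferInstance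
  have h2 : QuasiSeparatedSpace ↥(pullback f.left g.left) :=
    quasiSeparatedSpace_of_quasiSeparated (pullback.fst f.left g.left)
  exact ⟨QuasiCompact.compactSpace_of_compactSpace i.hom,
    quasiSeparatedSpace_of_quasiSeparated i.hom⟩

/-- The property of objects over `U` of having qcqs underlying scheme. -/
def Pq (U : X.ProEt) : ObjectProperty (Over U) := fun Z => Z.left ∈ Bq X

instance (U : X.ProEt) : (Pq U).IsClosedUnderIsomorphisms where
  of_iso e h := Bq_of_iso ((Over.forget U).mapIso e) h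

lemma Pq_terminal {U : X.ProEt} (hU : U ∈ Bq X) :
    (Pq U).IsClosedUnderLimitsOfShape (Discrete.{0} PEmpty) where
  limitsOfShape_le := by
    rintro Z ⟨pres⟩
    have hZ : IsTerminal Z :=
      (isLimitEmptyConeEquiv _ (Cone.mk Z pres.π) (asEmptyCone Z) (Iso.refl _)) pres.isLimit
    have e : Over.mk (𝟙 U) ≅ Z := (IsTerminal.uniqueUpToIso hZ Over.mkIdTerminal).symm
    exact (Pq U).prop_of_iso e hU

lemma Pq_binary {U : X.ProEt} (hU : U ∈ Bq X) :
    (Pq U).IsClosedUnderLimitsOfShape (Discrete WalkingPair) where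
  limitsOfShape_le := by
    rintro Z ⟨pres⟩
    let A := pres.diag.obj ⟨WalkingPair.left⟩
    let B := pres.diag.obj ⟨WalkingPair.right⟩
    have hA : A.left ∈ Bq X := pres.prop_diag_obj _
    have hB : B.left ∈ Bq X := pres.prop_diag_obj _
    let e : Z ≅ A ⨯ B :=
      IsLimit.conePointsIsoOfNatIso pres.isLimit (limit.isLimit (pair A B))
        (diagramIsoPair pres.diag)
    have h : (A ⨯ B).left ∈ Bq X :=
      Bq_of_iso (Over.prodLeftIsoPullback A B).symm (Bq_pullback A.hom B.hom hA hB hU)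
    exact (Pq U).prop_of_iso e.symm h

lemma Pq_finiteProducts {U : X.ProEt} (hU : U ∈ Bq X) :
    (Pq U).IsClosedUnderFiniteProducts := by
  have := Pq_terminal hU
  have := Pq_binary hU
  exact ObjectProperty.IsClosedUnderFiniteProducts.mk'

lemma Bq_prod {U : X.ProEt} (hU : U ∈ Bq X) {ι : Type (u + 1)} (Y : ι → Over U)
    (hY : ∀ i, (Y i).left ∈ Bq X) {p : ℕ} (a : Fin (p + 1) → ι) : (Uσ Y a).left ∈ Bq X := by
  have := Pq_finiteProducts hU
  exact (Pq U).prop_product (f := Y ∘ a) (fun j => hY (a j))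

/-- Finite jointly surjective families of qcqs pro-étale schemes over a qcqs one. -/
def Covq (X : Scheme.{u}) (U : X.ProEt) (ι : Type (u + 1)) (Y : ι → Over U) : Prop :=
  Finite ι ∧ U ∈ Bq X ∧ (∀ i, (Y i).left ∈ Bq X) ∧
    ∀ x : ↥(U.left), ∃ (i : ι), x ∈ Set.range (Y i).hom.left.base

/-- A finite jointly surjective family of qcqs objects over a qcqs object is covering. -/
lemma ofArrows_mem {U : X.ProEt} {ι : Type (u + 1)} (Y : ι → Over U) (h : Covq X U ι Y) :
    Sieve.ofArrows (fun i => (Y i).left) (fun i => (Y i).hom) ∈ Scheme.ProEt.topology X U := by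
  obtain ⟨hfin, hU, hY, hsurj⟩ := h
  obtain ⟨n, ⟨e⟩⟩ := Finite.exists_equiv_fin ι
  have hqc : ∀ k : Fin n, QuasiCompact ((Y (e.symm k)).hom).left := by
    intro k
    haveI := (hY (e.symm k)).1
    haveI := hU.2
    infer_instance
  have hs : ∀ v : U.left, ∃ k : Fin n, v ∈ Set.range ((Y (e.symm k)).hom).left.base := by
    intro v
    obtain ⟨i, hi⟩ := hsurj v
    refine ⟨e i, ?_⟩
    rw [e.symm_apply_apply]
    exact hi
  refine (Scheme.ProEt.topology X).superset_covering ?_
    (finite_mem (fun k : Fin n => (Y (e.symm k)).left) (fun k => (Y (e.symm k)).hom) hqc hs)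
  rw [Sieve.generate_le_iff]
  rintro Z f ⟨k⟩
  exact Sieve.ofArrows_mk _ _ (e.symm k)

end Groth.Agent.Lib.Helper4.PEQ
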