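import Mathlib
import Groth.Prelude.Def_ProEtS
import Groth.Agent.Lib.Helper4.PEC9
import Groth.Agent.Lib.Helper4.PEC10
import Groth.Agent.Lib.Helper4.PELim11
import Groth.Agent.Lib.Helper4.PEQ1

/-!
# Presentations of qcqs objects of the pro-étale site as limits of étale qcqs schemes, and
Čech acyclicity of `ε⁻¹ I` for coverings coming from a stage
-/

set_option autoImplicit false
set_option linter.style.haveILetI false
set_option linter.unusedSectionVars false
universe u

namespace Groth.Agent.Lib.Helper4.PEN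

open CategoryTheory CategoryTheory.Limits AlgebraicGeometry Opposite
  Groth.Agent.Lib.Helper22.CechU Groth.Agent.Lib.Helper22.CechU.Site
  Groth.Agent.Lib.Helper22.ColimCohU Groth.Agent.Lib.Helper4.PELim Groth.Agent.Lib.Helper4.PE
  Groth.Agent.Lib.Helper4.PEC Groth.Agent.Lib.Helper4.PEQ

variable {X : Scheme.{u}}

/-- a presentation of `T` as a cofiltered limit of étale qcqs `X`-schemes with affine transition
maps, such that the base change of `T` to any affine étale scheme over a stage lies in `Bset` -/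
structure QPres (T : X.ProEt) where
  /-- index category -/
  K : Type u
  /-- category structure -/
  [cat : SmallCategory K]
  /-- cofilteredness -/
  [cof : IsCofiltered K]
  /-- the system -/
  D : K ⥤ X.ProEt
  /-- the legs of the cone -/
  π : ∀ k, T ⟶ D.obj k
  hπ : ∀ {k k' : K} (f : k ⟶ k'), π k ≫ D.map f = π k'
  /-- the cone is a limit cone at the level of schemes -/
  lim : IsLimit ((US X).mapCone (coneOf D T π hπ))
  et : ∀ k, Etale (D.obj k).hom
  qc : ∀ k, CompactSpace (D.obj k).left
  qs : ∀ k, QuasiSeparatedSpace (D.obj k).left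
  aff : ∀ {k k' : K} (f : k ⟶ k'), IsAffineHom (D.map f).left
  bset : ∀ (k : K) (A : X.ProEt) (a : A ⟶ D.obj k), IsAffine A.left → Etale A.hom →
    pullback a (π k) ∈ Bset X

attribute [instance] QPres.cat QPres.cof

variable [ProEtS.EpsCont X]

theorem surj_Gq (F : EtCoh.Ab X) {I : Type u} [SmallCategory I] [IsCofiltered I]
    (D : I ⥤ X.ProEt) (hDa : ∀ {i j : I} (f : i ⟶ j), IsAffineHom (D.map f).left)
    (hDc : ∀ i, CompactSpace (D.obj i).left) (hDq : ∀ i, QuasiSeparatedSpace (D.obj i).left)
    (c : Cone D)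
    (hc : IsLimit ((US X).mapCone c)) (t : ((ProEtS.epsPull X).obj F).obj.obj (op c.pt)) :
    ∃ (i : I) (s : ((ProEtS.epsPull X).obj F).obj.obj (op (D.obj i))),
      ((ProEtS.epsPull X).obj F).obj.map (c.π.app i).op s = t := by
  let e := epsPullObjIso F
  obtain ⟨i, s, hs⟩ := surj_qcqs F D hDa hDc hDq c hc (e.hom.app _ t)
  refine ⟨i, e.inv.app _ s, ?_⟩
  have h1 := NatTrans.naturality_apply e.inv (c.π.app i).op s
  rw [← h1, hs]
  exact congrArg (fun m => (ConcreteCategory.hom (m.app (op c.pt))) t) e.hom_inv_id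

theorem inj_Gq (F : EtCoh.Ab X) {I : Type u} [SmallCategory I] [IsCofiltered I]
    (D : I ⥤ X.ProEt) (hDa : ∀ {i j : I} (f : i ⟶ j), IsAffineHom (D.map f).left)
    (hDc : ∀ i, CompactSpace (D.obj i).left) (c : Cone D)
    (hc : IsLimit ((US X).mapCone c)) (i : I)
    (s : ((ProEtS.epsPull X).obj F).obj.obj (op (D.obj i)))
    (hs : ((ProEtS.epsPull X).obj F).obj.map (c.π.app i).op s = 0) :
    ∃ (j : I) (f : j ⟶ i), ((ProEtS.epsPull X).obj F).obj.map (D.map f).op s = 0 := by
  let e := epsPullObjIso F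
  have h1 : (Q F).map (c.π.app i).op (e.hom.app _ s) = 0 := by
    rw [← NatTrans.naturality_apply e.hom (c.π.app i).op s, hs, map_zero]
  obtain ⟨j, f, hf⟩ := inj_qc F D hDa hDc c hc i (e.hom.app _ s) h1
  refine ⟨j, f, ?_⟩
  rw [← NatTrans.naturality_apply e.hom (D.map f).op s] at hf
  have h2 := congrArg (e.inv.app _) hf
  rw [map_zero] at h2
  rw [← h2]
  exact (congrArg (fun m => (ConcreteCategory.hom (m.app (op (D.obj j))))
    (((ProEtS.epsPull X).obj F).obj.map (D.map f).op s)) e.hom_inv_id).symm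

end Groth.Agent.Lib.Helper4.PEN
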