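import Mathlib
import Groth.Prelude.Def_ProEtS
import Groth.Agent.Lib.Helper4.PEN1

/-!
# Čech acyclicity of `ε⁻¹ I` for families pulled back from a stage of a presentation
-/

set_option autoImplicit false
set_option linter.style.haveILetI false
set_option linter.unusedSectionVars false
universe u

namespace Groth.Agent.Lib.Helper4.PEN

open CategoryTheory CategoryTheory.Limits AlgebraicGeometry Opposite
  Groth.Agent.Lib.Helper22.CechU Groth.Agent.Lib.Helper22.CechU.Site
  Groth.Agent.Lib.Helper22.ColimCohU Groth.Agent.Lib.Helper4.PELim Groth.Agent.Lib.Helper4.PE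
  Groth.Agent.Lib.Helper4.PEC Groth.Agent.Lib.Helper4.PEQ

variable {X : Scheme.{u}} [ProEtS.EpsCont X]

set_option backward.isDefEq.respectTransparency.types false in
set_option maxHeartbeats 4000000 in
theorem acyc_qpres (I : EtCoh.Ab X) [Injective I] {T : X.ProEt} (P : QPres T) (j : P.K)
    {ι : Type (u + 1)} [Finite ι] (Zf : ι → Over (P.D.obj j))
    (hZet : ∀ a, Etale (Zf a).hom.left) (hZq : ∀ a, (Zf a).left ∈ Bq X) (n : ℕ) :
    Acyc (fun a => (Over.pullback (P.π j)).obj (Zf a))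
      (rP (U := T) ((ProEtS.epsPull X).obj I).obj) n := by
  let G := (ProEtS.epsPull X).obj I
  let D := P.D
  let c : Cone D := coneOf P.D T P.π P.hπ
  have hc : IsLimit ((US X).mapCone c) := P.lim
  have hDet : ∀ k, Etale (D.obj k).hom := P.et
  have hDq : ∀ k, D.obj k ∈ Bq X := fun k => ⟨P.qc k, P.qs k⟩
  have hDa : ∀ {k k' : P.K} (f : k ⟶ k'), IsAffineHom (D.map f).left := P.aff
  let ρ : T ⟶ D.obj j := c.π.app j
  refine acyc_of_iso _ _ _ _
    (transferIso (Over.pullback ρ) Zf (rP (U := T) G.obj)) n ?_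
  have hNq : ∀ {m : ℕ} (σ : Fin (m + 1) → ι), (Uσ Zf σ).left ∈ Bq X :=
    fun σ => Bq_prod (hDq j) Zf hZq σ
  have hstq : ∀ {m : ℕ} (σ : Fin (m + 1) → ι) (k : Over j),
      (bcFunctor D (Uσ Zf σ).hom).obj k ∈ Bq X := fun σ k =>
    Bq_pullback _ _ (hNq σ) (hDq k.left) (hDq j)
  have hsta : ∀ {m : ℕ} (σ : Fin (m + 1) → ι) {k k' : Over j} (f : k ⟶ k'),
      IsAffineHom ((bcFunctor D (Uσ Zf σ).hom).map f).left := by
    intro m σ k k' f
    haveI := hDa f.left
    exact isAffineHom_bcMap_left D (Uσ Zf σ).hom f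
  refine acyc_of_presheaf_system (I := (Over j)ᵒᵖ) ((Φinf D c j).op ⋙ G.obj)
    Zf (fun k => (Φst D j k.unop).op ⋙ G.obj)
    (fun k => Functor.whiskerRight (NatTrans.op (lamN D c j k.unop)) G.obj)
    (fun {k k'} f => Functor.whiskerRight (NatTrans.op (tauN D j f.unop)) G.obj)
    (fun {k k'} f => ?_) (fun {k k' k''} f f' => ?_) n (fun σ t => ?_) (fun σ k s hs => ?_)
    (fun k => ?_)
  · rw [← Functor.whiskerRight_comp, ← NatTrans.op_comp, lamN_tauN]
  · rw [← Functor.whiskerRight_comp, ← NatTrans.op_comp, tauN_comp]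
    rfl
  · obtain ⟨k, s, hs⟩ := surj_Gq I (bcFunctor D (Uσ Zf σ).hom)
      (fun f => hsta σ f) (fun k => (hstq σ k).1) (fun k => (hstq σ k).2)
      (bcCone D c (Uσ Zf σ).hom) (bcIsLimit D c _ hc) t
    exact ⟨op k, s, hs⟩
  · obtain ⟨k', f, hf⟩ := inj_Gq I (bcFunctor D (Uσ Zf σ).hom)
      (fun f => hsta σ f) (fun k => (hstq σ k).1)
      (bcCone D c (Uσ Zf σ).hom) (bcIsLimit D c _ hc) k.unop s hs
    exact ⟨op k', f.op, hf⟩
  · -- acyclicity at a stage
    refine acyc_of_iso _ _ _ _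
      (transferIso (Over.pullback (D.map k.unop.hom)) Zf
        (rP (U := D.obj k.unop.left) G.obj)).symm n ?_
    haveI := hDet k.unop.left
    refine acyc_etale' I (D.obj k.unop.left) _ (fun a => ?_) n
    change Etale (pullback (Zf a).hom (D.map k.unop.hom)).hom
    have h3 : (pullback (Zf a).hom (D.map k.unop.hom)).hom =
        (pullback.snd (Zf a).hom (D.map k.unop.hom)).left ≫ (D.obj k.unop.left).hom :=
      (MorphismProperty.Over.w (pullback.snd (Zf a).hom (D.map k.unop.hom))).symm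
    rw [h3]
    haveI : Etale (pullback.snd (Zf a).hom (D.map k.unop.hom)).left := by
      rw [← pullbackLeftIso_hom_snd]
      haveI : Etale (Zf a).hom.left := hZet a
      infer_instance
    infer_instance

end Groth.Agent.Lib.Helper4.PEN
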