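import Mathlib
import Groth.Prelude.Def_ProEtS
import Groth.Agent.Lib.Helper4.PEN2
import Groth.Agent.Lib.Helper4.PEC11

/-!
# Base change of presentations, and the class of sheaves acyclic for stage coverings
-/

set_option autoImplicit false
set_option linter.style.haveILetI false
set_option linter.unusedSectionVars false
universe u

namespace Groth.Agent.Lib.Helper4.PEN

open CategoryTheory CategoryTheory.Limits AlgebraicGeometry Opposite
  Groth.Agent.Lib.Helper22.CechU Groth.Agent.Lib.Helper22.CechU.Site
  Groth.Agent.Lib.Helper22.ColimCohU Groth.Agent.Lib.Helper4.PELim Groth.Agent.Lib.Helper4.PE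
  Groth.Agent.Lib.Helper4.PEC Groth.Agent.Lib.Helper4.PEQ

variable {X : Scheme.{u}}

lemma Bset_of_iso {V V' : X.ProEt} (e : V ≅ V') (h : V ∈ Bset X) : V' ∈ Bset X := by
  obtain ⟨h1, V₀, g, h2, h3, h4⟩ := h
  haveI := h1
  haveI hiso : IsIso e.inv.left := inferInstanceAs (IsIso ((US X).map e.inv))
  refine ⟨IsAffine.of_isIso e.inv.left, V₀, e.inv ≫ g, h2, h3, ?_⟩
  change IE (e.inv.left ≫ g.left)
  exact IE_comp _ _ (IE_of_isIso _) h4

/-- the stage objects of a presentation are qcqs -/
lemma QPres.stage_mem_Bq {T : X.ProEt} (P : QPres T) (k : P.K) : P.D.obj k ∈ Bq X :=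
  ⟨P.qc k, P.qs k⟩

set_option backward.isDefEq.respectTransparency.types false in
/-- base change of a presentation along an étale qcqs object over a stage -/
noncomputable def QPres.bc {T : X.ProEt} (P : QPres T) (j : P.K) {Z : X.ProEt}
    (g : Z ⟶ P.D.obj j) (hg : Etale g.left) (hZ : Z ∈ Bq X) : QPres (pullback g (P.π j)) where
  K := Over j
  D := bcFunctor P.D g
  π k := (bcCone P.D (coneOf P.D T P.π P.hπ) g).π.app k
  hπ f := (bcCone P.D (coneOf P.D T P.π P.hπ) g).w f
  lim := bcIsLimit P.D (coneOf P.D T P.π P.hπ) g P.lim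
  et k := by
    change Etale (pullback g (P.D.map k.hom)).hom
    have h3 : (pullback g (P.D.map k.hom)).hom =
        (pullback.snd g (P.D.map k.hom)).left ≫ (P.D.obj k.left).hom :=
      (MorphismProperty.Over.w (pullback.snd g (P.D.map k.hom))).symm
    rw [h3]
    haveI : Etale (pullback.snd g (P.D.map k.hom)).left := by
      rw [← pullbackLeftIso_hom_snd]
      haveI : Etale g.left := hg
      infer_instance
    haveI := P.et k.left
    infer_instance
  qc k := (Bq_pullback g (P.D.map k.hom) hZ (P.stage_mem_Bq k.left) (P.stage_mem_Bq j)).1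
  qs k := (Bq_pullback g (P.D.map k.hom) hZ (P.stage_mem_Bq k.left) (P.stage_mem_Bq j)).2
  aff f := by
    haveI := P.aff f.left
    exact isAffineHom_bcMap_left P.D g f
  bset k A a hA hAet := by
    let c := coneOf P.D T P.π P.hπ
    have hsq := isPullback_bcCone P.D c g k
    have h1 : IsPullback (pullback.fst a ((bcCone P.D c g).π.app k))
        (pullback.snd a ((bcCone P.D c g).π.app k)) a ((bcCone P.D c g).π.app k) :=
      IsPullback.of_hasPullback _ _
    have h2 := (h1.flip.paste_horiz hsq.flip).flip
    exact Bset_of_iso h2.isoPullback.symm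
      (P.bset k.left A (a ≫ pullback.snd g (P.D.map k.hom)) hA hAet)

end Groth.Agent.Lib.Helper4.PEN
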