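import Mathlib
import Groth.Prelude.Def_ProEtS
import Groth.Agent.Lib.Helper4.PEN3
import Groth.Agent.Lib.Helper4.PEM3

/-!
# Sheaves acyclic for stage coverings: surjectivity on presented objects and quotients
-/

set_option autoImplicit false
set_option linter.style.haveILetI false
set_option linter.unusedSectionVars false
universe u

namespace Groth.Agent.Lib.Helper4.PEN

open CategoryTheory CategoryTheory.Limits AlgebraicGeometry Opposite
  Groth.Agent.Lib.Helper22.CechU Groth.Agent.Lib.Helper22.CechU.Site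
  Groth.Agent.Lib.Helper22.ColimCohU Groth.Agent.Lib.Helper4.PELim Groth.Agent.Lib.Helper4.PE
  Groth.Agent.Lib.Helper4.PEC Groth.Agent.Lib.Helper4.PEQ

variable {X : Scheme.{u}}

/-- quasi-compact opens of an object -/
def Po (U : X.ProEt) : ObjectProperty (Over U) :=
  fun Z => IsOpenImmersion Z.hom.left ∧ CompactSpace Z.left.left

instance (U : X.ProEt) : (Po U).IsClosedUnderIsomorphisms where
  of_iso {Z Z'} e h := by
    obtain ⟨h1, h2⟩ := h
    haveI := h1
    haveI := h2
    haveI hiso : IsIso e.inv.left.left := inferInstanceAs (IsIso ((US X).map e.inv.left))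
    have hw : e.inv.left ≫ Z.hom = Z'.hom := Over.w e.inv
    have hw' : e.inv.left.left ≫ Z.hom.left = Z'.hom.left := congrArg (fun m => m.left) hw
    refine ⟨?_, ?_⟩
    · rw [← hw']
      infer_instance
    · haveI hiso2 : IsIso e.hom.left.left := inferInstanceAs (IsIso ((US X).map e.hom.left))
      exact QuasiCompact.compactSpace_of_compactSpace e.inv.left.left

lemma Po_terminal {U : X.ProEt} (hU : U ∈ Bq X) :
    (Po U).IsClosedUnderLimitsOfShape (Discrete.{0} PEmpty) where
  limitsOfShape_le := by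
    rintro Z ⟨pres⟩
    have hZ : IsTerminal Z :=
      (isLimitEmptyConeEquiv _ (Cone.mk Z pres.π) (asEmptyCone Z) (Iso.refl _)) pres.isLimit
    have e : Over.mk (𝟙 U) ≅ Z := (IsTerminal.uniqueUpToIso hZ Over.mkIdTerminal).symm
    refine (Po U).prop_of_iso e ⟨?_, hU.1⟩
    change IsOpenImmersion (𝟙 U.left)
    infer_instance

set_option backward.isDefEq.respectTransparency.types false in
lemma Po_binary {U : X.ProEt} (hU : U ∈ Bq X) :
    (Po U).IsClosedUnderLimitsOfShape (Discrete WalkingPair) where
  limitsOfShape_le := by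
    rintro Z ⟨pres⟩
    let A := pres.diag.obj ⟨WalkingPair.left⟩
    let B := pres.diag.obj ⟨WalkingPair.right⟩
    have hA : Po U A := pres.prop_diag_obj _
    have hB : Po U B := pres.prop_diag_obj _
    let e : Z ≅ A ⨯ B :=
      IsLimit.conePointsIsoOfNatIso pres.isLimit (limit.isLimit (pair A B))
        (diagramIsoPair pres.diag)
    refine (Po U).prop_of_iso e.symm ?_
    obtain ⟨a1, a2⟩ := hA
    obtain ⟨b1, b2⟩ := hB
    haveI := a1
    haveI := a2
    haveI := b1
    haveI := b2
    haveI := hU.2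
    let i : (A ⨯ B).left ≅ pullback A.hom B.hom := Over.prodLeftIsoPullback A B
    have h1 : (A ⨯ B).hom = i.hom ≫ pullback.fst A.hom B.hom ≫ A.hom := by
      rw [← Category.assoc, Over.prodLeftIsoPullback_hom_fst]
      exact (Over.w (prod.fst : A ⨯ B ⟶ A)).symm
    haveI hiso : IsIso i.hom.left := inferInstanceAs (IsIso ((US X).map i.hom))
    haveI : IsOpenImmersion (pullback.fst A.hom B.hom).left := by
      rw [← pullbackLeftIso_hom_fst]
      infer_instance
    refine ⟨?_, ?_⟩
    · have h2 : (A ⨯ B).hom.left = i.hom.left ≫ (pullback.fst A.hom B.hom).left ≫ A.hom.left :=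
        congrArg (fun m => m.left) h1
      rw [h2]
      infer_instance
    · haveI : CompactSpace (pullback A.hom B.hom).left :=
        compactSpace_pullback_left A.hom B.hom
      haveI hiso' : IsIso i.inv.left := inferInstanceAs (IsIso ((US X).map i.inv))
      exact QuasiCompact.compactSpace_of_compactSpace i.hom.left

lemma Po_finiteProducts {U : X.ProEt} (hU : U ∈ Bq X) :
    (Po U).IsClosedUnderFiniteProducts := by
  have := Po_terminal hU
  have := Po_binary hU
  exact ObjectProperty.IsClosedUnderFiniteProducts.mk'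

lemma Po_prod {U : X.ProEt} (hU : U ∈ Bq X) {ι : Type (u + 1)} (Y : ι → Over U)
    (hY : ∀ i, Po U (Y i)) {p : ℕ} (a : Fin (p + 1) → ι) : Po U (Uσ Y a) := by
  have := Po_finiteProducts hU
  exact (Po U).prop_product (f := Y ∘ a) (fun j => hY (a j))

lemma Po.etale {U : X.ProEt} {Z : Over U} (h : Po U Z) : Etale Z.hom.left := by
  haveI := h.1
  infer_instance

lemma Po.mem_Bq {U : X.ProEt} (hU : U ∈ Bq X) {Z : Over U} (h : Po U Z) : Z.left ∈ Bq X := by
  haveI := h.1
  haveI := hU.2
  exact ⟨h.2, quasiSeparatedSpace_of_quasiSeparated Z.hom.left⟩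

/-- families pulled back from finitely many quasi-compact opens of a stage of a presentation -/
def CovO (X : Scheme.{u}) (T : X.ProEt) (ι : Type (u + 1)) (Yf : ι → Over T) : Prop :=
  ∃ (P : QPres T) (j : P.K) (Zf : ι → Over (P.D.obj j)), Finite ι ∧ (∀ a, Po (P.D.obj j) (Zf a)) ∧
    Yf = fun a => (Over.pullback (P.π j)).obj (Zf a)

variable [ProEtS.EpsCont X]

theorem covAcyclicO_epsPull (I : EtCoh.Ab X) [Injective I] :
    CovAcyclic (CovO X) ((ProEtS.epsPull X).obj I) := by
  intro T ι Yf hCov p
  obtain ⟨P, j, Zf, hfin, hZ, rfl⟩ := hCov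
  exact acyc_qpres I P j Zf (fun a => (hZ a).etale) (fun a => (hZ a).mem_Bq (P.stage_mem_Bq j)) p

end Groth.Agent.Lib.Helper4.PEN
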