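import Mathlib
import Groth.Prelude.Def_ProEtS
import Groth.Agent.Lib.Helper4.PEN4

/-!
# Surjectivity on presented objects and stability under quotients
-/

set_option autoImplicit false
set_option linter.style.haveILetI false
set_option linter.unusedSectionVars false
universe u

namespace Groth.Agent.Lib.Helper4.PEN

open CategoryTheory CategoryTheory.Limits AlgebraicGeometry Opposite
  Groth.Agent.Lib.Helper22.CechU Groth.Agent.Lib.Helper22.CechU.Site
  Groth.Agent.Lib.Helper22.ColimCohU Groth.Agent.Lib.Helper4.PELim Groth.Agent.Lib.Helper4.PE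
  Groth.Agent.Lib.Helper4.PEC Groth.Agent.Lib.Helper4.PEQ

variable {X : Scheme.{u}}

/-- surjectivity on sections is invariant under isomorphism of objects -/
lemma surjective_of_iso {F G : ProEtS.AbP X} (φ : F ⟶ G) {A B : X.ProEt} (i : A ≅ B)
    (h : Function.Surjective (φ.hom.app (op A))) : Function.Surjective (φ.hom.app (op B)) := by
  intro t
  obtain ⟨s, hs⟩ := h (G.obj.map i.hom.op t)
  refine ⟨F.obj.map i.inv.op s, ?_⟩
  rw [NatTrans.naturality_apply, hs, ← ConcreteCategory.comp_apply, ← G.obj.map_comp, ← op_comp,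
    i.inv_hom_id, op_id, G.obj.map_id]
  rfl

variable [ProEtS.EpsCont X]

/-- the pullback to `T` of a Zariski covering of a stage is a covering -/
lemma ofArrows_pullback_mem {T : X.ProEt} (P : QPres T) (j : P.K) {κ : Type*}
    (O : κ → (P.D.obj j).left.Opens) (hO : (⋃ k, (O k : Set (P.D.obj j).left)) = Set.univ)
    {ι : Type (u + 1)} (e : ι → κ) (he : Function.Surjective e) :
    Sieve.ofArrows
      (fun a : ι => ((Over.pullback (P.π j)).obj (Over.mk (opnι (P.D.obj j) (O (e a))))).left)
      (fun a => ((Over.pullback (P.π j)).obj (Over.mk (opnι (P.D.obj j) (O (e a))))).hom) ∈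
      Scheme.ProEt.topology X T := by
  refine (Scheme.ProEt.topology X).superset_covering ?_
    ((Scheme.ProEt.topology X).pullback_stable (P.π j) (ofArrows_opn_mem O hO))
  intro T' h hh
  obtain ⟨k, m, hm⟩ := (Sieve.mem_ofArrows_iff _ _ _).mp hh
  obtain ⟨a, rfl⟩ := he k
  rw [Sieve.mem_ofArrows_iff]
  refine ⟨a, pullback.lift m h hm.symm, ?_⟩
  exact (pullback.lift_snd _ _ _).symm

set_option maxHeartbeats 1000000 in
/-- a short exact sequence whose kernel is acyclic for the two classes of coverings is surjective on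
sections over every presented object -/
theorem surjective_of_qpres (S : ShortComplex (ProEtS.AbP X)) (hS : S.ShortExact)
    (h1 : CovAcyclic (Covp X) S.X₁) (h2 : CovAcyclic (CovO X) S.X₁) {T : X.ProEt} (P : QPres T) :
    Function.Surjective (S.g.hom.app (op T)) := by
  classical
  obtain ⟨j⟩ := IsCofiltered.nonempty (C := P.K)
  haveI := P.qc j
  haveI := P.et j
  obtain ⟨t, ht⟩ := isCompact_univ.elim_finite_subcover
    (fun k : (P.D.obj j).left.affineOpens => ((k : (P.D.obj j).left.Opens) : Set (P.D.obj j).left))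
    (fun k => (k : (P.D.obj j).left.Opens).2) (by rw [iUnion_affineOpens])
  let O : ↥t → (P.D.obj j).left.Opens := fun k => k.1.1
  have hO : (⋃ k, (O k : Set (P.D.obj j).left)) = Set.univ := by
    rw [Set.eq_univ_iff_forall]
    intro x
    obtain ⟨k, hk⟩ := Set.mem_iUnion.mp (ht (Set.mem_univ x))
    obtain ⟨hkt, hxk⟩ := Set.mem_iUnion.mp hk
    exact Set.mem_iUnion.mpr ⟨⟨k, hkt⟩, hxk⟩
  let ι := ULift.{u + 1} ↥t
  let Zf : ι → Over (P.D.obj j) := fun a => Over.mk (opnι (P.D.obj j) (O a.down))
  let Yf : ι → Over T := fun a => (Over.pullback (P.π j)).obj (Zf a)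
  have hZ : ∀ a, Po (P.D.obj j) (Zf a) := by
    intro a
    haveI : IsAffine ((O a.down : (P.D.obj j).left.Opens) : Scheme) := a.down.1.2
    exact ⟨inferInstanceAs (IsOpenImmersion (O a.down).ι),
      inferInstanceAs (CompactSpace ((O a.down : (P.D.obj j).left.Opens) : Scheme))⟩
  have hCov : CovO X T ι Yf := ⟨P, j, Zf, inferInstance, hZ, rfl⟩
  have hmem : Sieve.ofArrows (fun a => (Yf a).left) (fun a => (Yf a).hom) ∈
      Scheme.ProEt.topology X T :=
    ofArrows_pullback_mem P j O hO (fun a : ι => a.down) (fun k => ⟨⟨k⟩, rfl⟩)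
  intro x
  refine exists_lift_of_acyc_zero Yf S hS (fun Q => isSheaf_forgetP Q) hmem (h2 T ι Yf hCov 0) x
    (fun a => ?_)
  have hB : (Yf a).left ∈ Bset X := by
    haveI : IsAffine ((O a.down : (P.D.obj j).left.Opens) : Scheme) := a.down.1.2
    refine P.bset j (opn (P.D.obj j) (O a.down)) (opnι (P.D.obj j) (O a.down)) ?_ ?_
    · exact inferInstanceAs (IsAffine ((O a.down : (P.D.obj j).left.Opens) : Scheme))
    · change Etale ((O a.down).ι ≫ (P.D.obj j).hom)
      infer_instance
  exact surjective_of_covAcyclic' (fun Q => isSheaf_forgetP Q) h1p h2p S hS h1 _ hB _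

set_option maxHeartbeats 1000000 in
/-- quotients of sheaves acyclic for the two classes of coverings are acyclic for stage
coverings -/
theorem covAcyclicO_quot (S : ShortComplex (ProEtS.AbP X)) (hS : S.ShortExact)
    (h1 : CovAcyclic (Covp X) S.X₁) (h1' : CovAcyclic (CovO X) S.X₁)
    (h2' : CovAcyclic (CovO X) S.X₂) : CovAcyclic (CovO X) S.X₃ := by
  intro T ι Yf hY p
  have hY' := hY
  obtain ⟨P, j, Zf, hfin, hZ, rfl⟩ := hY
  have hse : SecExact (fun a => (Over.pullback (P.π j)).obj (Zf a))
      (rMap (U := T) S.f.hom) (rMap S.g.hom) := by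
    refine secExact_of_shortExact _ S hS fun n σ => ?_
    have hPo : Po (P.D.obj j) (Uσ Zf σ) := Po_prod (P.stage_mem_Bq j) Zf hZ σ
    let P' : QPres (pullback (Uσ Zf σ).hom (P.π j)) :=
      P.bc j (Uσ Zf σ).hom hPo.etale (hPo.mem_Bq (P.stage_mem_Bq j))
    have hs := surjective_of_qpres S hS h1 h1' P'
    let e : (Over.pullback (P.π j)).obj (Uσ Zf σ) ≅
        Uσ (fun a => (Over.pullback (P.π j)).obj (Zf a)) σ :=
      PreservesProduct.iso (Over.pullback (P.π j)) (fun i => Zf (σ i))
    exact surjective_of_iso S.g ((Over.forget T).mapIso e) hs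
  exact hse.acyc_quot p (h2' T ι _ hY' p) (h1' T ι _ hY' (p + 1))

end Groth.Agent.Lib.Helper4.PEN
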