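import Mathlib
import Groth.Prelude.Def_ProEtS
import Groth.Agent.Lib.Helper4.PEN5
import Groth.Agent.Lib.Lead.IndEtCancel

/-!
# Base change of pro-étale sites along `f`: squares, limits
-/

set_option autoImplicit false
set_option linter.style.haveILetI false
set_option linter.unusedSectionVars false
universe u

namespace Groth.Agent.Lib.Helper4.PEN

open CategoryTheory CategoryTheory.Limits AlgebraicGeometry Opposite
  Groth.Agent.Lib.Helper4.PELim Groth.Agent.Lib.Helper4.PE
  Groth.Agent.Lib.Helper4.PEC Groth.Agent.Lib.Helper4.PEQ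

variable {X Y : Scheme.{u}} (f : X ⟶ Y)

set_option backward.isDefEq.respectTransparency.types false in
/-- For `g : V ⟶ U` in `Y.ProEt`, the square with corners `V ×_Y X, U ×_Y X, V, U` is
cartesian. -/
theorem isPullback_bcP_map {U V : Y.ProEt} (g : V ⟶ U) :
    IsPullback ((ProEtS.bcP f).map g).left
      (pullback.fst V.hom f : ((ProEtS.bcP f).obj V).left ⟶ V.left)
      (pullback.fst U.hom f : ((ProEtS.bcP f).obj U).left ⟶ U.left) g.left := by
  have e1 : ((ProEtS.bcP f).map g).left ≫ pullback.snd U.hom f = pullback.snd V.hom f := by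
    dsimp [ProEtS.bcP]
    exact pullback.lift_snd _ _ _
  have e2 : g.left ≫ U.hom = V.hom := Over.w g.hom
  refine IsPullback.of_right (h₁₂ := pullback.snd U.hom f) (v₁₃ := f) (h₂₂ := U.hom) ?_ ?_
    (IsPullback.of_hasPullback U.hom f).flip
  · exact (congrArg₂ (fun a d => IsPullback a (pullback.fst V.hom f) f d) e1 e2).mpr
      (IsPullback.of_hasPullback V.hom f).flip
  · dsimp [ProEtS.bcP]
    exact pullback.lift_fst _ _ _

/-- the projection from the base change -/
noncomputable abbrev prP (V : Y.ProEt) : ((ProEtS.bcP f).obj V).left ⟶ V.left :=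
  pullback.fst V.hom f

lemma bcP_obj_hom (V : Y.ProEt) : ((ProEtS.bcP f).obj V).hom = pullback.snd V.hom f := rfl

/-- base change of sites preserves cofiltered limits computed at the level of schemes -/
noncomputable def bcPIsLimit {K : Type u} [SmallCategory K] [IsCofiltered K] (D : K ⥤ Y.ProEt)
    (c : Cone D) (hc : IsLimit ((US Y).mapCone c)) :
    IsLimit ((US X).mapCone ((ProEtS.bcP f).mapCone c)) := by
  haveI : IsConnected K := IsCofiltered.isConnected K
  -- the cone in `Over Y`
  have h0 : IsLimit ((Over.forget Y).mapCone ((Scheme.ProEt.forget Y).mapCone c)) := hc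
  have h1 : IsLimit ((Scheme.ProEt.forget Y).mapCone c) := isLimitOfReflects (Over.forget Y) h0
  haveI : PreservesLimitsOfSize.{u, u} (Over.pullback f) :=
    (Over.mapPullbackAdj f).rightAdjoint_preservesLimits
  have h2 : IsLimit ((Over.pullback f).mapCone ((Scheme.ProEt.forget Y).mapCone c)) :=
    isLimitOfPreserves (Over.pullback f) h1
  have h3 : IsLimit ((Over.forget X).mapCone
      ((Over.pullback f).mapCone ((Scheme.ProEt.forget Y).mapCone c))) :=
    isLimitOfPreserves (Over.forget X) h2
  let e : ProEtS.bcP f ⋙ Scheme.ProEt.forget X ≅ Scheme.ProEt.forget Y ⋙ Over.pullback f :=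
    MorphismProperty.Over.pullbackCompForgetIso (P := @WeaklyEtale) (Q := ⊤) f
  have h4 : IsLimit (((Scheme.ProEt.forget Y ⋙ Over.pullback f) ⋙ Over.forget X).mapCone c) := h3
  let e' : (ProEtS.bcP f ⋙ Scheme.ProEt.forget X) ⋙ Over.forget X ≅
      (Scheme.ProEt.forget Y ⋙ Over.pullback f) ⋙ Over.forget X :=
    Functor.isoWhiskerRight e (Over.forget X)
  exact (IsLimit.mapConeEquiv e'.symm h4 :)

end Groth.Agent.Lib.Helper4.PEN
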