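import Mathlib
import Groth.Prelude.Def_ProEtS
import Groth.Agent.Lib.Helper4.PEN6

/-!
# The base change to `X` of an object of `Bset Y` has a presentation
-/

set_option autoImplicit false
set_option linter.style.haveILetI false
set_option linter.unusedSectionVars false
universe u

namespace Groth.Agent.Lib.Helper4.PEN

open CategoryTheory CategoryTheory.Limits AlgebraicGeometry Opposite
  Groth.Agent.Lib.Helper4.PELim Groth.Agent.Lib.Helper4.PE
  Groth.Agent.Lib.Helper4.PEC Groth.Agent.Lib.Helper4.PEQ

theorem IE_cancel {W D V₀ : Scheme.{u}} [IsAffine W] [IsAffine D] [IsAffine V₀] (π : W ⟶ D)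
    (q : D ⟶ V₀) [Etale q] (h : IE (π ≫ q)) : IE π := by
  letI a1 : Algebra Γ(V₀, ⊤) Γ(D, ⊤) := q.appTop.hom.toAlgebra
  letI a2 : Algebra Γ(D, ⊤) Γ(W, ⊤) := π.appTop.hom.toAlgebra
  letI a3 : Algebra Γ(V₀, ⊤) Γ(W, ⊤) := (π ≫ q).appTop.hom.toAlgebra
  haveI : IsScalarTower Γ(V₀, ⊤) Γ(D, ⊤) Γ(W, ⊤) := IsScalarTower.of_algebraMap_eq (fun a => by
    change (π ≫ q).appTop.hom a = π.appTop.hom (q.appTop.hom a)
    rw [Scheme.Hom.comp_appTop]
    rfl)
  exact Groth.Agent.Lib.Lead.IndEtCancel.cancel Γ(V₀, ⊤) Γ(D, ⊤) Γ(W, ⊤) (IE_of_etale q) h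
    (fun A B C _ _ _ _ _ _ _ hB hC => Groth.Agent.S0734.result A B C hB hC)

variable {X Y : Scheme.{u}} (f : X ⟶ Y)

lemma isAffineHom_bcP_map {U V : Y.ProEt} (g : V ⟶ U) [IsAffineHom g.left] :
    IsAffineHom ((ProEtS.bcP f).map g).left :=
  MorphismProperty.of_isPullback (P := @IsAffineHom) (isPullback_bcP_map f g).flip
    (inferInstanceAs (IsAffineHom g.left))

set_option backward.isDefEq.respectTransparency.types false in
set_option maxHeartbeats 1000000 in
/-- the presentation of the base change of an object of `Bset Y` -/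
noncomputable def qpresBc [QuasiCompact f] [QuasiSeparated f] {V V₀ : Y.ProEt} (g : V ⟶ V₀)
    [IsAffine V.left] [IsAffine V₀.left] (hV₀ : Etale V₀.hom) (hg : IE g.left) (S : IndSys g) :
    QPres ((ProEtS.bcP f).obj V) where
  K := S.K
  D := S.D ⋙ ProEtS.bcP f
  π k := (ProEtS.bcP f).map (S.π k)
  hπ f' := by rw [Functor.comp_map, ← Functor.map_comp, S.hπ]
  lim := bcPIsLimit f S.D (coneOf S.D V S.π S.hπ) S.lim
  et k := by
    haveI : Etale (S.D.obj k).hom := by
      have h1 : (S.D.obj k).hom = (S.q k).left ≫ V₀.hom := (MorphismProperty.Over.w (S.q k)).symm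
      rw [h1]
      haveI := S.et k
      infer_instance
    change Etale (pullback.snd (S.D.obj k).hom f)
    infer_instance
  qc k := by
    haveI := S.aff k
    haveI : CompactSpace ↥((𝟭 Scheme).obj (S.D.obj k).left) :=
      inferInstanceAs (CompactSpace ↥(S.D.obj k).left)
    change CompactSpace ↥(pullback (S.D.obj k).hom f)
    exact QuasiCompact.compactSpace_of_compactSpace (pullback.fst (S.D.obj k).hom f)
  qs k := by
    haveI := S.aff k
    haveI : QuasiSeparatedSpace ↥((𝟭 Scheme).obj (S.D.obj k).left) :=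
      inferInstanceAs (QuasiSeparatedSpace ↥(S.D.obj k).left)
    change QuasiSeparatedSpace ↥(pullback (S.D.obj k).hom f)
    exact quasiSeparatedSpace_of_quasiSeparated (pullback.fst (S.D.obj k).hom f)
  aff {k k'} f' := by
    haveI := S.aff k
    haveI := S.aff k'
    haveI : IsAffineHom (S.D.map f').left := isAffineHom_of_isAffine _
    exact isAffineHom_bcP_map f (S.D.map f')
  bset k A a hA hAet := by
    haveI := hA
    haveI := S.aff k
    haveI : IsAffineHom (S.π k).left := isAffineHom_of_isAffine _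
    let b := (ProEtS.bcP f).map (S.π k)
    haveI : IsAffineHom b.left := isAffineHom_bcP_map f (S.π k)
    haveI hPaff : IsAffine (pullback a b).left := isAffine_pullback_left_of_isAffineHom a b
    refine ⟨hPaff, A, pullback.fst a b, hA, hAet, ?_⟩
    have sq1 : IsPullback (pullback.fst a b).left (pullback.snd a b).left a.left b.left :=
      (IsPullback.of_hasPullback a b).map (US X)
    have sq2 := isPullback_bcP_map f (S.π k)
    have sq := sq1.flip.paste_horiz sq2.flip
    haveI := S.et k
    have hIE : IE (S.π k).left := by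
      refine IE_cancel (S.π k).left (S.q k).left ?_
      have h1 : (S.π k).left ≫ (S.q k).left = g.left := congrArg (fun m => m.left) (S.hπq k)
      rw [h1]
      exact hg
    haveI : IsAffine ((𝟭 Scheme).obj V.left) := inferInstanceAs (IsAffine V.left)
    haveI : IsAffine ((𝟭 Scheme).obj (S.D.obj k).left) := inferInstanceAs (IsAffine (S.D.obj k).left)
    haveI : IsAffine ((𝟭 Scheme).obj A.left) := inferInstanceAs (IsAffine A.left)
    exact IE_of_isPullback _ _ _ _ sq hIE

end Groth.Agent.Lib.Helper4.PEN
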