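import Mathlib
import Groth.Prelude.Def_ProEtS
import Groth.Agent.Lib.Helper4.PEN7
import Groth.Agent.Lib.Helper4.PE8

/-!
# Higher direct images along a qcqs morphism of sheaves acyclic for the two classes of coverings
-/

set_option autoImplicit false
set_option linter.style.haveILetI false
set_option linter.unusedSectionVars false
universe u

namespace Groth.Agent.Lib.Helper4.PEN

open CategoryTheory CategoryTheory.Limits AlgebraicGeometry Opposite
  Groth.Agent.Lib.Helper22.CechU Groth.Agent.Lib.Helper22.CechU.Site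
  Groth.Agent.Lib.Helper22.ColimCohU Groth.Agent.Lib.Helper22.DimShift
  Groth.Agent.Lib.Helper4.PELim Groth.Agent.Lib.Helper4.PE
  Groth.Agent.Lib.Helper4.PEC Groth.Agent.Lib.Helper4.PEQ

variable {Y : Scheme.{u}}

/-- the class of weakly contractible affine objects mapping into an affine open of the base -/
def Bwc (Y : Scheme.{u}) : Set Y.ProEt :=
  {V | IsAffine V.left ∧ EtPBC.IsWContractible Γ(V.left, ⊤) ∧
    ∃ Y₀ : Y.Opens, IsAffineOpen Y₀ ∧ Set.range V.hom.base ⊆ (Y₀ : Set Y)}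

set_option maxHeartbeats 1000000 in
lemma Bwc_le_Bset {V : Y.ProEt} (hV : V ∈ Bwc Y) : V ∈ Bset Y := by
  obtain ⟨h1, h2, Y₀, hY₀, hr⟩ := hV
  haveI := h1
  haveI : IsAffine ((Y₀ : Y.Opens) : Scheme) := hY₀
  let V₀ : Y.ProEt := opn (ProEtS.topP Y) Y₀
  have hr' : Set.range V.hom.base ⊆ Set.range Y₀.ι.base := by
    rw [Scheme.Opens.range_ι]
    exact hr
  let m : V.left ⟶ (Y₀ : Scheme) := IsOpenImmersion.lift Y₀.ι V.hom hr'
  have hm : m ≫ Y₀.ι = V.hom := IsOpenImmersion.lift_fac _ _ _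
  let g : V ⟶ V₀ := MorphismProperty.Over.homMk m (by
    change m ≫ Y₀.ι ≫ 𝟙 Y = V.hom
    rw [Category.comp_id, hm])
  haveI : IsAffine V₀.left := hY₀
  refine ⟨h1, V₀, g, hY₀, ?_, IE_of_isWC g (isWC_of_isWContractible V h2)⟩
  change Etale (Y₀.ι ≫ 𝟙 Y)
  infer_instance

set_option maxHeartbeats 1000000 in
/-- every object is covered by members of `Bwc` -/
theorem exists_Bwc_cover (V' : Y.ProEt) :
    ∃ (ι : Type u) (V : ι → Y.ProEt) (g : ∀ i, V i ⟶ V'),
      Sieve.generate (Presieve.ofArrows V g) ∈ Scheme.ProEt.topology Y V' ∧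
        ∀ i, V i ∈ Bwc Y := by
  let ι : Type u := {O : V'.left.affineOpens // ∃ Y₀ : Y.Opens, IsAffineOpen Y₀ ∧
    (O : V'.left.Opens) ≤ V'.hom ⁻¹ᵁ Y₀}
  let O : ι → V'.left.Opens := fun i => i.1.1
  have hO : (⋃ k, (O k : Set V'.left)) = Set.univ := by
    rw [Set.eq_univ_iff_forall]
    intro x
    obtain ⟨Y₀, hY₀, hy, -⟩ := exists_isAffineOpen_mem_and_subset (x := V'.hom.base x)
      (U := (⊤ : Y.Opens)) trivial
    obtain ⟨W, hW, hxW, hWle⟩ := exists_isAffineOpen_mem_and_subset (x := x)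
      (U := V'.hom ⁻¹ᵁ Y₀) hy
    exact Set.mem_iUnion.mpr ⟨⟨⟨W, hW⟩, Y₀, hY₀, hWle⟩, hxW⟩
  choose V g' haff hwc hsurj hqc using fun i : ι => exists_wc_over V' (O i) i.1.2
  refine ⟨ι, V, fun i => g' i ≫ opnι V' (O i), ?_, fun i => ?_⟩
  · refine ofArrows_comp_mem O hO V g' (fun i => ?_)
    haveI := hsurj i
    haveI := hqc i
    exact singleton_mem (g' i)
  · obtain ⟨Y₀, hY₀, hle⟩ := i.2
    refine ⟨haff i, hwc i, Y₀, hY₀, ?_⟩
    rintro _ ⟨v, rfl⟩
    have h1 : (V i).hom = (g' i).left ≫ (O i).ι ≫ V'.hom :=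
      (MorphismProperty.Over.w (g' i)).symm
    rw [h1, Scheme.Hom.comp_base, Scheme.Hom.comp_base]
    have h2 : (O i).ι.base ((g' i).left.base v) ∈ (O i : Set V'.left) :=
      ((g' i).left.base v).2
    exact hle h2

variable {X : Scheme.{u}} (f : X ⟶ Y) [QuasiCompact f] [QuasiSeparated f] [ProEtS.EpsCont X]
  [ProEtS.PCont f]

/-- sections over the base change of an object of `Bset Y` -/
theorem surjective_bcP (S : ShortComplex (ProEtS.AbP X)) (hS : S.ShortExact)
    (h1 : CovAcyclic (Covp X) S.X₁) (h2 : CovAcyclic (CovO X) S.X₁) {V : Y.ProEt}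
    (hV : V ∈ Bset Y) : Function.Surjective (S.g.hom.app (op ((ProEtS.bcP f).obj V))) := by
  obtain ⟨hVaff, V₀, g, hV₀aff, hV₀et, hg⟩ := hV
  haveI := hVaff
  haveI := hV₀aff
  obtain ⟨Sys⟩ := nonempty_indSys g hg
  exact surjective_of_qpres S hS h1 h2 (qpresBc f g hV₀et hg Sys)

/-- `f_*` of an epimorphism with acyclic kernel is an epimorphism -/
theorem epi_pushP_map (S : ShortComplex (ProEtS.AbP X)) (hS : S.ShortExact)
    (h1 : CovAcyclic (Covp X) S.X₁) (h2 : CovAcyclic (CovO X) S.X₁) :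
    Epi ((ProEtS.pushP f).map S.g) := by
  have : Sheaf.IsLocallySurjective ((ProEtS.pushP f).map S.g) := by
    constructor
    intro V' t
    obtain ⟨ι, V, g, hcov, hV⟩ := exists_Bwc_cover V'
    refine (Scheme.ProEt.topology Y).superset_covering ?_ hcov
    rw [Sieve.generate_le_iff]
    rintro Z _ ⟨i⟩
    obtain ⟨s, hs⟩ := surjective_bcP f S hS h1 h2 (Bwc_le_Bset (hV i))
      (((ProEtS.pushP f).obj S.X₃).obj.map (g i).op t)
    exact ⟨s, hs⟩
  exact Sheaf.epi_of_isLocallySurjective _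

/-- higher direct images of acyclic sheaves vanish -/
theorem isZero_RpushP_succ (G : ProEtS.AbP X) (hG1 : CovAcyclic (Covp X) G)
    (hG2 : CovAcyclic (CovO X) G) (n : ℕ) : IsZero ((ProEtS.RpushP f (n + 1)).obj G) := by
  have : PreservesLimits (ProEtS.pushP f) := (ProEtS.pullPushAdjP f).rightAdjoint_preservesLimits
  refine Groth.Agent.Lib.Helper22.AdaptedAcyclic.isZero_rightDerived_succ
    (F := ProEtS.pushP f)
    (I := fun F : ProEtS.AbP X => CovAcyclic (Covp X) F ∧ CovAcyclic (CovO X) F) ?_ ?_ n G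
    ⟨hG1, hG2⟩
  · intro F
    exact ⟨Injective.under F, Injective.ι F,
      ⟨fun U ι Yf _ p => acyc_of_injective_sheaf (Injective.under F) Yf p,
        fun U ι Yf _ p => acyc_of_injective_sheaf (Injective.under F) Yf p⟩, inferInstance⟩
  · intro S hS h1 h2
    exact ⟨⟨covAcyclic_quot' (fun Q => isSheaf_forgetP Q) h1p h2p S hS h1.1 h2.1,
      covAcyclicO_quot S hS h1.1 h1.2 h2.2⟩,
      shortExact_map_of_epi' (ProEtS.pushP f) hS (epi_pushP_map f S hS h1.1 h1.2)⟩

/-- `R^{n+1} f_* (ε⁻¹ I) = 0` for injective `I` -/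
theorem isZero_RpushP_epsPull_injective (I : EtCoh.Ab X) [Injective I] (n : ℕ) :
    IsZero ((ProEtS.RpushP f (n + 1)).obj ((ProEtS.epsPull X).obj I)) :=
  isZero_RpushP_succ f _ (covAcyclic_epsPull I) (covAcyclicO_epsPull I) n

end Groth.Agent.Lib.Helper4.PEN
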