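import Mathlib
import Groth.Prelude.Def_ProEtS
import Groth.Agent.Lib.Helper4.PEN8
import Groth.Agent.Lib.Helper4.PEps11

/-!
# The comparison `ε_Y⁻¹ f_{et,*} ⟶ f_{proet,*} ε_X⁻¹` is an isomorphism for `f` qcqs
-/

set_option autoImplicit false
set_option linter.style.haveILetI false
set_option linter.unusedSectionVars false
universe u

namespace Groth.Agent.Lib.Helper4.PEN

open CategoryTheory CategoryTheory.Limits AlgebraicGeometry Opposite
  Groth.Agent.Lib.Helper4.PELim Groth.Agent.Lib.Helper4.PE
  Groth.Agent.Lib.Helper4.PEC Groth.Agent.Lib.Helper4.PEQ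

variable {X Y : Scheme.{u}} (f : X ⟶ Y) [ProEtS.EpsCont X] [ProEtS.EpsCont Y] [ProEtS.PCont f]

/-- the adjoint of the comparison map -/
noncomputable def theta' (F : EtCoh.Ab X) :
    (EtCoh.push f).obj F ⟶
      (ProEtS.epsPush Y).obj ((ProEtS.pushP f).obj ((ProEtS.epsPull X).obj F)) :=
  (EtCoh.push f).map ((ProEtS.epsAdj X).unit.app F)

lemma theta'_naturality {F F' : EtCoh.Ab X} (φ : F ⟶ F') :
    (EtCoh.push f).map φ ≫ theta' f F' =
      theta' f F ≫ (ProEtS.epsPush Y).map ((ProEtS.pushP f).map ((ProEtS.epsPull X).map φ)) := by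
  have e1 : (EtCoh.push f).map φ ≫ (EtCoh.push f).map ((ProEtS.epsAdj X).unit.app F') =
      (EtCoh.push f).map ((ProEtS.epsAdj X).unit.app F) ≫
        (EtCoh.push f).map ((ProEtS.epsPush X).map ((ProEtS.epsPull X).map φ)) := by
    rw [← Functor.map_comp, ← Functor.map_comp]
    exact congrArg _ ((ProEtS.epsAdj X).unit.naturality φ)
  exact e1

instance isIso_theta' (F : EtCoh.Ab X) : IsIso (theta' f F) := by
  haveI := Groth.Agent.Lib.Helper4.PEps.isIso_unit F
  exact Functor.map_isIso (EtCoh.push f) ((ProEtS.epsAdj X).unit.app F)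

/-- the comparison map -/
noncomputable def theta (F : EtCoh.Ab X) :
    (ProEtS.epsPull Y).obj ((EtCoh.push f).obj F) ⟶
      (ProEtS.pushP f).obj ((ProEtS.epsPull X).obj F) :=
  ((ProEtS.epsAdj Y).homEquiv _ _).symm (theta' f F)

lemma theta_naturality {F F' : EtCoh.Ab X} (φ : F ⟶ F') :
    (ProEtS.epsPull Y).map ((EtCoh.push f).map φ) ≫ theta f F' =
      theta f F ≫ (ProEtS.pushP f).map ((ProEtS.epsPull X).map φ) := by
  unfold theta
  rw [← Adjunction.homEquiv_naturality_left_symm, ← Adjunction.homEquiv_naturality_right_symm,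
    theta'_naturality]

lemma unit_comp_map_theta (F : EtCoh.Ab X) :
    (ProEtS.epsAdj Y).unit.app ((EtCoh.push f).obj F) ≫ (ProEtS.epsPush Y).map (theta f F) =
      theta' f F := by
  have h := (ProEtS.epsAdj Y).homEquiv_unit (f := theta f F)
  rw [← h]
  unfold theta
  exact Equiv.apply_symm_apply _ _

instance isIso_epsPush_map_theta (F : EtCoh.Ab X) :
    IsIso ((ProEtS.epsPush Y).map (theta f F)) := by
  haveI := Groth.Agent.Lib.Helper4.PEps.isIso_unit ((EtCoh.push f).obj F)
  haveI : IsIso ((ProEtS.epsAdj Y).unit.app ((EtCoh.push f).obj F) ≫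
      (ProEtS.epsPush Y).map (theta f F)) := by
    rw [unit_comp_map_theta]
    infer_instance
  exact IsIso.of_isIso_comp_left ((ProEtS.epsAdj Y).unit.app ((EtCoh.push f).obj F)) _

/-- the comparison map is bijective on sections over objects coming from the étale site -/
lemma theta_bijective_eps (F : EtCoh.Ab X) (E : Y.Etale) :
    Function.Bijective ((theta f F).hom.app (op ((ProEtS.eps Y).obj E))) := by
  have h : IsIso (((sheafToPresheaf _ _).map ((ProEtS.epsPush Y).map (theta f F))).app (op E)) :=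
    inferInstance
  exact ConcreteCategory.bijective_of_isIso
    (((sheafToPresheaf _ _).map ((ProEtS.epsPush Y).map (theta f F))).app (op E))

set_option backward.isDefEq.respectTransparency.types false in
lemma theta_bijective_etale (F : EtCoh.Ab X) (A : Y.ProEt) [Etale A.hom] :
    Function.Bijective ((theta f F).hom.app (op A)) :=
  theta_bijective_eps f F (Scheme.Etale.mk A.hom)

end Groth.Agent.Lib.Helper4.PEN
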