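import Mathlib
import Groth.Prelude.Def_ProEtS
import Groth.Agent.Lib.Helper4.PEN9

/-!
# The comparison `ε_Y⁻¹ f_{et,*} ≅ f_{proet,*} ε_X⁻¹` for `f` qcqs
-/

set_option autoImplicit false
set_option linter.style.haveILetI false
set_option linter.unusedSectionVars false
universe u

namespace Groth.Agent.Lib.Helper4.PEN

open CategoryTheory CategoryTheory.Limits AlgebraicGeometry Opposite
  Groth.Agent.Lib.Helper4.PELim Groth.Agent.Lib.Helper4.PE
  Groth.Agent.Lib.Helper4.PEC Groth.Agent.Lib.Helper4.PEQ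

variable {Y : Scheme.{u}}

/-- A morphism of abelian pro-étale sheaves that is bijective on sections over all members of
`Bwc` is an isomorphism. -/
theorem isIso_of_bijective_Bwc {F G : ProEtS.AbP Y} (φ : F ⟶ G)
    (h : ∀ W ∈ Bwc Y, Function.Bijective (φ.hom.app (op W))) : IsIso φ := by
  rw [← Sheaf.isLocallyBijective_iff_isIso (A := AddCommGrpCat.{u + 1})]
  constructor
  · constructor
    intro V x y hxy
    obtain ⟨ι, W, g, hcov, hW⟩ := exists_Bwc_cover V.unop
    refine (Scheme.ProEt.topology Y).superset_covering ?_ hcov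
    rintro Z _ ⟨T, a, b, ⟨i⟩, rfl⟩
    apply Sieve.downward_closed
    change F.obj.map (g i).op x = F.obj.map (g i).op y
    apply (h (W i) (hW i)).1
    have h1 := NatTrans.naturality_apply φ.hom (g i).op x
    have h2 := NatTrans.naturality_apply φ.hom (g i).op y
    rw [h1, h2, hxy]
  · constructor
    intro V s
    obtain ⟨ι, W, g, hcov, hW⟩ := exists_Bwc_cover V
    refine (Scheme.ProEt.topology Y).superset_covering ?_ hcov
    rintro Z _ ⟨T, a, b, ⟨i⟩, rfl⟩
    apply Sieve.downward_closed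
    obtain ⟨t, ht⟩ := (h (W i) (hW i)).2 (G.obj.map (g i).op s)
    exact ⟨t, ht⟩

variable {X : Scheme.{u}} (f : X ⟶ Y) [ProEtS.EpsCont X] [ProEtS.EpsCont Y] [ProEtS.PCont f]
  [QuasiCompact f] [QuasiSeparated f]

set_option backward.isDefEq.respectTransparency.types false in
set_option maxHeartbeats 2000000 in
theorem theta_bijective_Bset (F : EtCoh.Ab X) {V : Y.ProEt} (hV : V ∈ Bset Y) :
    Function.Bijective ((theta f F).hom.app (op V)) := by
  obtain ⟨hVaff, V₀, g, hV₀aff, hV₀et, hg⟩ := hV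
  haveI := hVaff
  haveI := hV₀aff
  obtain ⟨S⟩ := nonempty_indSys g hg
  let P := qpresBc f g hV₀et hg S
  let A := (ProEtS.epsPull Y).obj ((EtCoh.push f).obj F)
  let B := (ProEtS.pushP f).obj ((ProEtS.epsPull X).obj F)
  have hDet : ∀ k, Etale (S.D.obj k).hom := fun k => by
    have h1 : (S.D.obj k).hom = (S.q k).left ≫ V₀.hom := (MorphismProperty.Over.w (S.q k)).symm
    rw [h1]
    haveI := S.et k
    infer_instance
  have hst : ∀ k, Function.Bijective ((theta f F).hom.app (op (S.D.obj k))) := fun k =>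
    haveI := hDet k
    theta_bijective_etale f F (S.D.obj k)
  have hnat : ∀ {U U' : Y.ProEt} (h : U ⟶ U') (x : A.obj.obj (op U')),
      (theta f F).hom.app (op U) (A.obj.map h.op x) =
        B.obj.map h.op ((theta f F).hom.app (op U') x) :=
    fun h x => NatTrans.naturality_apply (theta f F).hom h.op x
  constructor
  · rw [injective_iff_map_eq_zero]
    intro t ht
    obtain ⟨k, tk, htk⟩ := surj_G ((EtCoh.push f).obj F) S.D S.aff (coneOf S.D V S.π S.hπ) S.lim t
    have htk' : A.obj.map (S.π k).op tk = t := htk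
    have h1 : ((ProEtS.epsPull X).obj F).obj.map ((coneOf P.D _ P.π P.hπ).π.app k).op
        ((theta f F).hom.app (op (S.D.obj k)) tk) = 0 := by
      have h2 := hnat (S.π k) tk
      rw [htk', ht] at h2
      exact h2.symm
    obtain ⟨k', h, hh⟩ := inj_Gq F P.D P.aff P.qc (coneOf P.D _ P.π P.hπ) P.lim k _ h1
    have h2 : (theta f F).hom.app (op (S.D.obj k')) (A.obj.map (S.D.map h).op tk) = 0 :=
      (hnat (S.D.map h) tk).trans hh
    have h3 : A.obj.map (S.D.map h).op tk = 0 := (hst k').1 (h2.trans (map_zero _).symm)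
    rw [← htk', ← S.hπ h, op_comp, A.obj.map_comp, ConcreteCategory.comp_apply, h3, map_zero]
  · intro s
    obtain ⟨k, sk, hsk⟩ := surj_Gq F P.D P.aff P.qc P.qs (coneOf P.D _ P.π P.hπ) P.lim s
    obtain ⟨tk, htk⟩ := (hst k).2 sk
    refine ⟨A.obj.map (S.π k).op tk, ?_⟩
    rw [hnat, htk]
    exact hsk

instance isIso_theta (F : EtCoh.Ab X) : IsIso (theta f F) :=
  isIso_of_bijective_Bwc _ (fun _ hW => theta_bijective_Bset f F (Bwc_le_Bset hW))

/-- the comparison isomorphism `ε_Y⁻¹ f_{et,*} ≅ f_{proet,*} ε_X⁻¹` -/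
noncomputable def thetaIso : EtCoh.push f ⋙ ProEtS.epsPull Y ≅ ProEtS.epsPull X ⋙ ProEtS.pushP f :=
  NatIso.ofComponents (fun F => asIso (theta f F)) (fun φ => theta_naturality f φ)

end Groth.Agent.Lib.Helper4.PEN
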