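import Mathlib
import Groth.Prelude.Def_ProEtS
import Groth.Agent.Lib.Helper4.PEN10

/-!
# `R^q f_{proet,*} (ε_X⁻¹ F) ≅ ε_Y⁻¹ (R^q f_{et,*} F)` for `f` qcqs
-/

set_option autoImplicit false
set_option linter.style.haveILetI false
set_option linter.unusedSectionVars false
universe u v v' u₁ u₂

namespace Groth.Agent.Lib.Helper4.PEN

open CategoryTheory CategoryTheory.Limits AlgebraicGeometry Opposite
  Groth.Agent.Lib.Helper22.DimShift Groth.Agent.Lib.Helper22.Horseshoe

section abstract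

variable {C : Type u₁} [Category.{v} C] [Abelian C] [EnoughInjectives C]
  {D : Type u₂} [Category.{v'} D] [Abelian D] (G : C ⥤ D) [G.Additive]

lemma isIso_δ (S : ShortComplex C) (hS : S.ShortExact) (n : ℕ)
    (h1 : IsZero ((G.rightDerived (n + 1)).obj S.X₂))
    (h2 : IsZero ((G.rightDerived (n + 2)).obj S.X₂)) :
    IsIso ((derivedLES G).δ S hS (n + 1) (n + 2) rfl) := by
  haveI : Mono ((derivedLES G).δ S hS (n + 1) (n + 2) rfl) :=
    ((derivedLES G).exact₃ S hS (n + 1) (n + 2) rfl).mono_g (h1.eq_of_src _ _)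
  haveI : Epi ((derivedLES G).δ S hS (n + 1) (n + 2) rfl) :=
    ((derivedLES G).exact₁ S hS (n + 1) (n + 2) rfl).epi_f (h2.eq_of_tgt _ _)
  exact isIso_of_mono_of_epi _

lemma nonempty_rightDerived_one_iso [PreservesFiniteLimits G] (S : ShortComplex C)
    (hS : S.ShortExact) (h : IsZero ((G.rightDerived 1).obj S.X₂)) :
    Nonempty ((G.rightDerived 1).obj S.X₁ ≅ cokernel (G.map S.g)) := by
  haveI hepi : Epi ((derivedLES G).δ S hS 0 1 rfl) :=
    ((derivedLES G).exact₁ S hS 0 1 rfl).epi_f (h.eq_of_tgt _ _)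
  have hex := (derivedLES G).exact₃ S hS 0 1 rfl
  haveI : Epi (ShortComplex.mk _ _ ((derivedLES G).comp_δ S hS 0 1 rfl)).g := hepi
  have hcok := hex.gIsCokernel
  let e1 : cokernel ((G.rightDerived 0).map S.g) ≅ (G.rightDerived 1).obj S.X₁ :=
    IsColimit.coconePointUniqueUpToIso (cokernelIsCokernel _) hcok
  let e2 : cokernel ((G.rightDerived 0).map S.g) ≅ cokernel (G.map S.g) :=
    cokernel.mapIso _ _ (G.rightDerivedZeroIsoSelf.app S.X₂) (G.rightDerivedZeroIsoSelf.app S.X₃)
      (G.rightDerivedZeroIsoSelf.hom.naturality S.g)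
  exact ⟨e1.symm ≪≫ e2⟩

end abstract

open Groth.Agent.Lib.Helper4.PEM

variable {X Y : Scheme.{u}} (f : X ⟶ Y) [ProEtS.EpsCont X] [ProEtS.EpsCont Y] [ProEtS.PCont f]
  [QuasiCompact f] [QuasiSeparated f]

set_option maxHeartbeats 2000000 in
theorem nonempty_RpushP_epsPull_iso : ∀ (q : ℕ) (F : EtCoh.Ab X),
    Nonempty ((ProEtS.RpushP f q).obj ((ProEtS.epsPull X).obj F) ≅
      (ProEtS.epsPull Y).obj ((EtCoh.Rpush f q).obj F))
  | 0, F => by
    haveI : PreservesLimits (ProEtS.pushP f) :=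
      (ProEtS.pullPushAdjP f).rightAdjoint_preservesLimits
    haveI : PreservesLimits (EtCoh.push f) := (EtCoh.pullPushAdj f).rightAdjoint_preservesLimits
    exact ⟨(ProEtS.pushP f).rightDerivedZeroIsoSelf.app _ ≪≫ ((thetaIso f).app F).symm ≪≫
      (ProEtS.epsPull Y).mapIso ((EtCoh.push f).rightDerivedZeroIsoSelf.app F).symm⟩
  | 1, F => by
    haveI : PreservesLimits (ProEtS.pushP f) :=
      (ProEtS.pullPushAdjP f).rightAdjoint_preservesLimits
    haveI : PreservesLimits (EtCoh.push f) := (EtCoh.pullPushAdj f).rightAdjoint_preservesLimits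
    haveI : PreservesColimits (ProEtS.epsPull Y) :=
      (ProEtS.epsAdj Y).leftAdjoint_preservesColimits
    let S := injSC F
    have hS : S.ShortExact := injSC_shortExact F
    let S' := S.map (ProEtS.epsPull X)
    have hS' : S'.ShortExact := shortExact_map_epsPull hS
    have hz : IsZero (((ProEtS.pushP f).rightDerived 1).obj S'.X₂) :=
      isZero_RpushP_epsPull_injective f S.X₂ 0
    obtain ⟨e1⟩ := nonempty_rightDerived_one_iso (ProEtS.pushP f) S' hS' hz
    let e2 : cokernel ((ProEtS.pushP f).map S'.g) ≅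
        cokernel ((ProEtS.epsPull Y).map ((EtCoh.push f).map S.g)) :=
      cokernel.mapIso _ _ ((thetaIso f).symm.app S.X₂) ((thetaIso f).symm.app S.X₃)
        ((thetaIso f).inv.naturality S.g)
    let e3 := PreservesCokernel.iso (ProEtS.epsPull Y) ((EtCoh.push f).map S.g)
    let e4 := rightDerivedOneIso (EtCoh.push f) S hS
    exact ⟨e1 ≪≫ e2 ≪≫ e3.symm ≪≫ (ProEtS.epsPull Y).mapIso e4.symm⟩
  | q + 2, F => by
    let S := injSC F
    have hS : S.ShortExact := injSC_shortExact F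
    let S' := S.map (ProEtS.epsPull X)
    have hS' : S'.ShortExact := shortExact_map_epsPull hS
    obtain ⟨e⟩ := nonempty_RpushP_epsPull_iso (q + 1) S.X₃
    haveI := isIso_δ (ProEtS.pushP f) S' hS' q (isZero_RpushP_epsPull_injective f S.X₂ q)
      (isZero_RpushP_epsPull_injective f S.X₂ (q + 1))
    let e1 := asIso ((derivedLES (ProEtS.pushP f)).δ S' hS' (q + 1) (q + 2) rfl)
    let e2 := rightDerivedSuccSuccIso (EtCoh.push f) S hS q
    exact ⟨e1.symm ≪≫ e ≪≫ (ProEtS.epsPull Y).mapIso e2.symm⟩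

end Groth.Agent.Lib.Helper4.PEN
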