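import Mathlib
import Groth.Prelude.Def_ProEtS
import Groth.Prelude.Def_PBC
import Groth.Agent.Lib.Helper4.PEPush1
import Groth.Agent.Lib.Helper4.WcFin5
import Groth.Agent.Lib.Helper4.Wc3

/-!
# Base change of weakly contractible objects along finite finitely presented morphisms
-/

set_option autoImplicit false
set_option linter.style.haveILetI false
set_option linter.unusedSectionVars false
universe u

namespace Groth.Agent.Lib.Helper4.WcFin

theorem isWContractible_of_finite' (A B : Type u) [CommRing A] [CommRing B]
    [Algebra A B] [Module.Finite A B] [Algebra.FinitePresentation A B]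
    (h : EtPBC.IsWContractible A) : EtPBC.IsWContractible B := by
  obtain ⟨hWA, hEDA, hSHA⟩ := Wc.of_isWContractible A h
  obtain ⟨hWB, hEDB, hSHB⟩ := WcFin.isWContractible_of_finite A B hWA hEDA hSHA
  exact Wc.isWContractible_of B hWB hEDB hSHB

end Groth.Agent.Lib.Helper4.WcFin

namespace Groth.Agent.Lib.Helper4.PEPush

open CategoryTheory CategoryTheory.Limits AlgebraicGeometry Opposite Groth.Agent.Lib.Helper4.PE

variable {X : Scheme.{u}}

set_option backward.isDefEq.respectTransparency.types false in
theorem isWC_bcP_of_finite {Z : Scheme.{u}} (f : Z ⟶ X) [IsFinite f]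
    [LocallyOfFinitePresentation f] (W : X.ProEt) (hW : IsAffine W.left)
    (hwc : EtPBC.IsWContractible Γ(W.left, ⊤)) : ProEtS.IsWC ((ProEtS.bcP f).obj W) := by
  let p : ((ProEtS.bcP f).obj W).left ⟶ W.left := pullback.fst W.hom f
  haveI : IsFinite p := inferInstanceAs (IsFinite (pullback.fst W.hom f))
  haveI : LocallyOfFinitePresentation p :=
    inferInstanceAs (LocallyOfFinitePresentation (pullback.fst W.hom f))
  haveI : IsAffine ((ProEtS.bcP f).obj W).left := isAffine_of_isAffineHom p
  apply isWC_of_isWContractible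
  have hfin : p.appTop.hom.Finite := p.finite_appTop
  have hfp : p.appTop.hom.FinitePresentation :=
    (HasRingHomProperty.iff_of_isAffine (P := @LocallyOfFinitePresentation)).mp inferInstance
  letI : Algebra Γ(W.left, ⊤) Γ(((ProEtS.bcP f).obj W).left, ⊤) := p.appTop.hom.toAlgebra
  haveI : Module.Finite Γ(W.left, ⊤) Γ(((ProEtS.bcP f).obj W).left, ⊤) := hfin
  haveI : Algebra.FinitePresentation Γ(W.left, ⊤) Γ(((ProEtS.bcP f).obj W).left, ⊤) := hfp
  exact WcFin.isWContractible_of_finite' Γ(W.left, ⊤) Γ(((ProEtS.bcP f).obj W).left, ⊤) hwc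

end Groth.Agent.Lib.Helper4.PEPush
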