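import Mathlib
import Groth.Prelude.Def_ProEtS
import Groth.Prelude.Def_PBC
import Groth.Agent.Lib.Helper4.PEPush1
import Groth.Agent.Lib.Helper4.WcFin6

/-!
# Base change of weakly contractible objects along closed immersions with retrocompact complement
-/

set_option autoImplicit false
set_option linter.style.haveILetI false
set_option linter.unusedSectionVars false
universe u

namespace Groth.Agent.Lib.Helper4.PEPush

open CategoryTheory CategoryTheory.Limits AlgebraicGeometry Opposite Groth.Agent.Lib.Helper4.PE

/-- For a morphism of affine schemes, compactness of the complement of the range transfers to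
the prime spectra. -/
theorem isCompact_compl_range_comap {P W : Scheme.{u}} [IsAffine P] [IsAffine W] (p : P ⟶ W)
    (h : IsCompact (Set.range p.base)ᶜ) :
    IsCompact (Set.range (PrimeSpectrum.comap p.appTop.hom))ᶜ := by
  have hnat : Spec.map p.appTop = P.isoSpec.inv ≫ p ≫ W.isoSpec.hom := by
    rw [← Scheme.isoSpec_hom_naturality, Iso.inv_hom_id_assoc]
  have hr : Set.range (Spec.map p.appTop).base =
      W.isoSpec.hom.base '' (Set.range p.base) := by
    rw [hnat]
    ext x
    constructor
    · rintro ⟨y, rfl⟩
      exact ⟨p.base (P.isoSpec.inv.base y), ⟨_, rfl⟩, rfl⟩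
    · rintro ⟨_, ⟨y, rfl⟩, rfl⟩
      refine ⟨P.isoSpec.hom.base y, ?_⟩
      rw [← Scheme.Hom.comp_apply, Iso.hom_inv_id_assoc, Scheme.Hom.comp_apply]
  have hbij : Function.Bijective W.isoSpec.hom.base :=
    (Scheme.homeoOfIso W.isoSpec).bijective
  have key : IsCompact (Set.range (Spec.map p.appTop).base)ᶜ := by
    rw [hr, ← Set.image_compl_eq hbij]
    exact h.image W.isoSpec.hom.continuous
  exact key

/-- The preimage of a retrocompact open under a morphism from a quasi-compact scheme is
quasi-compact. -/
theorem isCompact_preimage_of_isRetrocompact {W X : Scheme.{u}} [CompactSpace W] (f : W ⟶ X)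
    (U : Set X) (hU : IsOpen U) (hr : IsRetrocompact U) : IsCompact (f.base ⁻¹' U) := by
  have h1 : IsRetrocompact (f.base ⁻¹' U) :=
    IsRetrocompact_iff_isSpectralMap_subtypeVal.mpr
      (quasiCompact_iff_isSpectralMap.mp
      (MorphismProperty.of_isPullback (P := @QuasiCompact)
      (isPullback_morphismRestrict f ⟨U, hU⟩)
      (quasiCompact_iff_isSpectralMap.mpr (IsRetrocompact_iff_isSpectralMap_subtypeVal.mp hr))))
  have := h1 isCompact_univ isOpen_univ
  rwa [Set.inter_univ] at this

variable {X : Scheme.{u}}

set_option backward.isDefEq.respectTransparency.types false in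
theorem isWC_bcP_of_isClosedImmersion {Z : Scheme.{u}} (i : Z ⟶ X) [IsClosedImmersion i]
    (hr : IsRetrocompact (Set.range i.base)ᶜ) (W : X.ProEt) (hW : IsAffine W.left)
    (hwc : EtPBC.IsWContractible Γ(W.left, ⊤)) : ProEtS.IsWC ((ProEtS.bcP i).obj W) := by
  let p : ((ProEtS.bcP i).obj W).left ⟶ W.left := pullback.fst W.hom i
  haveI : IsClosedImmersion p := inferInstanceAs (IsClosedImmersion (pullback.fst W.hom i))
  obtain ⟨haff, hsurj⟩ := IsClosedImmersion.isAffine_surjective_of_isAffine p
  haveI : IsAffine ((ProEtS.bcP i).obj W).left := haff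
  apply isWC_of_isWContractible
  haveI : CompactSpace W.left := inferInstance
  have hopen : IsOpen (Set.range i.base)ᶜ := i.isClosedEmbedding.isClosed_range.isOpen_compl
  have hc0 : IsCompact (Set.range p.base)ᶜ := by
    have : Set.range p.base = W.hom.base ⁻¹' Set.range i.base := Scheme.Pullback.range_fst W.hom i
    rw [this, ← Set.preimage_compl]
    exact isCompact_preimage_of_isRetrocompact (W := W.left) (X := X) W.hom _ hopen hr
  have hc := isCompact_compl_range_comap p hc0
  letI : Algebra Γ(W.left, ⊤) Γ(((ProEtS.bcP i).obj W).left, ⊤) := p.appTop.hom.toAlgebra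
  exact WcFin.isWContractible_of_surjective Γ(W.left, ⊤) Γ(((ProEtS.bcP i).obj W).left, ⊤)
    hsurj hc hwc

end Groth.Agent.Lib.Helper4.PEPush
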