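import Mathlib
import Groth.Prelude.Def_ProEtS
import Groth.Agent.Lib.Helper4.PEQ1

/-!
# Pro-étale cohomology of a qcqs scheme commutes with filtered colimits, II
-/

set_option autoImplicit false
set_option linter.style.haveILetI false
set_option linter.unusedSectionVars false
universe w₂ w₁ u

namespace Groth.Agent.Lib.Helper4.PEQ

open CategoryTheory CategoryTheory.Limits AlgebraicGeometry Opposite Abelian
  Groth.Agent.Lib.Helper22.CechU Groth.Agent.Lib.Helper22.CechU.Site
  Groth.Agent.Lib.Helper22.ColimCohU Groth.Agent.Lib.Helper4.PELim Groth.Agent.Lib.Helper4.PE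
  Groth.Agent.Lib.Helper4.PEC

variable {X : Scheme.{u}}

/-- Refinement of a covering sieve of a qcqs pro-étale scheme by a finite family of affines. -/
lemma exists_refinement (U : X.ProEt) (hU : U ∈ Bq X) (T : Sieve U)
    (hT : T ∈ Scheme.ProEt.topology X U) :
    ∃ (ι : Type (u + 1)) (Y : ι → Over U), Covq X U ι Y ∧ ∀ i, T.arrows (Y i).hom := by
  obtain ⟨hc, hq⟩ := hU
  obtain ⟨t, ht⟩ := isCompact_univ.elim_finite_subcover
    (fun k : U.left.affineOpens => ((k : U.left.Opens) : Set U.left))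
    (fun k => (k : U.left.Opens).2) (by rw [iUnion_affineOpens])
  have key : ∀ k : ↥t, Refines T (opnι U k.1.1) := fun k =>
    haveI : IsAffine (opn U k.1.1).left := k.1.2
    refines_of_mem T hT (opn U k.1.1) (opnι U k.1.1)
  choose κ hκ W' g haff hmem hsurj using key
  haveI : ∀ k, Finite (κ k) := hκ
  refine ⟨ULift.{u + 1} (Σ k : ↥t, κ k), fun p => Over.mk (g p.down.1 p.down.2 ≫ opnι U p.down.1.1.1),
    ⟨inferInstance, ⟨hc, hq⟩, fun p => ?_, fun x => ?_⟩, fun p => hmem p.down.1 p.down.2⟩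
  · haveI : IsAffine (W' p.down.1 p.down.2).left := haff p.down.1 p.down.2
    exact ⟨inferInstanceAs (CompactSpace (W' p.down.1 p.down.2).left),
      inferInstanceAs (QuasiSeparatedSpace (W' p.down.1 p.down.2).left)⟩
  · obtain ⟨k, hk⟩ := Set.mem_iUnion.mp (ht (Set.mem_univ x))
    obtain ⟨hkt, hxk⟩ := Set.mem_iUnion.mp hk
    obtain ⟨l, y, hy⟩ := hsurj ⟨k, hkt⟩ ⟨x, hxk⟩
    refine ⟨⟨⟨⟨k, hkt⟩, l⟩⟩, y, ?_⟩
    change ((g ⟨k, hkt⟩ l).left ≫ (k : U.left.Opens).ι).base y = x
    rw [Scheme.Hom.comp_base, TopCat.comp_app, hy]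
    rfl

lemma h1q (U : X.ProEt) (ι : Type (u + 1)) (Y : ι → Over U) (h : Covq X U ι Y) :
    U ∈ Bq X ∧ Sieve.ofArrows (fun i => (Y i).left) (fun i => (Y i).hom) ∈
      Scheme.ProEt.topology X U ∧
      ∀ (p : ℕ) (a : Fin (p + 1) → ι), (Uσ Y a).left ∈ Bq X :=
  ⟨h.2.1, ofArrows_mem Y h, fun _ a => Bq_prod h.2.1 Y h.2.2.1 a⟩

lemma h2q (U : X.ProEt) (hU : U ∈ Bq X) (T : Sieve U) (hT : T ∈ Scheme.ProEt.topology X U) :
    ∃ (ι : Type (u + 1)) (Y : ι → Over U), Covq X U ι Y ∧ ∀ i, T.arrows (Y i).hom :=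
  exists_refinement U hU T hT

lemma hfinq (U : X.ProEt) (ι : Type (u + 1)) (Y : ι → Over U) (h : Covq X U ι Y) : Finite ι :=
  h.1

lemma top_mem_Bq (X : Scheme.{u}) [CompactSpace X] [QuasiSeparatedSpace X] :
    topP X ∈ Bq X :=
  ⟨‹CompactSpace X›, ‹QuasiSeparatedSpace X›⟩

/-- The constant sheaf `ℤ`, which corepresents global sections. -/
noncomputable abbrev ZP (X : Scheme.{u}) : ProEtS.AbP X :=
  (constantSheaf (Scheme.ProEt.topology X) AddCommGrpCat.{u + 1}).obj
    (AddCommGrpCat.of (ULift.{u + 1} ℤ))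

section Main

variable (X : Scheme.{u}) [CompactSpace X] [QuasiSeparatedSpace X]
  (I : Type w₁) [Category.{w₂} I] [IsFiltered I]
  [HasColimitsOfShape I AddCommGrpCat.{u + 1}]
  [PreservesColimitsOfShape I (forget AddCommGrpCat.{u + 1})]
  [HasColimitsOfShape I (ProEtS.AbP X)]
  [HasExactColimitsOfShape I (ProEtS.AbP X)]

/-- Pro-étale cohomology of a qcqs scheme commutes with filtered colimits, elementwise form. -/
theorem comm_proet (n : ℕ) : Comm I (ZP X) n := by
  obtain ⟨Jf, jf, hJ⟩ :=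
    Groth.Agent.Lib.Helper18.FunctorialInjective.exists_functorial_injective_embedding.{u + 1}
      (ProEtS.AbP X)
  have hinj : ∀ G, Injective (Jf.obj G) := fun G => (hJ G).1
  have hmono : ∀ G, Mono (jf.app G) := fun G => (hJ G).2
  exact comm (J := Scheme.ProEt.topology X) Jf jf (B := Bq X) (Cov := Covq X)
    (fun Q => isSheaf_forgetP Q) h1q h2q hfinq (ZP X) (topP X) (top_mem_Bq X)
    (fun G => Sheaf.H.equiv₀ G (topPIsTerminal X))
    (fun {G G'} φ x => (Sheaf.H.equiv₀_naturality (hT := topPIsTerminal X) φ x).symm) n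

/-- Pro-étale cohomology of a qcqs scheme commutes with filtered colimits. -/
theorem preservesColimitsOfShape_HPF (n : ℕ) : PreservesColimitsOfShape I (ProEtS.HPF X n) := by
  have hP := comm_proet X I n
  constructor
  intro F
  have : ReflectsColimit (F ⋙ ProEtS.HPF X n) (forget AddCommGrpCat.{u + 1}) :=
    reflectsColimit_of_reflectsIsomorphisms _ _
  apply preservesColimit_of_preserves_colimit_cocone (colimit.isColimit F)
  apply isColimitOfReflects (forget AddCommGrpCat.{u + 1})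
  apply Types.FilteredColimit.isColimitOf'
  · intro x
    obtain ⟨i, y, hy⟩ := hP.rep F x
    exact ⟨i, y, hy.symm⟩
  · intro i x y hxy
    let x' : Abelian.Ext (ZP X) (F.obj i) n := x
    let y' : Abelian.Ext (ZP X) (F.obj i) n := y
    have h0 : push (ZP X) n (colimit.ι F i) (x' - y') = 0 := by
      rw [map_sub, sub_eq_zero]
      exact hxy
    obtain ⟨j, g, hg⟩ := hP.zero F i (x' - y') h0
    refine ⟨j, g, ?_⟩
    rw [map_sub, sub_eq_zero] at hg
    exact hg

end Main

section Small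

variable (X : Scheme.{u})

instance preservesColimitsOfShape_forget_small (J : Type u) [SmallCategory J] [IsFiltered J] :
    PreservesColimitsOfShape J (forget AddCommGrpCat.{u + 1}) := by
  have : PreservesFilteredColimitsOfSize.{u, u} (forget AddCommGrpCat.{u + 1}) :=
    preservesFilteredColimitsOfSize_shrink.{u, u + 1, u, u + 1} _
  infer_instance

instance hasExactColimitsOfShape_small (J : Type u) [SmallCategory J] [IsFiltered J] :
    HasExactColimitsOfShape J (ProEtS.AbP X) := by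
  have h := AB5OfSize_shrink.{u, u, u + 1, u + 1} (ProEtS.AbP X)
  exact h.ofShape J

end Small

end Groth.Agent.Lib.Helper4.PEQ
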