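import Mathlib

/-!
# Preservation of arbitrary coproducts from finite coproducts and filtered colimits
-/

set_option autoImplicit false
set_option linter.style.haveILetI false
set_option linter.unusedSectionVars false
universe w v₁ v₂ u₁ u₂

namespace Groth.Agent.Lib.Helper4.PEQ

open CategoryTheory CategoryTheory.Limits CoproductsFromFiniteFiltered

variable {A : Type u₁} [Category.{v₁} A] {B : Type u₂} [Category.{v₂} B] [HasFiniteCoproducts A]
  (G : A ⥤ B) {α : Type w}

lemma ι_finiteSubcoproductsCocone (f : α → A) [HasCoproduct f] (S : Finset (Discrete α))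
    (x : ↥S) :
    Sigma.ι (fun y : ↥S => f y.1.as) x ≫ (finiteSubcoproductsCocone f).ι.app S =
      Sigma.ι f x.1.as := by
  simp [finiteSubcoproductsCocone]

lemma ι_liftToFinsetObj_map (f : α → A) {S S' : Finset (Discrete α)} (h : S ⟶ S') (x : ↥S) :
    Sigma.ι (fun y : ↥S => f y.1.as) x ≫ (liftToFinsetObj (Discrete.functor f)).map h =
      Sigma.ι (fun y : ↥S' => f y.1.as) ⟨x.1, h.down.down x.2⟩ := by
  simp [liftToFinsetObj]

/-- A functor preserving finite coproducts and colimits of shape `Finset (Discrete α)` preserves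
coproducts indexed by `α`. -/
theorem preservesCoproduct_of_finset (f : α → A) [HasCoproduct f]
    [HasColimitsOfShape (Finset (Discrete α)) A]
    [PreservesColimitsOfShape (Finset (Discrete α)) G] [PreservesFiniteCoproducts G] :
    PreservesColimit (Discrete.functor f) G := by
  classical
  have hG : IsColimit (G.mapCocone (finiteSubcoproductsCocone f)) :=
    isColimitOfPreserves G (isColimitFiniteSubproductsCocone f)
  have hS : ∀ S : Finset (Discrete α),
      IsColimit (Cofan.mk (G.obj (∐ fun y : ↥S => f y.1.as))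
        fun x => G.map (Sigma.ι (fun y : ↥S => f y.1.as) x)) := fun S =>
    isColimitCofanMkObjOfIsColimit G _ _ (coproductIsCoproduct (fun y : ↥S => f y.1.as))
  refine preservesColimit_of_preserves_colimit_cocone (coproductIsCoproduct f)
    ((isColimitMapCoconeCofanMkEquiv G f _).symm ?_)
  -- the descent maps on finite stages
  let d : ∀ (s : Cofan fun a => G.obj (f a)) (S : Finset (Discrete α)),
      G.obj (∐ fun y : ↥S => f y.1.as) ⟶ s.pt := fun s S =>
    Cofan.IsColimit.desc (hS S) (fun x => s.inj x.1.as)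
  have hd : ∀ (s : Cofan fun a => G.obj (f a)) (S : Finset (Discrete α)) (x : ↥S),
      G.map (Sigma.ι (fun y : ↥S => f y.1.as) x) ≫ d s S = s.inj x.1.as := fun s S x =>
    Cofan.IsColimit.fac (hS S) _ x
  let cc : ∀ (s : Cofan fun a => G.obj (f a)),
      Cocone (liftToFinsetObj (Discrete.functor f) ⋙ G) := fun s =>
    { pt := s.pt
      ι :=
        { app := fun S => d s S
          naturality := by
            intro S S' h
            apply Cofan.IsColimit.hom_ext (hS S)
            intro x
            change G.map (Sigma.ι (fun y : ↥S => f y.1.as) x) ≫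
              G.map ((liftToFinsetObj (Discrete.functor f)).map h) ≫ d s S' =
              G.map (Sigma.ι (fun y : ↥S => f y.1.as) x) ≫ d s S ≫ 𝟙 _
            rw [Category.comp_id, ← G.map_comp_assoc, ι_liftToFinsetObj_map, hd]
            exact hd s S' ⟨x.1, h.down.down x.2⟩ } }
  refine Cofan.IsColimit.mk _ (fun s => hG.desc (cc s)) (fun s a => ?_) (fun s m hm => ?_)
  · let S₀ : Finset (Discrete α) := {⟨a⟩}
    let x₀ : ↥S₀ := ⟨⟨a⟩, by simp [S₀]⟩
    have h1 : Sigma.ι (fun y : ↥S₀ => f y.1.as) x₀ ≫ (finiteSubcoproductsCocone f).ι.app S₀ =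
        Sigma.ι f a := ι_finiteSubcoproductsCocone f S₀ x₀
    have h2 : G.map ((finiteSubcoproductsCocone f).ι.app S₀) ≫ hG.desc (cc s) = d s S₀ :=
      hG.fac (cc s) S₀
    have e1 : G.map (Sigma.ι f a) ≫ hG.desc (cc s) =
        G.map (Sigma.ι (fun y : ↥S₀ => f y.1.as) x₀ ≫
            (finiteSubcoproductsCocone f).ι.app S₀) ≫ hG.desc (cc s) :=
      congrArg (fun m => G.map m ≫ hG.desc (cc s)) h1.symm
    have e2 : G.map (Sigma.ι (fun y : ↥S₀ => f y.1.as) x₀ ≫
            (finiteSubcoproductsCocone f).ι.app S₀) ≫ hG.desc (cc s) =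
        G.map (Sigma.ι (fun y : ↥S₀ => f y.1.as) x₀) ≫
            G.map ((finiteSubcoproductsCocone f).ι.app S₀) ≫ hG.desc (cc s) :=
      (congrArg (fun m => m ≫ hG.desc (cc s)) (G.map_comp _ _)).trans (Category.assoc _ _ _)
    have e3 : G.map (Sigma.ι (fun y : ↥S₀ => f y.1.as) x₀) ≫
            G.map ((finiteSubcoproductsCocone f).ι.app S₀) ≫ hG.desc (cc s) = s.inj a :=
      (congrArg (fun m => G.map (Sigma.ι (fun y : ↥S₀ => f y.1.as) x₀) ≫ m) h2).trans
        (hd s S₀ x₀)
    exact e1.trans (e2.trans e3)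
  · apply hG.hom_ext
    intro S
    rw [hG.fac]
    change G.map ((finiteSubcoproductsCocone f).ι.app S) ≫ m = d s S
    apply Cofan.IsColimit.hom_ext (hS S)
    intro x
    change G.map (Sigma.ι (fun y : ↥S => f y.1.as) x) ≫
      G.map ((finiteSubcoproductsCocone f).ι.app S) ≫ m =
      G.map (Sigma.ι (fun y : ↥S => f y.1.as) x) ≫ d s S
    rw [← G.map_comp_assoc, ι_finiteSubcoproductsCocone, hd]
    exact hm x.1.as

end Groth.Agent.Lib.Helper4.PEQ
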