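import Mathlib
import Groth.Agent.Lib.Helper6.UB6
import Groth.Agent.Lib.Helper6.GeomUnibranch2
set_option autoImplicit false
set_option linter.unusedSectionVars false
universe u v

namespace Groth.Agent.Lib.Helper4.PolyGU

open MvPolynomial

section IC

variable (R : Type u) [CommRing R] [IsDomain R] (σ : Type v)

attribute [local instance] MvPolynomial.algebraMvPolynomial

theorem isUnit_algebraMap_of_mem (y : ((nonZeroDivisors R).map (C (σ := σ)) : Submonoid (MvPolynomial σ R))) :
    IsUnit (algebraMap (MvPolynomial σ R) (FractionRing (MvPolynomial σ R)) y) := by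
  obtain ⟨_, r, hr, rfl⟩ := y
  apply IsUnit.mk0
  rw [Ne, map_eq_zero_iff _ (IsFractionRing.injective _ _), C_eq_zero]
  exact nonZeroDivisors.ne_zero hr

/-- `K[σ] → Frac(R[σ])`. -/
noncomputable def polyToFrac : MvPolynomial σ (FractionRing R) →+* FractionRing (MvPolynomial σ R) :=
  IsLocalization.lift (M := (nonZeroDivisors R).map (C (σ := σ))) (isUnit_algebraMap_of_mem R σ)

theorem polyToFrac_map (f : MvPolynomial σ R) :
    polyToFrac R σ (map (algebraMap R (FractionRing R)) f) =
      algebraMap (MvPolynomial σ R) (FractionRing (MvPolynomial σ R)) f :=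
  IsLocalization.lift_eq _ f

/-- the algebra structure -/
noncomputable abbrev polyAlg : Algebra (MvPolynomial σ (FractionRing R)) (FractionRing (MvPolynomial σ R)) :=
  (polyToFrac R σ).toAlgebra

attribute [local instance] polyAlg

instance : IsScalarTower (MvPolynomial σ R) (MvPolynomial σ (FractionRing R))
    (FractionRing (MvPolynomial σ R)) :=
  IsScalarTower.of_algebraMap_eq fun f => (polyToFrac_map R σ f).symm

instance : IsFractionRing (MvPolynomial σ (FractionRing R)) (FractionRing (MvPolynomial σ R)) :=
  IsFractionRing.isFractionRing_of_isDomain_of_isLocalization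
    ((nonZeroDivisors R).map (C (σ := σ))) _ _

/-- **Integral closure of `R[σ]` in its fraction field is `R^ν[σ]`.** -/
theorem exists_map_eq_of_isIntegral (z : FractionRing (MvPolynomial σ R))
    (hz : IsIntegral (MvPolynomial σ R) z) :
    ∃ h' : MvPolynomial σ (integralClosure R (FractionRing R)),
      polyToFrac R σ (map (algebraMap _ (FractionRing R)) h') = z := by
  have h1 : IsIntegral (MvPolynomial σ (FractionRing R)) z := hz.tower_top
  obtain ⟨h, rfl⟩ := IsIntegrallyClosed.isIntegral_iff.mp h1
  have hinj : Function.Injective (algebraMap (MvPolynomial σ (FractionRing R))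
      (FractionRing (MvPolynomial σ R))) := IsFractionRing.injective _ _
  have h2 : IsIntegral (MvPolynomial σ R) h := (isIntegral_algebraMap_iff hinj).mp hz
  have h3 := MvPolynomial.isIntegral_iff_isIntegral_coeff.mp h2
  have h4 : h ∈ Set.range (map (algebraMap (integralClosure R (FractionRing R)) (FractionRing R))) := by
    rw [mem_range_map_iff_coeffs_subset]
    intro c hc
    rw [Finset.mem_coe, mem_coeffs_iff] at hc
    obtain ⟨n, -, rfl⟩ := hc
    exact ⟨⟨h.coeff n, h3 n⟩, rfl⟩
  obtain ⟨h', rfl⟩ := h4
  exact ⟨h', rfl⟩

end IC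

section GU

open IsLocalRing Groth.Agent.Lib.Helper6.GU

attribute [local instance] MvPolynomial.algebraMvPolynomial polyAlg

variable (R : Type u) [CommRing R] [IsDomain R] [IsLocalRing R] (σ : Type v)
  (P : Ideal (MvPolynomial σ R)) [P.IsPrime]

/-- `R^ν[σ] → Frac(R[σ])`. -/
noncomputable def θ₀ : MvPolynomial σ (integralClosure R (FractionRing R)) →+*
    FractionRing (MvPolynomial σ R) :=
  (polyToFrac R σ).comp (map (algebraMap (integralClosure R (FractionRing R)) (FractionRing R)))

theorem θ₀_isIntegral (f : MvPolynomial σ (integralClosure R (FractionRing R))) :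
    IsIntegral (MvPolynomial σ R) (θ₀ R σ f) := by
  have h1 : IsIntegral (MvPolynomial σ R)
      (map (algebraMap (integralClosure R (FractionRing R)) (FractionRing R)) f) := by
    rw [MvPolynomial.isIntegral_iff_isIntegral_coeff]
    intro n
    rw [coeff_map]
    exact (f.coeff n).2
  exact h1.algebraMap

theorem θ₀_C_algebraMap (r : R) :
    θ₀ R σ (C (algebraMap R (integralClosure R (FractionRing R)) r)) =
      algebraMap (MvPolynomial σ R) (FractionRing (MvPolynomial σ R)) (C r) := by
  rw [θ₀, RingHom.comp_apply, map_C, ← polyToFrac_map, map_C]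
  rfl

theorem θ₀_X (i : σ) :
    θ₀ R σ (X i) = algebraMap (MvPolynomial σ R) (FractionRing (MvPolynomial σ R)) (X i) := by
  rw [θ₀, RingHom.comp_apply, map_X, ← polyToFrac_map, map_X]

theorem isLocalization_atPrime_self : IsLocalization.AtPrime R (maximalIdeal R) :=
  IsLocalization.of_le_isUnit (fun x hx => IsLocalRing.notMem_maximalIdeal.mp hx)

end GU

section GU

open IsLocalRing Groth.Agent.Lib.Helper6.GU

attribute [local instance] MvPolynomial.algebraMvPolynomial polyAlg

variable (R : Type (max u v)) [CommRing R] [IsDomain R] [IsLocalRing R] (σ : Type v)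
  (P : Ideal (MvPolynomial σ R)) [P.IsPrime]

set_option maxHeartbeats 800000 in
/-- **Localizations of a polynomial ring over a geometrically unibranch local domain at primes
over the closed point are geometrically unibranch** (intrinsic form). -/
theorem gu'_localization (hP : P.comap (C : R →+* MvPolynomial σ R) = maximalIdeal R)
    (hGU : GU' R (FractionRing R)) :
    GU' (Localization.AtPrime P) (FractionRing (MvPolynomial σ R)) := by
  apply Groth.Agent.Lib.Helper6.UB.gu'_of_hom_eq
  intro Ω _ σ' τ hστ hker
  have hστ' : ∀ o : Localization.AtPrime P,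
      σ' (algebraMap (Localization.AtPrime P) _ o) = τ (algebraMap (Localization.AtPrime P) _ o) :=
    fun o => RingHom.congr_fun hστ o
  have hθmem : ∀ f, θ₀ R σ f ∈
      integralClosure (Localization.AtPrime P) (FractionRing (MvPolynomial σ R)) :=
    fun f => (θ₀_isIntegral R σ f).tower_top
  let θ : MvPolynomial σ (integralClosure R (FractionRing R)) →+*
      integralClosure (Localization.AtPrime P) (FractionRing (MvPolynomial σ R)) :=
    (θ₀ R σ).codRestrict _ hθmem
  have hmem_iff : ∀ b : MvPolynomial σ R,
      σ' (algebraMap (Localization.AtPrime P) _ (algebraMap (MvPolynomial σ R) _ b)) = 0 ↔ b ∈ P := by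
    intro b
    have h0 : σ' (algebraMap (Localization.AtPrime P) _ (algebraMap (MvPolynomial σ R) _ b)) = 0 ↔
        algebraMap (MvPolynomial σ R) (Localization.AtPrime P) b ∈
          RingHom.ker (σ'.comp (algebraMap (Localization.AtPrime P) _)) := Iff.rfl
    rw [h0, hker, IsLocalization.AtPrime.to_map_mem_maximal_iff _ P]
  have hθC : ∀ r : R, θ (C (algebraMap R _ r)) = algebraMap (Localization.AtPrime P) _
      (algebraMap (MvPolynomial σ R) (Localization.AtPrime P) (C r)) := by
    intro r
    apply Subtype.ext
    change θ₀ R σ _ = algebraMap (Localization.AtPrime P) (FractionRing _) _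
    rw [θ₀_C_algebraMap, ← IsScalarTower.algebraMap_apply]
  have hθX : ∀ i : σ, θ (X i) = algebraMap (Localization.AtPrime P) _
      (algebraMap (MvPolynomial σ R) (Localization.AtPrime P) (X i)) := by
    intro i
    apply Subtype.ext
    change θ₀ R σ _ = algebraMap (Localization.AtPrime P) (FractionRing _) _
    rw [θ₀_X, ← IsScalarTower.algebraMap_apply]
  have hθeq : σ'.comp θ = τ.comp θ := by
    apply MvPolynomial.ringHom_ext
    · intro c
      have := isLocalization_atPrime_self R
      have key := hom_eq_of_gu' (A := R) (O := R) (K := FractionRing R) (maximalIdeal R) hGU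
        ((σ'.comp θ).comp C) ((τ.comp θ).comp C) ?_ ?_
      · exact congrArg (fun F => F c) key
      · ext r
        simp only [RingHom.comp_apply]
        rw [hθC]
        exact hστ' _
      · ext r
        rw [RingHom.mem_ker]
        simp only [RingHom.comp_apply]
        rw [hθC, hmem_iff, ← hP, Ideal.mem_comap]
    · intro i
      simp only [RingHom.comp_apply]
      rw [hθX]
      exact hστ' _
  ext y
  obtain ⟨m, hm⟩ := IsIntegral.exists_multiple_integral_of_isLocalization
    (R := MvPolynomial σ R) (Rₘ := Localization.AtPrime P) P.primeCompl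
    (y : FractionRing (MvPolynomial σ R)) y.2
  obtain ⟨f, hf⟩ := exists_map_eq_of_isIntegral R σ _ hm
  have h2 : algebraMap (Localization.AtPrime P) _
      (algebraMap (MvPolynomial σ R) (Localization.AtPrime P) (m : MvPolynomial σ R)) * y = θ f := by
    apply Subtype.ext
    change algebraMap (Localization.AtPrime P) (FractionRing _) _ *
      (y : FractionRing (MvPolynomial σ R)) = θ₀ R σ f
    rw [← IsScalarTower.algebraMap_apply, ← Algebra.smul_def]
    exact hf.symm
  have h3 := congrArg σ' h2
  have h4 := congrArg τ h2
  rw [map_mul] at h3 h4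
  have h5 : σ' (θ f) = τ (θ f) := congrArg (fun F => F f) hθeq
  have h6 : σ' (algebraMap (Localization.AtPrime P) _
      (algebraMap (MvPolynomial σ R) (Localization.AtPrime P) (m : MvPolynomial σ R))) =
      τ (algebraMap (Localization.AtPrime P) _
      (algebraMap (MvPolynomial σ R) (Localization.AtPrime P) (m : MvPolynomial σ R))) :=
    hστ' _
  have h7 : σ' (algebraMap (Localization.AtPrime P) _
      (algebraMap (MvPolynomial σ R) (Localization.AtPrime P) (m : MvPolynomial σ R))) ≠ 0 := by
    intro h0
    exact m.2 ((hmem_iff _).mp h0)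
  apply mul_left_cancel₀ h7
  rw [h3, h5, ← h4, h6]

/-- **Localizations of a polynomial ring over a geometrically unibranch local domain at primes
over the closed point are geometrically unibranch domains.** -/
theorem isGeomUnibranch_localization (hP : P.comap (C : R →+* MvPolynomial σ R) = maximalIdeal R)
    (hGU : CAlg2.IsGeomUnibranch R) :
    IsDomain (Localization.AtPrime P) ∧ CAlg2.IsGeomUnibranch (Localization.AtPrime P) :=
  ⟨inferInstance, isGeomUnibranch_of_gu' (Localization.AtPrime P) (FractionRing (MvPolynomial σ R))
    (gu'_localization.{u, v} R σ P hP (gu'_of_isGeomUnibranch R (FractionRing R) hGU))⟩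

end GU
end Groth.Agent.Lib.Helper4.PolyGU
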