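import Mathlib

/-!
# Binary products of étale algebras are étale
-/

set_option autoImplicit false
universe u v

namespace Groth.Agent.Lib.Helper4.ProdEtale

/-- The family of two types indexed by `Bool`. -/
def Fam (B C : Type v) : Bool → Type v := fun b => cond b B C

noncomputable instance instCommRingFam (B C : Type v) [CommRing B] [CommRing C] (b : Bool) :
    CommRing (Fam B C b) := by
  cases b
  · exact (inferInstance : CommRing C)
  · exact (inferInstance : CommRing B)

noncomputable instance instAlgebraFam (A : Type u) [CommRing A] (B C : Type v) [CommRing B]
    [CommRing C] [Algebra A B] [Algebra A C] (b : Bool) : Algebra A (Fam B C b) := by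
  cases b
  · exact (inferInstance : Algebra A C)
  · exact (inferInstance : Algebra A B)

/-- The product as a Pi-type over `Bool`. -/
noncomputable def prodEquiv (A : Type u) [CommRing A] (B C : Type v) [CommRing B] [CommRing C]
    [Algebra A B] [Algebra A C] : (∀ b, Fam B C b) ≃ₐ[A] B × C where
  toFun f := (f true, f false)
  invFun p := fun b => Bool.rec (motive := fun b => Fam B C b) p.2 p.1 b
  left_inv f := by
    funext b
    cases b <;> rfl
  right_inv p := rfl
  map_mul' f g := rfl
  map_add' f g := rfl
  commutes' a := rfl

theorem etale_prod (A : Type u) [CommRing A] (B C : Type v) [CommRing B] [CommRing C]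
    [Algebra A B] [Algebra A C] [Algebra.Etale A B] [Algebra.Etale A C] :
    Algebra.Etale A (B × C) := by
  have h : ∀ b, Algebra.Etale A (Fam B C b) := by
    intro b
    cases b
    · exact (inferInstance : Algebra.Etale A C)
    · exact (inferInstance : Algebra.Etale A B)
  exact Algebra.Etale.of_equiv (prodEquiv A B C)

end Groth.Agent.Lib.Helper4.ProdEtale
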