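import Mathlib

/-!
# Submodules with (locally) flat quotient are (locally) pure

If `ι : K → F` is injective and the localization of `F ⧸ range ι` at a submonoid `S` is flat, then
`ι m ∈ u • ⊤` implies `t • m ∈ u • ⊤` for some `t ∈ S`.
-/

set_option autoImplicit false

namespace Groth.Agent.Lib.Helper4

theorem exists_common_mul {A : Type*} [CommRing A] (S : Submonoid A) {κ : Type*} [Fintype κ]
    (Pr : κ → A → Prop) (hmul : ∀ j a c, Pr j a → c ∈ S → Pr j (c * a))
    (h : ∀ j, ∃ a ∈ S, Pr j a) : ∃ a ∈ S, ∀ j, Pr j a := by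
  classical
  choose a haS ha using h
  refine ⟨∏ j, a j, Submonoid.prod_mem _ (fun j _ => haS j), fun j => ?_⟩
  rw [← Finset.mul_prod_erase Finset.univ a (Finset.mem_univ j), mul_comm]
  exact hmul j _ _ (ha j) (Submonoid.prod_mem _ (fun j' _ => haS j'))

theorem exists_smul_mem_smul_top_of_flat_localizedModule_quotient
    {A : Type*} [CommRing A] {KA FA : Type*} [AddCommGroup KA] [Module A KA]
    [AddCommGroup FA] [Module A FA]
    (ι : KA →ₗ[A] FA) (hι : Function.Injective ι) (S : Submonoid A) (u : Ideal A)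
    [Module.Flat A (LocalizedModule S (FA ⧸ LinearMap.range ι))]
    (m : KA) (hm : ι m ∈ u • (⊤ : Submodule A FA)) :
    ∃ t ∈ S, t • m ∈ u • (⊤ : Submodule A KA) := by
  classical
  set q : FA →ₗ[A] LocalizedModule S (FA ⧸ LinearMap.range ι) :=
    (LocalizedModule.mkLinearMap S (FA ⧸ LinearMap.range ι)).comp (LinearMap.range ι).mkQ with hq
  have hqι : ∀ k : KA, q (ι k) = 0 := by
    intro k
    have : (LinearMap.range ι).mkQ (ι k) = 0 := by
      rw [Submodule.mkQ_apply, Submodule.Quotient.mk_eq_zero]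
      exact LinearMap.mem_range_self ι k
    rw [hq, LinearMap.comp_apply, this, map_zero]
  -- representation of `ι m`
  have h1 : ι m ∈ u • Submodule.span A (Set.range (id : FA → FA)) := by
    simpa using hm
  obtain ⟨a, hau, hsum⟩ := (Submodule.mem_ideal_smul_span_iff_exists_sum u id (ι m)).mp h1
  have hsum' : ∑ i : a.support, a i.1 • (i.1 : FA) = ι m := by
    have := Finset.sum_coe_sort a.support (fun y => a y • y)
    rw [this, ← hsum]
    rfl
  have hq0 : ∑ i : a.support, a i.1 • q (i.1 : FA) = 0 := by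
    simp only [← map_smul, ← map_sum]
    rw [hsum', hqι]
  obtain ⟨k, b, z, hz₀, hb₀⟩ := Module.Flat.isTrivialRelation_of_sum_smul_eq_zero hq0
  have hz : ∀ i : a.support, q (i.1 : FA) = ∑ j, b i j • z j := hz₀
  have hb : ∀ j : Fin k, ∑ i : a.support, a i.1 * b i j = 0 := hb₀
  -- common denominator for the `z j`
  obtain ⟨s, hsS, hs⟩ := exists_common_mul S (fun (j : Fin k) c => ∃ w : FA, c • z j = q w)
    (by
      rintro j c c' ⟨w, hw⟩ _
      exact ⟨c' • w, by rw [mul_smul, hw, map_smul]⟩)
    (by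
      intro j
      induction z j using LocalizedModule.induction_on with
      | _ q' s' =>
        obtain ⟨w, rfl⟩ := Submodule.mkQ_surjective _ q'
        refine ⟨(s' : A), s'.2, w, ?_⟩
        rw [hq, LinearMap.comp_apply, LocalizedModule.mkLinearMap_apply]
        rw [LocalizedModule.smul'_mk]
        exact LocalizedModule.mk_cancel s' _)
  choose w hw using hs
  have h2 : ∀ i : a.support, q (s • (i.1 : FA) - ∑ j, b i j • w j) = 0 := by
    intro i
    rw [map_sub, map_smul, hz i, Finset.smul_sum, map_sum, sub_eq_zero]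
    refine Finset.sum_congr rfl (fun j _ => ?_)
    rw [map_smul, ← hw j, smul_comm]
  obtain ⟨t, htS, ht⟩ := exists_common_mul S
    (fun (i : a.support) c => ∃ k' : KA, c • (s • (i.1 : FA) - ∑ j, b i j • w j) = ι k')
    (by
      rintro i c c' ⟨k', hk'⟩ _
      exact ⟨c' • k', by rw [mul_smul, hk', map_smul]⟩)
    (by
      intro i
      have h3 := h2 i
      rw [hq, LinearMap.comp_apply] at h3
      obtain ⟨s', hs'⟩ := (IsLocalizedModule.eq_zero_iff S
        (LocalizedModule.mkLinearMap S (FA ⧸ LinearMap.range ι))).mp h3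
      have h4 : (LinearMap.range ι).mkQ ((s' : A) • (s • (i.1 : FA) - ∑ j, b i j • w j)) = 0 := by
        rw [map_smul]
        exact hs'
      rw [Submodule.mkQ_apply, Submodule.Quotient.mk_eq_zero] at h4
      obtain ⟨k', hk'⟩ := h4
      exact ⟨(s' : A), s'.2, k', hk'.symm⟩)
  choose k' hk' using ht
  refine ⟨t * s, S.mul_mem htS hsS, ?_⟩
  have h5 : ∀ i : a.support, (t * s) • (i.1 : FA) = ι (k' i) + t • ∑ j, b i j • w j := by
    intro i
    rw [← hk' i, smul_sub, mul_smul]
    abel
  have h6 : ∑ i : a.support, a i.1 • (t • ∑ j, b i j • w j) = 0 := by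
    have : ∀ i : a.support, a i.1 • (t • ∑ j, b i j • w j) =
        ∑ j, t • ((a i.1 * b i j) • w j) := by
      intro i
      rw [Finset.smul_sum, Finset.smul_sum]
      refine Finset.sum_congr rfl (fun j _ => ?_)
      rw [smul_comm (a i.1) t, mul_smul]
    simp only [this]
    rw [Finset.sum_comm]
    refine Finset.sum_eq_zero (fun j _ => ?_)
    rw [← Finset.smul_sum, ← Finset.sum_smul, hb j, zero_smul, smul_zero]
  have h7 : ι ((t * s) • m) = ι (∑ i : a.support, a i.1 • k' i) := by
    rw [map_smul, ← hsum', Finset.smul_sum, map_sum]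
    have : ∀ i : a.support, (t * s) • (a i.1 • (i.1 : FA)) =
        ι (a i.1 • k' i) + a i.1 • (t • ∑ j, b i j • w j) := by
      intro i
      rw [smul_comm, h5 i, smul_add, map_smul]
    simp only [this]
    rw [Finset.sum_add_distrib, h6, add_zero]
  rw [hι h7]
  exact Submodule.sum_mem _ (fun i _ => Submodule.smul_mem_smul (hau i.1) trivial)

end Groth.Agent.Lib.Helper4
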