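import Mathlib
import Groth.Prelude.Def_Hens2
import Groth.Agent.Lib.Helper4.HzPairFin3
import Groth.Agent.Lib.Helper4.HzVanish

/-!
# Quasi-finite near `V(I)` becomes finite after an étale neighbourhood: henselian level
-/

set_option autoImplicit false
universe u

namespace Groth.Agent.Lib.Helper4.QFNbhd

open Groth.Agent.Lib.Helper12 Groth.Agent.Lib.Helper12.HzPair
open TensorProduct

/-- finiteness of the reduction of a base change -/
theorem finite_quotient_baseChange {A : Type u} [CommRing A] (I : Ideal A) (B : Type u) [CommRing B]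
    [Algebra A B] (hfin : Module.Finite A (B ⧸ I.map (algebraMap A B)))
    (Ah : Type u) [CommRing Ah] [Algebra A Ah] :
    Module.Finite Ah ((Ah ⊗[A] B) ⧸
      (I.map (algebraMap A Ah)).map (algebraMap Ah (Ah ⊗[A] B))) := by
  set K : Ideal (Ah ⊗[A] B) := (I.map (algebraMap A Ah)).map (algebraMap Ah (Ah ⊗[A] B)) with hK
  have hmem : ∀ i ∈ I, ∀ r : Ah ⊗[A] B, i • r ∈ K := by
    intro i hi r
    rw [Algebra.smul_def]
    refine Ideal.mul_mem_right _ _ ?_
    rw [IsScalarTower.algebraMap_apply A Ah (Ah ⊗[A] B)]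
    exact Ideal.mem_map_of_mem _ (Ideal.mem_map_of_mem _ hi)
  let f0 : B →ₐ[A] (Ah ⊗[A] B) ⧸ K :=
    (Ideal.Quotient.mkₐ A K).comp Algebra.TensorProduct.includeRight
  have hf0 : ∀ b ∈ I.map (algebraMap A B), f0 b = 0 := by
    intro b hb
    have hle : I.map (algebraMap A B) ≤ RingHom.ker f0.toRingHom := by
      rw [Ideal.map_le_iff_le_comap]
      intro i hi
      show f0 (algebraMap A B i) = 0
      rw [f0.commutes, IsScalarTower.algebraMap_apply A (Ah ⊗[A] B) ((Ah ⊗[A] B) ⧸ K)]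
      show Ideal.Quotient.mk K _ = 0
      rw [Ideal.Quotient.eq_zero_iff_mem, Algebra.algebraMap_eq_smul_one]
      exact hmem i hi 1
    exact hle hb
  let f : (B ⧸ I.map (algebraMap A B)) →ₐ[A] (Ah ⊗[A] B) ⧸ K :=
    Ideal.Quotient.liftₐ _ f0 hf0
  let F : Ah ⊗[A] (B ⧸ I.map (algebraMap A B)) →ₗ[Ah] (Ah ⊗[A] B) ⧸ K :=
    LinearMap.liftBaseChange Ah f.toLinearMap
  refine Module.Finite.of_surjective F ?_
  intro y
  obtain ⟨r, rfl⟩ := Ideal.Quotient.mk_surjective y
  induction r using TensorProduct.induction_on with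
  | zero => exact ⟨0, by simp⟩
  | tmul a b =>
    refine ⟨a ⊗ₜ Ideal.Quotient.mk _ b, ?_⟩
    simp only [F, LinearMap.liftBaseChange_tmul, AlgHom.toLinearMap_apply]
    show a • Ideal.Quotient.mk K ((1 : Ah) ⊗ₜ[A] b) = _
    have h1 : a • Ideal.Quotient.mk K ((1 : Ah) ⊗ₜ[A] b) =
        Ideal.Quotient.mk K (a • ((1 : Ah) ⊗ₜ[A] b)) := rfl
    rw [h1, TensorProduct.smul_tmul', smul_eq_mul, mul_one]
  | add x y hx hy =>
    obtain ⟨x', hx'⟩ := hx
    obtain ⟨y', hy'⟩ := hy
    exact ⟨x' + y', by rw [map_add, hx', hy', map_add]⟩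

/-- henselian level: the idempotent cutting out the finite part, with integrality witnesses. -/
theorem hens_level {A : Type u} [CommRing A] (I : Ideal A) (B : Type u) [CommRing B] [Algebra A B]
    [Algebra.FiniteType A B] (hfin : Module.Finite A (B ⧸ I.map (algebraMap A B)))
    {Ah : Type u} [CommRing Ah] [Algebra A Ah] (hAh : Hens2.IsPairHenselization A I Ah) :
    ∃ e : Ah ⊗[A] B, IsIdempotentElem e ∧ 1 - e ∈ I.map (algebraMap A (Ah ⊗[A] B)) ∧
      ∀ b : B, ∃ p : Polynomial Ah, p.Monic ∧ e * Polynomial.aeval ((1 : Ah) ⊗ₜ[A] b) p = 0 := by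
  have _ : HenselianRing Ah (I.map (algebraMap A Ah)) := hAh.1
  obtain ⟨e, he, hefin, hone⟩ :=
    HzPairFin.exists_idempotent_finite_quotient Ah (I.map (algebraMap A Ah)) (Ah ⊗[A] B)
      (finite_quotient_baseChange I B hfin Ah)
  refine ⟨e, he, ?_, fun b => ?_⟩
  · rwa [Ideal.map_map, ← IsScalarTower.algebraMap_eq] at hone
  · have hint : IsIntegral Ah (Ideal.Quotient.mk (Ideal.span {1 - e}) ((1 : Ah) ⊗ₜ[A] b)) :=
      Algebra.IsIntegral.isIntegral _
    obtain ⟨p, hp, hp0⟩ := hint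
    refine ⟨p, hp, ?_⟩
    have h1 : Ideal.Quotient.mk (Ideal.span {1 - e}) (Polynomial.aeval ((1 : Ah) ⊗ₜ[A] b) p) = 0 := by
      rw [← Ideal.Quotient.mkₐ_eq_mk Ah, ← Polynomial.aeval_algHom_apply]
      exact hp0
    rw [Ideal.Quotient.eq_zero_iff_mem, Ideal.mem_span_singleton'] at h1
    obtain ⟨w, hw⟩ := h1
    rw [← hw]
    have : e * (w * (1 - e)) = w * (e - e * e) := by ring
    rw [this, he.eq, sub_self, mul_zero]

end Groth.Agent.Lib.Helper4.QFNbhd
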