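import Mathlib
import Groth.Prelude.Def_Hens2
import Groth.Agent.Lib.Helper4.QFNbhd1
import Groth.Agent.Lib.Helper12.HzPairDef

/-!
# Quasi-finite near `V(I)` becomes finite after an étale neighbourhood: descent
-/

set_option autoImplicit false
universe u

namespace Groth.Agent.Lib.Helper4.QFNbhd

open Groth.Agent.Lib.Helper12 Groth.Agent.Lib.Helper12.HzPair
open Groth.Agent.Lib.Helper4.HzPairBase
open TensorProduct

/-- lifting finitely many tensors and scalars to a common neighbourhood -/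
theorem exists_common_nbhd_tensor {A Ah : Type u} [CommRing A] [CommRing Ah] [Algebra A Ah]
    (I : Ideal A) (hAh : Hens2.IsPairHenselization A I Ah) (N : Type u) [AddCommGroup N]
    [Module A N] (T : Finset (Ah ⊗[A] N)) (T₀ : Finset Ah) :
    ∃ (E : Type u) (_ : CommRing E) (_ : Algebra A E), IsNbhd I E ∧ ∃ ψ : E →ₐ[A] Ah,
      (∀ x ∈ T₀, x ∈ ψ.range) ∧ ∀ t ∈ T, t ∈ LinearMap.range (ψ.toLinearMap.rTensor N) := by
  classical
  have hS : ∀ t : Ah ⊗[A] N, ∃ S : Finset (Ah × N), t = ∑ i ∈ S, i.1 ⊗ₜ[A] i.2 :=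
    fun t => TensorProduct.exists_finset t
  choose S hS using hS
  obtain ⟨E, _, _, hE, ψ, hψ⟩ := exists_common_nbhd I hAh
    (T₀ ∪ T.biUnion fun t => (S t).image Prod.fst)
  refine ⟨E, inferInstance, inferInstance, hE, ψ, fun x hx => hψ x (Finset.mem_union_left _ hx),
    fun t ht => ?_⟩
  rw [hS t]
  refine Submodule.sum_mem _ fun i hi => ?_
  have : i.1 ∈ ψ.range := hψ _ (Finset.mem_union_right _
    (Finset.mem_biUnion.mpr ⟨t, ht, Finset.mem_image_of_mem _ hi⟩))
  obtain ⟨a, ha⟩ := this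
  have ha' : ψ a = i.1 := ha
  exact ⟨a ⊗ₜ i.2, by rw [LinearMap.rTensor_tmul, AlgHom.toLinearMap_apply, ha']⟩

/-- simultaneous vanishing after multiplying by an element of `1 + I E` -/
theorem exists_mem_M_smul_eq_zero {A E Ah : Type u} [CommRing A] [CommRing E]
    [CommRing Ah] [Algebra A E] [Algebra A Ah] (I : Ideal A)
    (hAh : Hens2.IsPairHenselization A I Ah) (hE : IsNbhd I E) (ψ : E →ₐ[A] Ah)
    (N : Type u) [AddCommGroup N] [Module A N] (T : Finset (E ⊗[A] N))
    (hT : ∀ z ∈ T, (ψ.toLinearMap.rTensor N) z = 0) :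
    ∃ u : E, u ∈ M I E ∧ ∀ z ∈ T, u • z = 0 := by
  classical
  induction T using Finset.induction_on with
  | empty => exact ⟨1, one_mem _, fun z hz => by simp at hz⟩
  | insert a T _ ih =>
    obtain ⟨u, hu, huT⟩ := ih fun z hz => hT z (Finset.mem_insert_of_mem hz)
    obtain ⟨v, hv, hva⟩ := exists_smul_eq_zero_of_rTensor_eq_zero I hAh hE ψ N a
      (hT a (Finset.mem_insert_self _ _))
    refine ⟨u * v, mul_mem hu (mem_M.mpr hv), fun z hz => ?_⟩
    rcases Finset.mem_insert.mp hz with rfl | hz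
    · rw [mul_smul, hva, smul_zero]
    · rw [mul_comm, mul_smul, huT z hz, smul_zero]

end Groth.Agent.Lib.Helper4.QFNbhd
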