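import Mathlib
import Groth.Prelude.Def_Hens2
import Groth.Agent.Lib.Helper4.QFNbhd2

/-!
# Quasi-finite near `V(I)` becomes finite after an étale neighbourhood: the idempotent
-/

set_option autoImplicit false
universe u

namespace Groth.Agent.Lib.Helper4.QFNbhd

open Groth.Agent.Lib.Helper12 Groth.Agent.Lib.Helper12.HzPair
open Groth.Agent.Lib.Helper4.HzPairBase
open TensorProduct

/-- There is an étale neighbourhood `E` of `(A, I)` and an idempotent `e` of `E ⊗ B`, congruent to
`1` modulo `I`, such that the chosen elements of `B` become integral over `E` on the `e`-part. -/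
theorem exists_nbhd_idempotent {A : Type u} [CommRing A] (I : Ideal A) (B : Type u) [CommRing B]
    [Algebra A B] [Algebra.FiniteType A B] (hfin : Module.Finite A (B ⧸ I.map (algebraMap A B)))
    (s : Finset B) :
    ∃ (E : Type u) (_ : CommRing E) (_ : Algebra A E), IsNbhd I E ∧ ∃ e : E ⊗[A] B,
      IsIdempotentElem e ∧ 1 - e ∈ I.map (algebraMap A (E ⊗[A] B)) ∧
      ∀ b ∈ s, ∃ p : Polynomial E, p.Monic ∧ e * Polynomial.aeval ((1 : E) ⊗ₜ[A] b) p = 0 := by
  classical
  have hAh := Hz.isPairHenselization I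
  obtain ⟨e, he, hone, hp⟩ := hens_level I B hfin hAh
  choose p hpmonic hp0 using hp
  -- a finite expression for `1 - e ∈ I (Ah ⊗ B)`
  rw [Ideal.map, Ideal.span, Finsupp.mem_span_image_iff_linearCombination] at hone
  obtain ⟨l, hl, hl1⟩ := hone
  rw [Finsupp.linearCombination_apply, Finsupp.sum] at hl1
  -- the neighbourhood
  obtain ⟨E, _, _, hE, ψ, hψ₀, hψ⟩ := exists_common_nbhd_tensor I hAh B
    (insert e (l.support.image l)) (s.biUnion fun b => (p b).coeffs)
  let Ψ : E ⊗[A] B →ₐ[A] Hz I ⊗[A] B := Algebra.TensorProduct.map ψ (AlgHom.id A B)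
  have hΨ : ∀ z, (ψ.toLinearMap.rTensor B) z = Ψ z := fun z => rfl
  obtain ⟨e₁, he₁⟩ := hψ e (Finset.mem_insert_self _ _)
  rw [hΨ] at he₁
  have hc : ∀ r : Hz I ⊗[A] B, ∃ c : E ⊗[A] B, r ∈ l.support.image l → Ψ c = r := by
    intro r
    by_cases hr : r ∈ l.support.image l
    · obtain ⟨c, hc⟩ := hψ r (Finset.mem_insert_of_mem hr)
      exact ⟨c, fun _ => hc⟩
    · exact ⟨0, fun h => absurd h hr⟩
  choose c hc using hc
  have hq : ∀ b : B, ∃ q : Polynomial E, b ∈ s → q.Monic ∧ q.map ψ.toRingHom = p b := by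
    intro b
    by_cases hb : b ∈ s
    · have hlift : p b ∈ Polynomial.lifts ψ.toRingHom := by
        rw [Polynomial.lifts_iff_coeffs_subset_range]
        intro x hx
        obtain ⟨y, hy⟩ := hψ₀ x (Finset.mem_biUnion.mpr ⟨b, hb, hx⟩)
        exact ⟨y, hy⟩
      obtain ⟨q, hq1, -, hq2⟩ := Polynomial.lifts_and_natDegree_eq_and_monic hlift (hpmonic b)
      exact ⟨q, fun _ => ⟨hq2, hq1⟩⟩
    · exact ⟨0, fun h => absurd h hb⟩
  choose q hq using hq
  have haeval : ∀ (x : E ⊗[A] B) (f : Polynomial E),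
      Ψ (Polynomial.aeval x f) = Polynomial.aeval (Ψ x) (f.map ψ.toRingHom) := by
    intro x f
    rw [Polynomial.aeval_def, Polynomial.aeval_def, Polynomial.eval₂_map,
      ← AlgHom.coe_toRingHom, Polynomial.hom_eval₂]
    congr 1
  -- the finitely many elements that die in `Ah ⊗ B`
  let z₁ : E ⊗[A] B := e₁ * e₁ - e₁
  let z₂ : E ⊗[A] B := 1 - e₁ - ∑ i ∈ l.support, c (l i) * algebraMap A (E ⊗[A] B) i
  let z₃ : B → E ⊗[A] B := fun b => e₁ * Polynomial.aeval ((1 : E) ⊗ₜ[A] b) (q b)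
  have hz₁ : Ψ z₁ = 0 := by
    simp only [z₁, map_sub, map_mul, he₁, he.eq, sub_self]
  have hz₂ : Ψ z₂ = 0 := by
    simp only [z₂, map_sub, map_one, map_sum, map_mul, he₁, AlgHom.commutes]
    rw [← hl1, sub_eq_zero]
    refine Finset.sum_congr rfl fun i hi => ?_
    rw [hc (l i) (Finset.mem_image_of_mem _ hi), smul_eq_mul]
  have hz₃ : ∀ b ∈ s, Ψ (z₃ b) = 0 := by
    intro b hb
    simp only [z₃, map_mul, he₁, haeval, (hq b hb).2]
    have : Ψ ((1 : E) ⊗ₜ[A] b) = (1 : Hz I) ⊗ₜ[A] b := by simp [Ψ]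
    rw [this, hp0]
  obtain ⟨u, hu, huT⟩ := exists_mem_M_smul_eq_zero I hAh hE ψ B
    (insert z₁ (insert z₂ (s.image z₃))) (by
      intro z hz
      rw [hΨ]
      rcases Finset.mem_insert.mp hz with rfl | hz
      · exact hz₁
      rcases Finset.mem_insert.mp hz with rfl | hz
      · exact hz₂
      obtain ⟨b, hb, rfl⟩ := Finset.mem_image.mp hz
      exact hz₃ b hb)
  -- localize
  have hE' : IsNbhd I (Localization.Away u) := hE.away hu
  let θ : E →ₐ[A] Localization.Away u := IsScalarTower.toAlgHom A E _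
  let Θ : E ⊗[A] B →ₐ[A] Localization.Away u ⊗[A] B :=
    Algebra.TensorProduct.map θ (AlgHom.id A B)
  have hΘ0 : ∀ z : E ⊗[A] B, u • z = 0 → Θ z = 0 := by
    intro z hz
    have h1 : Θ (u • z) = algebraMap (Localization.Away u) _ (θ u) * Θ z := by
      rw [Algebra.smul_def, map_mul]
      congr 1
    rw [hz, map_zero] at h1
    have hunit : IsUnit (algebraMap (Localization.Away u) (Localization.Away u ⊗[A] B) (θ u)) :=
      (IsLocalization.Away.algebraMap_isUnit u).map _
    exact (hunit.mul_right_eq_zero).mp h1.symm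
  have hΘaeval : ∀ (x : E ⊗[A] B) (f : Polynomial E),
      Θ (Polynomial.aeval x f) = Polynomial.aeval (Θ x) (f.map θ.toRingHom) := by
    intro x f
    rw [Polynomial.aeval_def, Polynomial.aeval_def, Polynomial.eval₂_map,
      ← AlgHom.coe_toRingHom, Polynomial.hom_eval₂]
    congr 1
  refine ⟨Localization.Away u, inferInstance, inferInstance, hE', Θ e₁, ?_, ?_, ?_⟩
  · have := hΘ0 z₁ (huT z₁ (Finset.mem_insert_self _ _))
    simp only [z₁, map_sub, map_mul, sub_eq_zero] at this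
    exact this
  · have := hΘ0 z₂ (huT z₂ (Finset.mem_insert_of_mem (Finset.mem_insert_self _ _)))
    simp only [z₂, map_sub, map_one, map_sum, map_mul, AlgHom.commutes, sub_eq_zero] at this
    rw [this]
    refine Ideal.sum_mem _ fun i hi => Ideal.mul_mem_left _ _ (Ideal.mem_map_of_mem _ ?_)
    exact hl (Finset.mem_coe.mpr hi)
  · intro b hb
    refine ⟨(q b).map θ.toRingHom, (hq b hb).1.map _, ?_⟩
    have := hΘ0 (z₃ b) (huT _ (Finset.mem_insert_of_mem (Finset.mem_insert_of_mem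
      (Finset.mem_image_of_mem _ hb))))
    simp only [z₃, map_mul, hΘaeval] at this
    have h1 : Θ ((1 : E) ⊗ₜ[A] b) = (1 : Localization.Away u) ⊗ₜ[A] b := by simp [Θ]
    rw [h1] at this
    exact this

end Groth.Agent.Lib.Helper4.QFNbhd
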