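import Mathlib
import Groth.Prelude.Def_Hens2
import Groth.Agent.Lib.Helper4.QFNbhd3

/-!
# Quasi-finite near `V(I)` becomes finite after an étale neighbourhood: main theorem
-/

set_option autoImplicit false
universe u

namespace Groth.Agent.Lib.Helper4.QFNbhd

open Groth.Agent.Lib.Helper12 Groth.Agent.Lib.Helper12.HzPair
open TensorProduct

theorem main (A : Type u) [CommRing A] (I : Ideal A) (B : Type u) [CommRing B] [Algebra A B]
    [Algebra.FiniteType A B] (hfin : Module.Finite A (B ⧸ Ideal.map (algebraMap A B) I)) :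
    ∃ (A' : Type u) (_ : CommRing A') (_ : Algebra A A') (_ : Algebra.Etale A A')
      (C : Type u) (_ : CommRing C) (_ : Algebra A C) (_ : Algebra A' C) (_ : Algebra B C)
      (_ : IsScalarTower A A' C) (_ : IsScalarTower A B C),
      Function.Surjective ((Ideal.Quotient.mk (Ideal.map (algebraMap A A') I)).comp (algebraMap A A')) ∧
      RingHom.ker ((Ideal.Quotient.mk (Ideal.map (algebraMap A A') I)).comp (algebraMap A A')) = I ∧
      Algebra.Etale B C ∧ Module.Finite A' C ∧
      Function.Surjective ((Ideal.Quotient.mk (Ideal.map (algebraMap A C) I)).comp (algebraMap B C)) ∧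
      RingHom.ker ((Ideal.Quotient.mk (Ideal.map (algebraMap A C) I)).comp (algebraMap B C)) =
        Ideal.map (algebraMap A B) I := by
  classical
  obtain ⟨s, hs⟩ := (inferInstance : Algebra.FiniteType A B).out
  obtain ⟨A', _, _, hA', e, he, hone, hint⟩ := exists_nbhd_idempotent I B hfin s
  have hA'et := hA'.etale
  have hbijA' := (isNbhd_iff_bijective (I := I) A').mp hA'
  -- (a)
  have hsurjA' : Function.Surjective
      ((Ideal.Quotient.mk (Ideal.map (algebraMap A A') I)).comp (algebraMap A A')) := by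
    intro y
    obtain ⟨x, hx⟩ := hbijA'.2 y
    obtain ⟨a, rfl⟩ := Ideal.Quotient.mk_surjective x
    exact ⟨a, hx⟩
  have hkerA' : RingHom.ker
      ((Ideal.Quotient.mk (Ideal.map (algebraMap A A') I)).comp (algebraMap A A')) = I := by
    ext a
    rw [RingHom.mem_ker]
    constructor
    · intro h
      have h1 : Ideal.quotientMap (I.map (algebraMap A A')) (algebraMap A A') Ideal.le_comap_map
          (Ideal.Quotient.mk I a) = 0 := h
      have h2 := hbijA'.1 (h1.trans (map_zero _).symm)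
      exact Ideal.Quotient.eq_zero_iff_mem.mp h2
    · intro h
      show Ideal.Quotient.mk _ (algebraMap A A' a) = 0
      rw [Ideal.Quotient.eq_zero_iff_mem]
      exact Ideal.mem_map_of_mem _ h
  -- the algebras
  let _ : Algebra B (A' ⊗[A] B) :=
    (Algebra.TensorProduct.includeRight : B →ₐ[A] A' ⊗[A] B).toRingHom.toAlgebra
  have hBR' : ∀ b : B, algebraMap B (A' ⊗[A] B) b = (1 : A') ⊗ₜ[A] b := fun b => rfl
  have _ : IsScalarTower A B (A' ⊗[A] B) := IsScalarTower.of_algebraMap_eq fun a =>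
    ((Algebra.TensorProduct.includeRight : B →ₐ[A] A' ⊗[A] B).commutes a).symm
  let eBR' : B ⊗[A] A' ≃ₐ[B] A' ⊗[A] B :=
    { (Algebra.TensorProduct.comm A B A') with
      commutes' := fun b => by
        show Algebra.TensorProduct.comm A B A' (b ⊗ₜ[A] (1 : A')) = _
        rw [Algebra.TensorProduct.comm_tmul, hBR'] }
  have hetBR' : Algebra.Etale B (A' ⊗[A] B) := Algebra.Etale.of_equiv eBR'
  let K : Ideal (A' ⊗[A] B) := Ideal.span {1 - e}
  have hloc : IsLocalization.Away e ((A' ⊗[A] B) ⧸ K) :=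
    IsLocalization.Away.quotient_of_isIdempotentElem he
  have hetR'C : Algebra.Etale (A' ⊗[A] B) ((A' ⊗[A] B) ⧸ K) :=
    Algebra.Etale.of_isLocalizationAway e
  have hetBC : Algebra.Etale B ((A' ⊗[A] B) ⧸ K) :=
    Algebra.Etale.comp B (A' ⊗[A] B) ((A' ⊗[A] B) ⧸ K)
  have hBC : ∀ b : B, algebraMap B ((A' ⊗[A] B) ⧸ K) b = Ideal.Quotient.mk K ((1 : A') ⊗ₜ[A] b) :=
    fun b => rfl
  -- integrality
  have hintB : ∀ b : B, IsIntegral A' (algebraMap B ((A' ⊗[A] B) ⧸ K) b) := by
    intro b
    have hb : b ∈ Algebra.adjoin A (s : Set B) := hs ▸ Algebra.mem_top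
    induction hb using Algebra.adjoin_induction with
    | mem x hx =>
      obtain ⟨p, hp, hp0⟩ := hint x hx
      refine ⟨p, hp, ?_⟩
      rw [← Polynomial.aeval_def, hBC, ← Ideal.Quotient.mkₐ_eq_mk A', Polynomial.aeval_algHom_apply,
        Ideal.Quotient.mkₐ_eq_mk, Ideal.Quotient.eq_zero_iff_mem, Ideal.mem_span_singleton']
      refine ⟨Polynomial.aeval ((1 : A') ⊗ₜ[A] x) p, ?_⟩
      rw [mul_sub, mul_one, mul_comm _ e, hp0, sub_zero]
    | algebraMap a =>
      rw [← IsScalarTower.algebraMap_apply A B, IsScalarTower.algebraMap_apply A A']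
      exact isIntegral_algebraMap
    | add x y _ _ hx hy => rw [map_add]; exact hx.add hy
    | mul x y _ _ hx hy => rw [map_mul]; exact hx.mul hy
  have hintC : Algebra.IsIntegral A' ((A' ⊗[A] B) ⧸ K) := by
    refine ⟨fun c => ?_⟩
    obtain ⟨r, rfl⟩ := Ideal.Quotient.mk_surjective c
    induction r using TensorProduct.induction_on with
    | zero => rw [map_zero]; exact isIntegral_zero
    | tmul a b =>
      have h1 : Ideal.Quotient.mk K (a ⊗ₜ[A] b) = a • algebraMap B ((A' ⊗[A] B) ⧸ K) b := by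
        rw [hBC]
        show _ = Ideal.Quotient.mk K (a • ((1 : A') ⊗ₜ[A] b))
        rw [TensorProduct.smul_tmul', smul_eq_mul, mul_one]
      rw [h1]
      exact (hintB b).smul a
    | add x y hx hy => rw [map_add]; exact hx.add hy
  have hftC : Algebra.FiniteType A' ((A' ⊗[A] B) ⧸ K) :=
    Algebra.FiniteType.of_surjective (Ideal.Quotient.mkₐ A' K) Ideal.Quotient.mk_surjective
  have hfinC : Module.Finite A' ((A' ⊗[A] B) ⧸ K) := Algebra.IsIntegral.finite
  refine ⟨A', inferInstance, inferInstance, hA'et, (A' ⊗[A] B) ⧸ K, inferInstance, inferInstance,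
    inferInstance, inferInstance, inferInstance, inferInstance, hsurjA', hkerA', hetBC, hfinC, ?_, ?_⟩
  · -- surjectivity of `B → C / I C`
    intro y
    obtain ⟨c, rfl⟩ := Ideal.Quotient.mk_surjective y
    obtain ⟨r, rfl⟩ := Ideal.Quotient.mk_surjective c
    induction r using TensorProduct.induction_on with
    | zero => exact ⟨0, by simp⟩
    | tmul a' b =>
      obtain ⟨a, ha⟩ := hsurjA' (Ideal.Quotient.mk _ a')
      have hj : algebraMap A A' a - a' ∈ I.map (algebraMap A A') := by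
        rw [← Ideal.Quotient.eq]
        exact ha
      refine ⟨a • b, ?_⟩
      show Ideal.Quotient.mk _ (Ideal.Quotient.mk K ((1 : A') ⊗ₜ[A] (a • b))) = _
      rw [Ideal.Quotient.eq, ← map_sub, ← TensorProduct.smul_tmul, ← TensorProduct.sub_tmul,
        Algebra.smul_def, mul_one]
      have h1 : (algebraMap A A' a - a') ⊗ₜ[A] b =
          algebraMap A' (A' ⊗[A] B) (algebraMap A A' a - a') * ((1 : A') ⊗ₜ[A] b) := by
        rw [Algebra.TensorProduct.algebraMap_apply, Algebra.TensorProduct.tmul_mul_tmul, mul_one,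
          one_mul]
        rfl
      rw [h1, map_mul]
      refine Ideal.mul_mem_right _ _ ?_
      have h2 : (I.map (algebraMap A A')).map (algebraMap A' ((A' ⊗[A] B) ⧸ K)) =
          I.map (algebraMap A ((A' ⊗[A] B) ⧸ K)) := by
        rw [Ideal.map_map, ← IsScalarTower.algebraMap_eq]
      rw [← h2]
      exact Ideal.mem_map_of_mem _ hj
    | add x y hx hy =>
      obtain ⟨x', hx'⟩ := hx
      obtain ⟨y', hy'⟩ := hy
      exact ⟨x' + y', by rw [map_add, hx', hy', map_add, map_add]⟩
  · -- the kernel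
    obtain ⟨σ, hσ⟩ := hA'.exists_sec
    let τ : A ⧸ I →ₐ[A] B ⧸ I.map (algebraMap A B) :=
      Ideal.quotientMapₐ (I.map (algebraMap A B)) (Algebra.ofId A B) Ideal.le_comap_map
    let ρ₀ : A' ⊗[A] B →ₐ[A] B ⧸ I.map (algebraMap A B) :=
      Algebra.TensorProduct.lift (τ.comp σ) (Ideal.Quotient.mkₐ A _) (fun _ _ => Commute.all _ _)
    have hρ₀I : ∀ x ∈ I.map (algebraMap A (A' ⊗[A] B)), ρ₀ x = 0 := by
      have hle : I.map (algebraMap A (A' ⊗[A] B)) ≤ RingHom.ker ρ₀.toRingHom := by
        rw [Ideal.map_le_iff_le_comap]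
        intro i hi
        show ρ₀ (algebraMap A _ i) = 0
        rw [ρ₀.commutes, IsScalarTower.algebraMap_apply A B]
        show Ideal.Quotient.mk _ (algebraMap A B i) = 0
        rw [Ideal.Quotient.eq_zero_iff_mem]
        exact Ideal.mem_map_of_mem _ hi
      exact fun x hx => hle hx
    have hρ₀K : ∀ x ∈ K, ρ₀.toRingHom x = 0 := by
      intro x hx
      obtain ⟨w, rfl⟩ := Ideal.mem_span_singleton'.mp hx
      show ρ₀ (w * (1 - e)) = 0
      rw [map_mul, hρ₀I _ hone, mul_zero]
    let ρ : (A' ⊗[A] B) ⧸ K →+* B ⧸ I.map (algebraMap A B) := Ideal.Quotient.lift K ρ₀.toRingHom hρ₀K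
    have hρB : ∀ b : B, ρ (algebraMap B ((A' ⊗[A] B) ⧸ K) b) = Ideal.Quotient.mk _ b := by
      intro b
      rw [hBC]
      show ρ₀ ((1 : A') ⊗ₜ[A] b) = _
      simp [ρ₀]
    have hρI : ∀ x ∈ I.map (algebraMap A ((A' ⊗[A] B) ⧸ K)), ρ x = 0 := by
      have hle : I.map (algebraMap A ((A' ⊗[A] B) ⧸ K)) ≤ RingHom.ker ρ := by
        rw [Ideal.map_le_iff_le_comap]
        intro i hi
        show ρ (algebraMap A _ i) = 0
        rw [IsScalarTower.algebraMap_apply A (A' ⊗[A] B)]
        show ρ₀ (algebraMap A _ i) = 0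
        exact hρ₀I _ (Ideal.mem_map_of_mem _ hi)
      exact fun x hx => hle hx
    ext b
    rw [RingHom.mem_ker]
    constructor
    · intro h
      have h1 : algebraMap B ((A' ⊗[A] B) ⧸ K) b ∈ I.map (algebraMap A ((A' ⊗[A] B) ⧸ K)) :=
        Ideal.Quotient.eq_zero_iff_mem.mp h
      have h2 := hρI _ h1
      rw [hρB] at h2
      exact Ideal.Quotient.eq_zero_iff_mem.mp h2
    · intro h
      show Ideal.Quotient.mk _ (algebraMap B ((A' ⊗[A] B) ⧸ K) b) = 0
      rw [Ideal.Quotient.eq_zero_iff_mem]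
      have h2 : (I.map (algebraMap A B)).map (algebraMap B ((A' ⊗[A] B) ⧸ K)) =
          I.map (algebraMap A ((A' ⊗[A] B) ⧸ K)) := by
        rw [Ideal.map_map, ← IsScalarTower.algebraMap_eq]
      rw [← h2]
      exact Ideal.mem_map_of_mem _ h

end Groth.Agent.Lib.Helper4.QFNbhd
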