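import Mathlib
import Groth.Agent.S2043
import Groth.Agent.Lib.Helper4.HenselPairE

/-!
# Smooth algebras over a strictly henselian local ring with nonempty special fibre have a section
-/

set_option autoImplicit false
set_option linter.style.haveILetI false
set_option linter.unusedSectionVars false
universe u

namespace Groth.Agent.Lib.Helper4.SS

open IsLocalRing

/-- A finite type algebra `B` over a local ring `R` with algebraically closed residue field and
`𝔪 B ≠ B` has an `R`-algebra map to the residue field. -/
theorem exists_algHom_residueField (R : Type u) [CommRing R] [IsLocalRing R]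
    [IsAlgClosed (ResidueField R)] (B : Type u) [CommRing B] [Algebra R B]
    [Algebra.FiniteType R B]
    (hne : (maximalIdeal R).map (algebraMap R B) ≠ ⊤) :
    Nonempty (B →ₐ[R] R ⧸ maximalIdeal R) := by
  obtain ⟨𝔫, h𝔫max, h𝔫le⟩ := Ideal.exists_le_maximal _ hne
  have hle : maximalIdeal R ≤ 𝔫.comap (algebraMap R B) := Ideal.map_le_iff_le_comap.mp h𝔫le
  let k := R ⧸ maximalIdeal R
  let L := B ⧸ 𝔫
  letI : Field k := Ideal.Quotient.field (maximalIdeal R)
  letI : Field L := Ideal.Quotient.field 𝔫
  letI : Algebra k L := (Ideal.quotientMap 𝔫 (algebraMap R B) hle).toAlgebra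
  haveI : IsScalarTower R k L := IsScalarTower.of_algebraMap_eq fun r => rfl
  haveI : Algebra.FiniteType R L := Algebra.FiniteType.trans (S := B) inferInstance inferInstance
  haveI : Algebra.FiniteType k L := Algebra.FiniteType.of_restrictScalars_finiteType R k L
  haveI : Module.Finite k L := finite_of_finite_type_of_isJacobsonRing k L
  haveI : IsAlgClosed k := inferInstanceAs (IsAlgClosed (ResidueField R))
  haveI : Algebra.IsIntegral k L := Algebra.IsIntegral.of_finite k L
  have hbij : Function.Bijective (algebraMap k L) :=
    IsAlgClosed.algebraMap_bijective_of_isIntegral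
  let e : k ≃ₐ[k] L := AlgEquiv.ofBijective (Algebra.ofId k L) hbij
  let σ : B →ₐ[R] k :=
    (e.symm.toAlgHom.restrictScalars R).comp (IsScalarTower.toAlgHom R B L)
  exact ⟨σ⟩

/-- A smooth algebra over a henselian local ring with algebraically closed residue field and
nonempty special fibre admits a section. -/
theorem exists_section_of_smooth (R : Type u) [CommRing R] [HenselianLocalRing R]
    [IsAlgClosed (ResidueField R)] (B : Type u) [CommRing B] [Algebra R B]
    [Algebra.Smooth R B]
    (hne : (maximalIdeal R).map (algebraMap R B) ≠ ⊤) :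
    Nonempty (B →ₐ[R] R) := by
  haveI : Algebra.FinitePresentation R B := Algebra.Smooth.finitePresentation
  haveI : Algebra.FiniteType R B := Algebra.FiniteType.of_finitePresentation
  obtain ⟨σ⟩ := exists_algHom_residueField R B hne
  obtain ⟨A', _, _, hEt, hbij, τ, hτ⟩ := Groth.Agent.S2043.result (maximalIdeal R) σ
  let ε : (R ⧸ maximalIdeal R) ≃+* (A' ⧸ (maximalIdeal R).map (algebraMap R A')) :=
    RingEquiv.ofBijective _ hbij
  let σ' : A' →ₐ[R] R ⧸ maximalIdeal R :=
    { toRingHom := ε.symm.toRingHom.comp (Ideal.Quotient.mk _)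
      commutes' := fun r => by
        change ε.symm (Ideal.Quotient.mk _ (algebraMap R A' r)) = Ideal.Quotient.mk _ r
        apply ε.injective
        rw [RingEquiv.apply_symm_apply]
        rfl }
  haveI := hEt
  obtain ⟨τ', -⟩ := HenselPair.exists_lift_of_etale (maximalIdeal R) σ'
  exact ⟨τ'.comp τ⟩

end Groth.Agent.Lib.Helper4.SS
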