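import Mathlib
import Groth.Agent.Lib.Helper4.ST1
import Groth.Agent.Lib.Helper4.AR1
import Groth.Agent.Lib.Helper4.DC14

/-!
# Stalk systems of AR-adic systems (helper4)
-/

set_option linter.style.haveILetI false
set_option linter.unusedSectionVars false
set_option autoImplicit false
open CategoryTheory CategoryTheory.Limits AlgebraicGeometry Opposite
universe w v u

namespace Groth.Agent.Lib.Helper4.ST

open ARSys Groth.Agent.Lib27.ARSys Groth.Agent.Lib.Helper4.DC

section abstract

variable {C : Type u} [Category.{v} C] [Abelian C] [HasLimitsOfShape ℕᵒᵖ C]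

/-- The limit of a system which is null up to translation is zero. -/
lemma isZero_limit_of_isARNull (Z : PS C) (h : IsARNull Z) : IsZero (limit Z) := by
  obtain ⟨r, hr⟩ := (isARNull_iff Z).1 h
  rw [IsZero.iff_id_eq_zero]
  apply limit.hom_ext
  rintro ⟨n⟩
  have h1 : limit.π Z (op (n + r)) ≫ tr Z (Nat.le_add_right n r) = limit.π Z (op n) :=
    limit.w Z (homOfLE (Nat.le_add_right n r)).op
  rw [Category.id_comp, Limits.zero_comp, ← h1, hr n, Limits.comp_zero]

end abstract

section modules

variable {Λ : Type w} [CommRing Λ] (D : ℕᵒᵖ ⥤ ModuleCat.{w} Λ) {c : Cone D} (hc : IsLimit c)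

include hc in
/-- For a system of modules with surjective transition maps, the limit surjects onto every
term. -/
theorem surjective_prD_of_surjective
    (hD : ∀ k : ℕ, Function.Surjective (trD D (Nat.le_succ k))) (n : ℕ) :
    Function.Surjective (prD D c n) := by
  intro y
  choose pre hpre using hD
  let s : ∀ k : ℕ, D.obj (op k) := fun k =>
    Nat.rec (motive := fun k => D.obj (op k)) (trD D (Nat.zero_le n) y)
      (fun m sm => if h : m + 1 ≤ n then trD D h y else pre m sm) k
  have hs_le : ∀ (k : ℕ) (h : k ≤ n), s k = trD D h y := by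
    intro k h
    cases k with
    | zero => rfl
    | succ m => exact dif_pos h
  have hs : ∀ k, trD D (Nat.le_succ k) (s (k + 1)) = s k := by
    intro k
    by_cases h : k + 1 ≤ n
    · rw [hs_le (k + 1) h, hs_le k (Nat.le_of_succ_le h), trD_trD]
    · have : s (k + 1) = pre k (s k) := dif_neg h
      rw [this, hpre]
  obtain ⟨z, hz⟩ := exists_of_compat D hc s hs
  refine ⟨z, ?_⟩
  rw [hz n, hs_le n (le_refl n), trD_refl]

end modules


section stalks

universe u'

variable (Λ : Type (u' + 1)) [CommRing Λ] (I : Ideal Λ) {X : Scheme.{u'}}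

/-- The terms of a strict system all of whose stalk systems have zero limit vanish. -/
theorem isZero_of_isStrict_of_stalk_limits (Y : PS (EtModW.Mod Λ X)) (hYs : IsStrict Y)
    (h : ∀ (Ω : Type u') [Field Ω] [IsSepClosed Ω] (x : Spec (CommRingCat.of Ω) ⟶ X),
      IsZero (limit (Y ⋙ EtModW.stalk Λ x))) (n : ℕ) : IsZero (Y.obj (op n)) := by
  apply isZero_of_stalksM
  intro Ω _ _ ξ
  have hsurj : ∀ k : ℕ, Function.Surjective (trD (Y ⋙ EtModW.stalk Λ ξ) (Nat.le_succ k)) := by
    intro k
    haveI := hYs k (k + 1) (Nat.le_succ k)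
    have : Epi ((EtModW.stalk Λ ξ).map (tr Y (Nat.le_succ k))) := inferInstance
    exact (ModuleCat.epi_iff_surjective _).1 this
  have h1 := surjective_prD_of_surjective (Y ⋙ EtModW.stalk Λ ξ)
    (limit.isLimit (Y ⋙ EtModW.stalk Λ ξ)) hsurj n
  have h2 : Subsingleton ((limit.cone (Y ⋙ EtModW.stalk Λ ξ)).pt : ModuleCat.{u' + 1} Λ) :=
    ModuleCat.subsingleton_of_isZero (h Ω ξ)
  have h3 : Subsingleton ((EtModW.stalk Λ ξ).obj (Y.obj (op n))) := h1.subsingleton
  exact ModuleCat.isZero_of_subsingleton _

/-- A system receiving an isomorphism up to translation from a system with zero terms is null up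
to translation. -/
theorem isARNull_of_isARIso_of_isZero {C : Type u} [Category.{v} C] [Abelian C] {Y F : PS C}
    (u : Y ⟶ F) (hu : IsARIso u) (hY : ∀ n, IsZero (Y.obj (op n))) : IsARNull F := by
  obtain ⟨r, hr⟩ := (isARNull_iff _).1 hu.2
  refine (isARNull_iff F).2 ⟨r, fun n => ?_⟩
  let S := ShortComplex.mk u (cokernel.π u) (cokernel.condition u)
  have hS : S.Exact := ShortComplex.exact_of_g_is_cokernel _ (cokernelIsCokernel u)
  have hSn : (S.map ((evaluation ℕᵒᵖ C).obj (op n))).Exact := hS.map _
  have h0 : tr F (Nat.le_add_right n r) ≫ (cokernel.π u).app (op n) = 0 := by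
    rw [tr_naturality, hr n, Limits.comp_zero]
  obtain ⟨T, π, hπ, y, hy⟩ : ∃ (T : C) (π : T ⟶ F.obj (op (n + r))) (_ : Epi π)
      (y : T ⟶ Y.obj (op n)), π ≫ tr F (Nat.le_add_right n r) = y ≫ u.app (op n) :=
    hSn.exact_up_to_refinements (tr F (Nat.le_add_right n r)) h0
  rw [← cancel_epi π, Limits.comp_zero, hy, (hY n).eq_of_tgt y 0, Limits.zero_comp]

end stalks

end Groth.Agent.Lib.Helper4.ST
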