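import Mathlib
import Groth.Agent.Lib.Helper4.ST5

/-!
# Mittag-Leffler for systems of finite type locally constant sheaves with artinian coefficients
(helper4)
-/

set_option linter.style.haveILetI false
set_option linter.unusedSectionVars false
set_option autoImplicit false
open CategoryTheory CategoryTheory.Limits AlgebraicGeometry Opposite
universe u

namespace Groth.Agent.Lib.Helper4.ST

open ARSys Groth.Agent.Lib27.ARSys Groth.Agent.Lib.Helper4

section algebra

theorem isArtinianRing_quotient_pow {Λ : Type*} [CommRing Λ] [IsNoetherianRing Λ] (I : Ideal Λ)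
    [IsArtinianRing (Λ ⧸ I)] (m : ℕ) : IsArtinianRing (Λ ⧸ I ^ (m + 1)) := by
  rw [isArtinianRing_iff_isNoetherianRing_krullDimLE_zero]
  refine ⟨inferInstance, ?_⟩
  have h1 : (I ^ (m + 1)).radical = I.radical := Ideal.radical_pow I (Nat.succ_ne_zero m)
  rw [Ideal.krullDimLE_zero_quotient_iff_forall_minimalPrimes_isMaximal,
    ← Ideal.radical_minimalPrimes, h1,
    Ideal.radical_minimalPrimes, ← Ideal.krullDimLE_zero_quotient_iff_forall_minimalPrimes_isMaximal]
  infer_instance

theorem isArtinian_of_finite_of_killed {Λ : Type*} [CommRing Λ] [IsNoetherianRing Λ] (I : Ideal Λ)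
    [IsArtinianRing (Λ ⧸ I)] (m : ℕ) (N : Type*) [AddCommGroup N] [Module Λ N] [Module.Finite Λ N]
    (hN : ∀ a ∈ I ^ (m + 1), ∀ x : N, a • x = 0) : IsArtinian Λ N := by
  haveI := isArtinianRing_quotient_pow I m
  have ht : Module.IsTorsionBySet Λ N (I ^ (m + 1) : Ideal Λ) := by
    intro x a
    exact hN a.1 a.2 x
  letI := ht.module
  haveI : IsScalarTower Λ (Λ ⧸ I ^ (m + 1)) N := ht.isScalarTower
  haveI : Module.Finite (Λ ⧸ I ^ (m + 1)) N := Module.Finite.of_restrictScalars_finite Λ _ N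
  haveI : IsArtinian (Λ ⧸ I ^ (m + 1)) N := inferInstance
  exact isArtinian_of_surjective_algebraMap (S := Λ) (R := Λ ⧸ I ^ (m + 1))
    Ideal.Quotient.mk_surjective

end algebra

variable (Λ : Type (u + 1)) [CommRing Λ] [IsNoetherianRing Λ] {X : Scheme.{u}}

/-- A morphism of finite type locally constant sheaves which vanishes on one geometric stalk in
every irreducible component is zero. -/
theorem eq_zero_of_stalk_on_components {A B : EtModW.Mod Λ X} (f : A ⟶ B)
    (hA : EtModW.IsFTLocConst Λ A) (hB : EtModW.IsFTLocConst Λ B)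
    (h : ∀ Z ∈ irreducibleComponents X, ∃ (Ω : Type u) (_ : Field Ω) (_ : IsSepClosed Ω)
      (ξ : Spec (CommRingCat.of Ω) ⟶ X), ξ.base default ∈ Z ∧ (EtModW.stalk Λ ξ).map f = 0) :
    f = 0 := by
  let P : ObjectProperty (EtModW.Mod Λ X) := fun E => EtModW.IsFTLocConst Λ E
  have hQ : P (Abelian.image f) := P.prop_kernel (cokernel.π f) hB (P.prop_cokernel f hA hB)
  have hz : zeroLocus Λ (Abelian.image f) = Set.univ := by
    apply Set.eq_univ_of_univ_subset
    rw [← sUnion_irreducibleComponents]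
    apply Set.sUnion_subset
    intro Z hZ
    obtain ⟨Ω, _, _, ξ, hξZ, hξ⟩ := h Z hZ
    have hst : IsZero ((EtModW.stalk Λ ξ).obj (Abelian.image f)) := by
      have h1 : (EtModW.stalk Λ ξ).map (Abelian.factorThruImage f) ≫
          (EtModW.stalk Λ ξ).map (Abelian.image.ι f) = 0 := by
        rw [← Functor.map_comp, Abelian.image.fac, hξ]
      have h2 : (EtModW.stalk Λ ξ).map (Abelian.factorThruImage f) = 0 := by
        haveI : Mono ((EtModW.stalk Λ ξ).map (Abelian.image.ι f)) := inferInstance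
        rw [← cancel_mono ((EtModW.stalk Λ ξ).map (Abelian.image.ι f)), h1, Limits.zero_comp]
      haveI : Epi ((EtModW.stalk Λ ξ).map (Abelian.factorThruImage f)) := inferInstance
      exact IsZero.of_epi_eq_zero _ h2
    have hx := mem_zeroLocus_of_isZero_stalk Λ _ hQ ξ hst
    exact hZ.1.isPreirreducible.isPreconnected.subset_isClopen (isClopen_zeroLocus Λ _ hQ)
      ⟨_, hξZ, hx⟩
  have hzero := isZero_of_zeroLocus_eq_univ Λ _ hz
  rw [← Abelian.image.fac f, hzero.eq_of_tgt (Abelian.factorThruImage f) 0, Limits.zero_comp]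

variable (I : Ideal Λ) [IsArtinianRing (Λ ⧸ I)]

/-- Stabilisation of the images on a geometric stalk. -/
theorem exists_stalk_stabilizes (F : PS (EtModW.Mod Λ X)) (hk : TermKilled I F)
    (hF : ∀ n : ℕ, EtModW.IsFTLocConst Λ (F.obj (op n))) (n : ℕ)
    {Ω : Type u} [Field Ω] [IsSepClosed Ω] (ξ : Spec (CommRingCat.of Ω) ⟶ X) :
    ∃ r : ℕ, ∀ r' : ℕ, r ≤ r' → ∀ s : ℕ, r' ≤ s →
      (EtModW.stalk Λ ξ).map (tr F (Nat.le_add_right n r') ≫
        cokernel.π (tr F (Nat.le_add_right n s))) = 0 := by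
  haveI : Module.Finite Λ ((EtModW.stalk Λ ξ).obj (F.obj (op n))) :=
    finite_stalk_of_isFTLocConst Λ _ (hF n) ξ
  haveI : IsArtinian Λ ((EtModW.stalk Λ ξ).obj (F.obj (op n))) := by
    apply isArtinian_of_finite_of_killed I n
    intro a ha x
    have h1 : (EtModW.stalk Λ ξ).map (a • 𝟙 (F.obj (op n))) = 0 := by
      rw [hk n a ha, Functor.map_zero]
    rw [stalkM_map_smul, CategoryTheory.Functor.map_id] at h1
    have := congrArg (fun φ : (EtModW.stalk Λ ξ).obj (F.obj (op n)) ⟶
      (EtModW.stalk Λ ξ).obj (F.obj (op n)) => φ.hom x) h1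
    exact this
  let R : ℕ →o (Submodule Λ ((EtModW.stalk Λ ξ).obj (F.obj (op n))))ᵒᵈ :=
    ⟨fun s => OrderDual.toDual (LinearMap.range
      ((EtModW.stalk Λ ξ).map (tr F (Nat.le_add_right n s))).hom), by
      intro s s' hss'
      show LinearMap.range ((EtModW.stalk Λ ξ).map (tr F (Nat.le_add_right n s'))).hom ≤
        LinearMap.range ((EtModW.stalk Λ ξ).map (tr F (Nat.le_add_right n s))).hom
      rw [← tr_comp F (Nat.le_add_right n s) (Nat.add_le_add_left hss' n), Functor.map_comp]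
      rintro _ ⟨y, rfl⟩
      exact ⟨_, rfl⟩⟩
  obtain ⟨r, hr⟩ := IsArtinian.monotone_stabilizes R
  refine ⟨r, fun r' hr' s hs => ?_⟩
  have e1 : LinearMap.range ((EtModW.stalk Λ ξ).map (tr F (Nat.le_add_right n r'))).hom =
      LinearMap.range ((EtModW.stalk Λ ξ).map (tr F (Nat.le_add_right n s))).hom := by
    have a1 : R r = R r' := hr r' hr'
    have a2 : R r = R s := hr s (hr'.trans hs)
    exact OrderDual.toDual.injective (a1.symm.trans a2)
  rw [Functor.map_comp]
  apply ModuleCat.hom_ext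
  apply LinearMap.ext
  intro x
  have hx : ((EtModW.stalk Λ ξ).map (tr F (Nat.le_add_right n r'))).hom x ∈
      LinearMap.range ((EtModW.stalk Λ ξ).map (tr F (Nat.le_add_right n s))).hom := by
    rw [← e1]
    exact ⟨x, rfl⟩
  obtain ⟨y, hy⟩ := hx
  have h0 : (EtModW.stalk Λ ξ).map (tr F (Nat.le_add_right n s)) ≫
      (EtModW.stalk Λ ξ).map (cokernel.π (tr F (Nat.le_add_right n s))) = 0 := by
    rw [← Functor.map_comp, cokernel.condition, Functor.map_zero]
  have h0' := congrArg (fun φ : (EtModW.stalk Λ ξ).obj (F.obj (op (n + s))) ⟶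
    (EtModW.stalk Λ ξ).obj (cokernel (tr F (Nat.le_add_right n s))) => φ.hom y) h0
  show ((EtModW.stalk Λ ξ).map (cokernel.π (tr F (Nat.le_add_right n s)))).hom
    (((EtModW.stalk Λ ξ).map (tr F (Nat.le_add_right n r'))).hom x) = 0
  rw [← hy]
  exact h0'

/-- The étale-side Mittag-Leffler statement, in cokernel form. -/
theorem exists_uniform_stabilizes [IsNoetherian X] (F : PS (EtModW.Mod Λ X))
    (hk : TermKilled I F) (hF : ∀ n : ℕ, EtModW.IsFTLocConst Λ (F.obj (op n))) (n : ℕ) :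
    ∃ r : ℕ, ∀ s : ℕ, r ≤ s →
      tr F (Nat.le_add_right n r) ≫ cokernel.π (tr F (Nat.le_add_right n s)) = 0 := by
  classical
  let P : ObjectProperty (EtModW.Mod Λ X) := fun E => EtModW.IsFTLocConst Λ E
  have hfin : (irreducibleComponents X).Finite :=
    TopologicalSpace.NoetherianSpace.finite_irreducibleComponents
  have key : ∀ Z ∈ irreducibleComponents X, ∃ r : ℕ, ∀ r' : ℕ, r ≤ r' → ∀ s : ℕ, r' ≤ s →
      ∃ (Ω : Type u) (_ : Field Ω) (_ : IsSepClosed Ω) (ξ : Spec (CommRingCat.of Ω) ⟶ X),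
        ξ.base default ∈ Z ∧ (EtModW.stalk Λ ξ).map (tr F (Nat.le_add_right n r') ≫
          cokernel.π (tr F (Nat.le_add_right n s))) = 0 := by
    intro Z hZ
    obtain ⟨x, hx⟩ := hZ.1.nonempty
    obtain ⟨Ω, _, _, ξ, hξ⟩ := exists_geomPoint_at x
    obtain ⟨r, hr⟩ := exists_stalk_stabilizes Λ I F hk hF n ξ
    exact ⟨r, fun r' hr' s hs => ⟨Ω, inferInstance, inferInstance, ξ, hξ ▸ hx, hr r' hr' s hs⟩⟩
  choose r hr using key
  let ρ : Set X → ℕ := fun Z => if h : Z ∈ irreducibleComponents X then r Z h else 0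
  refine ⟨hfin.toFinset.sup ρ, fun s hs => ?_⟩
  apply eq_zero_of_stalk_on_components Λ _ (hF _)
    (P.prop_cokernel (tr F (Nat.le_add_right n s)) (hF _) (hF _))
  intro Z hZ
  have hle : r Z hZ ≤ hfin.toFinset.sup ρ := by
    have h1 : ρ Z = r Z hZ := dif_pos hZ
    rw [← h1]
    exact Finset.le_sup (hfin.mem_toFinset.2 hZ)
  exact hr Z hZ _ hle s hs

end Groth.Agent.Lib.Helper4.ST
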