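import Mathlib
import Groth.Agent.Lib.Helper4.PolyGU
import Groth.Agent.Lib.Helper4.HznQF
import Groth.Agent.Lib.Helper4.HzsQuot
import Groth.Agent.Lib.Helper4.HzsTensor
import Groth.Agent.Lib.Helper4.HzsInt
import Groth.Agent.Lib.Helper6.UB8
import Groth.Agent.S2750

/-!
# Smooth algebras over strictly henselian local rings: primes stay prime
-/

set_option autoImplicit false
set_option linter.unusedSectionVars false
universe u
open Hensel IsLocalRing TensorProduct

namespace Groth.Agent.Lib.Helper4.SmGU

open Groth.Agent.Lib.Helper4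

/-- Non-noetherian version of S13199. -/
theorem domain_gu_of_smooth
    (R R' : Type u) [CommRing R] [IsDomain R] [HenselianLocalRing R]
    [IsSepClosed (IsLocalRing.ResidueField R)]
    [CommRing R'] [Algebra R R'] [Algebra.Smooth R R']
    (p : Ideal R') [p.IsPrime] (hp : (IsLocalRing.maximalIdeal R).map (algebraMap R R') ≤ p) :
    IsDomain (Localization.AtPrime p) ∧ CAlg2.IsGeomUnibranch (Localization.AtPrime p) := by
  classical
  have hloc : IsLocalHom (algebraMap R R) := ⟨fun a ha => ha⟩
  have hself : Hensel.IsStrictHenselization R R := Hzn.isStrictHenselization_self R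
  have hGU : CAlg2.IsGeomUnibranch R := ((Groth.Agent.S2750.result R R).mpr inferInstance).2
  obtain ⟨s, hs, h⟩ := Algebra.Smooth.exists_span_eq_top_isStandardSmooth R R'
  obtain ⟨t, hts, htp⟩ : ∃ t ∈ s, t ∉ p := by
    by_contra hcon
    push Not at hcon
    have h1 : Ideal.span s ≤ p := Ideal.span_le.mpr hcon
    rw [hs] at h1
    exact Ideal.IsPrime.ne_top inferInstance (top_le_iff.mp h1)
  have hst := h t hts
  obtain ⟨n, g, hgC, hgE⟩ := RingHom.IsStandardSmooth.exists_etale_mvPolynomial
    (RingHom.isStandardSmooth_algebraMap.mpr hst)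
  let _ : Algebra (MvPolynomial (Fin n) R) (Localization.Away t) := g.toAlgebra
  have hgE' : Algebra.Etale (MvPolynomial (Fin n) R) (Localization.Away t) :=
    RingHom.etale_algebraMap.mp hgE
  have hdisj : Disjoint (Submonoid.powers t : Set R') p := by
    rw [Set.disjoint_left]
    rintro _ ⟨k, rfl⟩ hk
    exact htp (Ideal.IsPrime.mem_of_pow_mem inferInstance k hk)
  have hpt : (p.map (algebraMap R' (Localization.Away t))).IsPrime :=
    IsLocalization.isPrime_of_isPrime_disjoint (Submonoid.powers t) _ p ‹_› hdisj
  have hcomap : (p.map (algebraMap R' (Localization.Away t))).comap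
      (algebraMap R' (Localization.Away t)) = p :=
    IsLocalization.under_map_of_isPrime_disjoint (Submonoid.powers t) _ ‹_› hdisj
  have hPprime : ((p.map (algebraMap R' (Localization.Away t))).comap g).IsPrime :=
    Ideal.comap_isPrime _ _
  have hP : ((p.map (algebraMap R' (Localization.Away t))).comap g).comap
      (MvPolynomial.C : R →+* MvPolynomial (Fin n) R) = IsLocalRing.maximalIdeal R := by
    have h1 : ((p.map (algebraMap R' (Localization.Away t))).comap g).comap
        (MvPolynomial.C : R →+* MvPolynomial (Fin n) R) = p.comap (algebraMap R R') := by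
      rw [Ideal.comap_comap, hgC, IsScalarTower.algebraMap_eq R R' (Localization.Away t),
        ← Ideal.comap_comap, hcomap]
    rw [h1]
    have hprime : (p.comap (algebraMap R R')).IsPrime := Ideal.comap_isPrime _ _
    exact ((IsLocalRing.maximalIdeal.isMaximal R).eq_of_le hprime.ne_top
      (Ideal.map_le_iff_le_comap.mp hp)).symm
  obtain ⟨hPd, hPGU⟩ := PolyGU.isGeomUnibranch_localization.{u, 0} R (Fin n)
    ((p.map (algebraMap R' (Localization.Away t))).comap g) hP hGU
  obtain ⟨h1, h2⟩ := Groth.Agent.Lib.Helper6.UB.isGeomUnibranch_localization_of_etale'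
    (MvPolynomial (Fin n) R) (Localization.Away t) (p.map (algebraMap R' (Localization.Away t)))
    ((p.map (algebraMap R' (Localization.Away t))).comap g) rfl
    (Localization.AtPrime ((p.map (algebraMap R' (Localization.Away t))).comap g)) hPGU
  have hat := IsLocalization.isLocalization_isLocalization_atPrime_isLocalization
    (Submonoid.powers t) (Localization.AtPrime (p.map (algebraMap R' (Localization.Away t))))
    (p.map (algebraMap R' (Localization.Away t)))
  simp only [hcomap] at hat
  let e : Localization.AtPrime p ≃ₐ[R']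
      Localization.AtPrime (p.map (algebraMap R' (Localization.Away t))) :=
    IsLocalization.algEquiv p.primeCompl _ _
  have hd : IsDomain (Localization.AtPrime p) :=
    e.symm.toRingEquiv.toMulEquiv.isDomain_iff.mp h1
  exact ⟨hd, Groth.Agent.Lib.Helper6.UB.isGeomUnibranch_of_ringEquiv e.symm.toRingEquiv h2⟩

/-- A prime ideal of a strictly henselian local ring generates a prime ideal in the strict
henselization of a local ring of a smooth algebra at a prime over the maximal ideal. -/
theorem isPrime_map_of_smooth
    (R R' T : Type u) [CommRing R] [HenselianLocalRing R]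
    [IsSepClosed (ResidueField R)]
    [CommRing R'] [Algebra R R'] [Algebra.Smooth R R']
    (q : Ideal R') [q.IsPrime] (hq : (maximalIdeal R).map (algebraMap R R') ≤ q)
    [CommRing T] [IsLocalRing T] [Algebra (Localization.AtPrime q) T]
    [IsLocalHom (algebraMap (Localization.AtPrime q) T)]
    [Hensel.IsStrictHenselization (Localization.AtPrime q) T]
    (P : Ideal R) [hPprime : P.IsPrime] :
    (((P.map (algebraMap R R')).map (algebraMap R' (Localization.AtPrime q))).map
      (algebraMap (Localization.AtPrime q) T)).IsPrime := by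
  classical
  have hJle : P ≤ maximalIdeal R := IsLocalRing.le_maximalIdeal hPprime.ne_top
  have hRbdom : IsDomain (R ⧸ P) :=
    (Ideal.Quotient.isDomain_iff_prime _).mpr hPprime
  have hRbloc : IsLocalRing (R ⧸ P) :=
    IsLocalRing.of_surjective' (Ideal.Quotient.mk _) Ideal.Quotient.mk_surjective
  have hRblh : IsLocalHom (algebraMap R (R ⧸ P)) :=
    IsLocalHom.of_surjective (Ideal.Quotient.mk _) Ideal.Quotient.mk_surjective
  have hRbint : Algebra.IsIntegral R (R ⧸ P) :=
    Algebra.IsIntegral.of_surjective (Algebra.ofId R _) Ideal.Quotient.mk_surjective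
  have hRbh : HenselianLocalRing (R ⧸ P) :=
    Hzn.henselianLocalRing_of_isIntegral R _
  have hRbres := Hzs.isIntegral_residueField_of_isIntegral R (R ⧸ P)
  have hRbsc : IsSepClosed (ResidueField (R ⧸ P)) :=
    Algebra.IsAlgebraic.isSepClosed (F := ResidueField R)
  have hsm : Algebra.Smooth (R ⧸ P)
      (R' ⧸ P.map (algebraMap R R')) :=
    Algebra.Smooth.of_equiv (Algebra.TensorProduct.quotIdealMapEquivQuotTensor R' _).symm
  have hI'q : P.map (algebraMap R R') ≤ q :=
    (Ideal.map_mono hJle).trans hq
  have hqb : (q.map (Ideal.Quotient.mk (P.map (algebraMap R R')))).IsPrime :=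
    Ideal.map_isPrime_of_surjective Ideal.Quotient.mk_surjective (by rw [Ideal.mk_ker]; exact hI'q)
  have hqb_comap : (q.map (Ideal.Quotient.mk (P.map (algebraMap R R')))).comap
      (Ideal.Quotient.mk _) = q := by
    rw [Ideal.comap_map_of_surjective _ Ideal.Quotient.mk_surjective, ← RingHom.ker_eq_comap_bot,
      Ideal.mk_ker, sup_eq_left.mpr hI'q]
  have hqbm : (maximalIdeal (R ⧸ P)).map
      (algebraMap _ (R' ⧸ P.map (algebraMap R R'))) ≤
      q.map (Ideal.Quotient.mk _) := by
    rw [Ideal.map_le_iff_le_comap]
    intro x hx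
    obtain ⟨r, rfl⟩ := Ideal.Quotient.mk_surjective x
    have hr : r ∈ maximalIdeal R := by
      rw [mem_maximalIdeal, mem_nonunits_iff] at hx ⊢
      exact fun h => hx (h.map _)
    change Ideal.Quotient.mk (P.map (algebraMap R R'))
      (algebraMap R R' r) ∈ q.map (Ideal.Quotient.mk _)
    exact Ideal.mem_map_of_mem _ (hq (Ideal.mem_map_of_mem _ hr))
  obtain ⟨hd1, hg1⟩ := domain_gu_of_smooth (R ⧸ P)
    (R' ⧸ P.map (algebraMap R R')) _ hqbm
  have hlocB : IsLocalization (Algebra.algebraMapSubmonoid
      (R' ⧸ P.map (algebraMap R R')) q.primeCompl)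
      (Localization.AtPrime q ⧸ (P.map (algebraMap R R')).map
        (algebraMap R' (Localization.AtPrime q))) := inferInstance
  have hsub : Algebra.algebraMapSubmonoid
      (R' ⧸ P.map (algebraMap R R')) q.primeCompl =
      (q.map (Ideal.Quotient.mk (P.map (algebraMap R R')))).primeCompl := by
    ext x
    constructor
    · rintro ⟨a, ha, rfl⟩ hmem
      have : a ∈ (q.map (Ideal.Quotient.mk (P.map
          (algebraMap R R')))).comap (Ideal.Quotient.mk _) := hmem
      rw [hqb_comap] at this
      exact ha this
    · intro hx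
      obtain ⟨a, rfl⟩ := Ideal.Quotient.mk_surjective x
      exact ⟨a, fun ha => hx (Ideal.mem_map_of_mem _ ha), rfl⟩
  rw [hsub] at hlocB
  let e : Localization.AtPrime (q.map (Ideal.Quotient.mk (P.map
      (algebraMap R R')))) ≃ₐ[R' ⧸ P.map (algebraMap R R')]
      (Localization.AtPrime q ⧸ (P.map (algebraMap R R')).map
        (algebraMap R' (Localization.AtPrime q))) :=
    IsLocalization.algEquiv (q.map (Ideal.Quotient.mk (P.map
      (algebraMap R R')))).primeCompl _ _
  have hBloc : IsLocalRing (Localization.AtPrime q ⧸ (P.map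
      (algebraMap R R')).map (algebraMap R' (Localization.AtPrime q))) := e.toRingEquiv.isLocalRing
  have hBdom : IsDomain (Localization.AtPrime q ⧸ (P.map
      (algebraMap R R')).map (algebraMap R' (Localization.AtPrime q))) :=
    e.toRingEquiv.toMulEquiv.isDomain_iff.mp hd1
  have hBGU : CAlg2.IsGeomUnibranch (Localization.AtPrime q ⧸ (P.map
      (algebraMap R R')).map (algebraMap R' (Localization.AtPrime q))) :=
    Groth.Agent.Lib.Helper6.UB.isGeomUnibranch_of_ringEquiv e.toRingEquiv hg1
  have hprime := Hzs.isPrime_map_of_isGeomUnibranch_quotient (Localization.AtPrime q) T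
    ((P.map (algebraMap R R')).map
      (algebraMap R' (Localization.AtPrime q))) inferInstance hBGU
  exact hprime
open Groth.Agent.Lib.Helper4.Hzs Groth.Agent.Lib.Helper4.Hzn in
set_option maxHeartbeats 1600000 in
/-- For `R → S` smooth and `q` over `p`, there is a flat local homomorphism between the strict
henselizations of `R_p` and `S_q` along which prime ideals extend to prime ideals. -/
theorem exists_ringHom_isPrime_map (R : Type u) [CommRing R]
    (S : Type u) [CommRing S] [Algebra R S] [Algebra.Smooth R S] (q : Ideal S) [q.IsPrime]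
    (p : Ideal R) [p.IsPrime] [q.LiesOver p]
    (Ash : Type u) [CommRing Ash] [IsLocalRing Ash] [Algebra (Localization.AtPrime p) Ash]
    [IsLocalHom (algebraMap (Localization.AtPrime p) Ash)]
    [hW : Hensel.IsStrictHenselization (Localization.AtPrime p) Ash]
    (T : Type u) [CommRing T] [IsLocalRing T] [Algebra (Localization.AtPrime q) T]
    [IsLocalHom (algebraMap (Localization.AtPrime q) T)]
    [hT : Hensel.IsStrictHenselization (Localization.AtPrime q) T] :
    ∃ σ : Ash →+* T, IsLocalHom σ ∧ σ.Flat ∧ ∀ P : Ideal Ash, P.IsPrime → (P.map σ).IsPrime := by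
  let _ : Algebra R Ash :=
    ((algebraMap (Localization.AtPrime p) Ash).comp (algebraMap R (Localization.AtPrime p))).toAlgebra
  have : IsScalarTower R (Localization.AtPrime p) Ash := IsScalarTower.of_algebraMap_eq fun _ => rfl
  let _ : Algebra S T :=
    ((algebraMap (Localization.AtPrime q) T).comp (algebraMap S (Localization.AtPrime q))).toAlgebra
  have : IsScalarTower S (Localization.AtPrime q) T := IsScalarTower.of_algebraMap_eq fun _ => rfl
  let _ : Algebra R T := ((algebraMap S T).comp (algebraMap R S)).toAlgebra
  have : IsScalarTower R S T := IsScalarTower.of_algebraMap_eq fun _ => rfl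
  let f : Localization.AtPrime p →+* T :=
    (algebraMap (Localization.AtPrime q) T).comp
      (Localization.localRingHom p q (algebraMap R S) (q.over_def p))
  have hf : IsLocalHom f := RingHom.isLocalHom_comp _ _
  have hHT : HenselianLocalRing T := hT.henselian
  have hscT : IsSepClosed (ResidueField T) := hT.isSepClosure.sep_closed
  have hsepW : Algebra.IsSeparable (ResidueField (Localization.AtPrime p)) (ResidueField Ash) :=
    hW.isSepClosure.separable
  let _ : Algebra (ResidueField (Localization.AtPrime p)) (ResidueField T) :=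
    (ResidueField.map f).toAlgebra
  let τ : ResidueField Ash →ₐ[ResidueField (Localization.AtPrime p)] ResidueField T :=
    IsSepClosed.lift
  have hτ : (τ : _ →+* ResidueField T).comp (ResidueField.map (algebraMap
      (Localization.AtPrime p) Ash)) = ResidueField.map f := by
    refine RingHom.ext fun x => ?_
    exact τ.commutes x
  obtain ⟨σ, ⟨hσ1, hσ2⟩, -⟩ := hW.universal T f (τ : _ →+* _) hτ
  let _ : Algebra Ash T := σ.toAlgebra
  have htow : IsScalarTower R Ash T := by
    refine IsScalarTower.of_algebraMap_eq fun r => ?_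
    change algebraMap (Localization.AtPrime q) T (algebraMap S _ (algebraMap R S r)) =
      σ (algebraMap (Localization.AtPrime p) _ (algebraMap R _ r))
    have h1 := congrArg (fun F => F (algebraMap R _ r)) hσ1
    simp only [RingHom.comp_apply] at h1
    rw [h1]
    change _ = algebraMap (Localization.AtPrime q) T (Localization.localRingHom _ q _ _ _)
    rw [Localization.localRingHom_to_map]
  have H := isStrictHenselization_tensor_atPrime R S p q Ash T
  have hloc : IsLocalHom (algebraMap Ash T) := isLocalHom_Rh_Sh R S p q Ash T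
  have hHW : HenselianLocalRing Ash := hW.henselian
  have hscW : IsSepClosed (ResidueField Ash) := hW.isSepClosure.sep_closed
  let _ : Algebra (Localization.AtPrime (tQ R S Ash T)) T := (tψ R S Ash T).toAlgebra
  have hlocψ : IsLocalHom (algebraMap (Localization.AtPrime (tQ R S Ash T)) T) :=
    isLocalHom_tψ R S Ash T
  have hcomp : ∀ a : Ash, algebraMap (Localization.AtPrime (tQ R S Ash T)) T
      (algebraMap (Ash ⊗[R] S) _ (algebraMap Ash (Ash ⊗[R] S) a)) = algebraMap Ash T a := by
    intro a
    change tψ R S Ash T (algebraMap _ _ _) = _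
    rw [tψ_algebraMap]
    change tφ R S Ash T (a ⊗ₜ[R] (1 : S)) = _
    rw [Algebra.TensorProduct.lift_tmul, map_one, mul_one]
    rfl
  refine ⟨σ, hloc, ?_, ?_⟩
  · -- flatness
    have h1 : Module.Flat Ash (Ash ⊗[R] S) := inferInstance
    have h2 : Module.Flat Ash (Localization.AtPrime (tQ R S Ash T)) :=
      Module.Flat.trans Ash (Ash ⊗[R] S) _
    have h3 : Module.FaithfullyFlat (Localization.AtPrime (tQ R S Ash T)) T :=
      Hzs.faithfullyFlat_of_isStrictHenselization _ T
    have htow2 : IsScalarTower Ash (Localization.AtPrime (tQ R S Ash T)) T := by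
      refine IsScalarTower.of_algebraMap_eq fun a => ?_
      rw [IsScalarTower.algebraMap_apply Ash (Ash ⊗[R] S) (Localization.AtPrime (tQ R S Ash T))]
      exact (hcomp a).symm
    have h4 : Module.Flat Ash T := Module.Flat.trans Ash (Localization.AtPrime (tQ R S Ash T)) T
    exact h4
  · intro P hP
    have key := isPrime_map_of_smooth Ash (Ash ⊗[R] S) T (tQ R S Ash T)
      (tQ_le' R S Ash T hloc) P
    rw [Ideal.map_map, Ideal.map_map] at key
    have hσeq : (((algebraMap (Localization.AtPrime (tQ R S Ash T)) T).comp
        (algebraMap (Ash ⊗[R] S) (Localization.AtPrime (tQ R S Ash T)))).comp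
          (algebraMap Ash (Ash ⊗[R] S))) = σ := by
      refine RingHom.ext fun a => ?_
      exact hcomp a
    rw [hσeq] at key
    exact key
/-- Along a faithfully flat map extending primes to primes, minimal primes correspond. -/
theorem encard_minimalPrimes_eq_of_isPrime_map {A B : Type*} [CommRing A] [CommRing B]
    [Algebra A B] [Module.FaithfullyFlat A B]
    (h : ∀ P : Ideal A, P.IsPrime → (P.map (algebraMap A B)).IsPrime) :
    (minimalPrimes A).encard = (minimalPrimes B).encard := by
  have hcm : ∀ P : Ideal A, (P.map (algebraMap A B)).comap (algebraMap A B) = P :=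
    fun P => Ideal.comap_map_eq_self_of_faithfullyFlat P
  have hinj : Set.InjOn (fun P : Ideal A => P.map (algebraMap A B)) (minimalPrimes A) := by
    intro P _ P' _ hPP'
    have := congrArg (Ideal.comap (algebraMap A B)) hPP'
    rwa [hcm, hcm] at this
  have himg : (fun P : Ideal A => P.map (algebraMap A B)) '' (minimalPrimes A) =
      minimalPrimes B := by
    ext Q
    constructor
    · rintro ⟨P, hP, rfl⟩
      have hPp : P.IsPrime := hP.1.1
      refine ⟨⟨h P hPp, bot_le⟩, fun Q' hQ' hle => ?_⟩
      have hQ'p : Q'.IsPrime := hQ'.1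
      have h1 : Q'.comap (algebraMap A B) ≤ P := by
        have := Ideal.comap_mono (f := algebraMap A B) hle
        rwa [hcm] at this
      have h2 : P ≤ Q'.comap (algebraMap A B) :=
        hP.2 ⟨Ideal.comap_isPrime _ _, bot_le⟩ h1
      exact Ideal.map_le_iff_le_comap.mpr h2
    · intro hQ
      have hQp : Q.IsPrime := hQ.1.1
      have hPp : (Q.comap (algebraMap A B)).IsPrime := Ideal.comap_isPrime _ _
      have h1 : (Q.comap (algebraMap A B)).map (algebraMap A B) ≤ Q := Ideal.map_comap_le
      have h2 : Q ≤ (Q.comap (algebraMap A B)).map (algebraMap A B) :=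
        hQ.2 ⟨h _ hPp, bot_le⟩ h1
      have heq : (Q.comap (algebraMap A B)).map (algebraMap A B) = Q := le_antisymm h1 h2
      refine ⟨Q.comap (algebraMap A B), ⟨⟨hPp, bot_le⟩, fun P' hP' hle => ?_⟩, heq⟩
      have hP'p : P'.IsPrime := hP'.1
      have h3 : P'.map (algebraMap A B) ≤ Q := by
        rw [← heq]; exact Ideal.map_mono hle
      have h4 : Q ≤ P'.map (algebraMap A B) := hQ.2 ⟨h _ hP'p, bot_le⟩ h3
      have := Ideal.comap_mono (f := algebraMap A B) h4
      rwa [hcm] at this
  rw [← himg, hinj.encard_image]

end Groth.Agent.Lib.Helper4.SmGU
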