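import Mathlib
import Groth.Prelude.Def_Hensel
import Groth.Agent.Lib.Helper4.HzsTensor
import Groth.Agent.Lib.Helper4.HzsInt
import Groth.Agent.Lib.Helper4.HzsStrict
import Groth.Agent.Lib.Helper4.HzsNoethC
import Groth.Agent.S17730

/-!
# Primality in strict henselizations of smooth algebras, from the base
-/

set_option autoImplicit false
universe u

namespace Groth.Agent.Lib.Helper4.SmPrime

open IsLocalRing TensorProduct Groth.Agent.Lib.Helper4.Hzs Groth.Agent.Lib.Helper4.Hzn

set_option maxHeartbeats 1600000 in
/-- If `Δ` is prime in the strict henselization of `R_p`, `p = q ∩ R`, then it is prime in any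
strict henselization of `R'_q`, for `R'` smooth over the Noetherian ring `R`. -/
theorem prime_of_prime_base (R : Type u) [CommRing R] [IsNoetherianRing R]
    (R' : Type u) [CommRing R'] [Algebra R R'] [Algebra.Smooth R R'] (q : Ideal R') [q.IsPrime]
    (T : Type u) [CommRing T] [IsLocalRing T] [Algebra (Localization.AtPrime q) T]
    [IsLocalHom (algebraMap (Localization.AtPrime q) T)]
    [hT : Hensel.IsStrictHenselization (Localization.AtPrime q) T] (Δ : R)
    (hΔ : Prime (algebraMap (Localization.AtPrime (q.comap (algebraMap R R')))
      (Hs (Localization.AtPrime (q.comap (algebraMap R R'))))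
      (algebraMap R (Localization.AtPrime (q.comap (algebraMap R R'))) Δ))) :
    Prime (algebraMap (Localization.AtPrime q) T
      (algebraMap R' (Localization.AtPrime q) (algebraMap R R' Δ))) := by
  have hlies : q.LiesOver (q.comap (algebraMap R R')) := ⟨rfl⟩
  let _ : Algebra R (Hs (Localization.AtPrime (q.comap (algebraMap R R')))) :=
    ((algebraMap (Localization.AtPrime (q.comap (algebraMap R R'))) _).comp
      (algebraMap R (Localization.AtPrime (q.comap (algebraMap R R'))))).toAlgebra
  have : IsScalarTower R (Localization.AtPrime (q.comap (algebraMap R R')))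
      (Hs (Localization.AtPrime (q.comap (algebraMap R R')))) :=
    IsScalarTower.of_algebraMap_eq fun _ => rfl
  let _ : Algebra R' T :=
    ((algebraMap (Localization.AtPrime q) T).comp (algebraMap R' (Localization.AtPrime q))).toAlgebra
  have : IsScalarTower R' (Localization.AtPrime q) T := IsScalarTower.of_algebraMap_eq fun _ => rfl
  let _ : Algebra R T := ((algebraMap R' T).comp (algebraMap R R')).toAlgebra
  have : IsScalarTower R R' T := IsScalarTower.of_algebraMap_eq fun _ => rfl
  -- the local map `R_p → R'_q → T`
  let f : Localization.AtPrime (q.comap (algebraMap R R')) →+* T :=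
    (algebraMap (Localization.AtPrime q) T).comp
      (Localization.localRingHom (q.comap (algebraMap R R')) q (algebraMap R R') rfl)
  have hf : IsLocalHom f := RingHom.isLocalHom_comp _ _
  have hW : Hensel.IsStrictHenselization (Localization.AtPrime (q.comap (algebraMap R R')))
      (Hs (Localization.AtPrime (q.comap (algebraMap R R')))) := inferInstance
  have hHT : HenselianLocalRing T := hT.henselian
  have hscT : IsSepClosed (ResidueField T) := hT.isSepClosure.sep_closed
  have hsepW : Algebra.IsSeparable (ResidueField (Localization.AtPrime (q.comap (algebraMap R R'))))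
      (ResidueField (Hs (Localization.AtPrime (q.comap (algebraMap R R'))))) :=
    hW.isSepClosure.separable
  let _ : Algebra (ResidueField (Localization.AtPrime (q.comap (algebraMap R R'))))
      (ResidueField T) := (ResidueField.map f).toAlgebra
  let τ : ResidueField (Hs (Localization.AtPrime (q.comap (algebraMap R R')))) →ₐ[
      ResidueField (Localization.AtPrime (q.comap (algebraMap R R')))] ResidueField T :=
    IsSepClosed.lift
  have hτ : (τ : _ →+* ResidueField T).comp (ResidueField.map (algebraMap
      (Localization.AtPrime (q.comap (algebraMap R R')))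
      (Hs (Localization.AtPrime (q.comap (algebraMap R R')))))) = ResidueField.map f := by
    refine RingHom.ext fun x => ?_
    exact τ.commutes x
  obtain ⟨σ, ⟨hσ1, hσ2⟩, -⟩ := hW.universal T f (τ : _ →+* _) hτ
  let _ : Algebra (Hs (Localization.AtPrime (q.comap (algebraMap R R')))) T := σ.toAlgebra
  have htow : IsScalarTower R (Hs (Localization.AtPrime (q.comap (algebraMap R R')))) T := by
    refine IsScalarTower.of_algebraMap_eq fun r => ?_
    change algebraMap (Localization.AtPrime q) T (algebraMap R' _ (algebraMap R R' r)) =
      σ (algebraMap (Localization.AtPrime (q.comap (algebraMap R R'))) _ (algebraMap R _ r))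
    have h1 := congrArg (fun F => F (algebraMap R _ r)) hσ1
    simp only [RingHom.comp_apply] at h1
    rw [h1]
    change _ = algebraMap (Localization.AtPrime q) T (Localization.localRingHom _ q _ rfl _)
    rw [Localization.localRingHom_to_map]
  have H := isStrictHenselization_tensor_atPrime R R' (q.comap (algebraMap R R')) q
    (Hs (Localization.AtPrime (q.comap (algebraMap R R')))) T
  have hloc : IsLocalHom (algebraMap (Hs (Localization.AtPrime (q.comap (algebraMap R R')))) T) :=
    isLocalHom_Rh_Sh R R' (q.comap (algebraMap R R')) q
      (Hs (Localization.AtPrime (q.comap (algebraMap R R')))) T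
  have hnoeth : IsNoetherianRing (Hs (Localization.AtPrime (q.comap (algebraMap R R')))) :=
    Hs.isNoetherianRing (Localization.AtPrime (q.comap (algebraMap R R')))
  have hHW : HenselianLocalRing (Hs (Localization.AtPrime (q.comap (algebraMap R R')))) :=
    hW.henselian
  have hscW : IsSepClosed (ResidueField (Hs (Localization.AtPrime (q.comap (algebraMap R R'))))) :=
    hW.isSepClosure.sep_closed
  let _ : Algebra (Localization.AtPrime (tQ R R' (Hs (Localization.AtPrime
      (q.comap (algebraMap R R')))) T)) T :=
    (tψ R R' (Hs (Localization.AtPrime (q.comap (algebraMap R R')))) T).toAlgebra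
  have : IsLocalHom (algebraMap (Localization.AtPrime (tQ R R' (Hs (Localization.AtPrime
      (q.comap (algebraMap R R')))) T)) T) :=
    isLocalHom_tψ R R' (Hs (Localization.AtPrime (q.comap (algebraMap R R')))) T
  have hΔ' : Prime (algebraMap R (Hs (Localization.AtPrime (q.comap (algebraMap R R')))) Δ) := hΔ
  have key := Groth.Agent.S17730.result (Hs (Localization.AtPrime (q.comap (algebraMap R R'))))
    (Hs (Localization.AtPrime (q.comap (algebraMap R R'))) ⊗[R] R') T
    (tQ R R' (Hs (Localization.AtPrime (q.comap (algebraMap R R')))) T)
    (tQ_le' R R' (Hs (Localization.AtPrime (q.comap (algebraMap R R')))) T hloc) _ hΔ'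
  have heq : algebraMap (Localization.AtPrime (tQ R R' (Hs (Localization.AtPrime
      (q.comap (algebraMap R R')))) T)) T
      (algebraMap (Hs (Localization.AtPrime (q.comap (algebraMap R R'))) ⊗[R] R') _
        (algebraMap (Hs (Localization.AtPrime (q.comap (algebraMap R R')))) _
          (algebraMap R (Hs (Localization.AtPrime (q.comap (algebraMap R R')))) Δ))) =
      algebraMap (Localization.AtPrime q) T
        (algebraMap R' (Localization.AtPrime q) (algebraMap R R' Δ)) := by
    change tψ R R' (Hs (Localization.AtPrime (q.comap (algebraMap R R')))) T (algebraMap _ _ _) = _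
    rw [tψ_algebraMap]
    change tφ R R' (Hs (Localization.AtPrime (q.comap (algebraMap R R')))) T
      ((algebraMap R (Hs (Localization.AtPrime (q.comap (algebraMap R R')))) Δ) ⊗ₜ[R] (1 : R')) = _
    rw [Algebra.TensorProduct.lift_tmul, map_one, mul_one]
    change algebraMap (Hs (Localization.AtPrime (q.comap (algebraMap R R')))) T
      (algebraMap R _ Δ) = _
    rw [← IsScalarTower.algebraMap_apply R (Hs (Localization.AtPrime (q.comap (algebraMap R R')))) T]
    rfl
  rw [heq] at key
  exact key

end Groth.Agent.Lib.Helper4.SmPrime
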