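import Mathlib

/-!
# A finite formally smooth algebra over a field is formally unramified (hence étale)
-/

set_option autoImplicit false
universe u

namespace Groth.Agent.Lib.Helper4.SmoothFinField

open Polynomial IsLocalRing

/-- the truncated polynomial ring `k[t]/(t^(n+1))`: `t ^ n ≠ 0`. -/
theorem root_pow_ne_zero (k : Type u) [Field k] (n : ℕ) :
    (AdjoinRoot.root (X ^ (n + 1) : k[X])) ^ n ≠ 0 := by
  intro h
  have h1 : AdjoinRoot.mk (X ^ (n + 1) : k[X]) (X ^ n) = 0 := by
    rw [map_pow, AdjoinRoot.mk_X]
    exact h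
  rw [AdjoinRoot.mk_eq_zero] at h1
  have h2 := Polynomial.natDegree_le_of_dvd h1 (pow_ne_zero _ X_ne_zero)
  rw [natDegree_X_pow, natDegree_X_pow] at h2
  omega

theorem root_pow_succ_eq_zero (k : Type u) [Field k] (n : ℕ) :
    (AdjoinRoot.root (X ^ (n + 1) : k[X])) ^ (n + 1) = 0 := by
  have h1 : AdjoinRoot.mk (X ^ (n + 1) : k[X]) (X ^ (n + 1)) = 0 := AdjoinRoot.mk_self
  rwa [map_pow, AdjoinRoot.mk_X] at h1

/-- Key lemma: a local `k`-algebra with residue field `k` and nilpotent maximal ideal which is
formally smooth over `k` is a field. -/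
theorem maximalIdeal_eq_bot (k : Type u) [Field k] (L : Type u) [CommRing L] [IsLocalRing L]
    [Algebra k L] [IsNoetherianRing L] [Algebra.FormallySmooth k L]
    (hres : Function.Bijective (algebraMap k (ResidueField L)))
    (hnil : IsNilpotent (maximalIdeal L)) : maximalIdeal L = ⊥ := by
  classical
  by_contra hne
  -- an element of `m \ m²`
  have hex : ∃ x ∈ maximalIdeal L, x ∉ maximalIdeal L * maximalIdeal L := by
    by_contra hcon
    push Not at hcon
    apply hne
    have hle : (maximalIdeal L : Submodule L L) ≤ maximalIdeal L • (maximalIdeal L : Submodule L L) := by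
      intro x hx
      have := hcon x hx
      rwa [← smul_eq_mul] at this
    exact Submodule.eq_bot_of_le_smul_of_le_jacobson_bot (maximalIdeal L) _
      (IsNoetherian.noetherian _) hle (IsLocalRing.maximalIdeal_le_jacobson _)
  obtain ⟨x, hxm, hxm2⟩ := hex
  obtain ⟨n, hn⟩ := hnil
  have hxn : x ^ n = 0 := by
    have : x ^ n ∈ maximalIdeal L ^ n := Ideal.pow_mem_pow hxm n
    rw [hn] at this
    exact this
  -- the residue map to `k`
  let e : k ≃ₐ[k] ResidueField L := AlgEquiv.ofBijective (Algebra.ofId k _) hres
  let c : L →ₐ[k] k := e.symm.toAlgHom.comp (IsScalarTower.toAlgHom k L (ResidueField L))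
  have hc0 : ∀ l : L, c l = 0 ↔ l ∈ maximalIdeal L := by
    intro l
    show e.symm (residue L l) = 0 ↔ _
    rw [map_eq_zero_iff _ e.symm.injective, residue_eq_zero_iff]
  have hcsub : ∀ l : L, l - algebraMap k L (c l) ∈ maximalIdeal L := by
    intro l
    rw [← hc0, map_sub, AlgHom.commutes, Algebra.algebraMap_self_apply, sub_self]
  -- the linear functional
  let W : Submodule k L := (maximalIdeal L * maximalIdeal L).restrictScalars k ⊔
    LinearMap.range (Algebra.linearMap k L)
  have hxW : x ∉ W := by
    intro hx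
    obtain ⟨y, hy, z, ⟨a, rfl⟩, hyz⟩ := Submodule.mem_sup.mp hx
    have hy' : y ∈ maximalIdeal L * maximalIdeal L := hy
    have ha : algebraMap k L a ∈ maximalIdeal L := by
      have : algebraMap k L a = x - y := by
        rw [← hyz]; simp
      rw [this]
      exact Ideal.sub_mem _ hxm (Ideal.mul_le_right hy')
    have ha0 : a = 0 := by
      have := (hc0 _).mpr ha
      rwa [AlgHom.commutes, Algebra.algebraMap_self_apply] at this
    apply hxm2
    have : x = y := by rw [← hyz, ha0]; simp
    rw [this]
    exact hy'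
  obtain ⟨D₀, hD₀x, hD₀W⟩ := Submodule.exists_dual_map_eq_bot_of_notMem hxW inferInstance
  let D : L →ₗ[k] k := (D₀ x)⁻¹ • D₀
  have hDx : D x = 1 := by
    show (D₀ x)⁻¹ • D₀ x = 1
    rw [smul_eq_mul, inv_mul_cancel₀ hD₀x]
  have hDW : ∀ w ∈ W, D w = 0 := by
    intro w hw
    have : D₀ w ∈ W.map D₀ := Submodule.mem_map_of_mem hw
    rw [hD₀W, Submodule.mem_bot] at this
    show (D₀ x)⁻¹ • D₀ w = 0
    rw [this, smul_zero]
  have hD1 : D 1 = 0 := hDW 1 (Submodule.mem_sup_right ⟨1, by simp⟩)
  have hDmm : ∀ a b : L, a ∈ maximalIdeal L → b ∈ maximalIdeal L → D (a * b) = 0 :=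
    fun a b ha hb => hDW _ (Submodule.mem_sup_left (Ideal.mul_mem_mul ha hb))
  have hDmul : ∀ l l' : L, D (l * l') = c l * D l' + c l' * D l := by
    intro l l'
    have h1 : l * l' = (l - algebraMap k L (c l)) * (l' - algebraMap k L (c l')) +
        c l • l' + c l' • l - (c l * c l') • (1 : L) := by
      simp only [Algebra.smul_def, map_mul]
      ring
    rw [h1, map_sub, map_add, map_add, hDmm _ _ (hcsub l) (hcsub l'), map_smul, map_smul, map_smul,
      hD1]
    simp
  -- the target ring
  let T := AdjoinRoot (X ^ (n + 1) : k[X])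
  let t : T := AdjoinRoot.root _
  have htn1 : t ^ (n + 1) = 0 := root_pow_succ_eq_zero k n
  have htn : t ^ n ≠ 0 := root_pow_ne_zero k n
  let I : Ideal T := Ideal.span {t ^ 2}
  have hInil : IsNilpotent I := by
    refine ⟨n + 1, ?_⟩
    rw [Ideal.span_singleton_pow, ← pow_mul, mul_comm, pow_mul, htn1, zero_pow (by norm_num)]
    simp
  have ht2 : Ideal.Quotient.mk I (t ^ 2) = 0 :=
    Ideal.Quotient.eq_zero_iff_mem.mpr (Ideal.mem_span_singleton_self _)
  let g₀ : L →ₗ[k] T ⧸ I := (Ideal.Quotient.mkₐ k I).toLinearMap ∘ₗ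
    ((Algebra.linearMap k T) ∘ₗ c.toLinearMap + (LinearMap.toSpanSingleton k T t) ∘ₗ D)
  have hg₀ : ∀ l, g₀ l = Ideal.Quotient.mk I (algebraMap k T (c l) + D l • t) := fun l => rfl
  let g : L →ₐ[k] T ⧸ I := AlgHom.ofLinearMap g₀
    (by rw [hg₀, map_one, hD1, zero_smul, add_zero, map_one, map_one])
    (by
      intro l l'
      rw [hg₀, hg₀, hg₀, ← map_mul, hDmul, map_mul]
      have h2 : (algebraMap k T (c l) + D l • t) * (algebraMap k T (c l') + D l' • t) =
          algebraMap k T (c l) * algebraMap k T (c l') + (c l * D l' + c l' * D l) • t +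
            algebraMap k T (D l * D l') * t ^ 2 := by
        simp only [Algebra.smul_def, map_add, map_mul]
        ring
      rw [h2, map_add _ _ (algebraMap k T (D l * D l') * t ^ 2), map_mul _ _ (t ^ 2), ht2, mul_zero,
        add_zero, map_mul (algebraMap k T)])
  obtain ⟨ψ, hψ⟩ := Algebra.FormallySmooth.exists_lift I hInil g
  have hψx : ψ x - t ∈ I := by
    rw [← Ideal.Quotient.eq]
    have := DFunLike.congr_fun hψ x
    have h3 : g x = Ideal.Quotient.mk I t := by
      show g₀ x = _
      rw [hg₀, (hc0 x).mpr hxm, map_zero, zero_add, hDx, one_smul]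
    exact this.trans h3
  obtain ⟨w, hw⟩ := Ideal.mem_span_singleton'.mp hψx
  have hψx' : ψ x = t * (1 + t * w) := by
    have : ψ x = t + w * t ^ 2 := by rw [hw]; ring
    rw [this]; ring
  have hpow : ∀ j : ℕ, ∃ w' : T, (1 + t * w) ^ j = 1 + t * w' := by
    intro j
    induction j with
    | zero => exact ⟨0, by simp⟩
    | succ j ih =>
      obtain ⟨w', hw'⟩ := ih
      exact ⟨w' + w + t * w' * w, by rw [pow_succ, hw']; ring⟩
  obtain ⟨w', hw'⟩ := hpow n
  have h0 : ψ x ^ n = 0 := by rw [← map_pow, hxn, map_zero]
  rw [hψx', mul_pow, hw'] at h0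
  have h4 : t ^ n * (1 + t * w') = t ^ n + t ^ (n + 1) * w' := by ring
  rw [h4, htn1, zero_mul, add_zero] at h0
  exact htn h0

/-- local case over an algebraically closed field -/
theorem formallyUnramified_of_local (k : Type u) [Field k] [IsAlgClosed k] (L : Type u) [CommRing L]
    [IsLocalRing L] [Algebra k L] [Module.Finite k L] [Algebra.FormallySmooth k L] :
    Algebra.FormallyUnramified k L := by
  have hart : IsArtinianRing L := IsArtinianRing.of_finite k L
  have hnoeth : IsNoetherianRing L := inferInstance
  have hres : Function.Bijective (algebraMap k (ResidueField L)) :=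
    IsAlgClosed.algebraMap_bijective_of_isIntegral
  have hnil : IsNilpotent (maximalIdeal L) := by
    rw [← IsLocalRing.jacobson_eq_maximalIdeal (⊥ : Ideal L) bot_ne_top]
    exact IsArtinianRing.isNilpotent_jacobson_bot
  have hbot := maximalIdeal_eq_bot k L hres hnil
  have hfield : IsField L := IsLocalRing.isField_iff_maximalIdeal_eq.mpr hbot
  have hdom : IsDomain L := hfield.isDomain
  have hbij : Function.Bijective (algebraMap k L) := IsAlgClosed.algebraMap_bijective_of_isIntegral
  exact Algebra.FormallyUnramified.of_surjective (Algebra.ofId k L) hbij.2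

/-- over an algebraically closed field -/
theorem formallyUnramified_of_isAlgClosed (k : Type u) [Field k] [IsAlgClosed k] (F : Type u)
    [CommRing F] [Algebra k F] [Module.Finite k F] [Algebra.FormallySmooth k F] :
    Algebra.FormallyUnramified k F := by
  have hart : IsArtinianRing F := IsArtinianRing.of_finite k F
  rw [Algebra.formallyUnramified_iff_forall]
  intro q'
  obtain ⟨q, hq⟩ := q'
  show Algebra.FormallyUnramified k (Localization.AtPrime q)
  have hsurj : Function.Surjective (algebraMap F (Localization.AtPrime q)) :=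
    IsArtinianRing.localization_surjective q.primeCompl _
  have hfin : Module.Finite k (Localization.AtPrime q) :=
    Module.Finite.of_surjective (IsScalarTower.toAlgHom k F (Localization.AtPrime q)).toLinearMap hsurj
  have hsm1 : Algebra.FormallySmooth F (Localization.AtPrime q) :=
    Algebra.FormallySmooth.of_isLocalization q.primeCompl
  have hsm : Algebra.FormallySmooth k (Localization.AtPrime q) :=
    Algebra.FormallySmooth.comp k F (Localization.AtPrime q)
  exact formallyUnramified_of_local k (Localization.AtPrime q)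

open TensorProduct in
/-- **A finite formally smooth algebra over a field is formally unramified.** -/
theorem formallyUnramified_of_finite (k : Type u) [Field k] (F : Type u)
    [CommRing F] [Algebra k F] [Module.Finite k F] [Algebra.FormallySmooth k F] :
    Algebra.FormallyUnramified k F := by
  have h1 : Algebra.FormallyUnramified (AlgebraicClosure k) (AlgebraicClosure k ⊗[k] F) :=
    formallyUnramified_of_isAlgClosed (AlgebraicClosure k) (AlgebraicClosure k ⊗[k] F)
  exact Algebra.FormallyUnramified.of_formallyUnramified_tensorProduct_of_faithfullyFlat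
    (AlgebraicClosure k)

end Groth.Agent.Lib.Helper4.SmoothFinField
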