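import Mathlib
import Groth.Prelude.Def_Hensel
import Groth.Prelude.Def_Brnch
import Groth.Agent.Lib.Helper4.StrictExt2
import Groth.Agent.Lib.Helper4.HzsBC1

/-!
# Geometric branches of a unibranch reduced local ring: embeddings of the residue field of the
normalization
-/

set_option autoImplicit false
set_option linter.unusedSectionVars false
universe u

namespace Groth.Agent.Lib.Helper4.StrictCard

open IsLocalRing TensorProduct Cardinal

section FieldEmb

variable (k K : Type u) [Field k] [Field K] [Algebra k K] [Algebra.IsAlgebraic k K]

/-- If there are finitely many embeddings then the separable closure is finite. -/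
theorem finiteDimensional_separableClosure_of_finite_emb (h : Finite (Field.Emb k K)) :
    FiniteDimensional k (separableClosure k K) := by
  have h1 : #(Field.Emb k K) < ℵ₀ := Cardinal.lt_aleph0_iff_finite.mpr h
  have h2 := Field.Emb.cardinal_eq (F := k) (E := K)
  dsimp only at h2
  have h3 : Field.sepDegree k K < ℵ₀ := by
    by_contra hge
    rw [not_lt] at hge
    rw [if_pos hge] at h2
    have h4 : Field.sepDegree k K < 2 ^ Field.sepDegree k K := Cardinal.cantor _
    rw [← h2] at h4
    exact absurd (hge.trans h4.le) (not_le.mpr h1)
  have h5 : Module.rank k (separableClosure k K) < ℵ₀ := h3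
  exact Module.rank_lt_aleph0_iff.mp h5

theorem natCard_emb_eq_finrank :
    Nat.card (Field.Emb k K) = Module.finrank k (separableClosure k K) :=
  Field.finSepDegree_eq k K

end FieldEmb

section Norm

variable (A : Type u) [CommRing A] [IsLocalRing A] [IsReduced A]
  [IsLocalRing (integralClosure A (FractionRing A))]
  [IsLocalHom (algebraMap A (integralClosure A (FractionRing A)))]

theorem isLocalRing_normRed : IsLocalRing (CAlg2.normRed A) :=
  (StrictExt.normEquiv A).isLocalRing

theorem maximalIdeal_normRed [IsLocalRing (CAlg2.normRed A)] :
    maximalIdeal (CAlg2.normRed A) =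
      (maximalIdeal (integralClosure A (FractionRing A))).map
        ((StrictExt.normEquiv A : integralClosure A (FractionRing A) ≃+* CAlg2.normRed A) :
          integralClosure A (FractionRing A) →+* CAlg2.normRed A) := by
  ext x
  rw [Ideal.map_comap_of_equiv, Ideal.mem_comap, mem_maximalIdeal, mem_maximalIdeal,
    mem_nonunits_iff, mem_nonunits_iff, not_iff_not]
  constructor
  · intro hu
    exact hu.map (StrictExt.normEquiv A).symm
  · intro hu
    have := hu.map (StrictExt.normEquiv A)
    rwa [RingEquiv.apply_symm_apply] at this

/-- The residue fields of the two guises of the normalization. -/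
noncomputable def resEquiv [IsLocalRing (CAlg2.normRed A)] :
    ResidueField (integralClosure A (FractionRing A)) ≃+*
      (CAlg2.normRed A ⧸ (default : MaximalSpectrum (CAlg2.normRed A)).asIdeal) :=
  Ideal.quotientEquiv _ _ (StrictExt.normEquiv A) (maximalIdeal_normRed A)

theorem resEquiv_residue [IsLocalRing (CAlg2.normRed A)] (a : A) :
    resEquiv A (residue _ (algebraMap A (integralClosure A (FractionRing A)) a)) =
      Brnch.toResidue A default a := by
  change Ideal.Quotient.mk _ (StrictExt.normEquiv A (algebraMap A _ a)) = _
  rw [StrictExt.normEquiv_algebraMap]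
  rfl

theorem resEquiv_symm_toResidue [IsLocalRing (CAlg2.normRed A)] (a : A) :
    (resEquiv A).symm (Brnch.toResidue A default a) =
      algebraMap (ResidueField A) (ResidueField (integralClosure A (FractionRing A)))
        (residue A a) := by
  rw [RingEquiv.symm_apply_eq, ResidueField.algebraMap_residue, resEquiv_residue]

/-- Embeddings at the unique maximal ideal are the embeddings of the residue field. -/
noncomputable def embEquiv [IsLocalRing (CAlg2.normRed A)] :
    Brnch.Emb A (default : MaximalSpectrum (CAlg2.normRed A)) ≃
      (ResidueField (integralClosure A (FractionRing A)) →ₐ[ResidueField A]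
        AlgebraicClosure (ResidueField A)) where
  toFun σ :=
    { (σ.1.comp (resEquiv A).toRingHom) with
      commutes' := fun r => by
        obtain ⟨a, rfl⟩ := residue_surjective r
        change σ.1 (resEquiv A (algebraMap (ResidueField A) _ (residue A a))) = _
        rw [ResidueField.algebraMap_residue, resEquiv_residue]
        exact RingHom.congr_fun σ.2 a }
  invFun τ := ⟨τ.toRingHom.comp (resEquiv A).symm.toRingHom, by
    ext a
    change τ ((resEquiv A).symm (Brnch.toResidue A default a)) = _
    rw [resEquiv_symm_toResidue, τ.commutes]
    rfl⟩
  left_inv σ := by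
    apply Subtype.ext
    ext x
    change σ.1 ((resEquiv A) ((resEquiv A).symm x)) = σ.1 x
    rw [RingEquiv.apply_symm_apply]
  right_inv τ := by
    ext x
    change τ ((resEquiv A).symm ((resEquiv A) x)) = τ x
    rw [RingEquiv.symm_apply_apply]

theorem isAlgebraic_residueField :
    Algebra.IsAlgebraic (ResidueField A) (ResidueField (integralClosure A (FractionRing A))) := by
  have : Algebra.IsIntegral (ResidueField A)
      (ResidueField (integralClosure A (FractionRing A))) :=
    Hzs.isIntegral_residueField_of_isIntegral A (integralClosure A (FractionRing A))
  exact Algebra.IsIntegral.isAlgebraic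

/-- The number of geometric branches, as a number of field embeddings. -/
theorem card_sigma_emb :
    ENat.card (Σ m' : MaximalSpectrum (CAlg2.normRed A), Brnch.Emb A m') =
      ENat.card (Field.Emb (ResidueField A)
        (ResidueField (integralClosure A (FractionRing A)))) := by
  have hloc : IsLocalRing (CAlg2.normRed A) := isLocalRing_normRed A
  have halg := isAlgebraic_residueField A
  have e1 : (Σ m' : MaximalSpectrum (CAlg2.normRed A), Brnch.Emb A m') ≃
      Brnch.Emb A (default : MaximalSpectrum (CAlg2.normRed A)) :=
    Equiv.uniqueSigma _
  have e3 := Field.embEquivOfIsAlgClosed (ResidueField A)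
    (ResidueField (integralClosure A (FractionRing A))) (AlgebraicClosure (ResidueField A))
  exact ENat.card_congr ((e1.trans (embEquiv A)).trans e3.symm)

end Norm

end Groth.Agent.Lib.Helper4.StrictCard
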