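import Mathlib
import Groth.Prelude.Def_Hensel
import Groth.Agent.Lib.Helper4.HzsUnibr
import Groth.Agent.Lib.Helper4.HznRed
import Groth.Agent.Lib.Helper4.HznCompl
import Groth.Agent.Lib.Helper4.HzsProps
import Groth.Agent.Lib.Helper4.BrnchMin

/-!
# Minimal primes of a strict henselization that are extended from a local ring below

For a local ring `Rh` with strict henselization `Rs`: every minimal prime of `Rs` is generated by
its contraction to `Rh` iff `Rs` and `Rh` have the same (finite) number of minimal primes.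
-/

set_option autoImplicit false
universe u

namespace Groth.Agent.Lib.Helper4.StrictExt

open IsLocalRing TensorProduct

variable (Rh Rs : Type u) [CommRing Rh] [IsLocalRing Rh] [CommRing Rs] [IsLocalRing Rs]
  [Algebra Rh Rs] [IsLocalHom (algebraMap Rh Rs)] [Hensel.IsStrictHenselization Rh Rs]

/-- `Rs / q Rs` is reduced for every prime `q` of `Rh`. -/
theorem isReduced_quotient_map (q : Ideal Rh) [hq : q.IsPrime] :
    IsReduced (Rs ⧸ q.map (algebraMap Rh Rs)) := by
  have hnt : Nontrivial (Rh ⧸ q) := Ideal.Quotient.nontrivial_iff.mpr hq.ne_top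
  have hloc : IsLocalRing (Rh ⧸ q) :=
    IsLocalRing.of_surjective' (Ideal.Quotient.mk q) Ideal.Quotient.mk_surjective
  have hlh : IsLocalHom (algebraMap Rh (Rh ⧸ q)) :=
    IsLocalHom.of_surjective (Ideal.Quotient.mk q) Ideal.Quotient.mk_surjective
  have hint : Algebra.IsIntegral Rh (Rh ⧸ q) :=
    Algebra.IsIntegral.of_surjective (Algebra.ofId Rh (Rh ⧸ q)) Ideal.Quotient.mk_surjective
  have hpi : IsPurelyInseparable (ResidueField Rh) (ResidueField (Rh ⧸ q)) := by
    rw [isPurelyInseparable_iff]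
    intro x
    obtain ⟨y, rfl⟩ := residue_surjective x
    obtain ⟨a, rfl⟩ := Ideal.Quotient.mk_surjective y
    have h1 : residue (Rh ⧸ q) (Ideal.Quotient.mk q a) =
        algebraMap (ResidueField Rh) (ResidueField (Rh ⧸ q)) (residue Rh a) := by
      rw [ResidueField.algebraMap_residue]
      rfl
    rw [h1]
    exact ⟨isIntegral_algebraMap, fun _ => ⟨_, rfl⟩⟩
  obtain ⟨h1, h2'⟩ := Unibr.isStrictHenselization_tensor_of_integral_local Rh (Rh ⧸ q) Rs
  let _ : Algebra (Rh ⧸ q) (Rs ⊗[Rh] (Rh ⧸ q)) := Algebra.TensorProduct.rightAlgebra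
  obtain ⟨h2, h3⟩ := h2'
  have hdomq : IsDomain (Rh ⧸ q) := Ideal.Quotient.isDomain q
  have hred : IsReduced (Rs ⊗[Rh] (Rh ⧸ q)) :=
    (Hzs.isReduced_iff_of_isStrictHenselization (Rh ⧸ q) (Rs ⊗[Rh] (Rh ⧸ q))).mpr inferInstance
  have e := Algebra.TensorProduct.quotIdealMapEquivTensorQuot Rs q
  exact isReduced_of_injective e.toRingEquiv.toRingHom e.injective

/-- `q Rs` is a radical ideal. -/
theorem isRadical_map (q : Ideal Rh) [q.IsPrime] : (q.map (algebraMap Rh Rs)).IsRadical := by
  have := isReduced_quotient_map Rh Rs q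
  exact (Ideal.isRadical_iff_quotient_reduced _).mpr this

/-- A minimal prime of `Rs` is minimal over the extension of its contraction. -/
theorem mem_minimalPrimes_map_comap {Q : Ideal Rs} (hQ : Q ∈ minimalPrimes Rs) :
    Q ∈ ((Q.comap (algebraMap Rh Rs)).map (algebraMap Rh Rs)).minimalPrimes := by
  refine ⟨⟨hQ.1.1, Ideal.map_comap_le⟩, fun P hP hPQ => ?_⟩
  exact hQ.2 ⟨hP.1, bot_le⟩ hPQ

/-- A prime minimal over `q Rs`, `q` a minimal prime of `Rh`, is a minimal prime of `Rs` lying over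
`q`. -/
theorem minimalPrime_of_mem_minimalPrimes_map {q : Ideal Rh} (hq : q ∈ minimalPrimes Rh)
    {P : Ideal Rs} (hP : P ∈ (q.map (algebraMap Rh Rs)).minimalPrimes) :
    P ∈ minimalPrimes Rs ∧ P.comap (algebraMap Rh Rs) = q := by
  have hff : Module.FaithfullyFlat Rh Rs := Hzs.faithfullyFlat_of_isStrictHenselization Rh Rs
  have hPp : P.IsPrime := hP.1.1
  obtain ⟨P', hP', hP'P⟩ := Ideal.exists_minimalPrimes_le (I := ⊥) (J := P) bot_le
  have hP'p : P'.IsPrime := hP'.1.1
  have h1 : P'.comap (algebraMap Rh Rs) ∈ minimalPrimes Rh :=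
    BrnchMin.comap_mem_minimalPrimes_of_flat hP'
  have h2 : P'.comap (algebraMap Rh Rs) ≤ P.comap (algebraMap Rh Rs) := Ideal.comap_mono hP'P
  have hqP : q ≤ P.comap (algebraMap Rh Rs) := Ideal.map_le_iff_le_comap.mp hP.1.2
  -- going down: find a prime below P lying over q
  have hqp : q.IsPrime := hq.1.1
  have hlo : P.LiesOver (P.comap (algebraMap Rh Rs)) := ⟨rfl⟩
  obtain ⟨P'', hP''P, hP''p, hP''lo⟩ :=
    Ideal.exists_ideal_le_liesOver_of_le (p := q) (q := P.comap (algebraMap Rh Rs)) P hqP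
  have h3 : q.map (algebraMap Rh Rs) ≤ P'' := by
    rw [Ideal.map_le_iff_le_comap]
    exact le_of_eq hP''lo.over
  have h4 : P ≤ P'' := hP.2 ⟨hP''p, h3⟩ hP''P
  have h5 : P'' = P := le_antisymm hP''P h4
  have hcomap : P.comap (algebraMap Rh Rs) = q := by
    rw [← h5]; exact hP''lo.over.symm
  refine ⟨?_, hcomap⟩
  -- P' contracts to a minimal prime contained in q, hence to q
  have h6 : P'.comap (algebraMap Rh Rs) = q := by
    have hle : P'.comap (algebraMap Rh Rs) ≤ q := hcomap ▸ h2
    exact le_antisymm hle (hq.2 h1.1 hle)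
  have h7 : q.map (algebraMap Rh Rs) ≤ P' := by
    rw [Ideal.map_le_iff_le_comap, h6]
  have h8 : P ≤ P' := hP.2 ⟨hP'p, h7⟩ hP'P
  have : P' = P := le_antisymm hP'P h8
  exact this ▸ hP'

/-- If a minimal prime `Q` of `Rs` is the only minimal prime of `Rs` over its contraction, then it
is generated by its contraction. -/
theorem eq_map_comap_of_unique {Q : Ideal Rs} (hQ : Q ∈ minimalPrimes Rs)
    (huniq : ∀ Q' ∈ minimalPrimes Rs,
      Q'.comap (algebraMap Rh Rs) = Q.comap (algebraMap Rh Rs) → Q' = Q) :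
    Q = (Q.comap (algebraMap Rh Rs)).map (algebraMap Rh Rs) := by
  have hQp : Q.IsPrime := hQ.1.1
  have hff : Module.FaithfullyFlat Rh Rs := Hzs.faithfullyFlat_of_isStrictHenselization Rh Rs
  have hq : Q.comap (algebraMap Rh Rs) ∈ minimalPrimes Rh :=
    BrnchMin.comap_mem_minimalPrimes_of_flat hQ
  have hqp : (Q.comap (algebraMap Rh Rs)).IsPrime := hq.1.1
  have hrad := isRadical_map Rh Rs (Q.comap (algebraMap Rh Rs))
  have hmin : ((Q.comap (algebraMap Rh Rs)).map (algebraMap Rh Rs)).minimalPrimes = {Q} := by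
    ext P
    constructor
    · intro hP
      obtain ⟨h1, h2⟩ := minimalPrime_of_mem_minimalPrimes_map Rh Rs hq hP
      exact huniq P h1 h2
    · rintro rfl
      exact mem_minimalPrimes_map_comap Rh Rs hQ
  have h1 := Ideal.sInf_minimalPrimes (I := (Q.comap (algebraMap Rh Rs)).map (algebraMap Rh Rs))
  rw [hmin, sInf_singleton, hrad.radical] at h1
  exact h1

/-- The key equivalence. -/
theorem forall_eq_map_comap_iff (hfin : (minimalPrimes Rh).Finite) :
    (∀ Q ∈ minimalPrimes Rs, Q = Ideal.map (algebraMap Rh Rs) (Q.comap (algebraMap Rh Rs))) ↔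
      ENat.card (minimalPrimes Rs) = ENat.card (minimalPrimes Rh) := by
  have hff : Module.FaithfullyFlat Rh Rs := Hzs.faithfullyFlat_of_isStrictHenselization Rh Rs
  obtain ⟨hmaps, hsurj⟩ := Hzn.minimalPrimes_mapsTo_surjOn_of_faithfullyFlat Rh Rs
  let c : minimalPrimes Rs → minimalPrimes Rh := fun Q => ⟨_, hmaps Q.2⟩
  have hcsurj : Function.Surjective c := by
    rintro ⟨q, hq⟩
    obtain ⟨Q, hQ, hQq⟩ := hsurj hq
    exact ⟨⟨Q, hQ⟩, Subtype.ext hQq⟩
  constructor
  · intro h
    have hcinj : Function.Injective c := by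
      rintro ⟨Q₁, h₁⟩ ⟨Q₂, h₂⟩ h12
      have h12' : Q₁.comap (algebraMap Rh Rs) = Q₂.comap (algebraMap Rh Rs) :=
        congrArg Subtype.val h12
      apply Subtype.ext
      change Q₁ = Q₂
      rw [h Q₁ h₁, h Q₂ h₂, h12']
    exact ENat.card_congr (Equiv.ofBijective c ⟨hcinj, hcsurj⟩)
  · intro hcard Q hQ
    have hfinh : Finite (minimalPrimes Rh) := hfin
    have hfins : Finite (minimalPrimes Rs) := by
      by_contra hinf
      rw [not_finite_iff_infinite] at hinf
      rw [ENat.card_eq_top_of_infinite, eq_comm, ENat.card_eq_top] at hcard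
      exact not_finite (minimalPrimes Rh)
    have hcard' : Nat.card (minimalPrimes Rs) = Nat.card (minimalPrimes Rh) := by
      rw [ENat.card_eq_coe_natCard, ENat.card_eq_coe_natCard] at hcard
      exact_mod_cast hcard
    have hcinj : Function.Injective c := by
      have hb : Function.Bijective c :=
        (Function.Surjective.bijective_of_nat_card_le hcsurj (le_of_eq hcard'))
      exact hb.1
    refine eq_map_comap_of_unique Rh Rs hQ fun Q' hQ' h => ?_
    have := @hcinj ⟨Q', hQ'⟩ ⟨Q, hQ⟩ (Subtype.ext h)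
    exact congrArg Subtype.val this

end Groth.Agent.Lib.Helper4.StrictExt
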