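import Mathlib
import Groth.Prelude.Def_Hensel
import Groth.Agent.Lib.Helper4.HzsProps
import Groth.Agent.Lib.Helper4.HznProps

/-!
# Incomparability of primes in the fibres of a (strict) henselization
-/

set_option autoImplicit false
universe u

namespace Groth.Agent.Lib.Helper4.StrictExt

open IsLocalRing

/-- Primes of a strict henselization lying over the same prime are incomparable. -/
theorem incomparable_of_isStrictHenselization (R S : Type u) [CommRing R] [IsLocalRing R]
    [CommRing S] [IsLocalRing S] [Algebra R S] [IsLocalHom (algebraMap R S)]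
    [Hensel.IsStrictHenselization R S] (P Q : Ideal S) [P.IsPrime] [Q.IsPrime] (hPQ : P ≤ Q)
    (hu : P.comap (algebraMap R S) = Q.comap (algebraMap R S)) : P = Q := by
  obtain ⟨e⟩ := Hzs.nonempty_algEquiv_strict R S (Hzs.Hs R)
  let P' : Ideal (Hzs.Hs R) := P.comap (e.symm : Hzs.Hs R →+* S)
  let Q' : Ideal (Hzs.Hs R) := Q.comap (e.symm : Hzs.Hs R →+* S)
  have hP' : P'.IsPrime := Ideal.comap_isPrime _ _
  have hQ' : Q'.IsPrime := Ideal.comap_isPrime _ _
  have hle : P' ≤ Q' := Ideal.comap_mono hPQ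
  have hcomp : ((e.symm : Hzs.Hs R →+* S)).comp (algebraMap R (Hzs.Hs R)) = algebraMap R S := by
    ext r
    exact e.symm.commutes r
  have hu' : P'.under R = Q'.under R := by
    change (P.comap (e.symm : Hzs.Hs R →+* S)).comap (algebraMap R (Hzs.Hs R)) =
      (Q.comap (e.symm : Hzs.Hs R →+* S)).comap (algebraMap R (Hzs.Hs R))
    rw [Ideal.comap_comap, Ideal.comap_comap, hcomp]
    exact hu
  have h1 : P' = Q' := Hzs.Hs.incomparable R P' Q' hle hu'
  have h2 := congrArg (Ideal.comap (e : S →+* Hzs.Hs R)) h1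
  have hid : ((e.symm : Hzs.Hs R →+* S)).comp (e : S →+* Hzs.Hs R) = RingHom.id S :=
    RingHom.ext fun x => e.symm_apply_apply x
  change (P.comap (e.symm : Hzs.Hs R →+* S)).comap (e : S →+* Hzs.Hs R) =
    (Q.comap (e.symm : Hzs.Hs R →+* S)).comap (e : S →+* Hzs.Hs R) at h2
  rw [Ideal.comap_comap, Ideal.comap_comap, hid, Ideal.comap_id, Ideal.comap_id] at h2
  exact h2

/-- A minimal prime over `pS` in a flat algebra contracts to `p`. -/
theorem comap_eq_of_mem_minimalPrimes_map {R S : Type*} [CommRing R] [CommRing S] [Algebra R S]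
    [Module.Flat R S] (p : Ideal R) [hp : p.IsPrime] {P : Ideal S}
    (hP : P ∈ (p.map (algebraMap R S)).minimalPrimes) : P.comap (algebraMap R S) = p := by
  have hPp : P.IsPrime := hP.1.1
  have hpP : p ≤ P.comap (algebraMap R S) := Ideal.map_le_iff_le_comap.mp hP.1.2
  have hlo : P.LiesOver (P.comap (algebraMap R S)) := ⟨rfl⟩
  obtain ⟨P'', hP''P, hP''p, hP''lo⟩ :=
    Ideal.exists_ideal_le_liesOver_of_le (p := p) (q := P.comap (algebraMap R S)) P hpP
  have h3 : p.map (algebraMap R S) ≤ P'' := by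
    rw [Ideal.map_le_iff_le_comap]
    exact le_of_eq hP''lo.over
  have h4 : P ≤ P'' := hP.2 ⟨hP''p, h3⟩ hP''P
  have h5 : P'' = P := le_antisymm hP''P h4
  rw [← h5]
  exact hP''lo.over.symm

end Groth.Agent.Lib.Helper4.StrictExt
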