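import Mathlib
import Groth.Prelude.Def_Hensel
import Groth.Agent.Lib.Helper4.StrictInt2
import Groth.Agent.Lib.Helper4.HzsLocal
import Groth.Agent.Lib.Helper4.HzsInt
import Groth.Agent.Lib.Helper4.HzsBC1
import Groth.Agent.Lib.Helper4.BrnchCount
import Groth.Agent.Lib.Helper4.HzsNoethC

/-!
# The strict henselization of a subalgebra `D` of the strict henselization `S` of a henselian
local ring, as a quotient of `D ⊗[A] S`
-/

set_option autoImplicit false
set_option linter.unusedSectionVars false
universe u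

namespace Groth.Agent.Lib.Helper4.StrictInt

open IsLocalRing TensorProduct

section

variable (A S : Type u) [CommRing A] [HenselianLocalRing A] [CommRing S] [IsLocalRing S]
  [Algebra A S] [IsLocalHom (algebraMap A S)] [hS : Hensel.IsStrictHenselization A S]
  (D : Subalgebra A S)

/-- Modulo a prime of `D ⊗[A] S`, every `d ⊗ 1` is congruent to some `1 ⊗ s'`. -/
theorem exists_sub_mem_tensor (P : Ideal (D ⊗[A] S)) [hP : P.IsPrime] (d : D) :
    ∃ s' : S, d ⊗ₜ[A] (1 : S) - (1 : D) ⊗ₜ[A] s' ∈ P := by
  have hintAS : Algebra.IsIntegral A S := isIntegral_strictHenselization A S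
  have hflat : Module.Flat A S := (Hzs.faithfullyFlat_of_isStrictHenselization A S).toFlat
  let j₀ : D ⊗[A] S →ₐ[A] S ⊗[A] S := Algebra.TensorProduct.map D.val (AlgHom.id A S)
  have hj₀ : Function.Injective j₀ :=
    Module.Flat.rTensor_preserves_injective_linearMap (M := S) D.val.toLinearMap
      Subtype.val_injective
  let j : D ⊗[A] S →ₐ[A] S ⊗[A] S := (Algebra.TensorProduct.comm A S S).toAlgHom.comp j₀
  have hj : Function.Injective j := (Algebra.TensorProduct.comm A S S).injective.comp hj₀
  have hjt : ∀ (x : D) (s : S), j (x ⊗ₜ[A] s) = s ⊗ₜ[A] (x : S) := fun x s => rfl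
  let _ : Algebra (D ⊗[A] S) (S ⊗[A] S) := j.toRingHom.toAlgebra
  have hjint : Algebra.IsIntegral (D ⊗[A] S) (S ⊗[A] S) := by
    have h1 : (j.toRingHom.comp
        (Algebra.TensorProduct.includeRight : S →ₐ[A] D ⊗[A] S).toRingHom).IsIntegral := by
      have h2 : j.toRingHom.comp
          (Algebra.TensorProduct.includeRight : S →ₐ[A] D ⊗[A] S).toRingHom =
          algebraMap S (S ⊗[A] S) := by
        ext s
        change j ((1 : D) ⊗ₜ[A] s) = _
        rw [hjt, Algebra.TensorProduct.algebraMap_apply, Algebra.algebraMap_self,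
          RingHom.id_apply]
        rfl
      rw [h2]
      exact algebraMap_isIntegral_iff.mpr inferInstance
    exact ⟨RingHom.IsIntegral.tower_top _ _ h1⟩
  obtain ⟨P', -, hP'prime, hP'⟩ := Ideal.exists_ideal_over_prime_of_isIntegral P
    (⊥ : Ideal (S ⊗[A] S)) (by
      intro x hx
      rw [Ideal.mem_comap, Ideal.mem_bot] at hx
      have : x = 0 := hj (hx.trans (map_zero j).symm)
      rw [this]
      exact P.zero_mem)
  obtain ⟨s', hs'⟩ := exists_sub_mem_left A S P' (d : S)
  refine ⟨s', ?_⟩
  rw [← hP', Ideal.mem_comap]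
  change j (d ⊗ₜ[A] (1 : S) - (1 : D) ⊗ₜ[A] s') ∈ P'
  rw [map_sub, hjt, hjt]
  exact hs'

end

section Strict

variable (A S : Type u) [CommRing A] [HenselianLocalRing A] [CommRing S] [IsLocalRing S]
  [Algebra A S] [IsLocalHom (algebraMap A S)] [hS : Hensel.IsStrictHenselization A S]
  (D : Subalgebra A S) [IsLocalRing D] [IsLocalHom (algebraMap D S)]
  (T : Type u) [CommRing T] [IsLocalRing T] [Algebra D T] [IsLocalHom (algebraMap D T)]
  [hT : Hensel.IsStrictHenselization D T] [Algebra A T] [IsScalarTower A D T]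

include hS hT in
/-- A local `A`-algebra map from `S` to a strict henselization of `D`. -/
theorem exists_algHom_to_strict : ∃ g : S →ₐ[A] T, IsLocalHom g := by
  have hTh : HenselianLocalRing T := hT.henselian
  have hscT : IsSepClosed (ResidueField T) := hT.isSepClosure.sep_closed
  have hsepS : Algebra.IsSeparable (ResidueField A) (ResidueField S) := hS.isSepClosure.separable
  have hlocAD : IsLocalHom (algebraMap A D) := ⟨fun a ha => by
    have h1 : IsUnit (algebraMap A S a) := by
      have := ha.map (algebraMap D S)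
      rwa [← IsScalarTower.algebraMap_apply] at this
    exact isUnit_of_map_unit (algebraMap A S) a h1⟩
  have hlocAT : IsLocalHom (algebraMap A T) := by
    rw [IsScalarTower.algebraMap_eq A D T]
    exact RingHom.isLocalHom_comp _ _
  let τ : ResidueField S →ₐ[ResidueField A] ResidueField T := IsSepClosed.lift
  obtain ⟨g, ⟨hg1, hg2⟩, -⟩ := hS.universal T (algebraMap A T)
    (τ : ResidueField S →+* ResidueField T) (Hzs.comp_residueField_map A τ)
  have hgloc : IsLocalHom g := Hzs.isLocalHom_of_residue_compat g _ hg2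
  exact ⟨{ g with commutes' := fun a => RingHom.congr_fun hg1 a },
    ⟨fun a ha => hgloc.map_nonunit a ha⟩⟩

variable (g : S →ₐ[A] T) (hgloc : IsLocalHom g)

include hS hT hgloc in
/-- `D ⊗[A] S → D^sh` is surjective. -/
theorem surjective_lΦ : Function.Surjective (Hzs.lΦ A D S T g) := by
  have hHS : HenselianLocalRing S := hS.henselian
  have hintAD : Algebra.IsIntegral A D := isIntegral_sub A S D
  let _ : Algebra S (D ⊗[A] S) := Algebra.TensorProduct.rightAlgebra
  have hintC : Algebra.IsIntegral S (D ⊗[A] S) := BrnchCount.isIntegral_rightAlgebra A D S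
  have hQle : (maximalIdeal S).map (algebraMap S (D ⊗[A] S)) ≤ Hzs.lQ A D S T g := by
    rw [Ideal.map_le_iff_le_comap]
    intro a ha
    change Hzs.lΦ A D S T g ((1 : D) ⊗ₜ[A] a) ∈ maximalIdeal T
    rw [Algebra.TensorProduct.lift_tmul, map_one, one_mul, mem_maximalIdeal, mem_nonunits_iff]
    intro h
    exact (mem_maximalIdeal _).mp ha (hgloc.map_nonunit a h)
  have hsurjC : Function.Surjective (algebraMap (D ⊗[A] S)
      (Localization.AtPrime (Hzs.lQ A D S T g))) :=
    Hzn.surjective_algebraMap_localization_of_isIntegral S (D ⊗[A] S) _ hQle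
  have hintL : Algebra.IsIntegral S (Localization.AtPrime (Hzs.lQ A D S T g)) :=
    Hzn.isIntegral_localization_of_isIntegral S (D ⊗[A] S) _ hQle
  have hDH : HenselianLocalRing (Localization.AtPrime (Hzs.lQ A D S T g)) :=
    Hzn.henselianLocalRing_of_isIntegral S _
  have hlocD : IsLocalHom (algebraMap S (Localization.AtPrime (Hzs.lQ A D S T g))) :=
    Hzn.isLocalHom_algebraMap_atPrime S _ _ hQle
  have hscR : IsSepClosed (ResidueField S) := hS.isSepClosure.sep_closed
  have hintres := Hzs.isIntegral_residueField_of_isIntegral S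
    (Localization.AtPrime (Hzs.lQ A D S T g))
  have halgres : Algebra.IsAlgebraic (ResidueField S)
      (ResidueField (Localization.AtPrime (Hzs.lQ A D S T g))) :=
    ⟨fun x => (hintres.isIntegral x).isAlgebraic⟩
  have hscD : IsSepClosed (ResidueField (Localization.AtPrime (Hzs.lQ A D S T g))) :=
    Algebra.IsAlgebraic.isSepClosed (F := ResidueField S)
  let _ : Algebra (Localization.AtPrime (Hzs.lQ A D S T g)) T := (Hzs.lψ A D S T g).toAlgebra
  have : IsLocalHom (algebraMap (Localization.AtPrime (Hzs.lQ A D S T g)) T) :=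
    Hzs.isLocalHom_lψ A D S T g
  have : Hensel.IsStrictHenselization (Localization.AtPrime (Hzs.lQ A D S T g)) T :=
    Hzs.isStrictHenselization_local_tensor A D S T g hgloc
  have hbij := Hzn.bijective_algebraMap_of_strictHenselian
    (Localization.AtPrime (Hzs.lQ A D S T g)) T
  intro t
  obtain ⟨ℓ, hℓ⟩ := hbij.2 t
  obtain ⟨c, rfl⟩ := hsurjC ℓ
  refine ⟨c, ?_⟩
  rw [← hℓ]
  exact (Hzs.lψ_algebraMap A D S T g c).symm

include hS hT hgloc in
/-- Modulo any prime of `D^sh`, every element comes from `S`. -/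
theorem exists_sub_mem_of_prime (Q : Ideal T) [hQ : Q.IsPrime] (t : T) :
    ∃ s : S, t - g s ∈ Q := by
  obtain ⟨c, rfl⟩ := surjective_lΦ A S D T g hgloc t
  let P : Ideal (D ⊗[A] S) := Q.comap (Hzs.lΦ A D S T g).toRingHom
  have hPprime : P.IsPrime := Ideal.comap_isPrime _ _
  induction c using TensorProduct.induction_on with
  | zero => exact ⟨0, by rw [map_zero, map_zero, sub_zero]; exact Q.zero_mem⟩
  | tmul d s =>
    obtain ⟨s', hs'⟩ := exists_sub_mem_tensor A S D P d
    have h1 : Hzs.lΦ A D S T g (d ⊗ₜ[A] (1 : S) - (1 : D) ⊗ₜ[A] s') ∈ Q := hs'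
    rw [map_sub, Algebra.TensorProduct.lift_tmul, Algebra.TensorProduct.lift_tmul, map_one,
      map_one, mul_one, one_mul] at h1
    refine ⟨s' * s, ?_⟩
    rw [Algebra.TensorProduct.lift_tmul, map_mul, ← sub_mul]
    exact Ideal.mul_mem_right _ _ h1
  | add x y hx hy =>
    obtain ⟨sx, hsx⟩ := hx
    obtain ⟨sy, hsy⟩ := hy
    refine ⟨sx + sy, ?_⟩
    have : Hzs.lΦ A D S T g (x + y) - g (sx + sy) =
        (Hzs.lΦ A D S T g x - g sx) + (Hzs.lΦ A D S T g y - g sy) := by
      rw [map_add, map_add]; ring
    rw [this]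
    exact Ideal.add_mem _ hsx hsy

include hS hT hgloc in
/-- If a reduced strict henselization of `D` has finitely many minimal primes, it is noetherian
(provided `S` is). -/
theorem isNoetherianRing_of_finite_minimalPrimes [IsNoetherianRing S] [IsReduced T]
    (hfin : (minimalPrimes T).Finite) : IsNoetherianRing T := by
  classical
  let _ : Algebra S T := g.toRingHom.toAlgebra
  have hgalg : ∀ s : S, algebraMap S T s = g s := fun s => rfl
  have hfinite : Finite (minimalPrimes T) := hfin
  let N := ∀ Q : minimalPrimes T, T ⧸ Q.1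
  let f : T →ₗ[S] N := LinearMap.pi fun Q => (Ideal.Quotient.mkₐ S Q.1).toLinearMap
  have hf : Function.Injective f := by
    rw [injective_iff_map_eq_zero]
    intro x hx
    have h1 : x ∈ sInf (minimalPrimes T) := by
      rw [Ideal.mem_sInf]
      intro Q hQ
      have := congrFun hx ⟨Q, hQ⟩
      exact Ideal.Quotient.eq_zero_iff_mem.mp this
    have h3 : sInf (minimalPrimes T) = ⊥ := by
      have : sInf (minimalPrimes T) = (⊥ : Ideal T).radical := Ideal.sInf_minimalPrimes
      rw [this]
      exact nilradical_eq_bot_iff.mpr inferInstance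
    rw [h3] at h1
    exact h1
  have hNQ : ∀ Q : minimalPrimes T, IsNoetherian S (T ⧸ Q.1) := by
    intro Q
    have hQp : Q.1.IsPrime := Q.2.1.1
    let q : S →ₗ[S] T ⧸ Q.1 :=
      (Ideal.Quotient.mkₐ S Q.1).toLinearMap ∘ₗ (Algebra.linearMap S T)
    have hq : Function.Surjective q := by
      intro y
      obtain ⟨t, rfl⟩ := Ideal.Quotient.mk_surjective y
      obtain ⟨s, hs⟩ := exists_sub_mem_of_prime A S D T g hgloc Q.1 t
      refine ⟨s, ?_⟩
      change Ideal.Quotient.mk Q.1 (algebraMap S T s) = Ideal.Quotient.mk Q.1 t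
      rw [hgalg]
      exact (Ideal.Quotient.eq.mpr hs).symm
    exact isNoetherian_of_surjective q (LinearMap.range_eq_top.mpr hq)
  have hN : IsNoetherian S N := isNoetherian_pi
  have hTS : IsNoetherian S T := isNoetherian_of_injective f hf
  exact isNoetherian_of_tower S hTS

end Strict

end Groth.Agent.Lib.Helper4.StrictInt
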