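import Mathlib

/-!
# Translating "separably closed in the residue field" into a `p^n`-power condition
-/

set_option autoImplicit false
set_option linter.unusedSectionVars false
universe u

namespace Groth.Agent.Lib.Helper4.StrictSub

open IsLocalRing

section FieldLemma

variable {R L : Type u} [CommRing R] [IsLocalRing R] [Field L] (f : R →+* L)

/-- An integral map from a local ring to a field kills the maximal ideal. -/
theorem map_eq_zero_of_mem_maximalIdeal (hint : f.IsIntegral) :
    ∀ a ∈ maximalIdeal R, f a = 0 := by
  have hb : (⊥ : Ideal L).IsMaximal := Ideal.bot_isMaximal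
  have hmax : ((⊥ : Ideal L).comap f).IsMaximal :=
    Ideal.isMaximal_comap_of_isIntegral_of_isMaximal' _ hint _
  have := IsLocalRing.eq_maximalIdeal hmax
  intro a ha
  rw [← this] at ha
  exact ha

/-- The subfield generated by the image of an integral map from a local ring is the image. -/
theorem mem_closure_range_iff (hint : f.IsIntegral) (x : L) :
    x ∈ Subfield.closure (Set.range f) ↔ x ∈ f.range := by
  have hker := map_eq_zero_of_mem_maximalIdeal f hint
  let fbar : ResidueField R →+* L := Ideal.Quotient.lift (maximalIdeal R) f hker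
  have hfbar : ∀ a, fbar (residue R a) = f a := fun a => rfl
  have hcl : Subfield.closure (Set.range f) = fbar.fieldRange := by
    apply Subfield.closure_eq_of_le
    · rintro _ ⟨a, rfl⟩
      exact ⟨residue R a, hfbar a⟩
    · rintro _ ⟨y, rfl⟩
      obtain ⟨a, rfl⟩ := residue_surjective y
      exact Subfield.subset_closure ⟨a, (hfbar a).symm⟩
  rw [hcl]
  constructor
  · rintro ⟨y, rfl⟩
    obtain ⟨a, rfl⟩ := residue_surjective y
    exact ⟨a, (hfbar a).symm⟩
  · rintro ⟨a, rfl⟩
    exact ⟨residue R a, hfbar a⟩

/-- The key field-theoretic translation. -/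
theorem separableClosure_eq_bot_iff (hint : f.IsIntegral) (K : Subfield L)
    (hK : ∀ x, x ∈ K ↔ x ∈ f.range) :
    separableClosure K L = ⊥ ↔ ∀ x : L, ∃ n : ℕ, x ^ (ringExpChar L) ^ n ∈ f.range := by
  have halg : Algebra.IsAlgebraic K L := by
    have : Algebra.IsIntegral K L := by
      refine ⟨fun x => ?_⟩
      obtain ⟨p, hp, hpx⟩ := hint x
      let f' : R →+* K := f.codRestrict K.toSubring (fun a => (hK _).mpr ⟨a, rfl⟩)
      refine ⟨p.map f', hp.map _, ?_⟩
      rw [Polynomial.eval₂_map]
      have : (algebraMap K L).comp f' = f := by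
        ext a
        rfl
      rw [this]
      exact hpx
    exact Algebra.IsIntegral.isAlgebraic
  have hexp : ExpChar K (ringExpChar L) :=
    (algebraMap K L).expChar (algebraMap K L).injective _
  rw [separableClosure.eq_bot_iff, isPurelyInseparable_iff_pow_mem K (ringExpChar L)]
  refine forall_congr' fun x => exists_congr fun n => ?_
  rw [← hK]
  constructor
  · rintro ⟨y, hy⟩
    rw [← hy]
    exact y.2
  · intro h
    exact ⟨⟨_, h⟩, rfl⟩

end FieldLemma

section Translate

variable (D : Type u) [CommRing D] [IsLocalRing D]

/-- The condition of the statement on a maximal ideal `M` of the normalization, in the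
`p^n`-power form. -/
theorem separableClosure_residueField_eq_bot_iff
    (M : Ideal (integralClosure D (FractionRing D))) [hM : M.IsMaximal] :
    separableClosure (Subfield.closure (Set.range
        ((algebraMap (integralClosure D (FractionRing D)) M.ResidueField).comp
          (algebraMap D (integralClosure D (FractionRing D)))))) M.ResidueField = ⊥ ↔
      ∀ x : (integralClosure D (FractionRing D)) ⧸ M, ∃ n : ℕ,
        x ^ (ringExpChar ((integralClosure D (FractionRing D)) ⧸ M)) ^ n ∈
          ((Ideal.Quotient.mk M).comp
            (algebraMap D (integralClosure D (FractionRing D)))).range := by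
  let _ : Field ((integralClosure D (FractionRing D)) ⧸ M) := Ideal.Quotient.field M
  obtain ⟨f, hf⟩ : ∃ f : D →+* M.ResidueField,
      f = (algebraMap (integralClosure D (FractionRing D)) M.ResidueField).comp
          (algebraMap D (integralClosure D (FractionRing D))) := ⟨_, rfl⟩
  obtain ⟨g, hg⟩ : ∃ g : D →+* (integralClosure D (FractionRing D)) ⧸ M,
      g = (Ideal.Quotient.mk M).comp (algebraMap D (integralClosure D (FractionRing D))) :=
    ⟨_, rfl⟩
  rw [← hf, ← hg]
  have hint : f.IsIntegral := by
    rw [hf]
    refine RingHom.IsIntegral.trans _ _ ?_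
      (RingHom.isIntegral_of_surjective _ M.algebraMap_residueField_surjective)
    exact Algebra.IsIntegral.isIntegral (R := D) (A := integralClosure D (FractionRing D))
  rw [separableClosure_eq_bot_iff f hint _ (mem_closure_range_iff f hint)]
  -- transport along `D'/M ≃ κ(M)`
  have hbij := M.bijective_algebraMap_quotient_residueField
  obtain ⟨ι, hι⟩ : ∃ ι : (integralClosure D (FractionRing D)) ⧸ M →+* M.ResidueField,
      ι = algebraMap ((integralClosure D (FractionRing D)) ⧸ M) M.ResidueField := ⟨_, rfl⟩
  have hιbij : Function.Bijective ι := by rw [hι]; exact hbij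
  have hfg : ∀ d, f d = ι (g d) := by
    intro d
    rw [hf, hg, hι]
    simp only [RingHom.comp_apply]
    rw [IsScalarTower.algebraMap_apply (integralClosure D (FractionRing D))
      ((integralClosure D (FractionRing D)) ⧸ M) M.ResidueField]
    rfl
  have hexp : ExpChar ((integralClosure D (FractionRing D)) ⧸ M) (ringExpChar M.ResidueField) :=
    ι.expChar hιbij.1 _
  have hp : ringExpChar ((integralClosure D (FractionRing D)) ⧸ M) =
      ringExpChar M.ResidueField := ringExpChar.eq _ _
  rw [hp]
  constructor
  · intro h y
    obtain ⟨n, d, hd⟩ := h (ι y)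
    refine ⟨n, d, ?_⟩
    apply hιbij.1
    rw [← hfg, hd, map_pow]
  · intro h x
    obtain ⟨y, rfl⟩ := hιbij.2 x
    obtain ⟨n, d, hd⟩ := h y
    refine ⟨n, d, ?_⟩
    rw [hfg, hd, map_pow]

end Translate

end Groth.Agent.Lib.Helper4.StrictSub
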