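import Mathlib
import Groth.Prelude.Def_Brnch
import Groth.Agent.Lib.Helper4.StrictCard5
import Groth.Agent.Lib.Helper4.StrictSub3
import Groth.Agent.S9236

/-!
# Finiteness of the set of embeddings versus finiteness of the separable closure
-/

set_option autoImplicit false
set_option linter.unusedSectionVars false
universe u

namespace Groth.Agent.Lib.Helper4.StrictInt

open IsLocalRing Cardinal

section FieldEmb

variable (k K : Type u) [Field k] [Field K] [Algebra k K] [Algebra.IsAlgebraic k K]

theorem finite_emb_iff :
    Finite (Field.Emb k K) ↔ FiniteDimensional k (separableClosure k K) := by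
  constructor
  · exact StrictCard.finiteDimensional_separableClosure_of_finite_emb k K
  · intro h
    have h1 : Module.rank k (separableClosure k K) < ℵ₀ := Module.rank_lt_aleph0_iff.mpr h
    have h1' : Field.sepDegree k K < ℵ₀ := h1
    have h2 := Field.Emb.cardinal_eq (F := k) (E := K)
    dsimp only at h2
    rw [if_neg (not_le.mpr h1')] at h2
    rw [← Cardinal.lt_aleph0_iff_finite, h2]
    exact h1'

end FieldEmb

section Transport

variable (k L : Type u) [Field k] [Field L] [Algebra k L]

/-- Finiteness of the separable closure over `k` and over the image of `k`. -/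
theorem finiteDimensional_separableClosure_iff (K₀ : Subfield L)
    (hK : ∀ x, x ∈ K₀ ↔ x ∈ (algebraMap k L).range) :
    FiniteDimensional k (separableClosure k L) ↔
      FiniteDimensional K₀ (separableClosure K₀ L) := by
  let ι : k →+* K₀ := (algebraMap k L).codRestrict K₀.toSubring (fun c => (hK _).mpr ⟨c, rfl⟩)
  let _ : Algebra k K₀ := ι.toAlgebra
  have htower : IsScalarTower k K₀ L := IsScalarTower.of_algebraMap_eq fun c => rfl
  have hιsurj : Function.Surjective (algebraMap k K₀) := by
    intro y
    obtain ⟨c, hc⟩ := (hK _).mp y.2
    exact ⟨c, Subtype.ext hc⟩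
  have hsep : Algebra.IsSeparable k K₀ := by
    refine ⟨fun y => ?_⟩
    obtain ⟨c, rfl⟩ := hιsurj y
    exact isSeparable_algebraMap c
  have heq := separableClosure.eq_restrictScalars_of_isSeparable k K₀ L
  have hfinK₀ : Module.Finite k K₀ :=
    Module.Finite.of_surjective (Algebra.linearMap k K₀) hιsurj
  constructor
  · intro h
    have h1 : Module.Finite k ((separableClosure K₀ L).restrictScalars k) := by
      rw [← heq]; exact h
    have h2 : Module.Finite k (separableClosure K₀ L) := h1
    exact Module.Finite.of_restrictScalars_finite k K₀ (separableClosure K₀ L)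
  · intro h
    have h2 : Module.Finite k (separableClosure K₀ L) :=
      Module.Finite.trans K₀ (separableClosure K₀ L)
    have h1 : Module.Finite k ((separableClosure K₀ L).restrictScalars k) := h2
    rw [heq]
    exact h1

end Transport

section Local

variable {R L : Type u} [CommRing R] [IsLocalRing R] [Field L] (f : R →+* L)

/-- **Lemma G.** For an integral map `f` from a local ring to a field `L`, the embeddings of `L`
over `R` are finitely many iff the separable closure of the image of `R` in `L` is finite over
it. -/
theorem finite_embSet_iff (hint : f.IsIntegral) :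
    Finite (Groth.Agent.S9236.EmbSet f) ↔
      FiniteDimensional (Subfield.closure (Set.range f))
        (separableClosure (Subfield.closure (Set.range f)) L) := by
  have hker := StrictSub.map_eq_zero_of_mem_maximalIdeal f hint
  let _ : Algebra (ResidueField R) L := (Groth.Agent.S9236.fbar f hker).toAlgebra
  have hintk : Algebra.IsIntegral (ResidueField R) L :=
    ⟨Groth.Agent.S9236.fbar_isIntegral f hker hint⟩
  have halg : Algebra.IsAlgebraic (ResidueField R) L := Algebra.IsIntegral.isAlgebraic
  have e1 := Groth.Agent.S9236.embSetEquiv f hker
  have e2 := Field.embEquivOfIsAlgClosed (ResidueField R) L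
    (AlgebraicClosure (ResidueField R))
  rw [(e1.trans e2.symm).finite_iff, finite_emb_iff]
  refine finiteDimensional_separableClosure_iff (ResidueField R) L _ fun x => ?_
  rw [StrictSub.mem_closure_range_iff f hint]
  constructor
  · rintro ⟨a, rfl⟩
    exact ⟨residue R a, rfl⟩
  · rintro ⟨c, rfl⟩
    obtain ⟨a, rfl⟩ := residue_surjective c
    exact ⟨a, rfl⟩

end Local

end Groth.Agent.Lib.Helper4.StrictInt
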