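import Mathlib
import Groth.Prelude.Def_Brnch
import Groth.Agent.Lib.Helper4.StrictInt4
import Groth.Agent.Lib.Helper4.StrictExt2

/-!
# The finiteness condition on the residue fields of the normalization, in terms of `Brnch.Emb`
-/

set_option autoImplicit false
set_option linter.unusedSectionVars false
universe u

namespace Groth.Agent.Lib.Helper4.StrictInt

open IsLocalRing

section

variable (D : Type u) [CommRing D] [IsLocalRing D] [IsReduced D]

set_option synthInstance.maxHeartbeats 400000 in
set_option maxHeartbeats 2000000 in
theorem finite_emb_iff_of_maximal (M : Ideal (integralClosure D (FractionRing D)))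
    [hM : M.IsMaximal] (m' : MaximalSpectrum (CAlg2.normRed D))
    (hm' : m'.asIdeal = M.map ((StrictExt.normEquiv D :
      integralClosure D (FractionRing D) ≃+* CAlg2.normRed D) :
        integralClosure D (FractionRing D) →+* CAlg2.normRed D)) :
    Finite (Brnch.Emb D m') ↔
      FiniteDimensional (Subfield.closure (Set.range
        ((algebraMap (integralClosure D (FractionRing D)) M.ResidueField).comp
          (algebraMap D (integralClosure D (FractionRing D))))))
        (separableClosure (Subfield.closure (Set.range
          ((algebraMap (integralClosure D (FractionRing D)) M.ResidueField).comp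
            (algebraMap D (integralClosure D (FractionRing D))))))
          M.ResidueField) := by
  have hm'max := m'.isMaximal
  let _ : Field (CAlg2.normRed D ⧸ m'.asIdeal) := Ideal.Quotient.field m'.asIdeal
  obtain ⟨f, hf⟩ : ∃ f : D →+* M.ResidueField,
      f = (algebraMap (integralClosure D (FractionRing D)) M.ResidueField).comp
          (algebraMap D (integralClosure D (FractionRing D))) := ⟨_, rfl⟩
  rw [← hf]
  have hint : f.IsIntegral := by
    rw [hf]
    refine RingHom.IsIntegral.trans _ _ ?_
      (RingHom.isIntegral_of_surjective _ M.algebraMap_residueField_surjective)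
    exact Algebra.IsIntegral.isIntegral (R := D) (A := integralClosure D (FractionRing D))
  rw [← finite_embSet_iff f hint]
  -- the isomorphism of residue fields
  let q₁ : (integralClosure D (FractionRing D)) ⧸ M ≃+* CAlg2.normRed D ⧸ m'.asIdeal :=
    Ideal.quotientEquiv M m'.asIdeal (StrictExt.normEquiv D) hm'
  have hq₁ : ∀ x, q₁ (Ideal.Quotient.mk M x) =
      Ideal.Quotient.mk m'.asIdeal (StrictExt.normEquiv D x) := fun x => rfl
  let q₂ : (integralClosure D (FractionRing D)) ⧸ M ≃+* M.ResidueField :=
    RingEquiv.ofBijective (algebraMap ((integralClosure D (FractionRing D)) ⧸ M) M.ResidueField)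
      M.bijective_algebraMap_quotient_residueField
  let Λ : CAlg2.normRed D ⧸ m'.asIdeal ≃+* M.ResidueField := q₁.symm.trans q₂
  have hΛ : ∀ d : D, Λ (Brnch.toResidue D m' d) = f d := by
    intro d
    have h1 : Brnch.toResidue D m' d =
        q₁ (Ideal.Quotient.mk M (algebraMap D (integralClosure D (FractionRing D)) d)) := by
      rw [hq₁, StrictExt.normEquiv_algebraMap]
      rfl
    rw [h1]
    have hΛdef : ∀ y, Λ y = q₂ (q₁.symm y) := fun y => rfl
    rw [hΛdef, q₁.symm_apply_apply, hf]
    have hq₂ : ∀ x : integralClosure D (FractionRing D),
        q₂ (Ideal.Quotient.mk M x) =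
          algebraMap (integralClosure D (FractionRing D)) M.ResidueField x := fun x => rfl
    rw [hq₂]
    rfl
  have hΛsymm : ∀ d : D, Λ.symm (f d) = Brnch.toResidue D m' d := by
    intro d
    rw [RingEquiv.symm_apply_eq, hΛ]
  let E : Brnch.Emb D m' ≃ Groth.Agent.S9236.EmbSet f :=
    { toFun := fun σ => ⟨σ.1.comp Λ.symm.toRingHom, by
        ext d
        change σ.1 (Λ.symm (f d)) = _
        rw [hΛsymm]
        exact RingHom.congr_fun σ.2 d⟩
      invFun := fun σ' => ⟨σ'.1.comp Λ.toRingHom, by
        ext d
        change σ'.1 (Λ (Brnch.toResidue D m' d)) = _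
        rw [hΛ]
        exact RingHom.congr_fun σ'.2 d⟩
      left_inv := fun σ => by
        apply Subtype.ext
        refine RingHom.ext fun x => ?_
        change σ.1 (Λ.symm (Λ x)) = σ.1 x
        rw [Λ.symm_apply_apply]
      right_inv := fun σ' => by
        apply Subtype.ext
        refine RingHom.ext fun x => ?_
        change σ'.1 (Λ (Λ.symm x)) = σ'.1 x
        rw [Λ.apply_symm_apply] }
  exact E.finite_iff

set_option synthInstance.maxHeartbeats 400000 in
set_option maxHeartbeats 2000000 in
theorem forall_finiteDimensional_iff :
    (∀ (M : Ideal (integralClosure D (FractionRing D))) [M.IsMaximal],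
      FiniteDimensional (Subfield.closure (Set.range
        ((algebraMap (integralClosure D (FractionRing D)) M.ResidueField).comp
          (algebraMap D (integralClosure D (FractionRing D))))))
        (separableClosure (Subfield.closure (Set.range
          ((algebraMap (integralClosure D (FractionRing D)) M.ResidueField).comp
            (algebraMap D (integralClosure D (FractionRing D))))))
          M.ResidueField)) ↔
      ∀ m' : MaximalSpectrum (CAlg2.normRed D), Finite (Brnch.Emb D m') := by
  constructor
  · intro h m'
    have hm'max := m'.isMaximal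
    let e : integralClosure D (FractionRing D) →+* CAlg2.normRed D :=
      ((StrictExt.normEquiv D : integralClosure D (FractionRing D) ≃+* CAlg2.normRed D) :
        integralClosure D (FractionRing D) →+* CAlg2.normRed D)
    have hesurj : Function.Surjective e := (StrictExt.normEquiv D).surjective
    have hMmax : (m'.asIdeal.comap e).IsMaximal := Ideal.comap_isMaximal_of_surjective e hesurj
    have hm' : m'.asIdeal = (m'.asIdeal.comap e).map e :=
      (Ideal.map_comap_of_surjective e hesurj _).symm
    exact (finite_emb_iff_of_maximal D (m'.asIdeal.comap e) m' hm').mpr (h _)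
  · intro h M hM
    let e : integralClosure D (FractionRing D) →+* CAlg2.normRed D :=
      ((StrictExt.normEquiv D : integralClosure D (FractionRing D) ≃+* CAlg2.normRed D) :
        integralClosure D (FractionRing D) →+* CAlg2.normRed D)
    have hebij : Function.Bijective e := (StrictExt.normEquiv D).bijective
    have hmax : (M.map e).IsMaximal := (Ideal.isMaximal_map_iff_of_bijective e hebij).mpr hM
    exact (finite_emb_iff_of_maximal D M ⟨M.map e, hmax⟩ rfl).mp (h _)

end

end Groth.Agent.Lib.Helper4.StrictInt
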