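import Mathlib
import Groth.Prelude.Def_Hensel
import Groth.Prelude.Def_Hens2
import Groth.Agent.Lib.Helper4.IndEtUniq
import Groth.Agent.Lib.Helper4.IndEtHz
import Groth.Agent.Lib.Helper4.HznWE
import Groth.Agent.Lib.Helper4.HzsProps
import Groth.Agent.Lib.Helper12.WEtField

/-!
# Specialization maps between strict localizations of a scheme
-/

set_option autoImplicit false
universe u

namespace Groth.Agent.Lib.Helper4.StrictSpec

open CategoryTheory AlgebraicGeometry IsLocalRing TensorProduct

/-- A ring map from the base of a faithfully flat weakly étale algebra to a separably closed field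
extends to the algebra. -/
theorem exists_ringHom_extending (O R K : Type u) [CommRing O] [CommRing R] [Algebra O R]
    [Field K] [IsSepClosed K] [Algebra.WeaklyEtale O R] [Module.FaithfullyFlat O R]
    (φ : O →+* K) : ∃ v : R →+* K, v.comp (algebraMap O R) = φ := by
  let p : Ideal O := RingHom.ker φ
  have hp : p.IsPrime := RingHom.ker_isPrime φ
  have hunit : p.primeCompl ≤ (IsUnit.submonoid K).comap φ := by
    intro a ha
    change IsUnit (φ a)
    exact isUnit_iff_ne_zero.mpr fun h0 => ha ((RingHom.mem_ker).mpr h0)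
  let ψ : p.ResidueField →+* K := Ideal.ResidueField.lift p φ le_rfl hunit
  have hψ : ∀ a, ψ (algebraMap O p.ResidueField a) = φ a :=
    fun a => Ideal.ResidueField.lift_algebraMap p φ le_rfl hunit a
  have hnt : Nontrivial (p.ResidueField ⊗[O] R) :=
    (Module.FaithfullyFlat.nontrivial_tensorProduct_iff_left O p.ResidueField).mpr inferInstance
  obtain ⟨P, hP⟩ := Ideal.exists_maximal (p.ResidueField ⊗[O] R)
  let _ : Field ((p.ResidueField ⊗[O] R) ⧸ P) := Ideal.Quotient.field P
  have hwe : Algebra.WeaklyEtale p.ResidueField (p.ResidueField ⊗[O] R) := inferInstance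
  have hweL : Algebra.WeaklyEtale p.ResidueField ((p.ResidueField ⊗[O] R) ⧸ P) :=
    Groth.Agent.Lib.Helper12.WEtField.weaklyEtale_quotient P
  have hsep : Algebra.IsSeparable p.ResidueField ((p.ResidueField ⊗[O] R) ⧸ P) :=
    Groth.Agent.Lib.Helper12.WEtField.weaklyEtale_iff_isSeparable.mp hweL
  let _ : Algebra p.ResidueField K := ψ.toAlgebra
  let τ : ((p.ResidueField ⊗[O] R) ⧸ P) →ₐ[p.ResidueField] K := IsSepClosed.lift
  refine ⟨τ.toRingHom.comp ((Ideal.Quotient.mk P).comp
    (Algebra.TensorProduct.includeRight : R →ₐ[O] p.ResidueField ⊗[O] R).toRingHom), ?_⟩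
  ext a
  change τ (Ideal.Quotient.mk P ((1 : p.ResidueField) ⊗ₜ[O] (algebraMap O R a))) = φ a
  have h1 : ((1 : p.ResidueField) ⊗ₜ[O] (algebraMap O R a) : p.ResidueField ⊗[O] R) =
      algebraMap p.ResidueField (p.ResidueField ⊗[O] R) (algebraMap O p.ResidueField a) := by
    rw [Algebra.TensorProduct.algebraMap_apply, Algebra.algebraMap_eq_smul_one a,
      Algebra.algebraMap_eq_smul_one a, Algebra.algebraMap_self, RingHom.id_apply,
      TensorProduct.smul_tmul]
  rw [h1]
  have h2 : Ideal.Quotient.mk P (algebraMap p.ResidueField (p.ResidueField ⊗[O] R)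
      (algebraMap O p.ResidueField a)) =
      algebraMap p.ResidueField ((p.ResidueField ⊗[O] R) ⧸ P) (algebraMap O p.ResidueField a) := rfl
  rw [h2, τ.commutes]
  exact hψ a

section Scheme

variable (X : Scheme.{u}) (x x' : X)
  (R : Type u) [CommRing R] [Algebra (X.presheaf.stalk x) R]

/-- The image of `Spec R ⟶ X` consists of generizations of `x`. -/
theorem specializes_of_specOf (z : Spec (CommRingCat.of R)) : (Hens2.specOf X x R) z ⤳ x := by
  have h1 : (Hens2.specOf X x R) z ∈ Set.range (X.fromSpecStalk x) := by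
    rw [Scheme.Hom.comp_apply]
    exact ⟨_, rfl⟩
  rw [Scheme.range_fromSpecStalk] at h1
  exact h1

/-- The closed point of `Spec T` maps to `x'` under `Spec T ⟶ Spec O_{X,x'} ⟶ X` for a local map. -/
theorem comp_fromSpecStalk_closedPoint (T : Type u) [CommRing T] [IsLocalRing T]
    (β : X.presheaf.stalk x' →+* T) [IsLocalHom β] :
    (Spec.map (CommRingCat.ofHom β) ≫ X.fromSpecStalk x') (closedPoint T) = x' := by
  rw [Scheme.Hom.comp_apply]
  have h1 : (Spec.map (CommRingCat.ofHom β)) (closedPoint T) =
      closedPoint (X.presheaf.stalk x') := by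
    have : IsLocalHom (CommRingCat.ofHom β).hom := ‹IsLocalHom β›
    exact Spec_closedPoint (f := CommRingCat.ofHom β)
  rw [h1]
  exact Scheme.fromSpecStalk_closedPoint

/-- Compatibility with `X` in terms of ring maps. -/
theorem comp_specOf_eq_iff (h : x' ⤳ x) (T : Type u) [CommRing T]
    (β : X.presheaf.stalk x' →+* T) (γ : R →+* T) :
    Spec.map (CommRingCat.ofHom γ) ≫ Hens2.specOf X x R =
        Spec.map (CommRingCat.ofHom β) ≫ X.fromSpecStalk x' ↔
      γ.comp (algebraMap (X.presheaf.stalk x) R) = β.comp (X.presheaf.stalkSpecializes h).hom := by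
  have h1 : Spec.map (CommRingCat.ofHom γ) ≫ Hens2.specOf X x R =
      Spec.map (CommRingCat.ofHom (γ.comp (algebraMap (X.presheaf.stalk x) R))) ≫
        X.fromSpecStalk x := by
    change Spec.map (CommRingCat.ofHom γ) ≫
      Spec.map (CommRingCat.ofHom (algebraMap (X.presheaf.stalk x) R)) ≫ X.fromSpecStalk x = _
    rw [← Category.assoc, ← Spec.map_comp]
    rfl
  have h2 : Spec.map (CommRingCat.ofHom β) ≫ X.fromSpecStalk x' =
      Spec.map (CommRingCat.ofHom (β.comp (X.presheaf.stalkSpecializes h).hom)) ≫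
        X.fromSpecStalk x := by
    rw [← Scheme.SpecMap_stalkSpecializes_fromSpecStalk h, ← Category.assoc, ← Spec.map_comp]
    rfl
  rw [h1, h2, cancel_mono]
  constructor
  · intro h3
    have h4 := Spec.map_injective h3
    exact congrArg (fun f => f.hom) h4
  · intro h3
    rw [h3]

end Scheme

end Groth.Agent.Lib.Helper4.StrictSpec
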