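import Mathlib
import Groth.Prelude.Def_Hensel
import Groth.Agent.Lib.Helper4.HzsNoethSub
import Groth.Agent.Lib.Helper4.TotFracSub
import Groth.Agent.Lib.Helper4.BrnchMin
import Groth.Agent.Lib.Helper4.HznRed

/-!
# A local subalgebra `D` of a strict henselization `S` of `A`: when is `S` a strict
henselization of `D`?
-/

set_option autoImplicit false
set_option linter.unusedSectionVars false
universe u

namespace Groth.Agent.Lib.Helper4.StrictSub

open IsLocalRing Hzs

section

variable (A S : Type u) [CommRing A] [IsLocalRing A] [CommRing S] [IsLocalRing S] [Algebra A S]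
  [IsLocalHom (algebraMap A S)] [hS : Hensel.IsStrictHenselization A S]
  (D : Subalgebra A S) [IsLocalRing D] [IsLocalHom (algebraMap D S)]

/-- The canonical surjection from the strict henselization of `D` onto `S`. -/
theorem exists_surjective_algHom : ∃ φ : Hs D →ₐ[D] S, Function.Surjective φ := by
  have hSh : HenselianLocalRing S := hS.henselian
  have hcS : IsSepClosure (ResidueField A) (ResidueField S) := hS.isSepClosure
  have hlocAD : IsLocalHom (algebraMap A D) := ⟨fun a ha => by
    have h1 : IsUnit (algebraMap A S a) := by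
      have := ha.map (algebraMap D S)
      rwa [← IsScalarTower.algebraMap_apply] at this
    exact isUnit_of_map_unit (algebraMap A S) a h1⟩
  have hTs : Hensel.IsStrictHenselization D (Hs D) := Hs.isStrictHenselization D
  have hTh : HenselianLocalRing (Hs D) := hTs.henselian
  have hcT : IsSepClosure (ResidueField D) (ResidueField (Hs D)) := hTs.isSepClosure
  have hsepS : Algebra.IsSeparable (ResidueField A) (ResidueField S) := hcS.separable
  have hscS : IsSepClosed (ResidueField S) := hcS.sep_closed
  have hcDS : IsSepClosure (ResidueField D) (ResidueField S) :=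
    ⟨hscS, Algebra.isSeparable_tower_top_of_isSeparable (ResidueField A) (ResidueField D)
      (ResidueField S)⟩
  let τ : ResidueField (Hs D) ≃ₐ[ResidueField D] ResidueField S :=
    IsSepClosure.equiv (ResidueField D) (ResidueField (Hs D)) (ResidueField S)
  obtain ⟨φ, ⟨hφ1, hφ2⟩, -⟩ := hTs.universal S (algebraMap D S)
    (τ : ResidueField (Hs D) →+* ResidueField S) (comp_residueField_map D τ.toAlgHom)
  obtain ⟨f, hf⟩ : ∃ f : A →+* Hs D, f = (algebraMap D (Hs D)).comp (algebraMap A D) := ⟨_, rfl⟩
  have hfloc : IsLocalHom f := by rw [hf]; exact RingHom.isLocalHom_comp _ _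
  have hτ' : (τ.symm : ResidueField S →+* ResidueField (Hs D)).comp
      (ResidueField.map (algebraMap A S)) = ResidueField.map f := by
    refine RingHom.ext fun y => ?_
    obtain ⟨a, rfl⟩ := residue_surjective y
    show τ.symm (residue S (algebraMap A S a)) = residue (Hs D) (f a)
    have h1 : residue S (algebraMap A S a) =
        algebraMap (ResidueField D) (ResidueField S) (residue D (algebraMap A D a)) := rfl
    rw [h1, τ.symm.commutes, hf]
    rfl
  obtain ⟨ψ, ⟨hψ1, hψ2⟩, -⟩ := hS.universal (Hs D) f
    (τ.symm : ResidueField S →+* ResidueField (Hs D)) hτ'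
  obtain ⟨u, -, hu⟩ := hS.universal S (algebraMap A S) (RingHom.id _)
    (comp_residueField_map A (AlgHom.id _ _))
  have hφψ : φ.comp ψ = RingHom.id S := by
    rw [hu (φ.comp ψ) ⟨by
        rw [RingHom.comp_assoc, hψ1, hf, ← RingHom.comp_assoc, hφ1]
        rfl, fun x => by
        rw [RingHom.comp_apply, hφ2, hψ2]
        exact τ.apply_symm_apply _⟩,
      hu (RingHom.id S) ⟨RingHom.id_comp _, fun x => rfl⟩]
  have hφψ' : ∀ s : S, φ (ψ s) = s := fun s => RingHom.congr_fun hφψ s
  let φa : Hs D →ₐ[D] S :=
    { φ with commutes' := fun d => RingHom.congr_fun hφ1 d }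
  exact ⟨φa, fun s => ⟨ψ s, hφψ' s⟩⟩

variable [IsNoetherianRing D] [IsReduced D]

/-- If the minimal primes of the strict henselization of `D` are extended from `D`, then any
`D`-algebra map from it to `S ⊇ D` is injective. -/
theorem injective_of_forall_eq_map_comap
    (hext : ∀ Q ∈ minimalPrimes (Hs D),
      Q = Ideal.map (algebraMap D (Hs D)) (Q.comap (algebraMap D (Hs D))))
    (φ : Hs D →ₐ[D] S) : Function.Injective φ := by
  classical
  have hTn : IsNoetherianRing (Hs D) := Hs.isNoetherianRing D
  have hTr : IsReduced (Hs D) := inferInstance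
  have hfinT : (minimalPrimes (Hs D)).Finite := minimalPrimes.finite_of_isNoetherianRing _
  have hfinD : (minimalPrimes D).Finite := minimalPrimes.finite_of_isNoetherianRing _
  rw [injective_iff_map_eq_zero]
  intro x hx
  by_contra hx0
  obtain ⟨Q, hQ, hxQ⟩ : ∃ Q ∈ minimalPrimes (Hs D), x ∉ Q := by
    by_contra hall
    push Not at hall
    have h1 : x ∈ sInf (minimalPrimes (Hs D)) := by
      rw [Ideal.mem_sInf]
      intro Q hQ
      exact hall Q hQ
    have h3 : sInf (minimalPrimes (Hs D)) = ⊥ := by
      have : sInf (minimalPrimes (Hs D)) = (⊥ : Ideal (Hs D)).radical := Ideal.sInf_minimalPrimes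
      rw [this]
      exact nilradical_eq_bot_iff.mpr inferInstance
    rw [h3] at h1
    exact hx0 h1
  have hQp : Q.IsPrime := hQ.1.1
  obtain ⟨I, hI⟩ : ∃ I : Ideal (Hs D), I = RingHom.ker φ.toRingHom := ⟨_, rfl⟩
  have hImem : ∀ y, y ∈ I ↔ φ y = 0 := fun y => by rw [hI, RingHom.mem_ker]; rfl
  have hnot : ∀ Q' ∈ minimalPrimes (Hs D), ¬ (I ⊔ Q ≤ Q') := by
    intro Q' hQ' hle
    by_cases h : Q' = Q
    · subst h
      exact hxQ (hle (Ideal.mem_sup_left ((hImem x).mpr hx)))
    · have h1 : Q ≤ Q' := le_sup_right.trans hle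
      exact h (le_antisymm (hQ'.2 ⟨hQp, bot_le⟩ h1) h1)
  obtain ⟨u, hu, huI⟩ := TotFrac.exists_nonZeroDivisor_mem hfinT (I ⊔ Q) hnot
  obtain ⟨i, hi, z, hz, rfl⟩ := Submodule.mem_sup.mp huI
  obtain ⟨a, ha, w, -, hw⟩ := TotFrac.exists_mul_eq_algebraMap_of_subalgebra D (Hs D) hfinD ⊤
    (i + z) trivial (fun y _ hy => (mem_nonZeroDivisors_iff_left.mp hu) y hy)
  have h1 : φ z * φ w = algebraMap D S a := by
    have := congrArg φ hw
    rw [map_mul, map_add, (hImem i).mp hi, zero_add, φ.commutes] at this
    exact this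
  obtain ⟨q, hq⟩ : ∃ q : Ideal D, q = Q.comap (algebraMap D (Hs D)) := ⟨_, rfl⟩
  have hqmin : q ∈ minimalPrimes D := by
    rw [hq]
    exact BrnchMin.comap_mem_minimalPrimes_of_flat hQ
  have hQq : Q = q.map (algebraMap D (Hs D)) := by rw [hq]; exact hext Q hQ
  have hz' : φ z ∈ q.map (algebraMap D S) := by
    have hle : Q.map φ.toRingHom ≤ q.map (algebraMap D S) := by
      rw [hQq, Ideal.map_map]
      apply le_of_eq
      congr 1
      ext d
      exact φ.commutes d
    exact hle (Ideal.mem_map_of_mem _ hz)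
  obtain ⟨P, hP, hPq⟩ := Ideal.exists_comap_eq_of_mem_minimalPrimes_of_injective
    (f := algebraMap D S) Subtype.val_injective q hqmin
  have ha' : a ∈ q := by
    rw [← hPq, Ideal.mem_comap, ← h1]
    exact Ideal.mul_mem_right _ _ (Ideal.map_le_iff_le_comap.mpr (le_of_eq hPq.symm) hz')
  exact (TotFrac.mem_nonZeroDivisors_iff_forall_minimalPrimes a).mp ha q hqmin ha'

/-- If the minimal primes of the strict henselization of `D` are extended from `D`, then `S` is
a strict henselization of `D`. -/
theorem isStrictHenselization_sub_of_forall_eq_map_comap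
    (hext : ∀ Q ∈ minimalPrimes (Hs D),
      Q = Ideal.map (algebraMap D (Hs D)) (Q.comap (algebraMap D (Hs D)))) :
    Hensel.IsStrictHenselization D S := by
  obtain ⟨φ, hφ⟩ := exists_surjective_algHom A S D
  have hinj := injective_of_forall_eq_map_comap A S D hext φ
  exact isStrictHenselization_of_algEquiv (AlgEquiv.ofBijective φ ⟨hinj, hφ⟩)

end

end Groth.Agent.Lib.Helper4.StrictSub
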