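import Mathlib
import Groth.Prelude.Def_Hensel
import Groth.Agent.Lib.Helper4.StrictSub1
import Groth.Agent.Lib.Helper4.StrictSub2
import Groth.Agent.Lib.Helper4.HzsSub2
import Groth.Agent.Lib.Helper4.HzsProps
import Groth.Agent.Lib.Helper4.EssEtale
import Groth.Agent.Lib.Helper4.FEtGal

/-!
# Finite subalgebras `D` of a strict henselization `S` of `A` for which `S` is a strict
henselization of `D` are étale
-/

set_option autoImplicit false
set_option linter.unusedSectionVars false
universe u

namespace Groth.Agent.Lib.Helper4.StrictSub

open IsLocalRing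

section

variable (A S : Type u) [CommRing A] [IsLocalRing A] [CommRing S] [IsLocalRing S] [Algebra A S]
  [IsLocalHom (algebraMap A S)] [hS : Hensel.IsStrictHenselization A S]
  (D : Subalgebra A S) [IsLocalRing D] [IsLocalHom (algebraMap D S)]
  [hDS : Hensel.IsStrictHenselization D S]

theorem map_maximalIdeal_sub :
    (maximalIdeal A).map (algebraMap A D) = maximalIdeal D := by
  have hff : Module.FaithfullyFlat D S := Hzs.faithfullyFlat_of_isStrictHenselization D S
  have h1 : ((maximalIdeal A).map (algebraMap A D)).map (algebraMap D S) = maximalIdeal S := by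
    rw [Ideal.map_map, ← IsScalarTower.algebraMap_eq]
    exact Hzs.map_maximalIdeal_of_isStrictHenselization A S
  have h2 := Ideal.comap_map_eq_self_of_faithfullyFlat (B := S)
    ((maximalIdeal A).map (algebraMap A D))
  rw [h1] at h2
  rw [← h2]
  exact IsLocalRing.maximalIdeal_comap (algebraMap D S)

theorem etale_sub [IsNoetherianRing A] [Module.Finite A D] : Algebra.Etale A D := by
  have hm := map_maximalIdeal_sub A S D
  have hE : EGA4loc.IsEssentiallyEtale A D :=
    Hzs.essEtale_of_essFiniteType_of_map_maximalIdeal A S D hm
  have hFE : Algebra.FormallyEtale A D := EssEtale.formallyEtale hE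
  have hFP : Algebra.FinitePresentation A D :=
    Algebra.FinitePresentation.of_finiteType.mp inferInstance
  exact ⟨hFE, hFP⟩

end

end Groth.Agent.Lib.Helper4.StrictSub
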