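import Mathlib
import Groth.Agent.Lib.Helper4.HznWE
import Groth.Agent.Lib.Helper4.HzsProps
import Groth.Agent.Lib.Helper4.HzsNoethSub
import Groth.Agent.Lib.Helper4.Ol4
import Groth.Agent.S7127
import Groth.Agent.S1996

/-!
# Strict henselizations along weakly étale local homomorphisms
-/

set_option autoImplicit false
set_option linter.style.haveILetI false
set_option linter.unusedSectionVars false
universe u

namespace Groth.Agent.Lib.Helper4.StrictWE

open IsLocalRing Groth.Agent.Lib.Helper4

/-- If `A → B` is a weakly étale local homomorphism of local rings and `R` is a strict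
henselization of `B`, then `R` is a strict henselization of `A`. -/
theorem strict_of_weaklyEtale (A B R : Type u) [CommRing A] [IsLocalRing A] [CommRing B]
    [IsLocalRing B] [CommRing R] [IsLocalRing R] [Algebra A B] [IsLocalHom (algebraMap A B)]
    [Algebra.WeaklyEtale A B] [Algebra B R] [IsLocalHom (algebraMap B R)]
    [hR : Hensel.IsStrictHenselization B R] [Algebra A R] [IsScalarTower A B R] :
    ∃ _ : IsLocalHom (algebraMap A R), Hensel.IsStrictHenselization A R := by
  have hloc : IsLocalHom (algebraMap A R) := by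
    rw [IsScalarTower.algebraMap_eq A B R]
    exact RingHom.isLocalHom_comp _ _
  refine ⟨hloc, ?_⟩
  haveI hH : HenselianLocalRing R := hR.henselian
  haveI hsc : IsSepClosed (ResidueField R) := hR.isSepClosure.sep_closed
  haveI hsep : Algebra.IsSeparable (ResidueField A) (ResidueField (Hzs.Hs A)) :=
    (Hzs.Hs.isSepClosure A).separable
  let τ : ResidueField (Hzs.Hs A) →ₐ[ResidueField A] ResidueField R := IsSepClosed.lift
  have hτ : ∀ r : A, τ.toRingHom (residue (Hzs.Hs A) (algebraMap A (Hzs.Hs A) r))
      = residue R (algebraMap A R r) := by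
    intro r
    exact τ.commutes (residue A r)
  obtain ⟨g, hg, -⟩ := Hzs.Hs.universal A R τ.toRingHom hτ
  letI algSR : Algebra (Hzs.Hs A) R := g.toRingHom.toAlgebra
  haveI tower := IsScalarTower.of_algebraMap_eq (R := A) (S := Hzs.Hs A) (A := R)
    (fun x => (g.commutes x).symm)
  haveI hglocal : IsLocalHom (algebraMap (Hzs.Hs A) R) := by
    constructor
    intro x hx
    have h1 : residue R (g x) ≠ 0 := by
      intro h0
      exact ((IsLocalRing.residue_eq_zero_iff _).mp h0) hx
    rw [hg x] at h1
    by_contra hnu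
    apply h1
    have : residue (Hzs.Hs A) x = 0 := (IsLocalRing.residue_eq_zero_iff _).mpr hnu
    show τ (residue (Hzs.Hs A) x) = 0
    rw [this, map_zero]
  haveI w1 : Algebra.WeaklyEtale A (Hzs.Hs A) :=
    IndEt.weaklyEtale_of_isStrictHenselization A (Hzs.Hs A)
  haveI w2 : Algebra.WeaklyEtale B R := IndEt.weaklyEtale_of_isStrictHenselization B R
  haveI w3 : Algebra.WeaklyEtale A R := Algebra.WeaklyEtale.trans A B R
  haveI w4 : Algebra.WeaklyEtale (Hzs.Hs A) R := Groth.Agent.S7127.result A (Hzs.Hs A) R
  haveI hHs : HenselianLocalRing (Hzs.Hs A) := Hzs.Hs.henselian A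
  haveI hscs : IsSepClosed (ResidueField (Hzs.Hs A)) := (Hzs.Hs.isSepClosure A).sep_closed
  have hbij : Function.Bijective (algebraMap (Hzs.Hs A) R) := Ol.olivier
  let e : Hzs.Hs A ≃ₐ[A] R := AlgEquiv.ofBijective g hbij
  exact Hzs.isStrictHenselization_of_algEquiv e

end Groth.Agent.Lib.Helper4.StrictWE
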