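import Mathlib
import Groth.Agent.Lib.Helper4.NC8

/-!
# Lifting a finite stalk to sections over an étale neighbourhood (helper4)
-/

set_option linter.style.haveILetI false
set_option linter.unusedSectionVars false
set_option autoImplicit false
open CategoryTheory CategoryTheory.Limits AlgebraicGeometry Opposite
universe u

namespace Groth.Agent.Lib.Helper4.TI

open Groth.Agent.Lib.Helper4.NC

variable (Λ : Type (u + 1)) [CommRing Λ] {X : Scheme.{u}} {Ω : Type u} [Field Ω] [IsSepClosed Ω]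
  (ξ : Spec (CommRingCat.of Ω) ⟶ X)

/-- Two étale neighbourhoods of a geometric point have a common refinement. -/
lemma exists_common_nbhd (W₁ W₂ : X.Etale) (x₁ : (Scheme.pointSmallEtale ξ).fiber.obj W₁)
    (x₂ : (Scheme.pointSmallEtale ξ).fiber.obj W₂) :
    ∃ (W : X.Etale) (x : (Scheme.pointSmallEtale ξ).fiber.obj W) (f₁ : W ⟶ W₁) (f₂ : W ⟶ W₂),
      (Scheme.pointSmallEtale ξ).fiber.map f₁ x = x₁ ∧
        (Scheme.pointSmallEtale ξ).fiber.map f₂ x = x₂ := by
  let e₁ : (Scheme.pointSmallEtale ξ).fiber.Elements := ⟨W₁, x₁⟩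
  let e₂ : (Scheme.pointSmallEtale ξ).fiber.Elements := ⟨W₂, x₂⟩
  exact ⟨(IsCofiltered.min e₁ e₂).1, (IsCofiltered.min e₁ e₂).2,
    (IsCofiltered.minToLeft e₁ e₂).1, (IsCofiltered.minToRight e₁ e₂).1,
    (IsCofiltered.minToLeft e₁ e₂).2, (IsCofiltered.minToRight e₁ e₂).2⟩

/-- The germ map as a linear map. -/
noncomputable def germL (G : EtModW.Mod Λ X) (W : X.Etale)
    (x : (Scheme.pointSmallEtale ξ).fiber.obj W) :
    G.obj.obj (op W) →ₗ[Λ] (EtModW.stalk Λ ξ).obj G :=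
  ((Scheme.pointSmallEtale ξ).toPresheafFiber W x G.obj).hom

lemma germL_apply (G : EtModW.Mod Λ X) (W : X.Etale)
    (x : (Scheme.pointSmallEtale ξ).fiber.obj W) (s : G.obj.obj (op W)) :
    germL Λ ξ G W x s = germ Λ ξ G W x s := rfl

/-- Finitely many elements of a stalk are germs of sections over a common neighbourhood. -/
lemma exists_germ_fin (G : EtModW.Mod Λ X) :
    ∀ (r : ℕ) (τ : Fin r → (EtModW.stalk Λ ξ).obj G),
      ∃ (W : X.Etale) (x : (Scheme.pointSmallEtale ξ).fiber.obj W) (s : Fin r → G.obj.obj (op W)),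
        ∀ j, germ Λ ξ G W x (s j) = τ j := by
  intro r
  induction r with
  | zero =>
    intro τ
    exact ⟨EtCoh.top X, topPt ξ, fun j => j.elim0, fun j => j.elim0⟩
  | succ r ih =>
    intro τ
    obtain ⟨W₁, x₁, s₁, h₁⟩ := ih (fun j => τ j.succ)
    obtain ⟨W₂, x₂, s₂, h₂⟩ := exists_germ Λ ξ G (τ 0)
    obtain ⟨W, x, f₁, f₂, hf₁, hf₂⟩ := exists_common_nbhd ξ W₁ W₂ x₁ x₂
    refine ⟨W, x, Fin.cons ((G.obj.map f₂.op).hom s₂) (fun j => (G.obj.map f₁.op).hom (s₁ j)), ?_⟩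
    intro j
    refine Fin.cases ?_ (fun j => ?_) j
    · rw [Fin.cons_zero, germ_map, hf₂, h₂]
    · rw [Fin.cons_succ, germ_map, hf₁, h₁]

/-- Finitely many sections with vanishing germs vanish on a common smaller neighbourhood. -/
lemma exists_nbhd_vanish_fin (G : EtModW.Mod Λ X) :
    ∀ (t : ℕ) (W : X.Etale) (x : (Scheme.pointSmallEtale ξ).fiber.obj W)
      (a : Fin t → G.obj.obj (op W)), (∀ l, germ Λ ξ G W x (a l) = 0) →
      ∃ (Y : X.Etale) (f : Y ⟶ W) (y : (Scheme.pointSmallEtale ξ).fiber.obj Y),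
        (Scheme.pointSmallEtale ξ).fiber.map f y = x ∧ ∀ l, (G.obj.map f.op).hom (a l) = 0 := by
  intro t
  induction t with
  | zero =>
    intro W x a _
    exact ⟨W, 𝟙 W, x, by simp, fun l => l.elim0⟩
  | succ t ih =>
    intro W x a ha
    have h0 : germ Λ ξ G W x (a 0) = germ Λ ξ G W x 0 := by
      rw [ha 0]
      exact (map_zero (germL Λ ξ G W x)).symm
    obtain ⟨Y₂, f₂, y₂, hy₂, h₂⟩ := (germ_eq_iff Λ ξ G W x (a 0) 0).1 h0
    rw [map_zero] at h₂
    obtain ⟨Y, f, y, hy, h⟩ := ih Y₂ y₂ (fun l => (G.obj.map f₂.op).hom (a l.succ)) (fun l => by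
      rw [germ_map, hy₂]
      exact ha l.succ)
    refine ⟨Y, f ≫ f₂, y, ?_, ?_⟩
    · rw [Functor.map_comp]
      show (Scheme.pointSmallEtale ξ).fiber.map f₂ ((Scheme.pointSmallEtale ξ).fiber.map f y) = x
      rw [hy, hy₂]
    · intro l
      rw [op_comp, Functor.map_comp]
      show (G.obj.map f.op).hom ((G.obj.map f₂.op).hom (a l)) = 0
      refine Fin.cases ?_ (fun l => ?_) l
      · rw [h₂, map_zero]
      · exact h l

/-- A finite stalk (over a Noetherian ring) lifts linearly to sections over an étale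
neighbourhood. -/
theorem exists_section_lift [IsNoetherianRing Λ] (G : EtModW.Mod Λ X)
    [Module.Finite Λ ((EtModW.stalk Λ ξ).obj G)] :
    ∃ (W : X.Etale) (x : (Scheme.pointSmallEtale ξ).fiber.obj W)
      (θ : (EtModW.stalk Λ ξ).obj G →ₗ[Λ] G.obj.obj (op W)),
      ∀ m, germ Λ ξ G W x (θ m) = m := by
  obtain ⟨r, τ, hτ⟩ := Module.Finite.exists_fin (R := Λ) (M := (EtModW.stalk Λ ξ).obj G)
  obtain ⟨W, x, s, hs⟩ := exists_germ_fin Λ ξ G r τ
  let π : (Fin r → Λ) →ₗ[Λ] (EtModW.stalk Λ ξ).obj G := Fintype.linearCombination Λ τ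
  let σ : (Fin r → Λ) →ₗ[Λ] G.obj.obj (op W) := Fintype.linearCombination Λ s
  have hπ : Function.Surjective π := by
    rw [← LinearMap.range_eq_top, Fintype.range_linearCombination, hτ]
  have hσ : germL Λ ξ G W x ∘ₗ σ = π := by
    apply LinearMap.ext
    intro c
    simp only [LinearMap.comp_apply, σ, π, Fintype.linearCombination_apply, map_sum, map_smul]
    refine Finset.sum_congr rfl (fun j _ => ?_)
    rw [germL_apply, hs]
  have hfg : (LinearMap.ker π).FG := IsNoetherian.noetherian _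
  obtain ⟨t, k, hk⟩ := Submodule.fg_iff_exists_fin_generating_family.1 hfg
  obtain ⟨Y, f, y, hy, hY⟩ := exists_nbhd_vanish_fin Λ ξ G t W x (fun l => σ (k l)) (fun l => by
    have h1 : k l ∈ LinearMap.ker π := by
      rw [← hk]
      exact Submodule.subset_span ⟨l, rfl⟩
    have h2 : π (k l) = 0 := h1
    rw [← hσ] at h2
    exact h2)
  let σ' : (Fin r → Λ) →ₗ[Λ] G.obj.obj (op Y) := (G.obj.map f.op).hom ∘ₗ σ
  have hle : LinearMap.ker π ≤ LinearMap.ker σ' := by
    rw [← hk, Submodule.span_le]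
    rintro _ ⟨l, rfl⟩
    exact hY l
  let θ : (EtModW.stalk Λ ξ).obj G →ₗ[Λ] G.obj.obj (op Y) :=
    (LinearMap.ker π).liftQ σ' hle ∘ₗ (π.quotKerEquivOfSurjective hπ).symm.toLinearMap
  refine ⟨Y, y, θ, fun m => ?_⟩
  obtain ⟨c, rfl⟩ := hπ m
  have h1 : (π.quotKerEquivOfSurjective hπ).symm (π c) = Submodule.Quotient.mk c := by
    rw [LinearEquiv.symm_apply_eq]
    rfl
  have h2 : θ (π c) = σ' c := by
    show (LinearMap.ker π).liftQ σ' hle ((π.quotKerEquivOfSurjective hπ).symm (π c)) = σ' c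
    rw [h1]
    rfl
  rw [h2]
  show germ Λ ξ G Y y ((G.obj.map f.op).hom (σ c)) = π c
  rw [germ_map, hy, ← hσ]
  rfl

end Groth.Agent.Lib.Helper4.TI
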