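import Mathlib
import Groth.Agent.Lib.Helper4.TI1
import Groth.Agent.Lib.Helper4.GR2
import Groth.Agent.Lib.Helper4.ST3

/-!
# The morphism from a constant sheaf given by sections over an étale scheme, and its stalk
(helper4)
-/

set_option linter.style.haveILetI false
set_option linter.unusedSectionVars false
set_option autoImplicit false
open CategoryTheory CategoryTheory.Limits AlgebraicGeometry Opposite
universe u

namespace Groth.Agent.Lib.Helper4.TI

open Groth.Agent.Lib.Helper4.NC Groth.Agent.Lib.Helper4.CM Groth.Agent.Lib.Helper4.GR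
  Groth.Agent.Lib.Helper22.EtLoc Groth.Agent.Lib.Helper22.EtLoc.OverSite

variable (Λ : Type (u + 1)) [CommRing Λ] {X : Scheme.{u}} (W : X.Etale)

/-- The structure morphism of an étale `W`-scheme, as a morphism of étale `X`-schemes. -/
noncomputable def cW (A : (W.left).Etale) : (pj W.hom).obj A ⟶ W :=
  MorphismProperty.Over.homMk A.hom rfl trivial

lemma pj_map_cW {A B : (W.left).Etale} (f : A ⟶ B) : (pj W.hom).map f ≫ cW W B = cW W A := by
  apply MorphismProperty.Over.Hom.ext
  exact Over.w f.hom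

variable (G : EtModW.Mod Λ X) {N : ModuleCat.{u + 1} Λ} (θ : N ⟶ G.obj.obj (op W))

/-- The morphism of presheaves on `W` from the constant presheaf given by sections over `W`. -/
noncomputable def preOfW : cstP N ⟶ ((resM Λ W.hom).obj G).obj where
  app A := θ ≫ G.obj.map (cW W A.unop).op
  naturality A B f := by
    change 𝟙 N ≫ θ ≫ G.obj.map (cW W B.unop).op =
      (θ ≫ G.obj.map (cW W A.unop).op) ≫ G.obj.map ((pj W.hom).map f.unop).op
    rw [Category.id_comp, Category.assoc, ← Functor.map_comp, ← op_comp, pj_map_cW]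

/-- The morphism from the constant sheaf on `W` to the restriction of `G` given by sections
over `W`. -/
noncomputable def phiW : KX Λ W.left N ⟶ (resM Λ W.hom).obj G :=
  ofPre (W.left).smallEtaleTopology (N := N) (G := (resM Λ W.hom).obj G) (preOfW Λ W G θ)

lemma phiW_cst (A : (W.left).Etale) (n : N) :
    ((phiW Λ W G θ).hom.app (op A)).hom ((cst (W.left).smallEtaleTopology N A).hom n) =
      (G.obj.map (cW W A).op).hom (θ.hom n) :=
  ofPre_cst (W.left).smallEtaleTopology (N := N) (G := (resM Λ W.hom).obj G) (preOfW Λ W G θ) A n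

variable {Ω : Type u} [Field Ω] [IsSepClosed Ω] (ξ : Spec (CommRingCat.of Ω) ⟶ X)
  (ζ : Spec (CommRingCat.of Ω) ⟶ W.left) (hζ : ζ ≫ W.hom = ξ)

/-- The lift `ζ` as a point of the fibre of `W`. -/
noncomputable def ptW : (Scheme.pointSmallEtale ξ).fiber.obj W :=
  Over.homMk ζ hζ

/-- If the germs of the given sections exhaust the stalk of `G`, then the stalk of `phiW` is
surjective. -/
theorem stalk_phiW_surjective
    (hθ : ∀ m : (EtModW.stalk Λ ξ).obj G, ∃ n : N, germ Λ ξ G W (ptW W ξ ζ hζ) (θ.hom n) = m) :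
    Function.Surjective ((EtModW.stalk Λ ζ).map (phiW Λ W G θ)).hom := by
  intro τ
  obtain ⟨A, a, s, rfl⟩ := exists_germ Λ ζ ((resM Λ W.hom).obj G) τ
  have ha : a.left ≫ A.hom = ζ := Over.w a
  -- the lift `a` as a point of the fibre of `pj A`
  let a' : (Scheme.pointSmallEtale ξ).fiber.obj ((pj W.hom).obj A) :=
    Over.homMk a.left (by
      change a.left ≫ A.hom ≫ W.hom = ξ
      exact (Category.assoc _ _ _).symm.trans ((congrArg (· ≫ W.hom) ha).trans hζ))
  have ha' : (Scheme.pointSmallEtale ξ).fiber.map (cW W A) a' = ptW W ξ ζ hζ := by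
    apply Over.OverMorphism.ext
    exact ha
  let s₀ : G.obj.obj (op ((pj W.hom).obj A)) := s
  obtain ⟨n, hn⟩ := hθ (germ Λ ξ G ((pj W.hom).obj A) a' s₀)
  let s' : G.obj.obj (op ((pj W.hom).obj A)) := (G.obj.map (cW W A).op).hom (θ.hom n)
  have hgerm : germ Λ ξ G ((pj W.hom).obj A) a' s₀ =
      germ Λ ξ G ((pj W.hom).obj A) a' s' := by
    rw [← hn, germ_map, ha']
  obtain ⟨B, f, b, hb, hB⟩ := (germ_eq_iff Λ ξ G _ a' s₀ s').1 hgerm
  let g : B.left ⟶ A.left := f.left
  have hgE : Etale g := inferInstanceAs (Etale f.left)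
  have hAE : Etale A.hom := A.prop
  have hb1 : b.left ≫ g = a.left := congrArg (fun φ => φ.left) hb
  have hfw : g ≫ A.hom ≫ W.hom = B.hom := Over.w f.hom
  let B' : (W.left).Etale := Scheme.Etale.mk (g ≫ A.hom)
  let f' : B' ⟶ A := MorphismProperty.Over.homMk g rfl trivial
  let b' : (Scheme.pointSmallEtale ζ).fiber.obj B' := Over.homMk b.left (by
    change b.left ≫ g ≫ A.hom = ζ
    exact (Category.assoc _ _ _).symm.trans ((congrArg (· ≫ A.hom) hb1).trans ha))
  have hb' : (Scheme.pointSmallEtale ζ).fiber.map f' b' = a := by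
    apply Over.OverMorphism.ext
    exact hb1
  let κ : (pj W.hom).obj B' ⟶ B := MorphismProperty.Over.homMk (𝟙 _) (by
    change 𝟙 _ ≫ B.hom = (g ≫ A.hom) ≫ W.hom
    rw [Category.id_comp, Category.assoc, hfw]) trivial
  have hκ : (pj W.hom).map f' = κ ≫ f := by
    apply MorphismProperty.Over.Hom.ext
    exact (Category.id_comp _).symm
  have hres : (((resM Λ W.hom).obj G).obj.map f'.op).hom s =
      (((resM Λ W.hom).obj G).obj.map f'.op).hom s' := by
    change (G.obj.map ((pj W.hom).map f').op).hom s₀ = (G.obj.map ((pj W.hom).map f').op).hom s'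
    rw [hκ, op_comp, Functor.map_comp]
    change (G.obj.map κ.op).hom ((G.obj.map f.op).hom s₀) =
      (G.obj.map κ.op).hom ((G.obj.map f.op).hom s')
    rw [hB]
  refine ⟨germ Λ ζ (KX Λ W.left N) A a ((cst (W.left).smallEtaleTopology N A).hom n), ?_⟩
  rw [stalk_map_germ, phiW_cst]
  exact ((germ_eq_iff Λ ζ ((resM Λ W.hom).obj G) A a s s').2 ⟨B', f', b', hb', hres⟩).symm

end Groth.Agent.Lib.Helper4.TI
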