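import Mathlib
import Groth.Agent.Lib.Helper4.TI2

/-!
# The stalk of the morphism from a constant sheaf given by a section lift is invertible (helper4)
-/

set_option linter.style.haveILetI false
set_option linter.unusedSectionVars false
set_option autoImplicit false
open CategoryTheory CategoryTheory.Limits AlgebraicGeometry Opposite
universe u

namespace Groth.Agent.Lib.Helper4.TI

open Groth.Agent.Lib.Helper4.NC Groth.Agent.Lib.Helper4.CM Groth.Agent.Lib.Helper4.GR
  Groth.Agent.Lib.Helper4.ST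
  Groth.Agent.Lib.Helper22.EtLoc Groth.Agent.Lib.Helper22.EtLoc.OverSite

variable (Λ : Type (u + 1)) [CommRing Λ] {X : Scheme.{u}}

/-- Stalk functors at equal geometric points. -/
noncomputable def stalkCongr {Ω : Type u} [Field Ω] [IsSepClosed Ω]
    {ξ ξ' : Spec (CommRingCat.of Ω) ⟶ X} (h : ξ = ξ') :
    EtModW.stalk Λ ξ ≅ EtModW.stalk Λ ξ' := by
  subst h
  exact Iso.refl _

variable (W : X.Etale) (G : EtModW.Mod Λ X)
  {Ω : Type u} [Field Ω] [IsSepClosed Ω] (ξ : Spec (CommRingCat.of Ω) ⟶ X)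
  (ζ : Spec (CommRingCat.of Ω) ⟶ W.left) (hζ : ζ ≫ W.hom = ξ)

/-- The stalk of the restriction of `G` to `W` is the stalk of `G`. -/
noncomputable def stalkResIso :
    (EtModW.stalk Λ ζ).obj ((resM Λ W.hom).obj G) ≅ (EtModW.stalk Λ ξ).obj G :=
  (EtModW.stalk Λ ζ).mapIso ((pullIsoResM Λ W.hom).app G).symm ≪≫
    (stalkPullIsoM Λ W.hom ζ).app G ≪≫ (stalkCongr Λ hζ).app G

/-- The morphism from the constant sheaf on the stalk, given by a linear lift of the (finite)
stalk to sections over `W`, induces an isomorphism on stalks. -/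
theorem isIso_stalk_phiW [Module.Finite Λ ((EtModW.stalk Λ ξ).obj G)]
    (θ : (EtModW.stalk Λ ξ).obj G ⟶ G.obj.obj (op W))
    (hθ : ∀ m : (EtModW.stalk Λ ξ).obj G, germ Λ ξ G W (ptW W ξ ζ hζ) (θ.hom m) = m) :
    IsIso ((EtModW.stalk Λ ζ).map (phiW Λ W G θ)) := by
  have hsurj := stalk_phiW_surjective Λ W G θ ξ ζ hζ (fun m => ⟨m, hθ m⟩)
  let e₁ := stalkConstIsoM Λ ζ ((EtModW.stalk Λ ξ).obj G)
  let e₂ := stalkResIso Λ W G ξ ζ hζ
  let g : (EtModW.stalk Λ ξ).obj G ⟶ (EtModW.stalk Λ ξ).obj G :=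
    e₁.inv ≫ (EtModW.stalk Λ ζ).map (phiW Λ W G θ) ≫ e₂.hom
  have hg : Function.Surjective g.hom := by
    have h1 : Function.Surjective e₁.inv.hom :=
      ((ConcreteCategory.isIso_iff_bijective e₁.inv).1 inferInstance).2
    have h2 : Function.Surjective e₂.hom.hom :=
      ((ConcreteCategory.isIso_iff_bijective e₂.hom).1 inferInstance).2
    exact h2.comp (hsurj.comp h1)
  have hgb : Function.Bijective g.hom := OrzechProperty.bijective_of_surjective_endomorphism _ hg
  have hgi : IsIso g := (ConcreteCategory.isIso_iff_bijective g).2 hgb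
  have h3 : (EtModW.stalk Λ ζ).map (phiW Λ W G θ) = e₁.hom ≫ g ≫ e₂.inv := by
    simp [g]
  rw [h3]
  infer_instance

end Groth.Agent.Lib.Helper4.TI
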