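import Mathlib
import Groth.Agent.Lib.Helper4.TI3
import Groth.Agent.Lib.Helper4.ST4
import Groth.Agent.Lib.Helper4.CM2
import Groth.Agent.Lib.Helper17.EtModPull

/-!
# Zero loci of sheaves along surjective closed immersions (helper4)
-/

set_option linter.style.haveILetI false
set_option linter.unusedSectionVars false
set_option autoImplicit false
open CategoryTheory CategoryTheory.Limits AlgebraicGeometry Opposite
universe u

namespace Groth.Agent.Lib.Helper4.TI

open Groth.Agent.Lib.Helper4.NC Groth.Agent.Lib.Helper4.CM Groth.Agent.Lib.Helper4.GR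
  Groth.Agent.Lib.Helper4.ST

section abelian

universe v₁ v₂ u₁ u₂

variable {𝒜 : Type u₁} [Category.{v₁} 𝒜] [Abelian 𝒜] {ℬ : Type u₂} [Category.{v₂} ℬ] [Abelian ℬ]
  (L : 𝒜 ⥤ ℬ) [L.Additive] [PreservesFiniteLimits L] [PreservesFiniteColimits L]

lemma isIso_map_of_isZero {A B : 𝒜} (φ : A ⟶ B) (hK : IsZero (L.obj (kernel φ)))
    (hC : IsZero (L.obj (cokernel φ))) : IsIso (L.map φ) := by
  haveI : Mono (L.map φ) :=
    Preadditive.mono_of_isZero_kernel _ (hK.of_iso (PreservesKernel.iso L φ).symm)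
  haveI : Epi (L.map φ) :=
    Preadditive.epi_of_isZero_cokernel _ (hC.of_iso (PreservesCokernel.iso L φ).symm)
  exact isIso_of_mono_of_epi _

lemma isZero_map_kernel_of_isIso {A B : 𝒜} (φ : A ⟶ B) [IsIso (L.map φ)] :
    IsZero (L.obj (kernel φ)) :=
  (isZero_kernel_of_mono (L.map φ)).of_iso (PreservesKernel.iso L φ)

lemma isZero_map_cokernel_of_isIso {A B : 𝒜} (φ : A ⟶ B) [IsIso (L.map φ)] :
    IsZero (L.obj (cokernel φ)) :=
  (isZero_cokernel_of_epi (L.map φ)).of_iso (PreservesCokernel.iso L φ)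

end abelian

variable (Λ : Type (u + 1)) [CommRing Λ]

/-- Along an injective immersion, the image of the zero locus of the pullback lies in the zero
locus. -/
theorem image_zeroLocus_pull_subset {Z T : Scheme.{u}} (i : Z ⟶ T) [IsImmersion i]
    (A : EtModW.Mod Λ T) :
    i.base '' zeroLocus Λ ((EtModW.pull Λ i).obj A) ⊆ zeroLocus Λ A := by
  rintro _ ⟨z, hz, rfl⟩ Ω _ _ ξ hξ
  obtain ⟨ζ, rfl⟩ := exists_factor_of_isImmersion i ξ ⟨z, hξ.symm⟩
  have h1 : i.base (ζ.base default) = i.base z := hξ
  have h2 : ζ.base default = z := i.isEmbedding.injective h1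
  exact (hz Ω ζ h2).of_iso ((stalkPullIsoM Λ i ζ).app A).symm

/-- The pullback of a sheaf to an open subscheme contained in its zero locus vanishes. -/
theorem isZero_pull_of_subset_zeroLocus {T : Scheme.{u}} (A : EtModW.Mod Λ T) (V : T.Opens)
    (hV : (V : Set T) ⊆ zeroLocus Λ A) : IsZero ((EtModW.pull Λ V.ι).obj A) := by
  apply isZero_of_stalksM
  intro Ω _ _ η
  refine (hV ?_ Ω (η ≫ V.ι) rfl).of_iso ((stalkPullIsoM Λ V.ι η).app A)
  exact (η.base default).2

/-- A surjective closed immersion is open on underlying spaces. -/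
lemma isOpenMap_of_isClosedImmersion_surjective {Z T : Scheme.{u}} (i : Z ⟶ T)
    [IsClosedImmersion i] (hs : Function.Surjective i.base) : IsOpenMap i.base := by
  have hce : Topology.IsClosedEmbedding i.base := i.isClosedEmbedding
  have hb : Function.Bijective i.base := ⟨hce.injective, hs⟩
  intro O hO
  have h1 : i.base '' O = (i.base '' Oᶜ)ᶜ := by
    rw [Set.image_compl_eq hb, compl_compl]
  rw [h1, isOpen_compl_iff]
  exact hce.isClosedMap _ hO.isClosed_compl

end Groth.Agent.Lib.Helper4.TI
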