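import Mathlib
import Groth.Agent.Lib.Helper4.TI4
import Groth.Agent.Lib.Helper4.GR5
import Groth.Agent.Lib.Helper2.LCSite.Serre

/-!
# Finite type local constancy is reflected by surjective closed immersions (helper4)

The "topological invariance" of finite type locally constant sheaves of modules, for nilpotent
thickenings, proved through stalks.
-/

set_option linter.style.haveILetI false
set_option linter.unusedSectionVars false
set_option autoImplicit false
open CategoryTheory CategoryTheory.Limits AlgebraicGeometry Opposite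
universe u

namespace Groth.Agent.Lib.Helper4.TI

open Groth.Agent.Lib.Helper4.NC Groth.Agent.Lib.Helper4.CM Groth.Agent.Lib.Helper4.GR
  Groth.Agent.Lib.Helper4.ST
  Groth.Agent.Lib.Helper22.EtLoc Groth.Agent.Lib.Helper22.EtLoc.OverSite

variable (Λ : Type (u + 1)) [CommRing Λ] [IsNoetherianRing Λ]

/-- Local form: around every point there is an étale neighbourhood over which the sheaf becomes
constant with finite value. -/
theorem exists_nbhd_const {Z U : Scheme.{u}} (i : Z ⟶ U) [IsClosedImmersion i]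
    (hs : Function.Surjective i.base) (F : EtModW.Mod Λ U)
    (hF : EtModW.IsFTLocConst Λ ((EtModW.pull Λ i).obj F)) (x : U) :
    ∃ (Wx : U.Etale) (w : Wx.left), Wx.hom.base w = x ∧ ∃ (M : ModuleCat.{u + 1} Λ)
      (_ : Module.Finite Λ M), Nonempty ((EtModW.pull Λ Wx.hom).obj F ≅ KX Λ Wx.left M) := by
  obtain ⟨Ω, _, _, ξ, hξ⟩ := exists_geomPoint_at x
  obtain ⟨ζ₀, hζ₀⟩ := exists_factor_of_isImmersion i ξ (hs _)
  haveI : Module.Finite Λ ((EtModW.stalk Λ ξ).obj F) := by
    subst hζ₀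
    haveI h0 : Module.Finite Λ ((EtModW.pull Λ i ⋙ EtModW.stalk Λ ζ₀).obj F) :=
      finite_stalk_of_isFTLocConst Λ _ hF ζ₀
    exact Module.Finite.equiv ((stalkPullIsoM Λ i ζ₀).app F).toLinearEquiv
  obtain ⟨W, y, θ, hθ⟩ := exists_section_lift Λ ξ F
  let ζ : Spec (CommRingCat.of Ω) ⟶ W.left := y.left
  have hζ : ζ ≫ W.hom = ξ := Over.w y
  have hy : ptW W ξ ζ hζ = y := by
    apply Over.OverMorphism.ext
    rfl
  let M : ModuleCat.{u + 1} Λ := (EtModW.stalk Λ ξ).obj F
  let φ : KX Λ W.left M ⟶ (resM Λ W.hom).obj F := phiW Λ W F (ModuleCat.ofHom θ)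
  haveI hφ : IsIso ((EtModW.stalk Λ ζ).map φ) :=
    isIso_stalk_phiW Λ W F ξ ζ hζ (ModuleCat.ofHom θ) (by rw [hy]; exact hθ)
  -- base change of `i`
  let iT : pullback i W.hom ⟶ W.left := pullback.snd i W.hom
  let jZ : pullback i W.hom ⟶ Z := pullback.fst i W.hom
  haveI : Surjective i := ⟨hs⟩
  have hsT : Function.Surjective iT.base := (inferInstance : Surjective iT).surj
  -- local constancy of the pullbacks
  have hA : EtModW.IsFTLocConst Λ ((EtModW.pull Λ iT).obj (KX Λ W.left M)) :=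
    isFTLocConst_of_iso_const Λ _ M ((pullConstIsoM Λ iT).app M)
  have hB : EtModW.IsFTLocConst Λ ((EtModW.pull Λ iT).obj ((resM Λ W.hom).obj F)) := by
    have e : (EtModW.pull Λ iT).obj ((resM Λ W.hom).obj F) ≅
        (EtModW.pull Λ jZ).obj ((EtModW.pull Λ i).obj F) :=
      (EtModW.pull Λ iT).mapIso ((pullIsoResM Λ W.hom).app F).symm ≪≫
        ((pullCompM Λ iT W.hom).app F).symm ≪≫
        (pullCongrM Λ (pullback.condition (f := i) (g := W.hom)).symm).app F ≪≫
        (pullCompM Λ jZ i).app F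
    exact isFTLocConst_of_iso Λ e.symm (isFTLocConst_pull Λ jZ _ hF)
  obtain ⟨hK', hC'⟩ := Groth.Agent.Lib.Helper2.LCSite.Et.ftLocConst_kernel_cokernel
    ((EtModW.pull Λ iT).map φ) hA hB
  have hK : EtModW.IsFTLocConst Λ ((EtModW.pull Λ iT).obj (kernel φ)) :=
    isFTLocConst_of_iso Λ (PreservesKernel.iso (EtModW.pull Λ iT) φ).symm hK'
  have hC : EtModW.IsFTLocConst Λ ((EtModW.pull Λ iT).obj (cokernel φ)) :=
    isFTLocConst_of_iso Λ (PreservesCokernel.iso (EtModW.pull Λ iT) φ).symm hC'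
  -- the geometric point of the base change
  let ζZ : Spec (CommRingCat.of Ω) ⟶ pullback i W.hom :=
    pullback.lift ζ₀ ζ (hζ₀.trans hζ.symm)
  have hζZ : ζZ ≫ iT = ζ := pullback.lift_snd _ _ _
  have hK0 : IsZero ((EtModW.stalk Λ ζZ).obj ((EtModW.pull Λ iT).obj (kernel φ))) :=
    (isZero_map_kernel_of_isIso (EtModW.stalk Λ ζ) φ).of_iso
      ((stalkPullIsoM Λ iT ζZ).app _ ≪≫ (stalkCongr Λ hζZ).app _)
  have hC0 : IsZero ((EtModW.stalk Λ ζZ).obj ((EtModW.pull Λ iT).obj (cokernel φ))) :=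
    (isZero_map_cokernel_of_isIso (EtModW.stalk Λ ζ) φ).of_iso
      ((stalkPullIsoM Λ iT ζZ).app _ ≪≫ (stalkCongr Λ hζZ).app _)
  have hmemK := mem_zeroLocus_of_isZero_stalk Λ _ hK ζZ hK0
  have hmemC := mem_zeroLocus_of_isZero_stalk Λ _ hC ζZ hC0
  let O : Set W.left := iT.base '' (zeroLocus Λ ((EtModW.pull Λ iT).obj (kernel φ)) ∩
    zeroLocus Λ ((EtModW.pull Λ iT).obj (cokernel φ)))
  have hO : IsOpen O := isOpenMap_of_isClosedImmersion_surjective iT hsT _
    ((isClopen_zeroLocus Λ _ hK).2.inter (isClopen_zeroLocus Λ _ hC).2)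
  let V : W.left.Opens := ⟨O, hO⟩
  have hVK : (V : Set W.left) ⊆ zeroLocus Λ (kernel φ) :=
    (Set.image_mono Set.inter_subset_left).trans (image_zeroLocus_pull_subset Λ iT (kernel φ))
  have hVC : (V : Set W.left) ⊆ zeroLocus Λ (cokernel φ) :=
    (Set.image_mono Set.inter_subset_right).trans (image_zeroLocus_pull_subset Λ iT (cokernel φ))
  have hmem : ζ.base default ∈ V := ⟨ζZ.base default, ⟨hmemK, hmemC⟩, by rw [← hζZ]; rfl⟩
  haveI : IsIso ((EtModW.pull Λ V.ι).map φ) :=
    isIso_map_of_isZero (EtModW.pull Λ V.ι) φ (isZero_pull_of_subset_zeroLocus Λ _ V hVK)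
      (isZero_pull_of_subset_zeroLocus Λ _ V hVC)
  refine ⟨Scheme.Etale.mk (V.ι ≫ W.hom), ⟨ζ.base default, hmem⟩, ?_, M, inferInstance, ⟨?_⟩⟩
  · show (V.ι ≫ W.hom).base ⟨ζ.base default, hmem⟩ = x
    rw [← hξ, ← hζ]
    rfl
  · exact (pullCompM Λ V.ι W.hom).app F ≪≫
      (EtModW.pull Λ V.ι).mapIso ((pullIsoResM Λ W.hom).app F) ≪≫
      (asIso ((EtModW.pull Λ V.ι).map φ)).symm ≪≫ (pullConstIsoM Λ V.ι).app M

/-- **Topological invariance of local constancy**: a sheaf of modules whose pullback along a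
surjective closed immersion is finite type locally constant is finite type locally constant. -/
theorem isFTLocConst_of_pull_closedImmersion_surjective {Z U : Scheme.{u}} (i : Z ⟶ U)
    [IsClosedImmersion i] (hs : Function.Surjective i.base) (F : EtModW.Mod Λ U)
    (hF : EtModW.IsFTLocConst Λ ((EtModW.pull Λ i).obj F)) : EtModW.IsFTLocConst Λ F := by
  choose Wx w hw M hM e using exists_nbhd_const Λ i hs F hF
  refine ⟨U, Wx, fun x => ⟨x, w x, hw x⟩, fun x => ?_⟩
  exact ⟨M x, inferInstance, inferInstance, hM x,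
    (restr_iso_const_iff_M Λ (Wx x) F (M x)).2 (e x)⟩

end Groth.Agent.Lib.Helper4.TI
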