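import Mathlib
import Groth.Agent.Lib.Helper4.TI5
import Groth.Agent.Lib.Helper4.GR6

/-!
# An adic system of constructible sheaves is lisse on a dense open (helper4)
-/

set_option linter.style.haveILetI false
set_option linter.unusedSectionVars false
set_option autoImplicit false
open CategoryTheory CategoryTheory.Limits AlgebraicGeometry Opposite
universe u

namespace Groth.Agent.Lib.Helper4.TI

open Groth.Agent.Lib.Helper4.NC Groth.Agent.Lib.Helper4.CM Groth.Agent.Lib.Helper4.GR
  Groth.Agent.Lib.Helper4.ST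

section topology

variable {X : Type*} [TopologicalSpace X] {ι : Type*} [Fintype ι]

open Classical in
lemma inter_iUnion_interior_nonempty (S : ι → Set X) (hS : ∀ i, IsLocallyClosed (S i))
    (hcov : ⋃ i, S i = Set.univ) :
    ∀ (n : ℕ) (O : Set X), IsOpen O → O.Nonempty →
      (Finset.univ.filter (fun i => (O ∩ S i).Nonempty)).card ≤ n →
      (O ∩ ⋃ i, interior (S i)).Nonempty := by
  intro n
  induction n with
  | zero =>
    intro O hO hne hcard
    obtain ⟨x, hx⟩ := hne
    have hxc : x ∈ ⋃ i, S i := hcov ▸ Set.mem_univ x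
    obtain ⟨i, hi⟩ := Set.mem_iUnion.1 hxc
    have hmem : i ∈ Finset.univ.filter (fun i => (O ∩ S i).Nonempty) := by
      rw [Finset.mem_filter]
      exact ⟨Finset.mem_univ _, ⟨x, hx, hi⟩⟩
    have := Finset.card_pos.2 ⟨i, hmem⟩
    omega
  | succ n ih =>
    intro O hO hne hcard
    obtain ⟨x, hx⟩ := hne
    have hxc : x ∈ ⋃ i, S i := hcov ▸ Set.mem_univ x
    obtain ⟨i, hi⟩ := Set.mem_iUnion.1 hxc
    obtain ⟨A, C, hA, hC, hAC⟩ := hS i
    have hiAC : x ∈ A ∩ C := hAC ▸ hi
    by_cases hsub : O ∩ A ⊆ C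
    · refine ⟨x, hx, Set.mem_iUnion.2 ⟨i, ?_⟩⟩
      have h1 : O ∩ A ⊆ S i := fun y hy => by
        rw [hAC]
        exact ⟨hy.2, hsub hy⟩
      exact interior_maximal h1 (hO.inter hA) ⟨hx, hiAC.1⟩
    · obtain ⟨y, hy, hyC⟩ := Set.not_subset.1 hsub
      have hO' : IsOpen (O ∩ A ∩ Cᶜ) := (hO.inter hA).inter hC.isOpen_compl
      have hne' : (O ∩ A ∩ Cᶜ).Nonempty := ⟨y, hy, hyC⟩
      have hss : Finset.univ.filter (fun j => ((O ∩ A ∩ Cᶜ) ∩ S j).Nonempty) ⊆
          Finset.univ.filter (fun j => (O ∩ S j).Nonempty) := by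
        intro j hj
        rw [Finset.mem_filter] at hj ⊢
        obtain ⟨z, hz, hzS⟩ := hj.2
        exact ⟨Finset.mem_univ _, ⟨z, hz.1.1, hzS⟩⟩
      have hi_in : i ∈ Finset.univ.filter (fun j => (O ∩ S j).Nonempty) := by
        rw [Finset.mem_filter]
        exact ⟨Finset.mem_univ _, ⟨x, hx, hi⟩⟩
      have hi_notin : i ∉ Finset.univ.filter (fun j => ((O ∩ A ∩ Cᶜ) ∩ S j).Nonempty) := by
        rw [Finset.mem_filter]
        rintro ⟨-, z, hz, hzS⟩
        have hzAC : z ∈ A ∩ C := hAC ▸ hzS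
        exact hz.2 hzAC.2
      have hlt := Finset.card_lt_card ⟨hss, fun h => hi_notin (h hi_in)⟩
      obtain ⟨z, hz, hzU⟩ := ih (O ∩ A ∩ Cᶜ) hO' hne' (by omega)
      exact ⟨z, hz.1.1, hzU⟩

/-- The interiors of finitely many locally closed sets covering a space have dense union. -/
theorem dense_iUnion_interior (S : ι → Set X) (hS : ∀ i, IsLocallyClosed (S i))
    (hcov : ⋃ i, S i = Set.univ) : Dense (⋃ i, interior (S i)) := by
  classical
  rw [dense_iff_inter_open]
  intro O hO hne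
  exact inter_iUnion_interior_nonempty S hS hcov _ O hO hne le_rfl

end topology

variable (Λ : Type (u + 1)) [CommRing Λ]

/-- Finite type local constancy is étale local. -/
theorem isFTLocConst_of_local {X : Scheme.{u}} (F : EtModW.Mod Λ X)
    (h : ∀ x : X, ∃ (W : X.Etale) (z : W.left), W.hom.base z = x ∧
      EtModW.IsFTLocConst Λ ((EtModW.pull Λ W.hom).obj F)) : EtModW.IsFTLocConst Λ F := by
  choose W z hz hW using h
  choose ι V hV hM using hW
  refine ⟨Σ x, ι x, fun p => Scheme.Etale.mk ((V p.1 p.2).hom ≫ (W p.1).hom), ?_, fun p => ?_⟩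
  · intro x
    obtain ⟨k, v, hv⟩ := hV x (z x)
    refine ⟨⟨x, k⟩, v, ?_⟩
    show (W x).hom.base ((V x k).hom.base v) = x
    rw [hv, hz]
  · obtain ⟨M, i1, i2, i3, a⟩ := hM p.1 p.2
    refine ⟨M, i1, i2, i3, ?_⟩
    obtain ⟨b⟩ := (restr_iso_const_iff_M Λ (V p.1 p.2) _ (ModuleCat.of Λ M)).1 a
    exact (restr_iso_const_iff_M Λ (Scheme.Etale.mk ((V p.1 p.2).hom ≫ (W p.1).hom)) F
      (ModuleCat.of Λ M)).2 ⟨(pullCompM Λ (V p.1 p.2).hom (W p.1).hom).app F ≪≫ b⟩

variable [IsNoetherianRing Λ]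

/-- A sheaf that is finite type locally constant on a stratum is so on every open subscheme
contained (as a set) in the stratum. -/
theorem isFTLocConst_pull_open_of_subset_range {X T : Scheme.{u}} (g : T ⟶ X) [IsImmersion g]
    (V : X.Opens) (hV : (V : Set X) ⊆ Set.range g.base) (E : EtModW.Mod Λ X)
    (hE : EtModW.IsFTLocConst Λ ((EtModW.pull Λ g).obj E)) :
    EtModW.IsFTLocConst Λ ((EtModW.pull Λ V.ι).obj E) := by
  let i : pullback g V.ι ⟶ V := pullback.snd g V.ι
  have hr : Set.range i.base = Set.univ := by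
    rw [Scheme.Pullback.range_snd]
    apply Set.eq_univ_of_forall
    intro v
    exact hV v.2
  haveI : IsClosedImmersion i := IsClosedImmersion.of_isPreimmersion i (by
    rw [hr]
    exact isClosed_univ)
  have hs : Function.Surjective i.base := Set.range_eq_univ.1 hr
  apply isFTLocConst_of_pull_closedImmersion_surjective Λ i hs
  have e : (EtModW.pull Λ i).obj ((EtModW.pull Λ V.ι).obj E) ≅
      (EtModW.pull Λ (pullback.fst g V.ι)).obj ((EtModW.pull Λ g).obj E) :=
    ((pullCompM Λ i V.ι).app E).symm ≪≫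
      (pullCongrM Λ (pullback.condition (f := g) (g := V.ι)).symm).app E ≪≫
      (pullCompM Λ (pullback.fst g V.ι) g).app E
  exact isFTLocConst_of_iso Λ e.symm (isFTLocConst_pull Λ _ _ hE)

variable (I : Ideal Λ)

/-- **Generic lisseness**: an adic system of constructible sheaves of modules on a Noetherian
scheme is finite type locally constant, all terms at once, on a dense open subscheme. -/
theorem exists_dense_open_lcc (X : Scheme.{u}) [IsNoetherian X]
    (F : ARSys.PS (EtModW.Mod Λ X)) (hF : ARSys.IsAdic I F)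
    (hc : ∀ n : ℕ, EtModW.IsConstructible Λ (F.obj (op n))) :
    ∃ U : X.Opens, Dense (U : Set X) ∧
      ∀ n : ℕ, EtModW.IsFTLocConst Λ ((EtModW.pull Λ U.ι).obj (F.obj (op n))) := by
  obtain ⟨m, T, g, him, -, hun, hlcc⟩ := exists_uniform_strata Λ I X F hF hc
  let S : Fin m → Set X := fun i => Set.range (fun t => (g i).base t)
  have hSlc : ∀ i, IsLocallyClosed (S i) := fun i => by
    haveI := him i
    exact (g i).isLocallyClosed_range
  let Vi : Fin m → X.Opens := fun i => ⟨interior (S i), isOpen_interior⟩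
  let U : X.Opens := ⨆ i, Vi i
  have hU : (U : Set X) = ⋃ i, interior (S i) := by
    simp [U, Vi]
  refine ⟨U, ?_, fun n => ?_⟩
  · rw [hU]
    exact dense_iUnion_interior S hSlc hun
  · apply isFTLocConst_of_local
    intro x
    have hx : x.1 ∈ ⋃ i, interior (S i) := hU ▸ x.2
    obtain ⟨i, hi⟩ := Set.mem_iUnion.1 hx
    have hle : Vi i ≤ U := le_iSup Vi i
    haveI := him i
    refine ⟨Scheme.Etale.mk (X.homOfLE hle), ⟨x.1, hi⟩, ?_, ?_⟩
    · exact Scheme.homOfLE_apply' hle x.1 hi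
    · show EtModW.IsFTLocConst Λ ((EtModW.pull Λ (X.homOfLE hle)).obj
        ((EtModW.pull Λ U.ι).obj (F.obj (op n))))
      have e : (EtModW.pull Λ (X.homOfLE hle)).obj ((EtModW.pull Λ U.ι).obj (F.obj (op n))) ≅
          (EtModW.pull Λ (Vi i).ι).obj (F.obj (op n)) :=
        ((pullCompM Λ (X.homOfLE hle) U.ι).app (F.obj (op n))).symm ≪≫
          (pullCongrM Λ (X.homOfLE_ι hle)).app (F.obj (op n))
      refine isFTLocConst_of_iso Λ e.symm ?_
      exact isFTLocConst_pull_open_of_subset_range Λ (g i) (Vi i) interior_subset _ (hlcc i n)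

end Groth.Agent.Lib.Helper4.TI
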