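import Mathlib
import Groth.Agent.Lib.Helper4.TR6
import Groth.Agent.Lib.Helper4.GR8
import Groth.Agent.Lib.Helper4.NC7

/-!
# Transfer of constructibility and the Noetherian property between abelian étale sheaves and
étale sheaves of `ULift ℤ`-modules (helper4)
-/

set_option linter.style.haveILetI false
set_option linter.unusedSectionVars false
set_option autoImplicit false
open CategoryTheory CategoryTheory.Limits AlgebraicGeometry Opposite
universe u

namespace Groth.Agent.Lib.Helper4.TR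

section general

universe v₁ v₂ u₁ u₂

variable {𝒜 : Type u₁} [Category.{v₁} 𝒜] {ℬ : Type u₂} [Category.{v₂} ℬ]

/-- A fully faithful functor preserving monomorphisms reflects Noetherian objects. -/
theorem isNoetherianObject_of_fullyFaithful (Φ : 𝒜 ⥤ ℬ) [Φ.Full] [Φ.Faithful]
    [Φ.PreservesMonomorphisms] (F : 𝒜) (h : IsNoetherianObject (Φ.obj F)) :
    IsNoetherianObject F := by
  rw [isNoetherianObject_iff_monotone_chain_condition] at h ⊢
  intro c
  let d : ℕ →o Subobject (Φ.obj F) :=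
    { toFun := fun k => Subobject.mk (Φ.map (c k).arrow)
      monotone' := by
        intro k l hkl
        refine Subobject.mk_le_mk_of_comm (Φ.map (Subobject.ofLE _ _ (c.monotone hkl))) ?_
        rw [← Functor.map_comp, Subobject.ofLE_arrow] }
  obtain ⟨n, hn⟩ := h d
  refine ⟨n, fun m hm => le_antisymm (c.monotone hm) ?_⟩
  have hle : Subobject.mk (Φ.map (c m).arrow) ≤ Subobject.mk (Φ.map (c n).arrow) :=
    (hn m hm).symm.le
  let g := Subobject.ofMkLEMk _ _ hle
  have hg : g ≫ Φ.map (c n).arrow = Φ.map (c m).arrow := Subobject.ofMkLEMk_comp hle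
  refine Subobject.le_of_comm (Φ.preimage g) ?_
  apply Φ.map_injective
  rw [Functor.map_comp, Functor.map_preimage, hg]

end general

/-- A killed abelian sheaf has the zero multiple of its identity. -/
lemma zsmul_id_eq_zero_of_killedBy {X : Scheme.{u}} (n : ℕ) (F : EtCoh.Ab X)
    (h : EtCoh.KilledBy n F) : (n : ℤ) • 𝟙 F = 0 := by
  ext U s
  let ev : (F ⟶ F) →+ F.obj.obj U :=
    { toFun := fun φ => (φ.hom.app U).hom s
      map_zero' := rfl
      map_add' := fun _ _ => rfl }
  have h2 : ev ((n : ℤ) • 𝟙 F) = (n : ℤ) • ev (𝟙 F) := map_zsmul ev _ _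
  have h3 : ev (𝟙 F) = s := rfl
  show ev ((n : ℤ) • 𝟙 F) = 0
  rw [h2, h3, natCast_zsmul]
  exact h U.unop s

lemma zsmul_id_of_mono {𝒟 : Type*} [Category 𝒟] [Preadditive 𝒟] {A B : 𝒟} (ι : A ⟶ B) [Mono ι]
    (c : ℤ) (h : c • 𝟙 B = 0) : c • 𝟙 A = 0 := by
  rw [← cancel_mono ι, Preadditive.zsmul_comp, Category.id_comp, zero_comp]
  have : c • ι = ι ≫ (c • 𝟙 B) := by rw [Preadditive.comp_zsmul, Category.comp_id]
  rw [this, h, comp_zero]

lemma zsmul_id_of_epi {𝒟 : Type*} [Category 𝒟] [Preadditive 𝒟] {A B : 𝒟} (π : A ⟶ B) [Epi π]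
    (c : ℤ) (h : c • 𝟙 A = 0) : c • 𝟙 B = 0 := by
  rw [← cancel_epi π, Preadditive.comp_zsmul, Category.comp_id, comp_zero]
  have : c • π = (c • 𝟙 A) ≫ π := by rw [Preadditive.zsmul_comp, Category.id_comp]
  rw [this, h, zero_comp]

/-- A killed abelian sheaf whose associated sheaf of modules is constructible is constructible. -/
theorem isConstructible_of_Phi {X : Scheme.{u}} (G : EtCoh.Ab X) (c : ℕ) (hc : 0 < c)
    (hkill : (c : ℤ) • 𝟙 G = 0)
    (h : EtModW.IsConstructible ZZ.{u + 1} ((PhiX X).obj G)) : EtPBC.IsConstructible G := by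
  intro U hU
  obtain ⟨m, T, g, him, hcon, hdis, hun, hP⟩ := h U hU
  refine ⟨m, T, g, him, hcon, hdis, hun, fun k => ?_⟩
  intro _
  have h6 : EtModW.IsFTLocConst ZZ.{u + 1}
      ((PhiX (T k)).obj ((EtCoh.pull (g k)).obj G)) :=
    Groth.Agent.Lib.Helper4.CM.isFTLocConst_of_iso ZZ.{u + 1}
      ((pullIso (g k)).app G).symm (hP k)
  refine isFLC_of_isFTLocConst_Phi _ c hc ?_ h6
  haveI : (EtCoh.pull (g k)).Additive := (EtCoh.pullPushAdj (g k)).left_adjoint_additive
  exact zsmul_id_map (EtCoh.pull (g k)) _ _ hkill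

end Groth.Agent.Lib.Helper4.TR
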