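import Mathlib

/-!
# Trace and filtrations

* `trace_eq_trace_restrict_add_trace_mapQ`: additivity of the trace along an invariant subspace.
* `trace_lsmul_eq_add`: the same for the action of a ring element on a module and a submodule.
* `exists_finrank_eq_and_trace_eq`: over a local `k`-algebra `R`, the trace of `r` acting on a
  finite-dimensional `R`-module `M` is `ℓ • tr_{κ/k} (r mod 𝔪)`, with `dim_k M = ℓ · [κ : k]`.
-/

namespace Groth.Agent.Lib.Helper4

open Module IsLocalRing

universe u

/-- Additivity of the trace along an invariant subspace: over a field, if `f` preserves the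
subspace `N` then `tr f = tr (f|N) + tr (f on M/N)`. -/
theorem trace_eq_trace_restrict_add_trace_mapQ {k M : Type*} [Field k] [AddCommGroup M]
    [Module k M] [Module.Finite k M] (N : Submodule k M) (f : M →ₗ[k] M)
    (hf : N ≤ N.comap f) :
    LinearMap.trace k M f =
      LinearMap.trace k N (f.restrict hf) + LinearMap.trace k (M ⧸ N) (N.mapQ N f hf) := by
  obtain ⟨s, hs⟩ := LinearMap.exists_rightInverse_of_surjective N.mkQ
    (LinearMap.range_eq_top.mpr N.mkQ_surjective)
  -- retraction onto `N`
  have hmem : ∀ m : M, ((LinearMap.id : M →ₗ[k] M) - s ∘ₗ N.mkQ) m ∈ N := by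
    intro m
    apply (Submodule.Quotient.mk_eq_zero N).mp
    have : N.mkQ (s (N.mkQ m)) = N.mkQ m := LinearMap.congr_fun hs (N.mkQ m)
    change N.mkQ _ = 0
    simp only [LinearMap.sub_apply, LinearMap.id_coe, id_eq, LinearMap.coe_comp,
      Function.comp_apply, map_sub, this, sub_self]
  let ρ : M →ₗ[k] N := LinearMap.codRestrict N ((LinearMap.id : M →ₗ[k] M) - s ∘ₗ N.mkQ) hmem
  have hdecomp : f = (f ∘ₗ N.subtype) ∘ₗ ρ + (f ∘ₗ s) ∘ₗ N.mkQ := by
    ext m
    simp only [LinearMap.add_apply, LinearMap.coe_comp, Function.comp_apply, Submodule.coe_subtype,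
      ρ, LinearMap.codRestrict_apply, LinearMap.sub_apply, LinearMap.id_coe, id_eq, ← map_add]
    congr 1
    abel
  have h1 : ρ ∘ₗ (f ∘ₗ N.subtype) = f.restrict hf := by
    ext n
    simp only [LinearMap.coe_comp, Function.comp_apply, Submodule.coe_subtype, ρ,
      LinearMap.codRestrict_apply, LinearMap.sub_apply, LinearMap.id_coe, id_eq,
      LinearMap.coe_restrict_apply]
    have : N.mkQ (f n) = 0 := (Submodule.Quotient.mk_eq_zero N).mpr (hf n.2)
    rw [this, map_zero, sub_zero]
  have h2 : N.mkQ ∘ₗ (f ∘ₗ s) = N.mapQ N f hf := by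
    have h3 : N.mkQ ∘ₗ f = (N.mapQ N f hf) ∘ₗ N.mkQ := by
      ext m; simp
    rw [← LinearMap.comp_assoc, h3, LinearMap.comp_assoc, hs, LinearMap.comp_id]
  conv_lhs => rw [hdecomp]
  rw [map_add, LinearMap.trace_comp_comm' ρ (f ∘ₗ N.subtype),
    LinearMap.trace_comp_comm' N.mkQ (f ∘ₗ s), h1, h2]

section

variable {k R : Type*} [Field k] [CommRing R] [Algebra k R]

/-- Trace additivity for the action of `r : R` on an `R`-module `M` with an `R`-submodule `N`. -/
theorem trace_lsmul_eq_add {M : Type*} [AddCommGroup M] [Module R M] [Module k M]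
    [IsScalarTower k R M] [Module.Finite k M] (N : Submodule R M) (r : R) :
    LinearMap.trace k M (Algebra.lsmul k k M r) =
      LinearMap.trace k N (Algebra.lsmul k k N r) +
        LinearMap.trace k (M ⧸ N) (Algebra.lsmul k k (M ⧸ N) r) := by
  have hf : N.restrictScalars k ≤ (N.restrictScalars k).comap (Algebra.lsmul k k M r) := by
    intro x hx
    exact N.smul_mem r hx
  rw [trace_eq_trace_restrict_add_trace_mapQ (N.restrictScalars k) (Algebra.lsmul k k M r) hf]
  rfl


variable [IsLocalRing R] [Module.Finite k (ResidueField R)]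

/-- For a local `k`-algebra `R` with residue field `κ` finite over `k`, and an `R`-module `M` of
finite `k`-dimension, there is `ℓ` (the length of `M`) with `dim_k M = ℓ · [κ : k]` and
`tr_k (r | M) = ℓ • tr_{κ/k} (r mod 𝔪)` for all `r`. -/
theorem exists_finrank_eq_and_trace_eq (n : ℕ) :
    ∀ (M : Type u) [AddCommGroup M] [Module R M] [Module k M] [IsScalarTower k R M]
      [Module.Finite k M], Module.finrank k M = n →
      ∃ ℓ : ℕ, Module.finrank k M = ℓ * Module.finrank k (ResidueField R) ∧
        ∀ r : R, LinearMap.trace k M (Algebra.lsmul k k M r) =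
          ℓ • Algebra.trace k (ResidueField R) (residue R r) := by
  induction n using Nat.strong_induction_on with
  | _ n ih =>
  intro M _ _ _ _ _ hM
  by_cases hsub : Subsingleton M
  · refine ⟨0, by rw [Module.finrank_zero_of_subsingleton, zero_mul], fun r => ?_⟩
    rw [zero_smul, Subsingleton.elim (Algebra.lsmul k k M r) 0, map_zero]
  · rw [not_subsingleton_iff_nontrivial] at hsub
    have hart : IsArtinian R M := isArtinian_of_tower k (inferInstance : IsArtinian k M)
    obtain ⟨N, hN⟩ := IsAtomic.exists_atom (Submodule R M)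
    have hsimple : IsSimpleModule R N := isSimpleModule_iff_isAtom.mpr hN
    obtain ⟨I, hI, ⟨φ⟩⟩ := isSimpleModule_iff_quot_maximal.mp hsimple
    obtain rfl := IsLocalRing.eq_maximalIdeal hI
    let φ' : N ≃ₗ[k] ResidueField R := φ.restrictScalars k
    have hfN : Module.finrank k N = Module.finrank k (ResidueField R) := φ'.finrank_eq
    have hpos : 0 < Module.finrank k (ResidueField R) := Module.finrank_pos
    have hfin : Module.Finite k (M ⧸ N) :=
      Module.Finite.of_surjective (N.mkQ.restrictScalars k) N.mkQ_surjective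
    have hadd : Module.finrank k (M ⧸ N) + Module.finrank k N = Module.finrank k M :=
      Submodule.finrank_quotient_add_finrank (N.restrictScalars k)
    obtain ⟨ℓ', hℓ', htr'⟩ := ih (Module.finrank k (M ⧸ N)) (by omega) (M ⧸ N) rfl
    refine ⟨ℓ' + 1, by rw [← hadd, hℓ', hfN]; ring, fun r => ?_⟩
    rw [trace_lsmul_eq_add N r, htr' r, add_smul, one_smul, add_comm]
    congr 1
    rw [Algebra.trace_apply, ← LinearMap.trace_conj' _ φ']
    congr 1
    ext x
    obtain ⟨x, rfl⟩ := φ'.surjective x
    rw [LinearEquiv.conj_apply_apply, LinearEquiv.symm_apply_apply]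
    change φ' (r • x) = residue R r * φ' x
    have : φ' (r • x) = r • φ' x := map_smul φ r x
    rw [this, Algebra.smul_def]
    rfl

end

end Groth.Agent.Lib.Helper4
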