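import Mathlib
import Groth.Agent.Lib.Helper4.TraceFiltration

/-!
# Traces on `B ⧸ P ^ e` for Dedekind domains

* `isLocalRing_quotient_pow`: `B ⧸ P ^ n` is local for `P` maximal, `n ≠ 0`.
* `trace_quotient_pow_ramificationIdx`: `tr (y | B/P^e) = e • tr (y | B/P)` over `A/p`.
-/

set_option linter.deprecated false

namespace Groth.Agent.Lib.Helper4

open Module IsLocalRing

universe u

/-- The quotient of a ring by a nonzero power of a maximal ideal is local. -/
theorem isLocalRing_quotient_pow {B : Type*} [CommRing B] (P : Ideal B) [hP : P.IsMaximal]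
    {n : ℕ} (hn : n ≠ 0) : IsLocalRing (B ⧸ P ^ n) := by
  have hsurj : Function.Surjective (Ideal.Quotient.mk (P ^ n)) := Ideal.Quotient.mk_surjective
  have hker : Ideal.comap (Ideal.Quotient.mk (P ^ n)) ⊥ = P ^ n := by
    rw [← RingHom.ker_eq_comap_bot, Ideal.mk_ker]
  have hle : P ^ n ≤ P := Ideal.pow_le_self hn
  apply IsLocalRing.of_unique_max_ideal
  refine ⟨P.map (Ideal.Quotient.mk (P ^ n)), ?_, ?_⟩
  · rcases Ideal.map_eq_top_or_isMaximal_of_surjective _ hsurj hP with h | h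
    · exfalso
      have h2 := Ideal.comap_map_of_surjective _ hsurj P
      rw [h, Ideal.comap_top, hker, sup_eq_left.mpr hle] at h2
      exact hP.ne_top h2.symm
    · exact h
  · intro M hM
    have h1 : (M.comap (Ideal.Quotient.mk (P ^ n))).IsMaximal :=
      Ideal.comap_isMaximal_of_surjective _ hsurj
    have h2 : P ^ n ≤ M.comap (Ideal.Quotient.mk (P ^ n)) :=
      hker.symm.le.trans (Ideal.comap_mono bot_le)
    have h3 : P ≤ M.comap (Ideal.Quotient.mk (P ^ n)) := h1.isPrime.le_of_pow_le h2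
    have h4 : P = M.comap (Ideal.Quotient.mk (P ^ n)) := hP.eq_of_le h1.ne_top h3
    have h5 := Ideal.map_comap_of_surjective _ hsurj M
    rw [← h4] at h5
    exact h5.symm


attribute [local instance] Ideal.Quotient.field
attribute [local instance] Ideal.Quotient.algebraQuotientOfRamificationIdxNeZero

open Ideal UniqueFactorizationMonoid in
/-- `tr (y | B/P^e) = e • tr (y | B/P)` over `A/p`, for `P` a prime factor of `pB` with
ramification index `e` in a Dedekind domain `B`. -/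
theorem trace_quotient_pow_ramificationIdx (A B : Type u) [CommRing A] [CommRing B] [Algebra A B]
    [IsDedekindDomain B] [Module.Finite A B] (p : Ideal A) [p.IsMaximal]
    (P : (factors (p.map (algebraMap A B))).toFinset) (y : B) :
    Algebra.trace (A ⧸ p) (B ⧸ (P.1 ^ ramificationIdx' p P.1)) (Ideal.Quotient.mk _ y) =
      ramificationIdx' p P.1 • Algebra.trace (A ⧸ p) (B ⧸ P.1) (Ideal.Quotient.mk _ y) := by
  set e := ramificationIdx' p P.1 with he
  have he0 : e ≠ 0 := Factors.ramificationIdx_ne_zero p P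
  have hPmax : P.1.IsMaximal := (Factors.isPrime p P).isMaximal (Factors.ne_bot p P)
  have hloc : IsLocalRing (B ⧸ P.1 ^ e) := isLocalRing_quotient_pow P.1 he0
  have hfin : Module.Finite (A ⧸ p) (B ⧸ P.1 ^ e) := Factors.finiteDimensional_quotient_pow p P
  -- the natural map to `B ⧸ P`
  let π : (B ⧸ P.1 ^ e) →ₐ[A ⧸ p] (B ⧸ P.1) :=
    { Ideal.Quotient.factor (Ideal.pow_le_self he0) with
      commutes' := by
        intro x
        obtain ⟨a, rfl⟩ := Ideal.Quotient.mk_surjective x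
        rfl }
  have hle : P.1 ^ e ≤ P.1 := Ideal.pow_le_self he0
  have hπsurj : Function.Surjective π := Ideal.Quotient.factor_surjective hle
  have hker : ∀ a ∈ maximalIdeal (B ⧸ P.1 ^ e), π a = 0 := by
    intro a ha
    have hkmax : (RingHom.ker π.toRingHom).IsMaximal :=
      RingHom.ker_isMaximal_of_surjective _ hπsurj
    rw [← IsLocalRing.eq_maximalIdeal hkmax] at ha
    exact ha
  let ψ₀ : ResidueField (B ⧸ P.1 ^ e) →ₐ[A ⧸ p] (B ⧸ P.1) := Ideal.Quotient.liftₐ _ π hker
  have hψsurj : Function.Surjective ψ₀ := by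
    intro z
    obtain ⟨w, rfl⟩ := hπsurj z
    exact ⟨residue _ w, rfl⟩
  let ψ : ResidueField (B ⧸ P.1 ^ e) ≃ₐ[A ⧸ p] (B ⧸ P.1) :=
    AlgEquiv.ofBijective ψ₀ ⟨RingHom.injective ψ₀.toRingHom, hψsurj⟩
  have hfinκ : Module.Finite (A ⧸ p) (ResidueField (B ⧸ P.1 ^ e)) :=
    Module.Finite.of_surjective (Algebra.linearMap (B ⧸ P.1 ^ e) (ResidueField (B ⧸ P.1 ^ e))
      |>.restrictScalars (A ⧸ p)) residue_surjective
  obtain ⟨ℓ, hℓ, htr⟩ := exists_finrank_eq_and_trace_eq (k := A ⧸ p) (R := B ⧸ P.1 ^ e) _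
    (B ⧸ P.1 ^ e) rfl
  have hfκ : finrank (A ⧸ p) (ResidueField (B ⧸ P.1 ^ e)) = finrank (A ⧸ p) (B ⧸ P.1) :=
    ψ.toLinearEquiv.finrank_eq
  have hfe : finrank (A ⧸ p) (B ⧸ P.1 ^ e) = e * finrank (A ⧸ p) (B ⧸ P.1) :=
    finrank_prime_pow_ramificationIdx p P.1 (Factors.ne_bot p P) he0
  have hpos : 0 < finrank (A ⧸ p) (ResidueField (B ⧸ P.1 ^ e)) := Module.finrank_pos
  have hℓe : ℓ = e := by
    rw [hfκ] at hℓ hpos
    exact Nat.eq_of_mul_eq_mul_right hpos (hℓ.symm.trans hfe)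
  rw [Algebra.trace_apply]
  have h1 := htr (Ideal.Quotient.mk _ y)
  rw [hℓe] at h1
  rw [← Algebra.trace_eq_of_algEquiv ψ] at h1
  exact h1

end Groth.Agent.Lib.Helper4
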