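import Mathlib

/-!
# Going down at primes over the closed point for integral extensions of a unibranch local domain
-/

set_option autoImplicit false
universe u

namespace Groth.Agent.Lib.Helper4.Unibr

open IsLocalRing

theorem exists_prime_le_of_unibranch (A A' B K : Type u) [CommRing A] [IsDomain A] [IsLocalRing A]
    [CommRing A'] [IsDomain A'] [IsIntegrallyClosed A'] [IsLocalRing A'] [Algebra A A']
    [Algebra.IsIntegral A A'] [Field K] [Algebra A K] [IsFractionRing A K] [Algebra A' K]
    [IsScalarTower A A' K] (hA'K : Function.Injective (algebraMap A' K))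
    [CommRing B] [IsDomain B] [Algebra A B] (hinj : Function.Injective (algebraMap A B))
    [Algebra.IsIntegral A B] (n : Ideal B) [n.IsPrime]
    (hn : n.comap (algebraMap A B) = maximalIdeal A) (p : Ideal A) [p.IsPrime] :
    ∃ q : Ideal B, q.IsPrime ∧ q ≤ n ∧ q.comap (algebraMap A B) = p := by
  classical
  let L := FractionRing B
  have hinjL : Function.Injective (algebraMap A L) := by
    rw [IsScalarTower.algebraMap_eq A B L]
    exact (IsFractionRing.injective B L).comp hinj
  let φ : K →ₐ[A] L := IsFractionRing.liftAlgHom (g := Algebra.ofId A L) hinjL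
  let B' : Subalgebra A L := integralClosure A L
  let ιB : B →ₐ[A] B' := (IsScalarTower.toAlgHom A B L).codRestrict B' (fun b =>
    (Algebra.IsIntegral.isIntegral (R := A) b).map (IsScalarTower.toAlgHom A B L))
  let ιA' : A' →ₐ[A] B' := (φ.comp (IsScalarTower.toAlgHom A A' K)).codRestrict B' (fun x =>
    (Algebra.IsIntegral.isIntegral (R := A) x).map (φ.comp (IsScalarTower.toAlgHom A A' K)))
  have hιB : Function.Injective ιB := by
    intro x y h
    exact IsFractionRing.injective B L (congrArg Subtype.val h)
  have hιA' : Function.Injective ιA' := by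
    intro x y h
    have h1 : φ (algebraMap A' K x) = φ (algebraMap A' K y) := congrArg Subtype.val h
    exact hA'K (φ.toRingHom.injective h1)
  let _ : Algebra A' B' := ιA'.toRingHom.toAlgebra
  have htA' : IsScalarTower A A' B' := IsScalarTower.of_algebraMap_eq fun a => (ιA'.commutes a).symm
  let _ : Algebra B B' := ιB.toRingHom.toAlgebra
  have htB : IsScalarTower A B B' := IsScalarTower.of_algebraMap_eq fun a => (ιB.commutes a).symm
  have hintA' : Algebra.IsIntegral A' B' := Algebra.IsIntegral.tower_top (R := A)
  have hintB : Algebra.IsIntegral B B' := Algebra.IsIntegral.tower_top (R := A)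
  have hfsA' : FaithfulSMul A' B' := (faithfulSMul_iff_algebraMap_injective A' B').mpr hιA'
  have hfsB : FaithfulSMul B B' := (faithfulSMul_iff_algebraMap_injective B B').mpr hιB
  have hGD : Algebra.HasGoingDown A' B' := inferInstance
  -- a prime of `B'` over `n`
  obtain ⟨n', -, hn'prime, hn'⟩ := Ideal.exists_ideal_over_prime_of_isIntegral n (⊥ : Ideal B') (by
    intro b hb
    rw [Ideal.mem_comap, Ideal.mem_bot] at hb
    have : b = 0 := hιB (hb.trans (map_zero _).symm)
    rw [this]
    exact Ideal.zero_mem _)
  -- its contraction to `A'` is the maximal ideal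
  have hn'A : (n'.comap (algebraMap A' B')).comap (algebraMap A A') = maximalIdeal A := by
    rw [Ideal.comap_comap, ← IsScalarTower.algebraMap_eq A A' B',
      IsScalarTower.algebraMap_eq A B B', ← Ideal.comap_comap, hn', hn]
  have hmax : (n'.comap (algebraMap A' B')).IsMaximal := by
    have hpr : (n'.comap (algebraMap A' B')).IsPrime := Ideal.comap_isPrime _ _
    exact Ideal.isMaximal_of_isIntegral_of_isMaximal_comap _
      (hn'A ▸ maximalIdeal.isMaximal A)
  have hn'A' : n'.comap (algebraMap A' B') = maximalIdeal A' := IsLocalRing.eq_maximalIdeal hmax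
  -- a prime of `A'` over `p`
  have hinjAA' : Function.Injective (algebraMap A A') := by
    intro x y h
    have h1 : algebraMap A K x = algebraMap A K y := by
      rw [IsScalarTower.algebraMap_apply A A' K, IsScalarTower.algebraMap_apply A A' K, h]
    exact IsFractionRing.injective A K h1
  obtain ⟨p', -, hp'prime, hp'⟩ := Ideal.exists_ideal_over_prime_of_isIntegral p (⊥ : Ideal A') (by
    intro a ha
    rw [Ideal.mem_comap, Ideal.mem_bot] at ha
    have : a = 0 := hinjAA' (ha.trans (map_zero _).symm)
    rw [this]
    exact Ideal.zero_mem _)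
  have hle : p' ≤ maximalIdeal A' := IsLocalRing.le_maximalIdeal hp'prime.ne_top
  have hlo : n'.LiesOver (maximalIdeal A') := ⟨hn'A'.symm⟩
  obtain ⟨q', hq'le, hq'prime, hq'lo⟩ := Ideal.exists_ideal_le_liesOver_of_le n' hle
  refine ⟨q'.comap (algebraMap B B'), Ideal.comap_isPrime _ _, ?_, ?_⟩
  · rw [← hn']
    exact Ideal.comap_mono hq'le
  · rw [Ideal.comap_comap, ← IsScalarTower.algebraMap_eq A B B',
      IsScalarTower.algebraMap_eq A A' B', ← Ideal.comap_comap]
    have : q'.comap (algebraMap A' B') = p' := (hq'lo.over).symm
    rw [this, hp']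

end Groth.Agent.Lib.Helper4.Unibr
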