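import Mathlib

/-!
# Sums over sorted tuples versus sums over all tuples

Combinatorial reductions used for the Verlinde-type character sums: for a function `G` on
`Fin r → Fin N` that is symmetric, invariant under the diagonal shift and vanishing on non-injective
tuples, the sum over strictly antitone tuples containing a given value is `r / (N * r!)` times the
full sum.
-/

set_option autoImplicit false

open Finset

namespace Groth.Agent.Lib.Helper4.Verlinde

variable {r N : ℕ} {A : Type*} [CommRing A]

/-- every injective tuple can be sorted into a strictly antitone one -/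
theorem exists_perm_strictAnti (v : Fin r → Fin N) (hv : Function.Injective v) :
    ∃ ρ : Equiv.Perm (Fin r), StrictAnti (v ∘ ρ) := by
  refine ⟨Fin.revPerm.trans (Tuple.sort v), ?_⟩
  have h1 : StrictMono (v ∘ Tuple.sort v) :=
    (Tuple.monotone_sort v).strictMono_of_injective (hv.comp (Tuple.sort v).injective)
  intro a b hab
  have : Fin.rev b < Fin.rev a := Fin.rev_lt_rev.mpr hab
  simpa using h1 this

/-- sum over injective tuples = `r!` times the sum over strictly antitone tuples,
for a symmetric function -/
theorem sum_injective_eq (H : (Fin r → Fin N) → A)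
    (hsym : ∀ (π : Equiv.Perm (Fin r)) (w : Fin r → Fin N), H (w ∘ π) = H w) :
    ∑ w ∈ univ.filter (fun w : Fin r → Fin N => Function.Injective w), H w =
      (r.factorial : A) * ∑ w ∈ univ.filter (fun w : Fin r → Fin N => StrictAnti w), H w := by
  classical
  have h1 : (r.factorial : A) * ∑ w ∈ univ.filter (fun w : Fin r → Fin N => StrictAnti w), H w =
      ∑ x ∈ (univ : Finset (Equiv.Perm (Fin r))) ×ˢ
        univ.filter (fun w : Fin r → Fin N => StrictAnti w), H (x.2 ∘ x.1) := by
    rw [Finset.sum_product]
    simp only [hsym, Finset.sum_const, Finset.card_univ, Fintype.card_perm, Fintype.card_fin,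
      nsmul_eq_mul]
  rw [h1]
  symm
  refine Finset.sum_nbij (fun x => x.2 ∘ x.1) ?_ ?_ ?_ (fun _ _ => rfl)
  · intro x hx
    simp only [Finset.mem_product, Finset.mem_univ, Finset.mem_filter, true_and] at hx
    simp only [Finset.mem_filter, Finset.mem_univ, true_and]
    exact hx.injective.comp x.1.injective
  · rintro ⟨σ, w⟩ hx ⟨σ', w'⟩ hx' hxx'
    simp only [Finset.coe_product, Finset.coe_univ, Finset.coe_filter, Finset.mem_univ, true_and,
      Set.mem_prod, Set.mem_univ, Set.mem_ofPred_eq] at hx hx'
    simp only at hxx'
    have hrange : Set.range w = Set.range w' := by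
      have := congrArg Set.range hxx'
      rwa [Set.range_comp, Set.range_comp, σ.range_eq_univ, σ'.range_eq_univ, Set.image_univ,
        Set.image_univ] at this
    have hww' : w = w' := (hx.range_inj hx').mp hrange
    subst hww'
    have : σ = σ' := by
      ext i
      have := congrFun hxx' i
      simp only [Function.comp_apply] at this
      exact congrArg Fin.val (hx.injective this)
    rw [this]
  · intro v hv
    simp only [Finset.coe_filter, Finset.mem_univ, true_and, Set.mem_ofPred_eq] at hv
    obtain ⟨ρ, hρ⟩ := exists_perm_strictAnti v hv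
    refine ⟨(ρ⁻¹, v ∘ ρ), ?_, ?_⟩
    · simp only [Finset.coe_product, Finset.coe_univ, Finset.coe_filter, Finset.mem_univ, true_and,
        Set.mem_prod, Set.mem_univ, Set.mem_ofPred_eq]
      exact hρ
    · ext i
      simp

variable [NeZero N]

/-- the reduction lemma: sum over strictly antitone tuples containing `t₀` -/
theorem reduction (G : (Fin r → Fin N) → A)
    (hsym : ∀ (π : Equiv.Perm (Fin r)) (w : Fin r → Fin N), G (w ∘ π) = G w)
    (hshift : ∀ (s : Fin N) (w : Fin r → Fin N), G (fun j => w j + s) = G w)
    (hvan : ∀ w : Fin r → Fin N, ¬ Function.Injective w → G w = 0) (t₀ : Fin N) :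
    (N : A) * (r.factorial : A) *
        ∑ w ∈ univ.filter (fun w : Fin r → Fin N => StrictAnti w ∧ t₀ ∈ Set.range w), G w =
      (r : A) * ∑ w : Fin r → Fin N, G w := by
  classical
  -- step 1: pass to `H`
  set H : (Fin r → Fin N) → A := fun w => if t₀ ∈ Set.range w then G w else 0 with hH
  have hHsym : ∀ (π : Equiv.Perm (Fin r)) (w : Fin r → Fin N), H (w ∘ π) = H w := by
    intro π w
    have hr' : Set.range (w ∘ π) = Set.range w := by
      rw [Set.range_comp, π.range_eq_univ, Set.image_univ]
    simp only [hH, hsym, hr']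
  have e1 : ∑ w ∈ univ.filter (fun w : Fin r → Fin N => StrictAnti w ∧ t₀ ∈ Set.range w), G w =
      ∑ w ∈ univ.filter (fun w : Fin r → Fin N => StrictAnti w), H w := by
    rw [← Finset.filter_filter, Finset.sum_filter]
  rw [e1, mul_assoc, ← sum_injective_eq H hHsym]
  -- step 2: count
  have e2 : ∑ w ∈ univ.filter (fun w : Fin r → Fin N => Function.Injective w), H w =
      ∑ j : Fin r, ∑ w : Fin r → Fin N, if w j = t₀ then G w else 0 := by
    rw [Finset.sum_comm, Finset.sum_filter]
    refine Finset.sum_congr rfl (fun w _ => ?_)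
    by_cases hw : Function.Injective w
    · rw [if_pos hw]
      by_cases ht : t₀ ∈ Set.range w
      · obtain ⟨j₀, hj₀⟩ := ht
        have : H w = G w := by simp only [hH]; rw [if_pos ⟨j₀, hj₀⟩]
        rw [this, Finset.sum_eq_single j₀]
        · rw [if_pos hj₀]
        · intro j _ hj
          rw [if_neg]
          intro h
          exact hj (hw (h.trans hj₀.symm))
        · intro h; exact absurd (Finset.mem_univ _) h
      · have : H w = 0 := by simp only [hH]; rw [if_neg ht]
        rw [this]
        symm
        refine Finset.sum_eq_zero (fun j _ => ?_)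
        rw [if_neg]
        intro h
        exact ht ⟨j, h⟩
    · rw [if_neg hw, hvan w hw]
      simp
  rw [e2, Finset.mul_sum]
  -- step 3: shift
  have e3 : ∀ j : Fin r, (N : A) * ∑ w : Fin r → Fin N, (if w j = t₀ then G w else 0) =
      ∑ w : Fin r → Fin N, G w := by
    intro j
    have h1 : ∀ s : Fin N, ∑ w : Fin r → Fin N, (if w j = s then G w else 0) =
        ∑ w : Fin r → Fin N, (if w j = t₀ then G w else 0) := by
      intro s
      rw [← Equiv.sum_comp (Equiv.addRight (fun _ : Fin r => s - t₀))]
      refine Finset.sum_congr rfl (fun w _ => ?_)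
      have h2 : (Equiv.addRight (fun _ : Fin r => s - t₀)) w = fun j => w j + (s - t₀) := by
        ext i; simp
      rw [h2, hshift]
      have : (w j + (s - t₀) = s) ↔ w j = t₀ := by
        constructor
        · intro h
          have : w j = s - (s - t₀) := eq_sub_of_add_eq h
          rw [this, sub_sub_cancel]
        · intro h; rw [h]; abel
      simp only [this]
    have h3 : ∑ w : Fin r → Fin N, G w =
        ∑ s : Fin N, ∑ w : Fin r → Fin N, (if w j = s then G w else 0) := by
      rw [Finset.sum_comm]
      refine Finset.sum_congr rfl (fun w _ => ?_)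
      simp
    rw [h3]
    simp only [h1, Finset.sum_const, Finset.card_univ, Fintype.card_fin, nsmul_eq_mul]
  simp only [e3, Finset.sum_const, Finset.card_univ, Fintype.card_fin, nsmul_eq_mul]

omit [NeZero N] in
/-- sum over all strictly antitone tuples -/
theorem reduction_all (G : (Fin r → Fin N) → A)
    (hsym : ∀ (π : Equiv.Perm (Fin r)) (w : Fin r → Fin N), G (w ∘ π) = G w)
    (hvan : ∀ w : Fin r → Fin N, ¬ Function.Injective w → G w = 0) :
    (r.factorial : A) * ∑ w ∈ univ.filter (fun w : Fin r → Fin N => StrictAnti w), G w =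
      ∑ w : Fin r → Fin N, G w := by
  classical
  rw [← sum_injective_eq G hsym, Finset.sum_filter]
  refine Finset.sum_congr rfl (fun w _ => ?_)
  by_cases hw : Function.Injective w
  · rw [if_pos hw]
  · rw [if_neg hw, hvan w hw]

/-- membership in the index set `B` of the Verlinde sums -/
theorem mem_B_iff (hr : 1 ≤ r) (w : Fin r → Fin N) :
    (StrictAnti w ∧ ∀ i : Fin r, (i : ℕ) = r - 1 → (w i : ℕ) = 0) ↔
      (StrictAnti w ∧ (0 : Fin N) ∈ Set.range w) := by
  constructor
  · rintro ⟨h1, h2⟩
    refine ⟨h1, ⟨⟨r - 1, by omega⟩, ?_⟩⟩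
    apply Fin.ext
    rw [h2 _ rfl]
    rfl
  · rintro ⟨h1, ⟨i₀, hi₀⟩⟩
    refine ⟨h1, fun i hi => ?_⟩
    have hle : i₀ ≤ i := by
      rw [Fin.le_def, hi]
      have := i₀.isLt
      omega
    have h3 : w i ≤ w i₀ := h1.antitone hle
    rw [hi₀] at h3
    have : w i = 0 := le_antisymm h3 (Fin.le_def.mpr (by simp))
    rw [this]
    rfl

end Groth.Agent.Lib.Helper4.Verlinde
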