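import Mathlib
import Groth.Agent.Lib.Helper4.VerlindeSort

/-!
# Characters of `ℤ / N` and the determinants `det (ζ ^ (p i * w j))`
-/

set_option autoImplicit false

open Finset Complex

namespace Groth.Agent.Lib.Helper4.Verlinde

/-- the additive character `m ↦ exp (2 π i m / N)` -/
noncomputable def chi (N : ℕ) (m : ℤ) : ℂ :=
  Complex.exp (2 * (Real.pi : ℂ) * Complex.I * (m : ℂ) / (N : ℂ))

variable {N : ℕ}

theorem chi_zero : chi N 0 = 1 := by simp [chi]

theorem chi_add (m m' : ℤ) : chi N (m + m') = chi N m * chi N m' := by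
  unfold chi
  rw [← Complex.exp_add]
  congr 1
  push_cast
  ring

theorem chi_neg (m : ℤ) : chi N (-m) = (chi N m)⁻¹ := by
  unfold chi
  rw [← Complex.exp_neg]
  congr 1
  push_cast
  ring

theorem chi_sub (m m' : ℤ) : chi N (m - m') = chi N m * (chi N m')⁻¹ := by
  rw [sub_eq_add_neg, chi_add, chi_neg]

theorem chi_ne_zero (m : ℤ) : chi N m ≠ 0 := Complex.exp_ne_zero _

theorem chi_pow (m : ℤ) (n : ℕ) : chi N m ^ n = chi N (n * m) := by
  unfold chi
  rw [← Complex.exp_nat_mul]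
  congr 1
  push_cast
  ring

theorem chi_sum {ι : Type*} (s : Finset ι) (f : ι → ℤ) :
    chi N (∑ j ∈ s, f j) = ∏ j ∈ s, chi N (f j) := by
  classical
  induction s using Finset.induction_on with
  | empty => simp [chi_zero]
  | insert a s ha ih => rw [Finset.sum_insert ha, Finset.prod_insert ha, chi_add, ih]

theorem conj_chi (m : ℤ) : (starRingEnd ℂ) (chi N m) = chi N (-m) := by
  unfold chi
  rw [← Complex.exp_conj]
  congr 1
  simp only [map_div₀, map_mul, Complex.conj_ofReal, Complex.conj_I, map_natCast,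
    map_ofNat, map_intCast]
  push_cast
  ring

theorem normSq_chi (m : ℤ) : chi N m * (starRingEnd ℂ) (chi N m) = 1 := by
  rw [conj_chi, ← chi_add, add_neg_cancel, chi_zero]

variable [NeZero N]

theorem chi_eq_one_iff (m : ℤ) : chi N m = 1 ↔ (N : ℤ) ∣ m := by
  unfold chi
  rw [Complex.exp_eq_one_iff]
  have hN : (N : ℂ) ≠ 0 := Nat.cast_ne_zero.mpr (NeZero.ne N)
  have hpi : (2 * (Real.pi : ℂ) * Complex.I) ≠ 0 := Complex.two_pi_I_ne_zero
  constructor
  · rintro ⟨n, hn⟩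
    refine ⟨n, ?_⟩
    have h1 : (m : ℂ) = (N : ℂ) * (n : ℂ) := by
      field_simp at hn
      exact hn
    exact_mod_cast h1
  · rintro ⟨n, rfl⟩
    refine ⟨n, ?_⟩
    push_cast
    field_simp

theorem chi_mul_self (m : ℤ) : chi N ((N : ℤ) * m) = 1 :=
  (chi_eq_one_iff _).mpr (dvd_mul_right _ _)

theorem chi_mod (e : ℤ) (a : ℕ) : chi N (e * ((a % N : ℕ) : ℤ)) = chi N (e * (a : ℤ)) := by
  have h1 : (a : ℤ) = ((a % N : ℕ) : ℤ) + (N : ℤ) * ((a / N : ℕ) : ℤ) := by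
    exact_mod_cast (Nat.mod_add_div a N).symm
  have h2 : e * (a : ℤ) = e * ((a % N : ℕ) : ℤ) + (N : ℤ) * (e * ((a / N : ℕ) : ℤ)) := by
    rw [h1]
    ring
  rw [h2, chi_add, chi_mul_self, mul_one]

theorem chi_fin_add (e : ℤ) (a b : Fin N) :
    chi N (e * (((a + b : Fin N) : ℕ) : ℤ)) = chi N (e * ((a : ℕ) : ℤ)) * chi N (e * ((b : ℕ) : ℤ)) := by
  rw [Fin.val_add, chi_mod, ← chi_add]
  congr 1
  push_cast
  ring

theorem sum_chi (e : ℤ) :
    ∑ t : Fin N, chi N (e * ((t : ℕ) : ℤ)) = if (N : ℤ) ∣ e then (N : ℂ) else 0 := by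
  have h1 : ∀ t : Fin N, chi N (e * ((t : ℕ) : ℤ)) = chi N e ^ (t : ℕ) := by
    intro t
    rw [chi_pow, mul_comm]
  simp only [h1]
  rw [Fin.sum_univ_eq_sum_range (fun t => chi N e ^ t) N]
  split_ifs with h
  · rw [(chi_eq_one_iff e).mpr h]
    simp
  · have hne : chi N e ≠ 1 := fun h' => h ((chi_eq_one_iff e).mp h')
    rw [geom_sum_eq hne, chi_pow, chi_mul_self, sub_self, zero_div]

/-! ### The determinants -/

variable {r : ℕ}

/-- `D N p w = det (ζ ^ (p i * w j))` with `ζ = exp (2 π i / N)` -/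
noncomputable def D (N : ℕ) {r : ℕ} (p w : Fin r → ℕ) : ℂ :=
  (Matrix.of fun i j : Fin r => chi N ((p i : ℤ) * (w j : ℤ))).det

omit [NeZero N] in
theorem D_transpose (p w : Fin r → ℕ) : D N p w = D N w p := by
  unfold D
  rw [← Matrix.det_transpose]
  congr 1
  ext i j
  simp [mul_comm]

omit [NeZero N] in
theorem D_comp_perm (p w : Fin r → ℕ) (π : Equiv.Perm (Fin r)) :
    D N p (w ∘ π) = (Equiv.Perm.sign π : ℂ) * D N p w := by
  unfold D
  have := Matrix.det_permute' π (Matrix.of fun i j : Fin r => chi N ((p i : ℤ) * (w j : ℤ)))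
  rw [← this]
  congr 1

omit [NeZero N] in
theorem D_comp_perm_left (p w : Fin r → ℕ) (π : Equiv.Perm (Fin r)) :
    D N (p ∘ π) w = (Equiv.Perm.sign π : ℂ) * D N p w := by
  rw [D_transpose, D_comp_perm, D_transpose]

omit [NeZero N] in
theorem D_eq_zero_of_not_injective (p w : Fin r → ℕ) (hw : ¬ Function.Injective w) :
    D N p w = 0 := by
  unfold Function.Injective at hw
  push Not at hw
  obtain ⟨a, b, hab, hne⟩ := hw
  unfold D
  refine Matrix.det_zero_of_column_eq hne (fun k => ?_)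
  simp [hab]

omit [NeZero N] in
theorem D_expand (p w : Fin r → ℕ) :
    D N p w = ∑ σ : Equiv.Perm (Fin r), (Equiv.Perm.sign σ : ℂ) *
      ∏ j, chi N ((p (σ j) : ℤ) * (w j : ℤ)) := by
  unfold D
  rw [Matrix.det_apply']
  simp

omit [NeZero N] in
theorem conj_D_expand (p w : Fin r → ℕ) :
    (starRingEnd ℂ) (D N p w) = ∑ σ : Equiv.Perm (Fin r), (Equiv.Perm.sign σ : ℂ) *
      ∏ j, chi N (-((p (σ j) : ℤ) * (w j : ℤ))) := by
  rw [D_expand, map_sum]
  refine Finset.sum_congr rfl (fun σ _ => ?_)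
  rw [map_mul, map_prod]
  congr 1
  · simp
  · refine Finset.prod_congr rfl (fun j _ => ?_)
    rw [conj_chi]

theorem D_shift (p : Fin r → ℕ) (w : Fin r → Fin N) (s : Fin N) :
    D N p (fun j => ((w j + s : Fin N) : ℕ)) =
      chi N (((∑ i, p i : ℕ) : ℤ) * ((s : ℕ) : ℤ)) * D N p (fun j => (w j : ℕ)) := by
  unfold D
  have h1 : (Matrix.of fun i j : Fin r => chi N ((p i : ℤ) * (((w j + s : Fin N) : ℕ) : ℤ))) =
      Matrix.of fun i j : Fin r => chi N ((p i : ℤ) * ((s : ℕ) : ℤ)) *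
        (Matrix.of fun i j : Fin r => chi N ((p i : ℤ) * ((w j : ℕ) : ℤ))) i j := by
    ext i j
    simp only [Matrix.of_apply]
    rw [chi_fin_add, mul_comm]
  rw [h1, Matrix.det_mul_column]
  congr 1
  rw [← chi_sum]
  congr 1
  push_cast
  rw [Finset.sum_mul]

omit [NeZero N] in
/-- duality: reversing and complementing the exponents -/
theorem D_dual (p w : Fin r → ℕ) (M : ℕ) (hM : ∀ i, p i ≤ M) :
    D N (fun i => M - p (Fin.rev i)) w =
      (Equiv.Perm.sign (Fin.revPerm : Equiv.Perm (Fin r)) : ℂ) *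
        chi N ((M : ℤ) * ((∑ j, w j : ℕ) : ℤ)) * (starRingEnd ℂ) (D N p w) := by
  have h0 : (starRingEnd ℂ) (D N p w) =
      (Matrix.of fun i j : Fin r => chi N (-((p i : ℤ) * (w j : ℤ)))).det := by
    unfold D
    rw [RingHom.map_det]
    congr 1
    ext i j
    simp [conj_chi]
  have h1 : (Matrix.of fun i j : Fin r => chi N (((M - p (Fin.rev i) : ℕ) : ℤ) * (w j : ℤ))) =
      Matrix.of fun i j : Fin r => chi N ((M : ℤ) * (w j : ℤ)) *
        ((Matrix.of fun i j : Fin r => chi N (-((p i : ℤ) * (w j : ℤ)))).submatrix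
          (Fin.revPerm : Equiv.Perm (Fin r)) id) i j := by
    ext i j
    simp only [Matrix.of_apply, Matrix.submatrix_apply, id_eq, Fin.revPerm_apply]
    rw [← chi_add]
    congr 1
    rw [Nat.cast_sub (hM _)]
    ring
  unfold D at h0 ⊢
  rw [h1, Matrix.det_mul_row, Matrix.det_permute, h0, ← chi_sum]
  have h2 : ((M : ℤ) * ((∑ j, w j : ℕ) : ℤ)) = ∑ j, (M : ℤ) * (w j : ℤ) := by
    push_cast
    rw [Finset.mul_sum]
  rw [h2]
  ring

/-- the full character sum -/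
theorem sum_all (p p' : Fin r → ℕ) (c₀ : ℤ) :
    ∑ w : Fin r → Fin N, chi N (-(c₀ * ((∑ j, (w j : ℕ) : ℕ) : ℤ))) *
        D N p (fun j => (w j : ℕ)) * (starRingEnd ℂ) (D N p' (fun j => (w j : ℕ))) =
      ∑ σ : Equiv.Perm (Fin r), ∑ τ : Equiv.Perm (Fin r),
        (Equiv.Perm.sign σ : ℂ) * (Equiv.Perm.sign τ : ℂ) *
          ∏ j, (if (N : ℤ) ∣ (p (σ j) : ℤ) - (p' (τ j) : ℤ) - c₀ then (N : ℂ) else 0) := by
  classical
  have h1 : ∀ w : Fin r → Fin N, chi N (-(c₀ * ((∑ j, (w j : ℕ) : ℕ) : ℤ))) *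
        D N p (fun j => (w j : ℕ)) * (starRingEnd ℂ) (D N p' (fun j => (w j : ℕ))) =
      ∑ σ : Equiv.Perm (Fin r), ∑ τ : Equiv.Perm (Fin r),
        (Equiv.Perm.sign σ : ℂ) * (Equiv.Perm.sign τ : ℂ) *
          ∏ j, chi N (((p (σ j) : ℤ) - (p' (τ j) : ℤ) - c₀) * ((w j : ℕ) : ℤ)) := by
    intro w
    rw [D_expand, conj_D_expand]
    have h2 : chi N (-(c₀ * ((∑ j, (w j : ℕ) : ℕ) : ℤ))) =
        ∏ j, chi N (-(c₀ * ((w j : ℕ) : ℤ))) := by
      rw [← chi_sum]
      congr 1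
      push_cast
      rw [Finset.mul_sum, Finset.sum_neg_distrib]
    rw [h2]
    simp only [Finset.mul_sum, Finset.sum_mul]
    rw [Finset.sum_comm]
    refine Finset.sum_congr rfl (fun σ _ => ?_)
    refine Finset.sum_congr rfl (fun τ _ => ?_)
    have h3 : ∀ j, chi N (((p (σ j) : ℤ) - (p' (τ j) : ℤ) - c₀) * ((w j : ℕ) : ℤ)) =
        chi N (-(c₀ * ((w j : ℕ) : ℤ))) * chi N ((p (σ j) : ℤ) * ((w j : ℕ) : ℤ)) *
          chi N (-((p' (τ j) : ℤ) * ((w j : ℕ) : ℤ))) := by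
      intro j
      rw [← chi_add, ← chi_add]
      congr 1
      ring
    simp only [h3, Finset.prod_mul_distrib]
    ring
  simp only [h1]
  rw [Finset.sum_comm]
  refine Finset.sum_congr rfl (fun σ _ => ?_)
  rw [Finset.sum_comm]
  refine Finset.sum_congr rfl (fun τ _ => ?_)
  rw [← Finset.mul_sum]
  congr 1
  have h4 := Finset.prod_univ_sum (fun _ : Fin r => (Finset.univ : Finset (Fin N)))
    (fun j t => chi N (((p (σ j) : ℤ) - (p' (τ j) : ℤ) - c₀) * ((t : ℕ) : ℤ)))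
  rw [Fintype.piFinset_univ] at h4
  rw [← h4]
  refine Finset.prod_congr rfl (fun j _ => ?_)
  rw [sum_chi]

end Groth.Agent.Lib.Helper4.Verlinde
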