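import Mathlib
import Groth.Agent.Lib.Helper4.VerlindeChar

/-!
# Twisted orthogonality of the determinants `D N p w` over the Verlinde index set
-/

set_option autoImplicit false

open Finset Complex

namespace Groth.Agent.Lib.Helper4.Verlinde

variable {N : ℕ} [NeZero N] {r : ℕ}

/-- the product `D p w * conj (D p' w)` -/
noncomputable def G0 (N : ℕ) {r : ℕ} (p p' : Fin r → ℕ) (w : Fin r → Fin N) : ℂ :=
  D N p (fun j => (w j : ℕ)) * (starRingEnd ℂ) (D N p' (fun j => (w j : ℕ)))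

omit [NeZero N] in
theorem sign_mul_self (π : Equiv.Perm (Fin r)) :
    ((Equiv.Perm.sign π : ℤˣ) : ℂ) * ((Equiv.Perm.sign π : ℤˣ) : ℂ) = 1 := by
  rcases Int.units_eq_one_or (Equiv.Perm.sign π) with h | h <;> simp [h]

omit [NeZero N] in
theorem G0_comp_perm (p p' : Fin r → ℕ) (w : Fin r → Fin N) (π : Equiv.Perm (Fin r)) :
    G0 N p p' (w ∘ π) = G0 N p p' w := by
  unfold G0
  have h1 : (fun j => ((w ∘ π) j : ℕ)) = (fun j => (w j : ℕ)) ∘ π := rfl
  rw [h1, D_comp_perm, D_comp_perm, map_mul]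
  have h2 : (starRingEnd ℂ) ((Equiv.Perm.sign π : ℤˣ) : ℂ) = ((Equiv.Perm.sign π : ℤˣ) : ℂ) := by
    rcases Int.units_eq_one_or (Equiv.Perm.sign π) with h | h <;> simp [h]
  rw [h2]
  have := sign_mul_self π
  linear_combination (D N p (fun j => (w j : ℕ)) *
    (starRingEnd ℂ) (D N p' (fun j => (w j : ℕ)))) * this

omit [NeZero N] in
theorem G0_eq_zero (p p' : Fin r → ℕ) (w : Fin r → Fin N) (hw : ¬ Function.Injective w) :
    G0 N p p' w = 0 := by
  unfold G0
  rw [D_eq_zero_of_not_injective, zero_mul]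
  intro h
  apply hw
  intro a b hab
  apply h
  simp only
  rw [hab]

theorem G0_shift (p p' : Fin r → ℕ) (w : Fin r → Fin N) (s : Fin N) :
    G0 N p p' (fun j => w j + s) =
      chi N ((((∑ i, p i : ℕ) : ℤ) - ((∑ i, p' i : ℕ) : ℤ)) * ((s : ℕ) : ℤ)) * G0 N p p' w := by
  unfold G0
  rw [D_shift, D_shift, map_mul, conj_chi, sub_mul, chi_sub, ← chi_neg]
  ring

/-- the combinatorial heart: no pair of permutations matches the exponents mod `N` -/
theorem comb (p p' : Fin r → ℕ) (hp : StrictAnti p) (hp' : StrictAnti p')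
    (hpN : ∀ i, p i < N) (hp'N : ∀ i, p' i < N) (c₀ : ℤ)
    (hc : ((∑ i, p i : ℕ) : ℤ) - ((∑ i, p' i : ℕ) : ℤ) = (r : ℤ) * c₀)
    (σ τ : Equiv.Perm (Fin r))
    (h : ∀ j, (N : ℤ) ∣ (p (σ j) : ℤ) - (p' (τ j) : ℤ) - c₀) :
    ∀ i, (p i : ℤ) - (p' i : ℤ) = c₀ := by
  classical
  have hNpos : (0 : ℤ) < (N : ℤ) := by exact_mod_cast Nat.pos_of_ne_zero (NeZero.ne N)
  choose q hq using h
  have hsum : ∑ j, q j = 0 := by
    have h1 : ∑ j, ((p (σ j) : ℤ) - (p' (τ j) : ℤ) - c₀) = 0 := by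
      rw [Finset.sum_sub_distrib, Finset.sum_sub_distrib,
        Equiv.sum_comp σ (fun i => (p i : ℤ)), Equiv.sum_comp τ (fun i => (p' i : ℤ))]
      simp only [Finset.sum_const, Finset.card_univ, Fintype.card_fin, nsmul_eq_mul]
      push_cast at hc
      linarith
    simp only [hq] at h1
    rw [← Finset.mul_sum] at h1
    rcases mul_eq_zero.mp h1 with h2 | h2
    · omega
    · exact h2
  have hbd : ∀ j, -(N : ℤ) < (p (σ j) : ℤ) - (p' (τ j) : ℤ) ∧
      (p (σ j) : ℤ) - (p' (τ j) : ℤ) < (N : ℤ) := by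
    intro j
    have h1 := hpN (σ j)
    have h2 := hp'N (τ j)
    constructor <;> omega
  have hq0 : ∀ j, q j = 0 := by
    rcases le_or_gt 0 c₀ with hc0 | hc0
    · have hle : ∀ j ∈ (Finset.univ : Finset (Fin r)), q j ≤ 0 := by
        intro j _
        have h1 := hq j
        have h2 := (hbd j).2
        by_contra hcon
        push Not at hcon
        have : (N : ℤ) * 1 ≤ (N : ℤ) * q j := mul_le_mul_of_nonneg_left hcon hNpos.le
        linarith
      intro j
      exact (Finset.sum_eq_zero_iff_of_nonpos hle).mp hsum j (Finset.mem_univ _)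
    · have hge : ∀ j ∈ (Finset.univ : Finset (Fin r)), 0 ≤ q j := by
        intro j _
        have h1 := hq j
        have h2 := (hbd j).1
        by_contra hcon
        push Not at hcon
        have : (N : ℤ) * q j ≤ (N : ℤ) * (-1) :=
          mul_le_mul_of_nonneg_left (by omega) hNpos.le
        linarith
      intro j
      exact (Finset.sum_eq_zero_iff_of_nonneg hge).mp hsum j (Finset.mem_univ _)
  have heq : ∀ j, (p (σ j) : ℤ) - (p' (τ j) : ℤ) = c₀ := by
    intro j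
    have h1 := hq j
    rw [hq0 j, mul_zero] at h1
    linarith
  -- the permutation `ρ = τ ∘ σ⁻¹` is strictly monotone, hence the identity
  set ρ : Equiv.Perm (Fin r) := σ⁻¹.trans τ with hρ
  have heq' : ∀ i, (p i : ℤ) - (p' (ρ i) : ℤ) = c₀ := by
    intro i
    have := heq (σ⁻¹ i)
    simpa [hρ] using this
  have hmono : StrictMono ρ := by
    intro a b hab
    have h1 : p b < p a := hp hab
    have h2 := heq' a
    have h3 := heq' b
    have h4 : p' (ρ b) < p' (ρ a) := by omega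
    exact hp'.lt_iff_gt.mp h4
  have hid : (ρ : Fin r → Fin r) = id := by
    apply (hmono.range_inj strictMono_id).mp
    rw [ρ.range_eq_univ, Set.range_id]
  intro i
  have := heq' i
  rw [hid] at this
  exact this

/-- Case B of the core: `r ∣ c` -/
theorem core_dvd (hr : 1 ≤ r) (p p' : Fin r → ℕ) (hp : StrictAnti p) (hp' : StrictAnti p')
    (hpN : ∀ i, p i < N) (hp'N : ∀ i, p' i < N)
    (hne : ¬ ∃ a : ℤ, ∀ i, (p i : ℤ) - (p' i : ℤ) = a) (c₀ : ℤ)
    (hc : ((∑ i, p i : ℕ) : ℤ) - ((∑ i, p' i : ℕ) : ℤ) = (r : ℤ) * c₀) :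
    ∑ w ∈ univ.filter (fun w : Fin r → Fin N =>
        StrictAnti w ∧ ∀ i : Fin r, (i : ℕ) = r - 1 → (w i : ℕ) = 0),
      chi N (-(c₀ * ((∑ j, (w j : ℕ) : ℕ) : ℤ))) * G0 N p p' w = 0 := by
  classical
  set G : (Fin r → Fin N) → ℂ := fun w =>
    chi N (-(c₀ * ((∑ j, (w j : ℕ) : ℕ) : ℤ))) * G0 N p p' w with hG
  have hsym : ∀ (π : Equiv.Perm (Fin r)) (w : Fin r → Fin N), G (w ∘ π) = G w := by
    intro π w
    simp only [hG, G0_comp_perm]
    have : ∑ j, (((w ∘ π) j : Fin N) : ℕ) = ∑ j, ((w j : Fin N) : ℕ) :=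
      Equiv.sum_comp π (fun j => ((w j : Fin N) : ℕ))
    rw [this]
  have hshift : ∀ (s : Fin N) (w : Fin r → Fin N), G (fun j => w j + s) = G w := by
    intro s w
    simp only [hG]
    rw [G0_shift]
    have h1 : chi N (-(c₀ * ((∑ j, ((w j + s : Fin N) : ℕ) : ℕ) : ℤ))) =
        chi N (-(c₀ * ((∑ j, (w j : ℕ) : ℕ) : ℤ))) *
          chi N (-((r : ℤ) * c₀ * ((s : ℕ) : ℤ))) := by
      have e1 : -(c₀ * ((∑ j, ((w j + s : Fin N) : ℕ) : ℕ) : ℤ)) =
          ∑ j, (-c₀) * (((w j + s : Fin N) : ℕ) : ℤ) := by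
        push_cast
        rw [Finset.mul_sum, ← Finset.sum_neg_distrib]
        refine Finset.sum_congr rfl (fun j _ => ?_)
        ring
      rw [e1, chi_sum]
      simp only [chi_fin_add, Finset.prod_mul_distrib, Finset.prod_const, Finset.card_univ,
        Fintype.card_fin]
      rw [← chi_sum, chi_pow]
      congr 2
      · push_cast
        rw [Finset.mul_sum, ← Finset.sum_neg_distrib]
        refine Finset.sum_congr rfl (fun j _ => ?_)
        ring
      · ring
    rw [h1, hc]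
    have h2 : chi N (-((r : ℤ) * c₀ * ((s : ℕ) : ℤ))) * chi N ((r : ℤ) * c₀ * ((s : ℕ) : ℤ)) = 1 := by
      rw [← chi_add, neg_add_cancel, chi_zero]
    linear_combination (chi N (-(c₀ * ((∑ j, (w j : ℕ) : ℕ) : ℤ))) * G0 N p p' w) * h2
  have hvan : ∀ w : Fin r → Fin N, ¬ Function.Injective w → G w = 0 := by
    intro w hw
    simp only [hG, G0_eq_zero p p' w hw, mul_zero]
  have hred := reduction G hsym hshift hvan (0 : Fin N)
  have hall : ∑ w : Fin r → Fin N, G w = 0 := by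
    have := sum_all (N := N) p p' c₀
    simp only [hG, G0, ← mul_assoc]
    rw [this]
    refine Finset.sum_eq_zero (fun σ _ => Finset.sum_eq_zero (fun τ _ => ?_))
    have : ∃ j, ¬ (N : ℤ) ∣ (p (σ j) : ℤ) - (p' (τ j) : ℤ) - c₀ := by
      by_contra hcon
      push Not at hcon
      exact hne ⟨c₀, comb p p' hp hp' hpN hp'N c₀ hc σ τ hcon⟩
    obtain ⟨j, hj⟩ := this
    rw [Finset.prod_eq_zero (Finset.mem_univ j) (by rw [if_neg hj]), mul_zero]
  rw [hall, mul_zero] at hred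
  have hfilter : univ.filter (fun w : Fin r → Fin N =>
        StrictAnti w ∧ ∀ i : Fin r, (i : ℕ) = r - 1 → (w i : ℕ) = 0) =
      univ.filter (fun w : Fin r → Fin N => StrictAnti w ∧ (0 : Fin N) ∈ Set.range w) := by
    ext w
    simp only [Finset.mem_filter, Finset.mem_univ, true_and]
    exact mem_B_iff hr w
  rw [hfilter]
  have hN : (N : ℂ) ≠ 0 := Nat.cast_ne_zero.mpr (NeZero.ne N)
  have hfac : (r.factorial : ℂ) ≠ 0 := Nat.cast_ne_zero.mpr (Nat.factorial_ne_zero r)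
  rcases mul_eq_zero.mp hred with h | h
  · rcases mul_eq_zero.mp h with h | h
    · exact absurd h hN
    · exact absurd h hfac
  · exact h

/-! ### The rotation (case `r ∤ c`) -/

section rotation

variable {n : ℕ}

/-- the rotation of the index set -/
def rot (w : Fin (n + 2) → Fin N) : Fin (n + 2) → Fin N :=
  fun j => w (j - 1) - w (Fin.castSucc (Fin.last n))

/-- the index set, in `Fin (n + 2)` form -/
def IsB (w : Fin (n + 2) → Fin N) : Prop := StrictAnti w ∧ w (Fin.last (n + 1)) = 0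

theorem isB_iff (w : Fin (n + 2) → Fin N) :
    (StrictAnti w ∧ ∀ i : Fin (n + 2), (i : ℕ) = n + 2 - 1 → (w i : ℕ) = 0) ↔ IsB w := by
  unfold IsB
  constructor
  · rintro ⟨h1, h2⟩
    refine ⟨h1, Fin.ext ?_⟩
    rw [h2 (Fin.last (n + 1)) (by simp)]
    rfl
  · rintro ⟨h1, h2⟩
    refine ⟨h1, fun i hi => ?_⟩
    have : i = Fin.last (n + 1) := Fin.ext (by rw [hi]; simp)
    rw [this, h2]
    rfl

theorem t_pos {w : Fin (n + 2) → Fin N} (hw : IsB w) :
    0 < (w (Fin.castSucc (Fin.last n)) : ℕ) := by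
  have h1 : w (Fin.last (n + 1)) < w (Fin.castSucc (Fin.last n)) :=
    hw.1 (Fin.castSucc_lt_last _)
  rw [hw.2] at h1
  exact h1

theorem t_le {w : Fin (n + 2) → Fin N} (hw : IsB w) (j : Fin (n + 2)) (hj : j ≠ Fin.last (n + 1)) :
    w (Fin.castSucc (Fin.last n)) ≤ w j := by
  apply hw.1.antitone
  rw [Fin.le_def]
  have h1 : (j : ℕ) ≠ n + 1 := fun h => hj (Fin.ext (by rw [h]; simp))
  have h2 := j.isLt
  simp only [Fin.val_castSucc, Fin.val_last]
  omega

theorem val_sub_t {w : Fin (n + 2) → Fin N} (hw : IsB w) (j : Fin (n + 2)) :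
    ((w j - w (Fin.castSucc (Fin.last n)) : Fin N) : ℕ) + (w (Fin.castSucc (Fin.last n)) : ℕ) =
      (w j : ℕ) + if j = Fin.last (n + 1) then N else 0 := by
  by_cases hj : j = Fin.last (n + 1)
  · rw [if_pos hj, hj, hw.2]
    have h1 := t_pos hw
    have h2 : (0 : Fin N) < w (Fin.castSucc (Fin.last n)) := h1
    rw [Fin.coe_sub_iff_lt.mpr h2]
    have := (w (Fin.castSucc (Fin.last n))).isLt
    simp only [Fin.val_zero]
    omega
  · rw [if_neg hj, Fin.coe_sub_iff_le.mpr (t_le hw j hj)]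
    have : (w (Fin.castSucc (Fin.last n)) : ℕ) ≤ (w j : ℕ) := t_le hw j hj
    omega

omit [NeZero N] in
theorem sub_one_ne_last (j : Fin (n + 2)) (hj : j ≠ 0) : j - 1 ≠ Fin.last (n + 1) := by
  intro h
  have := congrArg Fin.val h
  rw [Fin.coe_sub_one, if_neg hj] at this
  have h2 := j.isLt
  simp only [Fin.val_last] at this
  omega

theorem rot_isB {w : Fin (n + 2) → Fin N} (hw : IsB w) : IsB (rot w) := by
  refine ⟨?_, ?_⟩
  · intro a b hab
    have hb : b ≠ 0 := by
      intro h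
      rw [h] at hab
      exact absurd hab (Fin.not_lt_zero a)
    rw [Fin.lt_def]
    unfold rot
    have hb1 := val_sub_t hw (b - 1)
    rw [if_neg (sub_one_ne_last b hb)] at hb1
    have ha1 := val_sub_t hw (a - 1)
    by_cases ha : a = 0
    · have : a - 1 = Fin.last (n + 1) := by
        rw [ha]
        apply Fin.ext
        rw [Fin.coe_sub_one]
        simp
      rw [if_pos this, this, hw.2] at ha1
      rw [this, hw.2]
      have := (w (b - 1)).isLt
      simp only [Fin.val_zero] at ha1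
      omega
    · rw [if_neg (sub_one_ne_last a ha)] at ha1
      have hlt : a - 1 < b - 1 := by
        rw [Fin.lt_def, Fin.coe_sub_one, Fin.coe_sub_one, if_neg ha, if_neg hb]
        have h1 : (a : ℕ) ≠ 0 := fun h => ha (Fin.ext h)
        have h2 : (a : ℕ) < (b : ℕ) := hab
        omega
      have h3 : (w (b - 1) : ℕ) < (w (a - 1) : ℕ) := hw.1 hlt
      omega
  · unfold rot
    have : (Fin.last (n + 1) - 1 : Fin (n + 2)) = Fin.castSucc (Fin.last n) := by
      apply Fin.ext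
      rw [Fin.coe_sub_one]
      simp
    rw [this, sub_self]

theorem rot_injOn : Set.InjOn (rot (N := N) (n := n)) {w | IsB w} := by
  intro w hw w' hw' h
  have hw2 : w (Fin.last (n + 1)) = 0 := hw.2
  have hw2' : w' (Fin.last (n + 1)) = 0 := hw'.2
  have h0 := congrFun h 0
  unfold rot at h0
  have hl : (0 - 1 : Fin (n + 2)) = Fin.last (n + 1) := by
    apply Fin.ext
    rw [Fin.coe_sub_one]
    simp
  rw [hl, hw2, hw2', zero_sub, zero_sub, neg_inj] at h0
  ext i
  have hi := congrFun h (i + 1)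
  unfold rot at hi
  rw [add_sub_cancel_right, h0] at hi
  exact congrArg Fin.val (sub_left_injective hi)

theorem sum_rot {w : Fin (n + 2) → Fin N} (hw : IsB w) :
    ∑ j, (rot w j : ℕ) + (n + 2) * (w (Fin.castSucc (Fin.last n)) : ℕ) =
      ∑ j, (w j : ℕ) + N := by
  have h1 : ∑ j, (rot w j : ℕ) =
      ∑ j, ((w j - w (Fin.castSucc (Fin.last n)) : Fin N) : ℕ) := by
    unfold rot
    exact Equiv.sum_comp (Equiv.subRight (1 : Fin (n + 2)))
      (fun j => ((w j - w (Fin.castSucc (Fin.last n)) : Fin N) : ℕ))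
  have h2 : ∑ j : Fin (n + 2), (((w j - w (Fin.castSucc (Fin.last n)) : Fin N) : ℕ) +
      (w (Fin.castSucc (Fin.last n)) : ℕ)) =
      ∑ j : Fin (n + 2), ((w j : ℕ) + if j = Fin.last (n + 1) then N else 0) :=
    Finset.sum_congr rfl (fun j _ => val_sub_t hw j)
  rw [Finset.sum_add_distrib, Finset.sum_add_distrib, Finset.sum_ite_eq' Finset.univ] at h2
  simp only [Finset.sum_const, Finset.card_univ, Fintype.card_fin, smul_eq_mul, Finset.mem_univ,
    if_true] at h2
  rw [h1]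
  exact h2

/-- the twisting exponential factor -/
noncomputable def E (N r : ℕ) (c : ℤ) (m : ℕ) : ℂ :=
  Complex.exp (-(2 * (Real.pi : ℂ) * Complex.I * (c : ℂ) * (m : ℂ) / ((r : ℂ) * (N : ℂ))))

theorem E_rot (r : ℕ) (hr : r ≠ 0) (c : ℤ) (m m' t : ℕ) (h : m' + r * t = m + N) :
    E N r c m' = E N r c m * chi r (-c) * chi N (c * (t : ℤ)) := by
  unfold E chi
  rw [← Complex.exp_add, ← Complex.exp_add]
  congr 1
  have hN : (N : ℂ) ≠ 0 := Nat.cast_ne_zero.mpr (NeZero.ne N)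
  have hr' : (r : ℂ) ≠ 0 := Nat.cast_ne_zero.mpr hr
  have h' : (m' : ℂ) = (m : ℂ) + (N : ℂ) - (r : ℂ) * (t : ℂ) := by
    have : ((m' + r * t : ℕ) : ℂ) = ((m + N : ℕ) : ℂ) := by rw [h]
    push_cast at this
    linear_combination this
  rw [h']
  push_cast
  field_simp
  ring

theorem G_rot (p p' : Fin (n + 2) → ℕ) (c : ℤ)
    (hc : c = ((∑ i, p i : ℕ) : ℤ) - ((∑ i, p' i : ℕ) : ℤ))
    {w : Fin (n + 2) → Fin N} (hw : IsB w) :
    E N (n + 2) c (∑ j, (rot w j : ℕ)) * G0 N p p' (rot w) =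
      chi (n + 2) (-c) * (E N (n + 2) c (∑ j, (w j : ℕ)) * G0 N p p' w) := by
  have h1 : G0 N p p' (rot w) =
      G0 N p p' (fun j => w j - w (Fin.castSucc (Fin.last n))) := by
    have : rot w = (fun j => w j - w (Fin.castSucc (Fin.last n))) ∘
        (Equiv.subRight (1 : Fin (n + 2))) := by
      ext j
      simp [rot]
    rw [this, G0_comp_perm]
  have h2 : G0 N p p' w = chi N (c * ((w (Fin.castSucc (Fin.last n)) : ℕ) : ℤ)) *
      G0 N p p' (fun j => w j - w (Fin.castSucc (Fin.last n))) := by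
    have := G0_shift p p' (fun j => w j - w (Fin.castSucc (Fin.last n)))
      (w (Fin.castSucc (Fin.last n)))
    simp only [sub_add_cancel] at this
    rw [hc]
    exact this
  have h3 := E_rot (N := N) (n + 2) (by omega) c (∑ j, (w j : ℕ)) (∑ j, (rot w j : ℕ))
    (w (Fin.castSucc (Fin.last n)) : ℕ) (by have := sum_rot hw; linarith)
  rw [h1, h2, h3]
  ring

/-- Case A of the core: `r ∤ c` -/
theorem core_not_dvd (p p' : Fin (n + 2) → ℕ) (c : ℤ)
    (hc : c = ((∑ i, p i : ℕ) : ℤ) - ((∑ i, p' i : ℕ) : ℤ))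
    (hdvd : ¬ ((n + 2 : ℕ) : ℤ) ∣ c) :
    ∑ w ∈ univ.filter (fun w : Fin (n + 2) → Fin N =>
        StrictAnti w ∧ ∀ i : Fin (n + 2), (i : ℕ) = n + 2 - 1 → (w i : ℕ) = 0),
      E N (n + 2) c (∑ j, (w j : ℕ)) * G0 N p p' w = 0 := by
  classical
  set B : Finset (Fin (n + 2) → Fin N) := univ.filter (fun w : Fin (n + 2) → Fin N =>
        StrictAnti w ∧ ∀ i : Fin (n + 2), (i : ℕ) = n + 2 - 1 → (w i : ℕ) = 0) with hB
  have hmem : ∀ w, w ∈ B ↔ IsB w := by
    intro w
    simp only [hB, Finset.mem_filter, Finset.mem_univ, true_and]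
    exact isB_iff w
  have hinj : Set.InjOn (rot (N := N) (n := n)) (B : Set (Fin (n + 2) → Fin N)) := by
    intro w hw w' hw' h
    exact rot_injOn ((hmem w).mp hw) ((hmem w').mp hw') h
  have himage : B.image rot = B := by
    apply Finset.eq_of_subset_of_card_le
    · intro w hw
      obtain ⟨w', hw', rfl⟩ := Finset.mem_image.mp hw
      exact (hmem _).mpr (rot_isB ((hmem w').mp hw'))
    · rw [Finset.card_image_of_injOn hinj]
  have hsum : ∑ w ∈ B, E N (n + 2) c (∑ j, (w j : ℕ)) * G0 N p p' w =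
      chi (n + 2) (-c) * ∑ w ∈ B, E N (n + 2) c (∑ j, (w j : ℕ)) * G0 N p p' w := by
    conv_lhs => rw [← himage]
    rw [Finset.sum_image hinj, Finset.mul_sum]
    refine Finset.sum_congr rfl (fun w hw => ?_)
    exact G_rot p p' c hc ((hmem w).mp hw)
  have hne : chi (n + 2) (-c) ≠ 1 := by
    intro h
    have h1 := (chi_eq_one_iff (N := n + 2) (-c)).mp h
    exact hdvd ((dvd_neg).mp h1)
  have h4 : (1 - chi (n + 2) (-c)) *
      ∑ w ∈ B, E N (n + 2) c (∑ j, (w j : ℕ)) * G0 N p p' w = 0 := by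
    linear_combination hsum
  rcases mul_eq_zero.mp h4 with h5 | h5
  · exact absurd (sub_eq_zero.mp h5).symm hne
  · exact h5

end rotation

/-- **Twisted orthogonality** over the Verlinde index set. -/
theorem core (p p' : Fin r → ℕ) (hp : StrictAnti p) (hp' : StrictAnti p')
    (hpN : ∀ i, p i < N) (hp'N : ∀ i, p' i < N)
    (hne : ¬ ∃ a : ℤ, ∀ i, (p i : ℤ) - (p' i : ℤ) = a) (c : ℤ)
    (hc : c = ((∑ i, p i : ℕ) : ℤ) - ((∑ i, p' i : ℕ) : ℤ)) :
    ∑ w ∈ univ.filter (fun w : Fin r → Fin N =>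
        StrictAnti w ∧ ∀ i : Fin r, (i : ℕ) = r - 1 → (w i : ℕ) = 0),
      E N r c (∑ j, (w j : ℕ)) * G0 N p p' w = 0 := by
  -- reduce to `r ≥ 2`
  have hr2 : 2 ≤ r := by
    by_contra hcon
    push Not at hcon
    apply hne
    interval_cases r
    · exact ⟨0, fun i => i.elim0⟩
    · refine ⟨(p 0 : ℤ) - (p' 0 : ℤ), fun i => ?_⟩
      rw [Subsingleton.elim i 0]
  by_cases hdvd : (r : ℤ) ∣ c
  · obtain ⟨c₀, hc₀⟩ := hdvd
    have h1 := core_dvd (N := N) (by omega) p p' hp hp' hpN hp'N hne c₀ (by rw [← hc, hc₀])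
    refine Eq.trans (Finset.sum_congr rfl (fun w _ => ?_)) h1
    congr 1
    unfold E chi
    congr 1
    have hN : (N : ℂ) ≠ 0 := Nat.cast_ne_zero.mpr (NeZero.ne N)
    have hr' : (r : ℂ) ≠ 0 := Nat.cast_ne_zero.mpr (by omega)
    rw [hc₀]
    push_cast
    field_simp
  · obtain ⟨n, rfl⟩ : ∃ n, r = n + 2 := ⟨r - 2, by omega⟩
    exact core_not_dvd p p' c hc hdvd

end Groth.Agent.Lib.Helper4.Verlinde
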