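import Mathlib
import Groth.Agent.Lib.Helper4.VerlindeCore

/-!
# Schur values, the Vandermonde product and the determinants `D N p w`
-/

set_option autoImplicit false

open Finset Complex

namespace Groth.Agent.Lib.Helper4.Verlinde

variable {N : ℕ} {r : ℕ}

/-- the staircase `δ i = r - 1 - i` -/
def delta (r : ℕ) : Fin r → ℕ := fun i => r - 1 - (i : ℕ)

theorem delta_strictAnti : StrictAnti (delta r) := by
  intro a b hab
  have h1 : (a : ℕ) < (b : ℕ) := hab
  have h2 := b.isLt
  unfold delta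
  omega

theorem delta_rev (i : Fin r) : delta r (Fin.rev i) = (i : ℕ) := by
  unfold delta
  rw [Fin.val_rev]
  have := i.isLt
  omega

theorem delta_le (i : Fin r) : delta r i ≤ r - 1 := by
  unfold delta
  omega

theorem delta_add_rev (i : Fin r) : delta r i + delta r (Fin.rev i) = r - 1 := by
  rw [delta_rev]
  unfold delta
  have := i.isLt
  omega

/-- a strictly antitone `ℕ`-valued tuple drops by at least the index difference -/
theorem strictAnti_gap (f : Fin r → ℕ) (hf : StrictAnti f) :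
    ∀ (d : ℕ) (a b : Fin r), (b : ℕ) = (a : ℕ) + d → f b + d ≤ f a := by
  intro d
  induction d with
  | zero =>
    intro a b hab
    have : a = b := Fin.ext (by omega)
    rw [this]
    omega
  | succ d ih =>
    intro a b hab
    have hlt : (a : ℕ) + 1 < r := by have := b.isLt; omega
    have h1 := ih ⟨(a : ℕ) + 1, hlt⟩ b (by simp only; omega)
    have h2 : f ⟨(a : ℕ) + 1, hlt⟩ < f a := hf (by rw [Fin.lt_def]; simp)
    omega

/-- `antitone + staircase` is strictly antitone -/
theorem strictAnti_add_delta (μ : Fin r → ℕ) (hμ : Antitone μ) :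
    StrictAnti (fun i => μ i + delta r i) := by
  intro a b hab
  have h1 := hμ hab.le
  have h2 := delta_strictAnti (r := r) hab
  simp only
  omega

theorem chi_natCast_pow (v : ℕ) (m : ℕ) :
    chi N (v : ℤ) ^ m = chi N ((m : ℤ) * (v : ℤ)) := chi_pow _ _

/-- the determinant in the statements, in terms of `D` -/
theorem det_eq_D (z : Fin r → ℂ) (v : Fin r → ℕ) (hz : ∀ j, z j = chi N (v j : ℤ))
    (μ : Fin r → ℕ) :
    (Matrix.of fun i j : Fin r => z j ^ (μ i + (r - 1 - (i : ℕ)))).det =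
      D N (fun i => μ i + delta r i) v := by
  unfold D
  congr 1
  ext i j
  simp only [Matrix.of_apply, hz, chi_pow, delta]

theorem det_eq_D_delta (z : Fin r → ℂ) (v : Fin r → ℕ) (hz : ∀ j, z j = chi N (v j : ℤ)) :
    (Matrix.of fun i j : Fin r => z j ^ (r - 1 - (i : ℕ))).det = D N (delta r) v := by
  have := det_eq_D z v hz (fun _ => 0)
  simpa using this

/-- `D N δ v` as a Vandermonde determinant -/
theorem D_delta_eq (v : Fin r → ℕ) :
    D N (delta r) v = (Equiv.Perm.sign (Fin.revPerm : Equiv.Perm (Fin r)) : ℂ) *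
      ∏ i : Fin r, ∏ j ∈ Finset.Ioi i, (chi N (v j : ℤ) - chi N (v i : ℤ)) := by
  rw [← Matrix.det_vandermonde, ← Matrix.det_transpose, ← Matrix.det_permute]
  unfold D
  congr 1
  ext i j
  simp only [Matrix.of_apply, Matrix.submatrix_apply, Matrix.transpose_apply,
    Matrix.vandermonde_apply, id_eq, Fin.revPerm_apply, chi_pow]
  congr 1
  rw [← delta_rev (Fin.rev i), Fin.rev_rev]

theorem D_delta_ne_zero [NeZero N] (v : Fin r → ℕ) (hv : Function.Injective v) (hvN : ∀ i, v i < N) :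
    D N (delta r) v ≠ 0 := by
  rw [D_delta_eq, ← Matrix.det_vandermonde]
  apply mul_ne_zero
  · rcases Int.units_eq_one_or (Equiv.Perm.sign (Fin.revPerm : Equiv.Perm (Fin r))) with h | h <;>
      simp [h]
  · rw [Matrix.det_vandermonde_ne_zero_iff]
    intro a b hab
    apply hv
    have hab' : chi N (v a : ℤ) = chi N (v b : ℤ) := hab
    have h1 : chi N ((v a : ℤ) - (v b : ℤ)) = 1 := by
      rw [chi_sub, hab', mul_inv_cancel₀ (chi_ne_zero _)]
    obtain ⟨q, hq⟩ := (chi_eq_one_iff _).mp h1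
    have ha := hvN a
    have hb := hvN b
    have hq0 : q = 0 := by
      by_contra hne
      rcases lt_or_gt_of_ne hne with h | h
      · have : (N : ℤ) * q ≤ (N : ℤ) * (-1) :=
          mul_le_mul_of_nonneg_left (by omega) (by positivity)
        omega
      · have : (N : ℤ) * 1 ≤ (N : ℤ) * q :=
          mul_le_mul_of_nonneg_left (by omega) (by positivity)
        omega
    rw [hq0, mul_zero] at hq
    omega

/-- the squared sine in terms of characters -/
theorem sin_sq_eq [NeZero N] (a b : ℕ) :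
    ((((2 : ℝ) * Real.sin (Real.pi * ((a : ℝ) - (b : ℝ)) / (N : ℝ))) ^ 2 : ℝ) : ℂ) =
      (chi N (b : ℤ) - chi N (a : ℤ)) * (starRingEnd ℂ) (chi N (b : ℤ) - chi N (a : ℤ)) := by
  have hN : (N : ℂ) ≠ 0 := Nat.cast_ne_zero.mpr (NeZero.ne N)
  set x : ℂ := (Real.pi : ℂ) * ((a : ℂ) - (b : ℂ)) / (N : ℂ) with hx
  set e : ℂ := Complex.exp (x * Complex.I) with he
  have he0 : e ≠ 0 := Complex.exp_ne_zero _
  have hsin : Complex.sin x = (e⁻¹ - e) * Complex.I / 2 := by
    rw [Complex.sin, he, ← Complex.exp_neg, neg_mul]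
  have hab : chi N ((a : ℤ) - (b : ℤ)) = e ^ 2 := by
    rw [he, ← Complex.exp_nat_mul]
    unfold chi
    congr 1
    rw [hx]
    push_cast
    field_simp
  have hba : chi N ((b : ℤ) - (a : ℤ)) = (e ^ 2)⁻¹ := by
    rw [← hab, ← chi_neg]
    congr 1
    ring
  have lhs : ((((2 : ℝ) * Real.sin (Real.pi * ((a : ℝ) - (b : ℝ)) / (N : ℝ))) ^ 2 : ℝ) : ℂ) =
      (2 * Complex.sin x) ^ 2 := by
    push_cast
    rfl
  rw [lhs, hsin, map_sub, conj_chi, conj_chi]
  have rhs : (chi N (b : ℤ) - chi N (a : ℤ)) * (chi N (-(b : ℤ)) - chi N (-(a : ℤ))) =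
      2 - chi N ((a : ℤ) - (b : ℤ)) - chi N ((b : ℤ) - (a : ℤ)) := by
    rw [sub_eq_add_neg (a : ℤ), sub_eq_add_neg (b : ℤ), chi_add, chi_add]
    have h1 : chi N (b : ℤ) * chi N (-(b : ℤ)) = 1 := by rw [← chi_add, add_neg_cancel, chi_zero]
    have h2 : chi N (a : ℤ) * chi N (-(a : ℤ)) = 1 := by rw [← chi_add, add_neg_cancel, chi_zero]
    linear_combination h1 + h2
  rw [rhs, hab, hba]
  have hI : Complex.I ^ 2 = -1 := Complex.I_sq
  field_simp
  linear_combination ((1 - e ^ 2) ^ 2) * hI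

/-- the Vandermonde product of the statements is `|D N δ v|²` -/
theorem prod_sin_eq [NeZero N] (v : Fin r → ℕ) :
    ((∏ p ∈ (Finset.univ : Finset (Fin r × Fin r)).filter (fun p => p.1 < p.2),
      ((2 : ℝ) * Real.sin (Real.pi * ((v p.1 : ℝ) - (v p.2 : ℝ)) / (N : ℝ))) ^ 2 : ℝ) : ℂ) =
      D N (delta r) v * (starRingEnd ℂ) (D N (delta r) v) := by
  classical
  rw [D_delta_eq, map_mul, map_prod]
  have hs : ((Equiv.Perm.sign (Fin.revPerm : Equiv.Perm (Fin r)) : ℤˣ) : ℂ) *
      (starRingEnd ℂ) ((Equiv.Perm.sign (Fin.revPerm : Equiv.Perm (Fin r)) : ℤˣ) : ℂ) = 1 := by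
    rcases Int.units_eq_one_or (Equiv.Perm.sign (Fin.revPerm : Equiv.Perm (Fin r))) with h | h <;>
      simp [h]
  have h1 : ∀ (A B : ℂ) (s : ℂ), s * (starRingEnd ℂ) s = 1 →
      s * A * ((starRingEnd ℂ) s * B) = A * B := by
    intro A B s hs
    linear_combination (A * B) * hs
  rw [h1 _ _ _ hs]
  simp only [map_prod]
  rw [← Finset.prod_mul_distrib]
  simp only [← Finset.prod_mul_distrib]
  rw [Complex.ofReal_prod, Finset.prod_filter, ← Finset.univ_product_univ, Finset.prod_product]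
  refine Finset.prod_congr rfl (fun i _ => ?_)
  rw [← Finset.prod_filter]
  have : (Finset.univ : Finset (Fin r)).filter (fun j => i < j) = Finset.Ioi i := by
    ext j
    simp
  rw [this]
  refine Finset.prod_congr rfl (fun j _ => ?_)
  exact sin_sq_eq (v i) (v j)

/-- `conj (D N δ v)` in terms of `D N δ v` -/
theorem conj_D_delta (v : Fin r → ℕ) :
    (starRingEnd ℂ) (D N (delta r) v) =
      (Equiv.Perm.sign (Fin.revPerm : Equiv.Perm (Fin r)) : ℂ) *
        chi N (-(((r - 1 : ℕ) : ℤ) * ((∑ j, v j : ℕ) : ℤ))) * D N (delta r) v := by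
  have h1 := D_dual (N := N) (delta r) v (r - 1) delta_le
  have h2 : (fun i => r - 1 - delta r (Fin.rev i)) = delta r := by
    ext i
    rw [delta_rev]
    rfl
  rw [h2] at h1
  have hs := sign_mul_self (Fin.revPerm : Equiv.Perm (Fin r))
  have hc : chi N (-(((r - 1 : ℕ) : ℤ) * ((∑ j, v j : ℕ) : ℤ))) *
      chi N (((r - 1 : ℕ) : ℤ) * ((∑ j, v j : ℕ) : ℤ)) = 1 := by
    rw [← chi_add, neg_add_cancel, chi_zero]
  linear_combination
    (-(((Equiv.Perm.sign (Fin.revPerm : Equiv.Perm (Fin r)) : ℤˣ) : ℂ) *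
      chi N (-(((r - 1 : ℕ) : ℤ) * ((∑ j, v j : ℕ) : ℤ))))) * h1 -
    (starRingEnd ℂ) (D N (delta r) v) * hs -
    (starRingEnd ℂ) (D N (delta r) v) *
      ((Equiv.Perm.sign (Fin.revPerm : Equiv.Perm (Fin r)) : ℤˣ) : ℂ) *
      ((Equiv.Perm.sign (Fin.revPerm : Equiv.Perm (Fin r)) : ℤˣ) : ℂ) * hc

/-- the full sum of `|D N p w|²` -/
theorem sum_all_normSq [NeZero N] (p : Fin r → ℕ) (hp : Function.Injective p) (hpN : ∀ i, p i < N) :
    ∑ w : Fin r → Fin N, G0 N p p w = (r.factorial : ℂ) * (N : ℂ) ^ r := by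
  classical
  have h0 := sum_all (N := N) p p 0
  simp only [zero_mul, neg_zero, chi_zero, one_mul, sub_zero] at h0
  unfold G0
  rw [h0]
  have h1 : ∀ σ τ : Equiv.Perm (Fin r),
      ((Equiv.Perm.sign σ : ℤˣ) : ℂ) * ((Equiv.Perm.sign τ : ℤˣ) : ℂ) *
        ∏ j, (if (N : ℤ) ∣ (p (σ j) : ℤ) - (p (τ j) : ℤ) then (N : ℂ) else 0) =
      if σ = τ then (N : ℂ) ^ r else 0 := by
    intro σ τ
    by_cases hστ : σ = τ
    · rw [if_pos hστ, hστ, sign_mul_self, one_mul]
      simp
    · rw [if_neg hστ]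
      have : ∃ j, σ j ≠ τ j := by
        by_contra hcon
        push Not at hcon
        exact hστ (Equiv.ext hcon)
      obtain ⟨j, hj⟩ := this
      rw [Finset.prod_eq_zero (Finset.mem_univ j), mul_zero]
      rw [if_neg]
      rintro ⟨q, hq⟩
      have ha := hpN (σ j)
      have hb := hpN (τ j)
      have hq0 : q = 0 := by
        by_contra hne
        rcases lt_or_gt_of_ne hne with h | h
        · have : (N : ℤ) * q ≤ (N : ℤ) * (-1) :=
            mul_le_mul_of_nonneg_left (by omega) (by positivity)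
          omega
        · have : (N : ℤ) * 1 ≤ (N : ℤ) * q :=
            mul_le_mul_of_nonneg_left (by omega) (by positivity)
          omega
      rw [hq0, mul_zero] at hq
      apply hj
      apply hp
      omega
  simp only [h1, Finset.sum_ite_eq, Finset.mem_univ, if_true, Finset.sum_const, Finset.card_univ,
    Fintype.card_perm, Fintype.card_fin, nsmul_eq_mul]

end Groth.Agent.Lib.Helper4.Verlinde
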