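import Mathlib
import Groth.Agent.Lib.Helper4.VerlindeSchur

/-!
# Reindexing sums over partitions by strictly decreasing tuples
-/

set_option autoImplicit false

open Finset Complex

namespace Groth.Agent.Lib.Helper4.Verlinde

variable {r : ℕ}

/-- lower bound for strictly antitone tuples: `δ j ≤ l j` -/
theorem delta_le_of_strictAnti (l : Fin r → ℕ) (hl : StrictAnti l) (j : Fin r) :
    delta r j ≤ l j := by
  have hr : 0 < r := lt_of_le_of_lt (Nat.zero_le _) j.isLt
  have := strictAnti_gap l hl (r - 1 - (j : ℕ)) j ⟨r - 1, by omega⟩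
    (by have := j.isLt; simp only; omega)
  unfold delta
  omega

/-- upper bound for strictly antitone tuples -/
theorem add_le_of_strictAnti (l : Fin r → ℕ) (hl : StrictAnti l) (j : Fin r) :
    l j + (j : ℕ) ≤ l ⟨0, lt_of_le_of_lt (Nat.zero_le _) j.isLt⟩ := by
  have := strictAnti_gap l hl (j : ℕ) ⟨0, lt_of_le_of_lt (Nat.zero_le _) j.isLt⟩ j (by simp)
  exact this

/-- sums over antitone tuples (partitions) versus strictly antitone tuples -/
theorem sum_antitone_eq (m N : ℕ) (hm : 1 ≤ m) (hN : m + r - 1 ≤ N)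
    (f : (Fin r → ℕ) → ℂ) :
    ∑ μ ∈ univ.filter (fun μ : Fin r → Fin m => Antitone μ),
        f (fun i => (μ i : ℕ) + delta r i) =
      ∑ l ∈ univ.filter (fun l : Fin r → Fin N =>
        StrictAnti l ∧ ∀ j, (l j : ℕ) < m + r - 1), f (fun i => (l i : ℕ)) := by
  classical
  refine Finset.sum_nbij'
    (fun μ j => (⟨(μ j : ℕ) + delta r j, by
      have h1 := (μ j).isLt
      have h2 := delta_le j
      have h3 := j.isLt
      omega⟩ : Fin N))
    (fun l a => (⟨min ((l a : ℕ) - delta r a) (m - 1), by omega⟩ : Fin m)) ?_ ?_ ?_ ?_ ?_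
  · intro μ hμ
    simp only [Finset.mem_filter, Finset.mem_univ, true_and] at hμ ⊢
    refine ⟨?_, ?_⟩
    · intro a b hab
      have := strictAnti_add_delta (fun i => (μ i : ℕ)) (fun x y hxy => hμ hxy) hab
      exact this
    · intro j
      have h1 := (μ j).isLt
      have h2 := delta_le j
      have h3 := j.isLt
      omega
  · intro l hl
    simp only [Finset.mem_filter, Finset.mem_univ, true_and] at hl ⊢
    intro a b hab
    rw [Fin.le_def]
    simp only
    have hl' : StrictAnti (fun i => (l i : ℕ)) := fun x y hxy => hl.1 hxy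
    have h1 := strictAnti_gap _ hl' ((b : ℕ) - (a : ℕ)) a b (by
      have : (a : ℕ) ≤ (b : ℕ) := hab
      omega)
    have h2 := delta_le_of_strictAnti _ hl' b
    have h3 : (a : ℕ) ≤ (b : ℕ) := hab
    have h4 := b.isLt
    unfold delta at h2 ⊢
    omega
  · intro μ hμ
    ext a
    have h1 := (μ a).isLt
    simp only
    omega
  · intro l hl
    simp only [Finset.mem_filter, Finset.mem_univ, true_and] at hl
    ext a
    have hl' : StrictAnti (fun i => (l i : ℕ)) := fun x y hxy => hl.1 hxy
    have h1 := delta_le_of_strictAnti _ hl' a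
    have h2 := add_le_of_strictAnti _ hl' a
    have h3 := hl.2 ⟨0, lt_of_le_of_lt (Nat.zero_le _) a.isLt⟩
    have h4 := a.isLt
    simp only at h1 h2 h3 ⊢
    unfold delta at h1 ⊢
    omega
  · intro μ _
    rfl

end Groth.Agent.Lib.Helper4.Verlinde
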