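import Mathlib
import Groth.Agent.Lib.Helper4.Ol2

/-!
# A local weakly étale algebra over a normal domain is a normal domain
-/

set_option autoImplicit false
set_option linter.style.haveILetI false
set_option linter.unusedSectionVars false
universe u

namespace Groth.Agent.Lib.Helper4.WEtNormal

open TensorProduct Polynomial

/-- The generic fibre of a local weakly étale algebra over a normal domain is a field. -/
theorem isField_fibre (A K B : Type u) [CommRing A] [IsDomain A] [IsIntegrallyClosed A]
    [Field K] [Algebra A K] [IsFractionRing A K] [CommRing B] [IsLocalRing B] [Algebra A B]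
    [Algebra.WeaklyEtale A B] : IsField (B ⊗[A] K) := by
  have hic : IsIntegrallyClosedIn B (B ⊗[A] K) := Groth.Agent.S1967.result A K B
  have hinj := IsIntegralClosure.algebraMap_injective B B (B ⊗[A] K)
  haveI : Nontrivial (B ⊗[A] K) := hinj.nontrivial
  let c : K ⊗[A] B ≃ₐ[A] B ⊗[A] K := Algebra.TensorProduct.comm A K B
  have hid := Ol.idempotent_trivial_of_isLocalRing A K B
  refine ⟨exists_pair_ne _, mul_comm, ?_⟩
  intro z hz
  have hz' : c.symm z ≠ 0 := by
    intro h
    apply hz
    have := congrArg c h
    rwa [AlgEquiv.apply_symm_apply, map_zero] at this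
  have hsep : Groth.Agent.Lib.Helper12.WEtField.IsSepElt K (c.symm z) :=
    Groth.Agent.Lib.Helper12.WEtField.isSepElt_iff_isSeparable.mpr
      (Groth.Agent.Lib.Helper12.WEtField.isSeparable_of_weaklyEtale (c.symm z))
  obtain ⟨w, hw⟩ := Groth.Agent.Lib.Helper12.WEtField.exists_mul_eq_one_of_isSepElt hid hsep hz'
  refine ⟨c w, ?_⟩
  have := congrArg c hw
  rwa [map_mul, AlgEquiv.apply_symm_apply, map_one] at this

/-- A local weakly étale algebra over a normal domain is a normal domain. -/
theorem normal_of_weaklyEtale_local (A B : Type u) [CommRing A] [IsDomain A]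
    [IsIntegrallyClosed A] [CommRing B] [IsLocalRing B] [Algebra A B]
    [Algebra.WeaklyEtale A B] : IsDomain B ∧ IsIntegrallyClosed B := by
  have hic : IsIntegrallyClosedIn B (B ⊗[A] (FractionRing A)) :=
    Groth.Agent.S1967.result A (FractionRing A) B
  have hinj := IsIntegralClosure.algebraMap_injective B B (B ⊗[A] (FractionRing A))
  have hF := isField_fibre A (FractionRing A) B
  letI : Field (B ⊗[A] (FractionRing A)) := hF.toField
  haveI hdom : IsDomain B := Function.Injective.isDomain
    (algebraMap B (B ⊗[A] (FractionRing A))) hinj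
  refine ⟨hdom, ?_⟩
  let g : FractionRing B →ₐ[B] B ⊗[A] (FractionRing A) :=
    IsFractionRing.liftAlgHom (g := Algebra.ofId B (B ⊗[A] (FractionRing A))) hinj
  have hg : Function.Injective g := g.toRingHom.injective
  rw [isIntegrallyClosed_iff_isIntegrallyClosedIn (FractionRing B)]
  exact AlgHom.isIntegrallyClosedIn g hg hic

end Groth.Agent.Lib.Helper4.WEtNormal
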