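import Mathlib
import Groth.Agent.Lib.Helper11.LimConnComp

/-!
# Clopen lifting and connected components; uniqueness of clopen lifts over a Zariski pair
-/

set_option autoImplicit false
set_option linter.style.haveILetI false
set_option linter.unusedSectionVars false
universe u

namespace Groth.Agent.Lib.Helper4.ZC

open AlgebraicGeometry CategoryTheory Limits TopologicalSpace Opposite

theorem bijective_connectedComponentsMap_of_clopen_lift {X₀ X : Type*} [TopologicalSpace X₀]
    [TopologicalSpace X] [NoetherianSpace X₀] [NoetherianSpace X] {i : X₀ → X}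
    (hi : Continuous i)
    (hex : ∀ V : Set X₀, IsClopen V → ∃ U : Set X, IsClopen U ∧ i ⁻¹' U = V)
    (huniq : ∀ U U' : Set X, IsClopen U → IsClopen U' → i ⁻¹' U = i ⁻¹' U' → U = U') :
    Function.Bijective hi.connectedComponentsMap := by
  constructor
  · intro a b
    obtain ⟨x, rfl⟩ := _root_.ConnectedComponents.surjective_coe a
    obtain ⟨y, rfl⟩ := _root_.ConnectedComponents.surjective_coe b
    intro h
    have h1 : (_root_.ConnectedComponents.mk (i x)) = _root_.ConnectedComponents.mk (i y) := h
    rw [_root_.ConnectedComponents.coe_eq_coe'] at h1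
    rw [_root_.ConnectedComponents.coe_eq_coe']
    have hcl : IsClopen (connectedComponent y) :=
      ⟨isClosed_connectedComponent,
        Groth.Agent.Lib.Helper11.isOpen_connectedComponent_of_noetherianSpace y⟩
    obtain ⟨U, hU, hUV⟩ := hex _ hcl
    have hy : i y ∈ U := by
      have : y ∈ i ⁻¹' U := by
        rw [hUV]
        exact mem_connectedComponent
      exact this
    have hx : i x ∈ U := hU.connectedComponent_subset hy h1
    have : x ∈ i ⁻¹' U := hx
    rwa [hUV] at this
  · intro c
    obtain ⟨x, rfl⟩ := _root_.ConnectedComponents.surjective_coe c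
    have hcl : IsClopen (connectedComponent x) :=
      ⟨isClosed_connectedComponent,
        Groth.Agent.Lib.Helper11.isOpen_connectedComponent_of_noetherianSpace x⟩
    have hne : (i ⁻¹' connectedComponent x).Nonempty := by
      by_contra hemp
      rw [Set.not_nonempty_iff_eq_empty] at hemp
      have h1 := huniq _ ∅ hcl isClopen_empty (by rw [hemp, Set.preimage_empty])
      have h2 : x ∈ connectedComponent x := mem_connectedComponent
      rw [h1] at h2
      exact h2
    obtain ⟨y, hy⟩ := hne
    refine ⟨_root_.ConnectedComponents.mk y, ?_⟩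
    change _root_.ConnectedComponents.mk (i y) = _root_.ConnectedComponents.mk x
    rw [_root_.ConnectedComponents.coe_eq_coe']
    exact hy

/-- A closed subset of `X` not meeting the fibre over `V(I)` is empty, when `I` lies in the
Jacobson radical and `f` is closed. -/
theorem eq_empty_of_isClosed_of_disjoint (A : Type u) [CommRing A] (I : Ideal A)
    (hI : I ≤ Ideal.jacobson ⊥) {X : Type*} [TopologicalSpace X] (f : X → PrimeSpectrum A)
    (hf : IsClosedMap f) (W : Set X) (hW : IsClosed W)
    (hdisj : ∀ w ∈ W, f w ∉ PrimeSpectrum.zeroLocus (I : Set A)) : W = ∅ := by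
  by_contra hne
  obtain ⟨w₀, hw₀⟩ := Set.nonempty_iff_ne_empty.mpr hne
  have hcl : IsClosed (f '' W) := hf W hW
  obtain ⟨J, hJ⟩ := (PrimeSpectrum.isClosed_iff_zeroLocus_ideal _).mp hcl
  have hJne : J ≠ ⊤ := by
    intro hJtop
    have : f w₀ ∈ PrimeSpectrum.zeroLocus (J : Set A) := by
      rw [← hJ]
      exact ⟨w₀, hw₀, rfl⟩
    rw [hJtop] at this
    simp at this
  obtain ⟨m, hm, hJm⟩ := Ideal.exists_le_maximal J hJne
  have hmem : (⟨m, hm.isPrime⟩ : PrimeSpectrum A) ∈ f '' W := by
    rw [hJ]
    exact hJm
  obtain ⟨w, hw, hfw⟩ := hmem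
  apply hdisj w hw
  rw [hfw]
  intro a ha
  have h1 : a ∈ Ideal.jacobson (⊥ : Ideal A) := hI ha
  rw [Ideal.jacobson, Ideal.mem_sInf] at h1
  exact h1 ⟨bot_le, hm⟩

end Groth.Agent.Lib.Helper4.ZC
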