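import Mathlib
import Groth.Agent.Lib.Helper4.ZC8

/-!
# Mittag-Leffler and Artin-Rees consequences of formal functions, at the level of sections
-/

set_option autoImplicit false
set_option linter.style.haveILetI false
set_option linter.unusedSectionVars false
universe u

namespace Groth.Agent.Lib.Helper4.ZC

open AlgebraicGeometry CategoryTheory Limits TopologicalSpace Opposite
open Groth.Agent.Lib.Helper29.QCoh Groth.Agent.Lib.Helper12.H12FF

section ML
variable (A : Type u) [CommRing A] [IsNoetherianRing A] (I : Ideal A)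
  (X : Scheme.{u}) [X.Over (Spec (CommRingCat.of A))] [IsProper (X ↘ Spec (CommRingCat.of A))]
  (M : X.Modules) (hM : Coh.IsCoh M)

include hM in
/-- Sections of `M / I^(n+1) M` that lift `c` levels higher come from global sections of `M`. -/
theorem exists_section_level :
    ∃ c : ℕ, ∀ (n : ℕ) (s : Γ(Formal.modPow I (n + c + 1) M, ⊤)), ∃ m : Γ(M, ⊤),
      (Formal.modPowπ I (n + 1) M).app ⊤ m =
        (modPowLe I M (Nat.succ_le_succ (Nat.le_add_right n c))).app ⊤ s := by
  obtain ⟨c, hc⟩ := exists_ML A I X M hM 0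
  refine ⟨c, fun n s => ?_⟩
  obtain ⟨x, hx⟩ := hc n (n + c) (Nat.le_add_right n c) le_rfl
    ((hh0 (Formal.modPow I (n + c + 1) M)).symm s)
  refine ⟨hh0 M x, ?_⟩
  have h1 : Formal.toHHmodPow I M 0 n x =
      Sheaf.H.map ((SheafOfModules.toSheaf _).map
        (modPowLe I M (Nat.succ_le_succ (Nat.le_add_right n c)))) 0
        ((hh0 (Formal.modPow I (n + c + 1) M)).symm s) := hx
  rw [hh0_symm_map] at h1
  have h2 := congrArg (hh0 (Formal.modPow I (n + 1) M)) h1
  rw [AddEquiv.apply_symm_apply] at h2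
  rw [← h2]
  exact (hh0_map (Formal.modPowπ I (n + 1) M) x).symm

include hM in
/-- Artin-Rees: sections dying at a deep enough level lie in `I • Γ(M)`. -/
theorem exists_level_ker :
    ∃ c : ℕ, ∀ m : Γ(M, ⊤), (Formal.modPowπ I (c + 1 + 1) M).app ⊤ m = 0 →
      (hh0 M).symm m ∈ I ^ 1 • (⊤ : Submodule A (Coh.HH X M 0)) := by
  obtain ⟨c, hc⟩ := exists_ker_le A I X M hM 0
  refine ⟨c, fun m hm => ?_⟩
  have h1 := hc (c + 1) (Nat.le_succ c) ((hh0 M).symm m) (by
    change Sheaf.H.map ((SheafOfModules.toSheaf _).map (Formal.modPowπ I (c + 1 + 1) M)) 0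
      ((hh0 M).symm m) = 0
    rw [hh0_symm_map, hm, map_zero])
  rwa [Nat.add_sub_cancel_left] at h1

end ML

end Groth.Agent.Lib.Helper4.ZC
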