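import Mathlib
import Groth.Agent.Lib.Helper4.ZH1
import Groth.Agent.Lib.Helper4.HC7
import Groth.Agent.Lib.Helper4.HenselPairK

/-!
# Clopen subsets of the closed fibre lift, for a proper scheme over a Noetherian henselian pair
-/

set_option autoImplicit false
set_option linter.style.haveILetI false
set_option linter.unusedSectionVars false
universe u

namespace Groth.Agent.Lib.Helper4.ZC

open AlgebraicGeometry CategoryTheory Limits TopologicalSpace Opposite
open Groth.Agent.Lib.Helper29.QCoh Groth.Agent.Lib.Helper12.H12FF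

section
variable (A : Type u) [CommRing A] (I : Ideal A)
  (X : Scheme.{u}) [X.Over (Spec (CommRingCat.of A))]

/-- the structure map `A → Γ(X, ⊤)` -/
noncomputable def ρtop : A →+* Γ(X, ⊤) :=
  ((X ↘ Spec (CommRingCat.of A)).appTop).hom.comp (Scheme.ΓSpecIso (CommRingCat.of A)).inv.hom

/-- Elements of `I • H⁰(X, O_X)` are, as global functions, in the extension of `I`. -/
theorem fromUnit_hh0_mem_map (y : Coh.HH X (unitM X) 0)
    (hy : y ∈ I ^ 1 • (⊤ : Submodule A (Coh.HH X (unitM X) 0))) :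
    fromUnit (hh0 (unitM X) y) ∈ Ideal.map (ρtop A X) I := by
  rw [pow_one] at hy
  refine Submodule.smul_induction_on hy ?_ ?_
  · intro a ha z _
    have h1 : a • z = (Coh.toGlobal (X ↘ Spec (CommRingCat.of A)) a : Coh.Γtop X) • z := rfl
    rw [h1, hh0_smul, fromUnit_smul]
    exact Ideal.mul_mem_right _ _ (Ideal.mem_map_of_mem (ρtop A X) ha)
  · intro z w hz hw
    rw [map_add, fromUnit_add]
    exact Ideal.add_mem _ hz hw

/-- Global functions in the extension of `I` die in `O_X / I O_X`. -/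
theorem modPowπ_toUnit_eq_zero_of_mem_map (r : Γ(X, ⊤))
    (hr : r ∈ Ideal.map (ρtop A X) I) :
    (Formal.modPowπ I 1 (unitM X)).app ⊤ (toUnit r) = 0 := by
  unfold Ideal.map at hr
  refine Submodule.span_induction ?_ ?_ ?_ ?_ hr
  · rintro _ ⟨a, ha, rfl⟩
    have h1 := smulMod_modPowπ I 1 (unitM X) a (by rwa [pow_one])
    have h2 : (Formal.smulMod A (unitM X) a ≫ Formal.modPowπ I 1 (unitM X)).app ⊤
        (toUnit (1 : Γ(X, ⊤))) = 0 := by
      rw [h1]
      rfl
    have h3 : (Formal.smulMod A (unitM X) a).app ⊤ (toUnit (1 : Γ(X, ⊤))) =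
        toUnit (ρtop A X a) := by
      rw [smulMod_app]
      have e0 : glHom (X := X) ⊤ a = ρtop A X a := by
        unfold glHom ρtop
        simp only [RingHom.comp_apply]
        change (X.presheaf.map (𝟙 _)).hom _ = _
        rw [X.presheaf.map_id]
        rfl
      rw [e0]
      change (ρtop A X a : Γ(X, ⊤)) * 1 = _
      rw [mul_one]
      rfl
    change (Formal.modPowπ I 1 (unitM X)).app ⊤
      ((Formal.smulMod A (unitM X) a).app ⊤ (toUnit (1 : Γ(X, ⊤)))) = 0 at h2
    rw [h3] at h2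
    exact h2
  · exact map_zero _
  · intro x y _ _ hx hy
    have : toUnit (x + y) = toUnit x + toUnit y := rfl
    rw [this, map_add, hx, hy, add_zero]
  · intro b x _ hx
    have : toUnit (b • x) = b • toUnit x := rfl
    rw [this, Scheme.Modules.Hom.app_smul, hx, smul_zero]

end

/-- **Existence of clopen lifts** for a proper scheme over a Noetherian henselian pair. -/
theorem exists_clopen_lift_of_henselian (A : Type u) [CommRing A] [IsNoetherianRing A]
    (I : Ideal A) [HenselianRing A I] {X : Scheme.{u}} (f : X ⟶ Spec (CommRingCat.of A))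
    [IsProper f]
    (V : Set ↥(pullback f (Spec.map (CommRingCat.ofHom (Ideal.Quotient.mk I)))))
    (hV : IsClopen V) :
    ∃ U : Set X, IsClopen U ∧
      (pullback.fst f (Spec.map (CommRingCat.ofHom (Ideal.Quotient.mk I)))).base ⁻¹' U = V := by
  letI : X.Over (Spec (CommRingCat.of A)) := ⟨f⟩
  haveI : IsProper (X ↘ Spec (CommRingCat.of A)) := ‹IsProper f›
  obtain ⟨U₁, U₂, hcov, hoff, hmemU₁, hmemU₂⟩ := exists_opens_of_isClopen A I f V hV
  have hM : Coh.IsCoh (unitM X) := Groth.Agent.Lib.Helper9.RefStalk.isCoh_unit X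
  obtain ⟨c₁, hc₁⟩ := exists_level_ker A I X (unitM X) hM
  obtain ⟨c₂, hc₂⟩ := exists_section_level A I X (unitM X) hM
  obtain ⟨sk, hsk1, hsk2⟩ :=
    exists_sec I (c₁ + 1 + c₂ + 1) (unitM X) U₁ U₂ hcov hoff (toUnit (1 : Γ(X, ⊤)))
  obtain ⟨sn, hsn1, hsn2⟩ :=
    exists_sec I (c₁ + 1 + 1) (unitM X) U₁ U₂ hcov hoff (toUnit (1 : Γ(X, ⊤)))
  obtain ⟨s0, hs01, hs02⟩ :=
    exists_sec I 1 (unitM X) U₁ U₂ hcov hoff (toUnit (1 : Γ(X, ⊤)))
  have hcompat₁ : (modPowLe I (unitM X)
      (Nat.succ_le_succ (Nat.le_add_right (c₁ + 1) c₂))).app ⊤ sk = sn := by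
    apply sec_unique _ U₁ U₂ hcov
    · rw [← app_res, hsk1, app_res, hsn1]
      congr 1
      change ((Formal.modPowπ I (c₁ + 1 + c₂ + 1) (unitM X)) ≫
        (modPowLe I (unitM X) (Nat.succ_le_succ (Nat.le_add_right (c₁ + 1) c₂)))).app ⊤ _ = _
      rw [modPowπ_le]
    · rw [← app_res, hsk2, map_zero, hsn2]
  have hle : 1 ≤ c₁ + 1 + 1 := Nat.succ_le_succ (Nat.zero_le _)
  have hcompat₂ : (modPowLe I (unitM X) hle).app ⊤ sn = s0 := by
    apply sec_unique _ U₁ U₂ hcov
    · rw [← app_res, hsn1, app_res, hs01]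
      congr 1
      change ((Formal.modPowπ I (c₁ + 1 + 1) (unitM X)) ≫
        (modPowLe I (unitM X) hle)).app ⊤ _ = _
      rw [modPowπ_le]
    · rw [← app_res, hsn2, map_zero, hs02]
  obtain ⟨m, hm⟩ := hc₂ (c₁ + 1) sk
  rw [hcompat₁] at hm
  -- the key vanishing at level `c₁ + 2`
  have hkey : (Formal.modPowπ I (c₁ + 1 + 1) (unitM X)).app ⊤
      (toUnit (fromUnit m * (1 - fromUnit m))) = 0 := by
    have e1 : toUnit (fromUnit m * (1 - fromUnit m)) =
        fromUnit m • (toUnit (1 : Γ(X, ⊤)) - m) := rfl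
    rw [e1, Scheme.Modules.Hom.app_smul, map_sub, hm]
    apply sec_unique _ U₁ U₂ hcov
    · rw [res_smul, map_sub, hsn1, sub_self, smul_zero, map_zero]
    · rw [map_zero, res_smul, map_sub, hsn2, sub_zero, ← res_smul,
        ← Scheme.Modules.Hom.app_smul]
      have e2 : fromUnit m • toUnit (1 : Γ(X, ⊤)) = m := by
        change fromUnit m * 1 = m
        rw [mul_one]
        rfl
      rw [e2, hm, hsn2]
  have hmem := fromUnit_hh0_mem_map A I X _ (hc₁ _ hkey)
  rw [AddEquiv.apply_symm_apply] at hmem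
  have hmem' : fromUnit m * (1 - fromUnit m) ∈ Ideal.map (ρtop A X) I := hmem
  -- lift the idempotent
  letI : Algebra A Γ(X, ⊤) :=
    (f.appTop.hom.comp (Scheme.ΓSpecIso (CommRingCat.of A)).inv.hom : A →+* Γ(X, ⊤)).toAlgebra
  haveI : Module.Finite A Γ(X, ⊤) := Groth.Agent.Lib.Helper4.HC.finite_toGlobal_of_isProper A f
  haveI : Algebra.IsIntegral A Γ(X, ⊤) := Algebra.IsIntegral.of_finite A Γ(X, ⊤)
  have hβ : fromUnit m * fromUnit m - fromUnit m ∈ I.map (algebraMap A Γ(X, ⊤)) := by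
    have h1 : fromUnit m * fromUnit m - fromUnit m = -(fromUnit m * (1 - fromUnit m)) := by ring
    rw [h1]
    exact Ideal.neg_mem_iff _ |>.mpr hmem'
  obtain ⟨e, he, heβ⟩ :=
    Groth.Agent.Lib.Helper4.HenselPair.exists_idempotent_lift_of_isIntegral I (fromUnit m) hβ
  have heβ' : (Formal.modPowπ I 1 (unitM X)).app ⊤ (toUnit (e - fromUnit m)) = 0 :=
    modPowπ_toUnit_eq_zero_of_mem_map A I X _ heβ
  have hm1 : (Formal.modPowπ I 1 (unitM X)).app ⊤ m = s0 := by
    rw [← hcompat₂, ← hm]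
    change _ = ((Formal.modPowπ I (c₁ + 1 + 1) (unitM X)) ≫
      (modPowLe I (unitM X) hle)).app ⊤ m
    rw [modPowπ_le]
  have he1 : (Formal.modPowπ I 1 (unitM X)).app ⊤ (toUnit e) = s0 := by
    have e5 : toUnit (e - fromUnit m) = toUnit e - m := rfl
    rw [e5, map_sub, sub_eq_zero] at heβ'
    rw [heβ', hm1]
  let mk : Spec (CommRingCat.of (A ⧸ I)) ⟶ Spec (CommRingCat.of A) :=
    Spec.map (CommRingCat.ofHom (Ideal.Quotient.mk I))
  let i : pullback f mk ⟶ X := pullback.fst f mk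
  have hi : ∀ a ∈ I, i.appTop.hom (glHom (X := X) ⊤ a) = 0 :=
    fun a ha => appTop_glHom_eq_zero A I f a ha
  have h1 : res _ (le_top : U₁ ≤ ⊤)
      ((Formal.modPowπ I 1 (unitM X)).app ⊤ (toUnit (1 - e))) = 0 := by
    have e3 : toUnit (1 - e) = toUnit (1 : Γ(X, ⊤)) - toUnit e := rfl
    rw [e3, map_sub, he1, map_sub, hs01, sub_self]
  have h2 : res _ (le_top : U₂ ≤ ⊤)
      ((Formal.modPowπ I 1 (unitM X)).app ⊤ (toUnit e)) = 0 := by
    rw [he1, hs02]
  refine ⟨(X.basicOpen e : Set X),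
    Groth.Agent.Lib.Helper4.HC.isClopen_basicOpen_of_isIdempotentElem e he, ?_⟩
  ext y
  constructor
  · intro hy
    by_contra hyV
    exact not_mem_basicOpen_of_res_eq_zero i I hi e U₂ h2 y (hmemU₂ y hyV) hy
  · intro hyV
    have h3 := not_mem_basicOpen_of_res_eq_zero i I hi (1 - e) U₁ h1 y (hmemU₁ y hyV)
    have hsup := Groth.Agent.Lib.Helper4.HC.basicOpen_sup_one_sub e
    have h4 : i.base y ∈ X.basicOpen e ⊔ X.basicOpen (1 - e) := by
      rw [hsup]
      trivial
    rcases h4 with h | h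
    · exact h
    · exact absurd h h3

end Groth.Agent.Lib.Helper4.ZC
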