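import Mathlib
import Groth.Agent.Lib.Helper4.ZH2
import Groth.Agent.Lib.Helper4.ZC7
import Groth.Agent.Lib.Helper4.HC8

/-!
# Henselian couples: proper schemes over Noetherian henselian pairs
-/

set_option autoImplicit false
set_option linter.style.haveILetI false
set_option linter.unusedSectionVars false
universe u

namespace Groth.Agent.Lib.Helper4.ZC

open AlgebraicGeometry CategoryTheory Limits TopologicalSpace Opposite
open Groth.Agent.Lib.Helper4.HC

/-- Clopen subsets lift uniquely along the closed fibre of a proper scheme over a Noetherian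
henselian pair. -/
theorem CL_fst_of_henselian (A : Type u) [CommRing A] [IsNoetherianRing A] (I : Ideal A)
    [HenselianRing A I] {X : Scheme.{u}} (f : X ⟶ Spec (CommRingCat.of A)) [IsProper f] :
    CL (pullback.fst f (Spec.map (CommRingCat.ofHom (Ideal.Quotient.mk I)))).base := by
  intro V hV
  let mk : Spec (CommRingCat.of (A ⧸ I)) ⟶ Spec (CommRingCat.of A) :=
    Spec.map (CommRingCat.ofHom (Ideal.Quotient.mk I))
  let i : pullback f mk ⟶ X := pullback.fst f mk
  obtain ⟨U, hU, hUV⟩ := exists_clopen_lift_of_henselian A I f V hV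
  refine ⟨U, ⟨hU, hUV⟩, ?_⟩
  rintro U' ⟨hU', hU'V⟩
  have hI : I ≤ Ideal.jacobson ⊥ := HenselianRing.jac
  have hUU' : i.base ⁻¹' U' = i.base ⁻¹' U := hU'V.trans hUV.symm
  have hW : IsClosed (symmDiff U' U) :=
    (hU'.isClosed.sdiff hU.isOpen).union (hU.isClosed.sdiff hU'.isOpen)
  have hdisj : ∀ w ∈ symmDiff U' U, f.base w ∉ PrimeSpectrum.zeroLocus (I : Set A) := by
    intro w hw hz
    have hr : w ∈ Set.range i.base := by
      rw [range_fst_eq A I f]
      exact hz
    obtain ⟨y, rfl⟩ := hr
    have h1 : y ∈ i.base ⁻¹' U' ↔ y ∈ i.base ⁻¹' U := by rw [hUU']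
    rcases hw with ⟨h2, h3⟩ | ⟨h2, h3⟩
    · exact h3 (h1.mp h2)
    · exact h3 (h1.mpr h2)
  have hempty := eq_empty_of_isClosed_of_disjoint A I hI f.base f.isClosedMap _ hW hdisj
  exact symmDiff_eq_bot.mp hempty

/-- The same along finite morphisms: `(X, X₀)` is a henselian couple. -/
theorem CL_fst_of_finite_of_henselian (A : Type u) [CommRing A] [IsNoetherianRing A]
    (I : Ideal A) [HenselianRing A I] {X : Scheme.{u}} (f : X ⟶ Spec (CommRingCat.of A))
    [IsProper f] {Y : Scheme.{u}} (g : Y ⟶ X) [IsFinite g] :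
    CL (pullback.fst g (pullback.fst f
      (Spec.map (CommRingCat.ofHom (Ideal.Quotient.mk I))))).base := by
  let mk : Spec (CommRingCat.of (A ⧸ I)) ⟶ Spec (CommRingCat.of A) :=
    Spec.map (CommRingCat.ofHom (Ideal.Quotient.mk I))
  have h := CL_fst_of_henselian A I (g ≫ f)
  let E := pullbackRightPullbackFstIso f mk g
  have hE : E.hom ≫ pullback.fst (g ≫ f) mk = pullback.fst g (pullback.fst f mk) :=
    pullbackRightPullbackFstIso_hom_fst f mk g
  refine CL_congr _ _ (Scheme.homeoOfIso E).symm (Homeomorph.refl _) ?_ h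
  intro x
  have hx : E.hom.base ((Scheme.homeoOfIso E).symm x) = x :=
    (Scheme.homeoOfIso E).apply_symm_apply x
  have := congrArg (fun f => f.base ((Scheme.homeoOfIso E).symm x)) hE
  simp only [Scheme.Hom.comp_base, TopCat.comp_app] at this
  rw [hx] at this
  exact this.symm

/-- The clopen lifting property of `pullback.fst g i` only depends on `i` up to isomorphism of
the source. -/
theorem CL_fst_of_iso_right {Y S S₀ S₀' : Scheme.{u}} (e : S₀ ≅ S₀') (g : Y ⟶ S) (i : S₀ ⟶ S)
    (i' : S₀' ⟶ S) (h : e.hom ≫ i' = i) (hCL : CL (pullback.fst g i').base) :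
    CL (pullback.fst g i).base := by
  let m : pullback g i ⟶ pullback g i' :=
    pullback.map g i g i' (𝟙 _) e.hom (𝟙 _) (by simp) (by simp [h])
  haveI : IsIso m := by
    dsimp only [m]
    infer_instance
  have hm : m ≫ pullback.fst g i' = pullback.fst g i := by
    dsimp only [m, pullback.map]
    rw [pullback.lift_fst, Category.comp_id]
  refine CL_congr (pullback.fst g i').base (pullback.fst g i).base
    (Scheme.homeoOfIso (asIso m)).symm (Homeomorph.refl _) ?_ hCL
  intro x
  have hx : m.base ((Scheme.homeoOfIso (asIso m)).symm x) = x :=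
    (Scheme.homeoOfIso (asIso m)).apply_symm_apply x
  have := congrArg (fun f => f.base ((Scheme.homeoOfIso (asIso m)).symm x)) hm
  simp only [Scheme.Hom.comp_base, TopCat.comp_app] at this
  rw [hx] at this
  exact this.symm

/-- A pullback square over a henselian pair gives a henselian couple. -/
theorem CL_fst_of_isPullback (A' : Type u) [CommRing A'] [IsNoetherianRing A'] (I' : Ideal A')
    [HenselianRing A' I'] {X X₀ : Scheme.{u}} (f' : X ⟶ Spec (CommRingCat.of A')) [IsProper f']
    (i : X₀ ⟶ X) (t : X₀ ⟶ Spec (CommRingCat.of (A' ⧸ I')))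
    (hpb : IsPullback i t f' (Spec.map (CommRingCat.ofHom (Ideal.Quotient.mk I'))))
    {Y : Scheme.{u}} (g : Y ⟶ X) [IsFinite g] :
    CL (pullback.fst g i).base := by
  refine CL_fst_of_iso_right hpb.isoPullback g i _ (hpb.isoPullback_hom_fst)
    (CL_fst_of_finite_of_henselian A' I' f' g)

/-- The reduction of HC8 with the henselian property of global sections as a hypothesis. -/
theorem exists_proper_over_henselian_pair_of_henselianRing
    (A : Type u) [CommRing A] [IsNoetherianRing A] (I : Ideal A) {X : Scheme.{u}}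
    (f : X ⟶ Spec (CommRingCat.of A)) [IsProper f]
    (hHens : HenselianRing (Γ(X, ⊤) : Type u)
      (RingHom.ker (pullback.fst f
        (Spec.map (CommRingCat.ofHom (Ideal.Quotient.mk I)))).appTop.hom)) :
    ∃ (A' : Type u) (_ : CommRing A') (I' : Ideal A') (_ : HenselianRing A' I')
      (_ : IsNoetherianRing A')
      (f' : X ⟶ Spec (CommRingCat.of A')) (_ : IsProper f')
      (t : pullback f (Spec.map (CommRingCat.ofHom (Ideal.Quotient.mk I))) ⟶
        Spec (CommRingCat.of (A' ⧸ I'))),
      IsPullback (pullback.fst f (Spec.map (CommRingCat.ofHom (Ideal.Quotient.mk I)))) t f'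
        (Spec.map (CommRingCat.ofHom (Ideal.Quotient.mk I'))) := by
  let mk : Spec (CommRingCat.of (A ⧸ I)) ⟶ Spec (CommRingCat.of A) :=
    Spec.map (CommRingCat.ofHom (Ideal.Quotient.mk I))
  haveI : IsClosedImmersion mk :=
    IsClosedImmersion.spec_of_surjective _ Ideal.Quotient.mk_surjective
  let i : pullback f mk ⟶ X := pullback.fst f mk
  let sn : pullback f mk ⟶ Spec (CommRingCat.of (A ⧸ I)) := pullback.snd f mk
  haveI : IsClosedImmersion i := by
    dsimp only [i]
    infer_instance
  haveI : CompactSpace X := (quasiCompact_iff_compactSpace f).mp inferInstance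
  haveI : QuasiSeparatedSpace X := (quasiSeparated_iff_quasiSeparatedSpace f).mp inferInstance
  let γA := Scheme.ΓSpecIso (CommRingCat.of A)
  let ρ : A →+* Γ(X, ⊤) := f.appTop.hom.comp γA.inv.hom
  have hfin : ρ.Finite := finite_toGlobal_of_isProper A f
  have hNoeth : IsNoetherianRing Γ(X, ⊤) := by
    letI : Algebra A Γ(X, ⊤) := ρ.toAlgebra
    haveI : Module.Finite A Γ(X, ⊤) := hfin
    exact IsNoetherianRing.of_finite A Γ(X, ⊤)
  -- the ideal `I Γ(X)` lies in the kernel of restriction
  have hle : I.map ρ ≤ RingHom.ker i.appTop.hom := by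
    rw [Ideal.map_le_iff_le_comap]
    intro a ha
    rw [Ideal.mem_comap, RingHom.mem_ker]
    have e1 : f.appTop ≫ i.appTop = mk.appTop ≫ sn.appTop := by
      rw [← Scheme.Hom.comp_appTop, ← Scheme.Hom.comp_appTop, pullback.condition]
    have e2 : CommRingCat.ofHom (Ideal.Quotient.mk I) ≫
        (Scheme.ΓSpecIso (CommRingCat.of (A ⧸ I))).inv = γA.inv ≫ mk.appTop :=
      Scheme.ΓSpecIso_inv_naturality _
    have e3 : γA.inv ≫ f.appTop ≫ i.appTop = CommRingCat.ofHom (Ideal.Quotient.mk I) ≫
        (Scheme.ΓSpecIso (CommRingCat.of (A ⧸ I))).inv ≫ sn.appTop := by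
      rw [e1, ← Category.assoc, ← e2, Category.assoc]
    have e4 := congrArg (fun m => m.hom a) e3
    simp only [CommRingCat.hom_comp, RingHom.comp_apply, CommRingCat.hom_ofHom] at e4
    have e5 : Ideal.Quotient.mk I a = 0 := Ideal.Quotient.eq_zero_iff_mem.mpr ha
    rw [e5, map_zero, map_zero] at e4
    exact e4
  haveI := hHens
  have hHens' : HenselianRing (Γ(X, ⊤) : Type u) (I.map ρ) :=
    Groth.Agent.Lib.Helper12.HensRad.henselianRing_of_le _ _ hle
  -- the factorisation of `f`
  let f' : X ⟶ Spec (CommRingCat.of (Γ(X, ⊤) : Type u)) := X.toSpecΓ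
  have hfac : f = f' ≫ Spec.map (CommRingCat.ofHom ρ) :=
    Groth.Agent.Lib.Helper22.eq_toSpecΓ_comp X (CommRingCat.of A) f
  haveI : IsProper (f' ≫ Spec.map (CommRingCat.ofHom ρ)) := by
    rw [← hfac]
    infer_instance
  haveI hf'prop : IsProper f' := IsProper.of_comp f' (Spec.map (CommRingCat.ofHom ρ))
  -- the bottom square
  have hbot := isPullback_SpecMap_of_isPushout _ _ _ _ (isPushout_quotient ρ I)
  have hbig : IsPullback i sn (f' ≫ Spec.map (CommRingCat.ofHom ρ)) mk := by
    rw [← hfac]
    exact IsPullback.of_hasPullback f mk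
  exact ⟨(Γ(X, ⊤) : Type u), inferInstance, I.map ρ, hHens', hNoeth, f', hf'prop, _,
    IsPullback.of_bot' hbig hbot⟩

end Groth.Agent.Lib.Helper4.ZC
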