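import Mathlib
import Groth.Prelude.Def_CAlg2

/-!
# The integral closure of a unibranch local domain in a radicial extension is local
-/

set_option autoImplicit false
set_option linter.style.haveILetI false
set_option linter.unusedSectionVars false
universe u

namespace Groth.Agent.Lib.Helper4.ZU

open Polynomial

section
variable {A : Type u} [CommRing A] [IsDomain A] [IsLocalRing A]
  {k : Type u} [Field k] [Algebra A k] [IsFractionRing A k]
  {K : Type u} [Field K] (ι : k →+* K)

/-- the key step: an integral element whose `p^e`-th power lies in `k` -/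
theorem isUnit_or_isUnit_one_sub_of_isUnibranch (hU : CAlg2.IsUnibranch A)
    (σ : A →+* K) (hσ : σ = ι.comp (algebraMap A k))
    (c : K) (hc : σ.IsIntegralElem c) (e : ℕ) (κ : k) (hκ : ι κ = c ^ (ringExpChar K ^ e)) :
    (∃ d : K, σ.IsIntegralElem d ∧ c * d = 1) ∨
      (∃ d : K, σ.IsIntegralElem d ∧ (1 - c) * d = 1) := by
  classical
  obtain ⟨hdom, hloc⟩ := hU
  haveI := hdom
  haveI := hloc
  let Ar := CAlg2.red A
  let π : A →+* Ar := Ideal.Quotient.mk (nilradical A)
  have hπsurj : Function.Surjective π := Ideal.Quotient.mk_surjective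
  have hnil : nilradical A = ⊥ := nilradical_eq_zero A
  let g : Ar →+* k := Ideal.Quotient.lift (nilradical A) (algebraMap A k) (by
    intro a ha
    rw [hnil, Ideal.mem_bot] at ha
    rw [ha, map_zero])
  have hgπ : ∀ a, g (π a) = algebraMap A k a := fun a => Ideal.Quotient.lift_mk _ _ _
  have hginj : Function.Injective g := by
    rw [injective_iff_map_eq_zero]
    intro r hr
    obtain ⟨a, rfl⟩ := hπsurj r
    rw [hgπ] at hr
    have : a = 0 := (IsFractionRing.injective A k) (by rw [hr, map_zero])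
    rw [this, map_zero]
  let F := FractionRing Ar
  let Λ : F →+* k := IsFractionRing.lift (K := F) hginj
  have hΛ : ∀ r : Ar, Λ (algebraMap Ar F r) = g r := fun r => IsFractionRing.lift_algebraMap hginj r
  have hΛinj : Function.Injective Λ := Λ.injective
  have hΛsurj : Function.Surjective Λ := by
    intro x
    obtain ⟨a, b, hb, rfl⟩ := IsFractionRing.div_surjective (A := A) x
    refine ⟨algebraMap Ar F (π a) / algebraMap Ar F (π b), ?_⟩
    rw [map_div₀, hΛ, hΛ, hgπ, hgπ]
  have hcompA : Λ.comp ((algebraMap Ar F).comp π) = algebraMap A k := by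
    ext a
    simp only [RingHom.comp_apply]
    rw [hΛ, hgπ]
  have hσ' : σ = (ι.comp Λ).comp ((algebraMap Ar F).comp π) := by
    rw [hσ, RingHom.comp_assoc, hcompA]
  letI : Algebra A K := σ.toAlgebra
  -- elements of the normalization give integral elements
  have hN : ∀ z : CAlg2.normRed A, σ.IsIntegralElem (ι (Λ z.1)) := by
    intro z
    obtain ⟨P₀, hP₀, hz⟩ := z.2
    obtain ⟨P, hP, -, hPm⟩ := Polynomial.lifts_and_degree_eq_and_monic
      ((Polynomial.mem_lifts _).mpr (Polynomial.map_surjective π hπsurj P₀)) hP₀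
    refine ⟨P, hPm, ?_⟩
    have h1 : Polynomial.eval₂ σ (ι (Λ z.1)) P =
        (ι.comp Λ) (Polynomial.eval₂ ((algebraMap Ar F).comp π) z.1 P) := by
      rw [Polynomial.hom_eval₂, ← hσ']
      rfl
    rw [h1, ← Polynomial.eval₂_map, hP, hz, map_zero]
  -- `κ` is integral over `A`
  have hκint : (algebraMap A k).IsIntegralElem κ := by
    have h1 : σ.IsIntegralElem (c ^ (ringExpChar K ^ e)) := IsIntegral.pow hc _
    obtain ⟨P', hP', hPc⟩ := h1
    refine ⟨P', hP', ?_⟩
    apply ι.injective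
    rw [map_zero, Polynomial.hom_eval₂, ← hσ, hκ]
    exact hPc
  obtain ⟨w, hw⟩ := hΛsurj κ
  have hwint : IsIntegral Ar w := by
    obtain ⟨P', hP', hPκ⟩ := hκint
    refine ⟨P'.map π, hP'.map π, ?_⟩
    apply hΛinj
    rw [map_zero, Polynomial.eval₂_map, Polynomial.hom_eval₂, hw, hcompA]
    exact hPκ
  let z : CAlg2.normRed A := ⟨w, hwint⟩
  have hq0 : ringExpChar K ^ e ≠ 0 :=
    pow_ne_zero _ (Nat.pos_iff_ne_zero.mp (lt_of_lt_of_le Nat.one_pos (le_max_right _ _)))
  have hqs : ringExpChar K ^ e - 1 + 1 = ringExpChar K ^ e :=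
    Nat.sub_add_cancel (Nat.one_le_iff_ne_zero.mpr hq0)
  have hpow : (1 - c) ^ (ringExpChar K ^ e) = 1 - c ^ (ringExpChar K ^ e) := by
    rw [sub_pow_expChar_pow, one_pow]
  rcases IsLocalRing.isUnit_or_isUnit_one_sub_self z with hz | hz
  · left
    obtain ⟨z', hz'⟩ := isUnit_iff_exists_inv.mp hz
    refine ⟨c ^ (ringExpChar K ^ e - 1) * ι (Λ z'.1), ?_, ?_⟩
    · exact IsIntegral.mul (IsIntegral.pow hc _) (hN z')
    · rw [← mul_assoc, ← pow_succ', hqs, ← hκ, ← hw, ← map_mul, ← map_mul]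
      have h2 : w * z'.1 = 1 := congrArg Subtype.val hz'
      rw [h2, map_one, map_one]
  · right
    obtain ⟨z', hz'⟩ := isUnit_iff_exists_inv.mp hz
    refine ⟨(1 - c) ^ (ringExpChar K ^ e - 1) * ι (Λ z'.1), ?_, ?_⟩
    · refine IsIntegral.mul (IsIntegral.pow ?_ _) (hN z')
      exact IsIntegral.sub isIntegral_one hc
    · rw [← mul_assoc, ← pow_succ', hqs, hpow, ← hκ, ← hw]
      have h2 : (1 - w) * z'.1 = 1 := congrArg Subtype.val hz'
      have h3 : (1 : K) - ι (Λ w) = ι (Λ (1 - w)) := by rw [map_sub, map_sub, map_one, map_one]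
      rw [h3, ← map_mul, ← map_mul, h2, map_one, map_one]

/-- The integral closure of a unibranch local domain `A` in a field extension `K` of its
fraction field `k`, in which every element algebraic over `k` is radicial over `k`, is local. -/
theorem isLocalRing_of_isUnibranch (hU : CAlg2.IsUnibranch A)
    (σ : A →+* K) (hσ : σ = ι.comp (algebraMap A k))
    (hrad : ∀ x : K, (∃ q : Polynomial k, q ≠ 0 ∧ Polynomial.eval₂ ι x q = 0) →
      ∃ e : ℕ, x ^ (ringExpChar K ^ e) ∈ Set.range ι)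
    (C : Subring K) (hC : ∀ x : K, x ∈ C ↔ σ.IsIntegralElem x) : IsLocalRing C := by
  refine IsLocalRing.of_isUnit_or_isUnit_one_sub_self fun c => ?_
  have hc : σ.IsIntegralElem c.1 := (hC c.1).mp c.2
  obtain ⟨P, hP, hPc⟩ := hc
  have halg : ∃ q : Polynomial k, q ≠ 0 ∧ Polynomial.eval₂ ι c.1 q = 0 := by
    refine ⟨P.map (algebraMap A k), (hP.map _).ne_zero, ?_⟩
    rw [Polynomial.eval₂_map, ← hσ]
    exact hPc
  obtain ⟨e, κ, hκ⟩ := hrad c.1 halg
  rcases isUnit_or_isUnit_one_sub_of_isUnibranch ι hU σ hσ c.1 ⟨P, hP, hPc⟩ e κ hκ with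
    ⟨d, hd, hcd⟩ | ⟨d, hd, hcd⟩
  · left
    exact isUnit_iff_exists_inv.mpr ⟨⟨d, (hC d).mpr hd⟩, Subtype.ext hcd⟩
  · right
    exact isUnit_iff_exists_inv.mpr ⟨⟨d, (hC d).mpr hd⟩, Subtype.ext hcd⟩

end

end Groth.Agent.Lib.Helper4.ZU
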