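import Mathlib
import Groth.Prelude.Def_ega3
import Groth.Agent.Lib.Helper4.ZU1
import Groth.Agent.Lib.Helper4.ZM3

/-!
# Connectedness of fibres over unibranch points
-/

set_option autoImplicit false
set_option linter.style.haveILetI false
set_option linter.unusedSectionVars false
universe u

namespace Groth.Agent.Lib.Helper4.ZU

open AlgebraicGeometry CategoryTheory Limits TopologicalSpace Opposite

variable {X Y : Scheme.{u}} [IsIntegral X] [IsIntegral Y] (f : X ⟶ Y)
  (hdom : f.base (genericPoint X) ⤳ genericPoint Y)

theorem stalkToFunctionField_eq_comp (y : Y) :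
    CohIII.stalkToFunctionField f y
        (hdom.trans ((genericPoint_spec Y).specializes (Set.mem_univ y))) =
      (CohIII.stalkToFunctionField f (genericPoint Y) hdom).comp
        (algebraMap (Y.presheaf.stalk y) Y.functionField) := by
  ext r
  unfold CohIII.stalkToFunctionField
  simp only [RingHom.comp_apply]
  congr 1
  have h1 := congrArg (fun k => k.hom r) (Y.presheaf.stalkSpecializes_comp hdom
    ((genericPoint_spec Y).specializes (Set.mem_univ y)))
  simp only [CommRingCat.hom_comp, RingHom.comp_apply] at h1
  exact h1.symm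

include hdom in
theorem surjective_of_isProper_of_dominant [IsProper f] : Function.Surjective f.base := by
  intro y
  have hcl : IsClosed (Set.range f.base) := f.isClosedMap.isClosed_range
  have h1 : genericPoint Y ∈ Set.range f.base :=
    hdom.mem_closed hcl ⟨genericPoint X, rfl⟩
  exact ((genericPoint_spec Y).specializes (Set.mem_univ y)).mem_closed hcl h1

theorem connectedSpace_fiber_of_isUnibranch [IsProper f] [IsLocallyNoetherian Y]
    (hrad : ∀ x : X.functionField,
      (∃ q : Polynomial Y.functionField, q ≠ 0 ∧
        Polynomial.eval₂ (CohIII.stalkToFunctionField f (genericPoint Y) hdom) x q = 0) →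
      ∃ e : ℕ, x ^ (ringExpChar X.functionField ^ e) ∈
        Set.range (CohIII.stalkToFunctionField f (genericPoint Y) hdom))
    (y : Y) (hy : CAlg2.IsUnibranch (Y.presheaf.stalk y)) :
    ConnectedSpace ↥(f.fiber y) := by
  have hsp : genericPoint Y ⤳ y := (genericPoint_spec Y).specializes (Set.mem_univ y)
  have h : f.base (genericPoint X) ⤳ y := hdom.trans hsp
  let C : Subring X.functionField := CohIII.integralClosureStalk f y h
  haveI hloc : IsLocalRing C :=
    isLocalRing_of_isUnibranch (CohIII.stalkToFunctionField f (genericPoint Y) hdom) hy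
      (CohIII.stalkToFunctionField f y h) (stalkToFunctionField_eq_comp f hdom y) hrad C
      (fun _ => Iff.rfl)
  haveI : Subsingleton (MaximalSpectrum C) :=
    ⟨fun a b => MaximalSpectrum.ext (by
      rw [IsLocalRing.eq_maximalIdeal a.isMaximal, IsLocalRing.eq_maximalIdeal b.isMaximal])⟩
  have hle := Groth.Agent.Lib.Helper4.ZM.mk_connectedComponents_fiber_le f y h
  have hle1 : Cardinal.mk (MaximalSpectrum C) ≤ 1 := Cardinal.le_one_iff_subsingleton.mpr inferInstance
  haveI hsub : Subsingleton (_root_.ConnectedComponents ↥(f.fiber y)) :=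
    Cardinal.le_one_iff_subsingleton.mp (hle.trans hle1)
  haveI : PreconnectedSpace ↥(f.fiber y) := by
    rw [preconnectedSpace_iff_connectedComponent]
    intro x
    rw [Set.eq_univ_iff_forall]
    intro x'
    have h1 : (x : _root_.ConnectedComponents ↥(f.fiber y)) = x' := Subsingleton.elim _ _
    rw [ConnectedComponents.coe_eq_coe] at h1
    rw [h1]
    exact mem_connectedComponent
  haveI : Nonempty ↥(f.fiber y) := by
    obtain ⟨x, hx⟩ := surjective_of_isProper_of_dominant f hdom y
    exact ⟨(f.fiberHomeo y).symm ⟨x, hx⟩⟩
  exact ⟨inferInstance⟩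

end Groth.Agent.Lib.Helper4.ZU
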