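import Mathlib
import Groth.Prelude.Def_CAlg2
import Groth.Agent.Lib.Helper4.ZU1

/-!
# Maximal ideals of the integral closure of a unibranch local domain: at most the separable degree
-/

set_option autoImplicit false
set_option linter.style.haveILetI false
set_option linter.unusedSectionVars false
universe u

namespace Groth.Agent.Lib.Helper4.ZV

open Polynomial

section
variable {A : Type u} [CommRing A] [IsDomain A] [IsLocalRing A]
  {k : Type u} [Field k] [Algebra A k] [IsFractionRing A k]
  {K : Type u} [Field K] [Algebra k K]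

theorem finite_maximalSpectrum_and_card_le (hU : CAlg2.IsUnibranch A)
    (σ : A →+* K) (hσ : σ = (algebraMap k K).comp (algebraMap A k))
    (n : ℕ) (hn0 : 0 < n) (hn : Field.finSepDegree k ↥(algebraicClosure k K) = n)
    (C : Subring K) (hC : ∀ x : K, x ∈ C ↔ σ.IsIntegralElem x) :
    Finite (MaximalSpectrum C) ∧ Nat.card (MaximalSpectrum C) ≤ n := by
  classical
  let k' := algebraicClosure k K
  let Ω := AlgebraicClosure k'
  let ω : k →+* Ω := algebraMap k Ω
  let ω' : k' →+* Ω := algebraMap k' Ω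
  let σΩ : A →+* Ω := ω.comp (algebraMap A k)
  -- the normalization of `A`
  let N : Subring k := (integralClosure A k).toSubring
  have hN : ∀ x : k, x ∈ N ↔ (algebraMap A k).IsIntegralElem x := fun _ => Iff.rfl
  haveI hNloc : IsLocalRing N :=
    Groth.Agent.Lib.Helper4.ZU.isLocalRing_of_isUnibranch (RingHom.id k) hU (algebraMap A k)
      (RingHom.id_comp _).symm (fun x _ => ⟨0, x, by simp⟩) N hN
  -- integral elements of `Ω`
  let D : Subring Ω := (letI : Algebra A Ω := σΩ.toAlgebra; (integralClosure A Ω).toSubring)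
  have hD : ∀ x : Ω, x ∈ D ↔ σΩ.IsIntegralElem x := fun _ => Iff.rfl
  -- finiteness of embeddings
  haveI hfin : Finite (k' →ₐ[k] Ω) := by
    have h1 : Nat.card (k' →ₐ[k] Ω) = n := hn
    exact Nat.finite_of_card_ne_zero (by rw [h1]; exact Nat.pos_iff_ne_zero.mp hn0)
  -- elements of `C` are algebraic
  have hCk' : ∀ c : C, (c : K) ∈ k' := by
    intro c
    obtain ⟨P, hP, hPc⟩ := (hC c.1).mp c.2
    rw [mem_algebraicClosure_iff]
    refine ⟨P.map (algebraMap A k), (hP.map _).ne_zero, ?_⟩
    rw [Polynomial.aeval_def, Polynomial.eval₂_map, ← hσ]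
    exact hPc
  -- the inclusion `C → k'`
  let incl : C →+* k' := (C.subtype).codRestrict k' hCk'
  -- compatibility of the maps out of `A`
  have hωω' : ∀ x : k, ω' (algebraMap k k' x) = ω x := fun x =>
    (IsScalarTower.algebraMap_apply k k' Ω x).symm
  -- images of integral elements under embeddings are integral
  have hτD : ∀ (τ : k' →ₐ[k] Ω) (c : C), τ (incl c) ∈ D := by
    intro τ c
    obtain ⟨P, hP, hPc⟩ := (hC c.1).mp c.2
    rw [hD]
    refine ⟨P, hP, ?_⟩
    have h1 : Polynomial.eval₂ ((algebraMap k k').comp (algebraMap A k)) (incl c) P = 0 := by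
      apply Subtype.val_injective
      have h0 := Polynomial.hom_eval₂ P ((algebraMap k k').comp (algebraMap A k))
        (k'.val : k' →+* K) (incl c)
      have h2 : (k'.val : k' →+* K).comp ((algebraMap k k').comp (algebraMap A k)) = σ := by
        rw [hσ]
        rfl
      rw [h2] at h0
      exact h0.trans hPc
    have h3 := congrArg τ h1
    rw [map_zero] at h3
    have h4 : (τ : k' →+* Ω).comp ((algebraMap k k').comp (algebraMap A k)) = σΩ := by
      ext a
      simp only [RingHom.comp_apply, σΩ]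
      exact τ.commutes _
    have h5 : τ (Polynomial.eval₂ ((algebraMap k k').comp (algebraMap A k)) (incl c) P) =
        Polynomial.eval₂ σΩ (τ (incl c)) P := by
      rw [← h4]
      exact Polynomial.hom_eval₂ P _ (τ : k' →+* Ω) _
    rw [← h5]
    exact h3
  obtain ⟨P₀, hP₀⟩ := Ideal.exists_maximal D
  haveI := hP₀
  let θ : (k' →ₐ[k] Ω) → (C →+* D) := fun τ =>
    ((τ : k' →+* Ω).comp incl).codRestrict D (hτD τ)
  let σC : A →+* C := σ.codRestrict C (fun a => (hC _).mpr σ.isIntegralElem_map)
  let σD : A →+* D := σΩ.codRestrict D (fun a => (hD _).mpr σΩ.isIntegralElem_map)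
  have hinclσ : ∀ a : A, incl (σC a) = algebraMap k k' (algebraMap A k a) := by
    intro a
    apply Subtype.val_injective
    change σ a = algebraMap k K (algebraMap A k a)
    rw [hσ]
    rfl
  have hθσ : ∀ τ, (θ τ).comp σC = σD := by
    intro τ
    ext a
    change τ (incl (σC a)) = σΩ a
    rw [hinclσ]
    exact τ.commutes _
  -- integrality of `σD` and of the `θ τ`
  have hσDint : σD.IsIntegral := by
    intro d
    obtain ⟨P, hP, hPd⟩ := (hD d.1).mp d.2
    refine ⟨P, hP, ?_⟩
    apply Subtype.val_injective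
    have h0 := Polynomial.hom_eval₂ P σD D.subtype d
    exact h0.trans hPd
  have hθint : ∀ τ, (θ τ).IsIntegral := by
    intro τ
    have h1 : ((θ τ).comp σC).IsIntegral := (hθσ τ).symm ▸ hσDint
    exact RingHom.IsIntegral.tower_top σC (θ τ) h1
  have hQmax : ∀ τ, (P₀.comap (θ τ)).IsMaximal := by
    intro τ
    letI : Algebra C D := (θ τ).toAlgebra
    haveI : Algebra.IsIntegral C D := ⟨hθint τ⟩
    exact Ideal.isMaximal_comap_of_isIntegral_of_isMaximal (R := C) P₀
  let Ψ : (k' →ₐ[k] Ω) → MaximalSpectrum C := fun τ => ⟨P₀.comap (θ τ), hQmax τ⟩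
  have hsurj : Function.Surjective Ψ := by
    intro Q
    by_contra hne
    push Not at hne
    have hnle : ∀ τ, ¬ Q.asIdeal ≤ P₀.comap (θ τ) := by
      intro τ hle
      apply hne τ
      apply MaximalSpectrum.ext
      exact (Q.isMaximal.eq_of_le (hQmax τ).ne_top hle).symm
    cases nonempty_fintype (k' →ₐ[k] Ω)
    have hτ₀ : (k' →ₐ[k] Ω) := IsScalarTower.toAlgHom k k' Ω
    have havoid : ¬ ((Q.asIdeal : Set C) ⊆
        ⋃ τ ∈ ((Finset.univ : Finset (k' →ₐ[k] Ω)) : Set (k' →ₐ[k] Ω)), (P₀.comap (θ τ) : Set C)) := by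
      intro hsub
      obtain ⟨τ, -, hτ⟩ := (Ideal.subset_union_prime (s := Finset.univ)
        (f := fun τ => P₀.comap (θ τ)) hτ₀ hτ₀
        (fun τ _ _ _ => (hQmax τ).isPrime)).mp hsub
      exact hnle τ hτ
    obtain ⟨c, hcQ, hcτ'⟩ := Set.not_subset.mp havoid
    have hcτ : ∀ τ, θ τ c ∉ P₀ := by
      intro τ hmem
      apply hcτ'
      simp only [Set.mem_iUnion]
      exact ⟨τ, Finset.mem_coe.mpr (Finset.mem_univ τ), hmem⟩
    -- the minimal polynomial and its roots
    let x : k' := incl c
    let P : Polynomial k := minpoly k x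
    have hxint : IsIntegral k x := Algebra.IsIntegral.isIntegral x
    have hPmonic : P.Monic := minpoly.monic hxint
    let PΩ : Polynomial Ω := P.map ω
    have hsplit : PΩ.Splits := IsAlgClosed.splits _
    let R : Multiset Ω := PΩ.roots
    have hPΩne : PΩ ≠ 0 := (hPmonic.map ω).ne_zero
    have hroot : ∀ ρ ∈ R, ∃ τ : k' →ₐ[k] Ω, τ x = ρ := by
      intro ρ hρ
      have h1 := Algebra.IsAlgebraic.range_eval_eq_rootSet_minpoly_of_splits (F := k) (K := k') Ω
        (fun y => IsAlgClosed.splits _) x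
      have h2 : ρ ∈ (minpoly k x).rootSet Ω := by
        rw [Polynomial.mem_rootSet_of_ne (minpoly.ne_zero hxint)]
        have h3 := (Polynomial.mem_roots hPΩne).mp hρ
        rw [Polynomial.IsRoot.def, Polynomial.eval_map] at h3
        exact h3
      rw [← h1] at h2
      exact h2
    have hRD : ∀ ρ ∈ R, ρ ∈ D := by
      intro ρ hρ
      obtain ⟨τ, rfl⟩ := hroot ρ hρ
      exact hτD τ c
    have hRP₀ : ∀ (ρ : Ω) (hρ : ρ ∈ R), (⟨ρ, hRD ρ hρ⟩ : D) ∉ P₀ := by
      intro ρ hρ
      obtain ⟨τ, rfl⟩ := hroot ρ hρ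
      exact hcτ τ
    let RD : Multiset D := R.attach.map (fun ρ => ⟨ρ.1, hRD ρ.1 ρ.2⟩)
    have hRDmap : RD.map D.subtype = R := by
      change (R.attach.map _).map D.subtype = R
      rw [Multiset.map_map]
      exact Multiset.attach_map_val R
    have hRDprod : (RD.prod : Ω) = R.prod := by
      have h1 := map_multiset_prod D.subtype RD
      rw [hRDmap] at h1
      exact h1
    have hRDnot : RD.prod ∉ P₀ := by
      intro hmem
      obtain ⟨d, hd, hdP⟩ := (hP₀.isPrime.multiset_prod_mem_iff_exists_mem RD).mp hmem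
      obtain ⟨ρ, -, rfl⟩ := Multiset.mem_map.mp hd
      exact hRP₀ ρ.1 ρ.2 hdP
    let a₀ : k := P.coeff 0
    have ha₀ : ω a₀ = (-1) ^ PΩ.natDegree * R.prod := by
      have h1 := hsplit.coeff_zero_eq_prod_roots_of_monic (hPmonic.map ω)
      rw [Polynomial.coeff_map] at h1
      exact h1
    have ha₀D : ω a₀ ∈ D := by
      rw [ha₀, ← hRDprod]
      exact D.mul_mem (D.pow_mem (D.neg_mem D.one_mem) _) RD.prod.2
    have ha₀not : (⟨ω a₀, ha₀D⟩ : D) ∉ P₀ := by
      intro hmem
      apply hRDnot
      have h1 : RD.prod = (-1) ^ PΩ.natDegree * (⟨ω a₀, ha₀D⟩ : D) := by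
        apply Subtype.val_injective
        change (RD.prod : Ω) = (-1) ^ PΩ.natDegree * ω a₀
        rw [ha₀, hRDprod, ← mul_assoc, ← mul_pow, neg_one_mul, neg_neg, one_pow, one_mul]
      rw [h1]
      exact P₀.mul_mem_left _ hmem
    -- descent of integrality along `ω`
    have hωN : ∀ z : k, ω z ∈ D → z ∈ N := by
      intro z hz
      obtain ⟨Pz, hPz, hPzz⟩ := (hD _).mp hz
      rw [hN]
      refine ⟨Pz, hPz, ?_⟩
      apply ω.injective
      rw [map_zero, Polynomial.hom_eval₂]
      exact hPzz
    have hNω : ∀ z : N, ω z.1 ∈ D := by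
      intro z
      obtain ⟨Pz, hPz, hPzz⟩ := (hN _).mp z.2
      rw [hD]
      refine ⟨Pz, hPz, ?_⟩
      change Polynomial.eval₂ (ω.comp (algebraMap A k)) (ω z.1) Pz = 0
      rw [← Polynomial.hom_eval₂, hPzz, map_zero]
    let νD : N →+* D := (ω.comp N.subtype).codRestrict D hNω
    let σN : A →+* N := (algebraMap A k).codRestrict N
      (fun a => (hN _).mpr (algebraMap A k).isIntegralElem_map)
    have hνσ : νD.comp σN = σD := by
      ext a
      rfl
    have hνint : νD.IsIntegral := by
      have h1 : (νD.comp σN).IsIntegral := hνσ.symm ▸ hσDint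
      exact RingHom.IsIntegral.tower_top σN νD h1
    have hcomapN : P₀.comap νD = IsLocalRing.maximalIdeal N := by
      letI : Algebra N D := νD.toAlgebra
      haveI : Algebra.IsIntegral N D := ⟨hνint⟩
      have hmax : (P₀.comap νD).IsMaximal :=
        Ideal.isMaximal_comap_of_isIntegral_of_isMaximal (R := N) P₀
      exact IsLocalRing.eq_maximalIdeal hmax
    let a₀N : N := ⟨a₀, hωN a₀ ha₀D⟩
    have ha₀unit : IsUnit a₀N := by
      by_contra hnu
      have h1 : a₀N ∈ IsLocalRing.maximalIdeal N := (IsLocalRing.mem_maximalIdeal _).mpr hnu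
      rw [← hcomapN] at h1
      exact ha₀not h1
    obtain ⟨b, hb⟩ := isUnit_iff_exists_inv.mp ha₀unit
    have hb' : a₀ * b.1 = 1 := congrArg Subtype.val hb
    -- `x` is a root
    have hσΩ' : σΩ = ω'.comp ((algebraMap k k').comp (algebraMap A k)) := by
      ext a
      simp only [RingHom.comp_apply, σΩ]
      exact (hωω' _).symm
    have hxR : ω' x ∈ R := by
      rw [Polynomial.mem_roots hPΩne, Polynomial.IsRoot.def, Polynomial.eval_map]
      have h1 : Polynomial.eval₂ (algebraMap k k') x P = 0 := by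
        have := minpoly.aeval k x
        rwa [Polynomial.aeval_def] at this
      have h2 := congrArg ω' h1
      rw [map_zero, Polynomial.hom_eval₂] at h2
      have h3 : ω'.comp (algebraMap k k') = ω := by
        ext z
        exact hωω' z
      rw [h3] at h2
      exact h2
    let R' : Multiset Ω := R.erase (ω' x)
    have hR'prod : ω' x * R'.prod = R.prod := Multiset.prod_erase hxR
    have hR'D : R'.prod ∈ D :=
      Subring.multiset_prod_mem D R' (fun ρ hρ => hRD ρ (Multiset.mem_of_mem_erase hρ))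
    let u : Ω := (-1) ^ PΩ.natDegree * R'.prod * ω b.1
    have huD : u ∈ D :=
      D.mul_mem (D.mul_mem (D.pow_mem (D.neg_mem D.one_mem) _) hR'D) (hNω b)
    have hxu : ω' x * u = 1 := by
      have h1 : ω' x * u = ((-1) ^ PΩ.natDegree * (ω' x * R'.prod)) * ω b.1 := by
        simp only [u]
        ring
      rw [h1, hR'prod, ← ha₀, ← map_mul, hb', map_one]
    have hu : u = ω' x⁻¹ := by
      rw [map_inv₀]
      exact eq_inv_of_mul_eq_one_right hxu
    have hx0 : x ≠ 0 := by
      intro h0
      rw [h0, map_zero, zero_mul] at hxu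
      exact zero_ne_one hxu
    have hinvC : ((x⁻¹ : k') : K) ∈ C := by
      rw [hC]
      obtain ⟨Pu, hPu, hPuu⟩ := (hD _).mp huD
      refine ⟨Pu, hPu, ?_⟩
      rw [hu, hσΩ', ← Polynomial.hom_eval₂] at hPuu
      have h1 : Polynomial.eval₂ ((algebraMap k k').comp (algebraMap A k)) x⁻¹ Pu = 0 :=
        ω'.injective (by rw [hPuu, map_zero])
      have h0 := Polynomial.hom_eval₂ Pu ((algebraMap k k').comp (algebraMap A k))
        (k'.val : k' →+* K) x⁻¹
      have h2 : (k'.val : k' →+* K).comp ((algebraMap k k').comp (algebraMap A k)) = σ := by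
        rw [hσ]
        rfl
      rw [h2, h1, map_zero] at h0
      exact h0.symm
    have hone : (1 : C) ∈ Q.asIdeal := by
      have h1 : c * (⟨((x⁻¹ : k') : K), hinvC⟩ : C) = 1 := by
        apply Subtype.val_injective
        change (x : K) * ((x⁻¹ : k') : K) = 1
        have h2 : x * x⁻¹ = 1 := mul_inv_cancel₀ hx0
        exact congrArg Subtype.val h2
      rw [← h1]
      exact Q.asIdeal.mul_mem_right _ hcQ
    exact Q.isMaximal.ne_top ((Ideal.eq_top_iff_one _).mpr hone)
  refine ⟨Finite.of_surjective Ψ hsurj, ?_⟩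
  rw [← hn]
  exact Nat.card_le_card_of_surjective Ψ hsurj

end

end Groth.Agent.Lib.Helper4.ZV
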