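import Mathlib
import Groth.Prelude.Def_ega3
import Groth.Agent.Lib.Helper4.ZV1
import Groth.Agent.Lib.Helper4.ZU2

/-!
# Number of connected components of fibres over unibranch points
-/

set_option autoImplicit false
set_option linter.style.haveILetI false
set_option linter.unusedSectionVars false
universe u

namespace Groth.Agent.Lib.Helper4.ZV

open AlgebraicGeometry CategoryTheory Limits TopologicalSpace Opposite

variable {X Y : Scheme.{u}} [IsIntegral X] [IsIntegral Y] (f : X ⟶ Y)
  (hdom : f.base (genericPoint X) ⤳ genericPoint Y)

theorem card_connectedComponents_fiber_le [IsProper f] [IsLocallyNoetherian Y]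
    [Algebra Y.functionField X.functionField]
    (halg : algebraMap Y.functionField X.functionField =
      CohIII.stalkToFunctionField f (genericPoint Y) hdom)
    (n : ℕ) (hn0 : 0 < n)
    (hn : Field.finSepDegree Y.functionField
      ↥(algebraicClosure Y.functionField X.functionField) = n)
    (y : Y) (hy : CAlg2.IsUnibranch (Y.presheaf.stalk y)) :
    Finite (_root_.ConnectedComponents ↥(f.fiber y)) ∧
      Nat.card (_root_.ConnectedComponents ↥(f.fiber y)) ≤ n := by
  have hsp : genericPoint Y ⤳ y := (genericPoint_spec Y).specializes (Set.mem_univ y)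
  have h : f.base (genericPoint X) ⤳ y := hdom.trans hsp
  let C : Subring X.functionField := CohIII.integralClosureStalk f y h
  have hσ : CohIII.stalkToFunctionField f y h =
      (algebraMap Y.functionField X.functionField).comp
        (algebraMap (Y.presheaf.stalk y) Y.functionField) := by
    rw [halg]
    exact Groth.Agent.Lib.Helper4.ZU.stalkToFunctionField_eq_comp f hdom y
  obtain ⟨hfin, hcard⟩ := finite_maximalSpectrum_and_card_le hy
    (CohIII.stalkToFunctionField f y h) hσ n hn0 hn C (fun _ => Iff.rfl)
  have hle := Groth.Agent.Lib.Helper4.ZM.mk_connectedComponents_fiber_le f y h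
  obtain ⟨e⟩ := Cardinal.le_def _ _ |>.mp hle
  haveI := hfin
  refine ⟨Finite.of_injective e e.injective, ?_⟩
  exact (Nat.card_le_card_of_injective e e.injective).trans hcard

end Groth.Agent.Lib.Helper4.ZV
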