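import Mathlib
import Groth.Agent.Lib.Helper4.ZN2

/-!
# `f_* O_X = O_Y` near a normal point
-/

set_option autoImplicit false
set_option linter.style.haveILetI false
set_option linter.unusedSectionVars false
universe u

namespace Groth.Agent.Lib.Helper4.ZW

open AlgebraicGeometry CategoryTheory Limits TopologicalSpace Opposite
open Groth.Agent.Lib.Helper4.ZN

variable {X Y : Scheme.{u}} [IsIntegral X] [IsIntegral Y] (f : X ⟶ Y)
  (hdom : f.base (genericPoint X) ⤳ genericPoint Y)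

/-- gluing local sections downstairs -/
theorem bijective_app_of_exists_local_section (V : Y.Opens)
    (hloc : ∀ (y : Y) (hy : y ∈ V) (b : Γ(X, f ⁻¹ᵁ V)),
      ∃ (W : Y.Opens) (hyW : y ∈ W) (_ : W ≤ V) (s : Γ(Y, W)),
      CohIII.stalkToFunctionField f (genericPoint Y) hdom
        ((Y.presheaf.germ W (genericPoint Y) (genericPoint_mem W hyW)).hom s) =
      (X.presheaf.germ (f ⁻¹ᵁ V) (genericPoint X)
        (genericPoint_mem_preimage f hdom V (genericPoint_mem V hy))).hom b) :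
    Function.Bijective (f.app V).hom := by
  by_cases hVe : (V : Set Y).Nonempty
  swap
  · have hV : V = ⊥ := by
      ext z
      simp only [Opens.coe_bot, Set.mem_empty_iff_false, iff_false]
      exact fun hz => hVe ⟨z, hz⟩
    subst hV
    haveI : Subsingleton Γ(X, f ⁻¹ᵁ (⊥ : Y.Opens)) :=
      inferInstanceAs (Subsingleton Γ(X, (⊥ : X.Opens)))
    exact ⟨fun a b _ => Subsingleton.elim a b, fun b => ⟨0, Subsingleton.elim _ _⟩⟩
  obtain ⟨y₀, hy₀⟩ := hVe
  have hη : genericPoint Y ∈ V := genericPoint_mem V hy₀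
  have hηX : genericPoint X ∈ f ⁻¹ᵁ V := genericPoint_mem_preimage f hdom V hη
  let ι := CohIII.stalkToFunctionField f (genericPoint Y) hdom
  have hιinj : Function.Injective ι := injective_stalkToFunctionField f hdom
  constructor
  · rw [injective_iff_map_eq_zero]
    intro s hs
    have h1 := stalkToFunctionField_germ f hdom V hη s
    rw [hs, map_zero] at h1
    have h2 : (Y.presheaf.germ V (genericPoint Y) hη).hom s = 0 :=
      hιinj (h1.trans (map_zero ι).symm)
    exact germ_injective_of_isIntegral Y (genericPoint Y) hη (h2.trans (map_zero _).symm)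
  · intro b
    have hloc' := fun y : V => hloc y.1 y.2 b
    choose W hyW hWV s hs using hloc'
    have hcompat : TopCat.Presheaf.IsCompatible Y.presheaf W s := by
      intro y y'
      have hmem : genericPoint Y ∈ W y ⊓ W y' :=
        ⟨genericPoint_mem (W y) (hyW y), genericPoint_mem (W y') (hyW y')⟩
      apply germ_injective_of_isIntegral Y (genericPoint Y) hmem
      have e1 := Y.presheaf.germ_res_apply (Opens.infLELeft (W y) (W y')) (genericPoint Y)
        hmem (s y)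
      have e2 := Y.presheaf.germ_res_apply (Opens.infLERight (W y) (W y')) (genericPoint Y)
        hmem (s y')
      rw [e1, e2]
      exact hιinj ((hs y).trans (hs y').symm)
    have hcover : V ≤ iSup W := by
      intro z hz
      exact Opens.mem_iSup.mpr ⟨⟨z, hz⟩, hyW ⟨z, hz⟩⟩
    obtain ⟨t, ht, -⟩ := Y.sheaf.existsUnique_gluing' W V (fun y => homOfLE (hWV y)) hcover s
      hcompat
    refine ⟨t, ?_⟩
    apply germ_injective_of_isIntegral X (genericPoint X) hηX
    have h1 := stalkToFunctionField_germ f hdom V hη t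
    have h2 := Y.presheaf.germ_res_apply (homOfLE (hWV ⟨y₀, hy₀⟩)) (genericPoint Y)
      (genericPoint_mem (W ⟨y₀, hy₀⟩) (hyW ⟨y₀, hy₀⟩)) t
    have h3 : Y.presheaf.map (homOfLE (hWV ⟨y₀, hy₀⟩)).op t = s ⟨y₀, hy₀⟩ := ht ⟨y₀, hy₀⟩
    rw [h3] at h2
    have h4 := hs ⟨y₀, hy₀⟩
    exact (h1.symm.trans ((congrArg ι h2.symm).trans h4))

/-- Near a normal point `y`, all sections of `f_* O_X` over an affine neighbourhood `V₀` come,
generically, from sections of `O_Y` over a single smaller neighbourhood `U`. -/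
theorem exists_open_generated [IsLocallyNoetherian Y] [IsProper f]
    (halg : ∀ x : X.functionField,
      (∃ p : Polynomial Y.functionField, p ≠ 0 ∧
        Polynomial.eval₂ (CohIII.stalkToFunctionField f (genericPoint Y) hdom) x p = 0) →
      x ∈ Set.range (CohIII.stalkToFunctionField f (genericPoint Y) hdom))
    {V₀ : Y.Opens} (hV₀ : IsAffineOpen V₀) (y : Y) (hy : y ∈ V₀)
    (hyn : IsIntegrallyClosed (Y.presheaf.stalk y)) :
    ∃ (U : Y.Opens) (hyU : y ∈ U) (_ : U ≤ V₀), ∀ b : Γ(X, f ⁻¹ᵁ V₀), ∃ s : Γ(Y, U),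
      CohIII.stalkToFunctionField f (genericPoint Y) hdom
        ((Y.presheaf.germ U (genericPoint Y) (genericPoint_mem U hyU)).hom s) =
      (X.presheaf.germ (f ⁻¹ᵁ V₀) (genericPoint X)
        (genericPoint_mem_preimage f hdom V₀ (genericPoint_mem V₀ hy))).hom b := by
  classical
  let φ : Γ(Y, V₀) →+* Γ(X, f ⁻¹ᵁ V₀) := (f.app V₀).hom
  have hfin : φ.Finite := Groth.Agent.Lib.Helper4.NF.finite_app_of_isProper f hV₀
  letI : Algebra Γ(Y, V₀) Γ(X, f ⁻¹ᵁ V₀) := φ.toAlgebra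
  have hfg : (⊤ : Submodule Γ(Y, V₀) Γ(X, f ⁻¹ᵁ V₀)).FG := Module.finite_def.mp hfin
  obtain ⟨S, hS⟩ := hfg
  have hloc := fun b : Γ(X, f ⁻¹ᵁ V₀) => exists_local_section f hdom halg V₀ y hy hyn b
  choose W hyW hWV s hs using hloc
  let U : Y.Opens := ⟨(V₀ : Set Y) ∩ ⋂ b ∈ S, (W b : Set Y),
    V₀.2.inter (isOpen_biInter_finset fun b _ => (W b).2)⟩
  have hyU : y ∈ U := ⟨hy, Set.mem_iInter₂.mpr fun b _ => hyW b⟩
  have hUV : U ≤ V₀ := fun z hz => hz.1
  have hUW : ∀ b ∈ S, U ≤ W b := fun b hb z hz => Set.mem_iInter₂.mp hz.2 b hb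
  have hηU : genericPoint Y ∈ U := genericPoint_mem U hyU
  refine ⟨U, hyU, hUV, ?_⟩
  intro b
  have hb : b ∈ Submodule.span Γ(Y, V₀) (S : Set Γ(X, f ⁻¹ᵁ V₀)) := by
    rw [hS]
    trivial
  induction hb using Submodule.span_induction with
  | mem b hb =>
    refine ⟨Y.presheaf.map (homOfLE (hUW b hb)).op (s b), ?_⟩
    rw [← hs b]
    congr 1
    exact Y.presheaf.germ_res_apply (homOfLE (hUW b hb)) (genericPoint Y) hηU (s b)
  | zero => exact ⟨0, by simp⟩
  | add b₁ b₂ _ _ h₁ h₂ =>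
    obtain ⟨s₁, h₁⟩ := h₁
    obtain ⟨s₂, h₂⟩ := h₂
    exact ⟨s₁ + s₂, by rw [map_add, map_add, h₁, h₂, map_add]⟩
  | smul a b _ hb =>
    obtain ⟨s₁, h₁⟩ := hb
    refine ⟨Y.presheaf.map (homOfLE hUV).op a * s₁, ?_⟩
    rw [map_mul, map_mul, h₁]
    change _ = (X.presheaf.germ (f ⁻¹ᵁ V₀) (genericPoint X) _).hom (φ a * b)
    rw [map_mul]
    congr 1
    have e1 := Y.presheaf.germ_res_apply (homOfLE hUV) (genericPoint Y) hηU a
    rw [e1]
    exact stalkToFunctionField_germ f hdom V₀ (genericPoint_mem V₀ hy) a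

/-- If all sections of `f_* O_X` over the affine `V₀` come generically from `Γ(Y, U)`, `U ≤ V₀`,
then sections of `f_* O_X` over any `V ≤ U` come locally from sections of `O_Y`. -/
theorem exists_local_section_of_generated [QuasiCompact f] [QuasiSeparated f]
    {V₀ : Y.Opens} (hV₀ : IsAffineOpen V₀)
    (U : Y.Opens) (hUV : U ≤ V₀) (hηU : genericPoint Y ∈ U)
    (hgen : ∀ b : Γ(X, f ⁻¹ᵁ V₀), ∃ s : Γ(Y, U),
      CohIII.stalkToFunctionField f (genericPoint Y) hdom
        ((Y.presheaf.germ U (genericPoint Y) hηU).hom s) =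
      (X.presheaf.germ (f ⁻¹ᵁ V₀) (genericPoint X)
        (genericPoint_mem_preimage f hdom V₀ (hUV hηU))).hom b)
    (V : Y.Opens) (hVU : V ≤ U) (y' : Y) (hy' : y' ∈ V) (b : Γ(X, f ⁻¹ᵁ V)) :
    ∃ (W : Y.Opens) (hyW : y' ∈ W) (_ : W ≤ V) (s : Γ(Y, W)),
      CohIII.stalkToFunctionField f (genericPoint Y) hdom
        ((Y.presheaf.germ W (genericPoint Y) (genericPoint_mem W hyW)).hom s) =
      (X.presheaf.germ (f ⁻¹ᵁ V) (genericPoint X)
        (genericPoint_mem_preimage f hdom V (genericPoint_mem V hy'))).hom b := by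
  let ι := CohIII.stalkToFunctionField f (genericPoint Y) hdom
  obtain ⟨t, htV, hy't⟩ := hV₀.exists_basicOpen_le ⟨y', hy'⟩ (hUV (hVU hy'))
  let W : Y.Opens := Y.basicOpen t
  let φt : Γ(X, f ⁻¹ᵁ V₀) := (f.app V₀).hom t
  let D : X.Opens := X.basicOpen φt
  have hD : f ⁻¹ᵁ W = D := Scheme.preimage_basicOpen f t
  have hDV : D ≤ f ⁻¹ᵁ V := by
    rw [← hD]
    exact fun x hx => htV hx
  have hDV₀ : D ≤ f ⁻¹ᵁ V₀ := X.basicOpen_le φt
  have hηV₀ : genericPoint Y ∈ V₀ := hUV hηU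
  have hηW : genericPoint Y ∈ W := genericPoint_mem W hy't
  have hηD : genericPoint X ∈ D := by
    rw [← hD]
    exact genericPoint_mem_preimage f hdom W hηW
  have hc : IsCompact ((f ⁻¹ᵁ V₀ : X.Opens) : Set X) := f.isCompact_preimage hV₀.isCompact
  have hqs : IsQuasiSeparated ((f ⁻¹ᵁ V₀ : X.Opens) : Set X) := by
    refine (isQuasiSeparated_iff_quasiSeparatedSpace _ (f ⁻¹ᵁ V₀).2).mpr ?_
    haveI : IsAffine (V₀ : Scheme) := hV₀
    exact quasiSeparatedSpace_of_quasiSeparated (f ∣_ V₀)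
  obtain ⟨n, b₀, hb₀⟩ := exists_eq_pow_mul_of_isCompact_of_isQuasiSeparated X (f ⁻¹ᵁ V₀) hc hqs φt
    (X.presheaf.map (homOfLE hDV).op b)
  dsimp only [TopCat.Presheaf.restrictOpenCommRingCat_apply] at hb₀
  let gXD := (X.presheaf.germ D (genericPoint X) hηD).hom
  let gXV₀ := (X.presheaf.germ (f ⁻¹ᵁ V₀) (genericPoint X)
    (genericPoint_mem_preimage f hdom V₀ hηV₀)).hom
  let gXV := (X.presheaf.germ (f ⁻¹ᵁ V) (genericPoint X)
    (genericPoint_mem_preimage f hdom V (genericPoint_mem V hy'))).hom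
  have E1 : gXV₀ b₀ = (gXV₀ φt) ^ n * gXV b := by
    have h1 := congrArg gXD hb₀
    rw [map_mul, map_pow] at h1
    have e1 : gXD (X.presheaf.map (homOfLE hDV₀).op b₀) = gXV₀ b₀ :=
      X.presheaf.germ_res_apply (homOfLE hDV₀) (genericPoint X) hηD b₀
    have e2 : gXD (X.presheaf.map (homOfLE hDV₀).op φt) = gXV₀ φt :=
      X.presheaf.germ_res_apply (homOfLE hDV₀) (genericPoint X) hηD φt
    have e3 : gXD (X.presheaf.map (homOfLE hDV).op b) = gXV b :=
      X.presheaf.germ_res_apply (homOfLE hDV) (genericPoint X) hηD b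
    rw [← e1, ← e2, ← e3]
    exact h1
  have E2 : gXV₀ φt = ι ((Y.presheaf.germ V₀ (genericPoint Y) hηV₀).hom t) :=
    (stalkToFunctionField_germ f hdom V₀ hηV₀ t).symm
  obtain ⟨s₀, hs₀⟩ := hgen b₀
  let tW : Γ(Y, W) := Y.presheaf.map (homOfLE (Y.basicOpen_le t)).op t
  have hu : IsUnit tW := Y.toRingedSpace.isUnit_res_basicOpen t
  obtain ⟨u, hu1⟩ := hu.exists_right_inv
  let gYW := (Y.presheaf.germ W (genericPoint Y) hηW).hom
  have e4 : gYW tW = (Y.presheaf.germ V₀ (genericPoint Y) hηV₀).hom t :=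
    Y.presheaf.germ_res_apply (homOfLE (Y.basicOpen_le t)) (genericPoint Y) hηW t
  have hWU : W ≤ U := htV.trans hVU
  have e5 : gYW (Y.presheaf.map (homOfLE hWU).op s₀) =
      (Y.presheaf.germ U (genericPoint Y) hηU).hom s₀ :=
    Y.presheaf.germ_res_apply (homOfLE hWU) (genericPoint Y) hηW s₀
  refine ⟨W, hy't, htV, Y.presheaf.map (homOfLE hWU).op s₀ * u ^ n, ?_⟩
  change ι (gYW (Y.presheaf.map (homOfLE hWU).op s₀ * u ^ n)) = gXV b
  have hne : (ι (gYW tW)) ^ n ≠ 0 := by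
    apply pow_ne_zero
    have h1 : ι (gYW tW) * ι (gYW u) = 1 := by
      rw [← map_mul, ← map_mul, hu1, map_one, map_one]
    exact left_ne_zero_of_mul_eq_one h1
  apply mul_right_cancel₀ hne
  have h2 : ι (gYW (Y.presheaf.map (homOfLE hWU).op s₀ * u ^ n)) * ι (gYW tW) ^ n =
      ι (gYW (Y.presheaf.map (homOfLE hWU).op s₀)) := by
    rw [← map_pow, ← map_pow, ← map_mul, ← map_mul, mul_assoc, ← mul_pow, mul_comm u tW, hu1,
      one_pow, mul_one]
  rw [h2, e5, hs₀, e4, ← E2, mul_comm]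
  exact E1

/-- Near a normal point, `O_Y → f_* O_X` is an isomorphism. -/
theorem exists_open_forall_isIso_app [IsLocallyNoetherian Y] [IsProper f]
    (halg : ∀ x : X.functionField,
      (∃ p : Polynomial Y.functionField, p ≠ 0 ∧
        Polynomial.eval₂ (CohIII.stalkToFunctionField f (genericPoint Y) hdom) x p = 0) →
      x ∈ Set.range (CohIII.stalkToFunctionField f (genericPoint Y) hdom))
    (y : Y) (hy : IsIntegrallyClosed (Y.presheaf.stalk y)) :
    ∃ U : Y.Opens, y ∈ U ∧ ∀ V : Y.Opens, V ≤ U → IsIso (f.app V) := by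
  obtain ⟨_, ⟨V₀, hV₀, rfl⟩, hyV₀, -⟩ :=
    Y.isBasis_affineOpens.exists_subset_of_mem_open (Set.mem_univ y) isOpen_univ
  obtain ⟨U, hyU, hUV, hgen⟩ := exists_open_generated f hdom halg hV₀ y hyV₀ hy
  refine ⟨U, hyU, fun V hVU => ?_⟩
  rw [ConcreteCategory.isIso_iff_bijective]
  exact bijective_app_of_exists_local_section f hdom V (fun y' hy' b =>
    exists_local_section_of_generated f hdom hV₀ U hUV (genericPoint_mem U hyU) hgen V hVU
      y' hy' b)

end Groth.Agent.Lib.Helper4.ZW
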