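import Mathlib

/-!
# Points of a fibre product over a purely inseparable residue field extension
-/

set_option autoImplicit false
set_option linter.style.haveILetI false
set_option linter.unusedSectionVars false
universe u

namespace Groth.Agent.Lib.Helper4.ZX

open AlgebraicGeometry CategoryTheory Limits TopologicalSpace Opposite TensorProduct

/-- The spectrum of a pushout of fields along a purely inseparable extension is a point. -/
theorem subsingleton_spec_of_isPushout {k L M : Type u} [Field k] [Field L] [Field M]
    (a : k →+* L) (b : k →+* M) (ha : a.IsPurelyInseparable) {P : CommRingCat.{u}}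
    (inl : CommRingCat.of L ⟶ P) (inr : CommRingCat.of M ⟶ P)
    (h : IsPushout (CommRingCat.ofHom a) (CommRingCat.ofHom b) inl inr) :
    Subsingleton (PrimeSpectrum P) := by
  letI : Algebra k L := a.toAlgebra
  letI : Algebra k M := b.toAlgebra
  haveI : IsPurelyInseparable k L := ha
  have h0 := (CommRingCat.isPushout_tensorProduct k M L).flip
  let χ : CommRingCat.of (M ⊗[k] L) ≅ P := h0.isoIsPushout _ _ h
  have hhomeo := PrimeSpectrum.isHomeomorph_comap_of_isPurelyInseparable k L M
  have hinj : Function.Injective (PrimeSpectrum.comap (algebraMap M (M ⊗[k] L))) :=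
    hhomeo.injective
  haveI : Subsingleton (PrimeSpectrum (M ⊗[k] L)) := hinj.subsingleton
  let e : P ≃+* (M ⊗[k] L) := χ.symm.commRingCatIsoToRingEquiv
  exact (PrimeSpectrum.comapEquiv e).injective.subsingleton

theorem isPurelyInseparable_of_surjective {k L : Type*} [Field k] [Field L] (a : k →+* L)
    (ha : Function.Surjective a) : a.IsPurelyInseparable := by
  letI := a.toAlgebra
  change IsPurelyInseparable k L
  rw [isPurelyInseparable_iff_pow_mem k (ringExpChar k)]
  intro x
  obtain ⟨y, hy⟩ := ha x
  refine ⟨0, y, ?_⟩
  rw [pow_zero, pow_one]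
  exact hy

/-- Two points of a fibre product with the same projections coincide when the residue field
extension on the left is purely inseparable. -/
theorem eq_of_fst_eq_of_snd_eq {X Y S : Scheme.{u}} (f : X ⟶ S) (g : Y ⟶ S)
    (z₁ z₂ : ↥(pullback f g))
    (h1 : (pullback.fst f g).base z₁ = (pullback.fst f g).base z₂)
    (h2 : (pullback.snd f g).base z₁ = (pullback.snd f g).base z₂)
    (hpi : (f.residueFieldMap ((pullback.fst f g).base z₂)).hom.IsPurelyInseparable) :
    z₁ = z₂ := by
  apply Scheme.Pullback.carrierEquiv.injective
  rw [Scheme.Pullback.carrierEquiv_eq_iff]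
  have e : Scheme.Pullback.Triplet.ofPoint z₁ = Scheme.Pullback.Triplet.ofPoint z₂ :=
    Scheme.Pullback.Triplet.ext h1 h2
  refine ⟨e, ?_⟩
  let T := Scheme.Pullback.Triplet.ofPoint z₂
  haveI : Subsingleton (Spec T.tensor) := by
    let a' := (S.residueFieldCongr T.hx).inv ≫ f.residueFieldMap T.x
    let b' := (S.residueFieldCongr T.hy).inv ≫ g.residueFieldMap T.y
    have ha' : a'.hom.IsPurelyInseparable := by
      have h3 : (S.residueFieldCongr T.hx).inv.hom.IsPurelyInseparable :=
        isPurelyInseparable_of_surjective _
          (ConcreteCategory.bijective_of_isIso (S.residueFieldCongr T.hx).inv).2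
      exact RingHom.IsPurelyInseparable.comp h3 hpi
    exact subsingleton_spec_of_isPushout a'.hom b'.hom ha' (pushout.inl a' b') (pushout.inr a' b')
      (IsPushout.of_hasPushout a' b')
  exact @Subsingleton.elim _ this _ _

end Groth.Agent.Lib.Helper4.ZX
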