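import Mathlib
import Groth.Agent.Lib.Helper4.ZX1

/-!
# A finite morphism whose diagonal is dense-by-components is universally injective
-/

set_option autoImplicit false
set_option linter.style.haveILetI false
set_option linter.unusedSectionVars false
universe u

namespace Groth.Agent.Lib.Helper4.ZX

open AlgebraicGeometry CategoryTheory Limits TopologicalSpace Opposite

theorem surjective_diagonal_of_dense {X Y' Y : Scheme.{u}} (f' : X ⟶ Y') (g : Y' ⟶ Y)
    [IsFinite g] [IrreducibleSpace Y'] (hf' : Function.Surjective f'.base)
    (hcomp : ∀ Z ∈ irreducibleComponents ↥(pullback (f' ≫ g) g),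
      Dense ((pullback.snd (f' ≫ g) g).base '' Z))
    (hpi : (g.residueFieldMap (genericPoint Y')).hom.IsPurelyInseparable) :
    Surjective (pullback.diagonal g) := by
  rw [surjective_iff]
  intro p
  let η' := genericPoint Y'
  let Z := irreducibleComponent p
  have hZirr : IsIrreducible Z := isIrreducible_irreducibleComponent
  have hZcl : IsClosed Z := isClosed_irreducibleComponent
  obtain ⟨ζ, hζ⟩ := QuasiSober.sober hZirr hZcl
  have hζZ : closure {ζ} = Z := hζ.def
  have hpζ : p ∈ closure {ζ} := by
    rw [hζZ]
    exact mem_irreducibleComponent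
  -- the comparison map
  let q : pullback (f' ≫ g) g ⟶ pullback g g :=
    pullback.map (f' ≫ g) g g g f' (𝟙 _) (𝟙 _) (by simp) (by simp)
  have hq_snd : q ≫ pullback.snd g g = pullback.snd (f' ≫ g) g := by
    simp only [q, pullback.map, pullback.lift_snd, Category.comp_id]
  have hq_fst : q ≫ pullback.fst g g = pullback.fst (f' ≫ g) g ≫ f' := by
    simp only [q, pullback.map, pullback.lift_fst]
  have hsq : IsPullback (pullback.fst (f' ≫ g) g) q f' (pullback.fst g g) := by
    have hbig : IsPullback (q ≫ pullback.snd g g) (pullback.fst (f' ≫ g) g) g (f' ≫ g) := by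
      rw [hq_snd]
      exact (IsPullback.of_hasPullback (f' ≫ g) g).flip
    exact (IsPullback.of_right hbig hq_fst (IsPullback.of_hasPullback g g).flip).flip
  haveI : Surjective f' := ⟨hf'⟩
  have hq_surj : Function.Surjective q.base := by
    have : Surjective q := MorphismProperty.of_isPullback (P := @Surjective) hsq inferInstance
    exact this.surj
  obtain ⟨w, hw⟩ := hq_surj ζ
  let W := irreducibleComponent w
  have hWdense := hcomp W (irreducibleComponent_mem_irreducibleComponents w)
  have hqW : q.base '' W ⊆ Z := by
    have h1 : IsIrreducible (closure (q.base '' W)) :=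
      (isIrreducible_irreducibleComponent.image q.base q.continuous.continuousOn).closure
    have h2 : Z ⊆ closure (q.base '' W) := by
      rw [← hζZ]
      exact closure_minimal (Set.singleton_subset_iff.mpr
        (subset_closure ⟨w, mem_irreducibleComponent, hw⟩)) isClosed_closure
    have h3 : closure (q.base '' W) ⊆ Z :=
      (irreducibleComponent_mem_irreducibleComponents p).2 h1 h2
    exact subset_closure.trans h3
  have hsndZ : Dense ((pullback.snd g g).base '' Z) := by
    refine hWdense.mono ?_
    rintro _ ⟨w', hw', rfl⟩
    refine ⟨q.base w', hqW ⟨w', hw', rfl⟩, ?_⟩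
    rw [← Scheme.Hom.comp_apply, hq_snd]
  have hgen : IsGenericPoint ((pullback.snd g g).base ζ) Set.univ := by
    have h1 : (pullback.snd g g).base '' Z ⊆ closure {(pullback.snd g g).base ζ} := by
      rw [← hζZ]
      refine (image_closure_subset_closure_image (pullback.snd g g).continuous).trans ?_
      rw [Set.image_singleton]
    have h2 : closure ((pullback.snd g g).base '' Z) ⊆ closure {(pullback.snd g g).base ζ} :=
      closure_minimal h1 isClosed_closure
    rw [hsndZ.closure_eq] at h2
    exact Set.eq_univ_of_univ_subset h2
  have hsnd : (pullback.snd g g).base ζ = η' := hgen.eq (genericPoint_spec Y')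
  have hfst : (pullback.fst g g).base ζ = η' := by
    have hcond : g.base ((pullback.fst g g).base ζ) = g.base η' := by
      rw [← hsnd, ← Scheme.Hom.comp_apply, ← Scheme.Hom.comp_apply, pullback.condition]
    have hsp : η' ⤳ (pullback.fst g g).base ζ :=
      (genericPoint_spec Y').specializes (Set.mem_univ _)
    haveI : DiscreteTopology ↥(g.fiber (g.base η')) := inferInstance
    haveI : DiscreteTopology ↥(g.base ⁻¹' {g.base η'}) :=
      (g.fiberHomeo (g.base η')).discreteTopology
    have h3 : (⟨η', rfl⟩ : ↥(g.base ⁻¹' {g.base η'})) ⤳ ⟨(pullback.fst g g).base ζ, hcond⟩ :=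
      (subtype_specializes_iff _ _).mpr hsp
    exact (congrArg Subtype.val h3.eq).symm
  have hζΔ : ζ = (pullback.diagonal g).base η' := by
    apply eq_of_fst_eq_of_snd_eq g g
    · rw [hfst, ← Scheme.Hom.comp_apply, pullback.diagonal_fst]
      rfl
    · rw [hsnd, ← Scheme.Hom.comp_apply, pullback.diagonal_snd]
      rfl
    · have key : ∀ y' : Y', y' = η' → (g.residueFieldMap y').hom.IsPurelyInseparable := by
        rintro _ rfl
        exact hpi
      apply key
      rw [← Scheme.Hom.comp_apply, pullback.diagonal_fst]
      rfl
  have hcl : IsClosed (Set.range (pullback.diagonal g).base) :=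
    (pullback.diagonal g).isClosedEmbedding.isClosed_range
  have hζr : ζ ∈ Set.range (pullback.diagonal g).base := ⟨η', hζΔ.symm⟩
  exact closure_minimal (Set.singleton_subset_iff.mpr hζr) hcl hpζ

end Groth.Agent.Lib.Helper4.ZX
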