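import Mathlib
import Groth.Prelude.Def_ega3
import Groth.Agent.Lib.Helper4.ZN1

/-!
# Purely inseparable function field extensions and residue fields at generic points
-/

set_option autoImplicit false
set_option linter.style.haveILetI false
set_option linter.unusedSectionVars false
universe u

namespace Groth.Agent.Lib.Helper4.ZX

open AlgebraicGeometry CategoryTheory Limits TopologicalSpace Opposite
open Groth.Agent.Lib.Helper4.ZN

variable {X Y' Y : Scheme.{u}} [IsIntegral X] [IsIntegral Y'] [IsIntegral Y]
  (f' : X ⟶ Y') (g : Y' ⟶ Y)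
  (hdom : (f' ≫ g).base (genericPoint X) ⤳ genericPoint Y)
  (hdom' : f'.base (genericPoint X) ⤳ genericPoint Y')
  (hdomg : g.base (genericPoint Y') ⤳ genericPoint Y)

/-- Fact A: the function field maps compose. -/
theorem stalkToFunctionField_comp :
    CohIII.stalkToFunctionField (f' ≫ g) (genericPoint Y) hdom =
      (CohIII.stalkToFunctionField f' (genericPoint Y') hdom').comp
        (CohIII.stalkToFunctionField g (genericPoint Y) hdomg) := by
  ext k
  obtain ⟨U, hU, a, rfl⟩ := Y.presheaf.exists_germ_eq k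
  rw [RingHom.comp_apply]
  rw [stalkToFunctionField_germ (f' ≫ g) hdom U hU a, stalkToFunctionField_germ g hdomg U hU a,
    stalkToFunctionField_germ f' hdom' (g ⁻¹ᵁ U) (genericPoint_mem_preimage g hdomg U hU)]
  rfl

/-- Fact B: for an integral morphism `g` of integral schemes, `R(Y')` is integral over `R(Y)`. -/
theorem isIntegral_stalkToFunctionField [IsIntegralHom g] (b' : Y'.functionField) :
    (CohIII.stalkToFunctionField g (genericPoint Y) hdomg).IsIntegralElem b' := by
  let ιg := CohIII.stalkToFunctionField g (genericPoint Y) hdomg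
  obtain ⟨_, ⟨U, hU, rfl⟩, hηU, -⟩ :=
    Y.isBasis_affineOpens.exists_subset_of_mem_open (Set.mem_univ (genericPoint Y)) isOpen_univ
  have hηV : genericPoint Y' ∈ g ⁻¹ᵁ U := genericPoint_mem_preimage g hdomg U hηU
  have hV : IsAffineOpen (g ⁻¹ᵁ U) := hU.preimage g
  obtain ⟨V, hVdef⟩ : ∃ V : Y'.Opens, V = g ⁻¹ᵁ U := ⟨_, rfl⟩
  rw [← hVdef] at hηV hV
  haveI : Nonempty V := ⟨⟨genericPoint Y', hηV⟩⟩
  haveI := functionField_isFractionRing_of_isAffineOpen Y' V hV
  have hgerm : ∀ b : Γ(Y', V), ιg.IsIntegralElem
      ((Y'.presheaf.germ V (genericPoint Y') hηV).hom b) := by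
    subst hVdef
    intro b
    obtain ⟨p, hp, hpb⟩ := g.isIntegral_app U hU b
    refine ⟨p.map (Y.presheaf.germ U (genericPoint Y) hηU).hom, hp.map _, ?_⟩
    rw [Polynomial.eval₂_map]
    have hC : ιg.comp (Y.presheaf.germ U (genericPoint Y) hηU).hom =
        (Y'.presheaf.germ (g ⁻¹ᵁ U) (genericPoint Y') hηV).hom.comp (g.app U).hom := by
      ext s
      exact stalkToFunctionField_germ g hdomg U hηU s
    rw [hC, ← Polynomial.hom_eval₂, hpb, map_zero]
  obtain ⟨b₁, b₂, hb₂, rfl⟩ := IsFractionRing.div_surjective (A := Γ(Y', V)) b'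
  letI : Algebra Y.functionField Y'.functionField := ιg.toAlgebra
  have h1 : IsIntegral Y.functionField (algebraMap Γ(Y', V) Y'.functionField b₁) :=
    hgerm b₁
  have h2 : IsIntegral Y.functionField (algebraMap Γ(Y', V) Y'.functionField b₂) :=
    hgerm b₂
  have h3 : IsIntegral Y.functionField (algebraMap Γ(Y', V) Y'.functionField b₂)⁻¹ :=
    h2.inv
  rw [div_eq_mul_inv]
  exact h1.mul h3

include hdom' hdomg in
/-- Facts C and D: if the algebraic closure of `R(Y)` in `R(X)` is purely inseparable over `R(Y)`,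
then the residue field extension of the integral morphism `g` at the generic point is purely
inseparable. -/
theorem isPurelyInseparable_residueFieldMap_genericPoint [IsIntegralHom g]
    (hrad : ∀ x : X.functionField,
      (∃ q : Polynomial Y.functionField, q ≠ 0 ∧
        Polynomial.eval₂ (CohIII.stalkToFunctionField (f' ≫ g) (genericPoint Y) hdom) x q = 0) →
      ∃ e : ℕ, x ^ (ringExpChar X.functionField ^ e) ∈
        Set.range (CohIII.stalkToFunctionField (f' ≫ g) (genericPoint Y) hdom)) :
    (g.residueFieldMap (genericPoint Y')).hom.IsPurelyInseparable := by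
  let ι := CohIII.stalkToFunctionField (f' ≫ g) (genericPoint Y) hdom
  let ι' := CohIII.stalkToFunctionField f' (genericPoint Y') hdom'
  let ιg := CohIII.stalkToFunctionField g (genericPoint Y) hdomg
  have hA : ι = ι'.comp ιg := stalkToFunctionField_comp f' g hdom hdom' hdomg
  let q := ringExpChar X.functionField
  have hC : ∀ b' : Y'.functionField, ∃ e : ℕ, ∃ k : Y.functionField, ιg k = b' ^ q ^ e := by
    intro b'
    obtain ⟨p, hp, hpb⟩ := isIntegral_stalkToFunctionField g hdomg b'
    have h1 : Polynomial.eval₂ ι (ι' b') p = 0 := by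
      rw [hA, ← Polynomial.hom_eval₂, hpb, map_zero]
    obtain ⟨e, k, hk⟩ := hrad (ι' b') ⟨p, hp.ne_zero, h1⟩
    refine ⟨e, k, ?_⟩
    apply ι'.injective
    rw [map_pow]
    have hk' : ι k = ι' b' ^ q ^ e := hk
    rw [← hk', hA]
    rfl
  let η' := genericPoint Y'
  let ρ' := (Y'.residue η').hom
  let ρ := (Y.residue (g.base η')).hom
  let sp := (Y.presheaf.stalkSpecializes hdomg).hom
  have hnat : ∀ t, (g.residueFieldMap η').hom (ρ t) = ρ' ((g.stalkMap η').hom t) := by
    intro t
    have := congrArg (fun m => m.hom t) (Scheme.residue_residueFieldMap g η')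
    simpa using this
  haveI : ExpChar X.functionField q := ringExpChar.expChar _
  haveI : ExpChar Y.functionField q := ι.expChar ι.injective q
  let θ : Y.functionField →+* Y.residueField (g.base η') := ρ.comp sp
  have hθinj : Function.Injective θ := θ.injective
  haveI : ExpChar (Y.residueField (g.base η')) q := expChar_of_injective_ringHom hθinj q
  letI := (g.residueFieldMap η').hom.toAlgebra
  change IsPurelyInseparable (Y.residueField (g.base η')) (Y'.residueField η')
  rw [isPurelyInseparable_iff_pow_mem _ q]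
  intro l
  obtain ⟨b', rfl⟩ := IsLocalRing.residue_surjective (R := Y'.presheaf.stalk η') l
  obtain ⟨e, k, hk⟩ := hC b'
  refine ⟨e, ρ (sp k), ?_⟩
  change (g.residueFieldMap η').hom (ρ (sp k)) = (ρ' b') ^ q ^ e
  rw [hnat, ← map_pow, ← hk]
  rfl

end Groth.Agent.Lib.Helper4.ZX
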