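import Mathlib
import Groth.Agent.Lib.Helper4.ZX2
import Groth.Agent.Lib.Helper4.ZX3
import Groth.Agent.Lib.Helper4.ZX4
import Groth.Agent.Lib.Helper4.ZG6
import Groth.Agent.Lib.Helper4.ZS2

/-!
# Geometric connectedness of the fibres of a universally open proper morphism whose function field
extension has purely inseparable algebraic closure
-/

set_option autoImplicit false
set_option linter.style.haveILetI false
set_option linter.unusedSectionVars false
universe u

namespace Groth.Agent.Lib.Helper4.ZX

open AlgebraicGeometry CategoryTheory Limits TopologicalSpace Opposite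

/-- The first factor of the Stein factorization is geometrically connected. -/
theorem geometricallyConnected_toNormalization {X Y : Scheme.{u}} (f : X ⟶ Y) [IsProper f]
    [IsLocallyNoetherian Y] : GeometricallyConnected f.toNormalization := by
  haveI := Groth.Agent.Lib.Helper4.ZS.isProper_toNormalization f
  haveI := Groth.Agent.Lib.Helper4.ZS.isLocallyNoetherian_normalization f
  rw [GeometricallyConnected.iff_geometricallyConnected_fiber]
  intro y'
  obtain ⟨U, hU, hyU, -⟩ := exists_isAffineOpen_mem_and_subset
    (x := f.fromNormalization.base y') (U := (⊤ : Y.Opens)) trivial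
  have hV : IsAffineOpen (f.fromNormalization ⁻¹ᵁ U) := hU.preimage f.fromNormalization
  have hO := Groth.Agent.Lib.Helper4.ZL.isIso_snd_appTop' f.toNormalization y'
    (f.fromNormalization ⁻¹ᵁ U) hV hyU
    (Groth.Agent.Lib.Helper4.ZS.isIso_toNormalization_app f U hU)
  exact Groth.Agent.Lib.Helper4.ZG.geometricallyConnected_fiberToSpecResidueField
    f.toNormalization y' hO (Groth.Agent.Lib.Helper4.ZS.surjective_toNormalization f y')

theorem geometricallyConnected_of_finite_factorization {X Y' Y : Scheme.{u}} [IsIntegral X]
    [IsIntegral Y'] [IsIntegral Y] [IsLocallyNoetherian Y']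
    (f' : X ⟶ Y') (g : Y' ⟶ Y) [IsFinite g] [GeometricallyConnected f']
    (hf' : Function.Surjective f'.base)
    (hdom : (f' ≫ g).base (genericPoint X) ⤳ genericPoint Y)
    (hopen : ∀ (T : Scheme.{u}) (t : T ⟶ Y), IrreducibleSpace ↥T → IsLocallyNoetherian T →
      IsDominant t → ∀ Z ∈ irreducibleComponents ↥(pullback (f' ≫ g) t),
        Dense ((pullback.snd (f' ≫ g) t).base '' Z))
    (hrad : ∀ x : X.functionField,
      (∃ q : Polynomial Y.functionField, q ≠ 0 ∧
        Polynomial.eval₂ (CohIII.stalkToFunctionField (f' ≫ g) (genericPoint Y) hdom) x q = 0) →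
      ∃ e : ℕ, x ^ (ringExpChar X.functionField ^ e) ∈
        Set.range (CohIII.stalkToFunctionField (f' ≫ g) (genericPoint Y) hdom)) :
    GeometricallyConnected (f' ≫ g) := by
  have hgen' : IsGenericPoint (f'.base (genericPoint X)) Set.univ := by
    have h1 : f'.base '' closure {genericPoint X} ⊆ closure {f'.base (genericPoint X)} := by
      refine (image_closure_subset_closure_image f'.continuous).trans ?_
      rw [Set.image_singleton]
    rw [(genericPoint_spec X).def, Set.image_univ, hf'.range_eq] at h1
    exact Set.eq_univ_of_univ_subset h1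
  have hη' : f'.base (genericPoint X) = genericPoint Y' := hgen'.eq (genericPoint_spec Y')
  have hdom' : f'.base (genericPoint X) ⤳ genericPoint Y' := by
    rw [hη']
  have hdomg : g.base (genericPoint Y') ⤳ genericPoint Y := by
    have h : g.base (f'.base (genericPoint X)) ⤳ genericPoint Y := hdom
    rwa [hη'] at h
  have hpi := isPurelyInseparable_residueFieldMap_genericPoint f' g hdom hdom' hdomg hrad
  have hgsurj : Function.Surjective g.base := by
    intro y
    have hcl : IsClosed (Set.range g.base) := g.isClosedMap.isClosed_range
    have h1 : genericPoint Y ∈ Set.range g.base := hdomg.mem_closed hcl ⟨_, rfl⟩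
    exact ((genericPoint_spec Y).specializes (Set.mem_univ y)).mem_closed hcl h1
  haveI : Surjective g := ⟨hgsurj⟩
  have hcomp := hopen Y' g inferInstance inferInstance inferInstance
  have hdiag := surjective_diagonal_of_dense f' g hf' hcomp hpi
  haveI : UniversallyInjective g := (UniversallyInjective.iff_diagonal g).mpr hdiag
  exact geometricallyConnected_comp_of_universallyInjective f' g

/-- EGA III 4.3.7: a proper dominant "universally open" morphism of integral locally Noetherian
schemes such that the algebraic closure of `R(Y)` in `R(X)` is purely inseparable over `R(Y)` is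
geometrically connected. -/
theorem geometricallyConnected_of_radicial {X Y : Scheme.{u}} [IsIntegral X] [IsIntegral Y]
    [IsLocallyNoetherian Y] (f : X ⟶ Y) [IsProper f]
    (hdom : f.base (genericPoint X) ⤳ genericPoint Y)
    (hopen : ∀ (T : Scheme.{u}) (t : T ⟶ Y), IrreducibleSpace ↥T → IsLocallyNoetherian T →
      IsDominant t → ∀ Z ∈ irreducibleComponents ↥(pullback f t),
        Dense ((pullback.snd f t).base '' Z))
    (hrad : ∀ x : X.functionField,
      (∃ q : Polynomial Y.functionField, q ≠ 0 ∧
        Polynomial.eval₂ (CohIII.stalkToFunctionField f (genericPoint Y) hdom) x q = 0) →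
      ∃ e : ℕ, x ^ (ringExpChar X.functionField ^ e) ∈
        Set.range (CohIII.stalkToFunctionField f (genericPoint Y) hdom)) :
    GeometricallyConnected f := by
  haveI := Groth.Agent.Lib.Helper4.NF.isFinite_fromNormalization f
  haveI := Groth.Agent.Lib.Helper4.ZS.isLocallyNoetherian_normalization f
  haveI : GeometricallyConnected f.toNormalization := geometricallyConnected_toNormalization f
  have key : ∀ (f₀ : X ⟶ Y) (_ : f.toNormalization ≫ f.fromNormalization = f₀)
      (hdom₀ : f₀.base (genericPoint X) ⤳ genericPoint Y)
      (_ : ∀ (T : Scheme.{u}) (t : T ⟶ Y), IrreducibleSpace ↥T → IsLocallyNoetherian T →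
        IsDominant t → ∀ Z ∈ irreducibleComponents ↥(pullback f₀ t),
          Dense ((pullback.snd f₀ t).base '' Z))
      (_ : ∀ x : X.functionField,
        (∃ q : Polynomial Y.functionField, q ≠ 0 ∧
          Polynomial.eval₂ (CohIII.stalkToFunctionField f₀ (genericPoint Y) hdom₀) x q = 0) →
        ∃ e : ℕ, x ^ (ringExpChar X.functionField ^ e) ∈
          Set.range (CohIII.stalkToFunctionField f₀ (genericPoint Y) hdom₀)),
      GeometricallyConnected f₀ := by
    intro f₀ e
    subst e
    intro hdom₀ hopen₀ hrad₀
    exact geometricallyConnected_of_finite_factorization f.toNormalization f.fromNormalization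
      (Groth.Agent.Lib.Helper4.ZS.surjective_toNormalization f) hdom₀ hopen₀ hrad₀
  exact key f f.toNormalization_fromNormalization hdom hopen hrad

end Groth.Agent.Lib.Helper4.ZX
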