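import Mathlib

/-!
# Base change to a field of a composite of a geometrically connected and a radicial morphism
-/

set_option autoImplicit false
set_option linter.style.haveILetI false
set_option linter.unusedSectionVars false
universe u

namespace Groth.Agent.Lib.Helper4.ZY

open AlgebraicGeometry CategoryTheory Limits TopologicalSpace Opposite

theorem preconnectedSpace_of_isPullback_comp {X Y' Y : Scheme.{u}}
    (f' : X ⟶ Y') (g : Y' ⟶ Y) [GeometricallyConnected f'] [UniversallyInjective g]
    (K : Type u) [Field K] (ψ : Spec (CommRingCat.of K) ⟶ Y) {Z : Scheme.{u}} (fst : Z ⟶ X)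
    (snd : Z ⟶ Spec (CommRingCat.of K)) (h : IsPullback fst snd (f' ≫ g) ψ) :
    PreconnectedSpace Z := by
  let T := pullback g ψ
  let pT1 : T ⟶ Y' := pullback.fst g ψ
  let pT2 : T ⟶ Spec (CommRingCat.of K) := pullback.snd g ψ
  have hT : IsPullback pT1 pT2 g ψ := IsPullback.of_hasPullback g ψ
  haveI : UniversallyInjective pT2 :=
    MorphismProperty.of_isPullback (P := @UniversallyInjective) hT inferInstance
  have hinj : Function.Injective pT2.base := pT2.injective
  haveI : Subsingleton T := hinj.subsingleton
  let l : Z ⟶ T := pullback.lift (fst ≫ f') snd (by rw [Category.assoc, h.w])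
  have hl1 : l ≫ pT1 = fst ≫ f' := pullback.lift_fst _ _ _
  have hl2 : l ≫ pT2 = snd := pullback.lift_snd _ _ _
  by_cases hne : Nonempty T
  swap
  · haveI : IsEmpty Z := ⟨fun z => hne ⟨l.base z⟩⟩
    infer_instance
  obtain ⟨t⟩ := hne
  let j : Spec (T.residueField t) ⟶ T := T.fromSpecResidueField t
  haveI : Surjective j := by
    refine ⟨fun t' => ⟨IsLocalRing.closedPoint _, ?_⟩⟩
    exact Subsingleton.elim _ _
  have htop : IsPullback fst l f' pT1 := by
    have hbig : IsPullback fst (l ≫ pT2) (f' ≫ g) ψ := by
      rw [hl2]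
      exact h
    exact IsPullback.of_bot hbig hl1.symm hT
  have hW : IsPullback (pullback.fst l j ≫ fst) (pullback.snd l j) f' (j ≫ pT1) :=
    (IsPullback.of_hasPullback l j).paste_horiz htop
  haveI : ConnectedSpace ↥(pullback l j) :=
    GeometricallyConnected.geometrically_connectedSpace (f := f') (j ≫ pT1) _ _ hW
  haveI : ConnectedSpace Z :=
    (pullback.fst l j).surjective.connectedSpace (pullback.fst l j).continuous
  infer_instance

end Groth.Agent.Lib.Helper4.ZY
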