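import Mathlib
import Groth.Agent.Lib.Helper4.ZY1
import Groth.Agent.Lib.Helper4.ZY2

/-!
# `Spec Γ(W, O_W) → Spec R` is radicial iff the base changes of `W` to fields are preconnected
-/

set_option autoImplicit false
set_option linter.style.haveILetI false
set_option linter.unusedSectionVars false
universe u

namespace Groth.Agent.Lib.Helper4.ZY

open AlgebraicGeometry CategoryTheory Limits TopologicalSpace Opposite

variable (R : Type u) [CommRing R] [IsNoetherianRing R] {W : Scheme.{u}}
  (h : W ⟶ Spec (CommRingCat.of R)) [IsProper h]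

theorem SpecMap_appTop_eq :
    Spec.map h.appTop = Spec.map (CommRingCat.ofHom (ρ R h)) ≫
      Spec.map (Scheme.ΓSpecIso (CommRingCat.of R)).hom := by
  rw [← Spec.map_comp]
  congr 1
  change h.appTop = (Scheme.ΓSpecIso (CommRingCat.of R)).hom ≫
    ((Scheme.ΓSpecIso (CommRingCat.of R)).inv ≫ h.appTop)
  rw [Iso.hom_inv_id_assoc]

theorem universallyInjective_SpecMap_ρ_iff :
    UniversallyInjective (Spec.map (CommRingCat.ofHom (ρ R h))) ↔
      UniversallyInjective (Spec.map h.appTop) := by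
  rw [SpecMap_appTop_eq R h]
  haveI := UniversallyInjective.respectsIso
  exact (MorphismProperty.cancel_right_of_respectsIso (P := @UniversallyInjective) _ _).symm

theorem preconnectedSpace_pullback_of_universallyInjective
    (hpi : UniversallyInjective (Spec.map h.appTop))
    (K : Type u) [Field K] (σ : Spec (CommRingCat.of K) ⟶ Spec (CommRingCat.of R)) :
    PreconnectedSpace ↥(pullback h σ) := by
  haveI := geometricallyConnected_toSpecΓ R h
  haveI : UniversallyInjective (Spec.map (CommRingCat.ofHom (ρ R h))) :=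
    (universallyInjective_SpecMap_ρ_iff R h).mpr hpi
  have hpb : IsPullback (pullback.fst h σ) (pullback.snd h σ)
      (W.toSpecΓ ≫ Spec.map (CommRingCat.ofHom (ρ R h))) σ := by
    rw [← fac R h]
    exact IsPullback.of_hasPullback h σ
  exact preconnectedSpace_of_isPullback_comp W.toSpecΓ _ K σ _ _ hpb

/-- Two sections of a morphism from an affine one-point scheme to the spectrum of a field agree. -/
theorem section_unique {T S₀ : Scheme.{u}} [IsAffine T] [Subsingleton T]
    [IsDomain Γ(S₀, ⊤)] (p : T ⟶ S₀) (s₁ s₂ : S₀ ⟶ T)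
    (h₁ : s₁ ≫ p = 𝟙 _) (h₂ : s₂ ≫ p = 𝟙 _) : s₁ = s₂ := by
  apply ext_of_isAffine
  have e₁ : p.appTop ≫ s₁.appTop = 𝟙 _ := by
    rw [← Scheme.Hom.comp_appTop, h₁]
    rfl
  have e₂ : p.appTop ≫ s₂.appTop = 𝟙 _ := by
    rw [← Scheme.Hom.comp_appTop, h₂]
    rfl
  haveI : Subsingleton (PrimeSpectrum Γ(T, ⊤)) :=
    (T.isoSpec.hom.homeomorph.surjective).subsingleton
  haveI hp₁ : (RingHom.ker s₁.appTop.hom).IsPrime := RingHom.ker_isPrime _
  haveI hp₂ : (RingHom.ker s₂.appTop.hom).IsPrime := RingHom.ker_isPrime _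
  have hker : RingHom.ker s₁.appTop.hom = RingHom.ker s₂.appTop.hom := by
    have := Subsingleton.elim (⟨_, hp₁⟩ : PrimeSpectrum Γ(T, ⊤)) ⟨_, hp₂⟩
    exact congrArg PrimeSpectrum.asIdeal this
  ext c
  have h3 : s₁.appTop.hom (p.appTop.hom (s₁.appTop.hom c)) = s₁.appTop.hom c := by
    have := congrArg (fun m => m.hom (s₁.appTop.hom c)) e₁
    simpa using this
  have h4 : s₂.appTop.hom (p.appTop.hom (s₁.appTop.hom c)) = s₁.appTop.hom c := by
    have := congrArg (fun m => m.hom (s₁.appTop.hom c)) e₂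
    simpa using this
  have h5 : c - p.appTop.hom (s₁.appTop.hom c) ∈ RingHom.ker s₁.appTop.hom := by
    rw [RingHom.mem_ker, map_sub, h3, sub_self]
  rw [hker, RingHom.mem_ker, map_sub, h4, sub_eq_zero] at h5
  exact h5.symm

theorem universallyInjective_of_preconnectedSpace_pullback
    (H : ∀ (K : Type u) [Field K] (σ : Spec (CommRingCat.of K) ⟶ Spec (CommRingCat.of R)),
      PreconnectedSpace ↥(pullback h σ)) :
    UniversallyInjective (Spec.map h.appTop) := by
  rw [← universallyInjective_SpecMap_ρ_iff R h]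
  obtain ⟨g, hg⟩ : ∃ g : Spec Γ(W, ⊤) ⟶ Spec (CommRingCat.of R),
      g = Spec.map (CommRingCat.ofHom (ρ R h)) := ⟨_, rfl⟩
  rw [← hg]
  have hfac : h = W.toSpecΓ ≫ g := by
    rw [hg]
    exact fac R h
  haveI : IsFinite g := by
    rw [hg]
    exact isFinite_SpecMap_ρ R h
  haveI : Surjective W.toSpecΓ := ⟨surjective_toSpecΓ R h⟩
  refine ((tfae_universallyInjective g).out 0 1).mpr ?_
  intro K _ a₁ a₂ e
  have e' : a₁ ≫ g = a₂ ≫ g := e
  let σ : Spec (CommRingCat.of K) ⟶ Spec (CommRingCat.of R) := a₁ ≫ g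
  let T := pullback g σ
  let pT1 : T ⟶ Spec Γ(W, ⊤) := pullback.fst g σ
  let pT2 : T ⟶ Spec (CommRingCat.of K) := pullback.snd g σ
  have hT : IsPullback pT1 pT2 g σ := IsPullback.of_hasPullback g σ
  let s₁ : Spec (CommRingCat.of K) ⟶ T := pullback.lift a₁ (𝟙 _) (by simp [σ])
  let s₂ : Spec (CommRingCat.of K) ⟶ T := pullback.lift a₂ (𝟙 _) (by simp [σ, e'])
  haveI := H K σ
  have hpb : IsPullback (pullback.fst h σ) (pullback.snd h σ) (W.toSpecΓ ≫ g) σ := by
    rw [← hfac]
    exact IsPullback.of_hasPullback h σ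
  let l : pullback h σ ⟶ T :=
    pullback.lift (pullback.fst h σ ≫ W.toSpecΓ) (pullback.snd h σ)
      (by rw [Category.assoc, hpb.w])
  have hl1 : l ≫ pT1 = pullback.fst h σ ≫ W.toSpecΓ := pullback.lift_fst _ _ _
  have hl2 : l ≫ pT2 = pullback.snd h σ := pullback.lift_snd _ _ _
  have htop : IsPullback (pullback.fst h σ) l W.toSpecΓ pT1 := by
    have hbig : IsPullback (pullback.fst h σ) (l ≫ pT2) (W.toSpecΓ ≫ g) σ := by
      rw [hl2]
      exact hpb
    exact IsPullback.of_bot hbig hl1.symm hT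
  haveI hlsurj : Surjective l :=
    MorphismProperty.of_isPullback (P := @Surjective) htop inferInstance
  haveI : PreconnectedSpace T := by
    have h1 := (isPreconnected_univ (α := ↥(pullback h σ))).image l.base
      l.continuous.continuousOn
    rw [Set.image_univ, l.surjective.range_eq] at h1
    exact ⟨h1⟩
  haveI : IsFinite pT2 := MorphismProperty.of_isPullback (P := @IsFinite) hT inferInstance
  have hdisc : DiscreteTopology T := by
    let pt : Spec (CommRingCat.of K) := IsLocalRing.closedPoint K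
    haveI : DiscreteTopology ↥(pT2.fiber pt) := inferInstance
    haveI : DiscreteTopology ↥(pT2.base ⁻¹' {pt}) := (pT2.fiberHomeo pt).discreteTopology
    have huniv : pT2.base ⁻¹' {pt} = Set.univ := by
      ext t
      simp only [Set.mem_preimage, Set.mem_singleton_iff, Set.mem_univ, iff_true]
      exact Subsingleton.elim (α := PrimeSpectrum K) _ _
    rw [discreteTopology_iff_isOpen_singleton]
    intro t
    have hopen : IsOpen (pT2.base ⁻¹' {pt}) := huniv ▸ isOpen_univ
    have ht : t ∈ pT2.base ⁻¹' {pt} := by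
      rw [huniv]
      trivial
    have h2 : IsOpen (Subtype.val '' ({⟨t, ht⟩} : Set ↥(pT2.base ⁻¹' {pt}))) :=
      hopen.isOpenMap_subtype_val _ (isOpen_discrete _)
    simpa using h2
  haveI : Subsingleton T := by
    haveI := hdisc
    have h3 := (isPreconnected_univ (α := T)).subsingleton
    exact Set.subsingleton_univ_iff.mp h3
  haveI : IsDomain Γ(Spec (CommRingCat.of K), ⊤) :=
    (Scheme.ΓSpecIso (CommRingCat.of K)).commRingCatIsoToRingEquiv.toMulEquiv.isDomain
  have hs : s₁ = s₂ := section_unique pT2 s₁ s₂ (pullback.lift_snd _ _ _) (pullback.lift_snd _ _ _)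
  calc a₁ = s₁ ≫ pT1 := (pullback.lift_fst _ _ _).symm
    _ = s₂ ≫ pT1 := by rw [hs]
    _ = a₂ := pullback.lift_fst _ _ _

end Groth.Agent.Lib.Helper4.ZY
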