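import Mathlib
import Groth.Prelude.Def_CAlg2

/-!
# Unibranch local rings are invariant under ring isomorphisms
-/

set_option autoImplicit false
set_option linter.style.haveILetI false
set_option linter.unusedSectionVars false
universe u

namespace Groth.Agent.Lib.Helper4.ZZ

/-- `IsUnibranch` is invariant under ring isomorphisms. -/
theorem isUnibranch_of_ringEquiv {A B : Type u} [CommRing A] [CommRing B] [IsLocalRing A]
    [IsLocalRing B] (e : A ≃+* B) (h : CAlg2.IsUnibranch A) : CAlg2.IsUnibranch B := by
  obtain ⟨hdom, hloc⟩ := h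
  haveI := hdom
  haveI := hloc
  have hnil : nilradical B = (nilradical A).map (e : A →+* B) := by
    ext b
    rw [mem_nilradical, Ideal.mem_map_iff_of_surjective (e : A →+* B) e.surjective]
    constructor
    · intro hb
      refine ⟨e.symm b, ?_, by simp⟩
      rw [mem_nilradical]
      exact hb.map e.symm
    · rintro ⟨a, ha, rfl⟩
      rw [mem_nilradical] at ha
      exact ha.map e
  let er : CAlg2.red A ≃+* CAlg2.red B := Ideal.quotientEquiv (nilradical A) (nilradical B) e hnil
  haveI hdomB : IsDomain (CAlg2.red B) := er.symm.toMulEquiv.isDomain (CAlg2.red A)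
  refine ⟨hdomB, ?_⟩
  let eF : FractionRing (CAlg2.red A) ≃+* FractionRing (CAlg2.red B) :=
    IsFractionRing.ringEquivOfRingEquiv er
  have heF : ∀ r : CAlg2.red A, eF (algebraMap _ _ r) = algebraMap _ _ (er r) := fun r =>
    IsFractionRing.ringEquivOfRingEquiv_algebraMap er r
  have hint : ∀ x : FractionRing (CAlg2.red A), IsIntegral (CAlg2.red A) x →
      IsIntegral (CAlg2.red B) (eF x) := by
    rintro x ⟨P, hP, hx⟩
    refine ⟨P.map (er : CAlg2.red A →+* CAlg2.red B), hP.map _, ?_⟩
    rw [Polynomial.eval₂_map]
    have h1 : (algebraMap (CAlg2.red B) (FractionRing (CAlg2.red B))).comp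
        (er : CAlg2.red A →+* CAlg2.red B) =
        (eF : FractionRing (CAlg2.red A) →+* FractionRing (CAlg2.red B)).comp
          (algebraMap (CAlg2.red A) (FractionRing (CAlg2.red A))) := by
      ext r
      exact (heF r).symm
    rw [h1]
    change Polynomial.eval₂ _ ((eF : FractionRing (CAlg2.red A) →+* FractionRing (CAlg2.red B)) x) P = 0
    rw [← Polynomial.hom_eval₂, hx, map_zero]
  have hint' : ∀ x : FractionRing (CAlg2.red B), IsIntegral (CAlg2.red B) x →
      IsIntegral (CAlg2.red A) (eF.symm x) := by
    rintro x ⟨P, hP, hx⟩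
    refine ⟨P.map (er.symm : CAlg2.red B →+* CAlg2.red A), hP.map _, ?_⟩
    rw [Polynomial.eval₂_map]
    have h1 : (algebraMap (CAlg2.red A) (FractionRing (CAlg2.red A))).comp
        (er.symm : CAlg2.red B →+* CAlg2.red A) =
        (eF.symm : FractionRing (CAlg2.red B) →+* FractionRing (CAlg2.red A)).comp
          (algebraMap (CAlg2.red B) (FractionRing (CAlg2.red B))) := by
      ext r
      apply eF.injective
      simp only [RingHom.comp_apply, RingEquiv.coe_toRingHom, RingEquiv.apply_symm_apply]
      rw [heF, RingEquiv.apply_symm_apply]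
    rw [h1]
    change Polynomial.eval₂ _
      ((eF.symm : FractionRing (CAlg2.red B) →+* FractionRing (CAlg2.red A)) x) P = 0
    rw [← Polynomial.hom_eval₂, hx, map_zero]
  let φ : CAlg2.normRed A →+* CAlg2.normRed B :=
    ((eF : FractionRing (CAlg2.red A) →+* FractionRing (CAlg2.red B)).comp
      (integralClosure (CAlg2.red A) (FractionRing (CAlg2.red A))).toSubring.subtype).codRestrict
      (integralClosure (CAlg2.red B) (FractionRing (CAlg2.red B))).toSubring
      (fun x => hint x.1 x.2)
  have hφ : Function.Surjective φ := by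
    intro y
    refine ⟨⟨eF.symm y.1, hint' y.1 y.2⟩, ?_⟩
    apply Subtype.ext
    exact eF.apply_symm_apply y.1
  exact IsLocalRing.of_surjective' φ hφ

end Groth.Agent.Lib.Helper4.ZZ
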