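import Mathlib
import Groth.Agent.Lib.Helper4.ZZ8
import Groth.Agent.Lib.Helper29.SerreA
import Groth.Agent.Lib.Helper29.SH1
import Groth.Agent.Lib.Helper2.UnitsTh.Coh
import Groth.Agent.Lib.Lead.Pn.TwistZero
import Groth.Agent.Lib.Lead.SD.AmpleNeg

/-!
# Cohomology of thickenings of an ample effective Cartier divisor
-/

set_option autoImplicit false
set_option linter.style.haveILetI false
set_option linter.unusedSectionVars false
universe u

namespace Groth.Agent.Lib.Helper4.ZZ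

open AlgebraicGeometry CategoryTheory Limits TopologicalSpace Opposite
open Groth.Agent.Lib.Helper29.QCoh Groth.Agent.Lib.Helper29.AmpDiv
open Groth.Agent.Lib.Lead.SD.AmpleConn Groth.Agent.Lib.Helper25.HypTwist
open Groth.Agent.Lib.Helper29.QCoh.Res Groth.Agent.Lib.Lead.SD.AmpleNeg

variable {X : Scheme.{u}}

/-- Local form of the section attached to `L ⊗ I ≅ O_X`. -/
theorem exists_local_secOfInverse [IsLocallyNoetherian X] (I : X.IdealSheafData)
    (hI : FGA.IsEffCartier I) {L : X.Modules} (hL : PicF.IsInvertible L)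
    (e : CohB1.tensorMod L (ClSub.idealMod I) ≅ unitM X) (x : X) :
    ∃ (U' : X.Opens) (hU' : IsAffineOpen U') (ℓ : Γ(L, U')) (a v : Γ(X, U')), x ∈ U' ∧
      IsTriv L U' ℓ ∧ a ∈ nonZeroDivisors Γ(X, U') ∧ I.ideal ⟨U', hU'⟩ = Ideal.span {a} ∧
      IsUnit v ∧ sval (secOfInverse I e) U' = (v * a) • ℓ := by
  obtain ⟨U, hxU, a, ha, hIa⟩ := hI x
  obtain ⟨α, hαa, hα⟩ := exists_isTriv_idealMod I U.2 a ha hIa
  obtain ⟨U', ℓ, hU', hxU', hU'U, hℓ⟩ := exists_affine_isTriv hL (W := U.1) x hxU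
  have hα' := hα.restrict hU'U
  have hifun : ifun I (res (ClSub.idealMod I) hU'U α) = rres X hU'U a := by
    rw [ifun_res, hαa]
  have hp := Groth.Agent.Lib.Helper25.BlowUpUP.principal_of_le I
      (show (⟨U', hU'⟩ : X.affineOpens) ≤ U from hU'U) a ha hIa
  haveI := isQuasicoherent_of_isInvertible hL
  have hten : IsTriv (CohB1.tensorMod L (ClSub.idealMod I)) U' (tmulSec L (ClSub.idealMod I) ℓ
      (res (ClSub.idealMod I) hU'U α)) := hℓ.tensor hα'
  have ht : IsTriv (CohB1.tensorMod L (ClSub.idealMod I)) U' (e.inv.app U' (toUnit 1)) :=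
    IsTriv.of_iso e.symm (isTriv_unit U')
  obtain ⟨v, hv, hvt⟩ := Groth.Agent.Lib.Helper29.Desc.IsTriv.exists_isUnit_smul hten ht
  refine ⟨U', hU', ℓ, rres X hU'U a, v, hxU', hℓ, hp.1, hp.2, hv, ?_⟩
  change (e.inv ≫ tensorMapLeft L (ClSub.idealModι I) ≫ (tensorUnitR L).hom).app U'
    (toUnit 1) = _
  rw [app_comp, app_comp, hvt, Scheme.Modules.Hom.app_smul, tensorMapLeft_tmulSec,
    Scheme.Modules.Hom.app_smul]
  have h1 : (ClSub.idealModι I).app U' (res (ClSub.idealMod I) hU'U α) =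
      toUnit (ifun I (res (ClSub.idealMod I) hU'U α)) := (toUnit_fromUnit _).symm
  rw [h1, hifun, mul_smul]
  congr 1
  exact SecTwist.unitorR_tmul L U' ℓ _

/-- An ideal sheaf whose ideal module is invertible is an effective Cartier divisor. -/
theorem isEffCartier_of_isInvertible_idealMod (I : X.IdealSheafData)
    (hM : PicF.IsInvertible (ClSub.idealMod I)) : FGA.IsEffCartier I := by
  intro x
  obtain ⟨U, α, hU, hxU, -, hα⟩ := exists_affine_isTriv hM (W := ⊤) x trivial
  refine ⟨⟨U, hU⟩, hxU, ifun I α, ?_, ?_⟩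
  · rw [mem_nonZeroDivisors_iff_right]
    intro r hr
    have h0 : ifun I (r • α) = ifun I ((0 : Γ(X, U)) • α) := by
      rw [ifun_smul, ifun_smul, hr, zero_mul]
    exact hα.smul_left_cancel (ifun_injective I U h0)
  · apply le_antisymm
    · intro b hb
      obtain ⟨t, ht⟩ := exists_ifun_eq I ⟨U, hU⟩ b hb
      obtain ⟨r, hr⟩ := hα.exists_eq_smul t
      rw [← ht, hr, ifun_smul]
      exact Ideal.mem_span_singleton'.mpr ⟨r, rfl⟩
    · rw [Ideal.span_singleton_le_iff_mem]
      exact ifun_mem I ⟨U, hU⟩ α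

/-- Associated points lie off the support of an effective Cartier divisor. -/
theorem assPts_subset_genLocus_secOfInverse [IsLocallyNoetherian X] (I : X.IdealSheafData)
    (hI : FGA.IsEffCartier I) {L : X.Modules} (hL : PicF.IsInvertible L)
    (e : CohB1.tensorMod L (ClSub.idealMod I) ≅ unitM X) :
    assPts X ⊆ CohB1.genLocus L (secOfInverse I e) := by
  intro x hx
  obtain ⟨U', hU', ℓ, a, v, hxU', hℓ, ha, hIa, hv, hs⟩ := exists_local_secOfInverse I hI hL e x
  rw [SetLike.mem_coe, mem_genLocus_iff_of_isTriv (secOfInverse I e) hℓ (v * a) hs x hxU']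
  have hA : IsNoetherianRing Γ(X, U') := IsLocallyNoetherian.component_noetherian ⟨U', hU'⟩
  have hass := (mem_assPts_iff ⟨U', hU'⟩ x hxU').mp hx
  have h3 := Groth.Agent.Lib.Helper29.Punct.mem_basicOpen_fromSpec hU' (v * a)
    (hU'.primeIdealOf ⟨x, hxU'⟩)
  rw [hU'.fromSpec_primeIdealOf ⟨x, hxU'⟩] at h3
  rw [h3]
  intro hap
  obtain ⟨hprime, b, hb⟩ := (isAssociatedPrime_iff).mp hass
  rw [hb, Submodule.mem_colon_singleton, Submodule.mem_bot, smul_eq_mul] at hap
  have hva : v * a ∈ nonZeroDivisors Γ(X, U') :=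
    mul_mem (IsUnit.mem_nonZeroDivisors hv) ha
  have hb0 : b = 0 := (mem_nonZeroDivisors_iff_left.mp hva) b hap
  apply hprime.ne_top
  rw [hb, hb0]
  ext r
  simp [Submodule.mem_colon_singleton]

/-- The zero scheme of the `k`-th power of the canonical section of `O(D)` is `k D`. -/
theorem zeroScheme_powHom_secOfInverse [IsLocallyNoetherian X] (I : X.IdealSheafData)
    (hI : FGA.IsEffCartier I) {L : X.Modules} (hL : PicF.IsInvertible L)
    (e : CohB1.tensorMod L (ClSub.idealMod I) ≅ unitM X) (k : ℕ) :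
    PicF2.zeroScheme (CohB1.tensorMod (unitM X) (CohB1.tensorPow L k))
      (SecTwist.powHom (secOfInverse I e) k ≫ (tensorUnitL _).symm.hom) = I ^ k := by
  haveI := isQuasicoherent_of_isInvertible hL
  have hP := isInvertible_tensorMod (isInvertible_unit X) (isInvertible_tensorPow hL k)
  choose U' hU' ℓ a v hxU' hℓ ha hIa hv hs using exists_local_secOfInverse I hI hL e
  refine Scheme.IdealSheafData.ext_of_iSup_eq_top (fun x : X => (⟨U' x, hU' x⟩ : X.affineOpens))
    ?_ (fun x => ?_)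
  · rw [eq_top_iff]
    intro x _
    exact Opens.mem_iSup.mpr ⟨x, hxU' x⟩
  · have htriv : IsTriv (CohB1.tensorMod (unitM X) (CohB1.tensorPow L k)) (U' x)
        ((tensorUnitL (CohB1.tensorPow L k)).symm.hom.app (U' x) (epow L (ℓ x) k)) :=
      IsTriv.of_iso (tensorUnitL (CohB1.tensorPow L k)).symm ((hℓ x).epow k)
    have hsv : sval (SecTwist.powHom (secOfInverse I e) k ≫
        (tensorUnitL (CohB1.tensorPow L k)).symm.hom) (U' x) =
        ((v x * a x) ^ k) • (tensorUnitL (CohB1.tensorPow L k)).symm.hom.app (U' x)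
          (epow L (ℓ x) k) := by
      change (SecTwist.powHom (secOfInverse I e) k ≫
        (tensorUnitL (CohB1.tensorPow L k)).symm.hom).app (U' x) (toUnit 1) = _
      rw [app_comp]
      have h1 : (SecTwist.powHom (secOfInverse I e) k).app (U' x) (toUnit 1) =
          sval (SecTwist.powHom (secOfInverse I e) k) (U' x) := rfl
      rw [h1, sval_powHom, hs x, epow_smul, Scheme.Modules.Hom.app_smul]
    rw [Groth.Agent.Lib.Helper29.ZeroSch.zeroScheme_ideal_of_isTriv hP _ (hU' x) htriv _ hsv]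
    change _ = (I.ideal ⟨U' x, hU' x⟩) ^ k
    rw [hIa x, Ideal.span_singleton_pow, mul_pow]
    exact Ideal.span_singleton_mul_left_unit ((hv x).pow k) _

section Main

variable (k : Type u) [Field k] (X : Scheme.{u}) [X.Over (Spec (CommRingCat.of k))]
  [IsProper (X ↘ (Spec (CommRingCat.of k)))]

include k in
/-- **Cohomology of the thickenings of an ample effective Cartier divisor**: if `depth O_x > n` at
all closed points, `H^i(X, O_X) → H^i(X, O_X/I^{m+1})` is bijective for `i < n` and injective for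
`i = n`, for `m ≫ 0`. -/
theorem exists_bijective_H_map_thickening (𝓘 : X.IdealSheafData) (L : X.Modules)
    (hL : ClSub.IsInverseOf L (ClSub.idealMod 𝓘)) (hamp : CohB1.IsAmple L) (n : ℕ)
    (hdepth : ∀ x : X, IsClosed ({x} : Set X) →
      (n : ℕ∞) < LocCoh.depth (X.presheaf.stalk x) (X.presheaf.stalk x)) :
    ∃ m₀ : ℕ, ∀ m : ℕ, m₀ ≤ m →
      (∀ i : ℕ, i < n → Function.Bijective (Sheaf.H.map
        ((SheafOfModules.toSheaf X.ringCatSheaf).map (ClSub.toSubscheme (𝓘 ^ (m + 1)))) i)) ∧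
      Function.Injective (Sheaf.H.map
        ((SheafOfModules.toSheaf X.ringCatSheaf).map (ClSub.toSubscheme (𝓘 ^ (m + 1)))) n) := by
  haveI : IsLocallyNoetherian (Spec (CommRingCat.of k)) :=
    isLocallyNoetherian_Spec.mpr (inferInstanceAs (IsNoetherianRing k))
  haveI : IsLocallyNoetherian X :=
    LocallyOfFiniteType.isLocallyNoetherian (X ↘ (Spec (CommRingCat.of k)))
  obtain ⟨e⟩ := hL
  have hLinv := hamp.1
  have eM : CohB1.tensorMod (ClSub.idealMod 𝓘) L ≅ unitM X := tensorBraid (ClSub.idealMod 𝓘) L ≪≫ e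
  have hMinv : PicF.IsInvertible (ClSub.idealMod 𝓘) :=
    isInvertible_of_tensor_iso (ClSub.idealMod 𝓘) L eM
  have hI : FGA.IsEffCartier 𝓘 := isEffCartier_of_isInvertible_idealMod 𝓘 hMinv
  have hM : ClSub.IsInverseOf L (ClSub.idealMod 𝓘) := ⟨e⟩
  have hOc : Coh.IsCoh (unitM X) := isCoh_of_isInvertible (isInvertible_unit X)
  have hdepth' : ∀ x : X, IsClosed ({x} : Set X) → ((n + 1 : ℕ) : ℕ∞) ≤
      LocCoh.depth (X.presheaf.stalk x) ((unitM X).presheaf.stalk x) := by
    intro x hx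
    rw [← Groth.Agent.Lib.Helper18.CM.depth_congr (Groth.Agent.Lib.Helper9.RefStalk.oEquiv x)]
    have := hdepth x hx
    push_cast
    exact Order.add_one_le_of_lt this
  have hvan : ∀ j : ℕ, j < n + 1 → ∃ m₀ : ℕ, ∀ m : ℕ, m₀ ≤ m → Subsingleton
      (Coh.HH X (CohB1.tensorMod (unitM X) (CohB1.tensorPow (ClSub.idealMod 𝓘) m)) j) :=
    fun j hj => exists_vanishing_neg k X L hamp (ClSub.idealMod 𝓘) hM (n + 1) (unitM X) hOc
      hdepth' j hj
  choose! m₀ hm₀ using hvan
  refine ⟨(Finset.range (n + 1)).sup m₀, fun m hm => ?_⟩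
  have hvan' : ∀ j, j ≤ n → Subsingleton (Coh.HH X (ClSub.idealMod (𝓘 ^ (m + 1))) j) := by
    intro j hj
    have hjm : m₀ j ≤ m + 1 :=
      le_trans (le_trans (Finset.le_sup (f := m₀) (Finset.mem_range.mpr (Nat.lt_succ_of_le hj))) hm)
        (Nat.le_succ m)
    have h1 := hm₀ j (Nat.lt_succ_of_le hj) (m + 1) hjm
    have hτ : assPts X ⊆ CohB1.genLocus (CohB1.tensorMod (unitM X) (CohB1.tensorPow L (m + 1)))
        (SecTwist.powHom (secOfInverse 𝓘 e) (m + 1) ≫
          (tensorUnitL (CohB1.tensorPow L (m + 1))).symm.hom) := by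
      rw [genLocus_comp_iso _ (tensorUnitL _).symm, genLocus_powHom hLinv _ m]
      exact assPts_subset_genLocus_secOfInverse 𝓘 hI hLinv e
    obtain ⟨eI⟩ := nonempty_idealMod_iso_inverse (isInvertible_tensorPow hMinv (m + 1))
      (isInvertible_tensorPow hLinv (m + 1)) (invPow eM (m + 1))
      (SecTwist.powHom (secOfInverse 𝓘 e) (m + 1) ≫
          (tensorUnitL (CohB1.tensorPow L (m + 1))).symm.hom) hτ
    rw [zeroScheme_powHom_secOfInverse 𝓘 hI hLinv e (m + 1)] at eI
    exact Groth.Agent.Lib.Lead.Pn.subsingleton_HH_of_iso ((tensorUnitL _) ≪≫ eI.symm) j h1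
  have hS' := shortExact_map_toSheafAb (idealSeq (𝓘 ^ (m + 1))) (shortExact_idealSeq (𝓘 ^ (m + 1)))
  have hinj : ∀ i, i ≤ n → Function.Injective (Sheaf.H.map
      ((SheafOfModules.toSheaf X.ringCatSheaf).map (ClSub.toSubscheme (𝓘 ^ (m + 1)))) i) := by
    intro i hi
    rw [injective_iff_map_eq_zero]
    intro x hx
    obtain ⟨y, hy⟩ := Groth.Agent.Lib.Helper2.UnitsTh.ker_H_map_g hS' i x hx
    haveI : Subsingleton (Sheaf.H ((idealSeq (𝓘 ^ (m + 1))).map (toSheafAb X)).X₁ i) := hvan' i hi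
    have hy0 : y = 0 := Subsingleton.elim y 0
    rw [← hy, hy0]
    exact map_zero _
  refine ⟨fun i hi => ⟨hinj i hi.le, ?_⟩, hinj n le_rfl⟩
  have h2 : Subsingleton (Sheaf.H ((idealSeq (𝓘 ^ (m + 1))).map (toSheafAb X)).X₁ (i + 1)) :=
    hvan' (i + 1) hi
  exact Groth.Agent.Lib.Helper2.UnitsTh.surjective_H_map_g hS' i h2

end Main

end Groth.Agent.Lib.Helper4.ZZ
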