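import Mathlib
import Groth.Agent.Lib.Helper4.ZZ9
import Groth.Agent.Lib.Lead.SD.AmpleConn
import Groth.Agent.Lib.Helper9.KerLF1
import Groth.Agent.Lib.Helper29.Twist6
import Groth.Agent.Lib.Helper21.FibStalkDepth

/-!
# A proper integral scheme over a field on which `O` is ample is a point (helper4)
-/

set_option autoImplicit false
set_option linter.style.haveILetI false
set_option linter.unusedSectionVars false

universe u

namespace Groth.Agent.Lib.Helper4.ZZ

open AlgebraicGeometry CategoryTheory Limits TopologicalSpace Opposite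
open Groth.Agent.Lib.Helper29.QCoh Groth.Agent.Lib.Helper29.AmpDiv
open Groth.Agent.Lib.Lead.SD.AmpleConn Groth.Agent.Lib.Lead.SD.AmpleNeg

/-- On an integral scheme, a point whose local ring is a field is the generic point. -/
theorem eq_genericPoint_of_isField_stalk {T : Scheme.{u}} [IsIntegral T] (x : T)
    (hf : IsField (T.presheaf.stalk x)) : genericPoint T = x := by
  letI := hf.toField
  have hspec : genericPoint T ⤳ x := (genericPoint_spec T).specializes trivial
  have hmem : genericPoint T ∈ Set.range (T.fromSpecStalk x) := by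
    rw [Scheme.range_fromSpecStalk]
    exact hspec
  obtain ⟨p, hp⟩ := hmem
  have hpc : p = IsLocalRing.closedPoint (T.presheaf.stalk x) :=
    @Subsingleton.elim (PrimeSpectrum (T.presheaf.stalk x)) inferInstance p _
  rw [← hp, hpc, Scheme.fromSpecStalk_closedPoint]

/-- tensor powers of the structure sheaf -/
noncomputable def tensorPowUnitIso (T : Scheme.{u}) :
    (m : ℕ) → (CohB1.tensorPow (unitM T) m ≅ unitM T)
  | 0 => Iso.refl _
  | m + 1 => tensorCongr (tensorPowUnitIso T m) (Iso.refl _) ≪≫ tensorUnitR _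

/-- **A proper integral scheme over a field on which the structure sheaf is ample is a
point.** -/
theorem subsingleton_of_isAmple_unit (k : Type u) [Field k] (T : Scheme.{u}) [IsIntegral T]
    [T.Over (Spec (CommRingCat.of k))] [IsProper (T ↘ Spec (CommRingCat.of k))]
    (hamp : CohB1.IsAmple (unitM T)) : Subsingleton T := by
  by_contra hns
  haveI : IsLocallyNoetherian (Spec (CommRingCat.of k)) :=
    isLocallyNoetherian_Spec.mpr (inferInstanceAs (IsNoetherianRing k))
  haveI : IsLocallyNoetherian T :=
    LocallyOfFiniteType.isLocallyNoetherian (T ↘ (Spec (CommRingCat.of k)))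
  have hOc : Coh.IsCoh (unitM T) := isCoh_of_isInvertible (isInvertible_unit T)
  have hdepth : ∀ x : T, IsClosed ({x} : Set T) → ((1 : ℕ) : ℕ∞) ≤
      LocCoh.depth (T.presheaf.stalk x) ((unitM T).presheaf.stalk x) := by
    intro x hx
    rw [← Groth.Agent.Lib.Helper18.CM.depth_congr (Groth.Agent.Lib.Helper9.RefStalk.oEquiv x)]
    have hnf : ¬ IsField (T.presheaf.stalk x) := by
      intro hf
      apply hns
      have hgen := eq_genericPoint_of_isField_stalk x hf
      have h1 : closure ({genericPoint T} : Set T) = Set.univ := (genericPoint_spec T).def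
      rw [hgen, hx.closure_eq] at h1
      refine ⟨fun a b => ?_⟩
      have ha : a ∈ ({x} : Set T) := h1 ▸ Set.mem_univ a
      have hb : b ∈ ({x} : Set T) := h1 ▸ Set.mem_univ b
      rw [Set.mem_singleton_iff] at ha hb
      rw [ha, hb]
    have := Groth.Agent.Lib.Helper9.KerLF.one_le_depth_of_isTorsionFree (T.presheaf.stalk x) hnf
      (T.presheaf.stalk x)
    exact_mod_cast this
  obtain ⟨m₀, hm₀⟩ := exists_vanishing_neg k T (unitM T) hamp (unitM T)
    ⟨tensorUnitL (unitM T)⟩ 1 (unitM T) hOc hdepth 0 one_pos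
  have h0 := hm₀ m₀ le_rfl
  haveI h1 : Subsingleton (Coh.HH T (unitM T) 0) :=
    Groth.Agent.Lib.Lead.Pn.subsingleton_HH_of_iso
      (tensorCongr (Iso.refl _) (tensorPowUnitIso T m₀) ≪≫ tensorUnitR _) 0 h0
  have h2 : (hh0 (unitM T)).symm (toUnit (1 : Γ(T, ⊤))) =
      (hh0 (unitM T)).symm (toUnit (0 : Γ(T, ⊤))) := Subsingleton.elim _ _
  have h3 : (1 : Γ(T, ⊤)) = 0 := by
    have := congrArg (fun z => fromUnit (hh0 (unitM T) z)) h2
    simp at this
  exact one_ne_zero h3

end Groth.Agent.Lib.Helper4.ZZ

namespace Groth.Agent.Lib.Helper4.ZZ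

open AlgebraicGeometry CategoryTheory Limits TopologicalSpace Opposite
open Groth.Agent.Lib.Helper29.QCoh Groth.Agent.Lib.Helper29.AmpDiv
open Groth.Agent.Lib.Lead.SD.AmpleConn Groth.Agent.Lib.Lead.SD.AmpleNeg

/-- **Closed subsets missing an ample divisor are finite over the base**: if `Z` is closed in
`X` (proper over `A`) and contained in `X_s` for a section `s` of an ample `L`, then every point
of a fibre lying in `Z` is closed in the fibre. -/
theorem isClosed_singleton_fiber_of_subset_genLocus (A : Type u) [CommRing A] [IsNoetherianRing A]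
    (X : Scheme.{u}) (f : X ⟶ Spec (CommRingCat.of A)) [IsProper f]
    (L : X.Modules) (hamp : CohB1.IsAmple L) (s : unitM X ⟶ L)
    (Z : Set X) (hZ : IsClosed Z) (hZs : Z ⊆ (CohB1.genLocus L s : Set X))
    (y : Spec (CommRingCat.of A)) (w : f.fiber y) (hw : f.fiberι y w ∈ Z) :
    IsClosed ({w} : Set ↥(f.fiber y)) := by
  -- the reduced closed subscheme on the closure of `w`
  let W : Closeds ↥(f.fiber y) := ⟨closure {w}, isClosed_closure⟩
  have hred : IsReduced (Scheme.IdealSheafData.vanishingIdeal W).subscheme :=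
    Groth.Agent.Lib.Helper16.isReduced_subscheme_vanishingIdeal W
  have hrange : Set.range (Scheme.IdealSheafData.vanishingIdeal W).subschemeι =
      closure {w} := by
    rw [Scheme.IdealSheafData.range_subschemeι, Scheme.IdealSheafData.coe_support_vanishingIdeal]
    rfl
  generalize Scheme.IdealSheafData.vanishingIdeal W = J at hred hrange
  haveI := hred
  let h : J.subscheme ≃ₜ (closure {w} : Set ↥(f.fiber y)) :=
    (J.subschemeι.isClosedEmbedding.isEmbedding.toHomeomorph).trans (Homeomorph.setCongr hrange)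
  haveI : IrreducibleSpace (closure {w} : Set ↥(f.fiber y)) :=
    Subtype.irreducibleSpace isIrreducible_singleton.closure
  haveI : IrreducibleSpace J.subscheme := h.irreducibleSpace_iff.mpr inferInstance
  haveI : IsIntegral J.subscheme := isIntegral_of_irreducibleSpace_of_isReduced _
  -- the field and the structure morphism
  let k : Type u := ↑((Spec (CommRingCat.of A)).residueField y)
  let g : J.subscheme ⟶ Spec (CommRingCat.of k) := J.subschemeι ≫ f.fiberToSpecResidueField y
  haveI : IsProper (f.fiberToSpecResidueField y) :=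
    inferInstanceAs (IsProper (pullback.snd f ((Spec (CommRingCat.of A)).fromSpecResidueField y)))
  haveI : IsProper g := inferInstanceAs (IsProper (J.subschemeι ≫ f.fiberToSpecResidueField y))
  letI : J.subscheme.Over (Spec (CommRingCat.of k)) := ⟨g⟩
  haveI : IsProper (J.subscheme ↘ Spec (CommRingCat.of k)) := inferInstanceAs (IsProper g)
  -- pull back `L` and `s`
  let ψ : J.subscheme ⟶ X := J.subschemeι ≫ f.fiberι y
  have haff1 : IsAffineHom ((Spec (CommRingCat.of A)).fromSpecResidueField y) := inferInstance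
  haveI : IsAffineHom (f.fiberι y) := MorphismProperty.of_isPullback (P := @IsAffineHom)
    (IsPullback.of_hasPullback f ((Spec (CommRingCat.of A)).fromSpecResidueField y)).flip haff1
  haveI : IsAffineHom ψ := inferInstanceAs (IsAffineHom (J.subschemeι ≫ f.fiberι y))
  haveI : CompactSpace J.subscheme := QuasiCompact.compactSpace_of_compactSpace g
  have hL1 := isAmple_pullback_of_isAffineHom ψ hamp
  have hψZ : ∀ t : J.subscheme, ψ t ∈ Z := by
    intro t
    have h1 : J.subschemeι t ∈ closure ({w} : Set ↥(f.fiber y)) := by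
      rw [← hrange]; exact ⟨t, rfl⟩
    have h2 : w ⤳ J.subschemeι t := specializes_iff_mem_closure.mpr h1
    have h3 : f.fiberι y w ⤳ f.fiberι y (J.subschemeι t) := h2.map (f.fiberι y).continuous
    exact h3.mem_closed hZ hw
  have hgen : CohB1.genLocus _ (pullHom ψ s) = ⊤ := by
    rw [genLocus_pullHom ψ hamp.1 s]
    ext t
    simp only [Opens.coe_top, Set.mem_univ, iff_true]
    exact hZs (hψZ t)
  haveI := isIso_of_genLocus_eq_top (pullHom ψ s) hgen
  have hampO : CohB1.IsAmple (unitM J.subscheme) :=
    isAmple_of_iso (asIso (pullHom ψ s)).symm hL1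
  have hsub := subsingleton_of_isAmple_unit k J.subscheme hampO
  -- conclude
  have hcl : closure ({w} : Set ↥(f.fiber y)) = {w} := by
    apply Set.Subset.antisymm _ subset_closure
    intro v hv
    rw [← hrange] at hv
    obtain ⟨t, rfl⟩ := hv
    have hw' : w ∈ Set.range J.subschemeι := by rw [hrange]; exact subset_closure rfl
    obtain ⟨t', ht'⟩ := hw'
    rw [Set.mem_singleton_iff, ← ht', Subsingleton.elim t t']
  rw [← hcl]
  exact isClosed_closure

open Groth.Agent.Lib.Helper25.HypTwist Groth.Agent.Lib.Helper29.QCoh.Res in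
/-- **Closed subsets disjoint from an ample effective Cartier divisor**: their points are closed
in the fibres, and (flat case) the depth of the local rings is at least the depth of the fibres
at closed points. -/
theorem closed_disjoint_ample_divisor (A : Type u) [CommRing A] [IsNoetherianRing A]
    (X : Scheme.{u}) (f : X ⟶ Spec (CommRingCat.of A)) [IsProper f]
    (𝓘 : X.IdealSheafData) (L : X.Modules) (hL : ClSub.IsInverseOf L (ClSub.idealMod 𝓘))
    (hamp : CohB1.IsAmple L) (Z : Set X) (hZ : IsClosed Z)
    (hZY : Disjoint Z (𝓘.support : Set X)) (n : ℕ) :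
    (∀ z : X, z ∈ Z → IsClosed ({f.asFiber z} : Set ↥(f.fiber (f.base z)))) ∧
    (Flat f → (∀ x : X, IsClosed ({f.asFiber x} : Set ↥(f.fiber (f.base x))) →
        (n : ℕ∞) ≤ LocCoh.depth ↑(CInt.fiberStalk f x) ↑(CInt.fiberStalk f x)) →
      ∀ z : X, z ∈ Z → (n : ℕ∞) ≤ LocCoh.depth (X.presheaf.stalk z) (X.presheaf.stalk z)) := by
  haveI : IsLocallyNoetherian (Spec (CommRingCat.of A)) :=
    isLocallyNoetherian_Spec.mpr (inferInstanceAs (IsNoetherianRing A))
  haveI : IsLocallyNoetherian X := LocallyOfFiniteType.isLocallyNoetherian f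
  obtain ⟨e⟩ := hL
  have eM : CohB1.tensorMod (ClSub.idealMod 𝓘) L ≅ unitM X :=
    tensorBraid (ClSub.idealMod 𝓘) L ≪≫ e
  have hMinv : PicF.IsInvertible (ClSub.idealMod 𝓘) :=
    isInvertible_of_tensor_iso (ClSub.idealMod 𝓘) L eM
  have hI : FGA.IsEffCartier 𝓘 := isEffCartier_of_isInvertible_idealMod 𝓘 hMinv
  have hgl := genLocus_secOfInverse 𝓘 hI hamp.1 e
  have hZs : Z ⊆ ((CohB1.genLocus L (secOfInverse 𝓘 e) : X.Opens) : Set X) := by
    rw [hgl]
    intro z hz hzY
    exact Set.disjoint_left.mp hZY hz hzY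
  have h1 : ∀ z : X, z ∈ Z → IsClosed ({f.asFiber z} : Set ↥(f.fiber (f.base z))) := by
    intro z hz
    exact isClosed_singleton_fiber_of_subset_genLocus A X f L hamp (secOfInverse 𝓘 e) Z hZ hZs
      _ _ (by rw [Scheme.Hom.fiberι_asFiber]; exact hz)
  refine ⟨h1, fun hflat hdepth z hz => ?_⟩
  haveI := hflat
  exact le_trans (hdepth z (h1 z hz))
    (Groth.Agent.Lib.Helper21.FibStalkDepth.depth_fiberStalk_le f z)

end Groth.Agent.Lib.Helper4.ZZ
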