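import Mathlib
import Groth.Agent.Lib.Helper17.AG3
import Groth.Agent.S1530
import Groth.Agent.S0050
import Groth.Agent.Lib.Helper16.ReducedSub
import Groth.Agent.Lib.Helper22.Cech.AffineVanishing
import Groth.Agent.Lib.Helper29.PullTensor

/-!
# Ampleness on proper schemes of dimension `≤ 1` in terms of degrees on components (helper4)
-/

set_option autoImplicit false
set_option linter.style.haveILetI false
set_option linter.unusedSectionVars false

universe u

namespace Groth.Agent.Lib.Helper4.ZZ

open AlgebraicGeometry CategoryTheory Limits TopologicalSpace Opposite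
open Groth.Agent.Lib.Helper29.QCoh

/-- An irreducible `T0` space of dimension `≤ 0` is a point. -/
theorem subsingleton_of_topologicalKrullDim_le_zero {T : Type*} [TopologicalSpace T] [T0Space T]
    [IrreducibleSpace T] (h : topologicalKrullDim T ≤ 0) : Subsingleton T := by
  have key : ∀ x : T, closure ({x} : Set T) = Set.univ := by
    intro x
    by_contra hne
    let a : IrreducibleCloseds T := ⟨closure {x}, isIrreducible_singleton.closure, isClosed_closure⟩
    let b : IrreducibleCloseds T := ⟨Set.univ, IrreducibleSpace.isIrreducible_univ T, isClosed_univ⟩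
    have hab : a < b := by
      refine lt_of_le_of_ne (fun y _ => Set.mem_univ y) ?_
      intro hab
      apply hne
      have := congrArg (fun c : IrreducibleCloseds T => (c : Set T)) hab
      exact this
    let s : LTSeries (IrreducibleCloseds T) := RelSeries.fromListIsChain [a, b] (by simp)
      (by simp [hab])
    have h1 : (s.length : WithBot ℕ∞) ≤ topologicalKrullDim T := Order.LTSeries.length_le_krullDim s
    have h2 : s.length = 1 := rfl
    rw [h2] at h1
    have := le_trans h1 h
    norm_num at this
  refine ⟨fun x y => ?_⟩
  have hx : IsGenericPoint x (Set.univ : Set T) := key x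
  have hy : IsGenericPoint y (Set.univ : Set T) := key y
  exact hx.eq hy

/-- Every invertible module on an affine scheme is ample. -/
theorem isAmple_of_isAffine (T : Scheme.{u}) [IsAffine T] (L : T.Modules)
    (hL : PicF.IsInvertible L) : CohB1.IsAmple L := by
  refine Groth.Agent.S0050.result T L hL (fun I i _ hI => ⟨0, ?_⟩)
  haveI : I.IsQuasicoherent := hI
  haveI := isQuasicoherent_of_isInvertible (isInvertible_tensorPow hL (0 + 1))
  exact Groth.Agent.Lib.Helper22.Cech.subsingleton_HH_succ_of_isAffine T
    (CohB1.tensorMod I (CohB1.tensorPow L (0 + 1))) 0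

section Comp

variable (k : Type u) [Field k] (X : Scheme.{u}) [X.Over (Spec (CommRingCat.of k))]
  [IsProper (X ↘ (Spec (CommRingCat.of k)))]

/-- The reduced closed subscheme on an irreducible closed subset: ampleness of the pullback. -/
theorem isAmple_pullback_vanishingIdeal (L : X.Modules) (hL : PicF.IsInvertible L)
    (Z : Closeds X) (hZ : IsIrreducible (Z : Set X))
    (J : X.IdealSheafData) (hJ : J = Scheme.IdealSheafData.vanishingIdeal Z) :
    (topologicalKrullDim (Z : Set X) = 1 →
      (CohB1.IsAmple ((Scheme.Modules.pullback J.subschemeι).obj L) ↔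
        0 < @Curv2.deg k _ J.subscheme ⟨J.subschemeι ≫ (X ↘ (Spec (CommRingCat.of k)))⟩
          ((Scheme.Modules.pullback J.subschemeι).obj L) 1)) ∧
    (topologicalKrullDim (Z : Set X) ≤ 0 →
      CohB1.IsAmple ((Scheme.Modules.pullback J.subschemeι).obj L)) := by
  subst hJ
  have hred : IsReduced (Scheme.IdealSheafData.vanishingIdeal Z).subscheme :=
    Groth.Agent.Lib.Helper16.isReduced_subscheme_vanishingIdeal Z
  have hrange : Set.range (Scheme.IdealSheafData.vanishingIdeal Z).subschemeι = (Z : Set X) := by
    rw [Scheme.IdealSheafData.range_subschemeι, Scheme.IdealSheafData.coe_support_vanishingIdeal]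
  generalize Scheme.IdealSheafData.vanishingIdeal Z = J at hred hrange ⊢
  haveI := hred
  let h : J.subscheme ≃ₜ (Z : Set X) :=
    (J.subschemeι.isClosedEmbedding.isEmbedding.toHomeomorph).trans (Homeomorph.setCongr hrange)
  haveI : IrreducibleSpace (Z : Set X) := Subtype.irreducibleSpace hZ
  haveI : IrreducibleSpace J.subscheme := h.irreducibleSpace_iff.mpr inferInstance
  haveI : IsIntegral J.subscheme := isIntegral_of_irreducibleSpace_of_isReduced _
  letI : J.subscheme.Over (Spec (CommRingCat.of k)) :=
    ⟨J.subschemeι ≫ (X ↘ (Spec (CommRingCat.of k)))⟩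
  haveI : IsProper (J.subscheme ↘ (Spec (CommRingCat.of k))) :=
    inferInstanceAs (IsProper (J.subschemeι ≫ (X ↘ (Spec (CommRingCat.of k)))))
  have hdimeq : topologicalKrullDim J.subscheme = topologicalKrullDim (Z : Set X) :=
    IsHomeomorph.topologicalKrullDim_eq h h.isHomeomorph
  have hLJ := isInvertible_pullback J.subschemeι hL
  constructor
  · intro hdimZ
    exact Groth.Agent.S1530.result k J.subscheme (hdimeq.trans hdimZ) _ hLJ
  · intro hdimZ
    haveI : Subsingleton J.subscheme :=
      subsingleton_of_topologicalKrullDim_le_zero (hdimeq.le.trans hdimZ)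
    -- a one-point scheme is affine
    haveI : IsAffine J.subscheme := by
      obtain ⟨x⟩ : Nonempty J.subscheme := inferInstance
      obtain ⟨U, hU, hxU, -⟩ := exists_isAffineOpen_mem_and_subset (x := x) (U := ⊤) trivial
      have hUtop : U = ⊤ := by
        ext y
        simp only [Opens.coe_top, Set.mem_univ, iff_true]
        rw [Subsingleton.elim y x]
        exact hxU
      rw [hUtop] at hU
      haveI : IsAffine (⊤ : (J.subscheme).Opens).toScheme := hU
      exact .of_isIso (J.subscheme).topIso.inv
    exact isAmple_of_isAffine _ _ hLJ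

theorem isAmple_pullback_congr {Y : Scheme.{u}} (L : Y.Modules) {J J' : Y.IdealSheafData} (h : J = J')
    (hJ : CohB1.IsAmple ((Scheme.Modules.pullback J.subschemeι).obj L)) :
    CohB1.IsAmple ((Scheme.Modules.pullback J'.subschemeι).obj L) := by
  subst h
  exact hJ

theorem withBot_enat_le_zero_of_lt_one (d : WithBot ℕ∞) (h : d < 1) : d ≤ 0 := by
  induction d using WithBot.recBotCoe with
  | bot => exact bot_le
  | coe n =>
    have h1 : n < 1 := by exact_mod_cast h
    rw [Order.lt_one_iff] at h1
    subst h1
    exact le_rfl

/-- **Ampleness in dimension `≤ 1`**: `L` is ample iff it has positive degree on every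
one-dimensional irreducible component (with reduced structure). -/
theorem isAmple_iff_deg_pos_components [IsNoetherian X] (hdim : topologicalKrullDim X ≤ 1)
    (L : X.Modules) (hL : PicF.IsInvertible L) :
    CohB1.IsAmple L ↔ ∀ (C : Set X) (hC : C ∈ irreducibleComponents (X : Type u)),
      topologicalKrullDim C = 1 →
        0 < @Curv2.deg k _ (X.irreducibleComponentIdeal C hC).radical.subscheme
          ⟨(X.irreducibleComponentIdeal C hC).radical.subschemeι ≫
            (X ↘ (Spec (CommRingCat.of k)))⟩
          ((Scheme.Modules.pullback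
            (X.irreducibleComponentIdeal C hC).radical.subschemeι).obj L) 1 := by
  have hrad : ∀ (C : Set X) (hC : C ∈ irreducibleComponents (X : Type u)),
      (X.irreducibleComponentIdeal C hC).radical = Scheme.IdealSheafData.vanishingIdeal
        ⟨C, isClosed_of_mem_irreducibleComponents C hC⟩ := by
    intro C hC
    rw [← Scheme.IdealSheafData.vanishingIdeal_support]
    congr 1
  constructor
  · intro hamp C hC hdimC
    have hK := (isAmple_pullback_vanishingIdeal k X L hL
      ⟨C, isClosed_of_mem_irreducibleComponents C hC⟩ hC.1 _ (hrad C hC)).1 hdimC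
    refine hK.mp ?_
    haveI : CompactSpace ↥(X.irreducibleComponentIdeal C hC).radical.subscheme :=
      QuasiCompact.compactSpace_of_compactSpace
        (X.irreducibleComponentIdeal C hC).radical.subschemeι
    exact isAmple_pullback_of_isAffineHom _ hamp
  · intro h
    rw [Groth.Agent.Lib.Helper17.AmpGlue.isAmple_iff_components k
      (X ↘ (Spec (CommRingCat.of k))) L hL]
    intro Z hZ
    have hrad' := hrad (Z : Set X) hZ
    have hZeq : (⟨(Z : Set X), isClosed_of_mem_irreducibleComponents _ hZ⟩ : Closeds X) = Z :=
      Closeds.ext rfl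
    rw [hZeq] at hrad'
    have hK := isAmple_pullback_vanishingIdeal k X L hL Z hZ.1 _ hrad'
    have hdimZ : topologicalKrullDim (Z : Set X) ≤ 1 :=
      (topologicalKrullDim_subspace_le X _).trans hdim
    refine isAmple_pullback_congr L hrad' ?_
    by_cases h1 : topologicalKrullDim (Z : Set X) = 1
    · exact (hK.1 h1).mpr (h _ hZ h1)
    · exact hK.2 (withBot_enat_le_zero_of_lt_one _ (lt_of_le_of_ne hdimZ h1))

end Comp

end Groth.Agent.Lib.Helper4.ZZ
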