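import Mathlib
import Groth.Agent.Lib.Helper4.ZZ12
import Groth.Agent.Lib.Helper29.Cocycle
import Groth.Agent.Lib.Helper29.SerreA

/-!
# Sections of invertible modules of nonpositive degree on reduced connected curves (helper4)
-/

set_option autoImplicit false
set_option linter.style.haveILetI false
set_option linter.unusedSectionVars false

universe u

namespace Groth.Agent.Lib.Helper4.ZZ

open AlgebraicGeometry CategoryTheory Limits TopologicalSpace Opposite
open Groth.Agent.Lib.Helper29.QCoh

/-- On a reduced scheme, a section of an invertible module generating nowhere is zero. -/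
theorem eq_zero_of_genLocus_eq_bot {X : Scheme.{u}} [IsReduced X] {L : X.Modules}
    (hL : PicF.IsInvertible L) (s : unitM X ⟶ L) (h : CohB1.genLocus L s = ⊥) : s = 0 := by
  have key : ∀ x : X, ∃ U : X.Opens, x ∈ U ∧ sval s U = 0 := by
    intro x
    obtain ⟨U, e, hxU, hT⟩ := exists_isTriv hL x
    obtain ⟨a, ha⟩ := hT.exists_eq_smul (sval s U)
    have h1 := hT.genLocus_inf s a ha
    rw [h, bot_inf_eq] at h1
    have ha0 : a = 0 := (basicOpen_eq_bot_iff a).mp h1.symm
    exact ⟨U, hxU, by rw [ha, ha0, zero_smul]⟩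
  choose V hxV hV using key
  apply hom_ext_of_sval
  have h0 : sval (0 : unitM X ⟶ L) ⊤ = 0 := rfl
  rw [h0]
  refine eq_zero_of_res_cover_eq_zero L V (fun _ => le_top) ?_ _ fun x => ?_
  · intro x _
    exact Opens.mem_iSup.mpr ⟨x, hxV x⟩
  · rw [res_sval s (le_top : V x ≤ ⊤)]
    exact hV x

/-- The zero section of an invertible module generates nowhere. -/
theorem genLocus_zero {X : Scheme.{u}} (L : X.Modules) :
    CohB1.genLocus L (0 : unitM X ⟶ L) = ⊥ := by
  ext x
  simp only [SetLike.mem_coe, Opens.coe_bot, Set.mem_empty_iff_false, iff_false]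
  intro hx
  obtain ⟨U, hxU, hU⟩ := (mem_genLocus_iff (0 : unitM X ⟶ L) x).mp hx
  have h1 : (toUnit (1 : Γ(X, U)) : Γ(unitM X, U)) = toUnit (0 : Γ(X, U)) :=
    (hU U le_rfl).1 rfl
  have h2 : (1 : Γ(X, U)) = 0 := h1
  have h3 : X.presheaf.germ U x hxU 1 = X.presheaf.germ U x hxU 0 := by rw [h2]
  rw [map_one, map_zero] at h3
  exact one_ne_zero h3


/-- On a proper integral curve, a section of an invertible module of degree `≤ 0` is zero or
generates everywhere. -/
theorem eq_zero_or_genLocus_eq_top_of_deg_nonpos (k : Type u) [Field k] (T : Scheme.{u})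
    [T.Over (Spec (CommRingCat.of k))] [IsIntegral T] [IsProper (T ↘ (Spec (CommRingCat.of k)))]
    (hdim : topologicalKrullDim T ≤ 1) {M : T.Modules} (hM : PicF.IsInvertible M)
    (hdeg : Curv2.deg k T M 1 ≤ 0) (t : unitM T ⟶ M) : t = 0 ∨ CohB1.genLocus M t = ⊤ := by
  by_cases ht : t = 0
  · exact Or.inl ht
  · right
    obtain ⟨h1, h2⟩ := Groth.Agent.Lib.Helper21.CDeg.deg_eq_finrank_of_section k T hdim hM t ht
    have h3 : Module.finrank k (Coh.HH T (cokernel t) 0) = 0 := by omega
    haveI : IsIso t := h2.mp h3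
    ext x
    simp only [Opens.coe_top, Set.mem_univ, iff_true]
    exact Groth.Agent.Lib.Helper21.CDeg.mem_genLocus_of_isIso T t x

section Comp

variable (k : Type u) [Field k] (X : Scheme.{u}) [X.Over (Spec (CommRingCat.of k))]
  [IsProper (X ↘ (Spec (CommRingCat.of k)))]

/-- A one-dimensional irreducible closed subset on whose reduced structure `L` has degree `≤ 0`
lies inside or outside the generating locus of any section of `L`. -/
theorem subset_or_disjoint_genLocus (L : X.Modules) (hL : PicF.IsInvertible L) (s : unitM X ⟶ L)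
    (Z : Closeds X) (hZ : IsIrreducible (Z : Set X))
    (hdimZ : topologicalKrullDim (Z : Set X) = 1)
    (J : X.IdealSheafData) (hJ : J = Scheme.IdealSheafData.vanishingIdeal Z)
    (hdeg : @Curv2.deg k _ J.subscheme ⟨J.subschemeι ≫ (X ↘ (Spec (CommRingCat.of k)))⟩
          ((Scheme.Modules.pullback J.subschemeι).obj L) 1 ≤ 0) :
    (Z : Set X) ⊆ (CohB1.genLocus L s : Set X) ∨
      Disjoint (Z : Set X) (CohB1.genLocus L s : Set X) := by
  subst hJ
  have hred : IsReduced (Scheme.IdealSheafData.vanishingIdeal Z).subscheme :=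
    Groth.Agent.Lib.Helper16.isReduced_subscheme_vanishingIdeal Z
  have hrange : Set.range (Scheme.IdealSheafData.vanishingIdeal Z).subschemeι = (Z : Set X) := by
    rw [Scheme.IdealSheafData.range_subschemeι, Scheme.IdealSheafData.coe_support_vanishingIdeal]
  generalize Scheme.IdealSheafData.vanishingIdeal Z = J at hred hrange hdeg ⊢
  haveI := hred
  let h : J.subscheme ≃ₜ (Z : Set X) :=
    (J.subschemeι.isClosedEmbedding.isEmbedding.toHomeomorph).trans (Homeomorph.setCongr hrange)
  haveI : IrreducibleSpace (Z : Set X) := Subtype.irreducibleSpace hZ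
  haveI : IrreducibleSpace J.subscheme := h.irreducibleSpace_iff.mpr inferInstance
  haveI : IsIntegral J.subscheme := isIntegral_of_irreducibleSpace_of_isReduced _
  letI : J.subscheme.Over (Spec (CommRingCat.of k)) :=
    ⟨J.subschemeι ≫ (X ↘ (Spec (CommRingCat.of k)))⟩
  haveI : IsProper (J.subscheme ↘ (Spec (CommRingCat.of k))) :=
    inferInstanceAs (IsProper (J.subschemeι ≫ (X ↘ (Spec (CommRingCat.of k)))))
  have hdimeq : topologicalKrullDim J.subscheme = topologicalKrullDim (Z : Set X) :=
    IsHomeomorph.topologicalKrullDim_eq h h.isHomeomorph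
  have hLJ := isInvertible_pullback J.subschemeι hL
  have hgl := genLocus_pullHom J.subschemeι hL s
  rcases eq_zero_or_genLocus_eq_top_of_deg_nonpos k J.subscheme (hdimeq.trans hdimZ).le hLJ hdeg
    (pullHom J.subschemeι s) with h0 | h1
  · right
    rw [h0, genLocus_zero] at hgl
    rw [Set.disjoint_left]
    intro x hxZ hxU
    rw [← hrange] at hxZ
    obtain ⟨y, rfl⟩ := hxZ
    have : y ∈ J.subschemeι ⁻¹ᵁ CohB1.genLocus L s := hxU
    rw [← hgl] at this
    exact this
  · left
    rw [h1] at hgl
    intro x hxZ
    rw [← hrange] at hxZ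
    obtain ⟨y, rfl⟩ := hxZ
    have : y ∈ J.subschemeι ⁻¹ᵁ CohB1.genLocus L s := by rw [← hgl]; trivial
    exact this

/-- **Sections in nonpositive degree**: on a reduced connected proper scheme over a field all of
whose irreducible components are one-dimensional, an invertible module of degree `≤ 0` on every
component has no nonzero sections or is trivial. -/
theorem h0_subsingleton_or_trivial_of_deg_nonpos [IsReduced X] [ConnectedSpace X] [IsNoetherian X]
    (hdim : ∀ (C : Set X), C ∈ irreducibleComponents (X : Type u) → topologicalKrullDim C = 1)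
    (L : X.Modules) (hL : PicF.IsInvertible L)
    (hdeg : ∀ (C : Set X) (hC : C ∈ irreducibleComponents (X : Type u)),
      @Curv2.deg k _ (X.irreducibleComponentIdeal C hC).radical.subscheme
        ⟨(X.irreducibleComponentIdeal C hC).radical.subschemeι ≫
          (X ↘ (Spec (CommRingCat.of k)))⟩
        ((Scheme.Modules.pullback
          (X.irreducibleComponentIdeal C hC).radical.subschemeι).obj L) 1 ≤ 0) :
    Subsingleton (Coh.HH X L 0) ∨ Nonempty (L ≅ Coh.structureModule X) := by
  by_cases hsub : Subsingleton (Coh.HH X L 0)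
  · exact Or.inl hsub
  right
  rw [not_subsingleton_iff_nontrivial] at hsub
  obtain ⟨s, hs⟩ := Groth.Agent.Lib.Helper21.CDeg.exists_section_ne_zero L hsub
  have hrad : ∀ (C : Set X) (hC : C ∈ irreducibleComponents (X : Type u)),
      (X.irreducibleComponentIdeal C hC).radical = Scheme.IdealSheafData.vanishingIdeal
        ⟨C, isClosed_of_mem_irreducibleComponents C hC⟩ := by
    intro C hC
    rw [← Scheme.IdealSheafData.vanishingIdeal_support]
    congr 1
  have hcomp : ∀ (C : Set X) (hC : C ∈ irreducibleComponents (X : Type u)),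
      C ⊆ (CohB1.genLocus L s : Set X) ∨ Disjoint C (CohB1.genLocus L s : Set X) := by
    intro C hC
    exact subset_or_disjoint_genLocus k X L hL s
      ⟨C, isClosed_of_mem_irreducibleComponents C hC⟩ hC.1 (hdim C hC) _ (hrad C hC) (hdeg C hC)
  have hU : (CohB1.genLocus L s : Set X) =
      ⋃ C ∈ {C | C ∈ irreducibleComponents (X : Type u) ∧ C ⊆ (CohB1.genLocus L s : Set X)}, C := by
    ext x
    simp only [Set.mem_iUnion, Set.mem_ofPred_eq, exists_prop]
    constructor
    · intro hx
      refine ⟨irreducibleComponent x, ⟨irreducibleComponent_mem_irreducibleComponents x, ?_⟩,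
        mem_irreducibleComponent⟩
      rcases hcomp _ (irreducibleComponent_mem_irreducibleComponents x) with h1 | h2
      · exact h1
      · exact absurd hx (Set.disjoint_left.mp h2 mem_irreducibleComponent)
    · rintro ⟨C, ⟨_, hCU⟩, hxC⟩
      exact hCU hxC
  have hfin : {C | C ∈ irreducibleComponents (X : Type u) ∧
      C ⊆ (CohB1.genLocus L s : Set X)}.Finite :=
    (TopologicalSpace.NoetherianSpace.finite_irreducibleComponents (α := X)).subset
      fun C hC => hC.1
  have hclosed : IsClosed (CohB1.genLocus L s : Set X) := by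
    rw [hU]
    exact hfin.isClosed_biUnion fun C hC => isClosed_of_mem_irreducibleComponents C hC.1
  rcases isClopen_iff.mp ⟨hclosed, (CohB1.genLocus L s).isOpen⟩ with h0 | h1
  · exfalso
    apply hs
    apply eq_zero_of_genLocus_eq_bot hL s
    ext x
    rw [h0]
    simp
  · have htop : CohB1.genLocus L s = ⊤ := by
      ext x
      rw [h1]
      simp
    haveI : IsIso s := Groth.Agent.Lib.Helper21.CDeg.isIso_of_genLocus_eq_top s htop
    exact ⟨(asIso s).symm⟩

end Comp

end Groth.Agent.Lib.Helper4.ZZ
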