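import Mathlib
import Groth.Agent.Lib.Helper21.ECart
import Groth.Agent.Lib.Helper21.PC15
import Groth.Agent.Lib.Helper21.BirDeg
import Groth.Agent.Lib.Helper21.CDeg10
import Groth.Agent.Lib.Helper29.AmpDiv1
import Groth.Agent.Lib.Helper29.EndInv2
import Groth.Agent.Lib.Helper29.Dual3
import Groth.Agent.Lib.Helper29.ProjF5
import Groth.Agent.Lib.Helper29.PullTensor

/-!
# Degrees of invertible modules on proper schemes of dimension `≤ 1`: additivity (helper4)
-/

set_option autoImplicit false
set_option linter.style.haveILetI false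
set_option linter.unusedSectionVars false

universe u

namespace Groth.Agent.Lib.Helper4.ZZ

open AlgebraicGeometry CategoryTheory Limits TopologicalSpace Opposite
open Groth.Agent.Lib.Helper29.QCoh

section DegAdd

variable (k : Type u) [Field k] (X : Scheme.{u}) [X.Over (Spec (CommRingCat.of k))]
  [IsProper (X ↘ (Spec (CommRingCat.of k)))]

/-- Euler characteristics of isomorphic modules agree. -/
theorem euler_congr_iso {M N : X.Modules} (e : M ≅ N) :
    Curv2.euler k X M = Curv2.euler k X N := by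
  unfold Curv2.euler
  refine finsum_congr fun q => ?_
  rw [(Groth.Agent.Lib.Helper21.CDeg.HHlinEquiv k e q).finrank_eq]

/-- Degrees of isomorphic modules agree. -/
theorem deg_congr_iso {M N : X.Modules} (e : M ≅ N) (n : ℕ) :
    Curv2.deg k X M n = Curv2.deg k X N n := by
  unfold Curv2.deg
  rw [euler_congr_iso k X e]

/-- **Additivity of the degree**: `deg (E ⊗ M) = deg E + deg M` for invertible `E`, `M` on a proper
scheme of dimension `≤ 1` over a field. -/
theorem deg_tensorMod_invertible (hdim : topologicalKrullDim X ≤ 1) {E M : X.Modules}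
    (hE : PicF.IsInvertible E) (hM : PicF.IsInvertible M) :
    Curv2.deg k X (CohB1.tensorMod E M) 1 = Curv2.deg k X E 1 + Curv2.deg k X M 1 := by
  haveI : IsLocallyNoetherian X :=
    LocallyOfFiniteType.isLocallyNoetherian (X ↘ Spec (CommRingCat.of k))
  haveI : CompactSpace X :=
    QuasiCompact.compactSpace_of_compactSpace (X ↘ (Spec (CommRingCat.of k)))
  haveI : IsNoetherian X := {}
  obtain ⟨A, hA⟩ := Groth.Agent.Lib.Helper21.PC.exists_isAmple k X
    (X ↘ (Spec (CommRingCat.of k))) hdim
  obtain ⟨D, D', hD, hD', -, -, ⟨φ⟩⟩ :=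
    Groth.Agent.Lib.Helper29.AmpDiv.exists_divisors_of_ample hA hM ∅ Set.finite_empty
  have hI' := Groth.Agent.Lib.Helper29.EndInv.isInvertible_idealMod D' hD'
  obtain ⟨L', hL', ⟨ε'⟩⟩ := Dual.exists_inverse hI'
  -- `Q = M ⊗ L'` is an inverse of `I_D`
  have hQ : PicF.IsInvertible (CohB1.tensorMod M L') := isInvertible_tensorMod hM hL'
  have hQD : ClSub.IsInverseOf (CohB1.tensorMod M L') (ClSub.idealMod D) :=
    ⟨tensorAssoc M L' (ClSub.idealMod D) ≪≫
      tensorCongr (Iso.refl M) (tensorBraid L' (ClSub.idealMod D)) ≪≫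
      (tensorAssoc M (ClSub.idealMod D) L').symm ≪≫
      tensorCongr φ (Iso.refl L') ≪≫ tensorBraid _ _ ≪≫ ε'⟩
  have hL'D : ClSub.IsInverseOf L' (ClSub.idealMod D') := ⟨ε'⟩
  -- the general formula
  have key : ∀ (F : X.Modules), PicF.IsInvertible F →
      Curv2.deg k X (CohB1.tensorMod F M) 1 +
        (Module.finrank k (Coh.HH X (ClSub.quotMod D') 0) : ℤ) =
      Curv2.deg k X F 1 + (Module.finrank k (Coh.HH X (ClSub.quotMod D) 0) : ℤ) := by
    intro F hF
    have hF1 := (isInvertible_iff_isFinLocFreeOfRank_one F).mp hF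
    have hFM1 := (isInvertible_iff_isFinLocFreeOfRank_one _).mp (isInvertible_tensorMod hF hM)
    have h1 := Groth.Agent.Lib.Helper21.ECart.deg_tensorMod_effCartier k X hdim D hD
      (CohB1.tensorMod M L') hQ hQD 1 F hF1
    have h2 := Groth.Agent.Lib.Helper21.ECart.deg_tensorMod_effCartier k X hdim D' hD'
      L' hL' hL'D 1 (CohB1.tensorMod F M) hFM1
    have h3 := deg_congr_iso k X (tensorAssoc F M L') 1
    rw [h3, h1] at h2
    push_cast at h2 ⊢
    linarith
  have h0 := key (unitM X) (isInvertible_unit X)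
  have h1 := key E hE
  have h2 : Curv2.deg k X (CohB1.tensorMod (unitM X) M) 1 = Curv2.deg k X M 1 :=
    deg_congr_iso k X (tensorUnitL M) 1
  have h3 : Curv2.deg k X (unitM X) 1 = 0 :=
    Groth.Agent.Lib.Helper21.CDeg.deg_structureModule k X
  rw [h2, h3] at h0
  linarith

/-- `deg (M^{⊗ n}) = n · deg M`. -/
theorem deg_tensorPow_invertible (hdim : topologicalKrullDim X ≤ 1) {M : X.Modules}
    (hM : PicF.IsInvertible M) (n : ℕ) :
    Curv2.deg k X (CohB1.tensorPow M n) 1 = n * Curv2.deg k X M 1 := by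
  induction n with
  | zero =>
    change Curv2.deg k X (unitM X) 1 = _
    rw [Groth.Agent.Lib.Helper21.CDeg.deg_structureModule k X]
    simp
  | succ n ih =>
    change Curv2.deg k X (CohB1.tensorMod (CohB1.tensorPow M n) M) 1 = _
    rw [deg_tensorMod_invertible k X hdim (isInvertible_tensorPow hM n) hM, ih]
    push_cast
    ring


/-- `χ(X, O_Z ⊗ L^{⊗ n}) = χ(Z, (L|_Z)^{⊗ n})` for a closed subscheme `Z` of `X`. -/
theorem euler_quotMod_tensorPow (D : X.IdealSheafData) (L : X.Modules) (hL : PicF.IsInvertible L)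
    (n : ℕ) :
    Curv2.euler k X (CohB1.tensorMod (ClSub.quotMod D) (CohB1.tensorPow L n)) =
      @Curv2.euler k _ D.subscheme ⟨D.subschemeι ≫ (X ↘ (Spec (CommRingCat.of k)))⟩
        (CohB1.tensorPow ((Scheme.Modules.pullback D.subschemeι).obj L) n) := by
  letI : D.subscheme.Over (Spec (CommRingCat.of k)) :=
    ⟨D.subschemeι ≫ (X ↘ (Spec (CommRingCat.of k)))⟩
  have hN := isInvertible_tensorPow hL n
  haveI : (CohB1.tensorPow L n).IsQuasicoherent := isQuasicoherent_of_isInvertible hN
  have hMn := isInvertible_tensorPow (isInvertible_pullback D.subschemeι hL) n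
  haveI : (CohB1.tensorPow ((Scheme.Modules.pullback D.subschemeι).obj L) n).IsQuasicoherent :=
    isQuasicoherent_of_isInvertible hMn
  haveI := ProjF.isIso_projHom' D.subschemeι (CohB1.tensorPow L n)
  obtain ⟨θ⟩ := nonempty_pullbackTensorPowIso D.subschemeι hL n
  have e : CohB1.tensorMod (ClSub.quotMod D) (CohB1.tensorPow L n) ≅
      (Coh.push D.subschemeι).obj
        (CohB1.tensorPow ((Scheme.Modules.pullback D.subschemeι).obj L) n) :=
    tensorBraid _ _ ≪≫ asIso (ProjF.projHom D.subschemeι (CohB1.tensorPow L n)) ≪≫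
      (Scheme.Modules.pushforward D.subschemeι).mapIso θ
  rw [euler_congr_iso k X e]
  exact (Groth.Agent.Lib.Helper21.BirDeg.euler_push k X D.subscheme D.subschemeι rfl _).symm


/-- A polynomial in one variable taking the values `m ↦ m d + c` on the natural numbers has
linear coefficient `d`. -/
theorem coeff_one_of_eval_nat (P : MvPolynomial (Fin 1) ℚ) (c d : ℚ)
    (h : ∀ m : ℕ, MvPolynomial.eval (fun _ : Fin 1 => (m : ℚ)) P = m * d + c) :
    MvPolynomial.coeff (Finsupp.equivFunOnFinite.symm fun _ : Fin 1 => 1) P = d := by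
  have hP : P = MvPolynomial.C c + MvPolynomial.C d * MvPolynomial.X 0 := by
    refine MvPolynomial.funext_set (fun _ => Set.range ((↑) : ℕ → ℚ))
      (fun _ => Set.infinite_range_of_injective Nat.cast_injective) fun x hx => ?_
    obtain ⟨m, hm⟩ := hx 0 trivial
    have hx' : x = fun _ : Fin 1 => (m : ℚ) := by
      funext i
      rw [Fin.fin_one_eq_zero i]
      exact hm.symm
    rw [hx', h m]
    simp
    ring
  have hs : (Finsupp.equivFunOnFinite.symm fun _ : Fin 1 => 1) = Finsupp.single (0 : Fin 1) 1 := by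
    refine Finsupp.ext fun i => ?_
    rw [Fin.fin_one_eq_zero i]
    simp
  have hne : (0 : Fin 1 →₀ ℕ) ≠ Finsupp.single (0 : Fin 1) 1 := by
    intro h0
    have h1 := congrArg (fun f : Fin 1 →₀ ℕ => f 0) h0
    simp at h1
  rw [hs, hP, MvPolynomial.coeff_add, MvPolynomial.coeff_C, MvPolynomial.coeff_C_mul,
    MvPolynomial.coeff_X, if_neg hne]
  simp

/-- **Intersection number with a subscheme of dimension `≤ 1`** is the degree. -/
theorem intersectionNumber_eq_deg (D : X.IdealSheafData)
    (hD : topologicalKrullDim (D.support : Set X) ≤ 1)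
    (L : X.Modules) (hL : PicF.IsInvertible L) (P : MvPolynomial (Fin 1) ℚ)
    (hP : ∀ n : Fin 1 → ℕ,
      (Curv2.euler k X (Curv2.tensorPows (ClSub.quotMod D) 1 (fun _ => L) n) : ℚ) =
        MvPolynomial.eval (fun i => (n i : ℚ)) P) :
    MvPolynomial.coeff (Finsupp.equivFunOnFinite.symm fun _ : Fin 1 => 1) P =
      (@Curv2.deg k _ D.subscheme ⟨D.subschemeι ≫ (X ↘ (Spec (CommRingCat.of k)))⟩
        ((Scheme.Modules.pullback D.subschemeι).obj L) 1 : ℚ) := by
  letI : D.subscheme.Over (Spec (CommRingCat.of k)) :=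
    ⟨D.subschemeι ≫ (X ↘ (Spec (CommRingCat.of k)))⟩
  haveI : IsProper (D.subscheme ↘ (Spec (CommRingCat.of k))) :=
    inferInstanceAs (IsProper (D.subschemeι ≫ (X ↘ (Spec (CommRingCat.of k)))))
  have hrange : Set.range D.subschemeι = (D.support : Set X) :=
    Scheme.IdealSheafData.range_subschemeι D
  let h : D.subscheme ≃ₜ (D.support : Set X) :=
    (D.subschemeι.isClosedEmbedding.isEmbedding.toHomeomorph).trans (Homeomorph.setCongr hrange)
  have hdimZ : topologicalKrullDim D.subscheme ≤ 1 :=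
    (IsHomeomorph.topologicalKrullDim_eq h h.isHomeomorph).le.trans hD
  have hM := isInvertible_pullback D.subschemeι hL
  refine coeff_one_of_eval_nat P
    (Curv2.euler k D.subscheme (Coh.structureModule D.subscheme) : ℚ) _ fun m => ?_
  have h1 := hP (fun _ => m)
  have h2 : Curv2.tensorPows (ClSub.quotMod D) 1 (fun _ => L) (fun _ => m) =
      CohB1.tensorMod (ClSub.quotMod D) (CohB1.tensorPow L m) := rfl
  rw [h2, euler_quotMod_tensorPow k X D L hL m] at h1
  rw [← h1]
  have h3 := deg_tensorPow_invertible k D.subscheme hdimZ hM m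
  unfold Curv2.deg at h3 ⊢
  have h3q : ((Curv2.euler k D.subscheme
      (CohB1.tensorPow ((Scheme.Modules.pullback D.subschemeι).obj L) m) : ℤ) : ℚ) -
      ((1 : ℕ) : ℚ) * (Curv2.euler k D.subscheme (Coh.structureModule D.subscheme) : ℚ) =
      (m : ℚ) * ((Curv2.euler k D.subscheme ((Scheme.Modules.pullback D.subschemeι).obj L) : ℚ) -
        ((1 : ℕ) : ℚ) * (Curv2.euler k D.subscheme (Coh.structureModule D.subscheme) : ℚ)) := by
    exact_mod_cast h3
  push_cast at h3q ⊢
  linarith

end DegAdd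

end Groth.Agent.Lib.Helper4.ZZ
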