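import Mathlib
import Groth.Prelude.Def_BlowUp2
import Groth.Prelude.Def_ega3
import Groth.Agent.Lib.Helper4.ZZ1
import Groth.Agent.Lib.Helper4.ZU2
import Groth.Agent.Lib.Helper25.ReesBlowUp
import Groth.Agent.Lib.Helper25.BlowUpIntegral
import Groth.Agent.Lib.Helper25.BlowUpReg
import Groth.Agent.Lib.Helper3.RelProjProper

/-!
# Blowing ups of locally Noetherian integral schemes: properness, fibres over unibranch points
-/

set_option autoImplicit false
set_option linter.style.haveILetI false
set_option linter.unusedSectionVars false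
universe u

namespace Groth.Agent.Lib.Helper4.ZZ

open AlgebraicGeometry CategoryTheory Limits TopologicalSpace Opposite
open Groth.Agent.Lib.Helper25 Groth.Agent.Lib.Helper25.BlowUpUP

/-- On a locally Noetherian scheme every quasi-coherent ideal sheaf is of finite type. -/
theorem isFiniteTypeIdeal_of_isLocallyNoetherian {X : Scheme.{u}} [IsLocallyNoetherian X]
    (𝓘 : X.IdealSheafData) : BlowUp.IsFiniteTypeIdeal 𝓘 := by
  intro U
  haveI := IsLocallyNoetherian.component_noetherian (X := X) U
  exact IsNoetherian.noetherian _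

/-- A blowing up of a locally Noetherian scheme is proper. -/
theorem isProper_of_isBlowUp {X X' : Scheme.{u}} [IsLocallyNoetherian X] (𝓘 : X.IdealSheafData)
    (b : X' ⟶ X) (hb : BlowUp.IsBlowUp b 𝓘) : IsProper b := by
  obtain ⟨𝒮, P, p, chart, e, hgen, hft, hP, he⟩ :=
    Groth.Agent.Lib.Helper25.ReesQC.isProjective_of_isBlowUp 𝓘
      (isFiniteTypeIdeal_of_isLocallyNoetherian 𝓘) b hb
  haveI : IsProper p := Groth.Agent.Lib.Helper3.RelGlued.isProper_of_genDegOne p chart hP hgen hft
  rw [← he]
  infer_instance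

/-- The blowing up in the zero ideal is empty. -/
theorem isEmpty_of_isBlowUp_bot {X X' : Scheme.{u}} (b : X' ⟶ X)
    (hb : BlowUp.IsBlowUp b ⊥) : IsEmpty X' := by
  have h := dense_compl_support_of_isEffCartierIdeal _ hb.1
  rw [Scheme.IdealSheafData.comap_bot, Scheme.IdealSheafData.support_bot] at h
  refine ⟨fun x => ?_⟩
  have := h x
  simp at this

/-- The fibre of a blowing up of a locally Noetherian integral scheme over a unibranch point is
preconnected. -/
theorem preconnectedSpace_fiber_of_isBlowUp {Y X : Scheme.{u}} [IsIntegral Y]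
    [IsLocallyNoetherian Y] (𝓘 : Y.IdealSheafData) (b : X ⟶ Y) (hb : BlowUp.IsBlowUp b 𝓘)
    (y : Y) (hy : CAlg2.IsUnibranch (Y.presheaf.stalk y)) :
    PreconnectedSpace ↥(b.fiber y) := by
  by_cases h𝓘 : 𝓘 = ⊥
  · subst h𝓘
    haveI := isEmpty_of_isBlowUp_bot b hb
    haveI : IsEmpty ↥(b.fiber y) := Function.isEmpty (b.fiberι y)
    infer_instance
  · haveI : IsIntegral X := isIntegral_of_isBlowUp 𝓘 h𝓘 b hb
    obtain ⟨hgen, hns⟩ := genericPoint_of_isBlowUp 𝓘 h𝓘 b hb
    have hdom : b (genericPoint X) ⤳ genericPoint Y := hgen ▸ specializes_rfl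
    haveI : IsProper b := isProper_of_isBlowUp 𝓘 b hb
    haveI h1 : IsIso (b.stalkMap (genericPoint X)) :=
      isIso_stalkMap_of_notMem_support 𝓘 b hb (genericPoint X) hns
    haveI h2 : IsIso (Y.presheaf.stalkSpecializes hdom) :=
      (Y.presheaf.stalkCongr
        (.of_eq hgen.symm : Inseparable (genericPoint Y) (b (genericPoint X)))).isIso_hom
    have hbij : Function.Bijective (CohIII.stalkToFunctionField b (genericPoint Y) hdom) := by
      unfold CohIII.stalkToFunctionField
      rw [RingHom.coe_comp]
      exact ((ConcreteCategory.isIso_iff_bijective _).1 h1).comp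
        ((ConcreteCategory.isIso_iff_bijective _).1 h2)
    have hrad : ∀ x : X.functionField,
        (∃ q : Polynomial Y.functionField, q ≠ 0 ∧
          Polynomial.eval₂ (CohIII.stalkToFunctionField b (genericPoint Y) hdom) x q = 0) →
        ∃ e : ℕ, x ^ (ringExpChar X.functionField ^ e) ∈
          Set.range (CohIII.stalkToFunctionField b (genericPoint Y) hdom) := by
      intro x _
      refine ⟨0, ?_⟩
      rw [pow_zero, pow_one]
      exact hbij.2 x
    haveI := Groth.Agent.Lib.Helper4.ZU.connectedSpace_fiber_of_isUnibranch b hdom hrad y hy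
    infer_instance

end Groth.Agent.Lib.Helper4.ZZ
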