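import Mathlib
import Groth.Agent.Lib.Helper4.ZZ4
import Groth.Agent.Lib.Lead.GeomFieldExt
import Groth.Agent.Lib.Helper1.GeomIntSmooth
import Groth.Agent.Lib.Helper21.DVRExt3
import Groth.Agent.Lib.Helper12.GRDense1
import Groth.Agent.Lib.Helper10.SmoothReduced2

/-!
# Geometric connectedness of the fibres of a proper flat family whose generic fibres are smooth
and geometrically connected
-/

set_option autoImplicit false
set_option linter.style.haveILetI false
set_option linter.unusedSectionVars false
universe u

namespace Groth.Agent.Lib.Helper4.ZZ

open AlgebraicGeometry CategoryTheory CategoryTheory.Limits TopologicalSpace Opposite IsLocalRing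

/-- Any base change of `f` along a field-valued point `ξ` is a base change of the fibre of `f`
over the image point. -/
theorem exists_isPullback_fiber_of_isPullback {X S : Scheme.{u}} (f : X ⟶ S) {L : Type u} [Field L]
    (ξ : Spec (CommRingCat.of L) ⟶ S) {Z : Scheme.{u}} (a : Z ⟶ X)
    (b : Z ⟶ Spec (CommRingCat.of L)) (h : IsPullback a b f ξ) :
    ∃ a' : Z ⟶ f.fiber (ξ (closedPoint L)),
      IsPullback a' b (f.fiberToSpecResidueField (ξ (closedPoint L)))
        (Spec.map (Scheme.descResidueField (Scheme.stalkClosedPointTo ξ))) := by
  have hξ : Spec.map (Scheme.descResidueField (Scheme.stalkClosedPointTo ξ)) ≫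
      S.fromSpecResidueField (ξ (closedPoint L)) = ξ :=
    Scheme.descResidueField_stalkClosedPointTo_fromSpecResidueField L S ξ
  have hF : IsPullback (f.fiberι (ξ (closedPoint L)))
      (f.fiberToSpecResidueField (ξ (closedPoint L))) f
      (S.fromSpecResidueField (ξ (closedPoint L))) := IsPullback.of_hasPullback _ _
  have hw : a ≫ f = (b ≫ Spec.map (Scheme.descResidueField (Scheme.stalkClosedPointTo ξ))) ≫
      S.fromSpecResidueField (ξ (closedPoint L)) := by
    rw [Category.assoc, hξ]
    exact h.w
  refine ⟨hF.lift a (b ≫ Spec.map (Scheme.descResidueField (Scheme.stalkClosedPointTo ξ))) hw, ?_⟩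
  refine IsPullback.of_right ?_ (hF.lift_snd _ _ hw) hF
  rw [hF.lift_fst, hξ]
  exact h

/-- Geometric connectedness descends along extensions of the base field. -/
theorem geometricallyConnected_of_isPullback_field {k K : Type u} [Field k] [Field K]
    (χ : CommRingCat.of k ⟶ CommRingCat.of K) {Y Y' : Scheme.{u}}
    (g : Y ⟶ Spec (CommRingCat.of k)) (a : Y' ⟶ Y) (b : Y' ⟶ Spec (CommRingCat.of K))
    (hsq : IsPullback a b g (Spec.map χ)) [GeometricallyConnected b] :
    GeometricallyConnected g := by
  letI : Algebra k K := χ.hom.toAlgebra
  have e : CommRingCat.ofHom (algebraMap k K) = χ := rfl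
  haveI : MorphismProperty.RespectsIso @GeometricallyConnected.{u} :=
    MorphismProperty.IsStableUnderBaseChange.respectsIso
  have h1 : GeometricallyConnected (pullback.snd g (Spec.map (CommRingCat.ofHom
      (algebraMap k K)))) := by
    rw [e]
    have h2 : pullback.snd g (Spec.map χ) = hsq.isoPullback.inv ≫ b := by
      rw [Iso.eq_inv_comp]
      exact hsq.isoPullback_hom_snd
    rw [h2]
    exact (MorphismProperty.cancel_left_of_respectsIso (P := @GeometricallyConnected)
      hsq.isoPullback.inv b).mpr inferInstance
  refine ⟨Groth.Agent.Lib.Lead.geometrically_of_geometrically_bc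
    (P := fun Y => ConnectedSpace Y) ?_ g h1.1⟩
  intro L M _ _ ψ Y Y' p s s' hsq hY'
  exact Groth.Agent.Lib.Lead.connectedSpace_descends ψ p s s' hsq hY'

section dvr

variable (R : Type u) [CommRing R] [IsDomain R] [IsDiscreteValuationRing R]

theorem genPt_closedPoint :
    (Neron.genPt R).base (closedPoint (FractionRing R)) =
      (⟨⊥, Ideal.isPrime_bot⟩ : PrimeSpectrum R) := by
  apply PrimeSpectrum.ext
  change Ideal.comap (algebraMap R (FractionRing R)) (maximalIdeal (FractionRing R)) = ⊥
  rw [IsLocalRing.maximalIdeal_eq_bot, ← RingHom.ker_eq_comap_bot]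
  exact (RingHom.injective_iff_ker_eq_bot _).mp (IsFractionRing.injective R (FractionRing R))

theorem isDominant_genPt : IsDominant (Neron.genPt R) := by
  refine ⟨fun y => ?_⟩
  have hη : (Neron.genPt R).base (closedPoint (FractionRing R)) ⤳ y := by
    rw [genPt_closedPoint]
    have hle : PrimeSpectrum.asIdeal (R := R) (⟨⊥, Ideal.isPrime_bot⟩ : PrimeSpectrum R) ≤
        PrimeSpectrum.asIdeal (R := R) y := bot_le
    exact (PrimeSpectrum.le_iff_specializes (R := R) ⟨⊥, Ideal.isPrime_bot⟩ y).mp hle
  exact hη.mem_closed isClosed_closure (subset_closure ⟨_, rfl⟩)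

/-- A proper flat scheme over a discrete valuation ring whose generic fibre is smooth and
geometrically connected has geometrically connected fibres. -/
theorem geometricallyConnected_of_dvr {X : Scheme.{u}} (p : X ⟶ Spec (CommRingCat.of R))
    [IsProper p] [Flat p] [GeometricallyConnected (pullback.snd p (Neron.genPt R))]
    [Smooth (pullback.snd p (Neron.genPt R))] : GeometricallyConnected p := by
  have hpb : IsPullback (pullback.fst p (Neron.genPt R)) (pullback.snd p (Neron.genPt R)) p
      (Neron.genPt R) := IsPullback.of_hasPullback _ _
  haveI : IrreducibleSpace ↥(pullback p (Neron.genPt R)) := by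
    haveI : Subsingleton ↥(Spec (CommRingCat.of (FractionRing R))) :=
      inferInstanceAs (Subsingleton (PrimeSpectrum (FractionRing R)))
    haveI : ConnectedSpace ↥(pullback p (Neron.genPt R)) :=
      GeometricallyConnected.connectedSpace_of_subsingleton (pullback.snd p (Neron.genPt R))
    haveI : IsLocallyNoetherian (pullback p (Neron.genPt R)) :=
      LocallyOfFiniteType.isLocallyNoetherian (pullback.snd p (Neron.genPt R))
    exact Groth.Agent.Lib.Helper1.ConnIrr.irreducibleSpace_of_connected _
      (fun x => Groth.Agent.Lib.Helper1.GeomIntSmooth.isDomain_stalk_of_smooth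
        (pullback.snd p (Neron.genPt R)) x)
  haveI : IsReduced (pullback p (Neron.genPt R)) :=
    Groth.Agent.Lib.Helper10.SmoothReduced.isReduced_of_smooth_field
      (pullback.snd p (Neron.genPt R))
  haveI := isDominant_genPt R
  haveI : IsSchemeTheoreticallyDominant (Neron.genPt R) :=
    IsSchemeTheoreticallyDominant.of_isDominant _
  haveI : IsSchemeTheoreticallyDominant (pullback.fst p (Neron.genPt R)) :=
    IsSchemeTheoreticallyDominant.pullbackFst p (Neron.genPt R)
  haveI : IsReduced X := IsSchemeTheoreticallyDominant.isReduced (pullback.fst p (Neron.genPt R))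
  have hdense := dense_range_of_isPullback R _ p _ hpb
  haveI : IrreducibleSpace X := by
    have h1 : IsIrreducible (Set.range (pullback.fst p (Neron.genPt R)).base) := by
      rw [← Set.image_univ]
      exact (IrreducibleSpace.isIrreducible_univ _).image _
        (pullback.fst p (Neron.genPt R)).continuous.continuousOn
    have h2 := h1.closure
    rw [hdense.closure_eq] at h2
    exact (irreducibleSpace_def X).mpr h2
  haveI : IsIntegral X := isIntegral_of_irreducibleSpace_of_isReduced X
  haveI : GeometricallyReduced (pullback.snd p (Neron.genPt R)) :=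
    Groth.Agent.Lib.Helper12.H12GRDense.geometricallyReduced_of_smooth _
  exact geometricallyConnected_of_bijective_toGlobal R p
    (Groth.Agent.Lib.Helper21.DedekindH0.bijective_toGlobal_of_dedekind X p)

end dvr

/-- Let `S` be a Noetherian scheme and `f : X → S` proper and flat such that the fibres over the
generic points of the irreducible components of `S` are smooth and geometrically connected.
Then all fibres of `f` are geometrically connected. -/
theorem geometricallyConnected_of_generic_fibres {X S : Scheme.{u}} (f : X ⟶ S) [IsProper f]
    [Flat f] [IsLocallyNoetherian S]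
    (h : ∀ (Z : Set ↑S) (η : ↑S), Z ∈ irreducibleComponents ↑S → IsGenericPoint η Z →
      GeometricallyConnected (f.fiberToSpecResidueField η) ∧
        Smooth (f.fiberToSpecResidueField η)) :
    GeometricallyConnected f := by
  rw [GeometricallyConnected.iff_geometricallyConnected_fiber]
  intro s
  have hZ := irreducibleComponent_mem_irreducibleComponents s
  have hirr : IsIrreducible (irreducibleComponent s) := isIrreducible_irreducibleComponent
  have hcl : IsClosed (irreducibleComponent s) := isClosed_irreducibleComponent
  have hη : IsGenericPoint hirr.genericPoint (irreducibleComponent s) :=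
    hirr.isGenericPoint_genericPoint hcl
  have hηs : hirr.genericPoint ⤳ s := hη.specializes mem_irreducibleComponent
  by_cases hne : hirr.genericPoint = s
  · rw [← hne]
    exact (h _ _ hZ hη).1
  · obtain ⟨R, _, _, _, u, hu1, hu2⟩ :=
      Groth.Agent.Lib.Helper21.DVRExt.exists_dvr_of_specializes _ s hηs hne
    let p := pullback.snd f u
    -- the generic fibre
    have sqK : IsPullback (pullback.fst p (Neron.genPt R) ≫ pullback.fst f u)
        (pullback.snd p (Neron.genPt R)) f (Neron.genPt R ≫ u) :=
      (IsPullback.of_hasPullback p (Neron.genPt R)).paste_horiz (IsPullback.of_hasPullback f u)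
    obtain ⟨a', hsq⟩ := exists_isPullback_fiber_of_isPullback f (Neron.genPt R ≫ u) _ _ sqK
    have hy' : (Neron.genPt R ≫ u) (closedPoint (FractionRing R)) = hirr.genericPoint := by
      exact (congrArg u.base (genPt_closedPoint R)).trans hu2
    have hη' : IsGenericPoint ((Neron.genPt R ≫ u) (closedPoint (FractionRing R)))
        (irreducibleComponent s) := by
      rw [hy']
      exact hη
    obtain ⟨hc, hs⟩ := h _ _ hZ hη'
    haveI : GeometricallyConnected (pullback.snd p (Neron.genPt R)) :=
      MorphismProperty.of_isPullback (P := @GeometricallyConnected) hsq hc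
    haveI : Smooth (pullback.snd p (Neron.genPt R)) :=
      MorphismProperty.of_isPullback (P := @Smooth) hsq hs
    haveI : GeometricallyConnected p := geometricallyConnected_of_dvr R p
    -- the closed fibre
    let q : Spec (CommRingCat.of (ResidueField R)) ⟶ Spec (CommRingCat.of R) :=
      Spec.map (CommRingCat.ofHom (algebraMap R (ResidueField R)))
    have sqκ : IsPullback (pullback.fst p q ≫ pullback.fst f u) (pullback.snd p q) f (q ≫ u) :=
      (IsPullback.of_hasPullback p q).paste_horiz (IsPullback.of_hasPullback f u)
    haveI : GeometricallyConnected (pullback.snd p q) :=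
      MorphismProperty.of_isPullback (P := @GeometricallyConnected)
        (IsPullback.of_hasPullback p q) ‹GeometricallyConnected p›
    obtain ⟨a'', hsq'⟩ := exists_isPullback_fiber_of_isPullback f (q ≫ u) _ _ sqκ
    have hs' : (q ≫ u) (closedPoint (ResidueField R)) = s := by
      haveI : IsLocalHom (algebraMap R (ResidueField R)) :=
        inferInstanceAs (IsLocalHom (IsLocalRing.residue R))
      have h1 : q.base (closedPoint (ResidueField R)) = closedPoint R :=
        IsLocalRing.comap_closedPoint (algebraMap R (ResidueField R))
      exact (congrArg u.base h1).trans hu1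
    rw [← hs']
    exact geometricallyConnected_of_isPullback_field _ _ a'' (pullback.snd p q) hsq'

end Groth.Agent.Lib.Helper4.ZZ
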